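import Cfsg.Agent.Lib.J4Dce59.Rules

/-! # Tables for the irreducibility of the translations -/

set_option autoImplicit false
set_option maxRecDepth 100000
set_option maxHeartbeats 0

namespace Cfsg.Agent.Lib.J4Dce59.Data

noncomputable def irr0000 : Tr (ℕ × ℕ × ℕ) :=
  .node (.node (.node (.node (.node (.node (.node (.leaf (0,5,0)) (.leaf (18,1,1517))) (.node (.leaf (17,1,1201)) (.leaf (19,0,1374)))) (.node (.node (.leaf (16,0,1933)) (.leaf (14,3,1063))) (.node (.leaf (16,0,1931)) (.leaf (15,0,723))))) (.node (.node (.node (.leaf (17,0,990)) (.leaf (16,1,1025))) (.node (.leaf (15,1,1373)) (.leaf (17,1,176)))) (.node (.node (.leaf (17,0,1107)) (.leaf (16,3,1355))) (.node (.leaf (16,3,535)) (.leaf (15,0,269)))))) (.node (.node (.node (.node (.leaf (17,1,461)) (.leaf (14,1,1056))) (.node (.leaf (14,1,1404)) (.leaf (15,2,341)))) (.node (.node (.leaf (17,1,1287)) (.leaf (18,2,1502))) (.node (.leaf (13,1,438)) (.leaf (8,0,152))))) (.node (.node (.node (.leaf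 (14,3,225)) (.leaf (3,0,1229))) (.node (.leaf (16,2,851)) (.leaf (18,1,381)))) (.node (.node (.leaf (15,1,1259)) (.leaf (14,0,832))) (.node (.leaf (16,3,922)) (.leaf (15,0,838))))))) (.node (.node (.node (.node (.node (.leaf (16,3,535)) (.leaf (13,2,1951))) (.node (.leaf (17,3,1190)) (.leaf (16,3,1355)))) (.node (.node (.leaf (15,0,362)) (.leaf (17,0,1074))) (.node (.leaf (19,0,364)) (.leaf (17,3,129))))) (.node (.node (.node (.leaf (16,0,1337)) (.leaf (16,0,97))) (.node (.leaf (13,2,1951)) (.leaf (14,3,1063)))) (.node (.node (.leaf (15,0,692)) (.leaf (17,1,764))) (.node (.leaf (17,0,690)) (.leaf (16,1,1613)))))) (.node (.node (.node (.node (.leaf (16,2,1228)) (.leaf (5,1,1559))) (.node (.leaf (15,1,1867)) (.leaf (17,1,678)))) (.node (.node (.leaf (14,1,1840)) (.leaf (17,1,733))) (.node (.leaf (13,0,807)) (.leaf (14,1,1644))))) (.node (.node (.node (.leaf (16,1,534)) (.leaf (17,1,2043))) (.node (.leaf (13,2,1428)) (.leaf (16,2,1228)))) (.node (.node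 (.leaf (15,0,255)) (.leaf (17,0,1447))) (.node (.leaf (16,0,249)) (.leaf (16,1,1920)))))))) (.node (.node (.node (.node (.node (.node (.leaf (14,1,509)) (.leaf (20,0,451))) (.node (.leaf (15,1,1356)) (.leaf (14,1,161)))) (.node (.node (.leaf (14,3,1063)) (.leaf (16,3,1482))) (.node (.leaf (16,3,662)) (.leaf (15,1,1131))))) (.node (.node (.node (.leaf (16,0,1861)) (.leaf (16,2,1677))) (.node (.leaf (16,0,1859)) (.leaf (15,1,333)))) (.node (.node (.leaf (16,1,1243)) (.leaf (17,3,1190))) (.node (.leaf (17,1,106)) (.leaf (16,3,535)))))) (.node (.node (.node (.node (.leaf (17,3,96)) (.leaf (17,1,1501))) (.node (.leaf (17,1,1153)) (.leaf (18,0,910)))) (.node (.node (.leaf (18,0,349)) (.leaf (15,2,341))) (.node (.leaf (12,0,347)) (.leaf (16,2,851))))) (.node (.node (.node (.leaf (17,0,1294)) (.leaf (14,3,225))) (.node (.leaf (17,0,1288)) (.leaf (18,0,80)))) (.node (.node (.leaf (16,0,643)) (.leaf (15,1,251))) (.node (.leaf (15,2,341)) (.leaf (15,0,2013)))))))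 (.node (.node (.node (.node (.node (.leaf (17,0,636)) (.leaf (16,3,535))) (.node (.leaf (13,0,634)) (.leaf (16,1,662)))) (.node (.node (.leaf (16,1,1792)) (.leaf (14,1,749))) (.node (.leaf (14,1,945)) (.leaf (13,2,1951))))) (.node (.node (.node (.leaf (16,1,550)) (.leaf (16,1,1995))) (.node (.leaf (14,3,1063)) (.leaf (16,3,1482)))) (.node (.node (.leaf (13,2,1951)) (.leaf (17,1,769))) (.node (.leaf (17,0,1577)) (.leaf (19,0,881)))))) (.node (.node (.node (.node (.leaf (16,0,55)) (.leaf (16,3,922))) (.node (.leaf (16,0,49)) (.leaf (15,1,859)))) (.node (.node (.leaf (18,1,1741)) (.leaf (18,2,1938))) (.node (.leaf (16,2,1228)) (.leaf (13,2,1428))))) (.node (.node (.node (.leaf (15,0,1001)) (.leaf (17,0,1713))) (.node (.leaf (17,0,1007)) (.leaf (17,0,1719)))) (.node (.node (.leaf (13,2,1428)) (.leaf (16,2,1228))) (.node (.leaf (17,0,1122)) (.leaf (15,1,1661))))))))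

noncomputable def irr0001 : Tr (ℕ × ℕ × ℕ) :=
  .node (.node (.node (.node (.node (.node (.node (.leaf (16,1,485)) (.leaf (15,0,1373))) (.node (.leaf (16,1,1364)) (.leaf (15,0,1371)))) (.node (.node (.leaf (14,3,1063)) (.leaf (16,3,1482))) (.node (.leaf (15,1,414)) (.leaf (18,0,726))))) (.node (.node (.node (.leaf (16,2,851)) (.leaf (15,0,1667))) (.node (.leaf (15,2,341)) (.leaf (15,0,1669)))) (.node (.node (.leaf (16,3,1355)) (.leaf (15,0,270))) (.node (.leaf (17,1,114)) (.leaf (15,0,264)))))) (.node (.node (.node (.node (.leaf (17,1,40)) (.leaf (15,0,1814))) (.node (.leaf (17,1,1177)) (.leaf (16,0,1808)))) (.node (.node (.leaf (17,1,1250)) (.leaf (17,1,271))) (.node (.leaf (16,2,1677)) (.leaf (17,1,1470))))) (.node (.node (.node (.leaf (17,0,400)) (.leaf (14,1,1065))) (.node (.leaf (14,1,1397)) (.leaf (8,1,152)))) (.node (.node (.leaf (16,0,1565)) (.leaf (15,0,837))) (.node (.leaf (19,1,447)) (.leaf (15,0,835))))))) (.node (.node (.node (.node (.node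 (.leaf (16,0,1762)) (.leaf (16,1,1599))) (.node (.leaf (15,0,1764)) (.leaf (13,2,1428)))) (.node (.node (.leaf (16,1,1816)) (.leaf (15,1,757))) (.node (.leaf (15,1,937)) (.leaf (16,0,1073))))) (.node (.node (.node (.leaf (13,2,1428)) (.leaf (8,1,2003))) (.node (.leaf (14,3,1063)) (.leaf (16,3,1482)))) (.node (.node (.leaf (17,0,689)) (.leaf (17,0,2025))) (.node (.leaf (17,0,695)) (.leaf (17,0,2031)))))) (.node (.node (.node (.node (.leaf (17,0,1193)) (.leaf (16,3,922))) (.node (.leaf (15,0,1199)) (.leaf (13,2,1951)))) (.node (.node (.leaf (17,0,804)) (.leaf (16,0,1660))) (.node (.leaf (16,0,802)) (.leaf (14,3,225))))) (.node (.node (.node (.leaf (13,2,1951)) (.leaf (17,0,559))) (.node (.leaf (15,0,1905)) (.leaf (15,1,687)))) (.node (.node (.leaf (14,1,1849)) (.leaf (16,1,724))) (.node (.leaf (17,0,252)) (.leaf (14,1,1637)))))))) (.node (.node (.node (.node (.node (.node (.leaf (18,0,1182)) (.leaf (13,1,1525))) (.node (.leaf (17,1,1193)) (.leaf (16,0,448))))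 (.node (.node (.leaf (16,3,1482)) (.leaf (14,3,1063))) (.node (.leaf (17,0,789)) (.leaf (15,2,341))))) (.node (.node (.node (.leaf (7,1,500)) (.leaf (17,1,1049))) (.node (.leaf (15,1,1349)) (.leaf (14,1,168)))) (.node (.node (.leaf (15,2,341)) (.leaf (16,0,1429))) (.node (.leaf (15,1,399)) (.leaf (17,1,1122)))))) (.node (.node (.node (.node (.leaf (16,1,469)) (.leaf (16,0,909))) (.node (.leaf (16,1,1380)) (.leaf (13,1,137)))) (.node (.node (.leaf (17,1,1311)) (.leaf (18,2,344))) (.node (.leaf (18,0,350)) (.leaf (17,1,1091))))) (.node (.node (.node (.leaf (14,3,225)) (.leaf (17,0,83))) (.node (.leaf (16,1,1160)) (.leaf (16,2,1677)))) (.node (.node (.leaf (15,1,1267)) (.leaf (16,0,2014))) (.node (.leaf (16,0,640)) (.leaf (19,1,1455))))))) (.node (.node (.node (.node (.node (.leaf (16,3,535)) (.leaf (16,0,1825))) (.node (.leaf (16,0,639)) (.leaf (16,3,1355)))) (.node (.node (.leaf (15,1,1765)) (.leaf (13,2,1428))) (.node (.leaf (18,0,1522)) (.leaf (11,1,1977)))))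 (.node (.node (.node (.leaf (18,0,423)) (.leaf (15,0,1279))) (.node (.leaf (16,3,1482)) (.leaf (14,3,1063)))) (.node (.node (.leaf (17,0,1578)) (.leaf (14,1,740))) (.node (.leaf (13,2,1428)) (.leaf (15,0,884)))))) (.node (.node (.node (.node (.leaf (16,3,922)) (.leaf (17,1,1551))) (.node (.leaf (15,1,1875)) (.leaf (15,1,702)))) (.node (.node (.leaf (16,0,1983)) (.leaf (13,2,1951))) (.node (.leaf (9,1,921)) (.leaf (15,0,737))))) (.node (.node (.node (.leaf (17,0,1004)) (.leaf (15,0,1716))) (.node (.leaf (16,1,1727)) (.leaf (15,0,1714)))) (.node (.node (.leaf (17,1,1732)) (.leaf (15,0,313))) (.node (.leaf (13,2,1951)) (.leaf (15,0,319))))))))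

noncomputable def irr000 : Tr (ℕ × ℕ × ℕ) := .node irr0000 irr0001

noncomputable def irr0010 : Tr (ℕ × ℕ × ℕ) :=
  .node (.node (.node (.node (.node (.node (.node (.leaf (19,1,489)) (.leaf (18,0,1372))) (.node (.leaf (18,0,2)) (.leaf (17,1,181)))) (.node (.node (.leaf (14,3,1063)) (.leaf (16,3,1482))) (.node (.leaf (15,0,1935)) (.leaf (18,0,727))))) (.node (.node (.node (.leaf (17,1,5)) (.leaf (16,0,1666))) (.node (.leaf (15,1,1204)) (.leaf (15,1,345)))) (.node (.node (.leaf (16,3,1355)) (.leaf (17,0,271))) (.node (.leaf (15,0,1105)) (.leaf (16,2,1677)))))) (.node (.node (.node (.node (.leaf (16,1,36)) (.leaf (16,1,1481))) (.node (.leaf (17,1,1173)) (.leaf (15,2,341)))) (.node (.node (.leaf (16,0,1474)) (.leaf (15,1,259))) (.node (.leaf (12,0,1476)) (.leaf (15,1,1458))))) (.node (.node (.node (.leaf (15,2,341)) (.leaf (8,1,1061))) (.node (.leaf (16,1,1401)) (.leaf (16,1,148)))) (.node (.node (.leaf (17,1,1282)) (.leaf (11,1,239))) (.node (.leaf (14,1,435))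 (.leaf (16,3,922))))))) (.node (.node (.node (.node (.node (.leaf (15,0,1763)) (.leaf (13,2,1951))) (.node (.leaf (15,0,1765)) (.leaf (17,3,1190)))) (.node (.node (.leaf (17,1,1812)) (.leaf (15,0,1078))) (.node (.leaf (16,1,933)) (.leaf (17,0,1072))))) (.node (.node (.node (.leaf (15,0,1341)) (.leaf (19,0,101))) (.node (.leaf (13,2,1951)) (.leaf (16,3,1482)))) (.node (.node (.leaf (15,0,688)) (.leaf (15,0,2024))) (.node (.leaf (15,0,694)) (.leaf (18,0,2030)))))) (.node (.node (.node (.node (.leaf (9,0,1192)) (.leaf (13,2,1428))) (.node (.leaf (17,1,1698)) (.leaf (15,1,847)))) (.node (.node (.leaf (18,1,1753)) (.leaf (15,0,1661))) (.node (.leaf (16,1,616)) (.leaf (14,3,225))))) (.node (.node (.node (.leaf (14,1,1023)) (.leaf (17,0,558))) (.node (.leaf (13,2,1428)) (.leaf (14,1,675)))) (.node (.node (.leaf (15,0,251)) (.leaf (15,0,1443))) (.node (.leaf (14,0,253)) (.leaf (17,0,1445)))))))) (.node (.node (.node (.node (.node (.node (.leaf (18,0,1183))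 (.leaf (16,1,1529))) (.node (.leaf (15,1,1189)) (.leaf (18,0,449)))) (.node (.node (.leaf (16,3,1482)) (.leaf (14,3,1063))) (.node (.leaf (19,1,111)) (.leaf (16,3,662))))) (.node (.node (.node (.leaf (15,0,1857)) (.leaf (16,2,1677))) (.node (.leaf (15,0,1863)) (.leaf (16,1,164)))) (.node (.node (.leaf (14,1,1330)) (.leaf (12,1,223))) (.node (.leaf (15,0,202)) (.leaf (14,1,1134)))))) (.node (.node (.node (.node (.leaf (17,1,473)) (.leaf (17,0,908))) (.node (.leaf (17,1,1384)) (.leaf (17,0,906)))) (.node (.node (.leaf (15,0,345)) (.leaf (15,2,341))) (.node (.leaf (15,0,351)) (.leaf (16,1,1103))))) (.node (.node (.node (.leaf (14,3,225)) (.leaf (17,0,82))) (.node (.leaf (15,0,1292)) (.leaf (17,1,361)))) (.node (.node (.leaf (15,0,647)) (.leaf (17,1,274))) (.node (.leaf (15,0,641)) (.leaf (15,1,1443))))))) (.node (.node (.node (.node (.node (.leaf (16,0,632)) (.leaf (17,1,1998))) (.node (.leaf (15,1,1682)) (.leaf (16,3,1355)))) (.node (.node (.leaf (13,0,1525))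 (.leaf (16,1,772))) (.node (.leaf (17,1,600)) (.leaf (13,2,1951))))) (.node (.node (.node (.leaf (17,2,274)) (.leaf (14,1,1570))) (.node (.leaf (14,1,1918)) (.leaf (14,3,1063)))) (.node (.node (.leaf (13,2,1951)) (.leaf (16,1,744))) (.node (.leaf (18,0,1581)) (.leaf (17,0,885)))))) (.node (.node (.node (.node (.leaf (16,0,51)) (.leaf (16,1,1539))) (.node (.leaf (15,1,1887)) (.leaf (17,1,690)))) (.node (.node (.leaf (18,1,1828)) (.leaf (17,1,713))) (.node (.leaf (14,3,225)) (.leaf (13,2,1428))))) (.node (.node (.node (.leaf (17,0,1005)) (.leaf (17,0,1717))) (.node (.leaf (17,0,1003)) (.leaf (17,0,1715)))) (.node (.node (.leaf (6,0,1120)) (.leaf (16,0,312))) (.node (.leaf (17,3,397)) (.leaf (15,1,1940))))))))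

noncomputable def irr0011 : Tr (ℕ × ℕ × ℕ) :=
  .node (.node (.node (.node (.node (.node (.node (.leaf (15,0,1)) (.leaf (15,2,341))) (.node (.leaf (17,1,1213)) (.leaf (16,2,851)))) (.node (.node (.leaf (16,3,1482)) (.leaf (14,3,1063))) (.node (.leaf (15,1,119)) (.leaf (16,3,662))))) (.node (.node (.node (.leaf (15,0,991)) (.leaf (8,1,1037))) (.node (.leaf (15,1,1361)) (.leaf (16,0,1665)))) (.node (.node (.leaf (17,1,1322)) (.leaf (5,0,266))) (.node (.leaf (16,3,535)) (.leaf (17,0,268)))))) (.node (.node (.node (.node (.leaf (15,0,586)) (.leaf (17,0,1810))) (.node (.leaf (18,3,1852)) (.leaf (17,0,1812)))) (.node (.node (.leaf (16,1,1291)) (.leaf (14,1,230))) (.node (.leaf (14,1,442)) (.leaf (17,1,1111))))) (.node (.node (.node (.leaf (14,3,225)) (.leaf (15,1,1472))) (.node (.leaf (18,0,402)) (.leaf (15,1,369)))) (.node (.node (.leaf (13,1,1255)) (.leaf (5,1,266))) (.node (.leaf (16,1,86)) (.leaf (16,0,839))))))) (.node (.node (.node (.node (.node (.leaf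 (16,0,1766)) (.leaf (17,1,2006))) (.node (.leaf (16,2,1228)) (.leaf (13,2,1428)))) (.node (.node (.leaf (15,1,1777)) (.leaf (16,0,1075))) (.node (.leaf (15,1,576)) (.leaf (16,0,1077))))) (.node (.node (.node (.leaf (13,2,1428)) (.leaf (16,1,1594))) (.node (.leaf (16,3,1482)) (.leaf (14,3,1063)))) (.node (.node (.leaf (17,1,1821)) (.leaf (17,0,2029))) (.node (.leaf (18,0,691)) (.leaf (17,0,2027)))))) (.node (.node (.node (.node (.leaf (14,1,1014)) (.leaf (18,0,501))) (.node (.leaf (15,1,1863)) (.leaf (13,2,1951)))) (.node (.node (.leaf (18,1,1852)) (.leaf (16,0,1656))) (.node (.leaf (14,3,225)) (.leaf (17,2,274))))) (.node (.node (.node (.leaf (13,2,1951)) (.leaf (11,1,2039))) (.node (.leaf (17,1,1707)) (.leaf (15,0,557)))) (.node (.node (.leaf (17,2,274)) (.leaf (17,3,1745))) (.node (.leaf (16,1,609)) (.leaf (17,3,96)))))))) (.node (.node (.node (.node (.node (.node (.leaf (16,0,1178)) (.leaf (18,0,450))) (.node (.leaf (18,0,1180)) (.leaf (17,1,173))))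 (.node (.node (.leaf (14,1,1339)) (.leaf (16,2,851))) (.node (.leaf (16,3,662)) (.leaf (14,1,1127))))) (.node (.node (.node (.leaf (16,0,1860)) (.leaf (17,1,1520))) (.node (.leaf (17,1,1196)) (.leaf (15,1,321)))) (.node (.node (.leaf (14,0,201)) (.leaf (17,0,1425))) (.node (.leaf (15,1,102)) (.leaf (16,3,535)))))) (.node (.node (.node (.node (.leaf (16,2,1677)) (.leaf (16,0,905))) (.node (.leaf (17,1,1165)) (.leaf (15,1,352)))) (.node (.node (.leaf (18,1,1270)) (.leaf (17,1,283))) (.node (.leaf (17,1,71)) (.leaf (18,1,1450))))) (.node (.node (.node (.leaf (17,1,464)) (.leaf (12,1,1085))) (.node (.leaf (18,0,1289)) (.leaf (16,1,140)))) (.node (.node (.leaf (16,1,1306)) (.leaf (15,1,247))) (.node (.leaf (16,0,644)) (.leaf (16,1,1094))))))) (.node (.node (.node (.node (.node (.leaf (17,1,966)) (.leaf (14,1,1579))) (.node (.leaf (14,1,1911)) (.leaf (17,0,1827)))) (.node (.node (.leaf (16,2,1228)) (.leaf (13,2,1428))) (.node (.leaf (15,0,1526)) (.leaf (17,0,174)))))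 (.node (.node (.node (.leaf (16,3,662)) (.leaf (16,0,1275))) (.node (.leaf (14,3,1063)) (.leaf (11,0,1277)))) (.node (.node (.leaf (17,0,1582)) (.leaf (14,0,886))) (.node (.leaf (13,2,1428)) (.leaf (16,2,1228)))))) (.node (.node (.node (.node (.leaf (18,0,54)) (.leaf (16,3,922))) (.node (.leaf (16,1,1722)) (.leaf (15,1,855)))) (.node (.node (.leaf (16,0,1979)) (.leaf (13,2,1951))) (.node (.leaf (17,1,624)) (.leaf (14,3,225))))) (.node (.node (.node (.leaf (16,1,999)) (.leaf (16,1,1546))) (.node (.leaf (16,1,1878)) (.leaf (16,1,699)))) (.node (.node (.leaf (16,0,1125)) (.leaf (16,0,317))) (.node (.leaf (13,2,1951)) (.leaf (16,0,315))))))))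

noncomputable def irr001 : Tr (ℕ × ℕ × ℕ) := .node irr0010 irr0011

noncomputable def irr00 : Tr (ℕ × ℕ × ℕ) := .node irr000 irr001

noncomputable def irr0100 : Tr (ℕ × ℕ × ℕ) :=
  .node (.node (.node (.node (.node (.node (.node (.leaf (17,1,495)) (.leaf (19,0,1884))) (.node (.leaf (19,1,1374)) (.leaf (17,1,179)))) (.node (.node (.leaf (14,3,1063)) (.leaf (16,3,1482))) (.node (.leaf (15,1,404)) (.leaf (10,0,215))))) (.node (.node (.node (.leaf (17,3,129)) (.leaf (19,1,1518))) (.node (.leaf (17,0,476)) (.leaf (15,1,351)))) (.node (.node (.leaf (10,1,1225)) (.leaf (16,2,1677))) (.node (.leaf (17,1,120)) (.leaf (13,0,777)))))) (.node (.node (.node (.node (.leaf (17,0,79)) (.leaf (15,2,341))) (.node (.leaf (16,1,1171)) (.leaf (16,2,851)))) (.node (.node (.leaf (17,0,1986)) (.leaf (16,1,261))) (.node (.leaf (17,0,1988)) (.leaf (17,1,1460))))) (.node (.node (.node (.leaf (16,0,913)) (.leaf (14,1,1059))) (.node (.leaf (14,1,1407)) (.leaf (15,1,146)))) (.node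 (.node (.leaf (17,1,1284)) (.leaf (15,1,233))) (.node (.leaf (19,1,437)) (.leaf (16,3,922))))))) (.node (.node (.node (.node (.node (.leaf (16,0,1251)) (.leaf (16,3,535))) (.node (.leaf (15,0,1253)) (.leaf (13,2,1951)))) (.node (.node (.leaf (17,1,1810)) (.leaf (15,1,767))) (.node (.leaf (15,1,931)) (.leaf (17,0,1584))))) (.node (.node (.node (.leaf (13,2,1951)) (.leaf (17,0,613))) (.node (.leaf (14,3,1063)) (.leaf (16,3,1482)))) (.node (.node (.leaf (17,0,176)) (.leaf (17,0,1512))) (.node (.leaf (17,0,182)) (.leaf (19,0,1518)))))) (.node (.node (.node (.node (.leaf (17,0,1704)) (.leaf (16,1,2040))) (.node (.leaf (16,2,1228)) (.leaf (13,2,1428)))) (.node (.node (.leaf (16,0,293)) (.leaf (16,0,1149))) (.node (.leaf (16,0,291)) (.leaf (14,3,225))))) (.node (.node (.node (.leaf (13,2,1428)) (.leaf (16,2,1228))) (.node (.leaf (18,1,1864)) (.leaf (15,1,677)))) (.node (.node (.leaf (14,1,1843)) (.leaf (16,1,734))) (.node (.leaf (17,0,765)) (.leaf (14,1,1647))))))))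 (.node (.node (.node (.node (.node (.node (.leaf (16,0,1695)) (.leaf (16,0,967))) (.node (.leaf (16,0,1689)) (.leaf (16,0,961)))) (.node (.node (.leaf (16,3,1482)) (.leaf (14,3,1063))) (.node (.leaf (16,1,105)) (.leaf (16,3,662))))) (.node (.node (.node (.leaf (14,1,510)) (.leaf (17,1,1043))) (.node (.leaf (15,1,1359)) (.leaf (14,1,162)))) (.node (.node (.leaf (17,1,1332)) (.leaf (15,0,1940))) (.node (.leaf (12,1,389)) (.leaf (17,1,1128)))))) (.node (.node (.node (.node (.leaf (16,1,479)) (.leaf (17,1,1074))) (.node (.leaf (18,0,1234)) (.leaf (15,1,131)))) (.node (.node (.leaf (14,0,857)) (.leaf (15,0,1537))) (.node (.leaf (16,0,863)) (.leaf (15,2,341))))) (.node (.node (.node (.leaf (14,3,225)) (.leaf (17,3,268))) (.node (.leaf (17,0,1804)) (.leaf (17,1,367)))) (.node (.node (.leaf (15,1,1273)) (.leaf (15,0,1503))) (.node (.leaf (16,2,851)) (.leaf (17,1,1445))))))) (.node (.node (.node (.node (.node (.leaf (16,1,549)) (.leaf (16,1,1992))) (.node (.leaf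 (16,0,126)) (.leaf (16,3,1355)))) (.node (.node (.leaf (15,1,1775)) (.leaf (13,2,1951))) (.node (.leaf (15,0,2035)) (.leaf (17,3,129))))) (.node (.node (.node (.leaf (1,0,934)) (.leaf (16,3,662))) (.node (.leaf (16,1,1912)) (.leaf (14,3,1063)))) (.node (.node (.leaf (16,0,1067)) (.leaf (14,1,750))) (.node (.leaf (13,2,1951)) (.leaf (17,0,373)))))) (.node (.node (.node (.node (.leaf (16,3,922)) (.leaf (17,1,1541))) (.node (.leaf (15,1,1881)) (.leaf (15,1,692)))) (.node (.node (.leaf (16,2,1228)) (.leaf (13,2,1428))) (.node (.leaf (14,3,225)) (.leaf (17,0,224))))) (.node (.node (.node (.leaf (18,2,287)) (.leaf (14,0,1205))) (.node (.leaf (17,0,491)) (.leaf (17,0,1203)))) (.node (.node (.leaf (18,0,1632)) (.leaf (17,3,1745))) (.node (.leaf (13,2,1428)) (.leaf (16,2,1228))))))))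

noncomputable def irr0101 : Tr (ℕ × ℕ × ℕ) :=
  .node (.node (.node (.node (.node (.node (.node (.leaf (21,0,513)) (.leaf (15,0,1881))) (.node (.leaf (16,1,1211)) (.leaf (15,0,1887)))) (.node (.node (.leaf (4,1,1216)) (.leaf (14,3,1063))) (.node (.leaf (17,0,1418)) (.leaf (15,0,210))))) (.node (.node (.node (.leaf (15,2,341)) (.leaf (16,1,1035))) (.node (.leaf (15,1,1367)) (.leaf (16,1,186)))) (.node (.node (.leaf (16,0,1618)) (.leaf (16,3,1355))) (.node (.leaf (16,3,535)) (.leaf (16,0,780)))))) (.node (.node (.node (.node (.leaf (17,3,397)) (.leaf (14,1,1066))) (.node (.leaf (14,1,1398)) (.leaf (15,0,1300)))) (.node (.node (.leaf (16,2,1677)) (.leaf (15,0,671))) (.node (.leaf (18,0,1985)) (.leaf (15,0,665))))) (.node (.node (.node (.leaf (14,3,225)) (.leaf (16,0,1740))) (.node (.leaf (13,0,914)) (.leaf (18,1,375)))) (.node (.node (.leaf (15,1,1249)) (.leaf (15,0,321))) (.node (.leaf (16,3,922)) (.leaf (15,0,327))))))) (.node (.node (.node (.node (.node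 (.leaf (16,2,1228)) (.leaf (13,2,1428))) (.node (.leaf (17,1,1676)) (.leaf (16,1,865)))) (.node (.node (.leaf (15,1,1783)) (.leaf (16,0,1587))) (.node (.leaf (16,0,877)) (.leaf (17,3,129))))) (.node (.node (.node (.leaf (12,0,1848)) (.leaf (16,0,608))) (.node (.leaf (13,2,1428)) (.leaf (14,3,1063)))) (.node (.node (.leaf (17,0,181)) (.leaf (17,2,71))) (.node (.leaf (17,0,179)) (.leaf (17,0,1515)))))) (.node (.node (.node (.node (.leaf (16,0,1709)) (.leaf (13,2,1951))) (.node (.leaf (15,1,1857)) (.leaf (16,0,1011)))) (.node (.node (.leaf (14,1,1850)) (.leaf (17,2,274))) (.node (.leaf (14,3,225)) (.leaf (14,1,1638))))) (.node (.node (.node (.leaf (18,0,1395)) (.leaf (16,0,43))) (.node (.leaf (13,2,1951)) (.leaf (14,1,832)))) (.node (.node (.leaf (17,0,766)) (.leaf (17,0,1958))) (.node (.leaf (16,1,615)) (.leaf (17,0,1952)))))))) (.node (.node (.node (.node (.node (.node (.leaf (14,1,503)) (.leaf (20,0,962))) (.node (.leaf (15,1,1350)) (.leaf (14,1,171))))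 (.node (.node (.leaf (14,3,1063)) (.leaf (15,2,341))) (.node (.leaf (16,3,662)) (.leaf (16,2,851))))) (.node (.node (.node (.leaf (16,0,1348)) (.leaf (15,1,1526))) (.node (.leaf (17,0,1346)) (.leaf (15,0,26)))) (.node (.node (.leaf (16,2,851)) (.leaf (16,0,1937))) (.node (.leaf (15,2,341)) (.leaf (16,0,1943)))))) (.node (.node (.node (.node (.leaf (16,1,58)) (.leaf (17,3,397))) (.node (.leaf (16,2,1677)) (.leaf (15,0,399)))) (.node (.node (.leaf (18,0,860)) (.leaf (17,1,285))) (.node (.leaf (17,1,65)) (.leaf (18,0,1538))))) (.node (.node (.node (.leaf (16,0,1807)) (.leaf (14,3,225))) (.node (.leaf (17,0,1801)) (.leaf (15,0,593)))) (.node (.node (.leaf (17,1,1308)) (.leaf (15,1,241))) (.node (.leaf (18,0,132)) (.leaf (15,1,1088))))))) (.node (.node (.node (.node (.node (.leaf (15,0,125)) (.leaf (15,0,1317))) (.node (.leaf (15,1,1905)) (.leaf (15,0,1315)))) (.node (.node (.leaf (16,0,2032)) (.leaf (14,1,743))) (.node (.leaf (14,1,955)) (.leaf (13,2,1428)))))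 (.node (.node (.node (.leaf (15,0,931)) (.leaf (15,0,1787))) (.node (.leaf (14,3,1063)) (.leaf (15,0,1789)))) (.node (.node (.leaf (13,2,1428)) (.leaf (16,2,1228))) (.node (.leaf (16,1,599)) (.leaf (19,0,368)))))) (.node (.node (.node (.node (.leaf (15,0,566)) (.leaf (15,0,1902))) (.node (.leaf (12,1,1724)) (.leaf (15,0,1896)))) (.node (.node (.leaf (17,1,1735)) (.leaf (15,0,227))) (.node (.leaf (17,0,1469)) (.leaf (13,2,1951))))) (.node (.node (.node (.leaf (15,0,488)) (.leaf (17,0,1200))) (.node (.leaf (17,1,1872)) (.leaf (13,0,1206)))) (.node (.node (.leaf (13,2,1951)) (.leaf (16,1,710))) (.node (.leaf (16,1,922)) (.leaf (15,1,1655))))))))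

noncomputable def irr010 : Tr (ℕ × ℕ × ℕ) := .node irr0100 irr0101

noncomputable def irr0110 : Tr (ℕ × ℕ × ℕ) :=
  .node (.node (.node (.node (.node (.node (.node (.leaf (18,0,512)) (.leaf (17,1,1515))) (.node (.leaf (17,1,1207)) (.leaf (18,0,1886)))) (.node (.node (.leaf (16,1,1228)) (.leaf (14,3,1063))) (.node (.leaf (15,1,125)) (.leaf (16,3,662))))) (.node (.node (.node (.leaf (16,0,478)) (.leaf (17,1,1031))) (.node (.leaf (15,1,1371)) (.leaf (17,0,1152)))) (.node (.node (.leaf (17,3,1190)) (.leaf (16,1,205))) (.node (.leaf (16,1,401)) (.leaf (17,0,781)))))) (.node (.node (.node (.node (.leaf (15,0,75)) (.leaf (15,2,341))) (.node (.leaf (16,1,1402)) (.leaf (16,1,151)))) (.node (.node (.leaf (16,1,1281)) (.leaf (14,1,236))) (.node (.leaf (14,1,432)) (.leaf (16,0,664))))) (.node (.node (.node (.leaf (14,3,225)) (.leaf (16,1,1482))) (.node (.leaf (15,2,341)) (.leaf (15,1,379)))) (.node (.node (.leaf (14,0,1048)) (.leaf (17,1,256))) (.node (.leaf (16,3,922))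 (.leaf (17,0,326))))))) (.node (.node (.node (.node (.node (.leaf (13,0,1255)) (.leaf (17,1,2012))) (.node (.leaf (15,0,1249)) (.leaf (13,2,1951)))) (.node (.node (.leaf (15,0,874)) (.leaf (16,1,790))) (.node (.leaf (15,0,876)) (.leaf (17,0,1588))))) (.node (.node (.node (.leaf (13,2,1951)) (.leaf (16,0,609))) (.node (.leaf (16,3,1482)) (.leaf (14,3,1063)))) (.node (.node (.leaf (17,1,1815)) (.leaf (18,0,1516))) (.node (.leaf (0,4,934)) (.leaf (16,1,1611)))))) (.node (.node (.node (.node (.leaf (14,1,1020)) (.leaf (18,0,1012))) (.node (.leaf (15,0,1706)) (.leaf (13,2,1428)))) (.node (.node (.leaf (15,0,289)) (.leaf (13,0,1145))) (.node (.leaf (14,3,225)) (.leaf (17,1,1642))))) (.node (.node (.node (.leaf (13,2,1428)) (.leaf (16,2,1228))) (.node (.leaf (17,1,1697)) (.leaf (15,1,844)))) (.node (.node (.leaf (15,0,767)) (.leaf (17,1,823))) (.node (.leaf (15,0,761)) (.leaf (17,2,71)))))))) (.node (.node (.node (.node (.node (.node (.leaf (15,0,1691)) (.leaf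 (19,2,2005))) (.node (.leaf (15,0,1693)) (.leaf (17,1,167)))) (.node (.node (.leaf (11,1,1329)) (.leaf (16,3,1482))) (.node (.leaf (15,0,272)) (.leaf (14,1,1133))))) (.node (.node (.node (.leaf (15,0,1349)) (.leaf (17,1,1530))) (.node (.leaf (15,0,1347)) (.leaf (15,1,331)))) (.node (.node (.leaf (15,0,712)) (.leaf (17,0,1936))) (.node (.leaf (15,1,108)) (.leaf (16,1,1409)))))) (.node (.node (.node (.node (.leaf (15,0,1232)) (.leaf (16,1,1499))) (.node (.leaf (15,0,1238)) (.leaf (15,1,362)))) (.node (.node (.leaf (15,0,861)) (.leaf (16,2,851))) (.node (.leaf (15,0,859)) (.leaf (15,2,341))))) (.node (.node (.node (.leaf (17,3,268)) (.leaf (14,3,225))) (.node (.leaf (17,1,1387)) (.leaf (17,1,134)))) (.node (.node (.leaf (15,0,131)) (.leaf (14,1,253))) (.node (.leaf (16,2,851)) (.leaf (16,3,922))))))) (.node (.node (.node (.node (.node (.leaf (17,1,972)) (.leaf (14,1,1569))) (.node (.leaf (14,1,1917)) (.leaf (16,0,1314)))) (.node (.node (.leaf (17,0,2033))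 (.leaf (13,2,1951))) (.node (.leaf (9,1,951)) (.leaf (15,0,687))))) (.node (.node (.node (.leaf (16,3,662)) (.leaf (12,1,1997))) (.node (.leaf (14,3,1063)) (.leaf (16,3,1482)))) (.node (.node (.leaf (12,0,1071)) (.leaf (17,1,775))) (.node (.leaf (13,2,1951)) (.leaf (15,0,369)))))) (.node (.node (.node (.node (.leaf (18,0,567)) (.leaf (16,3,922))) (.node (.leaf (16,0,561)) (.leaf (15,1,861)))) (.node (.node (.leaf (16,2,1228)) (.leaf (13,2,1428))) (.node (.leaf (13,1,634)) (.leaf (14,3,225))))) (.node (.node (.node (.leaf (17,1,1005)) (.leaf (17,0,1201))) (.node (.leaf (17,0,495)) (.leaf (17,0,1207)))) (.node (.node (.leaf (16,0,1636)) (.leaf (14,1,714))) (.node (.leaf (13,2,1428)) (.leaf (15,0,826))))))))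

noncomputable def irr0111 : Tr (ℕ × ℕ × ℕ) :=
  .node (.node (.node (.node (.node (.node (.node (.leaf (18,0,517)) (.leaf (16,0,1885))) (.node (.leaf (16,1,1362)) (.leaf (15,2,341)))) (.node (.node (.leaf (14,3,1063)) (.leaf (16,1,196))) (.node (.leaf (16,1,408)) (.leaf (18,0,214))))) (.node (.node (.node (.leaf (15,2,341)) (.leaf (17,1,1506))) (.node (.leaf (15,1,1214)) (.leaf (15,1,339)))) (.node (.node (.leaf (16,0,1622)) (.leaf (17,0,782))) (.node (.leaf (17,1,116)) (.leaf (16,0,776)))))) (.node (.node (.node (.node (.leaf (17,1,46)) (.leaf (17,0,1302))) (.node (.leaf (17,3,1745)) (.leaf (17,0,1296)))) (.node (.node (.leaf (16,0,1987)) (.leaf (16,0,667))) (.node (.leaf (16,0,1989)) (.leaf (15,1,1464))))) (.node (.node (.node (.leaf (17,3,268)) (.leaf (9,0,1736))) (.node (.leaf (16,0,918)) (.leaf (19,1,158)))) (.node (.node (.leaf (17,1,1288)) (.leaf (14,1,229))) (.node (.leaf (14,1,441)) (.leaf (16,2,1677))))))) (.node (.node (.node (.node (.node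 (.leaf (16,1,980)) (.leaf (13,2,1428))) (.node (.leaf (16,1,1893)) (.leaf (16,1,648)))) (.node (.node (.leaf (17,0,879)) (.leaf (15,1,755))) (.node (.leaf (16,0,873)) (.leaf (17,0,1585))))) (.node (.node (.node (.leaf (16,3,662)) (.leaf (18,0,612))) (.node (.leaf (13,2,1428)) (.leaf (16,2,1228)))) (.node (.node (.leaf (17,0,177)) (.leaf (17,1,799))) (.node (.leaf (17,0,183)) (.leaf (18,0,1519)))))) (.node (.node (.node (.node (.leaf (16,0,1705)) (.leaf (13,2,1951))) (.node (.leaf (17,1,1704)) (.leaf (15,1,837)))) (.node (.node (.leaf (18,0,292)) (.leaf (17,0,1148))) (.node (.leaf (17,1,610)) (.leaf (14,3,225))))) (.node (.node (.node (.leaf (14,1,1013)) (.leaf (16,0,47))) (.node (.leaf (13,2,1951)) (.leaf (14,1,681)))) (.node (.node (.leaf (17,1,1855)) (.leaf (18,1,722))) (.node (.leaf (17,0,764)) (.leaf (17,1,1635)))))))) (.node (.node (.node (.node (.node (.node (.leaf (18,0,1694)) (.leaf (17,0,966))) (.node (.leaf (15,0,1688)) (.leaf (17,0,960))))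 (.node (.node (.leaf (16,3,1482)) (.leaf (14,3,1063))) (.node (.leaf (18,0,277)) (.leaf (16,1,1416))))) (.node (.node (.node (.leaf (18,2,1502)) (.leaf (17,3,129))) (.node (.leaf (15,0,1350)) (.leaf (17,1,174)))) (.node (.node (.leaf (14,1,1336)) (.leaf (16,0,1941))) (.node (.leaf (15,2,341)) (.leaf (14,1,1124)))))) (.node (.node (.node (.node (.leaf (14,0,1237)) (.leaf (16,1,1086))) (.node (.leaf (15,0,1235)) (.leaf (16,0,395)))) (.node (.node (.leaf (17,1,1305)) (.leaf (18,1,244))) (.node (.leaf (18,1,424)) (.leaf (17,1,1093))))) (.node (.node (.node (.leaf (14,3,225)) (.leaf (16,1,1490))) (.node (.leaf (15,0,1805)) (.leaf (16,0,597)))) (.node (.node (.leaf (15,1,1269)) (.leaf (17,1,280))) (.node (.leaf (16,3,922)) (.leaf (15,1,1449))))))) (.node (.node (.node (.node (.node (.leaf (16,0,121)) (.leaf (15,0,1313))) (.node (.leaf (15,1,1688)) (.leaf (16,0,1319)))) (.node (.node (.leaf (15,1,1763)) (.leaf (17,0,684))) (.node (.leaf (16,2,1228)) (.leaf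 (13,2,1428))))) (.node (.node (.node (.leaf (17,2,793)) (.leaf (14,1,1576))) (.node (.leaf (14,1,1908)) (.leaf (14,3,1063)))) (.node (.node (.leaf (13,2,1428)) (.leaf (16,2,1228))) (.node (.leaf (18,0,1068)) (.leaf (19,0,372)))))) (.node (.node (.node (.node (.leaf (15,1,996)) (.leaf (15,0,1898))) (.node (.leaf (15,1,1877)) (.leaf (17,1,696)))) (.node (.node (.leaf (18,0,1471)) (.leaf (16,0,231))) (.node (.leaf (14,3,225)) (.leaf (13,2,1951))))) (.node (.node (.node (.leaf (17,1,520)) (.leaf (15,0,1204))) (.node (.leaf (16,1,1721)) (.leaf (16,1,852)))) (.node (.node (.leaf (13,2,1951)) (.leaf (17,2,1735))) (.node (.leaf (14,1,627)) (.leaf (15,1,1950))))))))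

noncomputable def irr011 : Tr (ℕ × ℕ × ℕ) := .node irr0110 irr0111

noncomputable def irr01 : Tr (ℕ × ℕ × ℕ) := .node irr010 irr011

noncomputable def irr0 : Tr (ℕ × ℕ × ℕ) := .node irr00 irr01

noncomputable def irr1000 : Tr (ℕ × ℕ × ℕ) :=
  .node (.node (.node (.node (.node (.node (.node (.leaf (14,1,1394)) (.leaf (15,2,341))) (.node (.leaf (20,1,451)) (.leaf (14,1,1070)))) (.node (.node (.leaf (16,0,1921)) (.leaf (15,0,729))) (.node (.leaf (16,0,1927)) (.leaf (15,1,228))))) (.node (.node (.node (.leaf (16,2,851)) (.leaf (16,1,371))) (.node (.leaf (14,3,686)) (.leaf (15,3,835)))) (.node (.node (.leaf (16,3,469)) (.leaf (15,0,263))) (.node (.leaf (15,1,1253)) (.leaf (15,1,264)))))) (.node (.node (.node (.node (.leaf (16,3,1278)) (.leaf (15,1,338))) (.node (.leaf (18,3,591)) (.leaf (17,0,1817)))) (.node (.node (.leaf (14,3,308)) (.leaf (15,0,146))) (.node (.leaf (6,0,1484)) (.leaf (14,3,1640))))) (.node (.node (.node (.leaf (16,3,1426)) (.leaf (18,1,190)))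 (.node (.leaf (15,1,482)) (.leaf (17,1,1039)))) (.node (.node (.leaf (17,1,409)) (.leaf (15,0,844))) (.node (.leaf (15,3,1769)) (.leaf (17,1,197))))))) (.node (.node (.node (.node (.node (.leaf (15,3,1892)) (.leaf (15,1,680))) (.node (.leaf (16,2,1228)) (.leaf (13,2,1428)))) (.node (.node (.leaf (14,3,686)) (.leaf (14,1,1634))) (.node (.leaf (14,1,1854)) (.leaf (15,1,723))))) (.node (.node (.node (.leaf (13,2,1428)) (.leaf (13,1,836))) (.node (.leaf (16,0,1331)) (.leaf (16,0,107)))) (.node (.node (.leaf (17,0,696)) (.leaf (17,0,2016))) (.node (.leaf (15,0,702)) (.leaf (17,1,831)))))) (.node (.node (.node (.node (.leaf (15,3,1769)) (.leaf (18,0,504))) (.node (.leaf (15,1,569)) (.leaf (13,2,1951)))) (.node (.node (.leaf (17,1,578)) (.leaf (17,0,1653))) (.node (.leaf (15,0,811)) (.leaf (17,2,274))))) (.node (.node (.node (.leaf (13,2,1951)) (.leaf (14,3,1640))) (.node (.leaf (14,3,308)) (.leaf (17,1,1592)))) (.node (.node (.leaf (16,0,243)) (.leaf (17,1,1603)))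 (.node (.leaf (15,0,245)) (.leaf (15,0,1453)))))))) (.node (.node (.node (.node (.node (.node (.leaf (18,0,1175)) (.leaf (17,0,463))) (.node (.leaf (17,0,1169)) (.leaf (20,0,457)))) (.node (.node (.leaf (16,3,340)) (.leaf (16,2,851))) (.node (.leaf (16,3,2021)) (.leaf (15,2,341))))) (.node (.node (.node (.leaf (16,0,1865)) (.leaf (16,1,142))) (.node (.leaf (15,3,835)) (.leaf (14,3,686)))) (.node (.node (.leaf (15,2,341)) (.leaf (16,3,469))) (.node (.leaf (15,1,1304)) (.leaf (15,1,245)))))) (.node (.node (.node (.node (.leaf (16,2,1677)) (.leaf (14,1,175))) (.node (.leaf (14,1,499)) (.leaf (18,0,898)))) (.node (.node (.leaf (17,1,392)) (.leaf (14,3,308))) (.node (.leaf (14,3,1640)) (.leaf (15,1,212))))) (.node (.node (.node (.leaf (17,0,1282)) (.leaf (16,3,1426))) (.node (.leaf (16,1,31)) (.leaf (16,2,1677)))) (.node (.node (.leaf (10,1,100)) (.leaf (16,0,2007))) (.node (.leaf (14,1,1237)) (.leaf (15,3,1769))))))) (.node (.node (.node (.node (.node (.leaf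 (15,1,1720)) (.leaf (15,3,1892))) (.node (.leaf (15,1,521)) (.leaf (16,3,469)))) (.node (.node (.leaf (15,3,835)) (.leaf (10,0,165))) (.node (.leaf (18,3,1522)) (.leaf (17,0,163))))) (.node (.node (.node (.leaf (16,3,2021)) (.leaf (16,3,1544))) (.node (.leaf (16,1,997)) (.leaf (16,1,1544)))) (.node (.node (.leaf (16,1,926)) (.leaf (18,1,1651))) (.node (.leaf (13,2,1428)) (.leaf (12,0,893)))))) (.node (.node (.node (.node (.leaf (16,0,59)) (.leaf (15,3,1769))) (.node (.leaf (15,1,964)) (.leaf (17,1,1577)))) (.node (.node (.leaf (14,1,959)) (.leaf (13,2,1951))) (.node (.leaf (18,3,1151)) (.leaf (14,1,739))))) (.node (.node (.node (.leaf (14,3,1640)) (.leaf (15,1,884))) (.node (.leaf (16,1,552)) (.leaf (14,3,308)))) (.node (.node (.leaf (17,0,1128)) (.leaf (17,0,304))) (.node (.leaf (13,2,1951)) (.leaf (16,3,1278))))))))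

noncomputable def irr1001 : Tr (ℕ × ℕ × ℕ) :=
  .node (.node (.node (.node (.node (.node (.node (.leaf (18,1,1175)) (.leaf (15,0,1361))) (.node (.leaf (14,1,38)) (.leaf (15,0,1367)))) (.node (.node (.leaf (16,2,1677)) (.leaf (17,3,185))) (.node (.leaf (12,1,1260)) (.leaf (16,3,1544))))) (.node (.node (.node (.leaf (12,1,1403)) (.leaf (15,0,1679))) (.node (.leaf (15,0,977)) (.leaf (14,1,1063)))) (.node (.node (.leaf (17,1,433)) (.leaf (15,0,258))) (.node (.leaf (15,1,1280)) (.leaf (15,0,260)))))) (.node (.node (.node (.node (.leaf (16,3,1299)) (.leaf (16,2,851))) (.node (.leaf (17,1,491)) (.leaf (15,0,1820)))) (.node (.node (.leaf (17,1,400)) (.leaf (14,3,308))) (.node (.leaf (14,3,1640)) (.leaf (15,1,204))))) (.node (.node (.node (.leaf (13,1,1206)) (.leaf (9,0,1220))) (.node (.leaf (16,2,851)) (.leaf (15,0,1218)))) (.node (.node (.leaf (19,1,124)) (.leaf (15,0,841))) (.node (.leaf (3,1,1229)) (.leaf (15,0,847))))))) (.node (.node (.node (.node (.node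 (.leaf (15,0,1774)) (.leaf (13,2,1951))) (.node (.leaf (16,0,1768)) (.leaf (16,3,469)))) (.node (.node (.leaf (15,3,835)) (.leaf (14,3,686))) (.node (.leaf (17,1,1755)) (.leaf (10,1,822))))) (.node (.node (.node (.leaf (15,0,1328)) (.leaf (16,3,1544))) (.node (.leaf (13,2,1951)) (.leaf (15,1,1552)))) (.node (.node (.leaf (16,0,701)) (.leaf (14,1,1643))) (.node (.leaf (14,1,1847)) (.leaf (17,0,2019)))))) (.node (.node (.node (.node (.leaf (15,0,1189)) (.leaf (13,2,1428))) (.node (.leaf (17,0,1187)) (.leaf (17,1,1585)))) (.node (.node (.leaf (16,0,808)) (.leaf (16,0,1648))) (.node (.leaf (15,1,1814)) (.leaf (16,0,1654))))) (.node (.node (.node (.leaf (14,3,1640)) (.leaf (15,1,876))) (.node (.leaf (13,2,1428)) (.leaf (14,3,308)))) (.node (.node (.leaf (18,0,246)) (.leaf (17,1,1958))) (.node (.leaf (14,1,1786)) (.leaf (16,1,791)))))))) (.node (.node (.node (.node (.node (.node (.leaf (18,0,1170)) (.leaf (16,0,458))) (.node (.leaf (16,1,475)) (.leaf (14,0,460))))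 (.node (.node (.leaf (16,1,416)) (.leaf (16,3,340))) (.node (.leaf (16,3,1544)) (.leaf (16,3,2021))))) (.node (.node (.node (.leaf (18,0,1868)) (.leaf (16,0,532))) (.node (.leaf (14,3,686)) (.leaf (15,3,835)))) (.node (.node (.leaf (16,1,76)) (.leaf (17,3,56))) (.node (.leaf (8,0,199)) (.leaf (15,1,272)))))) (.node (.node (.node (.node (.leaf (16,3,1278)) (.leaf (16,0,897))) (.node (.leaf (16,1,22)) (.leaf (16,0,903)))) (.node (.node (.leaf (14,3,308)) (.leaf (15,2,341))) (.node (.leaf (13,1,1244)) (.leaf (14,3,1640))))) (.node (.node (.node (.leaf (16,1,1355)) (.leaf (14,1,166))) (.node (.leaf (14,1,506)) (.leaf (17,0,89)))) (.node (.node (.leaf (16,0,650)) (.leaf (18,0,2002))) (.node (.leaf (15,1,1328)) (.leaf (16,0,2004))))))) (.node (.node (.node (.node (.node (.leaf (15,3,1892)) (.leaf (15,1,688))) (.node (.leaf (14,0,627)) (.leaf (15,1,1537)))) (.node (.node (.leaf (14,3,686)) (.leaf (15,3,835))) (.node (.leaf (17,2,1735)) (.leaf (13,2,1951)))))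 (.node (.node (.node (.leaf (16,3,1544)) (.leaf (15,0,1267))) (.node (.leaf (17,3,185)) (.leaf (15,0,1269)))) (.node (.node (.leaf (13,2,1951)) (.leaf (15,0,894))) (.node (.leaf (17,0,1568)) (.leaf (10,0,888)))))) (.node (.node (.node (.node (.leaf (15,3,1769)) (.leaf (12,1,893))) (.node (.leaf (17,0,56)) (.leaf (17,1,1996)))) (.node (.node (.leaf (17,1,602)) (.leaf (15,0,747))) (.node (.leaf (16,0,1973)) (.leaf (13,2,1428))))) (.node (.node (.node (.leaf (15,1,1916)) (.leaf (14,3,1640))) (.node (.leaf (14,3,308)) (.leaf (15,0,1726)))) (.node (.node (.leaf (13,2,1428)) (.leaf (15,0,309))) (.node (.leaf (13,1,1799)) (.leaf (14,1,746))))))))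

noncomputable def irr100 : Tr (ℕ × ℕ × ℕ) := .node irr1000 irr1001

noncomputable def irr1010 : Tr (ℕ × ℕ × ℕ) :=
  .node (.node (.node (.node (.node (.node (.node (.leaf (16,1,1179)) (.leaf (15,2,341))) (.node (.leaf (17,1,42)) (.leaf (16,2,851)))) (.node (.node (.leaf (15,0,1925)) (.leaf (15,1,1468))) (.node (.leaf (16,0,1923)) (.leaf (15,1,269))))) (.node (.node (.node (.leaf (16,1,1399)) (.leaf (16,0,1678))) (.node (.leaf (15,1,454)) (.leaf (14,3,686)))) (.node (.node (.leaf (11,0,1115)) (.leaf (15,0,259))) (.node (.leaf (15,1,1292)) (.leaf (14,1,225)))))) (.node (.node (.node (.node (.leaf (16,3,1299)) (.leaf (16,3,1278))) (.node (.leaf (16,1,487)) (.leaf (16,1,1034)))) (.node (.node (.leaf (15,0,1486)) (.leaf (14,3,308))) (.node (.leaf (14,3,1640)) (.leaf (15,1,192))))) (.node (.node (.node (.leaf (16,1,1210)) (.leaf (16,1,343))) (.node (.leaf (15,1,11)) (.leaf (17,0,1219)))) (.node (.node (.leaf (15,0,1552)) (.leaf (16,2,1677))) (.node (.leaf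 (18,0,1558)) (.leaf (15,3,1769))))))) (.node (.node (.node (.node (.node (.leaf (15,0,1775)) (.leaf (7,1,833))) (.node (.leaf (15,0,1769)) (.leaf (13,2,1428)))) (.node (.node (.leaf (15,3,835)) (.leaf (14,3,686))) (.node (.leaf (18,1,1751)) (.leaf (15,0,1084))))) (.node (.node (.node (.leaf (9,1,1856)) (.leaf (14,1,685))) (.node (.leaf (14,1,1009)) (.leaf (17,3,185)))) (.node (.node (.leaf (15,0,700)) (.leaf (16,1,1639))) (.node (.leaf (15,0,698)) (.leaf (15,0,2018)))))) (.node (.node (.node (.node (.leaf (18,1,1889)) (.leaf (15,3,1769))) (.node (.leaf (16,1,976)) (.leaf (13,2,1951)))) (.node (.node (.leaf (17,3,718)) (.leaf (17,1,1606))) (.node (.leaf (17,1,1818)) (.leaf (15,0,1655))))) (.node (.node (.node (.leaf (13,2,1951)) (.leaf (14,1,864))) (.node (.leaf (15,0,1916)) (.leaf (14,3,308)))) (.node (.node (.leaf (15,0,247)) (.leaf (18,1,1962))) (.node (.leaf (15,0,241)) (.leaf (15,0,1449)))))))) (.node (.node (.node (.node (.node (.node (.leaf (14,1,1382))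 (.leaf (18,0,459))) (.node (.leaf (17,0,1173)) (.leaf (16,1,1082)))) (.node (.node (.leaf (17,3,185)) (.leaf (16,1,1089))) (.node (.leaf (16,3,1544)) (.leaf (15,2,341))))) (.node (.node (.node (.leaf (15,0,1869)) (.leaf (16,1,359))) (.node (.leaf (14,3,686)) (.leaf (12,0,531)))) (.node (.node (.leaf (15,0,192)) (.leaf (15,1,1453))) (.node (.leaf (15,0,198)) (.leaf (15,1,284)))))) (.node (.node (.node (.node (.leaf (16,2,1677)) (.leaf (16,3,1299))) (.node (.leaf (15,1,26)) (.leaf (16,1,1527)))) (.node (.node (.leaf (14,3,308)) (.leaf (6,1,1420))) (.node (.leaf (15,0,339)) (.leaf (14,3,1640))))) (.node (.node (.node (.leaf (15,0,1286)) (.leaf (13,1,170))) (.node (.leaf (15,0,1280)) (.leaf (16,1,1051)))) (.node (.node (.leaf (15,0,651)) (.leaf (6,1,1120))) (.node (.leaf (14,1,1340)) (.leaf (18,1,209))))))) (.node (.node (.node (.node (.node (.leaf (15,3,1892)) (.leaf (15,1,700))) (.node (.leaf (16,0,626)) (.leaf (17,3,56)))) (.node (.node (.leaf (14,3,686))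 (.leaf (13,2,1428))) (.node (.leaf (18,0,1535)) (.leaf (17,0,167))))) (.node (.node (.node (.leaf (16,3,1544)) (.leaf (13,1,848))) (.node (.leaf (17,2,793)) (.leaf (16,1,2017)))) (.node (.node (.leaf (18,0,1575)) (.leaf (17,0,895))) (.node (.leaf (13,2,1428)) (.leaf (15,1,811)))))) (.node (.node (.node (.node (.leaf (15,3,1769)) (.leaf (17,2,274))) (.node (.leaf (15,1,557)) (.leaf (16,1,1984)))) (.node (.node (.leaf (16,1,598)) (.leaf (13,2,1951))) (.node (.leaf (16,3,1426)) (.leaf (18,0,748))))) (.node (.node (.node (.leaf (14,1,1904)) (.leaf (14,3,1640))) (.node (.leaf (14,3,308)) (.leaf (14,1,1580)))) (.node (.node (.leaf (17,1,954)) (.leaf (12,1,1623))) (.node (.leaf (13,2,1951)) (.leaf (16,0,306))))))))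

noncomputable def irr1011 : Tr (ℕ × ℕ × ℕ) :=
  .node (.node (.node (.node (.node (.node (.node (.leaf (17,1,1406)) (.leaf (7,0,1365))) (.node (.leaf (15,0,11)) (.leaf (17,1,1058)))) (.node (.node (.leaf (14,1,436)) (.leaf (16,3,340))) (.node (.leaf (16,1,1285)) (.leaf (14,1,232))))) (.node (.node (.node (.leaf (16,0,979)) (.leaf (16,0,1675))) (.node (.leaf (14,3,686)) (.leaf (15,1,1486)))) (.node (.node (.leaf (16,3,469)) (.leaf (17,0,262))) (.node (.leaf (15,3,1892)) (.leaf (15,1,260)))))) (.node (.node (.node (.node (.leaf (16,3,1278)) (.leaf (16,2,851))) (.node (.leaf (15,0,576)) (.leaf (15,2,341)))) (.node (.node (.leaf (14,3,308)) (.leaf (10,0,147))) (.node (.leaf (15,1,1224)) (.leaf (14,3,1640))))) (.node (.node (.node (.leaf (15,2,341)) (.leaf (2,1,178))) (.node (.leaf (15,0,414)) (.leaf (17,0,1222)))) (.node (.node (.leaf (16,1,405)) (.leaf (16,0,845))) (.node (.leaf (15,3,1769)) (.leaf (11,0,843))))))) (.node (.node (.node (.node (.node (.leaf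 (15,0,1770)) (.leaf (13,2,1951))) (.node (.leaf (14,1,1016)) (.leaf (17,1,1557)))) (.node (.node (.leaf (14,3,686)) (.leaf (15,3,835))) (.node (.leaf (18,0,353)) (.leaf (16,0,1081))))) (.node (.node (.node (.leaf (16,3,1544)) (.leaf (15,0,108))) (.node (.leaf (13,2,1951)) (.leaf (15,1,2041)))) (.node (.node (.leaf (17,1,623)) (.leaf (14,1,1922))) (.node (.leaf (17,1,1758)) (.leaf (17,0,2023)))))) (.node (.node (.node (.node (.leaf (14,0,1185)) (.leaf (13,2,1428))) (.node (.leaf (17,0,1191)) (.leaf (18,2,1938)))) (.node (.node (.leaf (16,0,812)) (.leaf (17,2,793))) (.node (.leaf (15,1,1791)) (.leaf (16,0,1650))))) (.node (.node (.node (.leaf (15,1,1896)) (.leaf (14,3,1640))) (.node (.leaf (13,2,1428)) (.leaf (16,2,1228)))) (.node (.node (.leaf (18,1,930)) (.leaf (17,1,1615))) (.node (.leaf (16,1,1811)) (.leaf (16,3,1299)))))))) (.node (.node (.node (.node (.node (.node (.leaf (18,0,1174)) (.leaf (18,0,462))) (.node (.leaf (16,2,1677)) (.leaf (15,1,1503))))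 (.node (.node (.leaf (16,3,340)) (.leaf (16,1,1444))) (.node (.leaf (16,1,1272)) (.leaf (16,3,1544))))) (.node (.node (.node (.leaf (18,0,1864)) (.leaf (16,0,528))) (.node (.leaf (15,3,835)) (.leaf (14,3,686)))) (.node (.node (.leaf (16,1,421)) (.leaf (16,1,1096))) (.node (.leaf (15,1,1300)) (.leaf (15,3,1892)))))) (.node (.node (.node (.node (.leaf (16,3,1299)) (.leaf (16,0,901))) (.node (.leaf (17,0,1755)) (.leaf (16,0,899)))) (.node (.node (.leaf (17,1,388)) (.leaf (14,1,1129))) (.node (.leaf (14,1,1333)) (.leaf (15,1,216))))) (.node (.node (.node (.leaf (18,0,1283)) (.leaf (16,3,1426))) (.node (.leaf (16,0,1285)) (.leaf (17,0,93)))) (.node (.node (.leaf (16,0,654)) (.leaf (16,1,1413))) (.node (.leaf (15,1,1241)) (.leaf (14,1,308))))))) (.node (.node (.node (.node (.node (.leaf (15,1,1716)) (.leaf (11,0,1833))) (.node (.leaf (17,3,56)) (.leaf (15,1,2024)))) (.node (.node (.leaf (15,3,835)) (.leaf (14,3,686))) (.node (.leaf (17,0,1530)) (.leaf (13,2,1951)))))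 (.node (.node (.node (.leaf (16,3,2021)) (.leaf (16,0,1271))) (.node (.leaf (15,1,1001)) (.leaf (16,0,1265)))) (.node (.node (.leaf (13,1,914)) (.leaf (16,1,1663))) (.node (.leaf (17,1,1827)) (.leaf (17,1,718)))))) (.node (.node (.node (.node (.leaf (14,1,1913)) (.leaf (15,3,1769))) (.node (.leaf (18,0,60)) (.leaf (14,1,1573)))) (.node (.node (.leaf (17,1,947)) (.leaf (16,0,751))) (.node (.leaf (11,1,1794)) (.leaf (13,2,1428))))) (.node (.node (.node (.leaf (13,1,1685)) (.leaf (10,1,888))) (.node (.leaf (16,1,548)) (.leaf (14,3,308)))) (.node (.node (.leaf (13,2,1428)) (.leaf (16,0,305))) (.node (.leaf (15,1,1774)) (.leaf (16,0,311))))))))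

noncomputable def irr101 : Tr (ℕ × ℕ × ℕ) := .node irr1010 irr1011

noncomputable def irr10 : Tr (ℕ × ℕ × ℕ) := .node irr100 irr101

noncomputable def irr1100 : Tr (ℕ × ℕ × ℕ) :=
  .node (.node (.node (.node (.node (.node (.node (.leaf (17,0,520)) (.leaf (16,2,851))) (.node (.leaf (17,0,526)) (.leaf (15,2,341)))) (.node (.node (.leaf (14,1,87)) (.leaf (17,1,1466))) (.node (.leaf (16,3,2021)) (.leaf (16,3,1544))))) (.node (.node (.node (.leaf (14,1,1393)) (.leaf (17,1,156))) (.node (.leaf (15,3,835)) (.leaf (14,1,1069)))) (.node (.node (.leaf (17,1,443)) (.leaf (16,3,469))) (.node (.leaf (15,1,1290)) (.leaf (15,3,1892)))))) (.node (.node (.node (.node (.leaf (16,1,1360)) (.leaf (16,3,1278))) (.node (.leaf (17,0,69)) (.leaf (16,1,1036)))) (.node (.node (.leaf (16,2,1677)) (.leaf (14,3,308))) (.node (.leaf (14,3,1640)) (.leaf (15,1,198))))) (.node (.node (.node (.leaf (16,0,925)) (.leaf (16,3,1426))) (.node (.leaf (16,0,923)) (.leaf (18,1,1504)))) (.node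 (.node (.leaf (19,1,118)) (.leaf (17,1,1435))) (.node (.leaf (19,1,1223)) (.leaf (15,3,1769))))))) (.node (.node (.node (.node (.node (.leaf (15,1,1706)) (.leaf (13,2,1428))) (.node (.leaf (16,0,1257)) (.leaf (16,1,2038)))) (.node (.node (.leaf (15,3,835)) (.leaf (14,3,686))) (.node (.leaf (17,0,868)) (.leaf (16,1,828))))) (.node (.node (.node (.leaf (16,3,2021)) (.leaf (16,3,1544))) (.node (.leaf (13,2,1428)) (.leaf (15,1,1562)))) (.node (.node (.leaf (17,0,188)) (.leaf (14,1,1633))) (.node (.leaf (14,1,1853)) (.leaf (17,0,1506)))))) (.node (.node (.node (.node (.leaf (17,0,1700)) (.leaf (13,2,1951))) (.node (.leaf (17,0,1698)) (.leaf (16,1,1595)))) (.node (.node (.leaf (16,0,297)) (.leaf (16,0,1137))) (.node (.leaf (15,1,1820)) (.leaf (16,0,1143))))) (.node (.node (.node (.leaf (14,3,1640)) (.leaf (15,1,870))) (.node (.leaf (13,2,1951)) (.leaf (14,3,308)))) (.node (.node (.leaf (18,0,759)) (.leaf (18,1,1964))) (.node (.leaf (16,3,1299)) (.leaf (16,3,1278))))))))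 (.node (.node (.node (.node (.node (.node (.leaf (16,0,1683)) (.leaf (16,0,971))) (.node (.leaf (11,1,465)) (.leaf (15,1,1084)))) (.node (.node (.leaf (17,0,286)) (.leaf (15,2,341))) (.node (.leaf (16,3,1544)) (.leaf (15,0,1088))))) (.node (.node (.node (.leaf (9,1,1164)) (.leaf (15,0,21))) (.node (.leaf (14,3,686)) (.leaf (15,3,835)))) (.node (.node (.leaf (16,1,70)) (.leaf (17,3,56))) (.node (.leaf (15,2,341)) (.leaf (15,0,1950)))))) (.node (.node (.node (.node (.leaf (16,1,1197)) (.leaf (16,3,1299))) (.node (.leaf (16,2,1677)) (.leaf (18,0,390)))) (.node (.node (.leaf (14,3,308)) (.leaf (17,1,1418))) (.node (.leaf (15,1,1238)) (.leaf (14,3,1640))))) (.node (.node (.node (.leaf (16,1,1345)) (.leaf (14,1,172))) (.node (.leaf (14,1,496)) (.leaf (17,0,600)))) (.node (.node (.leaf (16,1,395)) (.leaf (19,1,1126))) (.node (.leaf (15,1,1338)) (.leaf (7,0,1493))))))) (.node (.node (.node (.node (.node (.leaf (15,3,1892)) (.leaf (15,1,698))) (.node (.leaf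 (16,1,998)) (.leaf (15,1,1547)))) (.node (.node (.leaf (14,3,686)) (.leaf (15,3,835))) (.node (.leaf (16,2,1228)) (.leaf (13,2,1428))))) (.node (.node (.node (.leaf (16,1,1723)) (.leaf (16,1,854))) (.node (.leaf (17,1,522)) (.leaf (16,3,340)))) (.node (.node (.leaf (13,2,1428)) (.leaf (16,2,1228))) (.node (.leaf (16,0,1057)) (.leaf (18,0,377)))))) (.node (.node (.node (.node (.leaf (15,3,1769)) (.leaf (18,1,887))) (.node (.leaf (13,1,555)) (.leaf (17,2,274)))) (.node (.node (.leaf (15,0,1458)) (.leaf (17,3,718))) (.node (.leaf (16,3,1426)) (.leaf (13,2,1951))))) (.node (.node (.node (.leaf (15,1,1910)) (.leaf (14,3,1640))) (.node (.leaf (14,3,308)) (.leaf (17,0,1215)))) (.node (.node (.leaf (13,2,1951)) (.leaf (17,2,1735))) (.node (.leaf (15,1,1805)) (.leaf (14,1,736))))))))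

noncomputable def irr1101 : Tr (ℕ × ℕ × ℕ) :=
  .node (.node (.node (.node (.node (.node (.node (.leaf (14,1,1400)) (.leaf (15,0,1877))) (.node (.leaf (20,1,457)) (.leaf (14,1,1060)))) (.node (.node (.leaf (17,0,1408)) (.leaf (15,0,216))) (.node (.leaf (16,2,1677)) (.leaf (15,0,222))))) (.node (.node (.node (.leaf (17,0,467)) (.leaf (18,1,377))) (.node (.leaf (14,3,686)) (.leaf (15,3,835)))) (.node (.node (.leaf (15,1,94)) (.leaf (16,0,774))) (.node (.leaf (14,0,1624)) (.leaf (15,1,258)))))) (.node (.node (.node (.node (.leaf (14,1,1205)) (.leaf (15,0,1310))) (.node (.leaf (18,0,64)) (.leaf (15,0,1304)))) (.node (.node (.leaf (14,3,308)) (.leaf (15,0,659))) (.node (.leaf (10,1,1230)) (.leaf (14,3,1640))))) (.node (.node (.node (.leaf (16,0,920)) (.leaf (18,1,180))) (.node (.leaf (15,1,488)) (.leaf (16,0,1734)))) (.node (.node (.leaf (17,1,403)) (.leaf (15,0,333))) (.node (.leaf (15,3,1769)) (.leaf (15,0,331))))))) (.node (.node (.node (.node (.node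 (.leaf (15,3,1892)) (.leaf (15,1,674))) (.node (.leaf (12,0,1260)) (.leaf (13,2,1951)))) (.node (.node (.leaf (14,3,686)) (.leaf (14,1,1640))) (.node (.leaf (14,1,1844)) (.leaf (15,1,729))))) (.node (.node (.node (.leaf (13,2,1951)) (.leaf (16,0,620))) (.node (.leaf (17,1,530)) (.leaf (16,0,618)))) (.node (.node (.leaf (17,0,185)) (.leaf (17,1,1924))) (.node (.leaf (17,0,191)) (.leaf (18,0,1511)))))) (.node (.node (.node (.node (.leaf (15,3,1769)) (.leaf (14,0,1017))) (.node (.leaf (16,0,1703)) (.leaf (13,2,1428)))) (.node (.node (.leaf (16,0,300)) (.leaf (16,1,1957))) (.node (.leaf (16,0,298)) (.leaf (17,2,793))))) (.node (.node (.node (.leaf (13,2,1428)) (.leaf (14,3,1640))) (.node (.leaf (14,3,308)) (.leaf (16,0,33)))) (.node (.node (.leaf (16,1,932)) (.leaf (16,1,1609))) (.node (.leaf (16,1,1813)) (.leaf (16,3,1299)))))))) (.node (.node (.node (.node (.node (.node (.leaf (16,0,1686)) (.leaf (15,0,974))) (.node (.leaf (16,0,1680)) (.leaf (19,1,1497))))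 (.node (.node (.leaf (16,3,340)) (.leaf (17,0,1091))) (.node (.leaf (16,1,1278)) (.leaf (16,3,1544))))) (.node (.node (.node (.leaf (17,1,1385)) (.leaf (15,0,16))) (.node (.leaf (15,3,835)) (.leaf (14,3,686)))) (.node (.node (.leaf (16,0,709)) (.leaf (16,0,1949))) (.node (.leaf (15,1,1298)) (.leaf (15,1,255)))))) (.node (.node (.node (.node (.leaf (16,3,1299)) (.leaf (10,1,165))) (.node (.leaf (14,1,505)) (.leaf (17,1,1044)))) (.node (.node (.leaf (11,1,386)) (.leaf (14,3,308))) (.node (.leaf (14,3,1640)) (.leaf (15,1,222))))) (.node (.node (.node (.leaf (17,0,1795)) (.leaf (15,0,603))) (.node (.leaf (15,1,21)) (.leaf (16,1,1528)))) (.node (.node (.leaf (15,2,341)) (.leaf (15,0,1494))) (.node (.leaf (16,2,851)) (.leaf (15,3,1769))))))) (.node (.node (.node (.node (.node (.leaf (15,1,1714)) (.leaf (15,0,1321))) (.node (.leaf (15,0,119)) (.leaf (15,0,1327)))) (.node (.node (.leaf (15,3,835)) (.leaf (13,2,1951))) (.node (.leaf (16,0,2042)) (.leaf (15,0,674)))))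 (.node (.node (.node (.leaf (16,3,2021)) (.leaf (15,0,1783))) (.node (.leaf (15,0,937)) (.leaf (15,0,1777)))) (.node (.node (.leaf (16,1,916)) (.leaf (18,0,378))) (.node (.leaf (13,2,1951)) (.leaf (15,1,712)))))) (.node (.node (.node (.node (.leaf (16,0,570)) (.leaf (15,0,1890))) (.node (.leaf (15,0,572)) (.leaf (15,0,1892)))) (.node (.node (.leaf (14,1,949)) (.leaf (11,0,239))) (.node (.leaf (18,3,1151)) (.leaf (14,1,745))))) (.node (.node (.node (.leaf (14,3,1640)) (.leaf (15,1,894))) (.node (.leaf (15,0,482)) (.leaf (14,3,308)))) (.node (.node (.leaf (17,1,601)) (.leaf (18,1,1972))) (.node (.leaf (13,2,1428)) (.leaf (16,2,1228))))))))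

noncomputable def irr110 : Tr (ℕ × ℕ × ℕ) := .node irr1100 irr1101

noncomputable def irr1110 : Tr (ℕ × ℕ × ℕ) :=
  .node (.node (.node (.node (.node (.node (.node (.leaf (18,0,524)) (.leaf (16,2,851))) (.node (.leaf (16,1,453)) (.leaf (15,2,341)))) (.node (.node (.leaf (14,1,446)) (.leaf (16,3,340))) (.node (.leaf (16,3,1544)) (.leaf (12,0,223))))) (.node (.node (.node (.leaf (15,2,341)) (.leaf (17,0,1162))) (.node (.leaf (14,3,686)) (.leaf (9,0,1164)))) (.node (.node (.leaf (16,3,469)) (.leaf (17,0,775))) (.node (.leaf (15,3,1892)) (.leaf (15,1,270)))))) (.node (.node (.node (.node (.leaf (16,1,1209)) (.leaf (16,1,340))) (.node (.leaf (17,0,65)) (.leaf (17,0,1305)))) (.node (.node (.leaf (14,3,308)) (.leaf (16,0,658))) (.node (.leaf (15,1,1218)) (.leaf (14,3,1640))))) (.node (.node (.node (.leaf (7,1,1365)) (.leaf (18,0,1729))) (.node (.leaf (16,0,927)) (.leaf (16,1,1033)))) (.node (.node (.leaf (17,0,1044)) (.leaf (17,0,332))) (.node (.leaf (15,3,1769))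 (.leaf (16,2,1677))))))) (.node (.node (.node (.node (.node (.leaf (15,0,1259)) (.leaf (13,2,1428))) (.node (.leaf (14,1,1010)) (.leaf (17,3,56)))) (.node (.node (.leaf (14,3,686)) (.leaf (15,3,835))) (.node (.leaf (12,1,1848)) (.leaf (16,1,725))))) (.node (.node (.node (.leaf (16,3,1544)) (.leaf (16,3,2021))) (.node (.leaf (13,2,1428)) (.leaf (15,1,2035)))) (.node (.node (.leaf (17,1,613)) (.leaf (16,1,1928))) (.node (.leaf (17,2,793)) (.leaf (18,0,1510)))))) (.node (.node (.node (.node (.leaf (15,0,1696)) (.leaf (13,2,1951))) (.node (.leaf (15,0,1702)) (.leaf (15,0,1022)))) (.node (.node (.leaf (15,0,301)) (.leaf (17,2,274))) (.node (.leaf (15,0,299)) (.leaf (18,1,792))))) (.node (.node (.node (.leaf (15,1,1890)) (.leaf (12,1,655))) (.node (.leaf (13,2,1951)) (.leaf (17,0,32)))) (.node (.node (.leaf (15,0,755)) (.leaf (17,1,1605))) (.node (.leaf (15,0,757)) (.leaf (16,3,1299)))))))) (.node (.node (.node (.node (.node (.node (.leaf (15,0,1687)) (.leaf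 (18,3,1395))) (.node (.leaf (15,0,1681)) (.leaf (4,0,969)))) (.node (.node (.leaf (15,0,282)) (.leaf (15,2,341))) (.node (.leaf (15,0,284)) (.leaf (16,2,851))))) (.node (.node (.node (.leaf (15,0,1353)) (.leaf (17,1,136))) (.node (.leaf (15,0,1359)) (.leaf (14,3,686)))) (.node (.node (.leaf (16,2,851)) (.leaf (16,1,1090))) (.node (.leaf (15,0,706)) (.leaf (15,3,1892)))))) (.node (.node (.node (.node (.leaf (13,0,1244)) (.leaf (16,1,169))) (.node (.leaf (15,0,1242)) (.leaf (11,0,386)))) (.node (.node (.leaf (15,0,849)) (.leaf (14,1,1123))) (.node (.leaf (14,1,1343)) (.leaf (15,1,210))))) (.node (.node (.node (.leaf (9,1,1192)) (.leaf (16,1,325))) (.node (.leaf (17,3,718)) (.leaf (17,1,1524)))) (.node (.node (.leaf (18,0,143)) (.leaf (17,1,1423))) (.node (.leaf (13,0,137)) (.leaf (15,3,1769))))))) (.node (.node (.node (.node (.node (.leaf (15,1,1726)) (.leaf (15,3,1892))) (.node (.leaf (17,3,56)) (.leaf (15,1,2018)))) (.node (.node (.leaf (15,3,835))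 (.leaf (14,3,686))) (.node (.leaf (16,2,1228)) (.leaf (13,2,1428))))) (.node (.node (.node (.leaf (16,1,1874)) (.leaf (16,3,1544))) (.node (.leaf (16,3,340)) (.leaf (16,1,1550)))) (.node (.node (.leaf (13,2,1428)) (.leaf (15,0,379))) (.node (.leaf (8,0,1061)) (.leaf (17,1,708)))))) (.node (.node (.node (.node (.leaf (14,1,1907)) (.leaf (15,3,1769))) (.node (.leaf (18,0,573)) (.leaf (14,1,1583)))) (.node (.node (.leaf (17,3,718)) (.leaf (15,0,238))) (.node (.leaf (17,2,1735)) (.leaf (13,2,1951))))) (.node (.node (.node (.leaf (14,3,1640)) (.leaf (15,1,882))) (.node (.leaf (17,1,558)) (.leaf (14,3,308)))) (.node (.node (.leaf (13,2,1951)) (.leaf (15,0,816))) (.node (.leaf (15,1,1764)) (.leaf (10,0,822))))))))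

noncomputable def irr1111 : Tr (ℕ × ℕ × ℕ) :=
  .node (.node (.node (.node (.node (.node (.node (.leaf (15,0,521)) (.leaf (16,0,1873))) (.node (.leaf (17,1,32)) (.leaf (16,0,1879)))) (.node (.node (.leaf (16,3,340)) (.leaf (17,3,185))) (.node (.leaf (16,2,1677)) (.leaf (15,1,263))))) (.node (.node (.node (.leaf (17,1,1405)) (.leaf (17,1,144))) (.node (.leaf (11,0,465)) (.leaf (14,3,686)))) (.node (.node (.leaf (14,1,439)) (.leaf (16,0,770))) (.node (.leaf (15,1,1286)) (.leaf (14,1,235)))))) (.node (.node (.node (.node (.leaf (16,3,1299)) (.leaf (15,2,341))) (.node (.leaf (17,0,68)) (.leaf (16,2,851)))) (.node (.node (.leaf (16,0,1999)) (.leaf (14,3,308))) (.node (.leaf (14,3,1640)) (.leaf (15,1,202))))) (.node (.node (.node (.leaf (16,0,924)) (.leaf (16,3,1426))) (.node (.leaf (15,1,1)) (.leaf (16,0,1730)))) (.node (.node (.leaf (16,1,122)) (.leaf (17,1,1431))) (.node (.leaf (19,0,1047)) (.leaf (15,3,1769))))))) (.node (.node (.node (.node (.node (.leaf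 (15,1,1702)) (.leaf (11,1,843))) (.node (.leaf (16,1,535)) (.leaf (13,2,1951)))) (.node (.node (.leaf (15,3,835)) (.leaf (14,3,686))) (.node (.leaf (18,0,869)) (.leaf (15,1,816))))) (.node (.node (.node (.leaf (13,2,1951)) (.leaf (14,1,679))) (.node (.leaf (14,1,1019)) (.leaf (17,3,185)))) (.node (.node (.leaf (17,0,189)) (.leaf (18,2,74))) (.node (.leaf (17,0,187)) (.leaf (18,3,1395)))))) (.node (.node (.node (.node (.leaf (18,0,1701)) (.leaf (15,3,1769))) (.node (.leaf (16,0,1699)) (.leaf (13,2,1428)))) (.node (.node (.leaf (16,1,929)) (.leaf (17,0,1136))) (.node (.leaf (16,1,1808)) (.leaf (16,3,1426))))) (.node (.node (.node (.leaf (10,1,1671)) (.leaf (15,1,874))) (.node (.leaf (15,1,566)) (.leaf (14,3,308)))) (.node (.node (.leaf (16,1,589)) (.leaf (17,1,1952))) (.node (.leaf (16,3,1299)) (.leaf (16,3,1278)))))))) (.node (.node (.node (.node (.node (.node (.leaf (15,0,1682)) (.leaf (17,0,970))) (.node (.leaf (17,0,1684)) (.leaf (17,0,972)))) (.node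 (.node (.leaf (17,3,185)) (.leaf (16,1,1099))) (.node (.leaf (16,1,1303)) (.leaf (16,0,1089))))) (.node (.node (.node (.leaf (15,0,1356)) (.leaf (17,1,365))) (.node (.leaf (14,3,686)) (.leaf (15,3,835)))) (.node (.node (.leaf (16,0,705)) (.leaf (16,0,1945))) (.node (.leaf (15,3,1892)) (.leaf (12,1,278)))))) (.node (.node (.node (.node (.leaf (14,1,1185)) (.leaf (16,3,1299))) (.node (.leaf (15,1,16)) (.leaf (17,0,391)))) (.node (.node (.leaf (14,3,308)) (.leaf (16,2,851))) (.node (.leaf (15,1,1242)) (.leaf (14,3,1640))))) (.node (.node (.node (.leaf (11,1,1357)) (.leaf (16,0,607))) (.node (.leaf (16,0,1793)) (.leaf (17,0,601)))) (.node (.node (.leaf (15,2,341)) (.leaf (14,1,1130))) (.node (.leaf (14,1,1334)) (.leaf (18,0,1492))))))) (.node (.node (.node (.node (.node (.leaf (15,3,1892)) (.leaf (15,1,694))) (.node (.leaf (16,0,115)) (.leaf (15,0,1323)))) (.node (.node (.leaf (14,3,686)) (.leaf (13,2,1951))) (.node (.leaf (16,0,2046)) (.leaf (16,1,717)))))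 (.node (.node (.node (.leaf (16,3,1544)) (.leaf (16,3,2021))) (.node (.leaf (17,2,274)) (.leaf (15,0,1781)))) (.node (.node (.leaf (18,0,1062)) (.leaf (17,1,1936))) (.node (.leaf (13,2,1951)) (.leaf (15,1,801)))))) (.node (.node (.node (.node (.leaf (15,3,1769)) (.leaf (17,2,793))) (.node (.leaf (15,1,551)) (.leaf (15,0,1888)))) (.node (.node (.leaf (16,2,1228)) (.leaf (13,1,1969))) (.node (.leaf (16,3,1426)) (.leaf (16,0,237))))) (.node (.node (.node (.leaf (14,1,1914)) (.leaf (14,3,1640))) (.node (.leaf (14,3,308)) (.leaf (14,1,1574)))) (.node (.node (.leaf (18,1,944)) (.leaf (17,1,1629))) (.node (.leaf (13,2,1428)) (.leaf (16,2,1228))))))))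

noncomputable def irr111 : Tr (ℕ × ℕ × ℕ) := .node irr1110 irr1111

noncomputable def irr11 : Tr (ℕ × ℕ × ℕ) := .node irr110 irr111

noncomputable def irr1 : Tr (ℕ × ℕ × ℕ) := .node irr10 irr11

noncomputable def irr : Tr (ℕ × ℕ × ℕ) := .node irr0 irr1

noncomputable def basisWords : List (List ℕ) := [
  [2,0,2,0,1,1,0,2,0,1,0,1,1,0,2,0,1,0,1,1,1,1,0,2,0,1,1,1,1,0,1,1,0,2,0,1,0,1,0,1,1,0,1,1,0,2,0,1,0,1,0],
  [2,0,2,0,1,1,0,2,0,1,0,1,1,0,2,0,1,0,1,1,0,1,1,1,1,0,1,1,0,2,0,1,0,1,1,0,1],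
  [2,0,2,0,1,1,1,1,0,2,0,1,1,1,1,0,1,1,0,2,0,1,0,1,0,1,1,1,1,0,2,0,1,1,0,1,1,0,1,1,1,1,0,1,1,0,2,0,1,0,1,1,0,1],
  [1,1,0,2,0,1,0,1,1,0,2,0,1,0,1,1,1,1,0,2,0,1,1,0,1,1,0,1,1,0,2,0,1,0,1,0,1,1,0,1,1,1,1,0,1,1,0,2,0,1,0,1,1,0,1],
  [2,1,1,0,2,0,1,0,1,1,0,2,0,1,0,0,1,1,1,1,0,2,0,1,1,0,1,1,1,1,0,1,1,0,2,0,1,0,1,1,1,1,0,1,1,1,1,0,1,1,0,2,0,1,0,1,1,0,1],
  [2,1,1,0,2,0,1,0,1,1,1,1,0,2,0,1,1,0,0,1,1,0,1,1,0,2,0,1,0,1,0,1,1,1,1,0,1,1,0,2,0,1,0,1,1,0,1,1,1,1,0,1,1,0,2,0,1,0,1,1,0,1,1,0,1,1,1,1,0,1,1,0,2,0,1,0,1,1,0,1],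
  [2,0,2,0,1,1,0,2,0,1,0,1,1,0,2,0,1,0,1,1,1,1,0,2,0,1,1,0,1,1,0,1,1,0,2,0,1,0,1,0,1,1,1,1,0,1,1,0,2,0,1,0,1,1,0,1,1,1,1,0,1,1,0,2,0,1,0,1,1,0],
  [2,1,1,0,2,0,1,0,1,1,0,1,1,0,2,0,1,0,1,0,0,1,1,1,1,0,1,1,0,2,0,1,0,1,1,0,1,1,0,1,1,1,1,0,1,1,0,2,0,1,0,1,1,0,1],
  [2,1,1,0,1,1,0,2,0,1,0,1,0,1,1,1,1,0,2,0,1,1,0,0,1,1,0,1,1,0,2,0,1,0,1,0,1,1,1,1,0,1,1,0,2,0,1,0,1,1],
  [1,1,0,2,0,1,0,1,1,0,2,0,1,0,1,1,1,1,0,2,0,1,1,0,1,1,1,1,0,2,0,1,1,0,0,1,1,0,1,1,0,2,0,1,0,1,0],
  [0,2,0,0,1,1,0,2,0,1,0,1,1,1,1,0,2,0,1,1,0,1,1,1,1,0,2,0,1,1,0,1,1,1,1,0,1,1,0,2,0,1,0,1,1,1,1,0,1,1,1,1,0,1,1,0,2,0,1,0,1,1,0,1]]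

end Cfsg.Agent.Lib.J4Dce59.Data
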