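import Cfsg.Agent.Lib.J4Dce59.CoverRules

/-! # Generated data for the double coset enumeration (Move) -/

set_option autoImplicit false
set_option maxRecDepth 100000
set_option maxHeartbeats 0

namespace Cfsg.Agent.Lib.J4Dce59.Data

noncomputable def move000000 : Tr (ℕ × ℕ × List ℕ) :=
  .node (.node (.node (.node (.node (.node (.node (.leaf (0,0,[0])) (.leaf (2383,0,[]))) (.node (.leaf (1242,0,[])) (.leaf (3322,0,[])))) (.node (.node (.leaf (409,0,[])) (.leaf (2894,0,[]))) (.node (.leaf (1536,0,[94,103,153])) (.leaf (3683,0,[]))))) (.node (.node (.node (.leaf (322,0,[])) (.leaf (2642,0,[]))) (.node (.leaf (1554,0,[])) (.leaf (3501,0,[])))) (.node (.node (.leaf (945,0,[])) (.leaf (2477,0,[]))) (.leaf (1505,0,[]))))) (.node (.node (.node (.node (.leaf (101,0,[])) (.leaf (2517,0,[]))) (.node (.leaf (1399,0,[])) (.leaf (2913,0,[])))) (.node (.node (.leaf (515,0,[])) (.leaf (2609,0,[0]))) (.node (.leaf (1972,0,[])) (.leaf (3625,0,[]))))) (.node (.node (.node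 (.leaf (479,0,[])) (.leaf (2122,0,[88,56,140,219]))) (.node (.leaf (1690,0,[])) (.leaf (3251,0,[])))) (.node (.node (.leaf (1095,0,[])) (.leaf (3224,0,[]))) (.leaf (1615,0,[])))))) (.node (.node (.node (.node (.node (.leaf (81,0,[])) (.leaf (2453,0,[]))) (.node (.leaf (890,0,[])) (.leaf (2840,0,[])))) (.node (.node (.leaf (717,0,[])) (.leaf (2284,0,[]))) (.node (.leaf (1902,0,[])) (.leaf (3562,0,[93,44,232]))))) (.node (.node (.node (.leaf (404,0,[])) (.leaf (2704,0,[]))) (.node (.leaf (1625,0,[])) (.leaf (3168,0,[])))) (.node (.node (.leaf (1015,0,[])) (.leaf (2543,0,[]))) (.leaf (2172,0,[]))))) (.node (.node (.node (.node (.leaf (151,0,[])) (.leaf (1914,0,[]))) (.node (.leaf (1001,0,[])) (.leaf (3264,0,[87,94,155,226])))) (.node (.node (.leaf (566,0,[])) (.leaf (2999,0,[88,55,104,20]))) (.node (.leaf (2035,0,[])) (.leaf (3791,0,[]))))) (.node (.node (.node (.leaf (356,0,[])) (.leaf (2157,0,[]))) (.node (.leaf (1218,0,[])) (.leaf (3640,0,[])))) (.node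 (.node (.leaf (1171,0,[])) (.leaf (3278,0,[]))) (.leaf (1674,0,[]))))))) (.node (.node (.node (.node (.node (.node (.leaf (35,0,[1])) (.leaf (2350,0,[93,123,168]))) (.node (.leaf (1282,0,[])) (.leaf (2805,0,[])))) (.node (.node (.leaf (676,0,[])) (.leaf (2252,0,[]))) (.node (.leaf (1867,0,[])) (.leaf (3706,0,[]))))) (.node (.node (.node (.leaf (364,0,[])) (.leaf (2336,0,[57,56,104,236]))) (.node (.leaf (1587,0,[])) (.leaf (3121,0,[])))) (.node (.node (.leaf (982,0,[])) (.leaf (3147,0,[]))) (.leaf (1588,0,[]))))) (.node (.node (.node (.node (.leaf (205,0,[])) (.leaf (2550,0,[]))) (.node (.leaf (1437,0,[])) (.leaf (3438,0,[])))) (.node (.node (.leaf (734,0,[88,55,43,164])) (.leaf (3035,0,[]))) (.node (.leaf (2005,0,[])) (.leaf (3672,0,[]))))) (.node (.node (.node (.leaf (331,0,[])) (.leaf (2804,0,[]))) (.node (.leaf (1721,0,[])) (.leaf (3301,0,[])))) (.node (.node (.leaf (753,0,[])) (.leaf (2648,0,[]))) (.leaf (2281,0,[])))))) (.node (.node (.node (.node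 (.node (.leaf (122,0,[])) (.leaf (1897,0,[]))) (.node (.leaf (1359,0,[])) (.leaf (3392,0,[])))) (.node (.node (.leaf (754,0,[])) (.leaf (2317,0,[]))) (.node (.leaf (1935,0,[])) (.leaf (3749,0,[]))))) (.node (.node (.node (.leaf (443,0,[])) (.leaf (2063,0,[]))) (.node (.leaf (1655,0,[])) (.leaf (3209,0,[])))) (.node (.node (.leaf (698,0,[])) (.leaf (2581,0,[]))) (.leaf (2210,0,[]))))) (.node (.node (.node (.node (.leaf (286,0,[])) (.leaf (1943,0,[]))) (.node (.leaf (1514,0,[])) (.leaf (3265,0,[87,94,104,213])))) (.node (.node (.leaf (906,0,[])) (.leaf (3089,0,[]))) (.leaf (2068,0,[])))) (.node (.node (.node (.leaf (385,0,[])) (.leaf (2865,0,[]))) (.node (.leaf (1241,0,[])) (.leaf (3665,0,[])))) (.node (.node (.leaf (992,0,[88,56,91,25])) (.leaf (2725,0,[]))) (.leaf (1708,0,[])))))))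

noncomputable def move000001 : Tr (ℕ × ℕ × List ℕ) :=
  .node (.node (.node (.node (.node (.node (.node (.leaf (22,0,[])) (.leaf (2401,0,[]))) (.node (.leaf (1262,0,[])) (.leaf (3337,0,[])))) (.node (.node (.leaf (657,0,[])) (.leaf (2236,0,[]))) (.node (.leaf (1848,0,[])) (.leaf (3679,0,[88,56,91,185]))))) (.node (.node (.node (.leaf (344,0,[])) (.leaf (2233,0,[87,56,89,117]))) (.node (.leaf (1573,0,[])) (.leaf (3510,0,[])))) (.node (.node (.leaf (630,0,[])) (.leaf (3131,0,[]))) (.leaf (1517,0,[]))))) (.node (.node (.node (.node (.leaf (115,0,[])) (.leaf (2246,0,[88,94,90,135]))) (.node (.leaf (958,0,[])) (.leaf (3430,0,[])))) (.node (.node (.leaf (816,0,[])) (.leaf (2368,0,[]))) (.node (.leaf (1703,0,[88,93,177])) (.leaf (3771,0,[]))))) (.node (.node (.node (.leaf (317,0,[])) (.leaf (2786,0,[]))) (.node (.leaf (1705,0,[])) (.leaf (3431,0,[87,55,90,98])))) (.node (.node (.leaf (741,0,[])) (.leaf (2632,0,[]))) (.leaf (1633,0,[])))))) (.node (.node (.node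 (.node (.node (.leaf (102,0,[])) (.leaf (1814,0,[]))) (.node (.leaf (905,0,[])) (.leaf (2853,0,[])))) (.node (.node (.leaf (737,0,[])) (.leaf (2302,0,[]))) (.node (.leaf (1921,0,[])) (.leaf (3578,0,[93,104,120]))))) (.node (.node (.node (.leaf (422,0,[])) (.leaf (2723,0,[]))) (.node (.leaf (1121,0,[])) (.leaf (3189,0,[])))) (.node (.node (.leaf (682,0,[])) (.leaf (2562,0,[]))) (.leaf (2190,0,[]))))) (.node (.node (.node (.node (.leaf (163,0,[])) (.leaf (1928,0,[]))) (.node (.leaf (1016,0,[])) (.leaf (3009,0,[])))) (.node (.node (.leaf (578,0,[])) (.leaf (2548,0,[57,93,91,203]))) (.node (.leaf (2052,0,[])) (.leaf (3786,0,[]))))) (.node (.node (.node (.leaf (581,0,[])) (.leaf (2847,0,[]))) (.node (.leaf (1229,0,[])) (.leaf (3652,0,[])))) (.node (.node (.leaf (1189,0,[])) (.leaf (3058,0,[110,104,61]))) (.leaf (1816,0,[87,56,90,35]))))))) (.node (.node (.node (.node (.node (.node (.leaf (39,0,[])) (.leaf (1783,0,[]))) (.node (.leaf (1301,0,[])) (.leaf (2821,0,[]))))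 (.node (.node (.leaf (696,0,[])) (.leaf (2267,0,[]))) (.node (.leaf (1884,0,[])) (.leaf (3513,0,[]))))) (.node (.node (.node (.leaf (240,0,[])) (.leaf (2021,0,[]))) (.node (.leaf (1607,0,[])) (.leaf (3143,0,[])))) (.node (.node (.leaf (656,0,[])) (.leaf (2527,0,[]))) (.leaf (1546,0,[]))))) (.node (.node (.node (.node (.leaf (225,0,[])) (.leaf (2271,0,[57,94,43,197]))) (.node (.leaf (984,0,[])) (.leaf (3205,0,[57,94,90,230])))) (.node (.node (.leaf (854,0,[])) (.leaf (2394,0,[]))) (.node (.leaf (1772,0,[56,103,31])) (.leaf (3699,0,[]))))) (.node (.node (.node (.leaf (541,0,[])) (.leaf (2138,0,[]))) (.node (.leaf (1456,0,[0])) (.leaf (3335,0,[])))) (.node (.node (.leaf (1150,0,[])) (.leaf (2663,0,[]))) (.leaf (2298,0,[])))))) (.node (.node (.node (.node (.node (.leaf (140,0,[])) (.leaf (2500,0,[]))) (.node (.leaf (932,0,[])) (.leaf (3404,0,[])))) (.node (.node (.leaf (502,0,[])) (.leaf (3001,0,[]))) (.node (.leaf (1954,0,[])) (.leaf (3758,0,[]))))) (.node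 (.node (.node (.leaf (461,0,[])) (.leaf (2076,0,[]))) (.node (.leaf (1672,0,[])) (.leaf (3586,0,[])))) (.node (.node (.leaf (1076,0,[])) (.leaf (2598,0,[]))) (.leaf (2228,0,[]))))) (.node (.node (.node (.node (.leaf (304,0,[])) (.leaf (1958,0,[]))) (.node (.leaf (1532,0,[])) (.leaf (3060,0,[])))) (.node (.node (.leaf (927,0,[])) (.leaf (2462,0,[]))) (.leaf (1490,0,[])))) (.node (.node (.node (.leaf (539,0,[20])) (.leaf (2881,0,[]))) (.node (.leaf (1811,0,[])) (.leaf (3416,0,[])))) (.node (.node (.leaf (827,0,[])) (.leaf (2954,0,[93,44,225]))) (.leaf (2365,0,[])))))))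

noncomputable def move00000 : Tr (ℕ × ℕ × List ℕ) := .node move000000 move000001

noncomputable def move000010 : Tr (ℕ × ℕ × List ℕ) :=
  .node (.node (.node (.node (.node (.node (.node (.leaf (11,0,[])) (.leaf (2395,0,[]))) (.node (.leaf (845,0,[])) (.leaf (3331,0,[])))) (.node (.node (.leaf (646,0,[])) (.leaf (2227,0,[]))) (.node (.leaf (1272,0,[])) (.leaf (3592,0,[56,42,169]))))) (.node (.node (.node (.leaf (333,0,[])) (.leaf (2652,0,[]))) (.node (.leaf (1564,0,[])) (.leaf (3505,0,[])))) (.node (.node (.leaf (625,0,[])) (.leaf (2488,0,[]))) (.leaf (1512,0,[]))))) (.node (.node (.node (.node (.leaf (173,0,[])) (.leaf (2524,0,[]))) (.node (.leaf (952,0,[])) (.leaf (3423,0,[])))) (.node (.node (.leaf (521,0,[])) (.leaf (2934,0,[87,56,103,228]))) (.node (.leaf (1392,0,[])) (.leaf (3734,0,[56,90,33]))))) (.node (.node (.node (.leaf (490,0,[])) (.leaf (2780,0,[]))) (.node (.leaf (1167,0,[])) (.leaf (3464,0,[93,140,197])))) (.node (.node (.leaf (998,0,[93,123,98]))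 (.leaf (2625,0,[]))) (.leaf (2256,0,[])))))) (.node (.node (.node (.node (.node (.leaf (91,0,[])) (.leaf (1806,0,[]))) (.node (.leaf (897,0,[])) (.leaf (2846,0,[])))) (.node (.node (.leaf (727,0,[])) (.leaf (2960,0,[]))) (.node (.leaf (1329,0,[])) (.leaf (3733,0,[]))))) (.node (.node (.node (.leaf (260,0,[])) (.leaf (2714,0,[]))) (.node (.leaf (1634,0,[])) (.leaf (3554,0,[])))) (.node (.node (.leaf (675,0,[])) (.leaf (3179,0,[]))) (.leaf (1566,0,[]))))) (.node (.node (.node (.node (.leaf (254,0,[])) (.leaf (2586,0,[]))) (.node (.leaf (1481,0,[])) (.leaf (3470,0,[])))) (.node (.node (.leaf (881,0,[])) (.leaf (2483,0,[56,42,30]))) (.node (.leaf (1450,0,[])) (.leaf (3779,0,[88,93,89,180]))))) (.node (.node (.node (.leaf (362,0,[])) (.leaf (2163,0,[]))) (.node (.leaf (1765,0,[])) (.leaf (3644,0,[])))) (.node (.node (.leaf (1179,0,[])) (.leaf (2693,0,[94,90,149]))) (.leaf (1682,0,[]))))))) (.node (.node (.node (.node (.node (.node (.leaf (49,0,[])) (.leaf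 (2427,0,[]))) (.node (.leaf (871,0,[])) (.leaf (2813,0,[])))) (.node (.node (.leaf (441,0,[])) (.leaf (2260,0,[]))) (.node (.leaf (1300,0,[])) (.leaf (3553,0,[88,56,42,105]))))) (.node (.node (.node (.leaf (376,0,[])) (.leaf (2014,0,[]))) (.node (.leaf (1598,0,[])) (.leaf (3132,0,[])))) (.node (.node (.leaf (649,0,[])) (.leaf (2520,0,[]))) (.leaf (1688,0,[87,96]))))) (.node (.node (.node (.node (.leaf (132,0,[])) (.leaf (1892,0,[]))) (.node (.leaf (1446,0,[])) (.leaf (2964,0,[])))) (.node (.node (.leaf (583,0,[55,123,92])) (.leaf (2388,0,[]))) (.node (.leaf (1931,0,[87,110,155,124])) (.leaf (3687,0,[]))))) (.node (.node (.node (.leaf (337,0,[])) (.leaf (2812,0,[]))) (.node (.leaf (1732,0,[])) (.leaf (3319,0,[])))) (.node (.node (.leaf (1141,0,[])) (.leaf (3258,0,[]))) (.leaf (2291,0,[])))))) (.node (.node (.node (.node (.node (.leaf (131,0,[])) (.leaf (1987,0,[94,116,238]))) (.node (.leaf (925,0,[])) (.leaf (2884,0,[])))) (.node (.node (.leaf (495,0,[]))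 (.leaf (2323,0,[]))) (.node (.leaf (1945,0,[])) (.leaf (3589,0,[]))))) (.node (.node (.node (.leaf (285,0,[])) (.leaf (2748,0,[]))) (.node (.leaf (1138,0,[])) (.leaf (3571,0,[57,55,44,121])))) (.node (.node (.leaf (705,0,[])) (.leaf (2588,0,[]))) (.leaf (1596,0,[]))))) (.node (.node (.node (.node (.leaf (232,0,[87,104,153])) (.leaf (2280,0,[87,91,18]))) (.node (.leaf (1036,0,[])) (.leaf (3261,0,[87,56,89,106])))) (.node (.node (.leaf (915,0,[])) (.leaf (2792,0,[94,103,231]))) (.leaf (1483,0,[])))) (.node (.node (.node (.leaf (390,0,[])) (.leaf (2874,0,[]))) (.node (.leaf (1800,0,[])) (.leaf (3406,0,[])))) (.node (.node (.leaf (819,0,[])) (.leaf (3048,0,[0]))) (.leaf (1717,0,[])))))))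

noncomputable def move000011 : Tr (ℕ × ℕ × List ℕ) :=
  .node (.node (.node (.node (.node (.node (.node (.leaf (31,0,[])) (.leaf (2412,0,[]))) (.node (.leaf (857,0,[])) (.leaf (2795,0,[])))) (.node (.node (.leaf (666,0,[])) (.leaf (2914,0,[]))) (.node (.leaf (1859,0,[])) (.leaf (3637,0,[57,110,176,2]))))) (.node (.node (.node (.leaf (220,0,[])) (.leaf (1996,0,[]))) (.node (.leaf (1581,0,[])) (.leaf (3146,0,[87,110,103,114])))) (.node (.node (.leaf (636,0,[])) (.leaf (3136,0,[]))) (.leaf (2000,0,[57,110,116,171]))))) (.node (.node (.node (.node (.leaf (194,0,[])) (.leaf (2503,0,[57,56,44,138]))) (.node (.leaf (966,0,[])) (.leaf (2944,0,[])))) (.node (.node (.leaf (534,0,[])) (.leaf (2716,0,[57,56,89,114]))) (.node (.leaf (1832,0,[87,94,111])) (.leaf (3711,0,[55,42,180]))))) (.node (.node (.node (.leaf (323,0,[])) (.leaf (2314,0,[57,94,103,29]))) (.node (.leaf (1180,0,[])) (.leaf (3286,0,[])))) (.node (.node (.leaf (1123,0,[])) (.leaf (3243,0,[]))) (.leaf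 (2274,0,[])))))) (.node (.node (.node (.node (.node (.leaf (69,0,[])) (.leaf (1822,0,[]))) (.node (.leaf (911,0,[])) (.leaf (2861,0,[])))) (.node (.node (.leaf (481,0,[])) (.leaf (2976,0,[]))) (.node (.leaf (1343,0,[])) (.leaf (3744,0,[]))))) (.node (.node (.node (.leaf (272,0,[])) (.leaf (2054,0,[]))) (.node (.leaf (1127,0,[])) (.leaf (3568,0,[])))) (.node (.node (.leaf (1046,0,[])) (.leaf (3190,0,[]))) (.leaf (1580,0,[]))))) (.node (.node (.node (.node (.leaf (274,0,[])) (.leaf (1949,0,[94,44,227]))) (.node (.leaf (1502,0,[])) (.leaf (3022,0,[])))) (.node (.node (.leaf (898,0,[])) (.leaf (2437,0,[]))) (.leaf (1755,0,[87,110,42,113])))) (.node (.node (.node (.leaf (591,0,[])) (.leaf (2856,0,[]))) (.node (.leaf (1235,0,[])) (.leaf (3658,0,[])))) (.node (.node (.leaf (1200,0,[])) (.leaf (2719,0,[88,110,5]))) (.leaf (2339,0,[]))))))) (.node (.node (.node (.node (.node (.node (.leaf (70,0,[])) (.leaf (1791,0,[]))) (.node (.leaf (1310,0,[])) (.leaf (2828,0,[]))))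 (.node (.node (.leaf (454,0,[])) (.leaf (2276,0,[]))) (.node (.leaf (1893,0,[])) (.leaf (3520,0,[]))))) (.node (.node (.node (.leaf (395,0,[])) (.leaf (2028,0,[]))) (.node (.leaf (1101,0,[])) (.leaf (3539,0,[])))) (.node (.node (.leaf (662,0,[])) (.leaf (2578,0,[87,116,151]))) (.leaf (1552,0,[]))))) (.node (.node (.node (.node (.leaf (236,0,[])) (.leaf (1907,0,[]))) (.node (.leaf (1208,0,[87,94,91,143])) (.leaf (3043,0,[88,140,73])))) (.node (.node (.leaf (560,0,[])) (.leaf (3055,0,[]))) (.node (.leaf (1720,0,[88,110,42,46])) (.leaf (3725,0,[]))))) (.node (.node (.node (.leaf (551,0,[])) (.leaf (2824,0,[]))) (.node (.leaf (1750,0,[])) (.leaf (3523,0,[94,90,22])))) (.node (.node (.leaf (1160,0,[])) (.leaf (3270,0,[]))) (.leaf (1820,0,[57,94,104,216])))))) (.node (.node (.node (.node (.node (.leaf (95,0,[])) (.leaf (2509,0,[]))) (.node (.leaf (1005,0,[110,44,173])) (.leaf (3410,0,[])))) (.node (.node (.leaf (787,0,[])) (.leaf (3004,0,[]))) (.node (.leaf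 (1377,0,[])) (.leaf (3619,0,[94,42,119]))))) (.node (.node (.node (.leaf (296,0,[])) (.leaf (2084,0,[]))) (.node (.leaf (1683,0,[])) (.leaf (3242,0,[])))) (.node (.node (.leaf (1085,0,[])) (.leaf (2606,0,[]))) (.leaf (2237,0,[]))))) (.node (.node (.node (.node (.leaf (195,0,[])) (.leaf (2634,0,[]))) (.node (.leaf (1544,0,[])) (.leaf (3477,0,[57,55,116,60])))) (.node (.node (.leaf (612,0,[])) (.leaf (2468,0,[]))) (.leaf (2098,0,[])))) (.node (.node (.node (.leaf (403,0,[])) (.leaf (2886,0,[]))) (.node (.leaf (1737,0,[88,55,103,75])) (.leaf (3493,0,[87,110,43,13])))) (.node (.node (.leaf (1232,0,[])) (.leaf (2757,0,[]))) (.leaf (2373,0,[])))))))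

noncomputable def move00001 : Tr (ℕ × ℕ × List ℕ) := .node move000010 move000011

noncomputable def move0000 : Tr (ℕ × ℕ × List ℕ) := .node move00000 move00001

noncomputable def move000100 : Tr (ℕ × ℕ × List ℕ) :=
  .node (.node (.node (.node (.node (.node (.node (.leaf (6,0,[])) (.leaf (1744,0,[]))) (.node (.leaf (1246,0,[])) (.leaf (3327,0,[])))) (.node (.node (.leaf (413,0,[])) (.leaf (2897,0,[]))) (.node (.leaf (1834,0,[])) (.leaf (3686,0,[]))))) (.node (.node (.node (.leaf (328,0,[])) (.leaf (2647,0,[]))) (.node (.leaf (1559,0,[])) (.leaf (3502,0,[])))) (.node (.node (.leaf (949,0,[])) (.leaf (3101,0,[]))) (.leaf (1509,0,[]))))) (.node (.node (.node (.node (.leaf (168,0,[])) (.leaf (1862,0,[]))) (.node (.leaf (948,0,[])) (.leaf (2918,0,[])))) (.node (.node (.leaf (802,0,[])) (.leaf (3015,0,[]))) (.node (.leaf (1388,0,[])) (.leaf (3628,0,[]))))) (.node (.node (.node (.leaf (485,0,[])) (.leaf (2097,0,[]))) (.node (.leaf (1695,0,[])) (.leaf (3597,0,[]))))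 (.node (.node (.leaf (1100,0,[])) (.leaf (2619,0,[]))) (.leaf (2251,0,[])))))) (.node (.node (.node (.node (.node (.leaf (55,0,[])) (.leaf (1803,0,[]))) (.node (.leaf (1325,0,[])) (.leaf (2842,0,[])))) (.node (.node (.leaf (723,0,[])) (.leaf (2290,0,[]))) (.node (.leaf (1908,0,[])) (.leaf (3536,0,[]))))) (.node (.node (.node (.leaf (257,0,[])) (.leaf (2039,0,[]))) (.node (.leaf (1111,0,[])) (.leaf (3396,0,[87,111])))) (.node (.node (.leaf (671,0,[])) (.leaf (3176,0,[]))) (.leaf (1562,0,[]))))) (.node (.node (.node (.node (.leaf (196,0,[55,176,71])) (.leaf (1917,0,[]))) (.node (.leaf (1475,0,[])) (.leaf (2997,0,[])))) (.node (.node (.leaf (569,0,[])) (.leaf (2807,0,[57,140,202]))) (.node (.leaf (1448,0,[])) (.leaf (3754,0,[]))))) (.node (.node (.node (.leaf (452,0,[0])) (.leaf (2160,0,[]))) (.node (.leaf (1221,0,[])) (.leaf (3363,0,[])))) (.node (.node (.leaf (786,0,[])) (.leaf (3036,0,[87,55,176,11]))) (.leaf (1677,0,[]))))))) (.node (.node (.node (.node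 (.node (.node (.leaf (44,0,[])) (.leaf (2424,0,[]))) (.node (.leaf (868,0,[])) (.leaf (2809,0,[])))) (.node (.node (.leaf (438,0,[])) (.leaf (2715,0,[88,55,176,189]))) (.node (.leaf (1295,0,[])) (.leaf (3518,0,[88,56,89,222]))))) (.node (.node (.node (.leaf (370,0,[])) (.leaf (2681,0,[]))) (.node (.leaf (1084,0,[])) (.leaf (3525,0,[])))) (.node (.node (.leaf (986,0,[])) (.leaf (3151,0,[]))) (.leaf (2143,0,[]))))) (.node (.node (.node (.node (.leaf (129,0,[])) (.leaf (2555,0,[]))) (.node (.leaf (1441,0,[])) (.leaf (3442,0,[])))) (.node (.node (.leaf (544,0,[])) (.leaf (2385,0,[]))) (.node (.leaf (2009,0,[])) (.leaf (3778,0,[]))))) (.node (.node (.node (.leaf (334,0,[])) (.leaf (2808,0,[]))) (.node (.leaf (1727,0,[])) (.leaf (3313,0,[])))) (.node (.node (.leaf (1136,0,[])) (.leaf (2739,0,[88,55,103,76]))) (.leaf (2286,0,[])))))) (.node (.node (.node (.node (.node (.leaf (79,0,[])) (.leaf (2486,0,[]))) (.node (.leaf (921,0,[])) (.leaf (3039,0,[57,110,91,76]))))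 (.node (.node (.leaf (760,0,[])) (.leaf (2989,0,[]))) (.node (.leaf (1940,0,[])) (.leaf (3684,0,[94,123,243]))))) (.node (.node (.node (.leaf (448,0,[])) (.leaf (2743,0,[]))) (.node (.leaf (1135,0,[])) (.leaf (3580,0,[])))) (.node (.node (.leaf (1060,0,[])) (.leaf (2585,0,[]))) (.leaf (2216,0,[]))))) (.node (.node (.node (.node (.leaf (291,0,[])) (.leaf (2616,0,[]))) (.node (.leaf (1518,0,[])) (.leaf (3487,0,[])))) (.node (.node (.leaf (594,0,[])) (.leaf (2450,0,[]))) (.leaf (2074,0,[])))) (.node (.node (.node (.leaf (603,0,[])) (.leaf (2869,0,[]))) (.node (.leaf (1311,0,[])) (.leaf (3668,0,[])))) (.node (.node (.leaf (996,0,[57,44,243])) (.leaf (2732,0,[]))) (.leaf (1711,0,[])))))))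

noncomputable def move000101 : Tr (ℕ × ℕ × List ℕ) :=
  .node (.node (.node (.node (.node (.node (.node (.leaf (15,0,[])) (.leaf (1760,0,[]))) (.node (.leaf (1267,0,[])) (.leaf (3342,0,[])))) (.node (.node (.leaf (425,0,[])) (.leaf (2241,0,[]))) (.node (.leaf (1853,0,[])) (.leaf (3474,0,[]))))) (.node (.node (.node (.leaf (217,0,[])) (.leaf (1993,0,[]))) (.node (.leaf (1576,0,[])) (.leaf (3106,0,[])))) (.node (.node (.leaf (821,0,[88,110,104,231])) (.leaf (2854,0,[88,110,89,157]))) (.leaf (1521,0,[]))))) (.node (.node (.node (.node (.leaf (188,0,[])) (.leaf (2539,0,[]))) (.node (.leaf (1423,0,[])) (.leaf (3350,0,[57,56,104,141])))) (.node (.node (.leaf (531,0,[])) (.leaf (2371,0,[]))) (.node (.leaf (1995,0,[])) (.leaf (3655,0,[]))))) (.node (.node (.node (.leaf (320,0,[])) (.leaf (2791,0,[]))) (.node (.leaf (1177,0,[])) (.leaf (3314,0,[88,56,182])))) (.node (.node (.leaf (1118,0,[])) (.leaf (3240,0,[]))) (.leaf (1636,0,[])))))) (.node (.node (.node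 (.node (.node (.leaf (66,0,[])) (.leaf (2073,0,[88,55,91,46]))) (.node (.leaf (908,0,[])) (.leaf (3156,0,[87,55,156])))) (.node (.node (.leaf (596,0,[88,116,37])) (.leaf (2306,0,[]))) (.node (.leaf (1340,0,[])) (.leaf (3556,0,[]))))) (.node (.node (.node (.leaf (428,0,[])) (.leaf (2728,0,[]))) (.node (.leaf (1644,0,[])) (.leaf (3564,0,[])))) (.node (.node (.leaf (1041,0,[])) (.leaf (3187,0,[]))) (.leaf (1577,0,[]))))) (.node (.node (.node (.node (.leaf (166,0,[])) (.leaf (2600,0,[]))) (.node (.leaf (1019,0,[])) (.leaf (3478,0,[])))) (.node (.node (.leaf (893,0,[])) (.leaf (2434,0,[]))) (.leaf (1462,0,[])))) (.node (.node (.node (.leaf (374,0,[])) (.leaf (2174,0,[]))) (.node (.leaf (1778,0,[])) (.leaf (3419,0,[57,114])))) (.node (.node (.leaf (1194,0,[])) (.leaf (2709,0,[]))) (.leaf (2335,0,[]))))))) (.node (.node (.node (.node (.node (.node (.leaf (42,0,[])) (.leaf (2439,0,[]))) (.node (.leaf (880,0,[])) (.leaf (3362,0,[])))) (.node (.node (.leaf (450,0,[]))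 (.leaf (2941,0,[]))) (.node (.leaf (1824,0,[])) (.leaf (3516,0,[]))))) (.node (.node (.node (.leaf (389,0,[])) (.leaf (2025,0,[]))) (.node (.leaf (1613,0,[])) (.leaf (3527,0,[88,94,89,114])))) (.node (.node (.leaf (659,0,[])) (.leaf (2855,0,[87,94,116,7]))) (.leaf (2159,0,[]))))) (.node (.node (.node (.node (.leaf (230,0,[])) (.leaf (1904,0,[]))) (.node (.leaf (1460,0,[])) (.leaf (2977,0,[])))) (.node (.node (.leaf (859,0,[])) (.leaf (3050,0,[]))) (.node (.leaf (2023,0,[])) (.leaf (3710,0,[]))))) (.node (.node (.node (.leaf (347,0,[])) (.leaf (2711,0,[88,89,234]))) (.node (.leaf (1204,0,[])) (.leaf (3508,0,[27])))) (.node (.node (.leaf (1156,0,[])) (.leaf (3178,0,[87,116,166]))) (.leaf (1664,0,[])))))) (.node (.node (.node (.node (.node (.leaf (146,0,[])) (.leaf (2505,0,[]))) (.node (.leaf (1386,0,[])) (.leaf (2901,0,[])))) (.node (.node (.leaf (505,0,[])) (.leaf (2334,0,[]))) (.node (.leaf (1762,0,[88,103,171])) (.leaf (3753,0,[87,110,103,130])))))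 (.node (.node (.node (.leaf (466,0,[])) (.leaf (2113,0,[88,103,6]))) (.node (.leaf (1149,0,[])) (.leaf (3238,0,[])))) (.node (.node (.leaf (714,0,[])) (.leaf (2603,0,[]))) (.leaf (1604,0,[]))))) (.node (.node (.node (.node (.leaf (190,0,[])) (.leaf (2630,0,[]))) (.node (.leaf (1538,0,[])) (.leaf (3065,0,[])))) (.node (.node (.leaf (931,0,[])) (.leaf (2464,0,[]))) (.leaf (2094,0,[])))) (.node (.node (.node (.leaf (470,0,[57,56,44,237])) (.leaf (2768,0,[87,94,104,161]))) (.node (.leaf (1257,0,[])) (.leaf (3483,0,[88,94,90,234])))) (.node (.node (.leaf (830,0,[])) (.leaf (3312,0,[]))) (.leaf (1729,0,[])))))))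

noncomputable def move00010 : Tr (ℕ × ℕ × List ℕ) := .node move000100 move000101

noncomputable def move000110 : Tr (ℕ × ℕ × List ℕ) :=
  .node (.node (.node (.node (.node (.node (.node (.leaf (17,0,[])) (.leaf (2398,0,[]))) (.node (.leaf (1256,0,[])) (.leaf (3019,0,[57,110,42,197])))) (.node (.node (.leaf (652,0,[])) (.leaf (2905,0,[]))) (.node (.leaf (1275,0,[])) (.leaf (3458,0,[]))))) (.node (.node (.node (.leaf (338,0,[])) (.leaf (2655,0,[]))) (.node (.leaf (1066,0,[])) (.leaf (3090,0,[])))) (.node (.node (.leaf (818,0,[0])) (.leaf (3128,0,[]))) (.leaf (2117,0,[]))))) (.node (.node (.node (.node (.leaf (112,0,[])) (.leaf (2530,0,[]))) (.node (.leaf (1413,0,[])) (.leaf (2926,0,[])))) (.node (.node (.leaf (524,0,[])) (.leaf (2382,0,[57,56,44,232]))) (.node (.leaf (1395,0,[])) (.leaf (3643,0,[]))))) (.node (.node (.node (.leaf (313,0,[])) (.leaf (2103,0,[]))) (.node (.leaf (1170,0,[])) (.leaf (3601,0,[])))) (.node (.node (.leaf (1108,0,[])) (.leaf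 (2629,0,[]))) (.leaf (1627,0,[])))))) (.node (.node (.node (.node (.node (.leaf (97,0,[])) (.leaf (2465,0,[]))) (.node (.leaf (900,0,[])) (.leaf (2849,0,[])))) (.node (.node (.leaf (733,0,[])) (.leaf (2299,0,[]))) (.node (.leaf (1916,0,[])) (.leaf (3602,0,[87,94,116,242]))))) (.node (.node (.node (.leaf (263,0,[])) (.leaf (2046,0,[]))) (.node (.leaf (1117,0,[])) (.leaf (3184,0,[])))) (.node (.node (.leaf (1031,0,[])) (.leaf (3181,0,[]))) (.leaf (1569,0,[]))))) (.node (.node (.node (.node (.leaf (259,0,[])) (.leaf (2592,0,[]))) (.node (.leaf (1486,0,[])) (.leaf (3473,0,[])))) (.node (.node (.leaf (886,0,[])) (.leaf (3070,0,[]))) (.node (.leaf (1454,0,[])) (.leaf (3774,0,[]))))) (.node (.node (.node (.leaf (365,0,[])) (.leaf (2826,0,[88,110,164]))) (.node (.leaf (1746,0,[56,116,96])) (.leaf (3649,0,[])))) (.node (.node (.leaf (793,0,[])) (.leaf (2701,0,[]))) (.leaf (2328,0,[]))))))) (.node (.node (.node (.node (.node (.node (.leaf (36,0,[])) (.leaf (1901,0,[88,56,44,188])))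 (.node (.leaf (874,0,[])) (.leaf (3356,0,[])))) (.node (.node (.leaf (690,0,[])) (.leaf (2263,0,[]))) (.node (.leaf (1880,0,[])) (.leaf (3716,0,[]))))) (.node (.node (.node (.leaf (237,0,[])) (.leaf (2017,0,[]))) (.node (.leaf (1091,0,[])) (.leaf (3365,0,[87,55,176,213])))) (.node (.node (.leaf (812,0,[88,55,104,109])) (.leaf (2950,0,[56,104,159]))) (.leaf (1543,0,[]))))) (.node (.node (.node (.node (.leaf (135,0,[])) (.leaf (1895,0,[]))) (.node (.leaf (981,0,[])) (.leaf (2969,0,[])))) (.node (.node (.leaf (550,0,[])) (.leaf (3044,0,[]))) (.node (.leaf (2016,0,[])) (.leaf (3746,0,[88,110,104,59]))))) (.node (.node (.node (.leaf (340,0,[])) (.leaf (2134,0,[]))) (.node (.leaf (1198,0,[])) (.leaf (3623,0,[])))) (.node (.node (.leaf (764,0,[])) (.leaf (2659,0,[]))) (.leaf (2293,0,[])))))) (.node (.node (.node (.node (.node (.leaf (86,0,[])) (.leaf (2494,0,[]))) (.node (.leaf (1375,0,[])) (.leaf (2889,0,[])))) (.node (.node (.leaf (769,0,[])) (.leaf (2327,0,[])))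 (.node (.leaf (1364,0,[])) (.leaf (3595,0,[]))))) (.node (.node (.node (.leaf (288,0,[])) (.leaf (2072,0,[]))) (.node (.leaf (1668,0,[])) (.leaf (3230,0,[])))) (.node (.node (.leaf (1070,0,[])) (.leaf (2927,0,[57,93,103,177]))) (.leaf (2223,0,[]))))) (.node (.node (.node (.node (.leaf (184,0,[])) (.leaf (2624,0,[]))) (.node (.leaf (1039,0,[])) (.leaf (3053,0,[])))) (.node (.node (.leaf (601,0,[])) (.leaf (2458,0,[]))) (.leaf (1712,0,[57,56,123,185])))) (.node (.node (.node (.leaf (613,0,[])) (.leaf (2877,0,[]))) (.node (.leaf (1251,0,[])) (.leaf (3412,0,[])))) (.node (.node (.leaf (1219,0,[])) (.leaf (3002,0,[56,44,120]))) (.leaf (2360,0,[])))))))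

noncomputable def move000111 : Tr (ℕ × ℕ × List ℕ) :=
  .node (.node (.node (.node (.node (.node (.node (.leaf (28,0,[60])) (.leaf (2416,0,[]))) (.node (.leaf (861,0,[])) (.leaf (3345,0,[])))) (.node (.node (.leaf (431,0,[])) (.leaf (2920,0,[]))) (.node (.leaf (1288,0,[])) (.leaf (3701,0,[]))))) (.node (.node (.node (.leaf (359,0,[])) (.leaf (2674,0,[]))) (.node (.leaf (1079,0,[])) (.leaf (3116,0,[])))) (.node (.node (.leaf (639,0,[])) (.leaf (2844,0,[57,94,43,111]))) (.leaf (1976,0,[87,55,154]))))) (.node (.node (.node (.node (.leaf (124,0,[])) (.leaf (2547,0,[]))) (.node (.leaf (1432,0,[])) (.leaf (3126,0,[57,56,123,183])))) (.node (.node (.leaf (833,0,[])) (.leaf (2712,0,[87,43,137]))) (.node (.leaf (1409,0,[])) (.leaf (3773,0,[87,93,90,166]))))) (.node (.node (.node (.leaf (327,0,[])) (.leaf (2118,0,[]))) (.node (.leaf (1718,0,[])) (.leaf (3295,0,[])))) (.node (.node (.leaf (750,0,[])) (.leaf (2643,0,[]))) (.leaf (2193,0,[])))))) (.node (.node (.node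 (.node (.node (.leaf (117,0,[])) (.leaf (2481,0,[]))) (.node (.leaf (1355,0,[])) (.leaf (3137,0,[88,94,155,179])))) (.node (.node (.leaf (598,0,[88,56,140,228])) (.leaf (2312,0,[]))) (.node (.leaf (1501,0,[55,219])) (.leaf (3685,0,[94,44,161]))))) (.node (.node (.node (.leaf (275,0,[])) (.leaf (2738,0,[]))) (.node (.leaf (1130,0,[])) (.leaf (3573,0,[])))) (.node (.node (.leaf (860,0,[87,89,185])) (.leaf (2574,0,[]))) (.leaf (1584,0,[]))))) (.node (.node (.node (.node (.leaf (280,0,[])) (.leaf (1939,0,[]))) (.node (.leaf (1026,0,[])) (.leaf (3026,0,[])))) (.node (.node (.leaf (903,0,[])) (.leaf (2440,0,[]))) (.leaf (1470,0,[])))) (.node (.node (.node (.leaf (381,0,[])) (.leaf (2184,0,[]))) (.node (.leaf (1238,0,[])) (.leaf (3394,0,[])))) (.node (.node (.leaf (805,0,[])) (.leaf (3012,0,[57,55,123,153]))) (.leaf (2343,0,[]))))))) (.node (.node (.node (.node (.node (.node (.leaf (75,0,[])) (.leaf (1795,0,[]))) (.node (.leaf (1316,0,[])) (.leaf (3368,0,[]))))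 (.node (.node (.leaf (457,0,[])) (.leaf (2949,0,[]))) (.node (.leaf (1896,0,[])) (.leaf (3528,0,[]))))) (.node (.node (.node (.leaf (250,0,[])) (.leaf (2702,0,[]))) (.node (.leaf (1620,0,[])) (.leaf (3159,0,[])))) (.node (.node (.leaf (1009,0,[])) (.leaf (3173,0,[]))) (.leaf (1555,0,[]))))) (.node (.node (.node (.node (.leaf (148,0,[])) (.leaf (2576,0,[]))) (.node (.leaf (997,0,[])) (.leaf (3465,0,[])))) (.node (.node (.leaf (614,0,[87,140,9])) (.leaf (2408,0,[]))) (.node (.leaf (1442,0,[])) (.leaf (3729,0,[]))))) (.node (.node (.node (.leaf (557,0,[])) (.leaf (2827,0,[]))) (.node (.leaf (1361,0,[57,55,155,241])) (.leaf (3636,0,[])))) (.node (.node (.leaf (1165,0,[])) (.leaf (2680,0,[]))) (.leaf (2310,0,[])))))) (.node (.node (.node (.node (.node (.leaf (156,0,[])) (.leaf (1856,0,[]))) (.node (.leaf (943,0,[])) (.leaf (3211,0,[57,110,116,129])))) (.node (.node (.leaf (792,0,[])) (.leaf (2345,0,[]))) (.node (.leaf (1381,0,[])) (.leaf (3750,0,[94,140,114])))))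 (.node (.node (.node (.leaf (474,0,[])) (.leaf (2089,0,[]))) (.node (.leaf (1157,0,[])) (.leaf (3429,0,[57,110,123,217])))) (.node (.node (.leaf (990,0,[57,91,213])) (.leaf (3223,0,[]))) (.leaf (1612,0,[]))))) (.node (.node (.node (.node (.leaf (199,0,[])) (.leaf (2637,0,[]))) (.node (.leaf (1051,0,[])) (.leaf (3074,0,[])))) (.node (.node (.leaf (940,0,[])) (.leaf (2472,0,[]))) (.leaf (2102,0,[])))) (.node (.node (.node (.leaf (631,0,[])) (.leaf (2890,0,[]))) (.node (.leaf (1264,0,[])) (.leaf (3428,0,[])))) (.node (.node (.leaf (1237,0,[])) (.leaf (2830,0,[57,94,176,157]))) (.leaf (2377,0,[])))))))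

noncomputable def move00011 : Tr (ℕ × ℕ × List ℕ) := .node move000110 move000111

noncomputable def move0001 : Tr (ℕ × ℕ × List ℕ) := .node move00010 move00011

noncomputable def move000 : Tr (ℕ × ℕ × List ℕ) := .node move0000 move0001

noncomputable def move001000 : Tr (ℕ × ℕ × List ℕ) :=
  .node (.node (.node (.node (.node (.node (.node (.leaf (1,0,[])) (.leaf (2386,0,[]))) (.node (.leaf (1244,0,[])) (.leaf (3324,0,[])))) (.node (.node (.leaf (638,0,[])) (.leaf (2896,0,[]))) (.node (.leaf (1268,0,[])) (.leaf (3440,0,[]))))) (.node (.node (.node (.leaf (203,0,[])) (.leaf (2644,0,[]))) (.node (.leaf (1056,0,[])) (.leaf (3349,0,[88,56,176,31])))) (.node (.node (.leaf (947,0,[])) (.leaf (3117,0,[]))) (.leaf (1609,0,[88,56,43,65]))))) (.node (.node (.node (.node (.leaf (103,0,[])) (.leaf (2519,0,[]))) (.node (.leaf (1299,0,[1])) (.leaf (3418,0,[])))) (.node (.node (.leaf (799,0,[])) (.leaf (2354,0,[]))) (.node (.leaf (1975,0,[])) (.leaf (3626,0,[])))))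 (.node (.node (.node (.leaf (482,0,[])) (.leaf (2772,0,[]))) (.node (.leaf (1161,0,[])) (.leaf (3596,0,[])))) (.node (.node (.leaf (728,0,[])) (.leaf (3226,0,[]))) (.leaf (1963,0,[60])))))) (.node (.node (.node (.node (.node (.leaf (84,0,[])) (.leaf (1801,0,[]))) (.node (.leaf (891,0,[])) (.leaf (2841,0,[])))) (.node (.node (.leaf (720,0,[])) (.leaf (2953,0,[]))) (.node (.leaf (1323,0,[])) (.leaf (3534,0,[]))))) (.node (.node (.node (.leaf (256,0,[])) (.leaf (2037,0,[]))) (.node (.leaf (1109,0,[])) (.leaf (3548,0,[])))) (.node (.node (.leaf (1018,0,[])) (.leaf (2623,0,[87,55,42,233]))) (.leaf (2175,0,[]))))) (.node (.node (.node (.node (.leaf (152,0,[])) (.leaf (2142,0,[57,110,42,143]))) (.node (.leaf (1472,0,[])) (.leaf (2995,0,[])))) (.node (.node (.leaf (873,0,[])) (.leaf (2413,0,[]))) (.node (.leaf (2038,0,[])) (.leaf (3748,0,[]))))) (.node (.node (.node (.leaf (564,0,[])) (.leaf (2833,0,[]))) (.node (.leaf (1758,0,[])) (.leaf (3641,0,[])))) (.node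 (.node (.leaf (783,0,[])) (.leaf (2686,0,[]))) (.leaf (2319,0,[]))))))) (.node (.node (.node (.node (.node (.node (.leaf (27,0,[])) (.leaf (1770,0,[]))) (.node (.leaf (866,0,[])) (.leaf (3348,0,[])))) (.node (.node (.leaf (679,0,[])) (.leaf (2594,0,[57,110,43,131]))) (.node (.leaf (1293,0,[])) (.leaf (3709,0,[]))))) (.node (.node (.node (.leaf (227,0,[])) (.leaf (2255,0,[88,55,170]))) (.node (.leaf (1590,0,[])) (.leaf (3124,0,[])))) (.node (.node (.leaf (644,0,[])) (.leaf (2514,0,[]))) (.leaf (1617,0,[]))))) (.node (.node (.node (.node (.leaf (207,0,[])) (.leaf (1888,0,[]))) (.node (.leaf (1430,0,[87,110,176,226])) (.leaf (2958,0,[])))) (.node (.node (.leaf (543,0,[])) (.leaf (3037,0,[]))) (.node (.leaf (1997,0,[88,176,134])) (.leaf (3756,0,[57,56,89,175]))))) (.node (.node (.node (.leaf (523,0,[])) (.leaf (2125,0,[]))) (.node (.leaf (1724,0,[])) (.leaf (3614,0,[])))) (.node (.node (.leaf (755,0,[])) (.leaf (2650,0,[]))) (.leaf (1648,0,[])))))) (.node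 (.node (.node (.node (.node (.leaf (125,0,[])) (.leaf (2485,0,[]))) (.node (.leaf (1362,0,[])) (.leaf (2871,0,[])))) (.node (.node (.leaf (757,0,[])) (.leaf (2318,0,[]))) (.node (.leaf (1352,0,[])) (.leaf (3651,0,[87,94,90,175]))))) (.node (.node (.node (.leaf (445,0,[])) (.leaf (2741,0,[]))) (.node (.leaf (1134,0,[])) (.leaf (3227,0,[57,89,130])))) (.node (.node (.leaf (1058,0,[])) (.leaf (2584,0,[]))) (.leaf (2213,0,[]))))) (.node (.node (.node (.node (.leaf (177,0,[])) (.leaf (1944,0,[]))) (.node (.leaf (1201,0,[33])) (.leaf (3486,0,[])))) (.node (.node (.leaf (593,0,[])) (.leaf (2448,0,[]))) (.leaf (1652,0,[88,55,2])))) (.node (.node (.node (.leaf (386,0,[])) (.leaf (2188,0,[]))) (.node (.leaf (1793,0,[])) (.leaf (3400,0,[])))) (.node (.node (.leaf (1209,0,[])) (.leaf (3095,0,[94,43,208]))) (.leaf (2349,0,[])))))))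

noncomputable def move001001 : Tr (ℕ × ℕ × List ℕ) :=
  .node (.node (.node (.node (.node (.node (.node (.leaf (25,0,[])) (.leaf (2405,0,[]))) (.node (.leaf (853,0,[])) (.leaf (3340,0,[])))) (.node (.node (.leaf (423,0,[])) (.leaf (2872,0,[88,94,140,213]))) (.node (.leaf (1280,0,[])) (.leaf (3660,0,[94,123,144]))))) (.node (.node (.node (.leaf (216,0,[])) (.leaf (1991,0,[]))) (.node (.leaf (1298,0,[87,91,18])) (.leaf (3439,0,[57,55,90,148])))) (.node (.node (.leaf (964,0,[])) (.leaf (2742,0,[88,56,90,208]))) (.leaf (1519,0,[]))))) (.node (.node (.node (.node (.leaf (116,0,[])) (.leaf (1875,0,[]))) (.node (.leaf (1420,0,[])) (.leaf (2935,0,[])))) (.node (.node (.leaf (529,0,[])) (.leaf (2965,0,[88,91,231]))) (.node (.leaf (1992,0,[])) (.leaf (3723,0,[88,104,160]))))) (.node (.node (.node (.leaf (503,0,[])) (.leaf (2788,0,[]))) (.node (.leaf (1175,0,[])) (.leaf (3604,0,[])))) (.node (.node (.leaf (743,0,[])) (.leaf (3237,0,[]))) (.leaf (1790,0,[55,219]))))))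 (.node (.node (.node (.node (.node (.leaf (65,0,[])) (.leaf (1815,0,[]))) (.node (.leaf (1342,0,[])) (.leaf (3382,0,[])))) (.node (.node (.leaf (740,0,[])) (.leaf (2304,0,[]))) (.node (.leaf (1338,0,[])) (.leaf (3718,0,[87,91,97]))))) (.node (.node (.node (.leaf (268,0,[])) (.leaf (2050,0,[]))) (.node (.leaf (1122,0,[])) (.leaf (3192,0,[])))) (.node (.node (.leaf (685,0,[])) (.leaf (2565,0,[]))) (.leaf (1575,0,[]))))) (.node (.node (.node (.node (.leaf (267,0,[])) (.leaf (1930,0,[]))) (.node (.leaf (1495,0,[])) (.leaf (3231,0,[88,155,65])))) (.node (.node (.leaf (785,0,[88,93,44,229])) (.leaf (2431,0,[]))) (.node (.leaf (1484,0,[87,56,116,193])) (.leaf (3793,0,[]))))) (.node (.node (.node (.leaf (372,0,[])) (.leaf (2850,0,[]))) (.node (.leaf (1776,0,[])) (.leaf (3654,0,[])))) (.node (.node (.leaf (797,0,[])) (.leaf (3292,0,[]))) (.leaf (1978,0,[57,56,90,233]))))))) (.node (.node (.node (.node (.node (.node (.leaf (62,0,[])) (.leaf (1784,0,[]))) (.node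 (.leaf (1302,0,[])) (.leaf (2822,0,[])))) (.node (.node (.leaf (699,0,[])) (.leaf (2269,0,[]))) (.node (.leaf (1886,0,[])) (.leaf (3719,0,[]))))) (.node (.node (.node (.leaf (387,0,[])) (.leaf (2690,0,[]))) (.node (.leaf (1610,0,[])) (.leaf (3150,0,[])))) (.node (.node (.leaf (780,0,[0])) (.leaf (3165,0,[]))) (.leaf (1547,0,[]))))) (.node (.node (.node (.node (.leaf (139,0,[])) (.leaf (2567,0,[]))) (.node (.leaf (1457,0,[])) (.leaf (3455,0,[])))) (.node (.node (.leaf (556,0,[])) (.leaf (2396,0,[]))) (.node (.leaf (1714,0,[57,56,116,217])) (.leaf (3705,0,[]))))) (.node (.node (.node (.leaf (346,0,[])) (.leaf (2141,0,[]))) (.node (.leaf (1745,0,[])) (.leaf (3339,0,[])))) (.node (.node (.leaf (1153,0,[])) (.leaf (2665,0,[]))) (.leaf (1662,0,[])))))) (.node (.node (.node (.node (.node (.leaf (143,0,[])) (.leaf (1846,0,[]))) (.node (.leaf (1384,0,[])) (.leaf (2899,0,[])))) (.node (.node (.leaf (777,0,[])) (.leaf (2332,0,[]))) (.node (.leaf (1957,0,[])) (.leaf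 (3607,0,[]))))) (.node (.node (.node (.leaf (292,0,[])) (.leaf (2078,0,[]))) (.node (.leaf (1147,0,[])) (.leaf (3236,0,[])))) (.node (.node (.leaf (713,0,[])) (.leaf (3215,0,[]))) (.leaf (1603,0,[]))))) (.node (.node (.node (.node (.leaf (307,0,[])) (.leaf (2628,0,[]))) (.node (.leaf (1043,0,[])) (.leaf (3476,0,[57,56,89,34])))) (.node (.node (.leaf (608,0,[])) (.leaf (2463,0,[]))) (.leaf (1492,0,[])))) (.node (.node (.node (.leaf (398,0,[])) (.leaf (2883,0,[]))) (.node (.leaf (1255,0,[])) (.leaf (3417,0,[])))) (.node (.node (.leaf (1225,0,[])) (.leaf (3024,0,[57,56,103,207]))) (.leaf (2367,0,[])))))))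

noncomputable def move00100 : Tr (ℕ × ℕ × List ℕ) := .node move001000 move001001

noncomputable def move001010 : Tr (ℕ × ℕ × List ℕ) :=
  .node (.node (.node (.node (.node (.node (.node (.leaf (7,0,[])) (.leaf (2109,0,[110,155,99]))) (.node (.leaf (1254,0,[])) (.leaf (3082,0,[57,123,175])))) (.node (.node (.leaf (417,0,[])) (.leaf (2903,0,[]))) (.node (.leaf (1840,0,[])) (.leaf (3451,0,[]))))) (.node (.node (.node (.leaf (209,0,[])) (.leaf (2456,0,[87,110,42,216]))) (.node (.leaf (1567,0,[])) (.leaf (3338,0,[87,93,91,95])))) (.node (.node (.leaf (957,0,[])) (.leaf (2508,0,[55,91,100]))) (.leaf (1513,0,[]))))) (.node (.node (.node (.node (.leaf (109,0,[])) (.leaf (1869,0,[]))) (.node (.leaf (1411,0,[])) (.leaf (2923,0,[])))) (.node (.node (.leaf (809,0,[])) (.leaf (2361,0,[]))) (.node (.leaf (1984,0,[])) (.leaf (3642,0,[]))))) (.node (.node (.node (.leaf (493,0,[])) (.leaf (2238,0,[55,123,92]))) (.node (.leaf (1578,0,[176,216])) (.leaf (3263,0,[]))))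 (.node (.node (.leaf (736,0,[])) (.leaf (3056,0,[55,176,206]))) (.leaf (2258,0,[])))))) (.node (.node (.node (.node (.node (.leaf (59,0,[])) (.leaf (2432,0,[57,94,111]))) (.node (.leaf (1331,0,[])) (.leaf (3352,0,[88,42,183])))) (.node (.node (.leaf (730,0,[])) (.leaf (2296,0,[]))) (.node (.leaf (1330,0,[])) (.leaf (3544,0,[]))))) (.node (.node (.node (.leaf (415,0,[])) (.leaf (2717,0,[]))) (.node (.leaf (1635,0,[])) (.leaf (3182,0,[])))) (.node (.node (.leaf (677,0,[])) (.leaf (2556,0,[]))) (.leaf (2182,0,[]))))) (.node (.node (.node (.node (.leaf (158,0,[])) (.leaf (2589,0,[]))) (.node (.leaf (1011,0,[])) (.leaf (3274,0,[57,56,104,236])))) (.node (.node (.leaf (884,0,[])) (.leaf (3069,0,[]))) (.node (.leaf (2045,0,[])) (.leaf (3792,0,[]))))) (.node (.node (.node (.leaf (573,0,[])) (.leaf (2165,0,[]))) (.node (.leaf (1767,0,[])) (.leaf (3370,0,[])))) (.node (.node (.leaf (1181,0,[])) (.leaf (3034,0,[87,55,155,144]))) (.leaf (2325,0,[]))))))) (.node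 (.node (.node (.node (.node (.node (.leaf (52,0,[])) (.leaf (2429,0,[]))) (.node (.leaf (1292,0,[])) (.leaf (2815,0,[])))) (.node (.node (.leaf (442,0,[])) (.leaf (2669,0,[87,110,43,105]))) (.node (.leaf (1418,0,[176,216])) (.leaf (3714,0,[]))))) (.node (.node (.node (.leaf (379,0,[])) (.leaf (2346,0,[176]))) (.node (.leaf (1089,0,[])) (.leaf (3530,0,[])))) (.node (.node (.leaf (810,0,[57,93,91,198])) (.leaf (2522,0,[]))) (.leaf (1540,0,[]))))) (.node (.node (.node (.node (.leaf (218,0,[])) (.leaf (2559,0,[]))) (.node (.leaf (980,0,[])) (.leaf (3448,0,[])))) (.node (.node (.leaf (848,0,[])) (.leaf (2389,0,[]))) (.node (.leaf (1425,0,[])) (.leaf (3780,0,[]))))) (.node (.node (.node (.leaf (533,0,[])) (.leaf (2133,0,[]))) (.node (.leaf (1736,0,[])) (.leaf (3469,0,[87,94,176,128])))) (.node (.node (.leaf (762,0,[])) (.leaf (2945,0,[55,176,216]))) (.leaf (1654,0,[])))))) (.node (.node (.node (.node (.node (.leaf (134,0,[])) (.leaf (1837,0,[]))) (.node (.leaf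 (1372,0,[])) (.leaf (2996,0,[57,94,103,33])))) (.node (.node (.leaf (766,0,[])) (.leaf (2942,0,[88,55,103,164]))) (.node (.leaf (1947,0,[])) (.leaf (3742,0,[57,55,176,174]))))) (.node (.node (.node (.leaf (456,0,[])) (.leaf (2751,0,[]))) (.node (.leaf (1140,0,[])) (.leaf (3581,0,[])))) (.node (.node (.leaf (1068,0,[])) (.leaf (2590,0,[]))) (.leaf (1597,0,[]))))) (.node (.node (.node (.node (.leaf (183,0,[])) (.leaf (2621,0,[]))) (.node (.leaf (1525,0,[])) (.leaf (3199,0,[88,56,116,223])))) (.node (.node (.leaf (918,0,[])) (.leaf (2455,0,[]))) (.leaf (2082,0,[])))) (.node (.node (.node (.leaf (392,0,[])) (.leaf (2195,0,[]))) (.node (.leaf (1248,0,[])) (.leaf (3648,0,[88,110,91,200])))) (.node (.node (.leaf (954,0,[55,140,169])) (.leaf (2740,0,[]))) (.leaf (2357,0,[])))))))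

noncomputable def move001011 : Tr (ℕ × ℕ × List ℕ) :=
  .node (.node (.node (.node (.node (.node (.node (.leaf (26,0,[55,155,192])) (.leaf (1764,0,[]))) (.node (.leaf (1274,0,[])) (.leaf (2798,0,[])))) (.node (.node (.leaf (669,0,[])) (.leaf (2248,0,[]))) (.node (.leaf (1860,0,[])) (.leaf (3610,0,[57,93,103,143]))))) (.node (.node (.node (.leaf (357,0,[])) (.leaf (2673,0,[]))) (.node (.leaf (1078,0,[])) (.leaf (3407,0,[57,94,176,245])))) (.node (.node (.leaf (973,0,[])) (.leaf (3140,0,[]))) (.leaf (1526,0,[]))))) (.node (.node (.node (.node (.leaf (197,0,[])) (.leaf (2533,0,[57,56,116,12]))) (.node (.leaf (1429,0,[])) (.leaf (2946,0,[])))) (.node (.node (.leaf (536,0,[])) (.leaf (2376,0,[]))) (.node (.leaf (1408,0,[])) (.leaf (3663,0,[]))))) (.node (.node (.node (.leaf (325,0,[])) (.leaf (2796,0,[]))) (.node (.leaf (1715,0,[])) (.leaf (3290,0,[])))) (.node (.node (.leaf (749,0,[])) (.leaf (3129,0,[57,94,90,37]))) (.leaf (1641,0,[])))))) (.node (.node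 (.node (.node (.node (.leaf (71,0,[])) (.leaf (2480,0,[]))) (.node (.leaf (1351,0,[])) (.leaf (3291,0,[57,55,123,152])))) (.node (.node (.leaf (483,0,[])) (.leaf (2978,0,[]))) (.node (.leaf (1345,0,[])) (.leaf (3659,0,[57,93,43,196]))))) (.node (.node (.node (.leaf (434,0,[])) (.leaf (2736,0,[]))) (.node (.leaf (1402,0,[155,144])) (.leaf (3202,0,[])))) (.node (.node (.leaf (691,0,[])) (.leaf (2573,0,[]))) (.leaf (2203,0,[]))))) (.node (.node (.node (.node (.leaf (170,0,[])) (.leaf (1937,0,[]))) (.node (.leaf (1024,0,[])) (.leaf (3482,0,[])))) (.node (.node (.leaf (586,0,[])) (.leaf (2438,0,[]))) (.leaf (2062,0,[])))) (.node (.node (.node (.leaf (380,0,[])) (.leaf (2858,0,[]))) (.node (.leaf (1786,0,[])) (.leaf (3661,0,[])))) (.node (.node (.leaf (804,0,[])) (.leaf (3018,0,[57,110,89,132]))) (.leaf (1909,0,[87,56,89,117]))))))) (.node (.node (.node (.node (.node (.node (.leaf (47,0,[])) (.leaf (2447,0,[]))) (.node (.leaf (1313,0,[])) (.leaf (3366,0,[]))))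 (.node (.node (.leaf (709,0,[])) (.leaf (2277,0,[]))) (.node (.leaf (1317,0,[])) (.leaf (3722,0,[]))))) (.node (.node (.node (.leaf (314,0,[87,110,44,153])) (.leaf (2030,0,[]))) (.node (.leaf (1618,0,[])) (.leaf (3541,0,[])))) (.node (.node (.leaf (663,0,[])) (.leaf (2536,0,[]))) (.leaf (1722,0,[57,55,155,9]))))) (.node (.node (.node (.node (.leaf (239,0,[])) (.leaf (1910,0,[]))) (.node (.leaf (1466,0,[])) (.leaf (2984,0,[])))) (.node (.node (.leaf (864,0,[])) (.leaf (2407,0,[]))) (.node (.leaf (1850,0,[87,56,90,30])) (.leaf (3727,0,[]))))) (.node (.node (.node (.leaf (554,0,[])) (.leaf (2153,0,[]))) (.node (.leaf (1210,0,[])) (.leaf (3633,0,[])))) (.node (.node (.leaf (1002,0,[88,93,103,65])) (.leaf (3052,0,[123,114]))) (.leaf (2002,0,[94,116,236])))))) (.node (.node (.node (.node (.node (.leaf (96,0,[])) (.leaf (1854,0,[]))) (.node (.leaf (942,0,[])) (.leaf (3413,0,[])))) (.node (.node (.leaf (511,0,[])) (.leaf (2342,0,[]))) (.node (.leaf (1433,0,[87,110,176,241]))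 (.leaf (3616,0,[]))))) (.node (.node (.node (.leaf (473,0,[])) (.leaf (2767,0,[]))) (.node (.leaf (1370,0,[88,55,44,118])) (.leaf (3593,0,[])))) (.node (.node (.leaf (1088,0,[])) (.leaf (3221,0,[]))) (.leaf (2240,0,[]))))) (.node (.node (.node (.node (.leaf (316,0,[])) (.leaf (1968,0,[]))) (.node (.leaf (1050,0,[])) (.leaf (3072,0,[])))) (.node (.node (.leaf (938,0,[])) (.leaf (2470,0,[]))) (.leaf (1498,0,[])))) (.node (.node (.node (.leaf (405,0,[])) (.leaf (2211,0,[]))) (.node (.leaf (1823,0,[])) (.leaf (3664,0,[88,93,90,127])))) (.node (.node (.leaf (834,0,[])) (.leaf (2759,0,[]))) (.leaf (2374,0,[])))))))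

noncomputable def move00101 : Tr (ℕ × ℕ × List ℕ) := .node move001010 move001011

noncomputable def move0010 : Tr (ℕ × ℕ × List ℕ) := .node move00100 move00101

noncomputable def move001100 : Tr (ℕ × ℕ × List ℕ) :=
  .node (.node (.node (.node (.node (.node (.node (.leaf (4,0,[])) (.leaf (2392,0,[]))) (.node (.leaf (1249,0,[])) (.leaf (3014,0,[57,93,116,212])))) (.node (.node (.leaf (414,0,[])) (.leaf (2225,0,[]))) (.node (.leaf (1835,0,[])) (.leaf (3615,0,[87,110,91,23]))))) (.node (.node (.node (.leaf (206,0,[])) (.leaf (1980,0,[]))) (.node (.leaf (1059,0,[])) (.leaf (3279,0,[88,94,176,158])))) (.node (.node (.leaf (623,0,[])) (.leaf (3122,0,[]))) (.leaf (2111,0,[]))))) (.node (.node (.node (.node (.leaf (106,0,[])) (.leaf (1866,0,[]))) (.node (.leaf (1406,0,[])) (.leaf (3145,0,[87,93,131])))) (.node (.node (.leaf (520,0,[])) (.leaf (2358,0,[]))) (.node (.leaf (1979,0,[])) (.leaf (3666,0,[88,93,104,96]))))) (.node (.node (.node (.leaf (488,0,[]))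 (.leaf (2778,0,[]))) (.node (.leaf (1697,0,[])) (.leaf (3262,0,[94,44,96])))) (.node (.node (.leaf (801,0,[])) (.leaf (2860,0,[88,55,155,189]))) (.leaf (2254,0,[])))))) (.node (.node (.node (.node (.node (.leaf (56,0,[])) (.leaf (2460,0,[]))) (.node (.leaf (895,0,[])) (.leaf (2845,0,[])))) (.node (.node (.leaf (465,0,[])) (.leaf (2292,0,[]))) (.node (.leaf (1911,0,[])) (.leaf (3538,0,[]))))) (.node (.node (.node (.leaf (411,0,[])) (.leaf (2042,0,[]))) (.node (.leaf (1503,0,[88,123,18])) (.leaf (3551,0,[])))) (.node (.node (.leaf (1023,0,[])) (.leaf (2552,0,[]))) (.leaf (2180,0,[]))))) (.node (.node (.node (.node (.leaf (251,0,[])) (.leaf (2192,0,[57,193]))) (.node (.leaf (1477,0,[])) (.leaf (3000,0,[])))) (.node (.node (.leaf (879,0,[])) (.leaf (2417,0,[]))) (.node (.leaf (1449,0,[])) (.leaf (3782,0,[87,110,155,241]))))) (.node (.node (.node (.leaf (568,0,[])) (.leaf (2839,0,[]))) (.node (.leaf (1763,0,[])) (.leaf (3367,0,[])))) (.node (.node (.leaf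 (1176,0,[])) (.leaf (3078,0,[87,55,116,96]))) (.leaf (2321,0,[]))))))) (.node (.node (.node (.node (.node (.node (.leaf (30,0,[])) (.leaf (2425,0,[]))) (.node (.leaf (870,0,[])) (.leaf (2811,0,[])))) (.node (.node (.leaf (684,0,[])) (.leaf (2928,0,[]))) (.node (.leaf (1873,0,[])) (.leaf (3678,0,[57,56,155,11]))))) (.node (.node (.node (.leaf (373,0,[])) (.leaf (2682,0,[]))) (.node (.leaf (1086,0,[])) (.leaf (3130,0,[])))) (.node (.node (.leaf (647,0,[])) (.leaf (2836,0,[55,123,99]))) (.leaf (1537,0,[]))))) (.node (.node (.node (.node (.leaf (212,0,[])) (.leaf (1891,0,[]))) (.node (.leaf (977,0,[])) (.leaf (3444,0,[])))) (.node (.node (.leaf (843,0,[])) (.leaf (3041,0,[]))) (.node (.leaf (1421,0,[])) (.leaf (3708,0,[88,44,130]))))) (.node (.node (.node (.leaf (336,0,[])) (.leaf (2810,0,[]))) (.node (.leaf (1192,0,[])) (.leaf (3317,0,[])))) (.node (.node (.leaf (965,0,[87,94,44,153])) (.leaf (2653,0,[]))) (.leaf (2288,0,[])))))) (.node (.node (.node (.node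 (.node (.leaf (80,0,[])) (.leaf (2085,0,[55,123,92]))) (.node (.leaf (923,0,[])) (.leaf (3174,0,[87,93,0])))) (.node (.node (.leaf (700,0,[93,90,208])) (.leaf (2461,0,[110,103,111]))) (.node (.leaf (1357,0,[])) (.leaf (3588,0,[]))))) (.node (.node (.node (.leaf (451,0,[])) (.leaf (2745,0,[]))) (.node (.leaf (1661,0,[])) (.leaf (3216,0,[])))) (.node (.node (.leaf (1062,0,[])) (.leaf (3204,0,[]))) (.leaf (1593,0,[]))))) (.node (.node (.node (.node (.leaf (180,0,[])) (.leaf (2166,0,[57,93,103,211]))) (.node (.leaf (1034,0,[])) (.leaf (3489,0,[])))) (.node (.node (.leaf (913,0,[])) (.leaf (3094,0,[]))) (.leaf (2077,0,[])))) (.node (.node (.node (.leaf (606,0,[])) (.leaf (2191,0,[]))) (.node (.leaf (1245,0,[])) (.leaf (3629,0,[87,55,42,27])))) (.node (.node (.leaf (904,0,[57,110,160])) (.leaf (3303,0,[]))) (.leaf (2353,0,[])))))))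

noncomputable def move001101 : Tr (ℕ × ℕ × List ℕ) :=
  .node (.node (.node (.node (.node (.node (.node (.leaf (16,0,[])) (.leaf (1761,0,[]))) (.node (.leaf (856,0,[])) (.leaf (2790,0,[])))) (.node (.node (.leaf (664,0,[])) (.leaf (2243,0,[]))) (.node (.leaf (1283,0,[])) (.leaf (3621,0,[87,55,89,126]))))) (.node (.node (.node (.leaf (351,0,[])) (.leaf (2667,0,[]))) (.node (.leaf (1074,0,[])) (.leaf (3220,0,[57,55,90,201])))) (.node (.node (.leaf (969,0,[])) (.leaf (3135,0,[55,155,192]))) (.leaf (2128,0,[]))))) (.node (.node (.node (.node (.leaf (191,0,[])) (.leaf (2542,0,[]))) (.node (.leaf (963,0,[])) (.leaf (2939,0,[])))) (.node (.node (.leaf (824,0,[])) (.leaf (3029,0,[]))) (.node (.leaf (1998,0,[])) (.leaf (3720,0,[57,56,116,218]))))) (.node (.node (.node (.leaf (507,0,[])) (.leaf (2793,0,[]))) (.node (.leaf (1186,0,[87,94,44,132])) (.leaf (3284,0,[])))) (.node (.node (.leaf (746,0,[])) (.leaf (2638,0,[]))) (.leaf (1637,0,[])))))) (.node (.node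 (.node (.node (.node (.leaf (108,0,[])) (.leaf (2476,0,[]))) (.node (.leaf (909,0,[])) (.leaf (2859,0,[])))) (.node (.node (.leaf (604,0,[87,94,103,248])) (.leaf (2307,0,[]))) (.node (.leaf (1899,0,[88,110,123,156])) (.leaf (3559,0,[]))))) (.node (.node (.node (.leaf (429,0,[])) (.leaf (2053,0,[]))) (.node (.leaf (1125,0,[])) (.leaf (3567,0,[])))) (.node (.node (.leaf (688,0,[])) (.leaf (2569,0,[]))) (.leaf (1579,0,[]))))) (.node (.node (.node (.node (.leaf (167,0,[])) (.leaf (1934,0,[]))) (.node (.leaf (1500,0,[])) (.leaf (3480,0,[])))) (.node (.node (.leaf (721,0,[89,158])) (.leaf (2435,0,[]))) (.leaf (1464,0,[])))) (.node (.node (.node (.leaf (500,0,[88,110,90,179])) (.leaf (2177,0,[]))) (.node (.leaf (1781,0,[])) (.leaf (3387,0,[])))) (.node (.node (.leaf (800,0,[])) (.leaf (3191,0,[87,55,140,199]))) (.leaf (2006,0,[57,93,176,98]))))))) (.node (.node (.node (.node (.node (.node (.leaf (67,0,[])) (.leaf (1788,0,[]))) (.node (.leaf (1306,0,[])) (.leaf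 (3228,0,[56,91,95])))) (.node (.node (.leaf (704,0,[])) (.leaf (2943,0,[]))) (.node (.leaf (1314,0,[])) (.leaf (3721,0,[]))))) (.node (.node (.node (.leaf (245,0,[])) (.leaf (2694,0,[]))) (.node (.leaf (1614,0,[])) (.leaf (3154,0,[])))) (.node (.node (.leaf (1003,0,[])) (.leaf (3051,0,[55,103,121]))) (.leaf (2162,0,[]))))) (.node (.node (.node (.node (.leaf (233,0,[])) (.leaf (2259,0,[56,90,169]))) (.node (.leaf (1463,0,[])) (.leaf (3459,0,[])))) (.node (.node (.leaf (559,0,[])) (.leaf (2834,0,[87,94,44,146]))) (.node (.leaf (1436,0,[])) (.leaf (3766,0,[88,104,125]))))) (.node (.node (.node (.leaf (548,0,[])) (.leaf (2148,0,[]))) (.node (.leaf (1748,0,[])) (.leaf (3344,0,[])))) (.node (.node (.leaf (773,0,[])) (.leaf (2670,0,[]))) (.leaf (2305,0,[])))))) (.node (.node (.node (.node (.node (.leaf (149,0,[])) (.leaf (2278,0,[88,93,140,241]))) (.node (.leaf (1389,0,[])) (.leaf (2904,0,[])))) (.node (.node (.leaf (784,0,[])) (.leaf (2337,0,[]))) (.node (.leaf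 (1962,0,[])) (.leaf (3761,0,[]))))) (.node (.node (.node (.leaf (468,0,[])) (.leaf (2273,0,[155,203]))) (.node (.leaf (1151,0,[])) (.leaf (3533,0,[57,55,43,15])))) (.node (.node (.leaf (716,0,[])) (.leaf (2696,0,[87,93,176,179]))) (.leaf (2234,0,[]))))) (.node (.node (.node (.node (.leaf (311,0,[])) (.leaf (1965,0,[]))) (.node (.leaf (1541,0,[])) (.leaf (3067,0,[])))) (.node (.node (.leaf (611,0,[])) (.leaf (3105,0,[]))) (.leaf (2095,0,[])))) (.node (.node (.node (.leaf (624,0,[])) (.leaf (2208,0,[]))) (.node (.leaf (1818,0,[])) (.leaf (3677,0,[])))) (.node (.node (.leaf (1230,0,[])) (.leaf (3103,0,[56,90,12]))) (.leaf (1730,0,[])))))))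

noncomputable def move00110 : Tr (ℕ × ℕ × List ℕ) := .node move001100 move001101

noncomputable def move001110 : Tr (ℕ × ℕ × List ℕ) :=
  .node (.node (.node (.node (.node (.node (.node (.leaf (19,0,[])) (.leaf (1754,0,[]))) (.node (.leaf (1259,0,[])) (.leaf (3063,0,[116,151])))) (.node (.node (.leaf (654,0,[])) (.leaf (2908,0,[]))) (.node (.leaf (1277,0,[])) (.leaf (3694,0,[]))))) (.node (.node (.node (.leaf (341,0,[])) (.leaf (2658,0,[]))) (.node (.leaf (1067,0,[])) (.leaf (3092,0,[])))) (.node (.node (.leaf (629,0,[])) (.leaf (3068,0,[88,110,140,0]))) (.leaf (2120,0,[]))))) (.node (.node (.node (.node (.leaf (181,0,[])) (.leaf (1872,0,[]))) (.node (.leaf (1415,0,[])) (.leaf (3347,0,[88,55,44,127])))) (.node (.node (.leaf (526,0,[])) (.leaf (2364,0,[]))) (.node (.leaf (1989,0,[])) (.leaf (3769,0,[]))))) (.node (.node (.node (.leaf (498,0,[])) (.leaf (2105,0,[]))) (.node (.leaf (1287,0,[57,56,148])) (.leaf (3272,0,[])))) (.node (.node (.leaf (739,0,[]))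 (.leaf (3234,0,[]))) (.leaf (2262,0,[])))))) (.node (.node (.node (.node (.node (.leaf (99,0,[])) (.leaf (2467,0,[]))) (.node (.leaf (1337,0,[])) (.leaf (3378,0,[])))) (.node (.node (.leaf (735,0,[])) (.leaf (2966,0,[]))) (.node (.leaf (1334,0,[])) (.leaf (3737,0,[]))))) (.node (.node (.node (.leaf (420,0,[])) (.leaf (2700,0,[87,110,43,207]))) (.node (.leaf (1639,0,[])) (.leaf (3560,0,[])))) (.node (.node (.leaf (681,0,[])) (.leaf (2560,0,[]))) (.leaf (1571,0,[]))))) (.node (.node (.node (.node (.leaf (262,0,[])) (.leaf (1926,0,[]))) (.node (.leaf (1014,0,[])) (.leaf (3008,0,[])))) (.node (.node (.leaf (577,0,[])) (.leaf (2919,0,[88,55,43,164]))) (.node (.leaf (1455,0,[])) (.leaf (3785,0,[93,123,98]))))) (.node (.node (.node (.leaf (579,0,[])) (.leaf (2169,0,[]))) (.node (.leaf (1228,0,[])) (.leaf (3650,0,[])))) (.node (.node (.leaf (1187,0,[])) (.leaf (3288,0,[]))) (.leaf (1686,0,[]))))))) (.node (.node (.node (.node (.node (.node (.leaf (57,0,[]))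 (.leaf (1780,0,[]))) (.node (.leaf (876,0,[])) (.leaf (3315,0,[88,56,42,72])))) (.node (.node (.leaf (693,0,[])) (.leaf (2936,0,[]))) (.node (.leaf (1305,0,[])) (.leaf (3717,0,[]))))) (.node (.node (.node (.leaf (367,0,[88,93,140,5])) (.leaf (2080,0,[57,55,43,5]))) (.node (.leaf (1605,0,[])) (.leaf (3141,0,[])))) (.node (.node (.leaf (653,0,[])) (.leaf (2525,0,[]))) (.leaf (2155,0,[]))))) (.node (.node (.node (.node (.leaf (223,0,[])) (.leaf (2469,0,[88,93,42,212]))) (.node (.leaf (1452,0,[])) (.leaf (3246,0,[57,93,198])))) (.node (.node (.leaf (851,0,[])) (.leaf (3011,0,[57,104,117]))) (.node (.leaf (2019,0,[])) (.leaf (3696,0,[]))))) (.node (.node (.node (.leaf (343,0,[])) (.leaf (2817,0,[]))) (.node (.leaf (1740,0,[])) (.leaf (3332,0,[])))) (.node (.node (.leaf (1146,0,[])) (.leaf (2661,0,[]))) (.leaf (1657,0,[])))))) (.node (.node (.node (.node (.node (.leaf (87,0,[])) (.leaf (1843,0,[]))) (.node (.leaf (1378,0,[])) (.leaf (3402,0,[])))) (.node (.node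 (.leaf (501,0,[])) (.leaf (2998,0,[]))) (.node (.leaf (1365,0,[])) (.leaf (3598,0,[]))))) (.node (.node (.node (.leaf (289,0,[])) (.leaf (2755,0,[]))) (.node (.leaf (1143,0,[])) (.leaf (3232,0,[])))) (.node (.node (.leaf (1073,0,[])) (.leaf (3212,0,[]))) (.leaf (1600,0,[]))))) (.node (.node (.node (.node (.leaf (301,0,[])) (.leaf (1956,0,[]))) (.node (.leaf (1040,0,[])) (.leaf (3491,0,[])))) (.node (.node (.leaf (924,0,[])) (.leaf (3098,0,[]))) (.leaf (2087,0,[])))) (.node (.node (.node (.leaf (615,0,[])) (.leaf (2198,0,[]))) (.node (.leaf (1252,0,[])) (.leaf (3507,0,[57,56,103,136])))) (.node (.node (.leaf (901,0,[56,42,30])) (.leaf (3281,0,[55,140,225]))) (.leaf (2362,0,[])))))))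

noncomputable def move001111 : Tr (ℕ × ℕ × List ℕ) :=
  .node (.node (.node (.node (.node (.node (.node (.leaf (38,0,[])) (.leaf (2418,0,[]))) (.node (.leaf (862,0,[])) (.leaf (2803,0,[])))) (.node (.node (.leaf (673,0,[])) (.leaf (2922,0,[]))) (.node (.leaf (1864,0,[])) (.leaf (3490,0,[]))))) (.node (.node (.node (.leaf (224,0,[])) (.leaf (2676,0,[]))) (.node (.leaf (1080,0,[])) (.leaf (3119,0,[])))) (.node (.node (.leaf (641,0,[])) (.leaf (3144,0,[]))) (.leaf (2136,0,[]))))) (.node (.node (.node (.node (.leaf (202,0,[])) (.leaf (1885,0,[]))) (.node (.leaf (1435,0,[])) (.leaf (3436,0,[])))) (.node (.node (.leaf (835,0,[])) (.leaf (2379,0,[]))) (.node (.leaf (2003,0,[])) (.leaf (3690,0,[57,155,109]))))) (.node (.node (.node (.leaf (518,0,[])) (.leaf (2800,0,[]))) (.node (.leaf (1185,0,[])) (.leaf (3298,0,[])))) (.node (.node (.leaf (1129,0,[])) (.leaf (2645,0,[]))) (.leaf (2279,0,[])))))) (.node (.node (.node (.node (.node (.leaf (119,0,[])) (.leaf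 (2242,0,[57,110,42,143]))) (.node (.leaf (916,0,[])) (.leaf (2867,0,[])))) (.node (.node (.leaf (486,0,[])) (.leaf (2983,0,[]))) (.node (.leaf (1691,0,[88,110,140,234])) (.leaf (3622,0,[57,93,91,153]))))) (.node (.node (.node (.leaf (277,0,[])) (.leaf (2060,0,[]))) (.node (.leaf (1653,0,[])) (.leaf (3503,0,[56,104,184])))) (.node (.node (.leaf (1054,0,[])) (.leaf (3197,0,[]))) (.leaf (1586,0,[]))))) (.node (.node (.node (.node (.leaf (283,0,[])) (.leaf (2611,0,[]))) (.node (.leaf (1028,0,[])) (.leaf (3033,0,[])))) (.node (.node (.leaf (672,0,[87,110,89,233])) (.leaf (3087,0,[]))) (.leaf (1474,0,[])))) (.node (.node (.node (.leaf (597,0,[])) (.leaf (2185,0,[]))) (.node (.leaf (1240,0,[])) (.leaf (3397,0,[])))) (.node (.node (.leaf (892,0,[87,56,43,170])) (.leaf (3021,0,[110,140,134]))) (.leaf (2344,0,[]))))))) (.node (.node (.node (.node (.node (.node (.leaf (50,0,[])) (.leaf (1797,0,[]))) (.node (.leaf (1318,0,[])) (.leaf (2837,0,[])))) (.node (.node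 (.leaf (715,0,[])) (.leaf (2283,0,[]))) (.node (.leaf (1320,0,[])) (.leaf (3529,0,[]))))) (.node (.node (.node (.leaf (401,0,[])) (.leaf (2679,0,[87,43,22]))) (.node (.leaf (1106,0,[])) (.leaf (3421,0,[43,225])))) (.node (.node (.leaf (1012,0,[])) (.leaf (2541,0,[]))) (.leaf (2170,0,[]))))) (.node (.node (.node (.node (.leaf (244,0,[])) (.leaf (2442,0,[93,116,69]))) (.node (.leaf (1211,0,[88,110,90,179])) (.leaf (3462,0,[87,56,124])))) (.node (.node (.leaf (702,0,[94,90,149])) (.leaf (2993,0,[87,55,89,20]))) (.node (.leaf (2033,0,[])) (.leaf (3788,0,[]))))) (.node (.node (.node (.leaf (355,0,[])) (.leaf (2156,0,[]))) (.node (.leaf (1756,0,[])) (.leaf (3620,0,[57,55,90,216])))) (.node (.node (.leaf (1168,0,[])) (.leaf (2683,0,[]))) (.leaf (2313,0,[])))))) (.node (.node (.node (.node (.node (.leaf (159,0,[])) (.leaf (2516,0,[]))) (.node (.leaf (944,0,[])) (.leaf (2911,0,[])))) (.node (.node (.leaf (514,0,[])) (.leaf (3010,0,[]))) (.node (.leaf (1970,0,[]))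 (.leaf (3764,0,[]))))) (.node (.node (.node (.leaf (382,0,[87,93,90,160])) (.leaf (2769,0,[]))) (.node (.leaf (1158,0,[])) (.leaf (3467,0,[155,76])))) (.node (.node (.leaf (725,0,[])) (.leaf (2666,0,[55,91,227]))) (.leaf (2245,0,[]))))) (.node (.node (.node (.node (.leaf (200,0,[])) (.leaf (2640,0,[]))) (.node (.leaf (1551,0,[])) (.leaf (3075,0,[])))) (.node (.node (.leaf (618,0,[])) (.leaf (2475,0,[]))) (.leaf (1938,0,[88,56,42,168])))) (.node (.node (.node (.leaf (633,0,[])) (.leaf (2215,0,[]))) (.node (.leaf (1265,0,[])) (.leaf (3681,0,[])))) (.node (.node (.leaf (837,0,[])) (.leaf (2764,0,[]))) (.leaf (2380,0,[])))))))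

noncomputable def move00111 : Tr (ℕ × ℕ × List ℕ) := .node move001110 move001111

noncomputable def move0011 : Tr (ℕ × ℕ × List ℕ) := .node move00110 move00111

noncomputable def move001 : Tr (ℕ × ℕ × List ℕ) := .node move0010 move0011

noncomputable def move00 : Tr (ℕ × ℕ × List ℕ) := .node move000 move001

noncomputable def move010000 : Tr (ℕ × ℕ × List ℕ) :=
  .node (.node (.node (.node (.node (.node (.node (.leaf (2,0,[])) (.leaf (1741,0,[]))) (.node (.leaf (839,0,[])) (.leaf (3323,0,[])))) (.node (.node (.leaf (637,0,[])) (.leaf (2219,0,[]))) (.node (.leaf (1830,0,[])) (.leaf (3437,0,[]))))) (.node (.node (.node (.leaf (324,0,[])) (.leaf (1974,0,[]))) (.node (.leaf (1055,0,[])) (.leaf (3077,0,[])))) (.node (.node (.leaf (620,0,[])) (.leaf (2478,0,[]))) (.leaf (1506,0,[]))))) (.node (.node (.node (.node (.leaf (164,0,[])) (.leaf (2518,0,[]))) (.node (.leaf (946,0,[])) (.leaf (3201,0,[87,55,123,6])))) (.node (.node (.leaf (798,0,[])) (.leaf (2735,0,[91,237])))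 (.node (.leaf (1973,0,[])) (.leaf (3639,0,[87,93,90,106]))))) (.node (.node (.node (.leaf (480,0,[])) (.leaf (2093,0,[]))) (.node (.leaf (1692,0,[])) (.leaf (3253,0,[])))) (.node (.node (.leaf (1096,0,[])) (.leaf (2986,0,[87,110,104,204]))) (.leaf (1616,0,[])))))) (.node (.node (.node (.node (.node (.leaf (82,0,[])) (.leaf (2420,0,[87,123,208]))) (.node (.leaf (1322,0,[])) (.leaf (3164,0,[87,55,176,213])))) (.node (.node (.leaf (718,0,[])) (.leaf (2952,0,[]))) (.node (.leaf (1903,0,[])) (.leaf (3532,0,[]))))) (.node (.node (.node (.leaf (255,0,[])) (.leaf (2705,0,[]))) (.node (.leaf (1626,0,[])) (.leaf (3169,0,[])))) (.node (.node (.leaf (668,0,[])) (.leaf (2544,0,[]))) (.leaf (2173,0,[]))))) (.node (.node (.node (.node (.leaf (247,0,[])) (.leaf (2580,0,[]))) (.node (.leaf (1471,0,[])) (.leaf (3296,0,[91,237])))) (.node (.node (.leaf (872,0,[])) (.leaf (2545,0,[55,90,3]))) (.node (.leaf (2036,0,[])) (.leaf (3747,0,[]))))) (.node (.node (.node (.leaf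 (563,0,[])) (.leaf (2497,0,[87,56,89,143]))) (.node (.leaf (1757,0,[])) (.leaf (3361,0,[])))) (.node (.node (.leaf (995,0,[88,55,104,109])) (.leaf (3280,0,[]))) (.leaf (1675,0,[]))))))) (.node (.node (.node (.node (.node (.node (.leaf (41,0,[])) (.leaf (1769,0,[]))) (.node (.leaf (865,0,[])) (.leaf (2806,0,[])))) (.node (.node (.leaf (435,0,[])) (.leaf (2253,0,[]))) (.node (.leaf (1868,0,[])) (.leaf (3569,0,[87,56,140,107]))))) (.node (.node (.node (.leaf (366,0,[])) (.leaf (2678,0,[]))) (.node (.leaf (1082,0,[])) (.leaf (3521,0,[])))) (.node (.node (.leaf (902,0,[])) (.leaf (3148,0,[]))) (.leaf (2139,0,[]))))) (.node (.node (.node (.node (.leaf (127,0,[])) (.leaf (1887,0,[]))) (.node (.leaf (1438,0,[])) (.leaf (3425,0,[94,104,114])))) (.node (.node (.leaf (542,0,[])) (.leaf (2721,0,[88,89,235]))) (.node (.leaf (1414,0,[])) (.leaf (3675,0,[]))))) (.node (.node (.node (.leaf (522,0,[])) (.leaf (2124,0,[]))) (.node (.leaf (1188,0,[])) (.leaf (3302,0,[]))))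 (.node (.node (.leaf (1133,0,[])) (.leaf (3252,0,[]))) (.leaf (1647,0,[])))))) (.node (.node (.node (.node (.node (.leaf (76,0,[])) (.leaf (1829,0,[]))) (.node (.leaf (1360,0,[])) (.leaf (3393,0,[])))) (.node (.node (.leaf (489,0,[])) (.leaf (2987,0,[]))) (.node (.leaf (1936,0,[])) (.leaf (3582,0,[]))))) (.node (.node (.node (.leaf (279,0,[])) (.leaf (2064,0,[]))) (.node (.leaf (1656,0,[])) (.leaf (3233,0,[110,42,186])))) (.node (.node (.leaf (1057,0,[])) (.leaf (3200,0,[]))) (.leaf (1589,0,[]))))) (.node (.node (.node (.node (.leaf (176,0,[])) (.leaf (2422,0,[88,42,33]))) (.node (.leaf (1030,0,[])) (.leaf (3485,0,[])))) (.node (.node (.leaf (592,0,[])) (.leaf (3045,0,[87,110,43,203]))) (.leaf (2070,0,[])))) (.node (.node (.node (.leaf (600,0,[])) (.leaf (2187,0,[]))) (.node (.leaf (1792,0,[])) (.leaf (3624,0,[104,231])))) (.node (.node (.leaf (1207,0,[])) (.leaf (2726,0,[]))) (.leaf (2348,0,[])))))))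

noncomputable def move010001 : Tr (ℕ × ℕ × List ℕ) :=
  .node (.node (.node (.node (.node (.node (.node (.leaf (12,0,[])) (.leaf (2403,0,[]))) (.node (.leaf (852,0,[])) (.leaf (2784,0,[])))) (.node (.node (.leaf (658,0,[])) (.leaf (2287,0,[88,93,176,151]))) (.node (.leaf (1849,0,[])) (.leaf (3468,0,[]))))) (.node (.node (.node (.leaf (215,0,[])) (.leaf (1990,0,[]))) (.node (.leaf (1069,0,[])) (.leaf (3100,0,[])))) (.node (.node (.leaf (722,0,[88,93,213])) (.leaf (2498,0,[]))) (.leaf (2123,0,[]))))) (.node (.node (.node (.node (.leaf (185,0,[])) (.leaf (1948,0,[]))) (.node (.leaf (1419,0,[])) (.leaf (2933,0,[])))) (.node (.node (.leaf (528,0,[])) (.leaf (2369,0,[]))) (.node (.leaf (1439,0,[87,55,116,160])) (.leaf (3772,0,[]))))) (.node (.node (.node (.leaf (318,0,[])) (.leaf (2107,0,[]))) (.node (.leaf (1706,0,[])) (.leaf (3276,0,[])))) (.node (.node (.leaf (742,0,[])) (.leaf (3085,0,[87,56,89,177]))) (.leaf (2266,0,[])))))) (.node (.node (.node (.node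 (.node (.leaf (64,0,[])) (.leaf (2471,0,[]))) (.node (.leaf (1341,0,[])) (.leaf (3153,0,[87,89,185])))) (.node (.node (.leaf (738,0,[])) (.leaf (2303,0,[]))) (.node (.leaf (1826,0,[])) (.leaf (3552,0,[]))))) (.node (.node (.node (.leaf (424,0,[])) (.leaf (2724,0,[]))) (.node (.leaf (1468,0,[140,232])) (.leaf (3561,0,[])))) (.node (.node (.leaf (1037,0,[])) (.leaf (2564,0,[]))) (.leaf (1574,0,[]))))) (.node (.node (.node (.node (.leaf (266,0,[])) (.leaf (1929,0,[]))) (.node (.leaf (1017,0,[])) (.leaf (3054,0,[57,140,95])))) (.node (.node (.leaf (726,0,[89,158])) (.leaf (2430,0,[]))) (.node (.leaf (1458,0,[])) (.leaf (3794,0,[]))))) (.node (.node (.node (.leaf (582,0,[])) (.leaf (2171,0,[]))) (.node (.leaf (1775,0,[])) (.leaf (3379,0,[])))) (.node (.node (.leaf (1190,0,[])) (.leaf (2707,0,[]))) (.leaf (2331,0,[]))))))) (.node (.node (.node (.node (.node (.node (.leaf (40,0,[])) (.leaf (2436,0,[]))) (.node (.leaf (878,0,[])) (.leaf (3360,0,[])))) (.node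 (.node (.leaf (447,0,[])) (.leaf (2688,0,[0]))) (.node (.leaf (1307,0,[])) (.leaf (3514,0,[]))))) (.node (.node (.node (.leaf (241,0,[])) (.leaf (2022,0,[]))) (.node (.leaf (1608,0,[])) (.leaf (3535,0,[])))) (.node (.node (.leaf (763,0,[87,116,230])) (.leaf (2528,0,[]))) (.leaf (1595,0,[57,56,155,196]))))) (.node (.node (.node (.node (.leaf (226,0,[])) (.leaf (2566,0,[]))) (.node (.leaf (1250,0,[1])) (.leaf (2975,0,[])))) (.node (.node (.leaf (555,0,[])) (.leaf (3047,0,[]))) (.node (.leaf (1431,0,[])) (.leaf (3702,0,[]))))) (.node (.node (.node (.leaf (345,0,[])) (.leaf (2140,0,[]))) (.node (.leaf (1202,0,[])) (.leaf (3336,0,[])))) (.node (.node (.leaf (768,0,[])) (.leaf (2750,0,[87,55,89,20]))) (.leaf (1999,0,[57,123,180])))))) (.node (.node (.node (.node (.node (.leaf (89,0,[])) (.leaf (2501,0,[]))) (.node (.leaf (933,0,[])) (.leaf (3405,0,[])))) (.node (.node (.leaf (776,0,[])) (.leaf (2330,0,[]))) (.node (.leaf (1367,0,[])) (.leaf (3695,0,[94,44,231])))))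 (.node (.node (.node (.leaf (463,0,[])) (.leaf (2758,0,[]))) (.node (.leaf (1673,0,[])) (.leaf (3543,0,[57,93,176,59])))) (.node (.node (.leaf (712,0,[])) (.leaf (2599,0,[]))) (.leaf (2229,0,[]))))) (.node (.node (.node (.node (.leaf (305,0,[])) (.leaf (1959,0,[]))) (.node (.leaf (1534,0,[])) (.leaf (3492,0,[])))) (.node (.node (.leaf (928,0,[])) (.leaf (3059,0,[93,43,172]))) (.leaf (2091,0,[])))) (.node (.node (.node (.leaf (397,0,[])) (.leaf (2753,0,[88,44,129]))) (.node (.leaf (1812,0,[])) (.leaf (3617,0,[57,56,103,198])))) (.node (.node (.leaf (828,0,[])) (.leaf (3309,0,[]))) (.leaf (1726,0,[])))))))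

noncomputable def move01000 : Tr (ℕ × ℕ × List ℕ) := .node move010000 move010001

noncomputable def move010010 : Tr (ℕ × ℕ × List ℕ) :=
  .node (.node (.node (.node (.node (.node (.node (.leaf (13,0,[])) (.leaf (1749,0,[]))) (.node (.leaf (1253,0,[])) (.leaf (2775,0,[])))) (.node (.node (.leaf (648,0,[])) (.leaf (2902,0,[]))) (.node (.leaf (1839,0,[])) (.leaf (3450,0,[]))))) (.node (.node (.node (.leaf (335,0,[])) (.leaf (1982,0,[]))) (.node (.leaf (1063,0,[])) (.leaf (3088,0,[])))) (.node (.node (.leaf (626,0,[])) (.leaf (2489,0,[]))) (.leaf (2114,0,[]))))) (.node (.node (.node (.node (.leaf (175,0,[])) (.leaf (2526,0,[]))) (.node (.leaf (1410,0,[])) (.leaf (3424,0,[])))) (.node (.node (.leaf (808,0,[])) (.leaf (2595,0,[88,93,43,242]))) (.node (.leaf (1393,0,[])) (.leaf (3638,0,[]))))) (.node (.node (.node (.leaf (491,0,[])) (.leaf (2101,0,[]))) (.node (.leaf (1701,0,[])) (.leaf (3260,0,[])))) (.node (.node (.leaf (1104,0,[])) (.leaf (2626,0,[])))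 (.leaf (2257,0,[])))))) (.node (.node (.node (.node (.node (.leaf (93,0,[])) (.leaf (1807,0,[]))) (.node (.leaf (1097,0,[94,43,182])) (.leaf (3206,0,[87,56,140,100])))) (.node (.node (.leaf (467,0,[])) (.leaf (2295,0,[]))) (.node (.leaf (1794,0,[88,94,155,206])) (.leaf (3735,0,[]))))) (.node (.node (.node (.leaf (261,0,[])) (.leaf (2044,0,[]))) (.node (.leaf (1115,0,[])) (.leaf (3555,0,[])))) (.node (.node (.leaf (1027,0,[])) (.leaf (3180,0,[]))) (.leaf (2181,0,[]))))) (.node (.node (.node (.node (.leaf (157,0,[])) (.leaf (2587,0,[]))) (.node (.leaf (1010,0,[])) (.leaf (3003,0,[])))) (.node (.node (.leaf (882,0,[])) (.leaf (2421,0,[]))) (.node (.leaf (1528,0,[88,55,103,75])) (.leaf (3790,0,[57,110,160]))))) (.node (.node (.node (.leaf (572,0,[])) (.leaf (2164,0,[]))) (.node (.leaf (1224,0,[])) (.leaf (3646,0,[])))) (.node (.node (.leaf (790,0,[])) (.leaf (2747,0,[57,56,176,137]))) (.leaf (2324,0,[]))))))) (.node (.node (.node (.node (.node (.node (.leaf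 (33,0,[])) (.leaf (2428,0,[]))) (.node (.leaf (1291,0,[])) (.leaf (3353,0,[])))) (.node (.node (.leaf (687,0,[])) (.leaf (2931,0,[]))) (.node (.leaf (1876,0,[])) (.leaf (3712,0,[]))))) (.node (.node (.node (.leaf (377,0,[])) (.leaf (2684,0,[]))) (.node (.leaf (1599,0,[])) (.leaf (3133,0,[])))) (.node (.node (.leaf (650,0,[])) (.leaf (2521,0,[]))) (.leaf (2149,0,[]))))) (.node (.node (.node (.node (.leaf (133,0,[])) (.leaf (2217,0,[87,110,104,149]))) (.node (.leaf (979,0,[])) (.leaf (3447,0,[])))) (.node (.node (.leaf (846,0,[])) (.leaf (2749,0,[88,55,91,177]))) (.node (.leaf (1424,0,[])) (.leaf (3700,0,[88,110,123,13]))))) (.node (.node (.node (.leaf (532,0,[])) (.leaf (2131,0,[]))) (.node (.leaf (1734,0,[])) (.leaf (3321,0,[])))) (.node (.node (.leaf (761,0,[])) (.leaf (3259,0,[]))) (.leaf (2205,0,[57,140,139])))))) (.node (.node (.node (.node (.node (.leaf (83,0,[])) (.leaf (2490,0,[]))) (.node (.leaf (926,0,[])) (.leaf (3399,0,[])))) (.node (.node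 (.leaf (765,0,[])) (.leaf (2994,0,[]))) (.node (.leaf (1946,0,[])) (.leaf (3591,0,[]))))) (.node (.node (.node (.leaf (455,0,[])) (.leaf (2069,0,[]))) (.node (.leaf (1139,0,[])) (.leaf (3575,0,[88,110,123,203])))) (.node (.node (.leaf (706,0,[])) (.leaf (3207,0,[]))) (.leaf (2144,0,[]))))) (.node (.node (.node (.node (.leaf (182,0,[])) (.leaf (1952,0,[]))) (.node (.leaf (1524,0,[])) (.leaf (3381,0,[87,94,123,71])))) (.node (.node (.leaf (599,0,[])) (.leaf (2454,0,[]))) (.leaf (2081,0,[])))) (.node (.node (.node (.leaf (609,0,[])) (.leaf (2875,0,[]))) (.node (.leaf (1802,0,[])) (.leaf (3409,0,[])))) (.node (.node (.leaf (1216,0,[])) (.leaf (2915,0,[87,56,89,117]))) (.leaf (2356,0,[])))))))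

noncomputable def move010011 : Tr (ℕ × ℕ × List ℕ) :=
  .node (.node (.node (.node (.node (.node (.node (.leaf (18,0,[])) (.leaf (2132,0,[87,93,90,206]))) (.node (.leaf (1273,0,[])) (.leaf (3283,0,[87,55,90,145])))) (.node (.node (.leaf (667,0,[])) (.leaf (2916,0,[]))) (.node (.leaf (1285,0,[])) (.leaf (3587,0,[60]))))) (.node (.node (.node (.leaf (221,0,[])) (.leaf (2671,0,[]))) (.node (.leaf (1582,0,[])) (.leaf (3113,0,[])))) (.node (.node (.leaf (972,0,[])) (.leaf (3138,0,[]))) (.leaf (1817,0,[87,56,123,144]))))) (.node (.node (.node (.node (.leaf (121,0,[])) (.leaf (1881,0,[]))) (.node (.leaf (1428,0,[])) (.leaf (3225,0,[57,55,89,159])))) (.node (.node (.leaf (829,0,[])) (.leaf (2375,0,[]))) (.node (.leaf (1407,0,[])) (.leaf (3662,0,[]))))) (.node (.node (.node (.leaf (512,0,[])) (.leaf (2115,0,[]))) (.node (.leaf (1658,0,[88,56,116,205])) (.leaf (3289,0,[])))) (.node (.node (.leaf (1124,0,[])) (.leaf (3244,0,[]))) (.leaf (1640,0,[])))))) (.node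 (.node (.node (.node (.node (.leaf (113,0,[])) (.leaf (2479,0,[]))) (.node (.leaf (1173,0,[0])) (.leaf (3287,0,[94,140,98])))) (.node (.node (.leaf (748,0,[])) (.leaf (2309,0,[]))) (.node (.leaf (1344,0,[])) (.leaf (3565,0,[]))))) (.node (.node (.node (.leaf (433,0,[])) (.leaf (2055,0,[]))) (.node (.leaf (1195,0,[87,55,116,131])) (.leaf (3570,0,[])))) (.node (.node (.leaf (1048,0,[])) (.leaf (2572,0,[]))) (.leaf (2201,0,[]))))) (.node (.node (.node (.node (.leaf (276,0,[])) (.leaf (2605,0,[]))) (.node (.leaf (1504,0,[])) (.leaf (3481,0,[])))) (.node (.node (.leaf (899,0,[])) (.leaf (3083,0,[]))) (.leaf (1467,0,[])))) (.node (.node (.node (.leaf (378,0,[])) (.leaf (2857,0,[]))) (.node (.leaf (1785,0,[])) (.leaf (3389,0,[])))) (.node (.node (.leaf (803,0,[])) (.leaf (3294,0,[]))) (.leaf (1700,0,[]))))))) (.node (.node (.node (.node (.node (.node (.leaf (46,0,[])) (.leaf (2446,0,[]))) (.node (.leaf (885,0,[])) (.leaf (2970,0,[55,90,129])))) (.node (.node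 (.leaf (708,0,[])) (.leaf (2947,0,[]))) (.node (.leaf (1894,0,[])) (.leaf (3522,0,[]))))) (.node (.node (.node (.leaf (396,0,[])) (.leaf (2698,0,[]))) (.node (.leaf (1102,0,[])) (.leaf (3157,0,[])))) (.node (.node (.leaf (1007,0,[])) (.leaf (2535,0,[]))) (.leaf (1553,0,[]))))) (.node (.node (.node (.node (.leaf (145,0,[])) (.leaf (2320,0,[93,123,100]))) (.node (.leaf (994,0,[])) (.leaf (3171,0,[87,94,116,193])))) (.node (.node (.leaf (697,0,[110,44,21])) (.leaf (2406,0,[]))) (.node (.leaf (1440,0,[])) (.leaf (3726,0,[]))))) (.node (.node (.node (.leaf (552,0,[])) (.leaf (2825,0,[]))) (.node (.leaf (1751,0,[])) (.leaf (3632,0,[])))) (.node (.node (.leaf (775,0,[])) (.leaf (2672,0,[]))) (.leaf (1669,0,[])))))) (.node (.node (.node (.node (.node (.leaf (153,0,[])) (.leaf (2510,0,[]))) (.node (.leaf (939,0,[])) (.leaf (2907,0,[])))) (.node (.node (.leaf (510,0,[])) (.leaf (2340,0,[]))) (.node (.leaf (1966,0,[])) (.leaf (3762,0,[]))))) (.node (.node (.node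 (.leaf (297,0,[])) (.leaf (2086,0,[]))) (.node (.leaf (1155,0,[])) (.leaf (3449,0,[88,90])))) (.node (.node (.leaf (719,0,[])) (.leaf (2607,0,[]))) (.leaf (1913,0,[88,93,91,199]))))) (.node (.node (.node (.node (.leaf (315,0,[])) (.leaf (1967,0,[]))) (.node (.leaf (1049,0,[])) (.leaf (3497,0,[])))) (.node (.node (.leaf (937,0,[])) (.leaf (3108,0,[]))) (.leaf (1497,0,[])))) (.node (.node (.node (.leaf (628,0,[])) (.leaf (2887,0,[]))) (.node (.leaf (1261,0,[])) (.leaf (3611,0,[87,55,89,189])))) (.node (.node (.leaf (1233,0,[])) (.leaf (3316,0,[]))) (.leaf (1733,0,[])))))))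

noncomputable def move01001 : Tr (ℕ × ℕ × List ℕ) := .node move010010 move010011

noncomputable def move0100 : Tr (ℕ × ℕ × List ℕ) := .node move01000 move01001

noncomputable def move010100 : Tr (ℕ × ℕ × List ℕ) :=
  .node (.node (.node (.node (.node (.node (.node (.leaf (3,0,[])) (.leaf (2390,0,[]))) (.node (.leaf (1247,0,[])) (.leaf (3329,0,[])))) (.node (.node (.leaf (643,0,[])) (.leaf (2898,0,[]))) (.node (.leaf (1270,0,[])) (.leaf (3688,0,[]))))) (.node (.node (.node (.leaf (329,0,[])) (.leaf (2649,0,[]))) (.node (.leaf (1561,0,[])) (.leaf (3383,0,[57,44,195])))) (.node (.node (.leaf (950,0,[])) (.leaf (3120,0,[]))) (.leaf (2110,0,[]))))) (.node (.node (.node (.node (.leaf (169,0,[])) (.leaf (1865,0,[]))) (.node (.leaf (1404,0,[])) (.leaf (3248,0,[88,55,90,154])))) (.node (.node (.leaf (519,0,[])) (.leaf (3016,0,[94,90,149]))) (.node (.leaf (1977,0,[])) (.leaf (3630,0,[]))))) (.node (.node (.node (.leaf (308,0,[])) (.leaf (2776,0,[]))) (.node (.leaf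 (1164,0,[])) (.leaf (3267,0,[57,56,155,33])))) (.node (.node (.leaf (1006,0,[94,176,233])) (.leaf (2620,0,[]))) (.leaf (1619,0,[])))))) (.node (.node (.node (.node (.node (.leaf (88,0,[])) (.leaf (1804,0,[]))) (.node (.leaf (1327,0,[])) (.leaf (3374,0,[])))) (.node (.node (.leaf (464,0,[])) (.leaf (2956,0,[]))) (.node (.leaf (1326,0,[])) (.leaf (3653,0,[87,110,44,153]))))) (.node (.node (.node (.leaf (410,0,[])) (.leaf (2040,0,[]))) (.node (.leaf (1631,0,[])) (.leaf (3550,0,[])))) (.node (.node (.leaf (1022,0,[])) (.leaf (2551,0,[]))) (.leaf (2179,0,[]))))) (.node (.node (.node (.node (.leaf (154,0,[])) (.leaf (1918,0,[]))) (.node (.leaf (1476,0,[])) (.leaf (3061,0,[56,155,233])))) (.node (.node (.leaf (570,0,[])) (.leaf (3064,0,[]))) (.node (.leaf (2041,0,[])) (.leaf (3755,0,[]))))) (.node (.node (.node (.leaf (567,0,[])) (.leaf (2161,0,[]))) (.node (.leaf (1222,0,[])) (.leaf (3364,0,[])))) (.node (.node (.leaf (934,0,[87,44,11])) (.leaf (3023,0,[57,94,44,172])))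 (.leaf (1678,0,[]))))))) (.node (.node (.node (.node (.node (.node (.leaf (45,0,[])) (.leaf (2150,0,[93,116,69]))) (.node (.leaf (869,0,[])) (.leaf (3109,0,[88,104,125])))) (.node (.node (.leaf (683,0,[])) (.leaf (2893,0,[57,55,89,233]))) (.node (.leaf (1296,0,[])) (.leaf (3606,0,[57,93,42,145]))))) (.node (.node (.node (.leaf (371,0,[])) (.leaf (2011,0,[]))) (.node (.leaf (1594,0,[])) (.leaf (3372,0,[88,94,155,179])))) (.node (.node (.leaf (988,0,[])) (.leaf (3152,0,[]))) (.leaf (2145,0,[]))))) (.node (.node (.node (.node (.leaf (211,0,[])) (.leaf (1890,0,[]))) (.node (.leaf (976,0,[])) (.leaf (2962,0,[])))) (.node (.node (.leaf (842,0,[])) (.leaf (3040,0,[]))) (.node (.leaf (1417,0,[])) (.leaf (3680,0,[]))))) (.node (.node (.node (.leaf (527,0,[])) (.leaf (2222,0,[110,176,37]))) (.node (.leaf (1191,0,[])) (.leaf (3576,0,[87,110,140,159])))) (.node (.node (.leaf (1137,0,[])) (.leaf (3255,0,[]))) (.leaf (1650,0,[])))))) (.node (.node (.node (.node (.node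 (.leaf (128,0,[])) (.leaf (1833,0,[]))) (.node (.leaf (1366,0,[])) (.leaf (2876,0,[])))) (.node (.node (.leaf (492,0,[])) (.leaf (2990,0,[]))) (.node (.leaf (1942,0,[])) (.leaf (3676,0,[88,43,1]))))) (.node (.node (.node (.leaf (282,0,[])) (.leaf (2066,0,[]))) (.node (.leaf (1660,0,[])) (.leaf (3452,0,[57,56,89,0])))) (.node (.node (.leaf (1061,0,[])) (.leaf (3203,0,[]))) (.leaf (1592,0,[]))))) (.node (.node (.node (.node (.leaf (179,0,[])) (.leaf (2618,0,[]))) (.node (.leaf (1033,0,[])) (.leaf (3488,0,[])))) (.node (.node (.leaf (912,0,[])) (.leaf (2451,0,[]))) (.leaf (1480,0,[])))) (.node (.node (.node (.leaf (388,0,[])) (.leaf (2202,0,[88,104,184]))) (.node (.leaf (1796,0,[])) (.leaf (3669,0,[])))) (.node (.node (.leaf (1212,0,[])) (.leaf (2785,0,[87,93,104,209]))) (.leaf (2352,0,[])))))))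

noncomputable def move010101 : Tr (ℕ × ℕ × List ℕ) :=
  .node (.node (.node (.node (.node (.node (.node (.leaf (29,0,[])) (.leaf (2409,0,[]))) (.node (.leaf (855,0,[])) (.leaf (2787,0,[])))) (.node (.node (.leaf (426,0,[])) (.leaf (2912,0,[]))) (.node (.leaf (1855,0,[])) (.leaf (3475,0,[]))))) (.node (.node (.node (.leaf (350,0,[])) (.leaf (1994,0,[]))) (.node (.leaf (1072,0,[])) (.leaf (3330,0,[57,140,207])))) (.node (.node (.leaf (967,0,[])) (.leaf (3134,0,[]))) (.leaf (2127,0,[]))))) (.node (.node (.node (.node (.leaf (118,0,[])) (.leaf (1877,0,[]))) (.node (.leaf (1113,0,[0])) (.leaf (2938,0,[])))) (.node (.node (.leaf (823,0,[])) (.leaf (3028,0,[]))) (.node (.leaf (1403,0,[])) (.leaf (3656,0,[]))))) (.node (.node (.node (.leaf (506,0,[])) (.leaf (2112,0,[]))) (.node (.leaf (1178,0,[])) (.leaf (3320,0,[88,110,90,192])))) (.node (.node (.leaf (1119,0,[])) (.leaf (2706,0,[57,93,44,37]))) (.leaf (1941,0,[55,155,192])))))) (.node (.node (.node (.node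 (.node (.leaf (107,0,[])) (.leaf (2474,0,[]))) (.node (.leaf (1346,0,[])) (.leaf (3385,0,[])))) (.node (.node (.leaf (478,0,[])) (.leaf (2974,0,[]))) (.node (.leaf (1927,0,[])) (.leaf (3557,0,[]))))) (.node (.node (.node (.leaf (270,0,[])) (.leaf (2730,0,[]))) (.node (.leaf (1646,0,[])) (.leaf (3194,0,[])))) (.node (.node (.leaf (1042,0,[])) (.leaf (3188,0,[]))) (.leaf (2197,0,[]))))) (.node (.node (.node (.node (.leaf (271,0,[])) (.leaf (1933,0,[]))) (.node (.leaf (1020,0,[])) (.leaf (3479,0,[])))) (.node (.node (.leaf (894,0,[])) (.leaf (3079,0,[]))) (.leaf (2057,0,[])))) (.node (.node (.node (.leaf (375,0,[])) (.leaf (2176,0,[]))) (.node (.leaf (1779,0,[])) (.leaf (3386,0,[])))) (.node (.node (.leaf (1196,0,[])) (.leaf (2710,0,[]))) (.leaf (1696,0,[]))))))) (.node (.node (.node (.node (.node (.node (.leaf (43,0,[])) (.leaf (2441,0,[]))) (.node (.leaf (1077,0,[88,56,89,130])) (.leaf (2991,0,[116,144])))) (.node (.node (.leaf (703,0,[])) (.leaf (2531,0,[87,93,44,105])))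 (.node (.leaf (1889,0,[])) (.leaf (3608,0,[89,0]))))) (.node (.node (.node (.leaf (391,0,[])) (.leaf (2026,0,[]))) (.node (.leaf (1099,0,[])) (.leaf (3305,0,[93,44,126])))) (.node (.node (.leaf (788,0,[87,116,230])) (.leaf (2532,0,[]))) (.leaf (1549,0,[]))))) (.node (.node (.node (.node (.leaf (142,0,[])) (.leaf (1905,0,[]))) (.node (.leaf (989,0,[])) (.leaf (3457,0,[])))) (.node (.node (.leaf (558,0,[])) (.leaf (2402,0,[]))) (.node (.leaf (2024,0,[])) (.leaf (3787,0,[]))))) (.node (.node (.node (.leaf (547,0,[])) (.leaf (2146,0,[]))) (.node (.leaf (1747,0,[])) (.leaf (3343,0,[])))) (.node (.node (.leaf (772,0,[])) (.leaf (3268,0,[]))) (.leaf (1665,0,[])))))) (.node (.node (.node (.node (.node (.leaf (92,0,[])) (.leaf (2506,0,[]))) (.node (.leaf (936,0,[])) (.leaf (3408,0,[])))) (.node (.node (.leaf (782,0,[])) (.leaf (2557,0,[57,93,104,10]))) (.node (.leaf (1374,0,[])) (.leaf (3612,0,[]))))) (.node (.node (.node (.leaf (294,0,[])) (.leaf (2761,0,[])))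 (.node (.leaf (1679,0,[])) (.leaf (3239,0,[])))) (.node (.node (.leaf (1081,0,[])) (.leaf (3217,0,[]))) (.leaf (2010,0,[93,123,100]))))) (.node (.node (.node (.node (.leaf (310,0,[])) (.leaf (1964,0,[]))) (.node (.leaf (1539,0,[])) (.leaf (3494,0,[])))) (.node (.node (.leaf (610,0,[])) (.leaf (3104,0,[]))) (.leaf (1494,0,[])))) (.node (.node (.node (.leaf (622,0,[])) (.leaf (2207,0,[]))) (.node (.leaf (1258,0,[])) (.leaf (3420,0,[])))) (.node (.node (.leaf (831,0,[])) (.leaf (3269,0,[57,89,163]))) (.leaf (2370,0,[])))))))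

noncomputable def move01010 : Tr (ℕ × ℕ × List ℕ) := .node move010100 move010101

noncomputable def move010110 : Tr (ℕ × ℕ × List ℕ) :=
  .node (.node (.node (.node (.node (.node (.node (.leaf (9,0,[])) (.leaf (2399,0,[]))) (.node (.leaf (849,0,[])) (.leaf (2961,0,[94,91,75])))) (.node (.node (.leaf (419,0,[])) (.leaf (2906,0,[]))) (.node (.leaf (1845,0,[])) (.leaf (3460,0,[]))))) (.node (.node (.node (.leaf (339,0,[])) (.leaf (2656,0,[]))) (.node (.leaf (1570,0,[])) (.leaf (3091,0,[])))) (.node (.node (.leaf (959,0,[])) (.leaf (2493,0,[]))) (.leaf (1515,0,[]))))) (.node (.node (.node (.node (.leaf (141,0,[57,110,42,143])) (.leaf (1871,0,[]))) (.node (.leaf (956,0,[])) (.leaf (3107,0,[55,155,204])))) (.node (.node (.leaf (814,0,[])) (.leaf (3020,0,[]))) (.node (.leaf (1988,0,[])) (.leaf (3768,0,[]))))) (.node (.node (.node (.leaf (497,0,[])) (.leaf (2783,0,[]))) (.node (.leaf (1702,0,[])) (.leaf (3498,0,[57,93,104,173])))) (.node (.node (.leaf (1110,0,[]))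 (.leaf (2957,0,[57,90,205]))) (.leaf (2261,0,[])))))) (.node (.node (.node (.node (.node (.leaf (61,0,[])) (.leaf (2466,0,[]))) (.node (.leaf (1336,0,[])) (.leaf (3123,0,[55,123,99])))) (.node (.node (.leaf (471,0,[])) (.leaf (2300,0,[]))) (.node (.leaf (1332,0,[])) (.leaf (3546,0,[]))))) (.node (.node (.node (.leaf (264,0,[])) (.leaf (2047,0,[]))) (.node (.leaf (1638,0,[])) (.leaf (3185,0,[])))) (.node (.node (.leaf (1032,0,[])) (.leaf (2597,0,[88,93,89,6]))) (.leaf (2186,0,[]))))) (.node (.node (.node (.node (.leaf (160,0,[])) (.leaf (2593,0,[]))) (.node (.leaf (1488,0,[])) (.leaf (3007,0,[])))) (.node (.node (.leaf (576,0,[])) (.leaf (3071,0,[]))) (.node (.leaf (2049,0,[])) (.leaf (3775,0,[]))))) (.node (.node (.node (.leaf (368,0,[])) (.leaf (2168,0,[]))) (.node (.leaf (1227,0,[])) (.leaf (3446,0,[88,44,100])))) (.node (.node (.leaf (794,0,[])) (.leaf (3038,0,[56,155,167]))) (.leaf (1698,0,[88,42,150]))))))) (.node (.node (.node (.node (.node (.node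 (.leaf (37,0,[])) (.leaf (2433,0,[]))) (.node (.leaf (1297,0,[])) (.leaf (2818,0,[])))) (.node (.node (.leaf (444,0,[])) (.leaf (2265,0,[]))) (.node (.leaf (1304,0,[])) (.leaf (3558,0,[93,91,234]))))) (.node (.node (.node (.leaf (238,0,[])) (.leaf (2018,0,[]))) (.node (.leaf (1092,0,[])) (.leaf (3139,0,[])))) (.node (.node (.leaf (941,0,[90,77])) (.leaf (3160,0,[]))) (.leaf (2154,0,[]))))) (.node (.node (.node (.node (.leaf (136,0,[])) (.leaf (2563,0,[]))) (.node (.leaf (1451,0,[])) (.leaf (2971,0,[])))) (.node (.node (.leaf (850,0,[])) (.leaf (2391,0,[]))) (.node (.leaf (1427,0,[])) (.leaf (3783,0,[]))))) (.node (.node (.node (.leaf (342,0,[])) (.leaf (2816,0,[]))) (.node (.leaf (1739,0,[])) (.leaf (3328,0,[])))) (.node (.node (.leaf (813,0,[88,55,103,76])) (.leaf (2660,0,[]))) (.leaf (2294,0,[])))))) (.node (.node (.node (.node (.node (.leaf (138,0,[])) (.leaf (2496,0,[]))) (.node (.leaf (929,0,[])) (.leaf (2892,0,[])))) (.node (.node (.leaf (771,0,[]))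 (.leaf (2602,0,[87,155,12]))) (.node (.leaf (1951,0,[])) (.leaf (3647,0,[57,56,104,125]))))) (.node (.node (.node (.leaf (460,0,[])) (.leaf (2754,0,[]))) (.node (.leaf (1142,0,[])) (.leaf (3585,0,[])))) (.node (.node (.leaf (1071,0,[])) (.leaf (2779,0,[87,56,91,199]))) (.leaf (2092,0,[87,94,214]))))) (.node (.node (.node (.node (.leaf (300,0,[])) (.leaf (1955,0,[]))) (.node (.leaf (1529,0,[])) (.leaf (3057,0,[])))) (.node (.node (.leaf (922,0,[])) (.leaf (2459,0,[]))) (.leaf (1487,0,[])))) (.node (.node (.node (.leaf (394,0,[])) (.leaf (2878,0,[]))) (.node (.leaf (1808,0,[])) (.leaf (3673,0,[])))) (.node (.node (.leaf (1144,0,[57,56,43,188])) (.leaf (3308,0,[]))) (.leaf (1723,0,[])))))))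

noncomputable def move010111 : Tr (ℕ × ℕ × List ℕ) :=
  .node (.node (.node (.node (.node (.node (.node (.leaf (21,0,[])) (.leaf (1766,0,[]))) (.node (.leaf (1279,0,[])) (.leaf (2820,0,[])))) (.node (.node (.leaf (432,0,[])) (.leaf (2250,0,[]))) (.node (.leaf (1863,0,[])) (.leaf (3703,0,[]))))) (.node (.node (.node (.leaf (360,0,[])) (.leaf (2675,0,[]))) (.node (.leaf (1523,0,[55,116,102])) (.leaf (3517,0,[])))) (.node (.node (.leaf (978,0,[])) (.leaf (3142,0,[]))) (.leaf (2135,0,[]))))) (.node (.node (.node (.node (.leaf (201,0,[])) (.leaf (1961,0,[57,94,116,148]))) (.node (.leaf (970,0,[])) (.leaf (2951,0,[])))) (.node (.node (.leaf (538,0,[])) (.leaf (2378,0,[]))) (.node (.leaf (1789,0,[44,194])) (.leaf (3667,0,[]))))) (.node (.node (.node (.leaf (516,0,[])) (.leaf (2662,0,[88,94,116,2]))) (.node (.leaf (1184,0,[])) (.leaf (3297,0,[])))) (.node (.node (.leaf (1128,0,[])) (.leaf (3247,0,[]))) (.leaf (2264,0,[57,56,42,100])))))) (.node (.node (.node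 (.node (.node (.leaf (73,0,[])) (.leaf (2482,0,[]))) (.node (.leaf (1356,0,[])) (.leaf (2866,0,[])))) (.node (.node (.leaf (751,0,[])) (.leaf (2982,0,[]))) (.node (.leaf (1347,0,[])) (.leaf (3574,0,[]))))) (.node (.node (.node (.leaf (439,0,[])) (.leaf (2059,0,[]))) (.node (.leaf (1131,0,[])) (.leaf (3390,0,[87,94,42,135])))) (.node (.node (.leaf (1052,0,[])) (.leaf (3195,0,[]))) (.leaf (2206,0,[]))))) (.node (.node (.node (.node (.leaf (281,0,[])) (.leaf (2610,0,[]))) (.node (.leaf (1510,0,[])) (.leaf (3031,0,[])))) (.node (.node (.leaf (588,0,[])) (.leaf (2443,0,[]))) (.leaf (1473,0,[])))) (.node (.node (.node (.leaf (477,0,[176,216])) (.leaf (2862,0,[]))) (.node (.leaf (1628,0,[88,56,42,168])) (.leaf (3395,0,[])))) (.node (.node (.leaf (1205,0,[])) (.leaf (2722,0,[]))) (.leaf (2013,0,[88,110,104,181]))))))) (.node (.node (.node (.node (.node (.node (.leaf (77,0,[])) (.leaf (2058,0,[87,93,44,33]))) (.node (.leaf (888,0,[])) (.leaf (3369,0,[])))) (.node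 (.node (.leaf (458,0,[])) (.leaf (2282,0,[]))) (.node (.leaf (1898,0,[])) (.leaf (3715,0,[55,89,111]))))) (.node (.node (.node (.leaf (400,0,[])) (.leaf (2032,0,[]))) (.node (.leaf (1105,0,[])) (.leaf (3545,0,[])))) (.node (.node (.leaf (665,0,[])) (.leaf (2540,0,[]))) (.leaf (1556,0,[]))))) (.node (.node (.node (.node (.leaf (243,0,[])) (.leaf (1912,0,[]))) (.node (.leaf (999,0,[])) (.leaf (3304,0,[88,110,104,16])))) (.node (.node (.leaf (867,0,[])) (.leaf (2729,0,[57,94,42,188]))) (.node (.leaf (1443,0,[])) (.leaf (3740,0,[57,55,42,204]))))) (.node (.node (.node (.leaf (354,0,[])) (.leaf (2829,0,[]))) (.node (.leaf (1215,0,[])) (.leaf (3357,0,[])))) (.node (.node (.leaf (778,0,[])) (.leaf (3275,0,[]))) (.leaf (2311,0,[])))))) (.node (.node (.node (.node (.node (.leaf (98,0,[])) (.leaf (1857,0,[]))) (.node (.leaf (1396,0,[])) (.leaf (2910,0,[])))) (.node (.node (.leaf (513,0,[])) (.leaf (2347,0,[]))) (.node (.leaf (1382,0,[])) (.leaf (3618,0,[])))))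 (.node (.node (.node (.leaf (476,0,[])) (.leaf (2090,0,[]))) (.node (.leaf (1687,0,[])) (.leaf (3443,0,[87,140,159])))) (.node (.node (.leaf (724,0,[])) (.leaf (2612,0,[]))) (.leaf (2244,0,[]))))) (.node (.node (.node (.node (.leaf (319,0,[])) (.leaf (1971,0,[]))) (.node (.leaf (1550,0,[])) (.leaf (3499,0,[])))) (.node (.node (.leaf (617,0,[])) (.leaf (3112,0,[]))) (.leaf (1693,0,[57,56,155,188])))) (.node (.node (.node (.leaf (407,0,[])) (.leaf (2677,0,[88,56,155,218]))) (.node (.leaf (1827,0,[])) (.leaf (3434,0,[])))) (.node (.node (.leaf (1239,0,[])) (.leaf (2762,0,[]))) (.leaf (1738,0,[])))))))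

noncomputable def move01011 : Tr (ℕ × ℕ × List ℕ) := .node move010110 move010111

noncomputable def move0101 : Tr (ℕ × ℕ × List ℕ) := .node move01010 move01011

noncomputable def move010 : Tr (ℕ × ℕ × List ℕ) := .node move0100 move0101

noncomputable def move011000 : Tr (ℕ × ℕ × List ℕ) :=
  .node (.node (.node (.node (.node (.node (.node (.leaf (5,0,[])) (.leaf (1743,0,[]))) (.node (.leaf (841,0,[])) (.leaf (3326,0,[])))) (.node (.node (.leaf (640,0,[])) (.leaf (2221,0,[]))) (.node (.leaf (1269,0,[])) (.leaf (3609,0,[60]))))) (.node (.node (.node (.leaf (204,0,[])) (.leaf (2646,0,[]))) (.node (.leaf (1558,0,[])) (.leaf (3080,0,[])))) (.node (.node (.leaf (621,0,[])) (.leaf (2491,0,[87,55,176,247]))) (.leaf (2108,0,[]))))) (.node (.node (.node (.node (.leaf (104,0,[])) (.leaf (1861,0,[]))) (.node (.leaf (1401,0,[])) (.leaf (2917,0,[])))) (.node (.node (.leaf (517,0,[])) (.leaf (2355,0,[]))) (.node (.leaf (1387,0,[])) (.leaf (3645,0,[87,176,230])))))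 (.node (.node (.node (.leaf (306,0,[])) (.leaf (2774,0,[]))) (.node (.leaf (1162,0,[])) (.leaf (3254,0,[])))) (.node (.node (.leaf (729,0,[])) (.leaf (2617,0,[]))) (.leaf (2099,0,[94,176,233])))))) (.node (.node (.node (.node (.node (.leaf (54,0,[])) (.leaf (2457,0,[]))) (.node (.leaf (1324,0,[])) (.leaf (3373,0,[])))) (.node (.node (.leaf (462,0,[])) (.leaf (2955,0,[]))) (.node (.leaf (1906,0,[])) (.leaf (3682,0,[57,56,90,97]))))) (.node (.node (.node (.leaf (408,0,[])) (.leaf (2708,0,[]))) (.node (.leaf (1629,0,[])) (.leaf (3549,0,[])))) (.node (.node (.leaf (670,0,[])) (.leaf (2546,0,[]))) (.leaf (1560,0,[]))))) (.node (.node (.node (.node (.leaf (248,0,[])) (.leaf (2582,0,[]))) (.node (.leaf (1004,0,[])) (.leaf (3461,0,[88,93,90,238])))) (.node (.node (.leaf (875,0,[])) (.leaf (2414,0,[]))) (.node (.leaf (1447,0,[])) (.leaf (3784,0,[88,93,44,119]))))) (.node (.node (.node (.leaf (358,0,[])) (.leaf (2835,0,[]))) (.node (.leaf (1220,0,[])) (.leaf (3512,0,[88,110,91,241]))))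 (.node (.node (.leaf (1174,0,[])) (.leaf (2734,0,[88,94,116,60]))) (.leaf (2152,0,[57,56,91,74]))))))) (.node (.node (.node (.node (.node (.node (.leaf (32,0,[33])) (.leaf (1771,0,[]))) (.node (.leaf (1286,0,[])) (.leaf (3213,0,[87,93,191])))) (.node (.node (.leaf (437,0,[])) (.leaf (2697,0,[57,94,90,238]))) (.node (.leaf (1870,0,[])) (.leaf (3704,0,[57,93,104,146]))))) (.node (.node (.node (.leaf (228,0,[])) (.leaf (2008,0,[]))) (.node (.leaf (1591,0,[])) (.leaf (3524,0,[])))) (.node (.node (.leaf (985,0,[])) (.leaf (2515,0,[]))) (.leaf (1533,0,[]))))) (.node (.node (.node (.node (.leaf (208,0,[])) (.leaf (2554,0,[]))) (.node (.leaf (974,0,[])) (.leaf (3299,0,[57,56,44,158])))) (.node (.node (.leaf (840,0,[])) (.leaf (2384,0,[]))) (.node (.leaf (2007,0,[])) (.leaf (3777,0,[]))))) (.node (.node (.node (.leaf (525,0,[])) (.leaf (2126,0,[]))) (.node (.leaf (1725,0,[])) (.leaf (3310,0,[])))) (.node (.node (.leaf (756,0,[])) (.leaf (2651,0,[]))) (.leaf (2285,0,[]))))))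 (.node (.node (.node (.node (.node (.leaf (78,0,[])) (.leaf (1831,0,[]))) (.node (.leaf (920,0,[])) (.leaf (3257,0,[94,116,174])))) (.node (.node (.leaf (758,0,[])) (.leaf (2988,0,[]))) (.node (.leaf (1354,0,[])) (.leaf (3584,0,[]))))) (.node (.node (.node (.leaf (446,0,[])) (.leaf (2065,0,[]))) (.node (.leaf (1659,0,[])) (.leaf (3579,0,[])))) (.node (.node (.leaf (701,0,[])) (.leaf (3049,0,[93,123,100]))) (.leaf (2214,0,[]))))) (.node (.node (.node (.node (.leaf (290,0,[])) (.leaf (2615,0,[]))) (.node (.leaf (1516,0,[])) (.leaf (3235,0,[87,93,103,75])))) (.node (.node (.leaf (910,0,[])) (.leaf (3093,0,[]))) (.leaf (1478,0,[])))) (.node (.node (.node (.leaf (602,0,[])) (.leaf (2613,0,[57,94,104,184]))) (.node (.leaf (1243,0,[])) (.leaf (3401,0,[])))) (.node (.node (.leaf (961,0,[88,55,104,109])) (.leaf (3256,0,[88,93,104,213]))) (.leaf (1710,0,[])))))))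

noncomputable def move011001 : Tr (ℕ × ℕ × List ℕ) :=
  .node (.node (.node (.node (.node (.node (.node (.leaf (14,0,[])) (.leaf (1759,0,[]))) (.node (.leaf (1266,0,[])) (.leaf (3341,0,[])))) (.node (.node (.leaf (660,0,[])) (.leaf (2239,0,[]))) (.node (.leaf (1852,0,[])) (.leaf (3471,0,[]))))) (.node (.node (.node (.leaf (348,0,[])) (.leaf (2664,0,[]))) (.node (.leaf (1154,0,[33])) (.leaf (3214,0,[88,94,155,138])))) (.node (.node (.leaf (632,0,[])) (.leaf (2499,0,[]))) (.leaf (1520,0,[]))))) (.node (.node (.node (.node (.leaf (187,0,[])) (.leaf (2538,0,[]))) (.node (.leaf (960,0,[])) (.leaf (3307,0,[88,94,155,127])))) (.node (.node (.leaf (820,0,[])) (.leaf (3025,0,[]))) (.node (.leaf (1400,0,[])) (.leaf (3691,0,[57,94,155,218]))))) (.node (.node (.node (.leaf (504,0,[])) (.leaf (2789,0,[]))) (.node (.leaf (1709,0,[])) (.leaf (3605,0,[])))) (.node (.node (.leaf (744,0,[])) (.leaf (2635,0,[]))) (.leaf (2268,0,[])))))) (.node (.node (.node (.node (.node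 (.leaf (105,0,[])) (.leaf (2473,0,[]))) (.node (.leaf (907,0,[])) (.leaf (3271,0,[57,55,140,161])))) (.node (.node (.leaf (475,0,[])) (.leaf (2972,0,[]))) (.node (.leaf (1925,0,[])) (.leaf (3741,0,[]))))) (.node (.node (.node (.leaf (269,0,[])) (.leaf (2727,0,[]))) (.node (.leaf (1643,0,[])) (.leaf (3563,0,[])))) (.node (.node (.leaf (686,0,[])) (.leaf (3186,0,[]))) (.leaf (2194,0,[]))))) (.node (.node (.node (.node (.leaf (165,0,[])) (.leaf (2230,0,[57,110,90,211]))) (.node (.leaf (1496,0,[])) (.leaf (3097,0,[88,93,42,18])))) (.node (.node (.leaf (580,0,[])) (.leaf (2771,0,[57,56,116,65]))) (.leaf (1461,0,[])))) (.node (.node (.node (.leaf (585,0,[])) (.leaf (2851,0,[]))) (.node (.leaf (1231,0,[])) (.leaf (3384,0,[])))) (.node (.node (.leaf (1193,0,[])) (.leaf (3027,0,[88,110,89,9]))) (.leaf (1694,0,[]))))))) (.node (.node (.node (.node (.node (.node (.leaf (63,0,[])) (.leaf (1923,0,[56,42,30]))) (.node (.leaf (1303,0,[])) (.leaf (3149,0,[88,110,89,157]))))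 (.node (.node (.leaf (449,0,[])) (.leaf (2270,0,[]))) (.node (.leaf (1312,0,[])) (.leaf (3515,0,[]))))) (.node (.node (.node (.leaf (242,0,[])) (.leaf (2691,0,[]))) (.node (.leaf (1098,0,[])) (.leaf (3537,0,[])))) (.node (.node (.leaf (1000,0,[])) (.leaf (3166,0,[]))) (.leaf (2158,0,[]))))) (.node (.node (.node (.node (.leaf (229,0,[])) (.leaf (2568,0,[]))) (.node (.leaf (987,0,[])) (.leaf (3456,0,[])))) (.node (.node (.leaf (858,0,[])) (.leaf (2980,0,[90,77]))) (.node (.leaf (1434,0,[])) (.leaf (3707,0,[]))))) (.node (.node (.node (.leaf (545,0,[])) (.leaf (2760,0,[94,176,233]))) (.node (.leaf (1535,0,[1])) (.leaf (3566,0,[57,110,91,12])))) (.node (.node (.leaf (770,0,[])) (.leaf (3266,0,[]))) (.leaf (2301,0,[])))))) (.node (.node (.node (.node (.node (.leaf (144,0,[])) (.leaf (2504,0,[]))) (.node (.leaf (1385,0,[])) (.leaf (2900,0,[])))) (.node (.node (.leaf (779,0,[])) (.leaf (2333,0,[]))) (.node (.leaf (1371,0,[])) (.leaf (3760,0,[]))))) (.node (.node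 (.node (.leaf (293,0,[])) (.leaf (2079,0,[]))) (.node (.leaf (1676,0,[])) (.leaf (3453,0,[57,55,103,37])))) (.node (.node (.leaf (883,0,[87,110,104,149])) (.leaf (2601,0,[]))) (.leaf (2232,0,[]))))) (.node (.node (.node (.node (.leaf (189,0,[])) (.leaf (1960,0,[]))) (.node (.leaf (1044,0,[])) (.leaf (3118,0,[57,110,176,205])))) (.node (.node (.leaf (930,0,[])) (.leaf (3102,0,[]))) (.leaf (1493,0,[])))) (.node (.node (.node (.leaf (399,0,[])) (.leaf (2204,0,[]))) (.node (.leaf (1309,0,[57,56,44,189])) (.leaf (3432,0,[87,93,44,186])))) (.node (.node (.leaf (1226,0,[])) (.leaf (2801,0,[57,94,104,120]))) (.leaf (1728,0,[])))))))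

noncomputable def move01100 : Tr (ℕ × ℕ × List ℕ) := .node move011000 move011001

noncomputable def move011010 : Tr (ℕ × ℕ × List ℕ) :=
  .node (.node (.node (.node (.node (.node (.node (.leaf (8,0,[])) (.leaf (2397,0,[]))) (.node (.leaf (847,0,[])) (.leaf (2777,0,[])))) (.node (.node (.leaf (418,0,[])) (.leaf (2231,0,[]))) (.node (.leaf (1842,0,[])) (.leaf (3692,0,[]))))) (.node (.node (.node (.leaf (210,0,[])) (.leaf (1983,0,[]))) (.node (.leaf (1065,0,[])) (.leaf (3506,0,[])))) (.node (.node (.leaf (627,0,[])) (.leaf (2492,0,[]))) (.leaf (2116,0,[]))))) (.node (.node (.node (.node (.leaf (178,0,[])) (.leaf (2529,0,[]))) (.node (.leaf (955,0,[])) (.leaf (3196,0,[93,89,222])))) (.node (.node (.leaf (811,0,[])) (.leaf (2703,0,[88,123,206]))) (.node (.leaf (1985,0,[])) (.leaf (3730,0,[88,55,176,143]))))) (.node (.node (.node (.leaf (312,0,[])) (.leaf (2781,0,[]))) (.node (.leaf (1169,0,[])) (.leaf (3454,0,[88,93,42,61])))) (.node (.node (.leaf (1107,0,[]))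 (.leaf (2627,0,[]))) (.leaf (1704,0,[88,110,104,152])))))) (.node (.node (.node (.node (.node (.leaf (60,0,[])) (.leaf (1809,0,[]))) (.node (.leaf (1333,0,[])) (.leaf (2848,0,[])))) (.node (.node (.leaf (731,0,[])) (.leaf (2963,0,[]))) (.node (.leaf (1915,0,[])) (.leaf (3674,0,[87,93,44,0]))))) (.node (.node (.node (.leaf (416,0,[])) (.leaf (2718,0,[]))) (.node (.leaf (1116,0,[])) (.leaf (3183,0,[])))) (.node (.node (.leaf (678,0,[])) (.leaf (3127,0,[110,89,186]))) (.leaf (1568,0,[]))))) (.node (.node (.node (.node (.leaf (258,0,[])) (.leaf (1924,0,[]))) (.node (.leaf (1485,0,[])) (.leaf (3005,0,[])))) (.node (.node (.leaf (574,0,[])) (.leaf (2423,0,[]))) (.node (.leaf (1453,0,[])) (.leaf (3765,0,[]))))) (.node (.node (.node (.leaf (575,0,[])) (.leaf (2843,0,[]))) (.node (.leaf (1768,0,[])) (.leaf (3371,0,[])))) (.node (.node (.leaf (1183,0,[])) (.leaf (3084,0,[87,55,10]))) (.leaf (1684,0,[]))))))) (.node (.node (.node (.node (.node (.node (.leaf (53,0,[]))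 (.leaf (1777,0,[]))) (.node (.leaf (1294,0,[])) (.leaf (3355,0,[])))) (.node (.node (.leaf (689,0,[])) (.leaf (2932,0,[]))) (.node (.leaf (1878,0,[])) (.leaf (3627,0,[87,94,91,121]))))) (.node (.node (.node (.leaf (235,0,[])) (.leaf (2685,0,[]))) (.node (.leaf (1602,0,[])) (.leaf (3531,0,[])))) (.node (.node (.leaf (651,0,[])) (.leaf (3158,0,[]))) (.leaf (1542,0,[]))))) (.node (.node (.node (.node (.leaf (219,0,[])) (.leaf (2561,0,[]))) (.node (.leaf (1369,0,[88,94,89,115])) (.leaf (2968,0,[])))) (.node (.node (.leaf (549,0,[])) (.leaf (2591,0,[87,93,123,157]))) (.node (.leaf (2015,0,[])) (.leaf (3781,0,[]))))) (.node (.node (.node (.leaf (535,0,[])) (.leaf (2814,0,[]))) (.node (.leaf (1197,0,[])) (.leaf (3325,0,[])))) (.node (.node (.leaf (1145,0,[])) (.leaf (2657,0,[]))) (.leaf (1922,0,[60])))))) (.node (.node (.node (.node (.node (.leaf (85,0,[])) (.leaf (1838,0,[]))) (.node (.leaf (1373,0,[])) (.leaf (2888,0,[])))) (.node (.node (.leaf (767,0,[]))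 (.leaf (2326,0,[]))) (.node (.leaf (1363,0,[])) (.leaf (3731,0,[88,93,104,216]))))) (.node (.node (.node (.leaf (287,0,[])) (.leaf (2071,0,[]))) (.node (.leaf (1667,0,[])) (.leaf (3583,0,[])))) (.node (.node (.leaf (707,0,[])) (.leaf (3210,0,[]))) (.leaf (1622,0,[88,55,104,195]))))) (.node (.node (.node (.node (.leaf (299,0,[])) (.leaf (2622,0,[]))) (.node (.leaf (1038,0,[])) (.leaf (3219,0,[88,110,5])))) (.node (.node (.leaf (919,0,[])) (.leaf (3096,0,[]))) (.leaf (2083,0,[])))) (.node (.node (.node (.leaf (393,0,[])) (.leaf (2196,0,[]))) (.node (.leaf (1805,0,[])) (.leaf (3411,0,[])))) (.node (.node (.leaf (822,0,[])) (.leaf (2870,0,[57,176,178]))) (.leaf (1719,0,[])))))))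

noncomputable def move011011 : Tr (ℕ × ℕ × List ℕ) :=
  .node (.node (.node (.node (.node (.node (.node (.leaf (34,0,[])) (.leaf (2415,0,[]))) (.node (.leaf (1276,0,[])) (.leaf (2799,0,[])))) (.node (.node (.leaf (496,0,[20])) (.leaf (2249,0,[]))) (.node (.leaf (1335,0,[57,110,104,172])) (.leaf (3577,0,[57,93,140,190]))))) (.node (.node (.node (.leaf (222,0,[])) (.leaf (2001,0,[]))) (.node (.leaf (1585,0,[])) (.leaf (3115,0,[])))) (.node (.node (.leaf (975,0,[])) (.leaf (2507,0,[]))) (.leaf (1527,0,[]))))) (.node (.node (.node (.node (.leaf (123,0,[])) (.leaf (1882,0,[]))) (.node (.leaf (968,0,[])) (.leaf (3426,0,[87,110,90,59])))) (.node (.node (.leaf (537,0,[])) (.leaf (2596,0,[87,104,138]))) (.node (.leaf (1630,0,[88,116,125])) (.leaf (3671,0,[87,116,151]))))) (.node (.node (.node (.leaf (326,0,[])) (.leaf (2797,0,[]))) (.node (.leaf (1182,0,[])) (.leaf (3572,0,[87,123,119])))) (.node (.node (.leaf (1126,0,[])) (.leaf (3245,0,[]))) (.leaf (1642,0,[]))))))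 (.node (.node (.node (.node (.node (.leaf (72,0,[])) (.leaf (1825,0,[]))) (.node (.leaf (1353,0,[])) (.leaf (2863,0,[])))) (.node (.node (.leaf (484,0,[])) (.leaf (2979,0,[]))) (.node (.leaf (1932,0,[])) (.leaf (3745,0,[]))))) (.node (.node (.node (.leaf (436,0,[])) (.leaf (2056,0,[]))) (.node (.leaf (1651,0,[])) (.leaf (3540,0,[56,123,202])))) (.node (.node (.leaf (692,0,[])) (.leaf (3193,0,[]))) (.leaf (1583,0,[]))))) (.node (.node (.node (.node (.leaf (171,0,[])) (.leaf (2608,0,[]))) (.node (.leaf (1507,0,[])) (.leaf (3162,0,[87,93,113])))) (.node (.node (.leaf (587,0,[])) (.leaf (2925,0,[87,94,60]))) (.leaf (1752,0,[93,42,102])))) (.node (.node (.node (.leaf (595,0,[])) (.leaf (2183,0,[]))) (.node (.leaf (1787,0,[])) (.leaf (3495,0,[88,93,155,144])))) (.node (.node (.leaf (1203,0,[])) (.leaf (2720,0,[]))) (.leaf (2341,0,[]))))))) (.node (.node (.node (.node (.node (.node (.leaf (74,0,[])) (.leaf (2449,0,[]))) (.node (.leaf (887,0,[])) (.leaf (2832,0,[]))))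 (.node (.node (.leaf (711,0,[])) (.leaf (2948,0,[]))) (.node (.leaf (1841,0,[88,94,89,114])) (.leaf (3724,0,[]))))) (.node (.node (.node (.leaf (249,0,[])) (.leaf (2031,0,[]))) (.node (.leaf (1103,0,[])) (.leaf (3542,0,[])))) (.node (.node (.leaf (1008,0,[])) (.leaf (2537,0,[]))) (.leaf (2167,0,[]))))) (.node (.node (.node (.node (.leaf (147,0,[])) (.leaf (2575,0,[]))) (.node (.leaf (1214,0,[57,56,44,237])) (.leaf (2985,0,[])))) (.node (.node (.leaf (562,0,[])) (.leaf (3017,0,[88,55,116,183]))) (.node (.leaf (2029,0,[])) (.leaf (3728,0,[]))))) (.node (.node (.node (.leaf (352,0,[])) (.leaf (2819,0,[94,119]))) (.node (.leaf (1753,0,[])) (.leaf (3635,0,[])))) (.node (.node (.leaf (1163,0,[])) (.leaf (3273,0,[]))) (.leaf (1670,0,[])))))) (.node (.node (.node (.node (.node (.leaf (155,0,[])) (.leaf (2513,0,[]))) (.node (.leaf (1394,0,[])) (.leaf (2909,0,[])))) (.node (.node (.leaf (791,0,[])) (.leaf (3006,0,[]))) (.node (.leaf (1379,0,[])) (.leaf (3763,0,[])))))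 (.node (.node (.node (.leaf (298,0,[])) (.leaf (2088,0,[]))) (.node (.leaf (1685,0,[])) (.leaf (3594,0,[])))) (.node (.node (.leaf (1090,0,[])) (.leaf (3222,0,[]))) (.leaf (1611,0,[]))))) (.node (.node (.node (.node (.leaf (198,0,[])) (.leaf (2636,0,[]))) (.node (.leaf (1548,0,[])) (.leaf (3073,0,[])))) (.node (.node (.leaf (817,0,[88,110,104,231])) (.leaf (3110,0,[]))) (.leaf (1499,0,[])))) (.node (.node (.node (.leaf (406,0,[])) (.leaf (2212,0,[]))) (.node (.leaf (1263,0,[])) (.leaf (3427,0,[])))) (.node (.node (.leaf (1236,0,[])) (.leaf (3318,0,[]))) (.leaf (1735,0,[])))))))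

noncomputable def move01101 : Tr (ℕ × ℕ × List ℕ) := .node move011010 move011011

noncomputable def move0110 : Tr (ℕ × ℕ × List ℕ) := .node move01100 move01101

noncomputable def move011100 : Tr (ℕ × ℕ × List ℕ) :=
  .node (.node (.node (.node (.node (.node (.node (.leaf (10,0,[])) (.leaf (2393,0,[]))) (.node (.leaf (844,0,[])) (.leaf (2773,0,[])))) (.node (.node (.leaf (645,0,[])) (.leaf (2226,0,[]))) (.node (.leaf (1836,0,[])) (.leaf (3689,0,[]))))) (.node (.node (.node (.leaf (332,0,[])) (.leaf (1981,0,[]))) (.node (.leaf (1422,0,[94,44,77])) (.leaf (3504,0,[])))) (.node (.node (.leaf (953,0,[])) (.leaf (2583,0,[57,110,90,31]))) (.leaf (1511,0,[]))))) (.node (.node (.node (.node (.leaf (172,0,[])) (.leaf (2523,0,[]))) (.node (.leaf (951,0,[])) (.leaf (2921,0,[])))) (.node (.node (.leaf (806,0,[])) (.leaf (2359,0,[]))) (.node (.leaf (1391,0,[])) (.leaf (3634,0,[]))))) (.node (.node (.node (.leaf (309,0,[])) (.leaf (2100,0,[]))) (.node (.leaf (1166,0,[]))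 (.leaf (3599,0,[])))) (.node (.node (.leaf (732,0,[])) (.leaf (3229,0,[]))) (.leaf (1621,0,[])))))) (.node (.node (.node (.node (.node (.leaf (90,0,[])) (.leaf (1847,0,[55,43,102]))) (.node (.leaf (896,0,[])) (.leaf (3376,0,[])))) (.node (.node (.leaf (680,0,[93,116,69])) (.leaf (2959,0,[]))) (.node (.leaf (1328,0,[])) (.leaf (3732,0,[]))))) (.node (.node (.node (.leaf (412,0,[])) (.leaf (2713,0,[]))) (.node (.leaf (1114,0,[])) (.leaf (3177,0,[])))) (.node (.node (.leaf (1025,0,[])) (.leaf (2553,0,[]))) (.leaf (1565,0,[]))))) (.node (.node (.node (.node (.leaf (252,0,[])) (.leaf (1919,0,[]))) (.node (.leaf (1479,0,[])) (.leaf (3155,0,[88,56,42,137])))) (.node (.node (.leaf (571,0,[])) (.leaf (3066,0,[]))) (.node (.leaf (2043,0,[])) (.leaf (3757,0,[]))))) (.node (.node (.node (.leaf (361,0,[])) (.leaf (2200,0,[93,116,183]))) (.node (.leaf (1223,0,[])) (.leaf (3380,0,[57,56,155,196])))) (.node (.node (.leaf (789,0,[])) (.leaf (2692,0,[]))) (.leaf (2322,0,[])))))))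 (.node (.node (.node (.node (.node (.node (.leaf (48,0,[])) (.leaf (1774,0,[]))) (.node (.leaf (1289,0,[])) (.leaf (3351,0,[])))) (.node (.node (.leaf (440,0,[])) (.leaf (2929,0,[]))) (.node (.leaf (1874,0,[])) (.leaf (3500,0,[]))))) (.node (.node (.node (.leaf (231,0,[])) (.leaf (2012,0,[]))) (.node (.leaf (1087,0,[])) (.leaf (3526,0,[])))) (.node (.node (.leaf (991,0,[])) (.leaf (2868,0,[88,55,44,106]))) (.leaf (2147,0,[]))))) (.node (.node (.node (.node (.leaf (214,0,[])) (.leaf (2558,0,[]))) (.node (.leaf (1445,0,[])) (.leaf (3445,0,[])))) (.node (.node (.leaf (546,0,[])) (.leaf (2387,0,[]))) (.node (.leaf (1680,0,[87,110,123,4])) (.leaf (3751,0,[56,42,174]))))) (.node (.node (.node (.leaf (530,0,[])) (.leaf (2129,0,[]))) (.node (.leaf (1731,0,[])) (.leaf (3547,0,[57,94,104,215])))) (.node (.node (.leaf (759,0,[])) (.leaf (2654,0,[]))) (.leaf (2289,0,[])))))) (.node (.node (.node (.node (.node (.leaf (130,0,[])) (.leaf (2487,0,[]))) (.node (.leaf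 (1368,0,[])) (.leaf (2879,0,[])))) (.node (.node (.leaf (494,0,[])) (.leaf (2992,0,[]))) (.node (.leaf (1358,0,[])) (.leaf (3752,0,[]))))) (.node (.node (.node (.leaf (284,0,[])) (.leaf (2746,0,[]))) (.node (.leaf (1663,0,[])) (.leaf (3472,0,[87,110,176,153])))) (.node (.node (.leaf (1064,0,[])) (.leaf (2766,0,[87,110,89,233]))) (.leaf (2220,0,[]))))) (.node (.node (.node (.node (.leaf (295,0,[])) (.leaf (1950,0,[]))) (.node (.leaf (1522,0,[])) (.leaf (3046,0,[])))) (.node (.node (.leaf (914,0,[])) (.leaf (2452,0,[]))) (.leaf (1482,0,[])))) (.node (.node (.node (.leaf (607,0,[])) (.leaf (2873,0,[]))) (.node (.leaf (1799,0,[])) (.leaf (3670,0,[])))) (.node (.node (.leaf (1213,0,[])) (.leaf (2737,0,[]))) (.leaf (1716,0,[])))))))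

noncomputable def move011101 : Tr (ℕ × ℕ × List ℕ) :=
  .node (.node (.node (.node (.node (.node (.node (.leaf (23,0,[94,90,149])) (.leaf (2411,0,[]))) (.node (.leaf (1271,0,[])) (.leaf (3042,0,[88,110,103,30])))) (.node (.node (.leaf (427,0,[])) (.leaf (2823,0,[87,94,123,129]))) (.node (.leaf (1284,0,[])) (.leaf (3698,0,[]))))) (.node (.node (.node (.leaf (353,0,[])) (.leaf (2668,0,[]))) (.node (.leaf (1075,0,[])) (.leaf (3111,0,[])))) (.node (.node (.leaf (635,0,[])) (.leaf (2502,0,[]))) (.leaf (2130,0,[]))))) (.node (.node (.node (.node (.leaf (192,0,[])) (.leaf (1879,0,[]))) (.node (.leaf (1426,0,[])) (.leaf (2940,0,[])))) (.node (.node (.leaf (826,0,[])) (.leaf (2484,0,[55,91,149]))) (.node (.leaf (1405,0,[])) (.leaf (3657,0,[]))))) (.node (.node (.node (.leaf (509,0,[])) (.leaf (2794,0,[]))) (.node (.leaf (1713,0,[])) (.leaf (3285,0,[])))) (.node (.node (.leaf (747,0,[])) (.leaf (2639,0,[]))) (.leaf (2272,0,[])))))) (.node (.node (.node (.node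 (.node (.leaf (110,0,[])) (.leaf (1821,0,[]))) (.node (.leaf (1348,0,[])) (.leaf (3388,0,[])))) (.node (.node (.leaf (745,0,[])) (.leaf (2308,0,[]))) (.node (.leaf (1623,0,[93,153])) (.leaf (3739,0,[88,94,140,213]))))) (.node (.node (.node (.leaf (430,0,[])) (.leaf (2733,0,[]))) (.node (.leaf (1649,0,[])) (.leaf (3311,0,[88,56,145])))) (.node (.node (.leaf (1045,0,[])) (.leaf (2570,0,[]))) (.leaf (2199,0,[]))))) (.node (.node (.node (.node (.leaf (273,0,[])) (.leaf (2604,0,[]))) (.node (.leaf (1021,0,[])) (.leaf (3161,0,[57,55,90,107])))) (.node (.node (.leaf (584,0,[])) (.leaf (3081,0,[]))) (.leaf (1465,0,[])))) (.node (.node (.node (.leaf (589,0,[])) (.leaf (2178,0,[]))) (.node (.leaf (1234,0,[])) (.leaf (3441,0,[88,94,90,35])))) (.node (.node (.leaf (1199,0,[])) (.leaf (3293,0,[]))) (.leaf (1699,0,[]))))))) (.node (.node (.node (.node (.node (.node (.leaf (68,0,[])) (.leaf (2444,0,[]))) (.node (.leaf (1308,0,[])) (.leaf (2891,0,[57,55,104,216]))))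 (.node (.node (.leaf (453,0,[])) (.leaf (2275,0,[]))) (.node (.leaf (1315,0,[])) (.leaf (3713,0,[57,94,123,73]))))) (.node (.node (.node (.leaf (246,0,[])) (.leaf (2695,0,[]))) (.node (.leaf (1563,0,[57,55,155,35])) (.leaf (3333,0,[57,110,103,36])))) (.node (.node (.leaf (661,0,[])) (.leaf (3170,0,[]))) (.leaf (2119,0,[87,56,176,13]))))) (.node (.node (.node (.node (.leaf (234,0,[])) (.leaf (2571,0,[]))) (.node (.leaf (993,0,[])) (.leaf (2981,0,[])))) (.node (.node (.leaf (863,0,[])) (.leaf (2404,0,[]))) (.node (.leaf (2027,0,[])) (.leaf (3767,0,[87,55,103,218]))))) (.node (.node (.node (.leaf (349,0,[])) (.leaf (2151,0,[]))) (.node (.leaf (1206,0,[])) (.leaf (3631,0,[])))) (.node (.node (.leaf (1159,0,[])) (.leaf (2752,0,[56,116,227]))) (.leaf (1666,0,[])))))) (.node (.node (.node (.node (.node (.leaf (94,0,[])) (.leaf (1851,0,[]))) (.node (.leaf (1390,0,[])) (.leaf (3030,0,[87,93,91,164])))) (.node (.node (.leaf (508,0,[])) (.leaf (2366,0,[87,55,116,132])))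 (.node (.leaf (1376,0,[])) (.leaf (3613,0,[]))))) (.node (.node (.node (.leaf (469,0,[])) (.leaf (2763,0,[]))) (.node (.leaf (1152,0,[])) (.leaf (3241,0,[])))) (.node (.node (.leaf (1083,0,[])) (.leaf (3218,0,[]))) (.leaf (1606,0,[]))))) (.node (.node (.node (.node (.leaf (193,0,[])) (.leaf (2633,0,[]))) (.node (.leaf (1047,0,[])) (.leaf (3496,0,[])))) (.node (.node (.leaf (935,0,[])) (.leaf (2756,0,[57,94,43,13]))) (.leaf (2096,0,[])))) (.node (.node (.node (.leaf (402,0,[])) (.leaf (2885,0,[]))) (.node (.leaf (1819,0,[])) (.leaf (3433,0,[88,110,123,203])))) (.node (.node (.leaf (832,0,[])) (.leaf (3086,0,[88,93,44,228]))) (.leaf (2372,0,[])))))))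

noncomputable def move01110 : Tr (ℕ × ℕ × List ℕ) := .node move011100 move011101

noncomputable def move011110 : Tr (ℕ × ℕ × List ℕ) :=
  .node (.node (.node (.node (.node (.node (.node (.leaf (20,0,[])) (.leaf (2400,0,[]))) (.node (.leaf (1260,0,[])) (.leaf (2782,0,[])))) (.node (.node (.leaf (421,0,[])) (.leaf (2235,0,[]))) (.node (.leaf (1278,0,[])) (.leaf (3463,0,[]))))) (.node (.node (.node (.leaf (213,0,[])) (.leaf (1986,0,[]))) (.node (.leaf (1572,0,[])) (.leaf (3509,0,[])))) (.node (.node (.leaf (962,0,[])) (.leaf (2495,0,[]))) (.leaf (2121,0,[]))))) (.node (.node (.node (.node (.leaf (114,0,[])) (.leaf (2534,0,[]))) (.node (.leaf (1416,0,[])) (.leaf (2930,0,[])))) (.node (.node (.leaf (815,0,[])) (.leaf (2699,0,[87,137]))) (.node (.leaf (1397,0,[])) (.leaf (3770,0,[]))))) (.node (.node (.node (.leaf (499,0,[])) (.leaf (2106,0,[]))) (.node (.leaf (1172,0,[])) (.leaf (3603,0,[])))) (.node (.node (.leaf (1112,0,[])) (.leaf (2631,0,[]))) (.leaf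 (1632,0,[])))))) (.node (.node (.node (.node (.node (.leaf (100,0,[])) (.leaf (1813,0,[]))) (.node (.leaf (1339,0,[])) (.leaf (2852,0,[])))) (.node (.node (.leaf (472,0,[])) (.leaf (2967,0,[]))) (.node (.leaf (1920,0,[])) (.leaf (3738,0,[]))))) (.node (.node (.node (.leaf (265,0,[])) (.leaf (2048,0,[]))) (.node (.leaf (1120,0,[])) (.leaf (3354,0,[87,94,42,129])))) (.node (.node (.leaf (1035,0,[])) (.leaf (2895,0,[88,93,89,126]))) (.leaf (2189,0,[]))))) (.node (.node (.node (.node (.leaf (162,0,[])) (.leaf (2338,0,[88,110,103,73]))) (.node (.leaf (1491,0,[])) (.leaf (3334,0,[87,93,42,23])))) (.node (.node (.leaf (889,0,[])) (.leaf (2426,0,[]))) (.node (.leaf (2051,0,[])) (.leaf (3776,0,[]))))) (.node (.node (.node (.leaf (369,0,[])) (.leaf (2511,0,[93,123,183]))) (.node (.leaf (1773,0,[])) (.leaf (3377,0,[])))) (.node (.node (.leaf (795,0,[])) (.leaf (3013,0,[57,155,25]))) (.leaf (1969,0,[87,43,36]))))))) (.node (.node (.node (.node (.node (.node (.leaf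 (58,0,[])) (.leaf (1782,0,[]))) (.node (.leaf (877,0,[])) (.leaf (3358,0,[])))) (.node (.node (.leaf (694,0,[])) (.leaf (2937,0,[]))) (.node (.leaf (1883,0,[])) (.leaf (3511,0,[]))))) (.node (.node (.node (.leaf (383,0,[])) (.leaf (2687,0,[]))) (.node (.leaf (1093,0,[])) (.leaf (3375,0,[110,44,21])))) (.node (.node (.leaf (655,0,[])) (.leaf (3163,0,[]))) (.leaf (1545,0,[]))))) (.node (.node (.node (.node (.leaf (137,0,[])) (.leaf (1900,0,[]))) (.node (.leaf (983,0,[])) (.leaf (2973,0,[])))) (.node (.node (.leaf (553,0,[])) (.leaf (2689,0,[87,94,104,213]))) (.node (.leaf (2020,0,[])) (.leaf (3743,0,[57,56,176,208]))))) (.node (.node (.node (.leaf (540,0,[])) (.leaf (2137,0,[]))) (.node (.leaf (1742,0,[])) (.leaf (3422,0,[87,94,42,231])))) (.node (.node (.leaf (1148,0,[])) (.leaf (3125,0,[57,93,103,193]))) (.leaf (2297,0,[])))))) (.node (.node (.node (.node (.node (.leaf (111,0,[55,103,210])) (.leaf (1844,0,[]))) (.node (.leaf (1380,0,[])) (.leaf (3403,0,[]))))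 (.node (.node (.leaf (774,0,[])) (.leaf (2329,0,[]))) (.node (.leaf (1953,0,[])) (.leaf (3697,0,[93,140,97]))))) (.node (.node (.node (.leaf (302,0,[94,90,246])) (.leaf (2075,0,[]))) (.node (.leaf (1671,0,[])) (.leaf (3346,0,[88,110,91,65])))) (.node (.node (.leaf (710,0,[])) (.leaf (2924,0,[87,104,69]))) (.leaf (1601,0,[]))))) (.node (.node (.node (.node (.leaf (186,0,[])) (.leaf (2577,0,[94,104,237]))) (.node (.leaf (1531,0,[])) (.leaf (3415,0,[88,56,145])))) (.node (.node (.leaf (605,0,[])) (.leaf (3099,0,[]))) (.leaf (1489,0,[])))) (.node (.node (.node (.leaf (616,0,[])) (.leaf (2880,0,[]))) (.node (.leaf (1810,0,[])) (.leaf (3414,0,[])))) (.node (.node (.leaf (825,0,[])) (.leaf (2744,0,[]))) (.leaf (2363,0,[])))))))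

noncomputable def move011111 : Tr (ℕ × ℕ × List ℕ) :=
  .node (.node (.node (.node (.node (.node (.node (.leaf (24,0,[])) (.leaf (2419,0,[]))) (.node (.leaf (1281,0,[])) (.leaf (3062,0,[57,93,116,175])))) (.node (.node (.leaf (674,0,[])) (.leaf (2731,0,[87,56,176,187]))) (.node (.leaf (1290,0,[])) (.leaf (3590,0,[57,55,123,128]))))) (.node (.node (.node (.leaf (363,0,[])) (.leaf (2004,0,[]))) (.node (.leaf (1508,0,[])) (.leaf (3519,0,[])))) (.node (.node (.leaf (642,0,[])) (.leaf (2512,0,[]))) (.leaf (1530,0,[]))))) (.node (.node (.node (.node (.leaf (126,0,[])) (.leaf (2549,0,[]))) (.node (.leaf (971,0,[])) (.leaf (3282,0,[87,56,103,174])))) (.node (.node (.leaf (836,0,[])) (.leaf (3032,0,[88,94,155,127]))) (.node (.leaf (1412,0,[])) (.leaf (3759,0,[56,140,9]))))) (.node (.node (.node (.leaf (330,0,[])) (.leaf (2802,0,[]))) (.node (.leaf (1681,0,[87,94,42,98])) (.leaf (3300,0,[])))) (.node (.node (.leaf (752,0,[])) (.leaf (3249,0,[]))) (.leaf (1645,0,[]))))))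 (.node (.node (.node (.node (.node (.leaf (120,0,[])) (.leaf (1828,0,[]))) (.node (.leaf (917,0,[])) (.leaf (3391,0,[])))) (.node (.node (.leaf (487,0,[])) (.leaf (2316,0,[]))) (.node (.leaf (1349,0,[])) (.leaf (3600,0,[87,94,91,118]))))) (.node (.node (.node (.leaf (278,0,[])) (.leaf (2061,0,[]))) (.node (.leaf (1132,0,[])) (.leaf (3208,0,[])))) (.node (.node (.leaf (695,0,[])) (.leaf (3198,0,[]))) (.leaf (2209,0,[]))))) (.node (.node (.node (.node (.leaf (174,0,[])) (.leaf (2224,0,[88,110,104,168]))) (.node (.leaf (1029,0,[])) (.leaf (3484,0,[])))) (.node (.node (.leaf (590,0,[])) (.leaf (2445,0,[]))) (.leaf (2067,0,[])))) (.node (.node (.node (.leaf (384,0,[])) (.leaf (2864,0,[]))) (.node (.leaf (1350,0,[87,56,3])) (.leaf (3398,0,[])))) (.node (.node (.leaf (807,0,[])) (.leaf (3172,0,[87,94,42,18]))) (.leaf (1707,0,[]))))))) (.node (.node (.node (.node (.node (.node (.leaf (51,0,[])) (.leaf (1798,0,[]))) (.node (.leaf (1319,0,[])) (.leaf (2838,0,[55,155,192]))))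 (.node (.node (.leaf (459,0,[])) (.leaf (2882,0,[88,55,44,20]))) (.node (.leaf (1321,0,[])) (.leaf (3693,0,[93,140,149]))))) (.node (.node (.node (.leaf (253,0,[])) (.leaf (2034,0,[]))) (.node (.leaf (1624,0,[])) (.leaf (3167,0,[])))) (.node (.node (.leaf (1013,0,[])) (.leaf (3175,0,[]))) (.leaf (1557,0,[]))))) (.node (.node (.node (.node (.leaf (150,0,[])) (.leaf (2579,0,[]))) (.node (.leaf (1469,0,[])) (.leaf (3466,0,[])))) (.node (.node (.leaf (565,0,[])) (.leaf (2410,0,[]))) (.node (.leaf (1444,0,[])) (.leaf (3789,0,[]))))) (.node (.node (.node (.leaf (561,0,[])) (.leaf (2831,0,[]))) (.node (.leaf (1217,0,[])) (.leaf (3359,0,[])))) (.node (.node (.leaf (781,0,[])) (.leaf (3277,0,[]))) (.leaf (2315,0,[])))))) (.node (.node (.node (.node (.node (.leaf (161,0,[])) (.leaf (1858,0,[]))) (.node (.leaf (1398,0,[])) (.leaf (3306,0,[57,90,244])))) (.node (.node (.leaf (796,0,[])) (.leaf (2351,0,[]))) (.node (.leaf (1383,0,[])) (.leaf (3736,0,[55,42,180])))))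 (.node (.node (.node (.leaf (303,0,[])) (.leaf (2770,0,[]))) (.node (.leaf (1689,0,[])) (.leaf (3250,0,[])))) (.node (.node (.leaf (1094,0,[])) (.leaf (2614,0,[]))) (.leaf (2247,0,[]))))) (.node (.node (.node (.node (.leaf (321,0,[])) (.leaf (2641,0,[]))) (.node (.leaf (1053,0,[])) (.leaf (3076,0,[])))) (.node (.node (.leaf (619,0,[])) (.leaf (3114,0,[]))) (.leaf (2104,0,[])))) (.node (.node (.node (.leaf (634,0,[])) (.leaf (2218,0,[]))) (.node (.leaf (1459,0,[33])) (.leaf (3435,0,[])))) (.node (.node (.leaf (838,0,[])) (.leaf (2765,0,[]))) (.leaf (2381,0,[])))))))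

noncomputable def move01111 : Tr (ℕ × ℕ × List ℕ) := .node move011110 move011111

noncomputable def move0111 : Tr (ℕ × ℕ × List ℕ) := .node move01110 move01111

noncomputable def move011 : Tr (ℕ × ℕ × List ℕ) := .node move0110 move0111

noncomputable def move01 : Tr (ℕ × ℕ × List ℕ) := .node move010 move011

noncomputable def move0 : Tr (ℕ × ℕ × List ℕ) := .node move00 move01

noncomputable def move100000 : Tr (ℕ × ℕ × List ℕ) :=
  .node (.node (.node (.node (.node (.node (.node (.leaf (3,0,[])) (.leaf (1740,0,[]))) (.node (.leaf (838,0,[])) (.leaf (2765,0,[])))) (.node (.node (.leaf (793,0,[])) (.leaf (2218,0,[]))) (.node (.leaf (1266,0,[])) (.leaf (3435,0,[]))))) (.node (.node (.node (.leaf (201,0,[])) (.leaf (1973,0,[]))) (.node (.leaf (1054,0,[])) (.leaf (3076,0,[])))) (.node (.node (.leaf (619,0,[])) (.leaf (3342,0,[110,123,223]))) (.leaf (2448,0,[]))))) (.node (.node (.node (.node (.leaf (209,0,[])) (.leaf (1858,0,[]))) (.node (.leaf (945,0,[]))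 (.leaf (3571,0,[])))) (.node (.node (.leaf (979,0,[])) (.leaf (2352,0,[]))) (.node (.leaf (1383,0,[])) (.leaf (3692,0,[87,93,155,100]))))) (.node (.node (.node (.leaf (303,0,[])) (.leaf (2092,0,[]))) (.node (.leaf (1159,0,[])) (.leaf (3337,0,[94,42,124])))) (.node (.node (.leaf (726,0,[])) (.leaf (2614,0,[]))) (.leaf (2588,0,[])))))) (.node (.node (.node (.node (.node (.leaf (51,0,[])) (.leaf (1799,0,[]))) (.node (.leaf (1600,0,[])) (.leaf (3087,0,[57,93,123,206])))) (.node (.node (.leaf (459,0,[])) (.leaf (2355,0,[88,55,91,109]))) (.node (.leaf (1321,0,[])) (.leaf (3531,0,[]))))) (.node (.node (.node (.leaf (254,0,[])) (.leaf (2034,0,[]))) (.node (.leaf (1107,0,[])) (.leaf (3662,0,[])))) (.node (.node (.leaf (667,0,[])) (.leaf (2943,0,[87,110,42,224]))) (.leaf (1557,0,[]))))) (.node (.node (.node (.node (.leaf (242,0,[57,91,136])) (.leaf (2165,0,[57,56,89,229]))) (.node (.leaf (1606,0,[56,44,15])) (.leaf (2989,0,[])))) (.node (.node (.leaf (1065,0,[]))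 (.leaf (2410,0,[]))) (.node (.leaf (1444,0,[])) (.leaf (3746,0,[]))))) (.node (.node (.node (.leaf (700,0,[])) (.leaf (3132,0,[]))) (.node (.leaf (1323,0,[13])) (.leaf (3359,0,[])))) (.node (.node (.leaf (781,0,[])) (.leaf (2684,0,[]))) (.leaf (2657,0,[]))))))) (.node (.node (.node (.node (.node (.node (.leaf (24,0,[])) (.leaf (1768,0,[]))) (.node (.leaf (864,0,[])) (.leaf (3339,0,[103,157])))) (.node (.node (.leaf (434,0,[])) (.leaf (3211,0,[]))) (.node (.leaf (1290,0,[])) (.leaf (3491,0,[]))))) (.node (.node (.node (.leaf (225,0,[])) (.leaf (2004,0,[]))) (.node (.leaf (1081,0,[])) (.leaf (3534,0,[88,110,103,163])))) (.node (.node (.leaf (642,0,[])) (.leaf (2512,0,[]))) (.leaf (1530,0,[]))))) (.node (.node (.node (.node (.leaf (126,0,[])) (.leaf (1886,0,[]))) (.node (.leaf (971,0,[])) (.leaf (2955,0,[])))) (.node (.node (.leaf (540,0,[])) (.leaf (2380,0,[]))) (.node (.leaf (1413,0,[])) (.leaf (3724,0,[88,110,176,247]))))) (.node (.node (.node (.leaf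 (649,0,[])) (.leaf (2123,0,[]))) (.node (.leaf (1187,0,[])) (.leaf (3696,0,[57,93,123,226])))) (.node (.node (.leaf (1376,0,[])) (.leaf (2947,0,[110,241]))) (.leaf (1646,0,[])))))) (.node (.node (.node (.node (.node (.leaf (75,0,[])) (.leaf (1828,0,[]))) (.node (.leaf (917,0,[])) (.leaf (2868,0,[])))) (.node (.node (.leaf (488,0,[])) (.leaf (3261,0,[]))) (.node (.leaf (1350,0,[])) (.leaf (3581,0,[]))))) (.node (.node (.node (.leaf (278,0,[])) (.leaf (2849,0,[57,110,103,127]))) (.node (.leaf (1132,0,[])) (.leaf (3424,0,[87,93,103,158])))) (.node (.node (.leaf (1283,0,[])) (.leaf (3312,0,[87,93,176,65]))) (.leaf (1587,0,[]))))) (.node (.node (.node (.node (.leaf (175,0,[])) (.leaf (2942,0,[]))) (.node (.leaf (1029,0,[])) (.leaf (3034,0,[])))) (.node (.node (.leaf (591,0,[])) (.leaf (2446,0,[]))) (.leaf (1475,0,[])))) (.node (.node (.node (.leaf (529,0,[87,55,116,131])) (.leaf (2186,0,[]))) (.node (.leaf (2105,0,[])) (.leaf (3398,0,[])))) (.node (.node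 (.leaf (807,0,[])) (.leaf (3175,0,[110,42,113]))) (.leaf (1864,0,[56,43,245])))))))

noncomputable def move100001 : Tr (ℕ × ℕ × List ℕ) :=
  .node (.node (.node (.node (.node (.node (.node (.leaf (11,0,[])) (.leaf (1756,0,[]))) (.node (.leaf (851,0,[])) (.leaf (2783,0,[])))) (.node (.node (.leaf (421,0,[])) (.leaf (2658,0,[94,103,236]))) (.node (.leaf (1278,0,[])) (.leaf (3464,0,[]))))) (.node (.node (.node (.leaf (214,0,[])) (.leaf (1989,0,[]))) (.node (.leaf (1068,0,[])) (.leaf (3098,0,[])))) (.node (.node (.leaf (1175,0,[])) (.leaf (2496,0,[]))) (.leaf (1694,0,[93,155,142]))))) (.node (.node (.node (.node (.leaf (237,0,[])) (.leaf (1873,0,[]))) (.node (.leaf (964,0,[88,55,104,236])) (.leaf (2932,0,[])))) (.node (.node (.leaf (527,0,[])) (.leaf (3289,0,[]))) (.node (.leaf (1397,0,[])) (.leaf (3650,0,[]))))) (.node (.node (.node (.leaf (623,0,[])) (.leaf (2106,0,[]))) (.node (.leaf (1173,0,[])) (.leaf (3275,0,[])))) (.node (.node (.leaf (1352,0,[]))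 (.leaf (2881,0,[88,55,89,172]))) (.leaf (2606,0,[])))))) (.node (.node (.node (.node (.node (.leaf (63,0,[])) (.leaf (2145,0,[57,93,116,120]))) (.node (.leaf (1621,0,[])) (.leaf (3093,0,[87,140,0])))) (.node (.node (.leaf (472,0,[])) (.leaf (3102,0,[88,94,128]))) (.node (.leaf (1336,0,[])) (.leaf (3549,0,[]))))) (.node (.node (.node (.leaf (266,0,[])) (.leaf (2048,0,[]))) (.node (.leaf (1360,0,[55,123,92])) (.leaf (3291,0,[57,55,123,181])))) (.node (.node (.leaf (1257,0,[])) (.leaf (2711,0,[56,44,16]))) (.leaf (1572,0,[]))))) (.node (.node (.node (.node (.leaf (194,0,[88,110,90,179])) (.leaf (2927,0,[]))) (.node (.leaf (1780,0,[])) (.leaf (3402,0,[87,55,42,120])))) (.node (.node (.leaf (1089,0,[])) (.leaf (2427,0,[]))) (.node (.leaf (1457,0,[])) (.leaf (3791,0,[57,94,89,143]))))) (.node (.node (.node (.leaf (369,0,[])) (.leaf (2170,0,[]))) (.node (.leaf (2088,0,[])) (.leaf (3378,0,[])))) (.node (.node (.leaf (795,0,[])) (.leaf (2705,0,[]))) (.leaf (1689,0,[])))))))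 (.node (.node (.node (.node (.node (.node (.leaf (76,0,[])) (.leaf (2296,0,[93,89,222]))) (.node (.leaf (877,0,[])) (.leaf (3520,0,[])))) (.node (.node (.leaf (446,0,[])) (.leaf (2693,0,[87,110,176,174]))) (.node (.leaf (1306,0,[])) (.leaf (3539,0,[87,110,123,29]))))) (.node (.node (.node (.leaf (481,0,[])) (.leaf (3013,0,[]))) (.node (.leaf (1093,0,[])) (.leaf (3160,0,[87,93,91,69])))) (.node (.node (.leaf (1214,0,[])) (.leaf (2541,0,[55,155,98]))) (.leaf (2497,0,[]))))) (.node (.node (.node (.node (.leaf (137,0,[])) (.leaf (1900,0,[]))) (.node (.leaf (1743,0,[])) (.leaf (2973,0,[])))) (.node (.node (.leaf (554,0,[])) (.leaf (3117,0,[56,89,75]))) (.node (.leaf (1429,0,[])) (.leaf (3760,0,[87,93,103,158]))))) (.node (.node (.node (.leaf (344,0,[])) (.leaf (2983,0,[57,56,90,183]))) (.node (.leaf (1201,0,[])) (.leaf (3715,0,[])))) (.node (.node (.leaf (767,0,[])) (.leaf (3129,0,[94,99]))) (.leaf (1660,0,[])))))) (.node (.node (.node (.node (.node (.leaf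 (88,0,[])) (.leaf (1844,0,[]))) (.node (.leaf (1662,0,[])) (.leaf (2895,0,[])))) (.node (.node (.leaf (954,0,[])) (.leaf (2329,0,[]))) (.node (.leaf (1366,0,[])) (.leaf (3603,0,[]))))) (.node (.node (.node (.leaf (290,0,[])) (.leaf (2173,0,[94,43,224]))) (.node (.leaf (1144,0,[])) (.leaf (3233,0,[])))) (.node (.node (.leaf (711,0,[])) (.leaf (3427,0,[]))) (.leaf (1601,0,[]))))) (.node (.node (.node (.node (.leaf (186,0,[])) (.leaf (2853,0,[103,210]))) (.node (.leaf (1041,0,[])) (.leaf (3199,0,[57,94,89,3])))) (.node (.node (.leaf (605,0,[])) (.leaf (2494,0,[88,94,89,114]))) (.leaf (2430,0,[])))) (.node (.node (.node (.leaf (396,0,[])) (.leaf (2199,0,[]))) (.node (.leaf (1253,0,[])) (.leaf (3592,0,[88,103,216])))) (.node (.node (.leaf (1480,0,[])) (.leaf (2744,0,[]))) (.leaf (1725,0,[])))))))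

noncomputable def move10000 : Tr (ℕ × ℕ × List ℕ) := .node move100000 move100001

noncomputable def move100010 : Tr (ℕ × ℕ × List ℕ) :=
  .node (.node (.node (.node (.node (.node (.node (.leaf (5,0,[])) (.leaf (1748,0,[]))) (.node (.leaf (1519,0,[])) (.leaf (2774,0,[])))) (.node (.node (.leaf (415,0,[])) (.leaf (3112,0,[87,93,138]))) (.node (.leaf (1781,0,[57,55,44,29])) (.leaf (3448,0,[]))))) (.node (.node (.node (.leaf (207,0,[])) (.leaf (1981,0,[]))) (.node (.leaf (1062,0,[])) (.leaf (3085,0,[])))) (.node (.node (.leaf (1164,0,[])) (.leaf (3363,0,[]))) (.leaf (2455,0,[]))))) (.node (.node (.node (.node (.leaf (107,0,[])) (.leaf (1867,0,[]))) (.node (.leaf (1693,0,[])) (.leaf (2921,0,[])))) (.node (.node (.leaf (992,0,[])) (.leaf (2359,0,[]))) (.node (.leaf (2314,0,[])) (.leaf (3636,0,[]))))) (.node (.node (.node (.leaf (309,0,[])) (.leaf (2100,0,[]))) (.node (.leaf (2010,0,[])) (.leaf (3259,0,[])))) (.node (.node (.leaf (733,0,[])) (.leaf (3437,0,[])))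 (.leaf (1622,0,[])))))) (.node (.node (.node (.node (.node (.leaf (57,0,[])) (.leaf (2801,0,[]))) (.node (.leaf (1498,0,[87,56,89,177])) (.leaf (2993,0,[87,104,146])))) (.node (.node (.leaf (466,0,[])) (.leaf (2294,0,[]))) (.node (.leaf (2239,0,[])) (.leaf (3541,0,[]))))) (.node (.node (.node (.leaf (517,0,[])) (.leaf (2043,0,[]))) (.node (.leaf (1114,0,[])) (.leaf (3177,0,[])))) (.node (.node (.leaf (1073,0,[88,55,176,143])) (.leaf (2553,0,[]))) (.leaf (2347,0,[88,55,91,205]))))) (.node (.node (.node (.node (.leaf (156,0,[])) (.leaf (1919,0,[]))) (.node (.leaf (1009,0,[])) (.leaf (3002,0,[])))) (.node (.node (.leaf (571,0,[])) (.leaf (2418,0,[]))) (.node (.leaf (2378,0,[])) (.leaf (3759,0,[]))))) (.node (.node (.node (.leaf (712,0,[])) (.leaf (3137,0,[]))) (.node (.leaf (1223,0,[])) (.leaf (3368,0,[])))) (.node (.node (.leaf (789,0,[])) (.leaf (2692,0,[]))) (.leaf (2665,0,[]))))))) (.node (.node (.node (.node (.node (.node (.leaf (31,0,[])) (.leaf (1774,0,[])))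 (.node (.leaf (1568,0,[])) (.leaf (2901,0,[94,43,224])))) (.node (.node (.leaf (839,0,[57,56,155,196])) (.leaf (3201,0,[57,110,89,65]))) (.node (.leaf (2195,0,[])) (.leaf (3501,0,[]))))) (.node (.node (.node (.leaf (232,0,[])) (.leaf (3007,0,[]))) (.node (.leaf (1087,0,[])) (.leaf (3645,0,[])))) (.node (.node (.leaf (1208,0,[])) (.leaf (3383,0,[]))) (.leaf (1538,0,[]))))) (.node (.node (.node (.node (.leaf (275,0,[])) (.leaf (2281,0,[87,103,225]))) (.node (.leaf (978,0,[])) (.leaf (3590,0,[])))) (.node (.node (.leaf (546,0,[])) (.leaf (3130,0,[57,110,140,164]))) (.node (.leaf (1423,0,[])) (.leaf (3737,0,[94,155,210]))))) (.node (.node (.node (.leaf (661,0,[])) (.leaf (2130,0,[]))) (.node (.leaf (1193,0,[])) (.leaf (3631,0,[88,55,44,195])))) (.node (.node (.leaf (760,0,[])) (.leaf (2654,0,[]))) (.leaf (1652,0,[])))))) (.node (.node (.node (.node (.node (.leaf (81,0,[])) (.leaf (1835,0,[]))) (.node (.leaf (1035,0,[55,155,192])) (.leaf (3552,0,[])))) (.node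 (.node (.leaf (941,0,[])) (.leaf (3144,0,[87,56,155,240]))) (.node (.leaf (1358,0,[])) (.leaf (3779,0,[]))))) (.node (.node (.node (.leaf (569,0,[])) (.leaf (2068,0,[]))) (.node (.leaf (1436,0,[57,110,104,160])) (.leaf (3218,0,[])))) (.node (.node (.leaf (1293,0,[])) (.leaf (2873,0,[90,247]))) (.leaf (1997,0,[88,56,90,225]))))) (.node (.node (.node (.node (.leaf (181,0,[])) (.leaf (1950,0,[]))) (.node (.leaf (1815,0,[])) (.leaf (3047,0,[])))) (.node (.node (.leaf (597,0,[])) (.leaf (2453,0,[]))) (.leaf (2421,0,[])))) (.node (.node (.node (.leaf (755,0,[])) (.leaf (2193,0,[]))) (.node (.leaf (1246,0,[])) (.leaf (3436,0,[87,90,187])))) (.node (.node (.leaf (1470,0,[])) (.leaf (2737,0,[]))) (.leaf (2624,0,[110,140,21])))))))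

noncomputable def move100011 : Tr (ℕ × ℕ × List ℕ) :=
  .node (.node (.node (.node (.node (.node (.node (.leaf (17,0,[])) (.leaf (1762,0,[]))) (.node (.leaf (1545,0,[])) (.leaf (3191,0,[57,103,211])))) (.node (.node (.leaf (427,0,[])) (.leaf (2245,0,[]))) (.node (.leaf (1284,0,[])) (.leaf (3480,0,[]))))) (.node (.node (.node (.leaf (447,0,[])) (.leaf (2999,0,[]))) (.node (.leaf (1075,0,[])) (.leaf (3111,0,[])))) (.node (.node (.leaf (1184,0,[])) (.leaf (2504,0,[]))) (.leaf (1524,0,[]))))) (.node (.node (.node (.node (.leaf (120,0,[])) (.leaf (1880,0,[]))) (.node (.leaf (1710,0,[])) (.leaf (3584,0,[])))) (.node (.node (.leaf (1010,0,[])) (.leaf (2374,0,[]))) (.node (.leaf (1406,0,[])) (.leaf (3661,0,[]))))) (.node (.node (.node (.leaf (635,0,[])) (.leaf (2114,0,[]))) (.node (.leaf (1584,0,[55,103,208])) (.leaf (3470,0,[88,56,90,196])))) (.node (.node (.leaf (747,0,[])) (.leaf (2639,0,[]))) (.leaf (1639,0,[])))))) (.node (.node (.node (.node (.node (.leaf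 (141,0,[])) (.leaf (2818,0,[]))) (.node (.leaf (1632,0,[])) (.leaf (3173,0,[55,155,97])))) (.node (.node (.leaf (920,0,[])) (.leaf (2308,0,[]))) (.node (.leaf (2110,0,[94,116,76])) (.leaf (3564,0,[]))))) (.node (.node (.node (.leaf (542,0,[])) (.leaf (3046,0,[]))) (.node (.leaf (1958,0,[])) (.leaf (3197,0,[])))) (.node (.node (.leaf (689,0,[])) (.leaf (2570,0,[]))) (.leaf (2545,0,[]))))) (.node (.node (.node (.node (.leaf (168,0,[])) (.leaf (1935,0,[]))) (.node (.leaf (1022,0,[])) (.leaf (3432,0,[56,43,130])))) (.node (.node (.leaf (584,0,[])) (.leaf (2720,0,[94,176,178]))) (.leaf (1466,0,[])))) (.node (.node (.node (.leaf (377,0,[])) (.leaf (2178,0,[]))) (.node (.leaf (2033,0,[87,110,44,122])) (.leaf (3388,0,[])))) (.node (.node (.leaf (802,0,[])) (.leaf (2716,0,[]))) (.leaf (1699,0,[]))))))) (.node (.node (.node (.node (.node (.node (.leaf (45,0,[])) (.leaf (2062,0,[110,89,225]))) (.node (.leaf (884,0,[])) (.leaf (3298,0,[88,55,90,127])))) (.node (.node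 (.leaf (876,0,[])) (.leaf (3227,0,[]))) (.node (.leaf (1315,0,[])) (.leaf (3672,0,[104,154]))))) (.node (.node (.node (.leaf (246,0,[])) (.leaf (2931,0,[237]))) (.node (.leaf (1922,0,[])) (.leaf (3156,0,[])))) (.node (.node (.leaf (1221,0,[])) (.leaf (2534,0,[]))) (.leaf (2240,0,[88,93,116,73]))))) (.node (.node (.node (.node (.leaf (144,0,[])) (.leaf (2907,0,[]))) (.node (.leaf (993,0,[])) (.leaf (2981,0,[])))) (.node (.node (.leaf (682,0,[87,93,138])) (.leaf (2405,0,[]))) (.node (.leaf (1438,0,[])) (.leaf (3736,0,[87,56,90,172]))))) (.node (.node (.node (.leaf (349,0,[])) (.leaf (2151,0,[]))) (.node (.leaf (1207,0,[])) (.leaf (3345,0,[])))) (.node (.node (.leaf (774,0,[])) (.leaf (2671,0,[]))) (.leaf (1667,0,[])))))) (.node (.node (.node (.node (.node (.leaf (195,0,[])) (.leaf (1851,0,[]))) (.node (.leaf (938,0,[])) (.leaf (2906,0,[])))) (.node (.node (.leaf (509,0,[])) (.leaf (2339,0,[]))) (.node (.leaf (2295,0,[])) (.leaf (3613,0,[]))))) (.node (.node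 (.node (.leaf (590,0,[])) (.leaf (3072,0,[]))) (.node (.leaf (1152,0,[])) (.leaf (3568,0,[55,95])))) (.node (.node (.leaf (718,0,[])) (.leaf (2934,0,[57,104,153]))) (.leaf (1607,0,[]))))) (.node (.node (.node (.node (.leaf (398,0,[])) (.leaf (1966,0,[]))) (.node (.leaf (1048,0,[])) (.leaf (3069,0,[])))) (.node (.node (.leaf (1142,0,[])) (.leaf (3349,0,[]))) (.leaf (1496,0,[])))) (.node (.node (.node (.leaf (780,0,[])) (.leaf (2209,0,[]))) (.node (.leaf (1260,0,[])) (.leaf (3422,0,[])))) (.node (.node (.leaf (832,0,[])) (.leaf (3190,0,[88,56,44,188]))) (.leaf (1731,0,[])))))))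

noncomputable def move10001 : Tr (ℕ × ℕ × List ℕ) := .node move100010 move100011

noncomputable def move1000 : Tr (ℕ × ℕ × List ℕ) := .node move10000 move10001

noncomputable def move100100 : Tr (ℕ × ℕ × List ℕ) :=
  .node (.node (.node (.node (.node (.node (.node (.leaf (2,0,[])) (.leaf (2731,0,[]))) (.node (.leaf (841,0,[])) (.leaf (2770,0,[])))) (.node (.node (.leaf (800,0,[])) (.leaf (2222,0,[]))) (.node (.leaf (1269,0,[])) (.leaf (3442,0,[]))))) (.node (.node (.node (.leaf (204,0,[])) (.leaf (1977,0,[]))) (.node (.leaf (1057,0,[])) (.leaf (3080,0,[])))) (.node (.node (.leaf (621,0,[])) (.leaf (2481,0,[]))) (.leaf (1637,0,[55,43,124]))))) (.node (.node (.node (.node (.leaf (104,0,[])) (.leaf (2797,0,[57,56,103,109]))) (.node (.leaf (1686,0,[])) (.leaf (3575,0,[])))) (.node (.node (.leaf (518,0,[])) (.leaf (2356,0,[]))) (.node (.leaf (2013,0,[110,42,27])) (.leaf (3717,0,[57,93,89,77]))))) (.node (.node (.node (.leaf (307,0,[])) (.leaf (3082,0,[])))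 (.node (.leaf (1162,0,[])) (.leaf (3254,0,[])))) (.node (.node (.leaf (729,0,[])) (.leaf (2880,0,[88,94,42,233]))) (.leaf (1618,0,[])))))) (.node (.node (.node (.node (.node (.leaf (111,0,[])) (.leaf (2798,0,[]))) (.node (.leaf (893,0,[])) (.leaf (3042,0,[57,94,127])))) (.node (.node (.leaf (463,0,[])) (.leaf (3027,0,[87,93,89,126]))) (.node (.leaf (1325,0,[])) (.leaf (3770,0,[57,110,73]))))) (.node (.node (.node (.leaf (513,0,[])) (.leaf (3030,0,[]))) (.node (.leaf (1744,0,[94,162])) (.leaf (3172,0,[])))) (.node (.node (.leaf (684,0,[94,119])) (.leaf (2546,0,[]))) (.leaf (2520,0,[]))))) (.node (.node (.node (.node (.leaf (153,0,[])) (.leaf (2724,0,[88,55,90,92]))) (.node (.leaf (1005,0,[])) (.leaf (3274,0,[88,94,91,153])))) (.node (.node (.leaf (1072,0,[])) (.leaf (2414,0,[]))) (.node (.leaf (1499,0,[87,55,116,164])) (.leaf (3771,0,[56,176,138]))))) (.node (.node (.node (.leaf (358,0,[])) (.leaf (3135,0,[]))) (.node (.leaf (2071,0,[])) (.leaf (3723,0,[]))))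 (.node (.node (.leaf (1418,0,[87,110,42,233])) (.leaf (2687,0,[]))) (.leaf (2653,0,[57,110,176,33]))))))) (.node (.node (.node (.node (.node (.node (.leaf (28,0,[])) (.leaf (1771,0,[]))) (.node (.leaf (1468,0,[87,110,104,148])) (.leaf (2920,0,[87,56,103,185])))) (.node (.node (.leaf (696,0,[94,43,224])) (.leaf (2255,0,[]))) (.node (.leaf (2191,0,[])) (.leaf (3496,0,[]))))) (.node (.node (.node (.leaf (228,0,[])) (.leaf (2009,0,[]))) (.node (.leaf (1420,0,[88,110,116,7])) (.leaf (3125,0,[])))) (.node (.node (.leaf (645,0,[])) (.leaf (2515,0,[]))) (.leaf (1534,0,[]))))) (.node (.node (.node (.node (.leaf (268,0,[])) (.leaf (1889,0,[]))) (.node (.leaf (975,0,[])) (.leaf (2959,0,[])))) (.node (.node (.leaf (1028,0,[])) (.leaf (2559,0,[57,56,149]))) (.node (.leaf (1416,0,[])) (.leaf (3679,0,[]))))) (.node (.node (.node (.leaf (655,0,[])) (.leaf (2126,0,[]))) (.node (.leaf (1190,0,[])) (.leaf (3708,0,[])))) (.node (.node (.leaf (756,0,[])) (.leaf (2651,0,[])))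 (.leaf (1649,0,[])))))) (.node (.node (.node (.node (.node (.leaf (162,0,[])) (.leaf (1832,0,[]))) (.node (.leaf (1647,0,[])) (.leaf (2875,0,[])))) (.node (.node (.leaf (491,0,[])) (.leaf (2319,0,[]))) (.node (.leaf (1355,0,[])) (.leaf (3585,0,[]))))) (.node (.node (.node (.leaf (281,0,[])) (.leaf (2065,0,[]))) (.node (.leaf (1862,0,[57,55,43,15])) (.leaf (3214,0,[])))) (.node (.node (.leaf (701,0,[])) (.leaf (3419,0,[]))) (.leaf (1591,0,[]))))) (.node (.node (.node (.node (.leaf (178,0,[])) (.leaf (1946,0,[]))) (.node (.leaf (1032,0,[])) (.leaf (3040,0,[])))) (.node (.node (.leaf (1113,0,[])) (.leaf (2960,0,[110,104,238]))) (.leaf (1479,0,[])))) (.node (.node (.node (.leaf (387,0,[])) (.leaf (2189,0,[]))) (.node (.leaf (1243,0,[])) (.leaf (3401,0,[])))) (.node (.node (.leaf (813,0,[])) (.leaf (3366,0,[93,43,23]))) (.leaf (1777,0,[110,116,72])))))))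

noncomputable def move100101 : Tr (ℕ × ℕ × List ℕ) :=
  .node (.node (.node (.node (.node (.node (.node (.leaf (36,0,[])) (.leaf (2749,0,[]))) (.node (.leaf (854,0,[])) (.leaf (2786,0,[])))) (.node (.node (.leaf (825,0,[])) (.leaf (2678,0,[56,103,145]))) (.node (.leaf (1281,0,[])) (.leaf (3749,0,[94,89,214]))))) (.node (.node (.node (.leaf (440,0,[])) (.leaf (2995,0,[]))) (.node (.leaf (1071,0,[])) (.leaf (3350,0,[87,94,116,128])))) (.node (.node (.leaf (632,0,[])) (.leaf (2499,0,[]))) (.leaf (2468,0,[]))))) (.node (.node (.node (.node (.leaf (117,0,[])) (.leaf (1876,0,[]))) (.node (.leaf (961,0,[])) (.leaf (2937,0,[])))) (.node (.node (.leaf (1004,0,[])) (.leaf (2628,0,[88,93,102]))) (.node (.leaf (1401,0,[])) (.leaf (3758,0,[57,55,91,69]))))) (.node (.node (.node (.leaf (601,0,[87,110,155,124])) (.leaf (2111,0,[]))) (.node (.leaf (1463,0,[93,44,124])) (.leaf (3280,0,[])))) (.node (.node (.leaf (744,0,[])) (.leaf (2635,0,[]))) (.leaf (1811,0,[88,56,43,162]))))))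 (.node (.node (.node (.node (.node (.leaf (135,0,[])) (.leaf (1817,0,[]))) (.node (.leaf (1627,0,[])) (.leaf (2857,0,[])))) (.node (.node (.leaf (476,0,[])) (.leaf (3248,0,[]))) (.node (.leaf (2040,0,[88,94,116,130])) (.leaf (3660,0,[56,123,138]))))) (.node (.node (.node (.leaf (269,0,[])) (.leaf (2051,0,[]))) (.node (.leaf (1123,0,[])) (.leaf (3193,0,[])))) (.node (.node (.leaf (686,0,[])) (.leaf (2567,0,[]))) (.leaf (2540,0,[]))))) (.node (.node (.node (.node (.leaf (342,0,[])) (.leaf (1932,0,[]))) (.node (.leaf (1096,0,[94,91,75])) (.leaf (3017,0,[])))) (.node (.node (.leaf (580,0,[])) (.leaf (2518,0,[94,43,224]))) (.leaf (1679,0,[94,42,31])))) (.node (.node (.node (.leaf (732,0,[])) (.leaf (2288,0,[87,90,60]))) (.node (.leaf (1231,0,[])) (.leaf (3385,0,[])))) (.node (.node (.leaf (798,0,[])) (.leaf (3303,0,[87,56,89,181]))) (.leaf (1695,0,[]))))))) (.node (.node (.node (.node (.node (.node (.leaf (83,0,[])) (.leaf (1786,0,[]))) (.node (.leaf (1583,0,[]))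 (.leaf (2824,0,[])))) (.node (.node (.leaf (869,0,[])) (.leaf (2271,0,[]))) (.node (.leaf (1312,0,[])) (.leaf (3701,0,[55,89,162]))))) (.node (.node (.node (.leaf (243,0,[])) (.leaf (3016,0,[]))) (.node (.leaf (1098,0,[])) (.leaf (3151,0,[])))) (.node (.node (.leaf (1217,0,[])) (.leaf (2530,0,[]))) (.leaf (1548,0,[]))))) (.node (.node (.node (.node (.leaf (140,0,[])) (.leaf (2904,0,[]))) (.node (.leaf (988,0,[])) (.leaf (3028,0,[87,56,43,241])))) (.node (.node (.leaf (557,0,[])) (.leaf (2399,0,[]))) (.node (.leaf (1434,0,[])) (.leaf (3735,0,[57,110,43,219]))))) (.node (.node (.node (.leaf (680,0,[])) (.leaf (2143,0,[]))) (.node (.leaf (2054,0,[])) (.leaf (3341,0,[])))) (.node (.node (.leaf (771,0,[])) (.leaf (2667,0,[]))) (.leaf (2206,0,[87,110,103,171])))))) (.node (.node (.node (.node (.node (.leaf (91,0,[])) (.leaf (1847,0,[]))) (.node (.leaf (935,0,[])) (.leaf (3136,0,[87,94,155,212])))) (.node (.node (.leaf (960,0,[])) (.leaf (2351,0,[43,211])))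 (.node (.leaf (1372,0,[])) (.leaf (3611,0,[]))))) (.node (.node (.node (.leaf (293,0,[])) (.leaf (2079,0,[]))) (.node (.leaf (1990,0,[])) (.leaf (3455,0,[88,94,89,167])))) (.node (.node (.leaf (1311,0,[])) (.leaf (3431,0,[]))) (.leaf (2574,0,[]))))) (.node (.node (.node (.node (.leaf (392,0,[])) (.leaf (1962,0,[]))) (.node (.leaf (1044,0,[])) (.leaf (3618,0,[])))) (.node (.node (.leaf (609,0,[])) (.leaf (3346,0,[]))) (.leaf (1493,0,[])))) (.node (.node (.node (.leaf (399,0,[])) (.leaf (2205,0,[]))) (.node (.leaf (2131,0,[])) (.leaf (3418,0,[])))) (.node (.node (.leaf (1487,0,[])) (.leaf (2750,0,[]))) (.leaf (2706,0,[])))))))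

noncomputable def move10010 : Tr (ℕ × ℕ × List ℕ) := .node move100100 move100101

noncomputable def move100110 : Tr (ℕ × ℕ × List ℕ) :=
  .node (.node (.node (.node (.node (.node (.node (.leaf (8,0,[])) (.leaf (1752,0,[]))) (.node (.leaf (848,0,[])) (.leaf (2778,0,[])))) (.node (.node (.leaf (418,0,[])) (.leaf (2231,0,[]))) (.node (.leaf (2160,0,[])) (.leaf (3643,0,[87,94,176,245]))))) (.node (.node (.node (.leaf (210,0,[])) (.leaf (1983,0,[]))) (.node (.leaf (1452,0,[87,93,103,159])) (.leaf (3517,0,[87,93,103,158])))) (.node (.node (.leaf (627,0,[])) (.leaf (2492,0,[]))) (.leaf (1514,0,[]))))) (.node (.node (.node (.node (.leaf (231,0,[])) (.leaf (1870,0,[]))) (.node (.leaf (955,0,[])) (.leaf (3578,0,[])))) (.node (.node (.leaf (996,0,[])) (.leaf (2362,0,[]))) (.node (.leaf (1697,0,[87,93,44,188])) (.leaf (3769,0,[88,56,123,196]))))) (.node (.node (.node (.leaf (618,0,[])) (.leaf (2576,0,[88,55,116,143]))) (.node (.leaf (1593,0,[87,110,140,229])) (.leaf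 (3264,0,[])))) (.node (.node (.leaf (737,0,[])) (.leaf (3440,0,[]))) (.leaf (2601,0,[])))))) (.node (.node (.node (.node (.node (.leaf (60,0,[])) (.leaf (1809,0,[]))) (.node (.leaf (1615,0,[])) (.leaf (3142,0,[57,89,126])))) (.node (.node (.leaf (469,0,[])) (.leaf (3095,0,[56,42,200]))) (.node (.leaf (1331,0,[])) (.leaf (3545,0,[]))))) (.node (.node (.node (.leaf (524,0,[])) (.leaf (2776,0,[87,31]))) (.node (.leaf (1796,0,[87,94,44,72])) (.leaf (3430,0,[87,110,155,193])))) (.node (.node (.leaf (678,0,[])) (.leaf (2557,0,[]))) (.leaf (2527,0,[]))))) (.node (.node (.node (.node (.leaf (159,0,[])) (.leaf (1924,0,[]))) (.node (.leaf (1012,0,[])) (.leaf (3006,0,[])))) (.node (.node (.leaf (575,0,[])) (.leaf (2423,0,[]))) (.node (.leaf (2384,0,[])) (.leaf (3777,0,[57,93,191]))))) (.node (.node (.node (.leaf (719,0,[])) (.leaf (2167,0,[]))) (.node (.leaf (1226,0,[])) (.leaf (3371,0,[])))) (.node (.node (.leaf (1353,0,[57,56,91,92])) (.leaf (3265,0,[87,94,104,213])))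 (.leaf (1684,0,[]))))))) (.node (.node (.node (.node (.node (.node (.leaf (69,0,[])) (.leaf (1778,0,[]))) (.node (.leaf (1574,0,[])) (.leaf (2817,0,[])))) (.node (.node (.leaf (443,0,[])) (.leaf (2936,0,[87,56,176,198]))) (.node (.leaf (1303,0,[])) (.leaf (3508,0,[]))))) (.node (.node (.node (.leaf (251,0,[31])) (.leaf (2503,0,[57,110,44,75]))) (.node (.leaf (1907,0,[])) (.leaf (3138,0,[])))) (.node (.node (.leaf (651,0,[])) (.leaf (2523,0,[]))) (.leaf (2491,0,[]))))) (.node (.node (.node (.node (.leaf (282,0,[])) (.leaf (2138,0,[88,56,42,71]))) (.node (.leaf (1737,0,[])) (.leaf (3465,0,[93,140,197])))) (.node (.node (.leaf (1021,0,[87,55,176,247])) (.leaf (2390,0,[]))) (.node (.leaf (1426,0,[])) (.leaf (3694,0,[]))))) (.node (.node (.node (.leaf (668,0,[])) (.leaf (2181,0,[110,123,9]))) (.node (.leaf (1569,0,[88,93,43,196])) (.leaf (3327,0,[])))) (.node (.node (.leaf (901,0,[88,56,42,233])) (.leaf (3467,0,[]))) (.leaf (1655,0,[])))))) (.node (.node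 (.node (.node (.node (.leaf (176,0,[])) (.leaf (1839,0,[]))) (.node (.leaf (928,0,[])) (.leaf (3556,0,[])))) (.node (.node (.leaf (498,0,[])) (.leaf (3269,0,[]))) (.node (.leaf (2280,0,[])) (.leaf (3641,0,[88,93,44,166]))))) (.node (.node (.node (.leaf (576,0,[])) (.leaf (2293,0,[57,94,155,171]))) (.node (.leaf (1141,0,[])) (.leaf (3506,0,[87,93,91,239])))) (.node (.node (.leaf (707,0,[])) (.leaf (2592,0,[]))) (.leaf (1598,0,[]))))) (.node (.node (.node (.node (.leaf (298,0,[87,93,90,193])) (.leaf (1954,0,[]))) (.node (.leaf (1821,0,[])) (.leaf (3615,0,[])))) (.node (.node (.leaf (1125,0,[])) (.leaf (3058,0,[88,89,13]))) (.leaf (1486,0,[])))) (.node (.node (.node (.leaf (393,0,[])) (.leaf (2196,0,[]))) (.node (.leaf (2122,0,[])) (.leaf (3640,0,[57,55,42,171])))) (.node (.node (.leaf (822,0,[])) (.leaf (2741,0,[]))) (.leaf (1720,0,[])))))))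

noncomputable def move100111 : Tr (ℕ × ℕ × List ℕ) :=
  .node (.node (.node (.node (.node (.node (.node (.leaf (20,0,[])) (.leaf (1765,0,[]))) (.node (.leaf (1552,0,[])) (.leaf (2799,0,[])))) (.node (.node (.leaf (837,0,[])) (.leaf (2249,0,[]))) (.node (.leaf (1380,0,[88,44,100])) (.leaf (3486,0,[]))))) (.node (.node (.node (.leaf (222,0,[])) (.leaf (2001,0,[]))) (.node (.leaf (1658,0,[57,93,176,98])) (.leaf (3637,0,[])))) (.node (.node (.leaf (1191,0,[])) (.leaf (2508,0,[]))) (.leaf (1527,0,[]))))) (.node (.node (.node (.node (.leaf (255,0,[])) (.leaf (1882,0,[]))) (.node (.leaf (969,0,[])) (.leaf (2949,0,[])))) (.node (.node (.leaf (537,0,[])) (.leaf (2377,0,[]))) (.node (.leaf (2333,0,[])) (.leaf (3664,0,[]))))) (.node (.node (.node (.leaf (453,0,[43])) (.leaf (3100,0,[]))) (.node (.leaf (1183,0,[])) (.leaf (3700,0,[])))) (.node (.node (.leaf (1369,0,[])) (.leaf (2998,0,[123,69]))) (.leaf (1642,0,[])))))) (.node (.node (.node (.node (.node (.leaf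 (72,0,[])) (.leaf (1825,0,[]))) (.node (.leaf (914,0,[])) (.leaf (2863,0,[])))) (.node (.node (.leaf (484,0,[])) (.leaf (3256,0,[]))) (.node (.leaf (1346,0,[])) (.leaf (3573,0,[]))))) (.node (.node (.node (.leaf (549,0,[])) (.leaf (2058,0,[]))) (.node (.leaf (1960,0,[])) (.leaf (3203,0,[])))) (.node (.node (.leaf (692,0,[])) (.leaf (3414,0,[]))) (.leaf (2548,0,[]))))) (.node (.node (.node (.node (.leaf (171,0,[])) (.leaf (2939,0,[]))) (.node (.leaf (1797,0,[])) (.leaf (3610,0,[])))) (.node (.node (.leaf (587,0,[])) (.leaf (3336,0,[]))) (.leaf (2402,0,[])))) (.node (.node (.node (.leaf (743,0,[])) (.leaf (3161,0,[]))) (.node (.leaf (2057,0,[87,110,44,122])) (.leaf (3739,0,[])))) (.node (.node (.leaf (1461,0,[])) (.leaf (2721,0,[]))) (.leaf (1704,0,[]))))))) (.node (.node (.node (.node (.node (.node (.leaf (48,0,[])) (.leaf (2790,0,[]))) (.node (.leaf (887,0,[])) (.leaf (2832,0,[])))) (.node (.node (.leaf (883,0,[])) (.leaf (2279,0,[]))) (.node (.leaf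 (1318,0,[])) (.leaf (3754,0,[57,56,140,21]))))) (.node (.node (.node (.leaf (326,0,[110,140,209])) (.leaf (2031,0,[]))) (.node (.leaf (1104,0,[])) (.leaf (3659,0,[])))) (.node (.node (.leaf (664,0,[])) (.leaf (2537,0,[]))) (.leaf (1944,0,[57,43,235]))))) (.node (.node (.node (.node (.leaf (192,0,[94,90,190])) (.leaf (1911,0,[]))) (.node (.leaf (1754,0,[])) (.leaf (2985,0,[])))) (.node (.node (.leaf (562,0,[])) (.leaf (3311,0,[]))) (.node (.leaf (2364,0,[])) (.leaf (3774,0,[57,55,89,174]))))) (.node (.node (.node (.leaf (353,0,[])) (.leaf (2154,0,[]))) (.node (.leaf (1213,0,[])) (.leaf (3356,0,[])))) (.node (.node (.leaf (777,0,[])) (.leaf (3268,0,[94,140,143]))) (.leaf (1670,0,[])))))) (.node (.node (.node (.node (.node (.leaf (97,0,[])) (.leaf (2852,0,[]))) (.node (.leaf (1677,0,[])) (.leaf (2909,0,[])))) (.node (.node (.leaf (512,0,[])) (.leaf (3279,0,[]))) (.node (.leaf (1471,0,[57,93,116,164])) (.leaf (3617,0,[]))))) (.node (.node (.node (.leaf (299,0,[]))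 (.leaf (2563,0,[57,93,116,120]))) (.node (.leaf (1464,0,[110,140,219])) (.leaf (3245,0,[])))) (.node (.node (.leaf (723,0,[])) (.leaf (2610,0,[]))) (.leaf (2583,0,[]))))) (.node (.node (.node (.node (.leaf (402,0,[])) (.leaf (1970,0,[]))) (.node (.leaf (1145,0,[88,93,155,167])) (.leaf (3294,0,[88,55,90,96])))) (.node (.node (.leaf (616,0,[])) (.leaf (3352,0,[]))) (.leaf (1500,0,[])))) (.node (.node (.node (.leaf (406,0,[])) (.leaf (2213,0,[]))) (.node (.leaf (2141,0,[])) (.leaf (3748,0,[])))) (.node (.node (.leaf (835,0,[])) (.leaf (2761,0,[]))) (.leaf (1736,0,[])))))))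

noncomputable def move10011 : Tr (ℕ × ℕ × List ℕ) := .node move100110 move100111

noncomputable def move1001 : Tr (ℕ × ℕ × List ℕ) := .node move10010 move10011

noncomputable def move100 : Tr (ℕ × ℕ × List ℕ) := .node move1000 move1001

noncomputable def move101000 : Tr (ℕ × ℕ × List ℕ) :=
  .node (.node (.node (.node (.node (.node (.node (.leaf (7,0,[])) (.leaf (1742,0,[]))) (.node (.leaf (840,0,[])) (.leaf (2767,0,[])))) (.node (.node (.leaf (410,0,[])) (.leaf (2219,0,[]))) (.node (.leaf (2148,0,[])) (.leaf (3635,0,[94,155,18]))))) (.node (.node (.node (.leaf (316,0,[88,94,44,187])) (.leaf (1975,0,[]))) (.node (.leaf (1856,0,[])) (.leaf (3079,0,[])))) (.node (.node (.leaf (620,0,[])) (.leaf (2478,0,[]))) (.leaf (1506,0,[]))))) (.node (.node (.node (.node (.leaf (213,0,[])) (.leaf (1860,0,[]))) (.node (.leaf (946,0,[])) (.leaf (2916,0,[])))) (.node (.node (.leaf (516,0,[])) (.leaf (2701,0,[91,237]))) (.node (.leaf (1386,0,[])) (.leaf (3752,0,[88,110,140,46])))))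 (.node (.node (.node (.leaf (305,0,[])) (.leaf (2094,0,[]))) (.node (.leaf (1808,0,[87,110,90,35])) (.leaf (3253,0,[])))) (.node (.node (.leaf (1332,0,[])) (.leaf (2616,0,[]))) (.leaf (1616,0,[])))))) (.node (.node (.node (.node (.node (.leaf (53,0,[])) (.leaf (2549,0,[88,93,89,36]))) (.node (.leaf (1472,0,[29])) (.leaf (3533,0,[])))) (.node (.node (.leaf (461,0,[])) (.leaf (2285,0,[]))) (.node (.leaf (2230,0,[])) (.leaf (3570,0,[176,20]))))) (.node (.node (.node (.leaf (510,0,[])) (.leaf (3026,0,[]))) (.node (.leaf (1933,0,[])) (.leaf (3169,0,[])))) (.node (.node (.leaf (669,0,[])) (.leaf (2544,0,[]))) (.leaf (1559,0,[]))))) (.node (.node (.node (.node (.leaf (265,0,[57,56,44,237])) (.leaf (1915,0,[]))) (.node (.leaf (1003,0,[])) (.leaf (3181,0,[57,44,8])))) (.node (.node (.leaf (567,0,[])) (.leaf (3313,0,[]))) (.node (.leaf (1446,0,[])) (.leaf (3766,0,[94,116,76]))))) (.node (.node (.node (.leaf (357,0,[])) (.leaf (2158,0,[]))) (.node (.leaf (1219,0,[]))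 (.leaf (3361,0,[])))) (.node (.node (.leaf (1424,0,[])) (.leaf (3477,0,[]))) (.leaf (1675,0,[]))))))) (.node (.node (.node (.node (.node (.node (.leaf (54,0,[])) (.leaf (2764,0,[]))) (.node (.leaf (1562,0,[])) (.leaf (2806,0,[])))) (.node (.node (.leaf (436,0,[])) (.leaf (2253,0,[]))) (.node (.leaf (2187,0,[])) (.leaf (3493,0,[]))))) (.node (.node (.node (.leaf (462,0,[])) (.leaf (2007,0,[]))) (.node (.leaf (1082,0,[])) (.leaf (3351,0,[57,110,43,205])))) (.node (.node (.leaf (826,0,[87,110,43,131])) (.leaf (3377,0,[]))) (.leaf (1532,0,[]))))) (.node (.node (.node (.node (.leaf (127,0,[])) (.leaf (2888,0,[]))) (.node (.leaf (973,0,[])) (.leaf (3587,0,[])))) (.node (.node (.leaf (552,0,[88,94,89,114])) (.leaf (2383,0,[]))) (.node (.leaf (1414,0,[])) (.leaf (3677,0,[]))))) (.node (.node (.node (.leaf (332,0,[])) (.leaf (2579,0,[88,110,90,33]))) (.node (.leaf (1188,0,[])) (.leaf (3308,0,[])))) (.node (.node (.leaf (1379,0,[])) (.leaf (3458,0,[]))) (.leaf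 (2625,0,[])))))) (.node (.node (.node (.node (.node (.leaf (77,0,[])) (.leaf (1830,0,[]))) (.node (.leaf (919,0,[])) (.leaf (3500,0,[87,56,123,6])))) (.node (.node (.leaf (489,0,[])) (.leaf (2444,0,[110,44,156]))) (.node (.leaf (2267,0,[])) (.leaf (3583,0,[]))))) (.node (.node (.node (.leaf (279,0,[])) (.leaf (2064,0,[]))) (.node (.leaf (1308,0,[57,93,176,98])) (.leaf (3212,0,[])))) (.node (.node (.leaf (699,0,[])) (.leaf (2600,0,[87,55,43,31]))) (.leaf (1589,0,[]))))) (.node (.node (.node (.node (.leaf (367,0,[])) (.leaf (2944,0,[]))) (.node (.leaf (1030,0,[])) (.leaf (3037,0,[])))) (.node (.node (.leaf (615,0,[87,94,91,118])) (.leaf (3343,0,[]))) (.leaf (1477,0,[])))) (.node (.node (.node (.leaf (404,0,[88,110,104,152])) (.leaf (3168,0,[]))) (.node (.leaf (1242,0,[])) (.leaf (3742,0,[])))) (.node (.node (.leaf (809,0,[])) (.leaf (2727,0,[]))) (.leaf (1709,0,[])))))))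

noncomputable def move101001 : Tr (ℕ × ℕ × List ℕ) :=
  .node (.node (.node (.node (.node (.node (.node (.leaf (13,0,[])) (.leaf (1758,0,[]))) (.node (.leaf (1535,0,[])) (.leaf (2784,0,[])))) (.node (.node (.leaf (821,0,[])) (.leaf (2237,0,[]))) (.node (.leaf (2168,0,[])) (.leaf (3469,0,[]))))) (.node (.node (.node (.leaf (437,0,[])) (.leaf (2415,0,[87,93,43,7]))) (.node (.leaf (1069,0,[])) (.leaf (3103,0,[])))) (.node (.node (.leaf (631,0,[])) (.leaf (2498,0,[]))) (.leaf (2023,0,[87,94,140,152]))))) (.node (.node (.node (.node (.leaf (240,0,[])) (.leaf (2876,0,[]))) (.node (.leaf (959,0,[])) (.leaf (3288,0,[57,56,176,242])))) (.node (.node (.leaf (1001,0,[])) (.leaf (2369,0,[]))) (.node (.leaf (1399,0,[])) (.leaf (3653,0,[]))))) (.node (.node (.node (.leaf (318,0,[])) (.leaf (2107,0,[]))) (.node (.leaf (2017,0,[])) (.leaf (3277,0,[])))) (.node (.node (.leaf (1061,0,[42,10])) (.leaf (2634,0,[]))) (.leaf (1634,0,[])))))) (.node (.node (.node (.node (.node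 (.leaf (98,0,[87,55,116,131])) (.leaf (2813,0,[]))) (.node (.leaf (906,0,[])) (.leaf (2855,0,[])))) (.node (.node (.leaf (474,0,[])) (.leaf (2571,0,[55,123,171]))) (.node (.leaf (2252,0,[])) (.leaf (3553,0,[]))))) (.node (.node (.node (.leaf (534,0,[])) (.leaf (2419,0,[87,56,176,141]))) (.node (.leaf (1948,0,[])) (.leaf (3671,0,[])))) (.node (.node (.leaf (1261,0,[])) (.leaf (2732,0,[88,103,92]))) (.leaf (2536,0,[]))))) (.node (.node (.node (.node (.leaf (164,0,[])) (.leaf (2930,0,[]))) (.node (.leaf (1017,0,[])) (.leaf (3010,0,[])))) (.node (.node (.leaf (579,0,[])) (.leaf (3328,0,[]))) (.node (.leaf (1460,0,[])) (.leaf (3794,0,[88,110,103,164]))))) (.node (.node (.node (.leaf (728,0,[])) (.leaf (2171,0,[]))) (.node (.leaf (1230,0,[])) (.leaf (3382,0,[])))) (.node (.node (.leaf (1447,0,[])) (.leaf (2707,0,[]))) (.leaf (1692,0,[]))))))) (.node (.node (.node (.node (.node (.node (.leaf (40,0,[])) (.leaf (2777,0,[]))) (.node (.leaf (878,0,[])) (.leaf (3522,0,[]))))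 (.node (.node (.leaf (448,0,[])) (.leaf (2325,0,[94,104,212]))) (.node (.leaf (1310,0,[])) (.leaf (3514,0,[]))))) (.node (.node (.node (.leaf (241,0,[])) (.leaf (2022,0,[]))) (.node (.leaf (1095,0,[])) (.leaf (3623,0,[87,56,123,6])))) (.node (.node (.leaf (657,0,[])) (.leaf (2528,0,[]))) (.leaf (1719,0,[88,94,44,117]))))) (.node (.node (.node (.node (.leaf (292,0,[])) (.leaf (1902,0,[]))) (.node (.leaf (986,0,[])) (.leaf (2975,0,[])))) (.node (.node (.leaf (1049,0,[])) (.leaf (3305,0,[]))) (.node (.leaf (1431,0,[])) (.leaf (3743,0,[110,44,23]))))) (.node (.node (.node (.leaf (677,0,[])) (.leaf (3121,0,[]))) (.node (.leaf (1202,0,[])) (.leaf (3560,0,[110,176,37])))) (.node (.node (.leaf (769,0,[])) (.leaf (3407,0,[88,110,140,183]))) (.leaf (2638,0,[])))))) (.node (.node (.node (.node (.node (.leaf (89,0,[])) (.leaf (2348,0,[94,44,4]))) (.node (.leaf (933,0,[])) (.leaf (2994,0,[88,104,21])))) (.node (.node (.leaf (503,0,[])) (.leaf (3272,0,[]))) (.node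 (.leaf (1368,0,[])) (.leaf (3784,0,[]))))) (.node (.node (.node (.leaf (583,0,[])) (.leaf (3067,0,[]))) (.node (.leaf (1986,0,[])) (.leaf (3687,0,[])))) (.node (.node (.leaf (1309,0,[])) (.leaf (2599,0,[]))) (.leaf (2572,0,[]))))) (.node (.node (.node (.node (.leaf (188,0,[])) (.leaf (1959,0,[]))) (.node (.leaf (1829,0,[])) (.leaf (3063,0,[])))) (.node (.node (.leaf (716,0,[88,93,43,195])) (.leaf (2480,0,[57,155,23]))) (.leaf (2432,0,[])))) (.node (.node (.node (.leaf (770,0,[])) (.leaf (2203,0,[]))) (.node (.leaf (2129,0,[])) (.leaf (3728,0,[57,43,9])))) (.node (.node (.leaf (828,0,[])) (.leaf (2746,0,[]))) (.leaf (1727,0,[])))))))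

noncomputable def move10100 : Tr (ℕ × ℕ × List ℕ) := .node move101000 move101001

noncomputable def move101010 : Tr (ℕ × ℕ × List ℕ) :=
  .node (.node (.node (.node (.node (.node (.node (.leaf (21,0,[])) (.leaf (1750,0,[]))) (.node (.leaf (846,0,[])) (.leaf (2775,0,[])))) (.node (.node (.leaf (810,0,[])) (.leaf (2228,0,[]))) (.node (.leaf (1273,0,[])) (.leaf (3472,0,[87,110,104,232]))))) (.node (.node (.node (.leaf (423,0,[])) (.leaf (1982,0,[]))) (.node (.leaf (1064,0,[])) (.leaf (3088,0,[])))) (.node (.node (.leaf (626,0,[])) (.leaf (2490,0,[]))) (.leaf (2458,0,[]))))) (.node (.node (.node (.node (.leaf (227,0,[])) (.leaf (2866,0,[]))) (.node (.leaf (953,0,[])) (.leaf (3223,0,[87,56,104,222])))) (.node (.node (.leaf (522,0,[])) (.leaf (3286,0,[]))) (.node (.leaf (1393,0,[])) (.leaf (3657,0,[57,55,43,29]))))) (.node (.node (.node (.leaf (311,0,[])) (.leaf (2101,0,[]))) (.node (.leaf (1168,0,[])) (.leaf (3474,0,[110,91,213])))) (.node (.node (.leaf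 (1343,0,[])) (.leaf (2626,0,[]))) (.leaf (1624,0,[])))))) (.node (.node (.node (.node (.node (.leaf (121,0,[])) (.leaf (1807,0,[]))) (.node (.leaf (898,0,[])) (.leaf (2847,0,[])))) (.node (.node (.leaf (467,0,[])) (.leaf (3238,0,[]))) (.node (.leaf (2241,0,[])) (.leaf (3651,0,[87,94,90,205]))))) (.node (.node (.node (.leaf (261,0,[])) (.leaf (2044,0,[]))) (.node (.leaf (1115,0,[])) (.leaf (3476,0,[87,140,216])))) (.node (.node (.leaf (1248,0,[])) (.leaf (3297,0,[87,93,123,156]))) (.leaf (1567,0,[]))))) (.node (.node (.node (.node (.leaf (325,0,[])) (.leaf (1921,0,[]))) (.node (.leaf (1770,0,[])) (.leaf (3004,0,[])))) (.node (.node (.leaf (573,0,[])) (.leaf (2422,0,[]))) (.node (.leaf (1451,0,[])) (.leaf (3764,0,[]))))) (.node (.node (.node (.leaf (363,0,[])) (.leaf (2673,0,[87,93,90,97]))) (.node (.leaf (1224,0,[])) (.leaf (3725,0,[])))) (.node (.node (.leaf (791,0,[])) (.leaf (2695,0,[]))) (.leaf (1683,0,[]))))))) (.node (.node (.node (.node (.node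 (.node (.leaf (33,0,[])) (.leaf (1776,0,[]))) (.node (.leaf (872,0,[])) (.leaf (3515,0,[])))) (.node (.node (.leaf (855,0,[])) (.leaf (2261,0,[]))) (.node (.leaf (1301,0,[])) (.leaf (3504,0,[]))))) (.node (.node (.node (.leaf (234,0,[])) (.leaf (2015,0,[]))) (.node (.leaf (1904,0,[])) (.leaf (3133,0,[])))) (.node (.node (.leaf (650,0,[])) (.leaf (3386,0,[]))) (.leaf (2488,0,[]))))) (.node (.node (.node (.node (.leaf (133,0,[])) (.leaf (1893,0,[]))) (.node (.leaf (1735,0,[])) (.leaf (2967,0,[])))) (.node (.node (.leaf (548,0,[])) (.leaf (2966,0,[88,110,42,12]))) (.node (.leaf (2345,0,[])) (.leaf (3689,0,[]))))) (.node (.node (.node (.leaf (338,0,[])) (.leaf (2900,0,[94,91,177]))) (.node (.leaf (1196,0,[])) (.leaf (3323,0,[])))) (.node (.node (.leaf (1392,0,[])) (.leaf (2656,0,[]))) (.leaf (2631,0,[])))))) (.node (.node (.node (.node (.node (.leaf (84,0,[])) (.leaf (2828,0,[]))) (.node (.leaf (926,0,[])) (.leaf (2886,0,[])))) (.node (.node (.leaf (496,0,[]))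 (.leaf (2324,0,[]))) (.node (.leaf (1362,0,[])) (.leaf (3591,0,[]))))) (.node (.node (.node (.leaf (286,0,[])) (.leaf (2070,0,[]))) (.node (.leaf (1297,0,[87,110,89,222])) (.leaf (3221,0,[])))) (.node (.node (.leaf (706,0,[])) (.leaf (3425,0,[]))) (.leaf (2564,0,[]))))) (.node (.node (.node (.node (.leaf (236,0,[225])) (.leaf (1952,0,[]))) (.node (.leaf (1037,0,[])) (.leaf (3050,0,[])))) (.node (.node (.leaf (599,0,[])) (.leaf (2779,0,[93,42,128]))) (.leaf (1484,0,[])))) (.node (.node (.node (.leaf (759,0,[])) (.leaf (2538,0,[57,94,123,143]))) (.node (.leaf (2118,0,[])) (.leaf (3410,0,[])))) (.node (.node (.leaf (820,0,[])) (.leaf (2883,0,[88,155,31]))) (.leaf (1718,0,[])))))))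

noncomputable def move101011 : Tr (ℕ × ℕ × List ℕ) :=
  .node (.node (.node (.node (.node (.node (.node (.leaf (18,0,[])) (.leaf (2756,0,[]))) (.node (.leaf (858,0,[])) (.leaf (3511,0,[])))) (.node (.node (.leaf (429,0,[])) (.leaf (3205,0,[]))) (.node (.leaf (1285,0,[])) (.leaf (3483,0,[]))))) (.node (.node (.node (.leaf (221,0,[])) (.leaf (2000,0,[]))) (.node (.leaf (1432,0,[56,103,167])) (.leaf (3114,0,[])))) (.node (.node (.leaf (637,0,[])) (.leaf (2506,0,[]))) (.leaf (2475,0,[]))))) (.node (.node (.node (.node (.leaf (122,0,[])) (.leaf (1881,0,[]))) (.node (.leaf (967,0,[])) (.leaf (3109,0,[57,56,104,46])))) (.node (.node (.leaf (1014,0,[])) (.leaf (2552,0,[87,110,104,238]))) (.node (.leaf (2332,0,[])) (.leaf (3686,0,[123,21]))))) (.node (.node (.node (.leaf (639,0,[])) (.leaf (2115,0,[]))) (.node (.leaf (1181,0,[])) (.leaf (3324,0,[55,89,122])))) (.node (.node (.leaf (922,0,[55,123,92])) (.leaf (2641,0,[]))) (.leaf (2617,0,[])))))) (.node (.node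 (.node (.node (.node (.leaf (145,0,[])) (.leaf (1823,0,[]))) (.node (.leaf (912,0,[])) (.leaf (2862,0,[])))) (.node (.node (.leaf (923,0,[])) (.leaf (2309,0,[]))) (.node (.leaf (1520,0,[88,104,141])) (.leaf (3566,0,[]))))) (.node (.node (.node (.leaf (273,0,[])) (.leaf (2055,0,[]))) (.node (.leaf (1128,0,[])) (.leaf (3675,0,[])))) (.node (.node (.leaf (1275,0,[])) (.leaf (3411,0,[]))) (.leaf (1582,0,[]))))) (.node (.node (.node (.node (.leaf (352,0,[])) (.leaf (2938,0,[]))) (.node (.leaf (1794,0,[])) (.leaf (3024,0,[])))) (.node (.node (.leaf (940,0,[87,93,103,244])) (.leaf (3335,0,[]))) (.leaf (1467,0,[])))) (.node (.node (.node (.leaf (741,0,[])) (.leaf (2182,0,[]))) (.node (.leaf (1236,0,[])) (.leaf (3392,0,[])))) (.node (.node (.leaf (1458,0,[])) (.leaf (2718,0,[]))) (.leaf (1700,0,[]))))))) (.node (.node (.node (.node (.node (.node (.leaf (94,0,[])) (.leaf (1792,0,[]))) (.node (.leaf (886,0,[])) (.leaf (2831,0,[])))) (.node (.node (.leaf (455,0,[]))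 (.leaf (2466,0,[110,91,191]))) (.node (.leaf (2221,0,[])) (.leaf (3524,0,[]))))) (.node (.node (.node (.leaf (248,0,[])) (.leaf (2147,0,[56,176,122]))) (.node (.leaf (1102,0,[])) (.leaf (3157,0,[])))) (.node (.node (.leaf (984,0,[87,93,116,9])) (.leaf (3395,0,[]))) (.leaf (1553,0,[]))))) (.node (.node (.node (.node (.leaf (146,0,[])) (.leaf (1961,0,[88,93,176,75]))) (.node (.leaf (994,0,[])) (.leaf (3237,0,[56,44,213])))) (.node (.node (.leaf (561,0,[])) (.leaf (2796,0,[57,93,89,2]))) (.node (.leaf (1440,0,[])) (.leaf (3729,0,[87,55,91,179]))))) (.node (.node (.node (.leaf (351,0,[])) (.leaf (3126,0,[]))) (.node (.leaf (2060,0,[])) (.leaf (3353,0,[])))) (.node (.node (.leaf (775,0,[])) (.leaf (2674,0,[]))) (.leaf (1669,0,[])))))) (.node (.node (.node (.node (.node (.leaf (198,0,[])) (.leaf (2848,0,[]))) (.node (.leaf (1674,0,[])) (.leaf (2908,0,[])))) (.node (.node (.leaf (589,0,[88,116,125])) (.leaf (3012,0,[87,110,155,136]))) (.node (.leaf (1378,0,[]))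 (.leaf (3619,0,[57,94,104,120]))))) (.node (.node (.node (.leaf (297,0,[])) (.leaf (2086,0,[]))) (.node (.leaf (1155,0,[])) (.leaf (3243,0,[])))) (.node (.node (.leaf (720,0,[])) (.leaf (2607,0,[]))) (.leaf (1610,0,[]))))) (.node (.node (.node (.node (.leaf (197,0,[])) (.leaf (2964,0,[]))) (.node (.leaf (1843,0,[])) (.leaf (3415,0,[57,56,123,225])))) (.node (.node (.leaf (613,0,[])) (.leaf (3226,0,[88,94,116,12]))) (.leaf (2440,0,[])))) (.node (.node (.node (.leaf (783,0,[])) (.leaf (3178,0,[87,110,123,244]))) (.node (.leaf (1262,0,[])) (.leaf (3426,0,[])))) (.node (.node (.leaf (1497,0,[])) (.leaf (3495,0,[]))) (.leaf (1734,0,[])))))))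

noncomputable def move10101 : Tr (ℕ × ℕ × List ℕ) := .node move101010 move101011

noncomputable def move1010 : Tr (ℕ × ℕ × List ℕ) := .node move10100 move10101

noncomputable def move101100 : Tr (ℕ × ℕ × List ℕ) :=
  .node (.node (.node (.node (.node (.node (.node (.leaf (14,0,[])) (.leaf (1746,0,[]))) (.node (.leaf (843,0,[])) (.leaf (2772,0,[])))) (.node (.node (.leaf (803,0,[])) (.leaf (2925,0,[89,158]))) (.node (.leaf (1270,0,[])) (.leaf (3446,0,[]))))) (.node (.node (.node (.leaf (417,0,[])) (.leaf (2970,0,[57,110,176,33]))) (.node (.leaf (1861,0,[])) (.leaf (3083,0,[])))) (.node (.node (.leaf (1161,0,[])) (.leaf (2486,0,[]))) (.leaf (1510,0,[]))))) (.node (.node (.node (.node (.leaf (220,0,[])) (.leaf (2859,0,[]))) (.node (.leaf (950,0,[])) (.leaf (2919,0,[])))) (.node (.node (.leaf (989,0,[])) (.leaf (3284,0,[]))) (.node (.leaf (1390,0,[])) (.leaf (3633,0,[]))))) (.node (.node (.node (.leaf (308,0,[])) (.leaf (2099,0,[]))) (.node (.leaf (1165,0,[]))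 (.leaf (3257,0,[])))) (.node (.node (.leaf (731,0,[])) (.leaf (2620,0,[]))) (.leaf (1619,0,[])))))) (.node (.node (.node (.node (.node (.leaf (114,0,[])) (.leaf (1804,0,[]))) (.node (.leaf (1609,0,[])) (.leaf (3229,0,[57,93,140,227])))) (.node (.node (.leaf (896,0,[])) (.leaf (3235,0,[]))) (.node (.leaf (1327,0,[])) (.leaf (3563,0,[57,55,140,242]))))) (.node (.node (.node (.leaf (258,0,[])) (.leaf (2331,0,[57,55,89,112]))) (.node (.leaf (1112,0,[])) (.leaf (3176,0,[])))) (.node (.node (.leaf (673,0,[])) (.leaf (2554,0,[87,94,44,182]))) (.leaf (1564,0,[]))))) (.node (.node (.node (.node (.leaf (154,0,[])) (.leaf (1918,0,[]))) (.node (.leaf (1007,0,[])) (.leaf (3602,0,[])))) (.node (.node (.leaf (570,0,[])) (.leaf (2974,0,[88,93,43,169]))) (.node (.leaf (2375,0,[])) (.leaf (3756,0,[]))))) (.node (.node (.node (.leaf (360,0,[])) (.leaf (2161,0,[]))) (.node (.leaf (1222,0,[])) (.leaf (3596,0,[88,110,140,145])))) (.node (.node (.leaf (787,0,[])) (.leaf (2689,0,[])))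 (.leaf (1678,0,[]))))))) (.node (.node (.node (.node (.node (.node (.leaf (59,0,[])) (.leaf (1773,0,[]))) (.node (.leaf (1565,0,[])) (.leaf (3348,0,[55,42,188])))) (.node (.node (.leaf (439,0,[])) (.leaf (2257,0,[]))) (.node (.leaf (1296,0,[])) (.leaf (3499,0,[]))))) (.node (.node (.node (.leaf (230,0,[])) (.leaf (2011,0,[]))) (.node (.leaf (1897,0,[])) (.leaf (3301,0,[87,55,176,4])))) (.node (.node (.leaf (1206,0,[])) (.leaf (2517,0,[]))) (.leaf (2117,0,[56,140,172]))))) (.node (.node (.node (.node (.leaf (130,0,[])) (.leaf (2892,0,[]))) (.node (.leaf (1728,0,[])) (.leaf (2962,0,[])))) (.node (.node (.leaf (545,0,[])) (.leaf (2386,0,[]))) (.node (.leaf (2089,0,[57,93,155,75])) (.leaf (3680,0,[]))))) (.node (.node (.node (.leaf (480,0,[88,94,89,115])) (.leaf (2128,0,[]))) (.node (.leaf (2039,0,[])) (.leaf (3706,0,[93,43,172])))) (.node (.node (.leaf (758,0,[])) (.leaf (3462,0,[]))) (.leaf (1650,0,[])))))) (.node (.node (.node (.node (.node (.leaf (165,0,[]))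 (.leaf (1833,0,[]))) (.node (.leaf (991,0,[87,55,89,174])) (.leaf (2878,0,[])))) (.node (.node (.leaf (493,0,[])) (.leaf (2321,0,[]))) (.node (.leaf (2273,0,[])) (.leaf (3709,0,[88,155,111]))))) (.node (.node (.node (.leaf (283,0,[])) (.leaf (2066,0,[]))) (.node (.leaf (1136,0,[])) (.leaf (3558,0,[57,94,176,224])))) (.node (.node (.leaf (703,0,[])) (.leaf (2586,0,[]))) (.leaf (2562,0,[]))))) (.node (.node (.node (.node (.leaf (374,0,[])) (.leaf (1949,0,[]))) (.node (.leaf (1813,0,[])) (.leaf (3045,0,[])))) (.node (.node (.leaf (595,0,[])) (.leaf (2451,0,[]))) (.leaf (1481,0,[])))) (.node (.node (.node (.leaf (388,0,[])) (.leaf (2289,0,[87,110,91,182]))) (.node (.leaf (1373,0,[94,91,186])) (.leaf (3404,0,[])))) (.node (.node (.leaf (815,0,[])) (.leaf (2734,0,[]))) (.leaf (1713,0,[])))))))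

noncomputable def move101101 : Tr (ℕ × ℕ × List ℕ) :=
  .node (.node (.node (.node (.node (.node (.node (.leaf (39,0,[])) (.leaf (2752,0,[]))) (.node (.leaf (1542,0,[])) (.leaf (3456,0,[88,94,42,23])))) (.node (.node (.leaf (426,0,[])) (.leaf (2941,0,[87,94,42,97]))) (.node (.leaf (2174,0,[])) (.leaf (3475,0,[]))))) (.node (.node (.node (.leaf (218,0,[])) (.leaf (1994,0,[]))) (.node (.leaf (1879,0,[])) (.leaf (3110,0,[])))) (.node (.node (.leaf (634,0,[])) (.leaf (2501,0,[]))) (.leaf (1522,0,[]))))) (.node (.node (.node (.node (.leaf (118,0,[])) (.leaf (1878,0,[]))) (.node (.leaf (1707,0,[])) (.leaf (3330,0,[94,18])))) (.node (.node (.leaf (532,0,[])) (.leaf (2372,0,[]))) (.node (.leaf (1403,0,[])) (.leaf (3656,0,[]))))) (.node (.node (.node (.leaf (321,0,[])) (.leaf (2112,0,[]))) (.node (.leaf (1178,0,[])) (.leaf (3684,0,[87,55,140,10])))) (.node (.node (.leaf (1361,0,[])) (.leaf (3043,0,[87,55,89,127]))) (.leaf (2612,0,[])))))) (.node (.node (.node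 (.node (.node (.leaf (67,0,[])) (.leaf (1819,0,[]))) (.node (.leaf (1630,0,[])) (.leaf (3543,0,[])))) (.node (.node (.leaf (478,0,[])) (.leaf (3250,0,[]))) (.node (.leaf (1341,0,[])) (.leaf (3762,0,[88,93,91,4]))))) (.node (.node (.node (.leaf (270,0,[])) (.leaf (2898,0,[57,93,104,23]))) (.node (.leaf (1955,0,[])) (.leaf (3194,0,[])))) (.node (.node (.leaf (1268,0,[])) (.leaf (2822,0,[57,93,176,147]))) (.leaf (2543,0,[]))))) (.node (.node (.node (.node (.leaf (345,0,[])) (.leaf (2933,0,[]))) (.node (.leaf (1020,0,[])) (.leaf (3019,0,[])))) (.node (.node (.leaf (582,0,[])) (.leaf (3332,0,[]))) (.leaf (2396,0,[])))) (.node (.node (.node (.leaf (375,0,[])) (.leaf (3078,0,[87,93,138]))) (.node (.leaf (1233,0,[])) (.leaf (3722,0,[87,123,200])))) (.node (.node (.leaf (1453,0,[])) (.leaf (2710,0,[]))) (.leaf (1696,0,[]))))))) (.node (.node (.node (.node (.node (.node (.leaf (43,0,[])) (.leaf (2782,0,[]))) (.node (.leaf (881,0,[])) (.leaf (2826,0,[])))) (.node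 (.node (.leaf (451,0,[])) (.leaf (2274,0,[]))) (.node (.leaf (2215,0,[])) (.leaf (3518,0,[]))))) (.node (.node (.node (.leaf (492,0,[])) (.leaf (2026,0,[]))) (.node (.leaf (1099,0,[])) (.leaf (3655,0,[])))) (.node (.node (.leaf (660,0,[])) (.leaf (2532,0,[]))) (.leaf (1550,0,[]))))) (.node (.node (.node (.node (.leaf (142,0,[])) (.leaf (1905,0,[]))) (.node (.leaf (990,0,[])) (.leaf (2979,0,[])))) (.node (.node (.leaf (1055,0,[])) (.leaf (2403,0,[]))) (.node (.leaf (2358,0,[])) (.leaf (3719,0,[]))))) (.node (.node (.node (.leaf (348,0,[])) (.leaf (2902,0,[57,35]))) (.node (.leaf (1205,0,[])) (.leaf (3665,0,[93,104,220])))) (.node (.node (.leaf (1407,0,[])) (.leaf (3246,0,[94,43,158]))) (.leaf (1665,0,[])))))) (.node (.node (.node (.node (.node (.leaf (93,0,[])) (.leaf (1849,0,[]))) (.node (.leaf (936,0,[])) (.leaf (3315,0,[87,94,214])))) (.node (.node (.leaf (507,0,[])) (.leaf (2911,0,[87,110,90,203]))) (.node (.leaf (1375,0,[])) (.leaf (3612,0,[])))))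 (.node (.node (.node (.leaf (294,0,[])) (.leaf (2081,0,[]))) (.node (.leaf (1991,0,[])) (.leaf (3240,0,[])))) (.node (.node (.leaf (1314,0,[])) (.leaf (2604,0,[]))) (.leaf (1605,0,[]))))) (.node (.node (.node (.node (.leaf (191,0,[])) (.leaf (2961,0,[]))) (.node (.leaf (1046,0,[])) (.leaf (3321,0,[88,94,44,111])))) (.node (.node (.leaf (1139,0,[])) (.leaf (2465,0,[]))) (.leaf (1494,0,[])))) (.node (.node (.node (.leaf (401,0,[])) (.leaf (3061,0,[88,93,104,25]))) (.node (.leaf (1258,0,[])) (.leaf (3420,0,[])))) (.node (.node (.leaf (831,0,[])) (.leaf (2754,0,[]))) (.leaf (2709,0,[])))))))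

noncomputable def move10110 : Tr (ℕ × ℕ × List ℕ) := .node move101100 move101101

noncomputable def move101110 : Tr (ℕ × ℕ × List ℕ) :=
  .node (.node (.node (.node (.node (.node (.node (.leaf (9,0,[])) (.leaf (2445,0,[57,94,116,193]))) (.node (.leaf (849,0,[])) (.leaf (2781,0,[])))) (.node (.node (.leaf (420,0,[])) (.leaf (2233,0,[]))) (.node (.leaf (2163,0,[])) (.leaf (3461,0,[]))))) (.node (.node (.node (.leaf (212,0,[])) (.leaf (1985,0,[]))) (.node (.leaf (1871,0,[])) (.leaf (3115,0,[94,155,112])))) (.node (.node (.leaf (1172,0,[])) (.leaf (2493,0,[]))) (.leaf (1515,0,[]))))) (.node (.node (.node (.node (.leaf (113,0,[])) (.leaf (2871,0,[]))) (.node (.leaf (956,0,[])) (.leaf (2929,0,[])))) (.node (.node (.leaf (818,0,[87,110,104,231])) (.leaf (3287,0,[]))) (.node (.leaf (1396,0,[])) (.leaf (3648,0,[]))))) (.node (.node (.node (.leaf (314,0,[])) (.leaf (3090,0,[]))) (.node (.leaf (1171,0,[])) (.leaf (3608,0,[93,155,200])))) (.node (.node (.leaf (1349,0,[]))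 (.leaf (2630,0,[]))) (.leaf (1631,0,[])))))) (.node (.node (.node (.node (.node (.leaf (61,0,[])) (.leaf (1812,0,[]))) (.node (.leaf (903,0,[])) (.leaf (2851,0,[])))) (.node (.node (.leaf (471,0,[])) (.leaf (2300,0,[]))) (.node (.leaf (2248,0,[])) (.leaf (3546,0,[]))))) (.node (.node (.node (.leaf (264,0,[])) (.leaf (2047,0,[]))) (.node (.leaf (1118,0,[])) (.leaf (3185,0,[])))) (.node (.node (.leaf (1255,0,[])) (.leaf (3166,0,[57,56,42,209]))) (.leaf (2531,0,[]))))) (.node (.node (.node (.node (.leaf (161,0,[])) (.leaf (2926,0,[]))) (.node (.leaf (1541,0,[87,94,116,177])) (.leaf (3606,0,[])))) (.node (.node (.leaf (1086,0,[])) (.leaf (2425,0,[]))) (.node (.leaf (2387,0,[])) (.leaf (3775,0,[]))))) (.node (.node (.node (.leaf (368,0,[])) (.leaf (3145,0,[]))) (.node (.leaf (2085,0,[])) (.leaf (3373,0,[])))) (.node (.node (.leaf (794,0,[])) (.leaf (2703,0,[]))) (.leaf (2672,0,[]))))))) (.node (.node (.node (.node (.node (.node (.leaf (37,0,[])) (.leaf (2773,0,[])))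 (.node (.leaf (1575,0,[])) (.leaf (2819,0,[])))) (.node (.node (.leaf (444,0,[])) (.leaf (2265,0,[]))) (.node (.leaf (2204,0,[])) (.leaf (3510,0,[]))))) (.node (.node (.node (.leaf (238,0,[])) (.leaf (2018,0,[]))) (.node (.leaf (1092,0,[])) (.leaf (3266,0,[57,93,155,216])))) (.node (.node (.leaf (863,0,[103,2])) (.leaf (3389,0,[]))) (.leaf (1544,0,[]))))) (.node (.node (.node (.node (.leaf (136,0,[])) (.leaf (1898,0,[]))) (.node (.leaf (982,0,[])) (.leaf (2972,0,[])))) (.node (.node (.leaf (551,0,[])) (.leaf (2392,0,[]))) (.node (.leaf (1427,0,[])) (.leaf (3773,0,[88,89,201]))))) (.node (.node (.node (.leaf (671,0,[])) (.leaf (2136,0,[]))) (.node (.leaf (1199,0,[])) (.leaf (3713,0,[])))) (.node (.node (.leaf (765,0,[])) (.leaf (3020,0,[91,237]))) (.leaf (2096,0,[57,110,116,129])))))) (.node (.node (.node (.node (.node (.leaf (179,0,[])) (.leaf (2834,0,[]))) (.node (.leaf (930,0,[])) (.leaf (2893,0,[])))) (.node (.node (.leaf (951,0,[])) (.leaf (2328,0,[])))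 (.node (.leaf (2282,0,[])) (.leaf (3782,0,[]))))) (.node (.node (.node (.leaf (366,0,[87,93,103,158])) (.leaf (2074,0,[]))) (.node (.leaf (1980,0,[])) (.leaf (3304,0,[57,93,140,107])))) (.node (.node (.leaf (709,0,[])) (.leaf (2595,0,[]))) (.leaf (2411,0,[88,93,176,141]))))) (.node (.node (.node (.node (.leaf (185,0,[])) (.leaf (2789,0,[88,93,140,217]))) (.node (.leaf (1824,0,[])) (.leaf (3057,0,[])))) (.node (.node (.leaf (603,0,[])) (.leaf (2459,0,[]))) (.leaf (1488,0,[])))) (.node (.node (.node (.leaf (394,0,[])) (.leaf (2681,0,[57,94,89,151]))) (.node (.leaf (2124,0,[])) (.leaf (3413,0,[])))) (.node (.node (.leaf (824,0,[])) (.leaf (2743,0,[]))) (.leaf (1723,0,[])))))))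

noncomputable def move101111 : Tr (ℕ × ℕ × List ℕ) :=
  .node (.node (.node (.node (.node (.node (.node (.leaf (22,0,[])) (.leaf (1766,0,[]))) (.node (.leaf (1555,0,[])) (.leaf (2969,0,[110,155,75])))) (.node (.node (.leaf (432,0,[])) (.leaf (2250,0,[]))) (.node (.leaf (1289,0,[])) (.leaf (3669,0,[110,44,146]))))) (.node (.node (.node (.leaf (457,0,[])) (.leaf (2003,0,[]))) (.node (.leaf (1887,0,[])) (.leaf (3638,0,[])))) (.node (.node (.leaf (1195,0,[])) (.leaf (2510,0,[]))) (.leaf (1529,0,[]))))) (.node (.node (.node (.node (.leaf (125,0,[])) (.leaf (2303,0,[57,56,43,241]))) (.node (.leaf (970,0,[])) (.leaf (2951,0,[])))) (.node (.node (.leaf (538,0,[])) (.leaf (3296,0,[]))) (.node (.leaf (1410,0,[])) (.leaf (3667,0,[]))))) (.node (.node (.node (.leaf (329,0,[])) (.leaf (2120,0,[]))) (.node (.leaf (2028,0,[])) (.leaf (3702,0,[])))) (.node (.node (.leaf (751,0,[])) (.leaf (3065,0,[87,176,166]))) (.leaf (1644,0,[])))))) (.node (.node (.node (.node (.node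 (.leaf (73,0,[])) (.leaf (1827,0,[]))) (.node (.leaf (1640,0,[])) (.leaf (3183,0,[94,104,31])))) (.node (.node (.leaf (929,0,[])) (.leaf (2315,0,[]))) (.node (.leaf (1347,0,[])) (.leaf (3579,0,[]))))) (.node (.node (.node (.leaf (553,0,[])) (.leaf (2835,0,[55,42,106]))) (.node (.leaf (1131,0,[])) (.leaf (3207,0,[])))) (.node (.node (.leaf (694,0,[])) (.leaf (2578,0,[]))) (.leaf (2551,0,[]))))) (.node (.node (.node (.node (.leaf (173,0,[])) (.leaf (1940,0,[]))) (.node (.leaf (1801,0,[])) (.leaf (3482,0,[110,90,127])))) (.node (.node (.leaf (588,0,[])) (.leaf (2443,0,[]))) (.leaf (2406,0,[])))) (.node (.node (.node (.leaf (383,0,[])) (.leaf (3164,0,[]))) (.node (.leaf (2103,0,[])) (.leaf (3550,0,[88,43,117])))) (.node (.node (.leaf (806,0,[])) (.leaf (2722,0,[]))) (.leaf (1706,0,[]))))))) (.node (.node (.node (.node (.node (.node (.leaf (101,0,[])) (.leaf (1930,0,[57,93,191]))) (.node (.leaf (888,0,[])) (.leaf (3532,0,[])))) (.node (.node (.leaf (458,0,[]))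 (.leaf (3230,0,[]))) (.node (.leaf (2224,0,[])) (.leaf (3718,0,[87,55,104,172]))))) (.node (.node (.node (.leaf (252,0,[])) (.leaf (2032,0,[]))) (.node (.leaf (1929,0,[])) (.leaf (3163,0,[])))) (.node (.node (.leaf (665,0,[])) (.leaf (3397,0,[]))) (.leaf (1556,0,[]))))) (.node (.node (.node (.node (.leaf (149,0,[])) (.leaf (1912,0,[]))) (.node (.leaf (999,0,[])) (.leaf (2987,0,[])))) (.node (.node (.leaf (564,0,[])) (.leaf (2409,0,[]))) (.node (.leaf (1443,0,[])) (.leaf (3741,0,[]))))) (.node (.node (.node (.leaf (697,0,[])) (.leaf (3101,0,[57,56,155,196]))) (.node (.leaf (1215,0,[])) (.leaf (3358,0,[])))) (.node (.node (.leaf (779,0,[])) (.leaf (3391,0,[57,110,140,101]))) (.leaf (1672,0,[])))))) (.node (.node (.node (.node (.node (.leaf (99,0,[])) (.leaf (1857,0,[]))) (.node (.leaf (1680,0,[])) (.leaf (3198,0,[57,110,140,69])))) (.node (.node (.leaf (976,0,[])) (.leaf (2349,0,[]))) (.node (.leaf (1382,0,[])) (.leaf (3622,0,[]))))) (.node (.node (.node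 (.leaf (301,0,[])) (.leaf (2090,0,[]))) (.node (.leaf (1999,0,[])) (.leaf (3249,0,[])))) (.node (.node (.leaf (1328,0,[])) (.leaf (2613,0,[]))) (.leaf (1613,0,[]))))) (.node (.node (.node (.node (.leaf (405,0,[])) (.leaf (1971,0,[]))) (.node (.leaf (1052,0,[])) (.leaf (3557,0,[57,93,104,8])))) (.node (.node (.leaf (1149,0,[])) (.leaf (3029,0,[57,55,89,5]))) (.leaf (1502,0,[])))) (.node (.node (.node (.leaf (407,0,[])) (.leaf (3182,0,[]))) (.node (.leaf (2144,0,[])) (.leaf (3434,0,[])))) (.node (.node (.leaf (1503,0,[])) (.leaf (3390,0,[87,110,103,193]))) (.leaf (1738,0,[])))))))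

noncomputable def move10111 : Tr (ℕ × ℕ × List ℕ) := .node move101110 move101111

noncomputable def move1011 : Tr (ℕ × ℕ × List ℕ) := .node move10110 move10111

noncomputable def move101 : Tr (ℕ × ℕ × List ℕ) := .node move1010 move1011

noncomputable def move10 : Tr (ℕ × ℕ × List ℕ) := .node move100 move101

noncomputable def move110000 : Tr (ℕ × ℕ × List ℕ) :=
  .node (.node (.node (.node (.node (.node (.node (.leaf (0,0,[])) (.leaf (2725,0,[]))) (.node (.leaf (1508,0,[])) (.leaf (2766,0,[])))) (.node (.node (.leaf (409,0,[])) (.leaf (3184,0,[]))) (.node (.leaf (1267,0,[])) (.leaf (3478,0,[88,56,116,59]))))) (.node (.node (.node (.leaf (202,0,[])) (.leaf (2435,0,[110,44,173]))) (.node (.leaf (1854,0,[])) (.leaf (3559,0,[57,56,43,242])))) (.node (.node (.leaf (1154,0,[])) (.leaf (3357,0,[]))) (.leaf (2450,0,[]))))) (.node (.node (.node (.node (.leaf (102,0,[])) (.leaf (1859,0,[]))) (.node (.leaf (1344,0,[88,56,91,147])) (.leaf (2914,0,[])))) (.node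 (.node (.leaf (515,0,[])) (.leaf (2353,0,[]))) (.node (.leaf (1385,0,[])) (.leaf (3625,0,[]))))) (.node (.node (.node (.leaf (304,0,[])) (.leaf (3077,0,[]))) (.node (.leaf (1160,0,[])) (.leaf (3693,0,[])))) (.node (.node (.leaf (727,0,[])) (.leaf (2615,0,[]))) (.leaf (2590,0,[])))))) (.node (.node (.node (.node (.node (.leaf (52,0,[])) (.leaf (1800,0,[]))) (.node (.leaf (890,0,[])) (.leaf (2840,0,[])))) (.node (.node (.leaf (460,0,[])) (.leaf (2284,0,[]))) (.node (.leaf (1322,0,[])) (.leaf (3673,0,[87,42,240]))))) (.node (.node (.node (.leaf (508,0,[])) (.leaf (2036,0,[]))) (.node (.leaf (1108,0,[])) (.leaf (3217,0,[87,55,123,231])))) (.node (.node (.leaf (1234,0,[])) (.leaf (2788,0,[87,140,0]))) (.leaf (1558,0,[]))))) (.node (.node (.node (.node (.leaf (151,0,[])) (.leaf (1914,0,[]))) (.node (.leaf (1002,0,[])) (.leaf (2990,0,[])))) (.node (.node (.leaf (566,0,[])) (.leaf (2412,0,[]))) (.node (.leaf (1445,0,[])) (.leaf (3789,0,[87,110,42,188]))))) (.node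 (.node (.node (.leaf (356,0,[])) (.leaf (2157,0,[]))) (.node (.leaf (1218,0,[])) (.leaf (3629,0,[87,56,140,129])))) (.node (.node (.leaf (782,0,[])) (.leaf (2685,0,[]))) (.leaf (2659,0,[]))))))) (.node (.node (.node (.node (.node (.node (.leaf (25,0,[])) (.leaf (2762,0,[]))) (.node (.leaf (1560,0,[])) (.leaf (3513,0,[])))) (.node (.node (.leaf (844,0,[])) (.leaf (2566,0,[89,158]))) (.node (.leaf (1292,0,[])) (.leaf (3492,0,[]))))) (.node (.node (.node (.leaf (226,0,[])) (.leaf (2005,0,[]))) (.node (.leaf (1890,0,[])) (.leaf (3122,0,[])))) (.node (.node (.leaf (643,0,[])) (.leaf (2513,0,[]))) (.leaf (1531,0,[]))))) (.node (.node (.node (.node (.leaf (263,0,[])) (.leaf (2714,0,[88,123,137]))) (.node (.leaf (972,0,[])) (.leaf (2956,0,[])))) (.node (.node (.leaf (1024,0,[])) (.leaf (2381,0,[]))) (.node (.leaf (1987,0,[57,55,214])) (.leaf (3790,0,[]))))) (.node (.node (.node (.leaf (331,0,[])) (.leaf (3106,0,[]))) (.node (.leaf (2030,0,[])) (.leaf (3704,0,[]))))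 (.node (.node (.leaf (753,0,[])) (.leaf (2649,0,[]))) (.leaf (2623,0,[])))))) (.node (.node (.node (.node (.node (.leaf (157,0,[])) (.leaf (2470,0,[57,110,176,72]))) (.node (.leaf (918,0,[])) (.leaf (2869,0,[])))) (.node (.node (.leaf (932,0,[])) (.leaf (2317,0,[]))) (.node (.leaf (1351,0,[])) (.leaf (3676,0,[87,110,116,169]))))) (.node (.node (.node (.leaf (558,0,[])) (.leaf (2977,0,[88,104,145]))) (.node (.leaf (1133,0,[])) (.leaf (3209,0,[])))) (.node (.node (.leaf (698,0,[])) (.leaf (2582,0,[]))) (.leaf (2179,0,[104,173]))))) (.node (.node (.node (.node (.leaf (365,0,[])) (.leaf (1943,0,[]))) (.node (.leaf (1806,0,[])) (.leaf (3035,0,[])))) (.node (.node (.leaf (1109,0,[])) (.leaf (2447,0,[]))) (.leaf (1476,0,[])))) (.node (.node (.node (.leaf (385,0,[])) (.leaf (3167,0,[]))) (.node (.leaf (1241,0,[])) (.leaf (3399,0,[])))) (.node (.node (.leaf (808,0,[])) (.leaf (3429,0,[55,90,22]))) (.leaf (1708,0,[])))))))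

noncomputable def move110001 : Tr (ℕ × ℕ × List ℕ) :=
  .node (.node (.node (.node (.node (.node (.node (.leaf (32,0,[])) (.leaf (1757,0,[]))) (.node (.leaf (1533,0,[])) (.leaf (3104,0,[116,135])))) (.node (.node (.leaf (422,0,[])) (.leaf (2236,0,[]))) (.node (.leaf (1279,0,[])) (.leaf (3632,0,[56,123,130]))))) (.node (.node (.node (.leaf (435,0,[])) (.leaf (2991,0,[]))) (.node (.leaf (1666,0,[55,44,5])) (.leaf (3561,0,[88,55,123,180])))) (.node (.node (.leaf (630,0,[])) (.leaf (3370,0,[]))) (.leaf (1518,0,[]))))) (.node (.node (.node (.node (.leaf (115,0,[])) (.leaf (1874,0,[]))) (.node (.leaf (958,0,[])) (.leaf (3547,0,[110,89,162])))) (.node (.node (.leaf (654,0,[110,140,219])) (.leaf (3290,0,[]))) (.node (.leaf (1398,0,[])) (.leaf (3652,0,[]))))) (.node (.node (.node (.leaf (625,0,[])) (.leaf (2953,0,[55,155,192]))) (.node (.leaf (1174,0,[])) (.leaf (3444,0,[87,91,128])))) (.node (.node (.leaf (1354,0,[])) (.leaf (2632,0,[]))) (.leaf (1633,0,[]))))))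 (.node (.node (.node (.node (.node (.leaf (132,0,[])) (.leaf (1814,0,[]))) (.node (.leaf (905,0,[])) (.leaf (2854,0,[])))) (.node (.node (.leaf (473,0,[])) (.leaf (2310,0,[87,56,91,124]))) (.node (.leaf (1337,0,[])) (.leaf (3630,0,[57,44,36]))))) (.node (.node (.node (.leaf (267,0,[])) (.leaf (2049,0,[]))) (.node (.leaf (1121,0,[])) (.leaf (3189,0,[])))) (.node (.node (.leaf (683,0,[])) (.leaf (3406,0,[]))) (.leaf (2535,0,[]))))) (.node (.node (.node (.node (.leaf (163,0,[])) (.leaf (2691,0,[88,56,91,35]))) (.node (.leaf (1782,0,[])) (.leaf (3009,0,[])))) (.node (.node (.leaf (578,0,[])) (.leaf (3228,0,[56,91,95]))) (.node (.leaf (2391,0,[])) (.leaf (3792,0,[]))))) (.node (.node (.node (.leaf (370,0,[])) (.leaf (2400,0,[88,94,44,241]))) (.node (.leaf (1229,0,[])) (.leaf (3730,0,[])))) (.node (.node (.leaf (796,0,[])) (.leaf (3408,0,[56,140,187]))) (.leaf (1690,0,[]))))))) (.node (.node (.node (.node (.node (.node (.leaf (78,0,[])) (.leaf (1783,0,[])))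 (.node (.leaf (1026,0,[88,104,160])) (.leaf (2821,0,[])))) (.node (.node (.leaf (865,0,[])) (.leaf (2268,0,[]))) (.node (.leaf (2207,0,[])) (.leaf (3646,0,[88,55,90,133]))))) (.node (.node (.node (.leaf (483,0,[])) (.leaf (3014,0,[]))) (.node (.leaf (1094,0,[])) (.leaf (3149,0,[])))) (.node (.node (.leaf (656,0,[])) (.leaf (2877,0,[57,94,123,22]))) (.leaf (1546,0,[]))))) (.node (.node (.node (.node (.leaf (138,0,[])) (.leaf (1901,0,[]))) (.node (.leaf (985,0,[])) (.leaf (3555,0,[94,42,218])))) (.node (.node (.leaf (1047,0,[])) (.leaf (2395,0,[]))) (.node (.leaf (2354,0,[])) (.leaf (3733,0,[87,43,126]))))) (.node (.node (.node (.leaf (675,0,[])) (.leaf (3119,0,[]))) (.node (.leaf (1348,0,[56,42,241])) (.leaf (3551,0,[110,44,181])))) (.node (.node (.leaf (1400,0,[])) (.leaf (2664,0,[]))) (.leaf (1661,0,[])))))) (.node (.node (.node (.node (.node (.leaf (182,0,[])) (.leaf (1845,0,[]))) (.node (.leaf (1664,0,[])) (.leaf (2897,0,[])))) (.node (.node (.leaf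 (502,0,[])) (.leaf (2842,0,[88,140,189]))) (.node (.leaf (2287,0,[])) (.leaf (3604,0,[]))))) (.node (.node (.node (.leaf (291,0,[])) (.leaf (2077,0,[]))) (.node (.leaf (1146,0,[])) (.leaf (3234,0,[])))) (.node (.node (.leaf (1307,0,[])) (.leaf (3428,0,[]))) (.leaf (1602,0,[]))))) (.node (.node (.node (.node (.leaf (187,0,[])) (.leaf (2872,0,[55,44,156]))) (.node (.leaf (1042,0,[])) (.leaf (3062,0,[])))) (.node (.node (.leaf (606,0,[])) (.leaf (2462,0,[]))) (.leaf (1491,0,[])))) (.node (.node (.node (.leaf (768,0,[])) (.leaf (2200,0,[]))) (.node (.leaf (1254,0,[])) (.leaf (3416,0,[])))) (.node (.node (.leaf (1482,0,[])) (.leaf (2745,0,[]))) (.leaf (1784,0,[87,110,43,247])))))))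

noncomputable def move11000 : Tr (ℕ × ℕ × List ℕ) := .node move110000 move110001

noncomputable def move110010 : Tr (ℕ × ℕ × List ℕ) :=
  .node (.node (.node (.node (.node (.node (.node (.leaf (6,0,[])) (.leaf (1788,0,[87,110,43,247]))) (.node (.leaf (845,0,[])) (.leaf (3497,0,[87,93,44])))) (.node (.node (.leaf (416,0,[])) (.leaf (2227,0,[]))) (.node (.leaf (1272,0,[])) (.leaf (3755,0,[]))))) (.node (.node (.node (.leaf (208,0,[])) (.leaf (1988,0,[87,56,91,124]))) (.node (.leaf (1865,0,[])) (.leaf (3094,0,[87,93,140,0])))) (.node (.node (.leaf (1166,0,[])) (.leaf (3364,0,[]))) (.leaf (1512,0,[]))))) (.node (.node (.node (.node (.leaf (108,0,[])) (.leaf (1868,0,[]))) (.node (.leaf (952,0,[])) (.leaf (2922,0,[])))) (.node (.node (.leaf (521,0,[])) (.leaf (2360,0,[]))) (.node (.leaf (2316,0,[])) (.leaf (3703,0,[87,94,89,214]))))) (.node (.node (.node (.leaf (310,0,[])) (.leaf (2660,0,[88,56,42,5]))) (.node (.leaf (1167,0,[])) (.leaf (3451,0,[93,140,197]))))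 (.node (.node (.leaf (735,0,[])) (.leaf (2787,0,[55,155,192]))) (.leaf (1623,0,[])))))) (.node (.node (.node (.node (.node (.leaf (58,0,[])) (.leaf (2803,0,[]))) (.node (.leaf (897,0,[])) (.leaf (2846,0,[])))) (.node (.node (.leaf (900,0,[])) (.leaf (3146,0,[88,55,89,172]))) (.node (.leaf (1329,0,[])) (.leaf (3542,0,[]))))) (.node (.node (.node (.leaf (519,0,[])) (.leaf (3032,0,[]))) (.node (.leaf (1185,0,[88,56,103,201])) (.leaf (3180,0,[])))) (.node (.node (.leaf (676,0,[])) (.leaf (2555,0,[]))) (.leaf (1566,0,[]))))) (.node (.node (.node (.node (.leaf (323,0,[])) (.leaf (1920,0,[]))) (.node (.leaf (1769,0,[])) (.leaf (3055,0,[87,93,176,168])))) (.node (.node (.leaf (572,0,[])) (.leaf (3319,0,[]))) (.node (.leaf (1450,0,[])) (.leaf (3761,0,[]))))) (.node (.node (.node (.leaf (362,0,[])) (.leaf (3139,0,[]))) (.node (.leaf (2078,0,[])) (.leaf (3369,0,[])))) (.node (.node (.leaf (1433,0,[])) (.leaf (2694,0,[]))) (.leaf (1682,0,[]))))))) (.node (.node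 (.node (.node (.node (.node (.leaf (64,0,[])) (.leaf (1775,0,[]))) (.node (.leaf (871,0,[])) (.leaf (2814,0,[])))) (.node (.node (.leaf (441,0,[])) (.leaf (2260,0,[]))) (.node (.leaf (1300,0,[])) (.leaf (3502,0,[]))))) (.node (.node (.node (.leaf (233,0,[])) (.leaf (2014,0,[]))) (.node (.leaf (1088,0,[])) (.leaf (3355,0,[94,162])))) (.node (.node (.leaf (1210,0,[])) (.leaf (3384,0,[]))) (.leaf (1539,0,[]))))) (.node (.node (.node (.node (.leaf (277,0,[])) (.leaf (1892,0,[]))) (.node (.leaf (1733,0,[])) (.leaf (2965,0,[])))) (.node (.node (.leaf (547,0,[])) (.leaf (2388,0,[]))) (.node (.leaf (1668,0,[87,110,155,234])) (.leaf (3688,0,[]))))) (.node (.node (.node (.leaf (337,0,[])) (.leaf (3054,0,[57,110,90,111]))) (.node (.leaf (1194,0,[])) (.leaf (3333,0,[57,94,104])))) (.node (.node (.leaf (1391,0,[])) (.leaf (2655,0,[]))) (.leaf (1653,0,[])))))) (.node (.node (.node (.node (.node (.leaf (170,0,[])) (.leaf (1836,0,[]))) (.node (.leaf (1333,0,[103,166]))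 (.leaf (2885,0,[])))) (.node (.node (.leaf (495,0,[])) (.leaf (2323,0,[]))) (.node (.leaf (1359,0,[])) (.leaf (3644,0,[88,93,44,166]))))) (.node (.node (.node (.leaf (285,0,[])) (.leaf (3060,0,[]))) (.node (.leaf (1974,0,[])) (.leaf (3220,0,[])))) (.node (.node (.leaf (1295,0,[])) (.leaf (2589,0,[]))) (.leaf (1596,0,[]))))) (.node (.node (.node (.node (.leaf (378,0,[])) (.leaf (2083,0,[56,103,210]))) (.node (.leaf (1036,0,[])) (.leaf (3049,0,[])))) (.node (.node (.leaf (1120,0,[])) (.leaf (2636,0,[88,110,89,215]))) (.leaf (1483,0,[])))) (.node (.node (.node (.leaf (391,0,[])) (.leaf (2194,0,[]))) (.node (.leaf (1247,0,[])) (.leaf (3512,0,[88,104,240])))) (.node (.node (.leaf (819,0,[])) (.leaf (2738,0,[]))) (.leaf (1717,0,[])))))))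

noncomputable def move110011 : Tr (ℕ × ℕ × List ℕ) :=
  .node (.node (.node (.node (.node (.node (.node (.leaf (42,0,[])) (.leaf (1763,0,[]))) (.node (.leaf (857,0,[])) (.leaf (2795,0,[])))) (.node (.node (.leaf (428,0,[])) (.leaf (2247,0,[]))) (.node (.leaf (1388,0,[87,94,89,240])) (.leaf (3481,0,[]))))) (.node (.node (.node (.leaf (449,0,[])) (.leaf (1998,0,[]))) (.node (.leaf (1076,0,[])) (.leaf (3634,0,[])))) (.node (.node (.leaf (636,0,[])) (.leaf (2505,0,[]))) (.leaf (1525,0,[]))))) (.node (.node (.node (.node (.leaf (249,0,[])) (.leaf (2275,0,[56,155,98]))) (.node (.leaf (966,0,[])) (.leaf (2945,0,[])))) (.node (.node (.leaf (535,0,[])) (.leaf (2429,0,[55,42,10]))) (.node (.leaf (2330,0,[])) (.leaf (3714,0,[88,55,103,96]))))) (.node (.node (.node (.leaf (324,0,[])) (.leaf (3097,0,[]))) (.node (.leaf (1180,0,[])) (.leaf (3699,0,[])))) (.node (.node (.leaf (748,0,[])) (.leaf (2640,0,[]))) (.leaf (2201,0,[56,155,98])))))) (.node (.node (.node (.node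 (.node (.leaf (70,0,[])) (.leaf (1822,0,[]))) (.node (.leaf (911,0,[])) (.leaf (2861,0,[])))) (.node (.node (.leaf (482,0,[])) (.leaf (2401,0,[57,116,59]))) (.node (.leaf (2259,0,[])) (.leaf (3727,0,[88,56,103,227]))))) (.node (.node (.node (.leaf (272,0,[])) (.leaf (2485,0,[88,110,132]))) (.node (.leaf (1127,0,[])) (.leaf (3200,0,[])))) (.node (.node (.leaf (690,0,[])) (.leaf (3096,0,[55,91,65]))) (.leaf (1581,0,[]))))) (.node (.node (.node (.node (.leaf (169,0,[])) (.leaf (1936,0,[]))) (.node (.leaf (1023,0,[])) (.leaf (3023,0,[])))) (.node (.node (.leaf (585,0,[])) (.leaf (2437,0,[]))) (.leaf (2229,0,[55,176,223])))) (.node (.node (.node (.leaf (739,0,[])) (.leaf (2180,0,[]))) (.node (.leaf (1235,0,[])) (.leaf (3668,0,[87,110,44,114])))) (.node (.node (.leaf (1456,0,[])) (.leaf (2717,0,[]))) (.leaf (1951,0,[87,110,104,73]))))))) (.node (.node (.node (.node (.node (.node (.leaf (92,0,[])) (.leaf (1791,0,[]))) (.node (.leaf (1588,0,[])) (.leaf (2829,0,[]))))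 (.node (.node (.leaf (454,0,[])) (.leaf (2276,0,[]))) (.node (.leaf (1316,0,[])) (.leaf (3712,0,[87,94,44,148]))))) (.node (.node (.node (.leaf (247,0,[])) (.leaf (2029,0,[]))) (.node (.leaf (1923,0,[])) (.leaf (3459,0,[87,110,42,238])))) (.node (.node (.leaf (662,0,[])) (.leaf (3108,0,[93,91,95]))) (.leaf (2507,0,[]))))) (.node (.node (.node (.node (.leaf (302,0,[])) (.leaf (1908,0,[]))) (.node (.leaf (1687,0,[90,77])) (.leaf (2982,0,[])))) (.node (.node (.leaf (560,0,[])) (.leaf (3310,0,[]))) (.node (.leaf (1459,0,[87,56,210])) (.leaf (3744,0,[57,93,103,127]))))) (.node (.node (.node (.leaf (350,0,[])) (.leaf (2152,0,[]))) (.node (.leaf (1209,0,[])) (.leaf (3347,0,[])))) (.node (.node (.leaf (1412,0,[])) (.leaf (2736,0,[87,55,43,237]))) (.leaf (2648,0,[])))))) (.node (.node (.node (.node (.node (.leaf (95,0,[])) (.leaf (1853,0,[]))) (.node (.leaf (1549,0,[57,104,180])) (.leaf (3565,0,[])))) (.node (.node (.leaf (968,0,[])) (.leaf (2879,0,[55,140,170])))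 (.node (.leaf (1377,0,[])) (.leaf (3614,0,[]))))) (.node (.node (.node (.leaf (592,0,[])) (.leaf (3073,0,[]))) (.node (.leaf (1996,0,[])) (.leaf (3242,0,[])))) (.node (.node (.leaf (1320,0,[])) (.leaf (3433,0,[]))) (.leaf (1608,0,[]))))) (.node (.node (.node (.node (.leaf (196,0,[])) (.leaf (2337,0,[87,55,103,238]))) (.node (.leaf (1841,0,[])) (.leaf (3071,0,[])))) (.node (.node (.leaf (612,0,[])) (.leaf (2469,0,[]))) (.leaf (2438,0,[])))) (.node (.node (.node (.leaf (403,0,[])) (.leaf (2210,0,[]))) (.node (.leaf (2137,0,[])) (.leaf (3423,0,[])))) (.node (.node (.leaf (833,0,[])) (.leaf (2758,0,[]))) (.leaf (2334,0,[57,55,123,225])))))))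

noncomputable def move11001 : Tr (ℕ × ℕ × List ℕ) := .node move110010 move110011

noncomputable def move1100 : Tr (ℕ × ℕ × List ℕ) := .node move11000 move11001

noncomputable def move110100 : Tr (ℕ × ℕ × List ℕ) :=
  .node (.node (.node (.node (.node (.node (.node (.leaf (12,0,[])) (.leaf (1745,0,[]))) (.node (.leaf (842,0,[])) (.leaf (2771,0,[])))) (.node (.node (.leaf (413,0,[])) (.leaf (2223,0,[]))) (.node (.leaf (1490,0,[88,94,91,177])) (.leaf (3445,0,[]))))) (.node (.node (.node (.leaf (205,0,[])) (.leaf (1979,0,[]))) (.node (.leaf (1058,0,[])) (.leaf (3081,0,[])))) (.node (.node (.leaf (622,0,[])) (.leaf (2482,0,[]))) (.leaf (1509,0,[]))))) (.node (.node (.node (.node (.leaf (105,0,[])) (.leaf (2815,0,[88,55,44,233]))) (.node (.leaf (949,0,[])) (.leaf (2918,0,[])))) (.node (.node (.leaf (987,0,[])) (.leaf (2357,0,[]))) (.node (.leaf (1389,0,[])) (.leaf (3765,0,[55,123,245]))))) (.node (.node (.node (.leaf (341,0,[55,219])) (.leaf (2098,0,[])))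 (.node (.leaf (2006,0,[])) (.leaf (3255,0,[])))) (.node (.node (.leaf (730,0,[])) (.leaf (2769,0,[57,56,123,183]))) (.leaf (2594,0,[])))))) (.node (.node (.node (.node (.node (.leaf (55,0,[])) (.leaf (2146,0,[88,93,155,224]))) (.node (.leaf (894,0,[])) (.leaf (2843,0,[])))) (.node (.node (.leaf (895,0,[])) (.leaf (2291,0,[]))) (.node (.leaf (2235,0,[])) (.leaf (3537,0,[]))))) (.node (.node (.node (.leaf (257,0,[])) (.leaf (2896,0,[57,93,91,248]))) (.node (.leaf (1111,0,[])) (.leaf (3174,0,[])))) (.node (.node (.leaf (672,0,[])) (.leaf (3400,0,[]))) (.leaf (1563,0,[]))))) (.node (.node (.node (.node (.leaf (317,0,[])) (.leaf (2915,0,[]))) (.node (.leaf (1006,0,[])) (.leaf (2997,0,[])))) (.node (.node (.leaf (1074,0,[])) (.leaf (2416,0,[]))) (.node (.leaf (1448,0,[])) (.leaf (3787,0,[57,110,104,5]))))) (.node (.node (.node (.leaf (359,0,[])) (.leaf (2763,0,[57,56,155,27]))) (.node (.leaf (2072,0,[])) (.leaf (3639,0,[88,55,44,12])))) (.node (.node (.leaf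 (786,0,[])) (.leaf (2688,0,[]))) (.leaf (2661,0,[]))))))) (.node (.node (.node (.node (.node (.node (.leaf (29,0,[])) (.leaf (1772,0,[]))) (.node (.leaf (1116,0,[88,55,89,22])) (.leaf (2810,0,[])))) (.node (.node (.leaf (438,0,[])) (.leaf (2256,0,[]))) (.node (.leaf (1580,0,[57,94,123,22])) (.leaf (3498,0,[]))))) (.node (.node (.node (.leaf (229,0,[])) (.leaf (2076,0,[56,123,138]))) (.node (.leaf (1085,0,[])) (.leaf (3127,0,[])))) (.node (.node (.leaf (646,0,[])) (.leaf (2516,0,[]))) (.leaf (1536,0,[]))))) (.node (.node (.node (.node (.leaf (129,0,[])) (.leaf (2891,0,[]))) (.node (.leaf (1726,0,[])) (.leaf (3463,0,[88,93,123,106])))) (.node (.node (.leaf (544,0,[])) (.leaf (2385,0,[]))) (.node (.leaf (2342,0,[])) (.leaf (3697,0,[57,93,155,141]))))) (.node (.node (.node (.leaf (335,0,[])) (.leaf (2127,0,[]))) (.node (.leaf (2037,0,[])) (.leaf (3316,0,[])))) (.node (.node (.leaf (757,0,[])) (.leaf (2652,0,[]))) (.leaf (2431,0,[104,148])))))) (.node (.node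 (.node (.node (.node (.leaf (79,0,[])) (.leaf (2149,0,[93,116,69]))) (.node (.leaf (921,0,[])) (.leaf (3376,0,[103,0])))) (.node (.node (.leaf (939,0,[])) (.leaf (2320,0,[]))) (.node (.leaf (1356,0,[])) (.leaf (3586,0,[]))))) (.node (.node (.node (.leaf (565,0,[])) (.leaf (3056,0,[]))) (.node (.leaf (1135,0,[])) (.leaf (3215,0,[])))) (.node (.node (.leaf (702,0,[])) (.leaf (2585,0,[]))) (.leaf (2560,0,[]))))) (.node (.node (.node (.node (.leaf (372,0,[])) (.leaf (1947,0,[]))) (.node (.leaf (1626,0,[93,91,201])) (.leaf (3044,0,[])))) (.node (.node (.leaf (594,0,[])) (.leaf (2627,0,[56,42,235]))) (.leaf (2341,0,[87,110,44,114])))) (.node (.node (.node (.leaf (752,0,[])) (.leaf (2190,0,[]))) (.node (.leaf (1244,0,[])) (.leaf (3403,0,[])))) (.node (.node (.leaf (814,0,[])) (.leaf (2733,0,[]))) (.leaf (1712,0,[])))))))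

noncomputable def move110101 : Tr (ℕ × ℕ × List ℕ) :=
  .node (.node (.node (.node (.node (.node (.node (.leaf (15,0,[])) (.leaf (1760,0,[]))) (.node (.leaf (1540,0,[])) (.leaf (3381,0,[88,42,59])))) (.node (.node (.leaf (827,0,[])) (.leaf (2242,0,[]))) (.node (.leaf (1282,0,[])) (.leaf (3577,0,[110,104,9]))))) (.node (.node (.node (.leaf (217,0,[])) (.leaf (2940,0,[44,190]))) (.node (.leaf (1877,0,[])) (.leaf (3107,0,[])))) (.node (.node (.leaf (633,0,[])) (.leaf (2500,0,[]))) (.leaf (1521,0,[]))))) (.node (.node (.node (.node (.leaf (245,0,[])) (.leaf (2864,0,[57,94,123,143]))) (.node (.leaf (962,0,[])) (.leaf (3582,0,[])))) (.node (.node (.leaf (531,0,[])) (.leaf (2371,0,[]))) (.node (.leaf (1896,0,[88,93,91,137])) (.leaf (3785,0,[88,93,116,152]))))) (.node (.node (.node (.leaf (320,0,[])) (.leaf (2139,0,[88,55,103,59]))) (.node (.leaf (2021,0,[])) (.leaf (3282,0,[])))) (.node (.node (.leaf (745,0,[])) (.leaf (2637,0,[]))) (.leaf (1636,0,[]))))))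 (.node (.node (.node (.node (.node (.leaf (66,0,[])) (.leaf (1818,0,[]))) (.node (.leaf (908,0,[])) (.leaf (2858,0,[])))) (.node (.node (.leaf (916,0,[])) (.leaf (2306,0,[]))) (.node (.leaf (1340,0,[])) (.leaf (3705,0,[57,94,91,208]))))) (.node (.node (.node (.leaf (487,0,[88,56,42,168])) (.leaf (2052,0,[]))) (.node (.leaf (1124,0,[])) (.leaf (3674,0,[])))) (.node (.node (.leaf (687,0,[])) (.leaf (2568,0,[]))) (.leaf (1578,0,[]))))) (.node (.node (.node (.node (.leaf (166,0,[])) (.leaf (2647,0,[56,43,139]))) (.node (.leaf (1732,0,[87,93,176,125])) (.leaf (3018,0,[])))) (.node (.node (.leaf (581,0,[])) (.leaf (2434,0,[]))) (.leaf (1462,0,[])))) (.node (.node (.node (.leaf (734,0,[])) (.leaf (3153,0,[]))) (.node (.leaf (1232,0,[])) (.leaf (3734,0,[])))) (.node (.node (.leaf (799,0,[])) (.leaf (3113,0,[57,94,140,129]))) (.leaf (2297,0,[87,55,43,211]))))))) (.node (.node (.node (.node (.node (.node (.leaf (85,0,[])) (.leaf (1787,0,[]))) (.node (.leaf (880,0,[]))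 (.leaf (2825,0,[])))) (.node (.node (.leaf (450,0,[])) (.leaf (2272,0,[]))) (.node (.leaf (1313,0,[])) (.leaf (3516,0,[]))))) (.node (.node (.node (.leaf (244,0,[])) (.leaf (2608,0,[57,93,91,215]))) (.node (.leaf (1371,0,[88,91,184])) (.leaf (3152,0,[])))) (.node (.node (.leaf (659,0,[])) (.leaf (3394,0,[]))) (.leaf (2502,0,[]))))) (.node (.node (.node (.node (.leaf (296,0,[])) (.leaf (2061,0,[57,93,91,180]))) (.node (.leaf (1749,0,[])) (.leaf (2978,0,[])))) (.node (.node (.leaf (1053,0,[])) (.leaf (3307,0,[]))) (.node (.leaf (1435,0,[])) (.leaf (3716,0,[]))))) (.node (.node (.node (.leaf (347,0,[])) (.leaf (2735,0,[55,116,71]))) (.node (.leaf (1204,0,[])) (.leaf (3521,0,[88,55,74])))) (.node (.node (.leaf (1405,0,[])) (.leaf (2668,0,[]))) (.leaf (2643,0,[])))))) (.node (.node (.node (.node (.node (.leaf (189,0,[])) (.leaf (1848,0,[]))) (.node (.leaf (1561,0,[87,93,91,244])) (.leaf (2903,0,[])))) (.node (.node (.leaf (506,0,[])) (.leaf (2335,0,[])))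 (.node (.leaf (2234,0,[88,56,43,177])) (.leaf (3720,0,[155,235]))))) (.node (.node (.node (.leaf (586,0,[])) (.leaf (2080,0,[]))) (.node (.leaf (1150,0,[])) (.leaf (3597,0,[87,55,22])))) (.node (.node (.leaf (714,0,[])) (.leaf (2603,0,[]))) (.leaf (1604,0,[]))))) (.node (.node (.node (.node (.leaf (190,0,[])) (.leaf (2753,0,[87,55,76]))) (.node (.leaf (1045,0,[])) (.leaf (3066,0,[])))) (.node (.node (.leaf (1138,0,[])) (.leaf (2464,0,[]))) (.leaf (1838,0,[87,94,43,99])))) (.node (.node (.node (.leaf (400,0,[])) (.leaf (2456,0,[155,243]))) (.node (.leaf (2132,0,[])) (.leaf (3681,0,[57,94,89,232])))) (.node (.node (.leaf (1489,0,[])) (.leaf (2751,0,[]))) (.leaf (1729,0,[])))))))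

noncomputable def move11010 : Tr (ℕ × ℕ × List ℕ) := .node move110100 move110101

noncomputable def move110110 : Tr (ℕ × ℕ × List ℕ) :=
  .node (.node (.node (.node (.node (.node (.node (.leaf (26,0,[])) (.leaf (1753,0,[]))) (.node (.leaf (1526,0,[])) (.leaf (2780,0,[])))) (.node (.node (.leaf (607,0,[88,110,91,205])) (.leaf (2232,0,[]))) (.node (.leaf (1276,0,[])) (.leaf (3589,0,[57,110,176,109]))))) (.node (.node (.node (.leaf (211,0,[])) (.leaf (1984,0,[]))) (.node (.leaf (1066,0,[])) (.leaf (3628,0,[])))) (.node (.node (.leaf (628,0,[])) (.leaf (2992,0,[110,103,232]))) (.leaf (2461,0,[]))))) (.node (.node (.node (.node (.leaf (112,0,[])) (.leaf (2870,0,[]))) (.node (.leaf (1698,0,[])) (.leaf (2928,0,[])))) (.node (.node (.leaf (525,0,[])) (.leaf (2363,0,[]))) (.node (.leaf (1395,0,[])) (.leaf (3647,0,[]))))) (.node (.node (.node (.leaf (313,0,[])) (.leaf (2104,0,[]))) (.node (.leaf (1170,0,[])) (.leaf (3270,0,[])))) (.node (.node (.leaf (738,0,[]))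 (.leaf (2629,0,[]))) (.leaf (1628,0,[])))))) (.node (.node (.node (.node (.node (.leaf (82,0,[88,94,89,115])) (.leaf (1810,0,[]))) (.node (.leaf (902,0,[])) (.leaf (2850,0,[])))) (.node (.node (.leaf (790,0,[88,110,140,234])) (.leaf (3241,0,[]))) (.node (.leaf (2246,0,[])) (.leaf (3768,0,[88,56,91,111]))))) (.node (.node (.node (.leaf (371,0,[88,94,89,115])) (.leaf (3036,0,[]))) (.node (.leaf (1117,0,[])) (.leaf (3329,0,[88,55,42,191])))) (.node (.node (.leaf (679,0,[])) (.leaf (2558,0,[]))) (.leaf (1570,0,[]))))) (.node (.node (.node (.node (.leaf (330,0,[])) (.leaf (1925,0,[]))) (.node (.leaf (1013,0,[])) (.leaf (3466,0,[87,93,103,101])))) (.node (.node (.leaf (1084,0,[])) (.leaf (2424,0,[]))) (.node (.leaf (1454,0,[])) (.leaf (3788,0,[57,55,140,206]))))) (.node (.node (.node (.leaf (721,0,[])) (.leaf (3143,0,[]))) (.node (.leaf (2084,0,[])) (.leaf (3372,0,[])))) (.node (.node (.leaf (1439,0,[])) (.leaf (2702,0,[]))) (.leaf (1685,0,[]))))))) (.node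 (.node (.node (.node (.node (.node (.leaf (71,0,[])) (.leaf (1779,0,[]))) (.node (.leaf (875,0,[])) (.leaf (3001,0,[87,110,44,152])))) (.node (.node (.leaf (860,0,[])) (.leaf (3219,0,[]))) (.node (.leaf (2202,0,[])) (.leaf (3509,0,[]))))) (.node (.node (.node (.leaf (477,0,[])) (.leaf (3011,0,[]))) (.node (.leaf (1909,0,[])) (.leaf (3360,0,[87,55,44,60])))) (.node (.node (.leaf (652,0,[])) (.leaf (2524,0,[]))) (.leaf (1543,0,[]))))) (.node (.node (.node (.node (.leaf (284,0,[])) (.leaf (1895,0,[]))) (.node (.leaf (981,0,[])) (.leaf (3309,0,[88,56,90,36])))) (.node (.node (.leaf (550,0,[])) (.leaf (3302,0,[]))) (.node (.leaf (2350,0,[])) (.leaf (3695,0,[]))))) (.node (.node (.node (.leaf (670,0,[])) (.leaf (2134,0,[]))) (.node (.leaf (1198,0,[])) (.leaf (3711,0,[])))) (.node (.node (.leaf (764,0,[])) (.leaf (3468,0,[]))) (.leaf (1656,0,[])))))) (.node (.node (.node (.node (.node (.leaf (86,0,[])) (.leaf (1840,0,[]))) (.node (.leaf (1657,0,[])) (.leaf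 (3374,0,[123,146])))) (.node (.node (.leaf (499,0,[])) (.leaf (2327,0,[]))) (.node (.leaf (1364,0,[])) (.leaf (3595,0,[]))))) (.node (.node (.node (.leaf (288,0,[])) (.leaf (2073,0,[]))) (.node (.leaf (1978,0,[])) (.leaf (3231,0,[])))) (.node (.node (.leaf (708,0,[])) (.leaf (2593,0,[]))) (.leaf (1599,0,[]))))) (.node (.node (.node (.node (.leaf (184,0,[])) (.leaf (2954,0,[]))) (.node (.leaf (1039,0,[])) (.leaf (3452,0,[88,56,43,150])))) (.node (.node (.leaf (602,0,[])) (.leaf (2521,0,[110,123,127]))) (.leaf (2426,0,[])))) (.node (.node (.node (.leaf (763,0,[])) (.leaf (2197,0,[]))) (.node (.leaf (1251,0,[])) (.leaf (3412,0,[])))) (.node (.node (.leaf (823,0,[])) (.leaf (2742,0,[]))) (.leaf (2699,0,[])))))))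

noncomputable def move110111 : Tr (ℕ × ℕ × List ℕ) :=
  .node (.node (.node (.node (.node (.node (.node (.leaf (46,0,[])) (.leaf (2759,0,[]))) (.node (.leaf (861,0,[])) (.leaf (2800,0,[])))) (.node (.node (.leaf (742,0,[110,91,244])) (.leaf (3208,0,[]))) (.node (.leaf (1288,0,[])) (.leaf (3489,0,[]))))) (.node (.node (.node (.leaf (223,0,[])) (.leaf (2002,0,[]))) (.node (.leaf (1079,0,[])) (.leaf (3116,0,[])))) (.node (.node (.leaf (640,0,[])) (.leaf (2509,0,[]))) (.leaf (1528,0,[]))))) (.node (.node (.node (.node (.leaf (124,0,[])) (.leaf (1884,0,[]))) (.node (.leaf (1716,0,[])) (.leaf (3148,0,[87,110,90,121])))) (.node (.node (.leaf (1019,0,[])) (.leaf (3295,0,[]))) (.node (.leaf (1409,0,[])) (.leaf (3772,0,[57,93,43,0]))))) (.node (.node (.node (.leaf (328,0,[])) (.leaf (2119,0,[]))) (.node (.leaf (1842,0,[155,34])) (.leaf (3380,0,[88,94,116,27])))) (.node (.node (.leaf (750,0,[])) (.leaf (2644,0,[]))) (.leaf (1643,0,[])))))) (.node (.node (.node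 (.node (.node (.leaf (150,0,[])) (.leaf (1826,0,[]))) (.node (.leaf (915,0,[])) (.leaf (3453,0,[57,56,140,74])))) (.node (.node (.leaf (485,0,[])) (.leaf (2313,0,[]))) (.node (.leaf (2177,0,[56,155,237])) (.leaf (3776,0,[]))))) (.node (.node (.node (.leaf (276,0,[])) (.leaf (2811,0,[116,212]))) (.node (.leaf (1798,0,[87,93,103,105])) (.leaf (3204,0,[])))) (.node (.node (.leaf (693,0,[])) (.leaf (2575,0,[]))) (.leaf (1585,0,[]))))) (.node (.node (.node (.node (.leaf (172,0,[])) (.leaf (1939,0,[]))) (.node (.leaf (1027,0,[])) (.leaf (3210,0,[88,93,123,204])))) (.node (.node (.leaf (1103,0,[])) (.leaf (2791,0,[88,93,37]))) (.leaf (2404,0,[])))) (.node (.node (.node (.leaf (382,0,[])) (.leaf (2184,0,[]))) (.node (.leaf (1239,0,[])) (.leaf (3740,0,[])))) (.node (.node (.leaf (805,0,[])) (.leaf (3128,0,[57,94,123,37]))) (.leaf (1705,0,[]))))))) (.node (.node (.node (.node (.node (.node (.leaf (49,0,[])) (.leaf (1795,0,[]))) (.node (.leaf (1595,0,[])) (.leaf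 (2833,0,[])))) (.node (.node (.leaf (885,0,[])) (.leaf (2807,0,[88,55,43,146]))) (.node (.leaf (1319,0,[])) (.leaf (3528,0,[]))))) (.node (.node (.node (.leaf (250,0,[])) (.leaf (2093,0,[88,94,140,77]))) (.node (.leaf (1928,0,[])) (.leaf (3162,0,[])))) (.node (.node (.leaf (1227,0,[])) (.leaf (3147,0,[57,110,90,139]))) (.leaf (2511,0,[]))))) (.node (.node (.node (.node (.leaf (148,0,[])) (.leaf (2910,0,[]))) (.node (.leaf (1060,0,[176,215])) (.leaf (2986,0,[])))) (.node (.node (.leaf (563,0,[])) (.leaf (2408,0,[]))) (.node (.leaf (2366,0,[])) (.leaf (3732,0,[]))))) (.node (.node (.node (.leaf (695,0,[])) (.leaf (2155,0,[]))) (.node (.leaf (2063,0,[])) (.leaf (3507,0,[57,93,91,92])))) (.node (.node (.leaf (1417,0,[])) (.leaf (2680,0,[]))) (.leaf (1671,0,[])))))) (.node (.node (.node (.node (.node (.leaf (203,0,[])) (.leaf (2757,0,[87,93,138]))) (.node (.leaf (943,0,[])) (.leaf (3569,0,[])))) (.node (.node (.leaf (974,0,[])) (.leaf (3281,0,[]))) (.node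 (.leaf (2299,0,[])) (.leaf (3738,0,[88,56,43,137]))))) (.node (.node (.node (.leaf (300,0,[])) (.leaf (3031,0,[88,55,43,225]))) (.node (.leaf (1157,0,[])) (.leaf (3247,0,[])))) (.node (.node (.leaf (1326,0,[])) (.leaf (2913,0,[57,56,90,169]))) (.leaf (1612,0,[]))))) (.node (.node (.node (.node (.leaf (199,0,[])) (.leaf (2968,0,[]))) (.node (.leaf (1051,0,[])) (.leaf (3074,0,[])))) (.node (.node (.leaf (1147,0,[])) (.leaf (2472,0,[]))) (.leaf (1501,0,[])))) (.node (.node (.node (.leaf (788,0,[])) (.leaf (2214,0,[]))) (.node (.leaf (1264,0,[])) (.leaf (3750,0,[])))) (.node (.node (.leaf (836,0,[])) (.leaf (3331,0,[88,55,42,194]))) (.leaf (2719,0,[])))))))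

noncomputable def move11011 : Tr (ℕ × ℕ × List ℕ) := .node move110110 move110111

noncomputable def move1101 : Tr (ℕ × ℕ × List ℕ) := .node move11010 move11011

noncomputable def move110 : Tr (ℕ × ℕ × List ℕ) := .node move1100 move1101

noncomputable def move111000 : Tr (ℕ × ℕ × List ℕ) :=
  .node (.node (.node (.node (.node (.node (.node (.leaf (1,0,[])) (.leaf (2729,0,[]))) (.node (.leaf (1511,0,[])) (.leaf (2768,0,[])))) (.node (.node (.leaf (411,0,[])) (.leaf (2675,0,[57,56,89,147]))) (.node (.leaf (2150,0,[])) (.leaf (3441,0,[]))))) (.node (.node (.node (.leaf (379,0,[57,94,44,235])) (.leaf (1976,0,[]))) (.node (.leaf (1056,0,[])) (.leaf (3320,0,[87,110,89,177])))) (.node (.node (.leaf (1119,0,[110,241])) (.leaf (2479,0,[]))) (.leaf (1507,0,[]))))) (.node (.node (.node (.node (.leaf (215,0,[])) (.leaf (2212,0,[104,173]))) (.node (.leaf (947,0,[])) (.leaf (3574,0,[])))) (.node (.node (.leaf (983,0,[])) (.leaf (2598,0,[88,110,91,25]))) (.node (.leaf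 (2307,0,[])) (.leaf (3626,0,[]))))) (.node (.node (.node (.leaf (604,0,[])) (.leaf (2095,0,[]))) (.node (.leaf (1641,0,[88,94,103,7])) (.leaf (3540,0,[88,91,221])))) (.node (.node (.leaf (1334,0,[])) (.leaf (3251,0,[93,116,204]))) (.leaf (1617,0,[])))))) (.node (.node (.node (.node (.node (.leaf (109,0,[])) (.leaf (1802,0,[]))) (.node (.leaf (892,0,[])) (.leaf (2841,0,[])))) (.node (.node (.leaf (891,0,[])) (.leaf (2286,0,[]))) (.node (.leaf (1324,0,[])) (.leaf (3535,0,[]))))) (.node (.node (.node (.leaf (256,0,[])) (.leaf (2038,0,[]))) (.node (.leaf (1110,0,[])) (.leaf (3171,0,[])))) (.node (.node (.leaf (1238,0,[])) (.leaf (3306,0,[57,56,43,190]))) (.leaf (1629,0,[57,110,90,239]))))) (.node (.node (.node (.node (.leaf (152,0,[])) (.leaf (1916,0,[]))) (.node (.leaf (1759,0,[])) (.leaf (2996,0,[])))) (.node (.node (.leaf (568,0,[])) (.leaf (3314,0,[]))) (.node (.leaf (1620,0,[87,56,155,3])) (.leaf (3753,0,[]))))) (.node (.node (.node (.leaf (705,0,[]))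 (.leaf (2159,0,[]))) (.node (.leaf (2069,0,[])) (.leaf (3362,0,[])))) (.node (.node (.leaf (784,0,[])) (.leaf (2686,0,[]))) (.leaf (1676,0,[]))))))) (.node (.node (.node (.node (.node (.node (.leaf (27,0,[])) (.leaf (2216,0,[110,43,99]))) (.node (.leaf (867,0,[])) (.leaf (2808,0,[])))) (.node (.node (.leaf (847,0,[])) (.leaf (2254,0,[]))) (.node (.leaf (1294,0,[])) (.leaf (3494,0,[]))))) (.node (.node (.node (.leaf (464,0,[])) (.leaf (3005,0,[]))) (.node (.leaf (1083,0,[])) (.leaf (3124,0,[])))) (.node (.node (.leaf (644,0,[])) (.leaf (3379,0,[]))) (.leaf (2483,0,[]))))) (.node (.node (.node (.node (.leaf (128,0,[])) (.leaf (1888,0,[]))) (.node (.leaf (1722,0,[])) (.leaf (2958,0,[])))) (.node (.node (.leaf (543,0,[])) (.leaf (3299,0,[]))) (.node (.leaf (1415,0,[])) (.leaf (3678,0,[]))))) (.node (.node (.node (.leaf (333,0,[])) (.leaf (2621,0,[110,90,100]))) (.node (.leaf (1189,0,[])) (.leaf (3707,0,[])))) (.node (.node (.leaf (1381,0,[])) (.leaf (3460,0,[])))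 (.leaf (1648,0,[])))))) (.node (.node (.node (.node (.node (.leaf (160,0,[])) (.leaf (2700,0,[57,94,90,195]))) (.node (.leaf (1645,0,[])) (.leaf (2874,0,[])))) (.node (.node (.leaf (490,0,[])) (.leaf (2318,0,[]))) (.node (.leaf (2269,0,[])) (.leaf (3683,0,[110,123,167]))))) (.node (.node (.node (.leaf (280,0,[])) (.leaf (3053,0,[]))) (.node (.leaf (1134,0,[])) (.leaf (3213,0,[])))) (.node (.node (.leaf (1287,0,[])) (.leaf (2584,0,[]))) (.leaf (1590,0,[]))))) (.node (.node (.node (.node (.leaf (177,0,[])) (.leaf (1945,0,[]))) (.node (.leaf (1031,0,[])) (.leaf (3039,0,[])))) (.node (.node (.leaf (593,0,[])) (.leaf (2449,0,[]))) (.leaf (2413,0,[])))) (.node (.node (.node (.leaf (386,0,[])) (.leaf (2188,0,[]))) (.node (.leaf (2109,0,[])) (.leaf (3454,0,[57,155,230])))) (.node (.node (.leaf (811,0,[])) (.leaf (2730,0,[]))) (.leaf (2676,0,[88,56,42,159])))))))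

noncomputable def move111001 : Tr (ℕ × ℕ × List ℕ) :=
  .node (.node (.node (.node (.node (.node (.node (.leaf (35,0,[])) (.leaf (2747,0,[]))) (.node (.leaf (853,0,[])) (.leaf (2785,0,[])))) (.node (.node (.leaf (424,0,[])) (.leaf (2618,0,[87,56,43,132]))) (.node (.leaf (1280,0,[])) (.leaf (3488,0,[57,93,123,226]))))) (.node (.node (.node (.leaf (216,0,[])) (.leaf (1992,0,[]))) (.node (.leaf (1070,0,[])) (.leaf (3105,0,[])))) (.node (.node (.leaf (1177,0,[])) (.leaf (2739,0,[87,170]))) (.leaf (2270,0,[88,55,104,205]))))) (.node (.node (.node (.node (.leaf (116,0,[])) (.leaf (1875,0,[]))) (.node (.leaf (1703,0,[])) (.leaf (2935,0,[])))) (.node (.node (.leaf (530,0,[])) (.leaf (2370,0,[]))) (.node (.leaf (2326,0,[])) (.leaf (3654,0,[]))))) (.node (.node (.node (.leaf (319,0,[])) (.leaf (2108,0,[]))) (.node (.leaf (1176,0,[])) (.leaf (3278,0,[])))) (.node (.node (.leaf (1357,0,[])) (.leaf (3187,0,[87,93,116,232]))) (.leaf (1635,0,[])))))) (.node (.node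 (.node (.node (.node (.leaf (65,0,[])) (.leaf (1816,0,[]))) (.node (.leaf (1153,0,[87,55,42,242])) (.leaf (2856,0,[])))) (.node (.node (.leaf (541,0,[88,123,131])) (.leaf (2304,0,[]))) (.node (.leaf (1339,0,[])) (.leaf (3554,0,[]))))) (.node (.node (.node (.leaf (536,0,[])) (.leaf (2050,0,[]))) (.node (.leaf (1122,0,[])) (.leaf (3192,0,[])))) (.node (.node (.leaf (1263,0,[])) (.leaf (2565,0,[]))) (.leaf (1576,0,[]))))) (.node (.node (.node (.node (.leaf (340,0,[])) (.leaf (1931,0,[]))) (.node (.leaf (1018,0,[])) (.leaf (3015,0,[])))) (.node (.node (.leaf (1091,0,[])) (.leaf (2433,0,[]))) (.leaf (2394,0,[])))) (.node (.node (.node (.leaf (373,0,[])) (.leaf (2172,0,[]))) (.node (.leaf (2020,0,[87,93,44,168])) (.leaf (3601,0,[55,11])))) (.node (.node (.leaf (797,0,[])) (.leaf (2708,0,[]))) (.leaf (2041,0,[57,55,104,211]))))))) (.node (.node (.node (.node (.node (.node (.leaf (41,0,[])) (.leaf (1785,0,[]))) (.node (.leaf (879,0,[])) (.leaf (2823,0,[]))))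 (.node (.node (.leaf (868,0,[])) (.leaf (2484,0,[57,44,197]))) (.node (.leaf (2211,0,[])) (.leaf (3685,0,[57,56,42,174]))))) (.node (.node (.node (.leaf (486,0,[])) (.leaf (2024,0,[]))) (.node (.leaf (1917,0,[])) (.leaf (3150,0,[])))) (.node (.node (.leaf (658,0,[])) (.leaf (2529,0,[]))) (.leaf (1547,0,[]))))) (.node (.node (.node (.node (.leaf (139,0,[])) (.leaf (1903,0,[]))) (.node (.leaf (1721,0,[110,140,247])) (.leaf (2976,0,[])))) (.node (.node (.leaf (556,0,[])) (.leaf (2398,0,[]))) (.node (.leaf (2059,0,[56,90,33])) (.leaf (3780,0,[88,93,123,172]))))) (.node (.node (.node (.leaf (346,0,[])) (.leaf (2142,0,[]))) (.node (.leaf (1203,0,[])) (.leaf (3340,0,[])))) (.node (.node (.leaf (1402,0,[])) (.leaf (2666,0,[]))) (.leaf (1663,0,[])))))) (.node (.node (.node (.node (.node (.leaf (90,0,[])) (.leaf (1846,0,[]))) (.node (.leaf (934,0,[])) (.leaf (3239,0,[57,93,103,246])))) (.node (.node (.leaf (504,0,[])) (.leaf (2428,0,[93,140,180]))) (.node (.leaf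 (2290,0,[])) (.leaf (3609,0,[]))))) (.node (.node (.node (.leaf (419,0,[87,55,116,131])) (.leaf (2726,0,[88,173]))) (.node (.leaf (1148,0,[])) (.leaf (3236,0,[])))) (.node (.node (.leaf (713,0,[])) (.leaf (2697,0,[110,140,179]))) (.leaf (1603,0,[]))))) (.node (.node (.node (.node (.leaf (390,0,[])) (.leaf (2957,0,[]))) (.node (.leaf (1831,0,[])) (.leaf (3064,0,[])))) (.node (.node (.leaf (608,0,[])) (.leaf (2463,0,[]))) (.leaf (2365,0,[88,93,103,33])))) (.node (.node (.node (.leaf (772,0,[])) (.leaf (2547,0,[55,116,11]))) (.node (.leaf (1256,0,[])) (.leaf (3417,0,[])))) (.node (.node (.leaf (829,0,[])) (.leaf (2748,0,[]))) (.leaf (2135,0,[57,93,42,149])))))))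

noncomputable def move11100 : Tr (ℕ × ℕ × List ℕ) := .node move111000 move111001

noncomputable def move111010 : Tr (ℕ × ℕ × List ℕ) :=
  .node (.node (.node (.node (.node (.node (.node (.leaf (23,0,[])) (.leaf (1751,0,[]))) (.node (.leaf (1370,0,[55,155,192])) (.leaf (3503,0,[])))) (.node (.node (.leaf (812,0,[])) (.leaf (2971,0,[88,94,43,215]))) (.node (.leaf (1274,0,[])) (.leaf (3457,0,[]))))) (.node (.node (.node (.leaf (425,0,[])) (.leaf (2984,0,[]))) (.node (.leaf (1291,0,[57,56,44,158])) (.leaf (3089,0,[])))) (.node (.node (.leaf (1169,0,[])) (.leaf (3365,0,[]))) (.leaf (1513,0,[]))))) (.node (.node (.node (.node (.leaf (110,0,[])) (.leaf (1869,0,[]))) (.node (.leaf (998,0,[93,44,150])) (.leaf (2924,0,[])))) (.node (.node (.leaf (523,0,[])) (.leaf (2361,0,[]))) (.node (.leaf (1394,0,[])) (.leaf (3642,0,[]))))) (.node (.node (.node (.leaf (617,0,[])) (.leaf (2102,0,[]))) (.node (.leaf (1964,0,[61])) (.leaf (3263,0,[])))) (.node (.node (.leaf (736,0,[]))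 (.leaf (3439,0,[]))) (.leaf (1625,0,[])))))) (.node (.node (.node (.node (.node (.leaf (123,0,[])) (.leaf (2805,0,[]))) (.node (.leaf (899,0,[])) (.leaf (2865,0,[55,43,119])))) (.node (.node (.leaf (468,0,[])) (.leaf (2298,0,[]))) (.node (.leaf (1330,0,[])) (.leaf (3544,0,[]))))) (.node (.node (.node (.leaf (262,0,[])) (.leaf (2045,0,[]))) (.node (.leaf (1941,0,[])) (.leaf (3326,0,[87,55,175])))) (.node (.node (.leaf (1250,0,[])) (.leaf (2556,0,[]))) (.leaf (2525,0,[]))))) (.node (.node (.node (.node (.leaf (158,0,[])) (.leaf (2923,0,[]))) (.node (.leaf (1011,0,[])) (.leaf (3594,0,[88,93,90,206])))) (.node (.node (.leaf (866,0,[87,155,208])) (.leaf (2838,0,[87,55,123,122]))) (.node (.leaf (2382,0,[])) (.leaf (3783,0,[88,55,44,152]))))) (.node (.node (.node (.leaf (364,0,[])) (.leaf (2166,0,[]))) (.node (.leaf (1225,0,[])) (.leaf (3726,0,[])))) (.node (.node (.leaf (792,0,[])) (.leaf (2698,0,[]))) (.leaf (2669,0,[]))))))) (.node (.node (.node (.node (.node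 (.node (.leaf (34,0,[])) (.leaf (1957,0,[57,93,43,37]))) (.node (.leaf (873,0,[])) (.leaf (2816,0,[])))) (.node (.node (.leaf (442,0,[])) (.leaf (2262,0,[]))) (.node (.leaf (1302,0,[])) (.leaf (3505,0,[]))))) (.node (.node (.node (.leaf (475,0,[])) (.leaf (2016,0,[]))) (.node (.leaf (1090,0,[])) (.leaf (3134,0,[])))) (.node (.node (.leaf (1211,0,[])) (.leaf (2522,0,[]))) (.leaf (2489,0,[]))))) (.node (.node (.node (.node (.leaf (134,0,[])) (.leaf (1894,0,[]))) (.node (.leaf (980,0,[])) (.leaf (3179,0,[88,123,232])))) (.node (.node (.leaf (1038,0,[])) (.leaf (2389,0,[]))) (.node (.leaf (1425,0,[])) (.leaf (3691,0,[]))))) (.node (.node (.node (.leaf (339,0,[])) (.leaf (2133,0,[]))) (.node (.leaf (2046,0,[])) (.leaf (3710,0,[])))) (.node (.node (.leaf (762,0,[])) (.leaf (2887,0,[57,94,104,194]))) (.leaf (1654,0,[])))))) (.node (.node (.node (.node (.node (.leaf (174,0,[])) (.leaf (2830,0,[]))) (.node (.leaf (927,0,[])) (.leaf (3450,0,[87,55,116,241]))))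 (.node (.node (.leaf (497,0,[])) (.leaf (3267,0,[]))) (.node (.leaf (2278,0,[])) (.leaf (3593,0,[]))))) (.node (.node (.node (.leaf (574,0,[])) (.leaf (2226,0,[57,44,173]))) (.node (.leaf (1140,0,[])) (.leaf (3224,0,[])))) (.node (.node (.leaf (1298,0,[])) (.leaf (2591,0,[]))) (.leaf (1597,0,[]))))) (.node (.node (.node (.node (.leaf (183,0,[])) (.leaf (1953,0,[]))) (.node (.leaf (1820,0,[])) (.leaf (3052,0,[])))) (.node (.node (.leaf (600,0,[])) (.leaf (2457,0,[]))) (.leaf (1485,0,[])))) (.node (.node (.node (.leaf (761,0,[])) (.leaf (2346,0,[57,103,216]))) (.node (.leaf (1249,0,[])) (.leaf (3731,0,[57,93,104,212])))) (.node (.node (.leaf (1473,0,[])) (.leaf (2740,0,[]))) (.leaf (2696,0,[])))))))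

noncomputable def move111011 : Tr (ℕ × ℕ × List ℕ) :=
  .node (.node (.node (.node (.node (.node (.node (.leaf (19,0,[])) (.leaf (1764,0,[]))) (.node (.leaf (859,0,[])) (.leaf (3283,0,[88,55,91,117])))) (.node (.node (.leaf (430,0,[])) (.leaf (3206,0,[]))) (.node (.leaf (1286,0,[])) (.leaf (3484,0,[]))))) (.node (.node (.node (.leaf (452,0,[])) (.leaf (2712,0,[57,110,44,199]))) (.node (.leaf (1078,0,[])) (.leaf (3529,0,[56,42,241])))) (.node (.node (.leaf (638,0,[])) (.leaf (3375,0,[]))) (.leaf (2477,0,[]))))) (.node (.node (.node (.node (.leaf (253,0,[])) (.leaf (2884,0,[]))) (.node (.leaf (1714,0,[])) (.leaf (2946,0,[])))) (.node (.node (.leaf (1016,0,[])) (.leaf (2376,0,[]))) (.node (.leaf (1408,0,[])) (.leaf (3663,0,[]))))) (.node (.node (.node (.leaf (641,0,[])) (.leaf (2116,0,[]))) (.node (.leaf (2025,0,[])) (.leaf (3292,0,[])))) (.node (.node (.leaf (749,0,[])) (.leaf (2642,0,[]))) (.leaf (2619,0,[])))))) (.node (.node (.node (.node (.node (.leaf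 (147,0,[])) (.leaf (2792,0,[57,56,44,12]))) (.node (.leaf (913,0,[])) (.leaf (3070,0,[94,104,113])))) (.node (.node (.leaf (925,0,[])) (.leaf (2311,0,[]))) (.node (.leaf (1345,0,[])) (.leaf (3572,0,[]))))) (.node (.node (.node (.leaf (274,0,[])) (.leaf (3048,0,[]))) (.node (.leaf (1129,0,[])) (.leaf (3202,0,[])))) (.node (.node (.leaf (1277,0,[])) (.leaf (2573,0,[]))) (.leaf (2452,0,[88,93,104,216]))))) (.node (.node (.node (.node (.leaf (354,0,[])) (.leaf (1938,0,[]))) (.node (.leaf (1025,0,[])) (.leaf (3025,0,[])))) (.node (.node (.leaf (1101,0,[])) (.leaf (2439,0,[]))) (.leaf (1469,0,[])))) (.node (.node (.node (.leaf (380,0,[])) (.leaf (3159,0,[]))) (.node (.leaf (1237,0,[])) (.leaf (3393,0,[])))) (.node (.node (.leaf (804,0,[])) (.leaf (2890,0,[57,56,149]))) (.leaf (1701,0,[]))))))) (.node (.node (.node (.node (.node (.node (.leaf (47,0,[])) (.leaf (1793,0,[]))) (.node (.leaf (1592,0,[])) (.leaf (3527,0,[])))) (.node (.node (.leaf (456,0,[])) (.leaf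 (2277,0,[]))) (.node (.leaf (1317,0,[])) (.leaf (3526,0,[]))))) (.node (.node (.node (.leaf (500,0,[])) (.leaf (2690,0,[87,94,104,213]))) (.node (.leaf (1926,0,[])) (.leaf (3158,0,[])))) (.node (.node (.leaf (663,0,[])) (.leaf (3396,0,[]))) (.leaf (1554,0,[]))))) (.node (.node (.node (.node (.leaf (306,0,[])) (.leaf (1910,0,[]))) (.node (.leaf (995,0,[])) (.leaf (3600,0,[])))) (.node (.node (.leaf (715,0,[87,110,91,122])) (.leaf (2407,0,[]))) (.node (.leaf (1441,0,[])) (.leaf (3763,0,[87,55,123,92]))))) (.node (.node (.node (.leaf (691,0,[])) (.leaf (2153,0,[]))) (.node (.leaf (1212,0,[])) (.leaf (3354,0,[])))) (.node (.node (.leaf (776,0,[])) (.leaf (2677,0,[]))) (.leaf (2650,0,[])))))) (.node (.node (.node (.node (.node (.leaf (96,0,[])) (.leaf (1855,0,[]))) (.node (.leaf (942,0,[])) (.leaf (3322,0,[57,56,42,218])))) (.node (.node (.leaf (511,0,[])) (.leaf (2344,0,[]))) (.node (.leaf (1863,0,[57,55,43,15])) (.leaf (3616,0,[]))))) (.node (.node (.node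 (.leaf (327,0,[43,0])) (.leaf (3075,0,[]))) (.node (.leaf (1156,0,[])) (.leaf (3244,0,[])))) (.node (.node (.leaf (722,0,[])) (.leaf (2609,0,[]))) (.leaf (2581,0,[]))))) (.node (.node (.node (.node (.leaf (381,0,[61])) (.leaf (1969,0,[]))) (.node (.leaf (1050,0,[])) (.leaf (3621,0,[])))) (.node (.node (.leaf (614,0,[])) (.leaf (2471,0,[]))) (.leaf (2442,0,[])))) (.node (.node (.node (.leaf (785,0,[])) (.leaf (2839,0,[87,94,89,95]))) (.node (.leaf (2140,0,[])) (.leaf (3747,0,[])))) (.node (.node (.leaf (834,0,[])) (.leaf (2760,0,[]))) (.leaf (2715,0,[])))))))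

noncomputable def move11101 : Tr (ℕ × ℕ × List ℕ) := .node move111010 move111011

noncomputable def move1110 : Tr (ℕ × ℕ × List ℕ) := .node move11100 move11101

noncomputable def move111100 : Tr (ℕ × ℕ × List ℕ) :=
  .node (.node (.node (.node (.node (.node (.node (.leaf (4,0,[])) (.leaf (1747,0,[]))) (.node (.leaf (1517,0,[])) (.leaf (3222,0,[55,155,200])))) (.node (.node (.leaf (414,0,[])) (.leaf (2474,0,[88,56,90,177]))) (.node (.leaf (1271,0,[])) (.leaf (3447,0,[]))))) (.node (.node (.node (.leaf (206,0,[])) (.leaf (2980,0,[]))) (.node (.leaf (1059,0,[])) (.leaf (3084,0,[])))) (.node (.node (.leaf (624,0,[])) (.leaf (2487,0,[]))) (.leaf (2454,0,[]))))) (.node (.node (.node (.node (.leaf (106,0,[])) (.leaf (1866,0,[]))) (.node (.leaf (1691,0,[])) (.leaf (3576,0,[])))) (.node (.node (.leaf (520,0,[])) (.leaf (3285,0,[]))) (.node (.leaf (2312,0,[])) (.leaf (3778,0,[57,93,191]))))) (.node (.node (.node (.leaf (610,0,[])) (.leaf (2794,0,[110,140,158])))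 (.node (.leaf (2008,0,[])) (.leaf (3258,0,[])))) (.node (.node (.leaf (1338,0,[])) (.leaf (2622,0,[]))) (.leaf (2596,0,[])))))) (.node (.node (.node (.node (.node (.leaf (56,0,[])) (.leaf (1805,0,[]))) (.node (.leaf (1611,0,[])) (.leaf (2845,0,[])))) (.node (.node (.leaf (465,0,[])) (.leaf (2292,0,[]))) (.node (.leaf (2238,0,[])) (.leaf (3538,0,[]))))) (.node (.node (.node (.leaf (259,0,[])) (.leaf (2042,0,[]))) (.node (.leaf (1937,0,[])) (.leaf (3666,0,[])))) (.node (.node (.leaf (674,0,[])) (.leaf (3262,0,[57,94,103,23]))) (.leaf (1967,0,[88,44,100]))))) (.node (.node (.node (.node (.leaf (155,0,[])) (.leaf (2917,0,[]))) (.node (.leaf (1008,0,[])) (.leaf (3000,0,[])))) (.node (.node (.leaf (1077,0,[])) (.leaf (2417,0,[]))) (.node (.leaf (1449,0,[])) (.leaf (3781,0,[110,103,177]))))) (.node (.node (.node (.leaf (710,0,[])) (.leaf (2162,0,[]))) (.node (.leaf (2075,0,[])) (.leaf (3367,0,[])))) (.node (.node (.leaf (1430,0,[])) (.leaf (3099,0,[110,103,34])))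 (.leaf (1681,0,[]))))))) (.node (.node (.node (.node (.node (.node (.leaf (30,0,[])) (.leaf (2035,0,[94,103,33]))) (.node (.leaf (870,0,[])) (.leaf (2812,0,[])))) (.node (.node (.leaf (852,0,[])) (.leaf (2258,0,[]))) (.node (.leaf (1299,0,[])) (.leaf (3536,0,[57,43,15]))))) (.node (.node (.node (.leaf (470,0,[])) (.leaf (2343,0,[110,116,15]))) (.node (.leaf (1899,0,[])) (.leaf (3131,0,[])))) (.node (.node (.leaf (648,0,[])) (.leaf (2519,0,[]))) (.leaf (1537,0,[]))))) (.node (.node (.node (.node (.leaf (131,0,[])) (.leaf (1891,0,[]))) (.node (.leaf (977,0,[])) (.leaf (2963,0,[])))) (.node (.node (.leaf (1033,0,[])) (.leaf (3140,0,[55,183]))) (.node (.leaf (1422,0,[])) (.leaf (3682,0,[]))))) (.node (.node (.node (.leaf (336,0,[])) (.leaf (2397,0,[87,93,103,29]))) (.node (.leaf (1192,0,[])) (.leaf (3317,0,[])))) (.node (.node (.leaf (1387,0,[])) (.leaf (2802,0,[57,93,89,111]))) (.leaf (1651,0,[])))))) (.node (.node (.node (.node (.node (.leaf (80,0,[]))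 (.leaf (1834,0,[]))) (.node (.leaf (924,0,[])) (.leaf (3300,0,[88,93,42,74])))) (.node (.node (.leaf (909,0,[88,56,91,185])) (.leaf (2322,0,[]))) (.node (.leaf (1852,0,[57,56,155,22])) (.leaf (3588,0,[]))))) (.node (.node (.node (.leaf (412,0,[43])) (.leaf (2067,0,[]))) (.node (.leaf (1137,0,[])) (.leaf (3216,0,[])))) (.node (.node (.leaf (704,0,[])) (.leaf (2587,0,[]))) (.leaf (1594,0,[]))))) (.node (.node (.node (.node (.leaf (180,0,[])) (.leaf (2950,0,[]))) (.node (.leaf (1034,0,[])) (.leaf (3252,0,[57,155,160])))) (.node (.node (.leaf (596,0,[])) (.leaf (3086,0,[57,94,43,219]))) (.leaf (2420,0,[])))) (.node (.node (.node (.leaf (389,0,[])) (.leaf (2192,0,[]))) (.node (.leaf (1245,0,[])) (.leaf (3405,0,[])))) (.node (.node (.leaf (816,0,[])) (.leaf (3438,0,[87,56,90,143]))) (.leaf (2125,0,[87,110,43,118])))))))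

noncomputable def move111101 : Tr (ℕ × ℕ × List ℕ) :=
  .node (.node (.node (.node (.node (.node (.node (.leaf (16,0,[])) (.leaf (1761,0,[]))) (.node (.leaf (856,0,[])) (.leaf (2793,0,[])))) (.node (.node (.leaf (830,0,[])) (.leaf (2243,0,[]))) (.node (.leaf (2176,0,[])) (.leaf (3479,0,[]))))) (.node (.node (.node (.leaf (219,0,[])) (.leaf (1995,0,[]))) (.node (.leaf (1573,0,[57,56,44,159])) (.leaf (3523,0,[56,42,8])))) (.node (.node (.leaf (1182,0,[])) (.leaf (2889,0,[87,94,140,132]))) (.leaf (1523,0,[]))))) (.node (.node (.node (.node (.leaf (119,0,[])) (.leaf (2882,0,[]))) (.node (.leaf (963,0,[])) (.leaf (3293,0,[88,55,176,189])))) (.node (.node (.leaf (533,0,[])) (.leaf (2373,0,[]))) (.node (.leaf (1465,0,[88,55,103,76])) (.leaf (3786,0,[43,152]))))) (.node (.node (.node (.leaf (322,0,[])) (.leaf (2113,0,[]))) (.node (.leaf (1179,0,[])) (.leaf (3567,0,[87,110,123,207])))) (.node (.node (.leaf (1363,0,[])) (.leaf (3449,0,[]))) (.leaf (1638,0,[]))))))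 (.node (.node (.node (.node (.node (.leaf (68,0,[])) (.leaf (2087,0,[56,90,46]))) (.node (.leaf (910,0,[])) (.leaf (2860,0,[])))) (.node (.node (.leaf (479,0,[])) (.leaf (2602,0,[57,110,89,71]))) (.node (.leaf (1342,0,[])) (.leaf (3562,0,[]))))) (.node (.node (.node (.leaf (271,0,[])) (.leaf (2053,0,[]))) (.node (.leaf (1126,0,[])) (.leaf (3195,0,[])))) (.node (.node (.leaf (688,0,[])) (.leaf (3409,0,[]))) (.leaf (1579,0,[]))))) (.node (.node (.node (.node (.leaf (167,0,[])) (.leaf (1934,0,[]))) (.node (.leaf (1789,0,[])) (.leaf (3021,0,[])))) (.node (.node (.leaf (1097,0,[])) (.leaf (2436,0,[]))) (.leaf (1715,0,[57,56,116,218])))) (.node (.node (.node (.leaf (376,0,[])) (.leaf (3154,0,[]))) (.node (.leaf (2097,0,[])) (.leaf (3387,0,[])))) (.node (.node (.leaf (801,0,[])) (.leaf (2713,0,[]))) (.leaf (2679,0,[]))))))) (.node (.node (.node (.node (.node (.node (.leaf (44,0,[])) (.leaf (1790,0,[]))) (.node (.leaf (882,0,[])) (.leaf (2827,0,[])))) (.node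 (.node (.leaf (874,0,[])) (.leaf (3225,0,[]))) (.node (.leaf (2217,0,[])) (.leaf (3519,0,[]))))) (.node (.node (.node (.leaf (494,0,[])) (.leaf (2027,0,[]))) (.node (.leaf (1100,0,[])) (.leaf (3155,0,[])))) (.node (.node (.leaf (1220,0,[])) (.leaf (2533,0,[]))) (.leaf (1551,0,[]))))) (.node (.node (.node (.node (.leaf (143,0,[])) (.leaf (1906,0,[]))) (.node (.leaf (1404,0,[87,110,104,231])) (.leaf (3598,0,[])))) (.node (.node (.leaf (559,0,[])) (.leaf (2473,0,[88,56,90,204]))) (.node (.leaf (1437,0,[])) (.leaf (3721,0,[]))))) (.node (.node (.node (.leaf (685,0,[])) (.leaf (3123,0,[]))) (.node (.leaf (1711,0,[55,116,18])) (.leaf (3344,0,[])))) (.node (.node (.leaf (773,0,[])) (.leaf (2670,0,[]))) (.leaf (2645,0,[])))))) (.node (.node (.node (.node (.node (.leaf (193,0,[])) (.leaf (2844,0,[]))) (.node (.leaf (937,0,[])) (.leaf (2905,0,[])))) (.node (.node (.leaf (965,0,[])) (.leaf (2338,0,[]))) (.node (.leaf (1419,0,[31])) (.leaf (3767,0,[57,94,44,188])))))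 (.node (.node (.node (.leaf (295,0,[])) (.leaf (2082,0,[]))) (.node (.leaf (1993,0,[])) (.leaf (3690,0,[])))) (.node (.node (.leaf (717,0,[])) (.leaf (2605,0,[]))) (.leaf (2577,0,[]))))) (.node (.node (.node (.node (.leaf (397,0,[])) (.leaf (1965,0,[]))) (.node (.leaf (1837,0,[])) (.leaf (3068,0,[])))) (.node (.node (.leaf (611,0,[])) (.leaf (2467,0,[]))) (.leaf (1495,0,[])))) (.node (.node (.node (.leaf (778,0,[])) (.leaf (2208,0,[]))) (.node (.leaf (1259,0,[])) (.leaf (3421,0,[])))) (.node (.node (.leaf (1492,0,[])) (.leaf (2755,0,[]))) (.leaf (1730,0,[])))))))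

noncomputable def move11110 : Tr (ℕ × ℕ × List ℕ) := .node move111100 move111101

noncomputable def move111110 : Tr (ℕ × ℕ × List ℕ) :=
  .node (.node (.node (.node (.node (.node (.node (.leaf (10,0,[])) (.leaf (1755,0,[]))) (.node (.leaf (850,0,[])) (.leaf (3188,0,[57,99])))) (.node (.node (.leaf (817,0,[])) (.leaf (3196,0,[]))) (.node (.leaf (2164,0,[])) (.leaf (3757,0,[]))))) (.node (.node (.node (.leaf (431,0,[])) (.leaf (2441,0,[57,56,42,222]))) (.node (.leaf (1067,0,[])) (.leaf (3092,0,[])))) (.node (.node (.leaf (629,0,[])) (.leaf (2728,0,[93,104,182]))) (.leaf (1516,0,[]))))) (.node (.node (.node (.node (.leaf (235,0,[])) (.leaf (1872,0,[]))) (.node (.leaf (957,0,[])) (.leaf (3041,0,[88,116,183])))) (.node (.node (.leaf (526,0,[])) (.leaf (2367,0,[]))) (.node (.leaf (2056,0,[88,90,235])) (.leaf (3649,0,[]))))) (.node (.node (.node (.leaf (315,0,[])) (.leaf (3091,0,[]))) (.node (.leaf (2012,0,[])) (.leaf (3273,0,[])))) (.node (.node (.leaf (740,0,[]))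 (.leaf (3443,0,[]))) (.leaf (2175,0,[88,110,42,171])))))) (.node (.node (.node (.node (.node (.leaf (62,0,[])) (.leaf (2809,0,[]))) (.node (.leaf (904,0,[])) (.leaf (3485,0,[56,155,34])))) (.node (.node (.leaf (907,0,[])) (.leaf (2301,0,[]))) (.node (.leaf (1335,0,[])) (.leaf (3548,0,[]))))) (.node (.node (.node (.leaf (528,0,[])) (.leaf (3038,0,[]))) (.node (.leaf (1411,0,[88,55,90,16])) (.leaf (3186,0,[])))) (.node (.node (.leaf (681,0,[])) (.leaf (2561,0,[]))) (.leaf (1571,0,[]))))) (.node (.node (.node (.node (.leaf (334,0,[])) (.leaf (1927,0,[]))) (.node (.leaf (1015,0,[])) (.leaf (3008,0,[])))) (.node (.node (.leaf (577,0,[])) (.leaf (3325,0,[]))) (.node (.leaf (1455,0,[])) (.leaf (3793,0,[87,55,176,160]))))) (.node (.node (.node (.leaf (724,0,[])) (.leaf (2169,0,[]))) (.node (.leaf (1228,0,[])) (.leaf (3658,0,[57,110,238])))) (.node (.node (.leaf (1442,0,[])) (.leaf (2704,0,[]))) (.leaf (1688,0,[]))))))) (.node (.node (.node (.node (.node (.node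 (.leaf (38,0,[])) (.leaf (2305,0,[57,56,43,188]))) (.node (.leaf (1577,0,[])) (.leaf (2820,0,[])))) (.node (.node (.leaf (445,0,[])) (.leaf (2266,0,[]))) (.node (.leaf (1305,0,[])) (.leaf (3620,0,[87,240]))))) (.node (.node (.node (.leaf (239,0,[])) (.leaf (2019,0,[]))) (.node (.leaf (1216,0,[55,104,167])) (.leaf (3141,0,[])))) (.node (.node (.leaf (1163,0,[93,44,150])) (.leaf (2526,0,[]))) (.leaf (2495,0,[]))))) (.node (.node (.node (.node (.leaf (287,0,[])) (.leaf (2899,0,[]))) (.node (.leaf (1741,0,[])) (.leaf (3165,0,[87,55,123,184])))) (.node (.node (.leaf (1043,0,[])) (.leaf (2393,0,[]))) (.node (.leaf (1428,0,[])) (.leaf (3698,0,[]))))) (.node (.node (.node (.leaf (343,0,[])) (.leaf (3118,0,[]))) (.node (.leaf (1200,0,[])) (.leaf (3334,0,[])))) (.node (.node (.leaf (766,0,[])) (.leaf (2662,0,[]))) (.leaf (1659,0,[])))))) (.node (.node (.node (.node (.node (.leaf (87,0,[])) (.leaf (2836,0,[]))) (.node (.leaf (931,0,[])) (.leaf (2894,0,[])))) (.node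 (.node (.leaf (501,0,[])) (.leaf (3271,0,[]))) (.node (.leaf (1365,0,[])) (.leaf (3599,0,[]))))) (.node (.node (.node (.leaf (289,0,[])) (.leaf (2663,0,[94,155,101]))) (.node (.leaf (1143,0,[])) (.leaf (3232,0,[])))) (.node (.node (.leaf (1304,0,[])) (.leaf (2597,0,[]))) (.leaf (2569,0,[]))))) (.node (.node (.node (.node (.leaf (384,0,[])) (.leaf (1956,0,[]))) (.node (.leaf (1040,0,[])) (.leaf (3059,0,[])))) (.node (.node (.leaf (1130,0,[])) (.leaf (2460,0,[]))) (.leaf (1702,0,[87,55,42,23])))) (.node (.node (.node (.leaf (395,0,[])) (.leaf (2198,0,[]))) (.node (.leaf (1252,0,[])) (.leaf (3607,0,[57,93,44,126])))) (.node (.node (.leaf (1478,0,[])) (.leaf (3471,0,[87,56,155,59]))) (.leaf (1724,0,[])))))))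

noncomputable def move111111 : Tr (ℕ × ℕ × List ℕ) :=
  .node (.node (.node (.node (.node (.node (.node (.leaf (50,0,[])) (.leaf (1767,0,[]))) (.node (.leaf (862,0,[])) (.leaf (2804,0,[])))) (.node (.node (.leaf (433,0,[])) (.leaf (2251,0,[]))) (.node (.leaf (2183,0,[])) (.leaf (3490,0,[]))))) (.node (.node (.node (.leaf (224,0,[])) (.leaf (3003,0,[]))) (.node (.leaf (1080,0,[])) (.leaf (3120,0,[])))) (.node (.node (.leaf (1197,0,[])) (.leaf (2633,0,[93,44,118]))) (.leaf (2220,0,[57,56,176,111]))))) (.node (.node (.node (.node (.leaf (260,0,[])) (.leaf (1885,0,[]))) (.node (.leaf (1384,0,[87,55,116,98])) (.leaf (2952,0,[])))) (.node (.node (.leaf (539,0,[])) (.leaf (2379,0,[]))) (.node (.leaf (2336,0,[])) (.leaf (3670,0,[]))))) (.node (.node (.node (.leaf (647,0,[])) (.leaf (2121,0,[]))) (.node (.leaf (1186,0,[])) (.leaf (3487,0,[87,93,103,158])))) (.node (.node (.leaf (1374,0,[])) (.leaf (2646,0,[]))) (.leaf (2340,0,[94,116,151])))))) (.node (.node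 (.node (.node (.node (.leaf (74,0,[])) (.leaf (2611,0,[55,91,193]))) (.node (.leaf (948,0,[93,116,204])) (.leaf (2867,0,[])))) (.node (.node (.leaf (653,0,[93,91,232])) (.leaf (3260,0,[]))) (.node (.leaf (2263,0,[])) (.leaf (3580,0,[]))))) (.node (.node (.node (.leaf (555,0,[])) (.leaf (3051,0,[]))) (.node (.leaf (1963,0,[])) (.leaf (3605,0,[94,123,150])))) (.node (.node (.leaf (997,0,[87,56,43,207])) (.leaf (2580,0,[]))) (.leaf (1586,0,[]))))) (.node (.node (.node (.node (.leaf (361,0,[])) (.leaf (1942,0,[]))) (.node (.leaf (1803,0,[])) (.leaf (3033,0,[])))) (.node (.node (.leaf (1105,0,[])) (.leaf (3338,0,[]))) (.leaf (1474,0,[])))) (.node (.node (.node (.leaf (746,0,[])) (.leaf (2185,0,[]))) (.node (.leaf (1240,0,[])) (.leaf (3627,0,[88,55,104,222])))) (.node (.node (.leaf (1367,0,[87,55,90,191])) (.leaf (2723,0,[]))) (.leaf (2539,0,[57,94,123,72]))))))) (.node (.node (.node (.node (.node (.node (.leaf (103,0,[])) (.leaf (1883,0,[57,94,155,218])))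 (.node (.leaf (889,0,[])) (.leaf (2837,0,[])))) (.node (.node (.leaf (754,0,[57,56,104,227])) (.leaf (2283,0,[]))) (.node (.leaf (2225,0,[])) (.leaf (3530,0,[]))))) (.node (.node (.node (.leaf (505,0,[])) (.leaf (3022,0,[]))) (.node (.leaf (1106,0,[])) (.leaf (3276,0,[56,43,151])))) (.node (.node (.leaf (666,0,[])) (.leaf (2542,0,[]))) (.leaf (2514,0,[]))))) (.node (.node (.node (.node (.leaf (312,0,[])) (.leaf (1913,0,[]))) (.node (.leaf (1000,0,[])) (.leaf (2988,0,[])))) (.node (.node (.leaf (1063,0,[])) (.leaf (2550,0,[88,56,91,174]))) (.node (.leaf (2368,0,[])) (.leaf (3745,0,[]))))) (.node (.node (.node (.leaf (355,0,[])) (.leaf (2156,0,[]))) (.node (.leaf (1968,0,[87,56,123,233])) (.leaf (3525,0,[88,94,90,130])))) (.node (.node (.leaf (1421,0,[])) (.leaf (2683,0,[]))) (.leaf (1673,0,[])))))) (.node (.node (.node (.node (.node (.leaf (100,0,[])) (.leaf (2264,0,[57,94,155,124]))) (.node (.leaf (944,0,[])) (.leaf (2912,0,[])))) (.node (.node (.leaf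 (514,0,[])) (.leaf (2682,0,[56,43,216]))) (.node (.leaf (2302,0,[])) (.leaf (3624,0,[]))))) (.node (.node (.node (.leaf (598,0,[])) (.leaf (2091,0,[]))) (.node (.leaf (1158,0,[])) (.leaf (3473,0,[110,42,27])))) (.node (.node (.leaf (725,0,[])) (.leaf (2948,0,[87,55,43,218]))) (.leaf (1614,0,[]))))) (.node (.node (.node (.node (.leaf (200,0,[])) (.leaf (1972,0,[]))) (.node (.leaf (1850,0,[])) (.leaf (3170,0,[57,43,15])))) (.node (.node (.leaf (1151,0,[])) (.leaf (2476,0,[]))) (.leaf (1504,0,[])))) (.node (.node (.node (.leaf (408,0,[])) (.leaf (2244,0,[88,94,89,115]))) (.node (.leaf (1265,0,[])) (.leaf (3751,0,[])))) (.node (.node (.leaf (1505,0,[])) (.leaf (3318,0,[93,103,147]))) (.leaf (1739,0,[])))))))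

noncomputable def move11111 : Tr (ℕ × ℕ × List ℕ) := .node move111110 move111111

noncomputable def move1111 : Tr (ℕ × ℕ × List ℕ) := .node move11110 move11111

noncomputable def move111 : Tr (ℕ × ℕ × List ℕ) := .node move1110 move1111

noncomputable def move11 : Tr (ℕ × ℕ × List ℕ) := .node move110 move111

noncomputable def move1 : Tr (ℕ × ℕ × List ℕ) := .node move10 move11

noncomputable def move : Tr (ℕ × ℕ × List ℕ) := .node move0 move1

end Cfsg.Agent.Lib.J4Dce59.Data
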