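import Cfsg.Agent.Lib.J4Dce59.CoverRules

/-! # Generated data for the double coset enumeration (Orb0) -/

set_option autoImplicit false
set_option maxRecDepth 100000
set_option maxHeartbeats 0

namespace Cfsg.Agent.Lib.J4Dce59.Data

noncomputable def trio0_00000 : Tr TStep :=
  .node (.node (.node (.node (.node (.node (.node (.leaf (.root 0)) (.leaf (.up 26 2384 [1] 0 []))) (.node (.leaf (.up 25 673 [1] 0 [])) (.leaf (.up 32 3322 [0] 0 [])))) (.node (.node (.leaf (.up 25 409 [0] 0 [])) (.leaf (.up 26 1893 [1] 0 []))) (.node (.leaf (.up 27 1829 [1] 0 [])) (.leaf (.up 31 3224 [1] 0 []))))) (.node (.node (.node (.leaf (.up 16 323 [1] 0 [])) (.leaf (.up 29 2643 [1] 0 []))) (.node (.leaf (.up 28 1555 [1] 0 [])) (.leaf (.up 28 2770 [1] 0 [])))) (.node (.node (.leaf (.up 21 497 [1] 0 [])) (.leaf (.up 30 2477 [0] 0 []))) (.leaf (.up 29 1505 [0] 0 []))))) (.node (.node (.node (.node (.leaf (.up 11 101 [0] 0 [])) (.leaf (.up 27 1559 [1] 0 []))) (.node (.leaf (.up 24 1400 [1] 0 [])) (.leaf (.up 28 2913 [0] 0 [])))) (.node (.node (.leaf (.up 24 515 [0] 0 [])) (.leaf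 (.up 29 3013 [1] 0 []))) (.node (.leaf (.up 32 1972 [0] 0 [])) (.leaf (.up 32 3641 [1] 0 [87,94,44,148]))))) (.node (.node (.node (.leaf (.up 19 239 [1] 0 [])) (.leaf (.up 29 1778 [1] 0 []))) (.node (.leaf (.up 28 1691 [1] 0 [])) (.leaf (.up 32 3251 [0] 0 [])))) (.node (.node (.leaf (.up 21 582 [1] 0 [])) (.leaf (.up 29 2274 [1] 0 []))) (.leaf (.up 28 1615 [0] 0 [])))))) (.node (.node (.node (.node (.node (.leaf (.up 16 41 [1] 0 [])) (.leaf (.up 33 2454 [1] 0 []))) (.node (.leaf (.up 23 890 [0] 0 [])) (.leaf (.up 29 3188 [1] 0 [87,94,155,212])))) (.node (.node (.leaf (.up 19 364 [1] 0 [])) (.leaf (.up 24 2024 [1] 0 [110,140,21]))) (.node (.leaf (.up 24 1088 [1] 0 [])) (.leaf (.up 34 3726 [1] 0 []))))) (.node (.node (.node (.leaf (.up 20 405 [1] 0 [])) (.leaf (.up 30 1727 [1] 0 []))) (.node (.leaf (.up 26 1625 [0] 0 [])) (.leaf (.up 33 3168 [0] 0 [])))) (.node (.node (.leaf (.up 27 1015 [0] 0 [])) (.leaf (.up 27 2543 [0] 0 []))) (.leaf (.up 28 1282 [1] 0 []))))) (.node (.node (.node (.node (.leaf (.up 15 188 [1] 0 [94,90,190])) (.leaf (.up 28 1914 [0]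 0 []))) (.node (.leaf (.up 21 1001 [0] 0 [])) (.leaf (.up 32 3468 [1] 0 [])))) (.node (.node (.leaf (.up 25 566 [0] 0 [])) (.leaf (.up 29 2999 [0] 0 [56,116,227]))) (.node (.leaf (.up 27 1190 [1] 0 [])) (.leaf (.up 36 3677 [1] 0 []))))) (.node (.node (.node (.leaf (.up 22 356 [0] 0 [])) (.leaf (.up 30 2157 [0] 0 []))) (.node (.leaf (.up 19 1090 [1] 0 [29])) (.leaf (.up 33 3640 [0] 0 [])))) (.node (.node (.leaf (.up 20 628 [1] 0 [])) (.leaf (.up 31 3279 [1] 0 []))) (.leaf (.up 28 1674 [0] 0 []))))))) (.node (.node (.node (.node (.node (.node (.leaf (.up 5 17 [1] 0 [])) (.leaf (.up 27 2350 [0] 0 [57,55,43,5]))) (.node (.leaf (.up 26 1283 [1] 0 [])) (.leaf (.up 33 2805 [0] 0 [])))) (.node (.node (.leaf (.up 27 677 [1] 0 [])) (.leaf (.up 26 2252 [0] 0 []))) (.node (.leaf (.up 29 1064 [1] 0 [])) (.leaf (.up 33 3706 [0] 0 []))))) (.node (.node (.node (.leaf (.up 17 365 [1] 0 [])) (.leaf (.up 26 1695 [1] 0 []))) (.node (.leaf (.up 25 1588 [1] 0 [])) (.leaf (.up 33 3121 [0] 0 [])))) (.node (.node (.leaf (.up 21 516 [1] 0 [])) (.leaf (.up 29 3147 [0] 0 [])))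 (.leaf (.up 25 1588 [0] 0 []))))) (.node (.node (.node (.node (.leaf (.up 13 99 [1] 0 [])) (.leaf (.up 32 2551 [1] 0 []))) (.node (.leaf (.up 29 792 [1] 0 [])) (.leaf (.up 32 3439 [1] 0 [])))) (.node (.node (.leaf (.up 22 734 [0] 0 [87,110,89,233])) (.leaf (.up 29 2776 [1] 0 [94,176,178]))) (.node (.leaf (.up 25 2006 [1] 0 [])) (.leaf (.up 34 3672 [0] 0 []))))) (.node (.node (.node (.leaf (.up 21 331 [0] 0 [])) (.leaf (.up 33 2805 [1] 0 []))) (.node (.leaf (.up 23 1721 [0] 0 [])) (.leaf (.up 32 3301 [0] 0 [])))) (.node (.node (.leaf (.up 22 753 [0] 0 [])) (.leaf (.up 32 3251 [1] 0 []))) (.leaf (.up 31 2281 [0] 0 [])))))) (.node (.node (.node (.node (.node (.leaf (.up 15 123 [1] 0 [])) (.leaf (.up 24 1897 [0] 0 []))) (.node (.leaf (.up 24 745 [1] 0 [])) (.leaf (.up 32 2530 [1] 0 [])))) (.node (.node (.leaf (.up 17 755 [1] 0 [])) (.leaf (.up 30 2986 [1] 0 []))) (.node (.leaf (.up 27 1112 [1] 0 [])) (.leaf (.up 34 3750 [1] 0 []))))) (.node (.node (.node (.leaf (.up 19 218 [1] 0 [])) (.leaf (.up 27 2063 [0] 0 []))) (.node (.leaf (.up 23 928 [1] 0 [])) (.leaf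 (.up 33 3209 [0] 0 [])))) (.node (.node (.leaf (.up 24 698 [0] 0 [])) (.leaf (.up 26 2581 [0] 0 []))) (.leaf (.up 28 2211 [1] 0 []))))) (.node (.node (.node (.node (.leaf (.up 18 287 [1] 0 [])) (.leaf (.up 28 1943 [0] 0 []))) (.node (.leaf (.up 28 842 [1] 0 [])) (.leaf (.up 30 3265 [0] 0 [91,237])))) (.node (.node (.leaf (.up 26 907 [1] 0 [])) (.leaf (.up 34 3089 [0] 0 []))) (.leaf (.up 31 2069 [1] 0 [])))) (.node (.node (.node (.leaf (.up 17 422 [1] 0 [88,94,89,115])) (.leaf (.up 30 2865 [0] 0 []))) (.node (.leaf (.up 30 1791 [1] 0 [])) (.leaf (.up 35 3176 [1] 0 [])))) (.node (.node (.leaf (.up 25 648 [1] 0 [])) (.leaf (.up 25 2725 [0] 0 []))) (.leaf (.up 26 1708 [0] 0 [])))))))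

noncomputable def trio0_00001 : Tr TStep :=
  .node (.node (.node (.node (.node (.node (.node (.leaf (.up 7 23 [1] 0 [])) (.leaf (.up 26 2402 [1] 0 []))) (.node (.leaf (.up 28 1262 [0] 0 [])) (.leaf (.up 30 3338 [1] 0 [])))) (.node (.node (.leaf (.up 18 335 [1] 0 [])) (.leaf (.up 26 2236 [0] 0 []))) (.node (.leaf (.up 29 1052 [1] 0 [])) (.leaf (.up 35 3259 [1] 0 []))))) (.node (.node (.node (.leaf (.up 23 344 [0] 0 [])) (.leaf (.up 30 2661 [1] 0 []))) (.node (.leaf (.up 24 1573 [0] 0 [])) (.leaf (.up 33 3511 [1] 0 [])))) (.node (.node (.leaf (.up 21 630 [0] 0 [])) (.leaf (.up 32 3132 [1] 0 []))) (.leaf (.up 26 1410 [1] 0 [87,110,90,35]))))) (.node (.node (.node (.node (.leaf (.up 15 115 [0] 0 [])) (.leaf (.up 26 2246 [0] 0 [57,193]))) (.node (.leaf (.up 24 1418 [1] 0 [])) (.leaf (.up 32 3430 [0] 0 [])))) (.node (.node (.leaf (.up 22 817 [1] 0 [])) (.leaf (.up 30 3023 [1] 0 []))) (.node (.leaf (.up 23 1703 [0] 0 [87,110,123,4])) (.leaf (.up 32 3570 [1] 0 [57,43,9]))))) (.node (.node (.node (.leaf (.up 21 317 [0] 0 [])) (.leaf (.up 30 1792 [1] 0 [])))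 (.node (.leaf (.up 23 962 [1] 0 [])) (.leaf (.up 31 3594 [1] 0 [87,110,104,232])))) (.node (.node (.leaf (.up 22 741 [0] 0 [])) (.leaf (.up 29 2788 [1] 0 [110,104,238]))) (.leaf (.up 28 1633 [0] 0 [])))))) (.node (.node (.node (.node (.node (.leaf (.up 20 103 [1] 0 [])) (.leaf (.up 29 2470 [1] 0 []))) (.node (.leaf (.up 26 905 [0] 0 [])) (.leaf (.up 29 2853 [0] 0 [])))) (.node (.node (.leaf (.up 22 377 [1] 0 [])) (.leaf (.up 34 2969 [1] 0 []))) (.node (.leaf (.up 27 1922 [1] 0 [])) (.leaf (.up 30 3578 [0] 0 [88,93,90,127]))))) (.node (.node (.node (.leaf (.up 15 423 [1] 0 [])) (.leaf (.up 25 1740 [1] 0 []))) (.node (.leaf (.up 25 1121 [0] 0 [])) (.leaf (.up 30 3189 [0] 0 [])))) (.node (.node (.leaf (.up 27 682 [0] 0 [])) (.leaf (.up 27 2562 [0] 0 []))) (.leaf (.up 25 2190 [0] 0 []))))) (.node (.node (.node (.node (.leaf (.up 14 163 [0] 0 [])) (.leaf (.up 27 1928 [0] 0 []))) (.node (.leaf (.up 30 1016 [0] 0 [])) (.leaf (.up 28 3476 [1] 0 [])))) (.node (.node (.leaf (.up 20 578 [0] 0 [])) (.leaf (.up 29 2548 [0] 0 [87,94,104,161]))) (.node (.leaf (.up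 26 1348 [1] 0 [94,162])) (.leaf (.up 39 3793 [1] 0 []))))) (.node (.node (.node (.leaf (.up 23 291 [1] 0 [])) (.leaf (.up 29 2847 [0] 0 []))) (.node (.leaf (.up 29 1229 [0] 0 [])) (.leaf (.up 29 3623 [1] 0 [57,43,15])))) (.node (.node (.leaf (.up 25 638 [1] 0 [])) (.leaf (.up 33 3058 [0] 0 [57,56,103,207]))) (.leaf (.up 29 1816 [0] 0 [57,110,116,171]))))))) (.node (.node (.node (.node (.node (.node (.leaf (.up 10 39 [0] 0 [])) (.leaf (.up 24 1966 [1] 0 [57,110,116,129]))) (.node (.leaf (.up 21 708 [1] 0 [])) (.leaf (.up 34 2821 [0] 0 [])))) (.node (.node (.leaf (.up 24 697 [1] 0 [])) (.leaf (.up 26 2357 [1] 0 [57,93,91,215]))) (.node (.leaf (.up 26 1432 [1] 0 [55,103,208])) (.leaf (.up 33 3601 [1] 0 [56,123,130]))))) (.node (.node (.node (.leaf (.up 17 240 [0] 0 [])) (.leaf (.up 27 2021 [0] 0 []))) (.node (.leaf (.up 26 894 [1] 0 [])) (.leaf (.up 32 3173 [1] 0 [103,0])))) (.node (.node (.leaf (.up 23 656 [0] 0 [])) (.leaf (.up 25 2197 [1] 0 [57,94,123,143]))) (.leaf (.up 27 1546 [0] 0 []))))) (.node (.node (.node (.node (.leaf (.up 14 108 [1] 0 []))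 (.leaf (.up 22 1598 [1] 0 []))) (.node (.leaf (.up 26 984 [0] 0 [])) (.leaf (.up 33 2644 [1] 0 [])))) (.node (.node (.leaf (.up 26 855 [1] 0 [])) (.leaf (.up 26 2394 [0] 0 []))) (.node (.leaf (.up 27 2021 [1] 0 [])) (.leaf (.up 34 3699 [0] 0 []))))) (.node (.node (.node (.leaf (.up 21 541 [0] 0 [])) (.leaf (.up 30 2138 [0] 0 []))) (.node (.leaf (.up 23 985 [1] 0 [])) (.leaf (.up 32 3335 [0] 0 [])))) (.node (.node (.leaf (.up 25 1151 [1] 0 [])) (.leaf (.up 30 2663 [0] 0 []))) (.leaf (.up 21 1471 [1] 0 [87,56,123,233])))))) (.node (.node (.node (.node (.node (.leaf (.up 14 141 [1] 0 [])) (.leaf (.up 25 1548 [1] 0 []))) (.node (.leaf (.up 29 932 [0] 0 [])) (.leaf (.up 29 2561 [1] 0 [])))) (.node (.node (.leaf (.up 23 775 [1] 0 [])) (.leaf (.up 29 3001 [0] 0 []))) (.node (.leaf (.up 27 1954 [0] 0 [])) (.leaf (.up 33 3488 [1] 0 [57,93,123,226]))))) (.node (.node (.node (.leaf (.up 16 462 [1] 0 [])) (.leaf (.up 29 2076 [0] 0 []))) (.node (.leaf (.up 28 938 [1] 0 [])) (.leaf (.up 31 3586 [0] 0 [])))) (.node (.node (.leaf (.up 27 1077 [1] 0 [])) (.leaf (.up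 28 2598 [0] 0 []))) (.leaf (.up 23 1322 [1] 0 []))))) (.node (.node (.node (.node (.leaf (.up 16 146 [1] 0 [])) (.leaf (.up 27 1958 [0] 0 []))) (.node (.leaf (.up 28 1533 [1] 0 [])) (.leaf (.up 27 2912 [1] 0 [87,93,176,65])))) (.node (.node (.leaf (.up 21 485 [1] 0 [])) (.leaf (.up 32 2462 [0] 0 []))) (.leaf (.up 31 1490 [0] 0 [])))) (.node (.node (.node (.leaf (.up 23 618 [1] 0 [])) (.leaf (.up 26 2882 [1] 0 []))) (.node (.leaf (.up 29 1626 [1] 0 [88,104,141])) (.leaf (.up 35 3416 [0] 0 [])))) (.node (.node (.leaf (.up 28 827 [0] 0 [])) (.leaf (.up 29 2954 [0] 0 [55,176,206]))) (.leaf (.up 31 2366 [1] 0 [])))))))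

noncomputable def trio0_0000 : Tr TStep := .node trio0_00000 trio0_00001

noncomputable def trio0_00010 : Tr TStep :=
  .node (.node (.node (.node (.node (.node (.node (.leaf (.up 4 12 [1] 0 [])) (.leaf (.up 26 1679 [1] 0 [88,90,235]))) (.node (.leaf (.up 28 1252 [1] 0 [])) (.leaf (.up 30 3332 [1] 0 [])))) (.node (.node (.leaf (.up 18 647 [1] 0 [])) (.leaf (.up 28 2227 [0] 0 []))) (.node (.leaf (.up 29 1272 [0] 0 [])) (.leaf (.up 36 3568 [1] 0 [88,103,216]))))) (.node (.node (.node (.leaf (.up 16 334 [1] 0 [])) (.leaf (.up 30 1671 [1] 0 []))) (.node (.leaf (.up 22 1565 [1] 0 [])) (.leaf (.up 31 2780 [1] 0 [])))) (.node (.node (.leaf (.up 21 955 [1] 0 [])) (.leaf (.up 30 2488 [0] 0 []))) (.leaf (.up 33 1512 [0] 0 []))))) (.node (.node (.node (.node (.leaf (.up 15 174 [1] 0 [])) (.leaf (.up 32 2525 [1] 0 []))) (.node (.leaf (.up 26 952 [0] 0 [])) (.leaf (.up 32 2589 [1] 0 [])))) (.node (.node (.leaf (.up 24 521 [0] 0 [])) (.leaf (.up 29 2934 [0] 0 [87,93,176,179]))) (.node (.leaf (.up 29 1392 [0] 0 [])) (.leaf (.up 35 3701 [1] 0 [155,235]))))) (.node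 (.node (.node (.leaf (.up 24 244 [1] 0 [])) (.leaf (.up 29 1786 [1] 0 []))) (.node (.leaf (.up 25 1167 [0] 0 [])) (.leaf (.up 36 3600 [1] 0 [])))) (.node (.node (.leaf (.up 21 998 [0] 0 [57,110,160])) (.leaf (.up 28 2625 [0] 0 []))) (.leaf (.up 26 1341 [1] 0 [])))))) (.node (.node (.node (.node (.node (.leaf (.up 11 92 [1] 0 [])) (.leaf (.up 29 1806 [0] 0 []))) (.node (.leaf (.up 26 897 [0] 0 [])) (.leaf (.up 31 2664 [1] 0 [87,56,155,240])))) (.node (.node (.leaf (.up 22 728 [1] 0 [])) (.leaf (.up 29 2961 [1] 0 []))) (.node (.leaf (.up 29 1913 [1] 0 [])) (.leaf (.up 35 3733 [0] 0 []))))) (.node (.node (.node (.leaf (.up 17 260 [0] 0 [])) (.leaf (.up 30 2715 [1] 0 []))) (.node (.leaf (.up 23 912 [1] 0 [])) (.leaf (.up 33 2885 [1] 0 [])))) (.node (.node (.leaf (.up 25 1026 [1] 0 [])) (.leaf (.up 30 2210 [1] 0 []))) (.leaf (.up 25 1566 [0] 0 []))))) (.node (.node (.node (.node (.leaf (.up 17 255 [1] 0 [])) (.leaf (.up 30 1614 [1] 0 []))) (.node (.leaf (.up 33 1482 [1] 0 [])) (.leaf (.up 31 2674 [1] 0 [])))) (.node (.node (.leaf (.up 23 456 [1] 0 [])) (.leaf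 (.up 30 2483 [0] 0 [94,176,233]))) (.node (.leaf (.up 29 1450 [0] 0 [])) (.leaf (.up 33 3779 [0] 0 [88,93,44,119]))))) (.node (.node (.node (.leaf (.up 22 362 [0] 0 [])) (.leaf (.up 31 2163 [0] 0 []))) (.node (.leaf (.up 29 1008 [1] 0 [])) (.leaf (.up 34 3645 [1] 0 [])))) (.node (.node (.leaf (.up 20 633 [1] 0 [])) (.leaf (.up 23 2356 [1] 0 []))) (.leaf (.up 28 1682 [0] 0 []))))))) (.node (.node (.node (.node (.node (.node (.leaf (.up 9 50 [1] 0 [])) (.leaf (.up 30 1488 [1] 0 []))) (.node (.leaf (.up 28 871 [0] 0 [])) (.leaf (.up 29 2568 [1] 0 [87,93,138])))) (.node (.node (.leaf (.up 24 441 [0] 0 [])) (.leaf (.up 31 2260 [0] 0 []))) (.node (.leaf (.up 26 1300 [0] 0 [])) (.leaf (.up 31 3711 [1] 0 []))))) (.node (.node (.node (.leaf (.up 20 181 [1] 0 [])) (.leaf (.up 30 2014 [0] 0 []))) (.node (.leaf (.up 20 889 [1] 0 [])) (.leaf (.up 32 3132 [0] 0 [])))) (.node (.node (.leaf (.up 23 649 [0] 0 [])) (.leaf (.up 26 2520 [0] 0 []))) (.leaf (.up 31 2148 [1] 0 []))))) (.node (.node (.node (.node (.leaf (.up 19 132 [0] 0 [])) (.leaf (.up 29 1892 [0] 0 [])))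 (.node (.leaf (.up 29 1447 [1] 0 [])) (.leaf (.up 24 2964 [0] 0 [])))) (.node (.node (.leaf (.up 23 583 [0] 0 [93,116,69])) (.leaf (.up 31 2388 [0] 0 []))) (.node (.leaf (.up 25 1931 [0] 0 [88,110,104,152])) (.leaf (.up 35 3687 [0] 0 []))))) (.node (.node (.node (.leaf (.up 25 531 [1] 0 [])) (.leaf (.up 30 2813 [1] 0 []))) (.node (.leaf (.up 28 1733 [1] 0 [])) (.leaf (.up 32 3319 [0] 0 [])))) (.node (.node (.leaf (.up 28 1141 [0] 0 [])) (.leaf (.up 32 3258 [0] 0 []))) (.leaf (.up 26 1372 [1] 0 [])))))) (.node (.node (.node (.node (.node (.leaf (.up 19 132 [1] 0 [])) (.leaf (.up 30 2489 [1] 0 []))) (.node (.leaf (.up 21 925 [0] 0 [])) (.leaf (.up 34 2884 [0] 0 [])))) (.node (.node (.leaf (.up 24 764 [1] 0 [])) (.leaf (.up 30 2323 [0] 0 []))) (.node (.leaf (.up 23 1118 [1] 0 [])) (.leaf (.up 31 3589 [0] 0 []))))) (.node (.node (.node (.leaf (.up 18 285 [0] 0 [])) (.leaf (.up 31 2749 [1] 0 []))) (.node (.leaf (.up 30 1183 [1] 0 [87,55,116,98])) (.leaf (.up 30 3571 [0] 0 [87,93,44,186])))) (.node (.node (.leaf (.up 24 705 [0] 0 [])) (.leaf (.up 29 3108 [1]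 0 [87,56,103,185]))) (.leaf (.up 25 1596 [0] 0 []))))) (.node (.node (.node (.node (.leaf (.up 21 296 [1] 0 [])) (.leaf (.up 25 1644 [1] 0 []))) (.node (.leaf (.up 26 1523 [1] 0 [])) (.leaf (.up 32 3261 [0] 0 [88,110,104,16])))) (.node (.node (.leaf (.up 22 916 [1] 0 [])) (.leaf (.up 33 2139 [1] 0 [57,56,44,12]))) (.leaf (.up 28 2080 [1] 0 [])))) (.node (.node (.node (.leaf (.up 15 390 [0] 0 [])) (.leaf (.up 26 1874 [1] 0 []))) (.node (.leaf (.up 32 1801 [1] 0 [])) (.leaf (.up 29 3406 [0] 0 [])))) (.node (.node (.leaf (.up 22 819 [0] 0 [])) (.leaf (.up 28 2395 [1] 0 []))) (.leaf (.up 23 1717 [0] 0 [])))))))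

noncomputable def trio0_00011 : Tr TStep :=
  .node (.node (.node (.node (.node (.node (.node (.leaf (.up 6 32 [1] 0 [])) (.leaf (.up 29 2412 [0] 0 []))) (.node (.leaf (.up 26 857 [0] 0 [])) (.leaf (.up 30 2905 [1] 0 [55,91,65])))) (.node (.node (.leaf (.up 27 339 [1] 0 [])) (.leaf (.up 29 2915 [1] 0 []))) (.node (.leaf (.up 24 1057 [1] 0 [])) (.leaf (.up 33 3470 [1] 0 [93,155,200]))))) (.node (.node (.node (.leaf (.up 19 220 [0] 0 [])) (.leaf (.up 27 1996 [0] 0 []))) (.node (.leaf (.up 20 879 [1] 0 [])) (.leaf (.up 28 3146 [0] 0 [88,42,183])))) (.node (.node (.leaf (.up 28 636 [0] 0 [])) (.leaf (.up 30 3136 [0] 0 []))) (.leaf (.up 28 2131 [1] 0 []))))) (.node (.node (.node (.node (.leaf (.up 16 194 [0] 0 [])) (.leaf (.up 27 2503 [0] 0 [93,116,183]))) (.node (.leaf (.up 22 966 [0] 0 [])) (.leaf (.up 30 2944 [0] 0 [])))) (.node (.node (.leaf (.up 28 534 [0] 0 [])) (.leaf (.up 32 2716 [0] 0 [87,43,137]))) (.node (.leaf (.up 32 1832 [0] 0 [87,96])) (.leaf (.up 31 3711 [0] 0 [55,42,180]))))) (.node (.node (.node (.leaf (.up 16 323 [0] 0 [])) (.leaf (.up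 29 2549 [1] 0 [155,243]))) (.node (.leaf (.up 25 1180 [0] 0 [])) (.leaf (.up 34 3608 [1] 0 [])))) (.node (.node (.leaf (.up 20 600 [1] 0 [])) (.leaf (.up 34 3243 [0] 0 []))) (.leaf (.up 27 1852 [1] 0 [57,43,235])))))) (.node (.node (.node (.node (.node (.leaf (.up 12 69 [0] 0 [])) (.leaf (.up 30 2478 [1] 0 []))) (.node (.leaf (.up 26 911 [0] 0 [])) (.leaf (.up 33 3376 [1] 0 [87,93,91,69])))) (.node (.node (.leaf (.up 19 481 [0] 0 [])) (.leaf (.up 31 1977 [1] 0 []))) (.node (.leaf (.up 29 1930 [1] 0 [])) (.leaf (.up 33 3640 [1] 0 [104,154]))))) (.node (.node (.node (.leaf (.up 22 432 [1] 0 [])) (.leaf (.up 27 2054 [0] 0 []))) (.node (.leaf (.up 25 1127 [0] 0 [])) (.leaf (.up 34 3569 [1] 0 [])))) (.node (.node (.leaf (.up 25 1047 [1] 0 [])) (.leaf (.up 25 2228 [1] 0 []))) (.leaf (.up 25 1580 [0] 0 []))))) (.node (.node (.node (.node (.leaf (.up 21 275 [1] 0 [])) (.leaf (.up 27 1949 [0] 0 [57,56,42,100]))) (.node (.leaf (.up 27 1503 [1] 0 [])) (.leaf (.up 31 3218 [1] 0 [57,56,176,242])))) (.node (.node (.leaf (.up 21 466 [1] 0 [])) (.leaf (.up 28 2380 [1]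 0 [87,31]))) (.leaf (.up 27 2060 [1] 0 [])))) (.node (.node (.node (.leaf (.up 23 592 [1] 0 [])) (.leaf (.up 25 1860 [1] 0 []))) (.node (.leaf (.up 30 1784 [1] 0 [])) (.leaf (.up 34 3659 [1] 0 [])))) (.node (.node (.leaf (.up 25 826 [1] 0 [87,93,116,9])) (.leaf (.up 30 2719 [0] 0 [88,94,155,127]))) (.leaf (.up 26 1415 [1] 0 []))))))) (.node (.node (.node (.node (.node (.node (.leaf (.up 12 71 [1] 0 [])) (.leaf (.up 28 2445 [1] 0 []))) (.node (.leaf (.up 26 1311 [1] 0 [])) (.leaf (.up 29 2828 [0] 0 [])))) (.node (.node (.leaf (.up 21 454 [0] 0 [])) (.leaf (.up 31 2276 [0] 0 []))) (.node (.leaf (.up 24 1083 [1] 0 [])) (.leaf (.up 32 3564 [1] 0 [57,55,42,171]))))) (.node (.node (.node (.leaf (.up 20 191 [1] 0 [])) (.leaf (.up 29 2028 [0] 0 []))) (.node (.leaf (.up 25 1101 [0] 0 [])) (.leaf (.up 30 2857 [1] 0 [])))) (.node (.node (.leaf (.up 27 1006 [1] 0 [])) (.leaf (.up 30 2289 [1] 0 [55,44,156]))) (.leaf (.up 30 2165 [1] 0 []))))) (.node (.node (.node (.node (.leaf (.up 17 237 [1] 0 [])) (.leaf (.up 26 1907 [0] 0 []))) (.node (.leaf (.up 24 808 [1] 0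 [])) (.leaf (.up 32 2652 [1] 0 [])))) (.node (.node (.leaf (.up 25 560 [0] 0 [])) (.leaf (.up 30 3056 [1] 0 []))) (.node (.leaf (.up 29 2028 [1] 0 [])) (.leaf (.up 33 3661 [1] 0 [88,56,91,111]))))) (.node (.node (.node (.leaf (.up 23 276 [1] 0 [])) (.leaf (.up 29 1834 [1] 0 []))) (.node (.leaf (.up 26 1404 [1] 0 [110,140,219])) (.leaf (.up 30 3561 [1] 0 [88,104,240])))) (.node (.node (.leaf (.up 25 1161 [1] 0 [])) (.leaf (.up 30 3271 [1] 0 []))) (.leaf (.up 27 1820 [0] 0 [87,55,154])))))) (.node (.node (.node (.node (.node (.leaf (.up 16 95 [0] 0 [])) (.leaf (.up 30 1554 [1] 0 []))) (.node (.leaf (.up 29 1392 [1] 0 [])) (.leaf (.up 31 3411 [1] 0 [])))) (.node (.node (.leaf (.up 18 788 [1] 0 [])) (.leaf (.up 29 3005 [1] 0 []))) (.node (.leaf (.up 24 1377 [0] 0 [])) (.leaf (.up 29 3489 [1] 0 []))))) (.node (.node (.node (.leaf (.up 21 296 [0] 0 [])) (.leaf (.up 34 2765 [1] 0 []))) (.node (.leaf (.up 23 945 [1] 0 [])) (.leaf (.up 37 3592 [1] 0 [])))) (.node (.node (.leaf (.up 22 1086 [1] 0 [])) (.leaf (.up 27 2604 [1] 0 [87,56,176,198]))) (.leaf (.up 29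 2238 [1] 0 []))))) (.node (.node (.node (.node (.leaf (.up 18 195 [0] 0 [])) (.leaf (.up 25 2096 [1] 0 [93,89,222]))) (.node (.leaf (.up 28 1545 [1] 0 [])) (.leaf (.up 32 3331 [1] 0 [87,110,89,177])))) (.node (.node (.leaf (.up 28 612 [0] 0 [])) (.leaf (.up 32 3107 [1] 0 []))) (.leaf (.up 29 2033 [1] 0 [87,110,43,247])))) (.node (.node (.node (.leaf (.up 20 403 [0] 0 [])) (.leaf (.up 31 2886 [0] 0 []))) (.node (.leaf (.up 28 1737 [0] 0 [88,55,103,75])) (.leaf (.up 35 3207 [1] 0 [])))) (.node (.node (.leaf (.up 29 667 [1] 0 [])) (.leaf (.up 28 3315 [1] 0 []))) (.leaf (.up 30 2373 [0] 0 [])))))))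

noncomputable def trio0_0001 : Tr TStep := .node trio0_00010 trio0_00011

noncomputable def trio0_000 : Tr TStep := .node trio0_0000 trio0_0001

noncomputable def trio0_00100 : Tr TStep :=
  .node (.node (.node (.node (.node (.node (.node (.leaf (.up 5 7 [1] 0 [])) (.leaf (.up 27 1744 [0] 0 []))) (.node (.leaf (.up 29 676 [1] 0 [])) (.leaf (.up 29 3327 [0] 0 [])))) (.node (.node (.leaf (.up 20 413 [0] 0 [])) (.leaf (.up 26 1898 [1] 0 []))) (.node (.leaf (.up 27 1045 [1] 0 [])) (.leaf (.up 35 3687 [1] 0 []))))) (.node (.node (.node (.leaf (.up 16 159 [1] 0 [])) (.leaf (.up 29 2647 [0] 0 []))) (.node (.leaf (.up 25 1560 [1] 0 [])) (.leaf (.up 29 2774 [1] 0 [])))) (.node (.node (.leaf (.up 21 499 [1] 0 [])) (.leaf (.up 33 3101 [0] 0 []))) (.leaf (.up 27 1356 [1] 0 [87,94,44,72]))))) (.node (.node (.node (.node (.leaf (.up 18 81 [1] 0 [])) (.leaf (.up 26 1862 [0] 0 []))) (.node (.leaf (.up 26 948 [0] 0 [])) (.leaf (.up 34 3421 [1] 0 [])))) (.node (.node (.leaf (.up 22 803 [1] 0 [])) (.leaf (.up 24 3016 [1] 0 []))) (.node (.leaf (.up 25 1705 [1] 0 [87,110,155,234]))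 (.leaf (.up 34 3628 [0] 0 []))))) (.node (.node (.node (.leaf (.up 19 486 [1] 0 [])) (.leaf (.up 28 2097 [0] 0 []))) (.node (.leaf (.up 24 953 [1] 0 [])) (.leaf (.up 30 3597 [0] 0 [])))) (.node (.node (.leaf (.up 25 585 [1] 0 [])) (.leaf (.up 29 2943 [1] 0 [87,55,43,218]))) (.leaf (.up 26 2252 [1] 0 [])))))) (.node (.node (.node (.node (.node (.leaf (.up 13 55 [0] 0 [])) (.leaf (.up 29 2459 [1] 0 []))) (.node (.leaf (.up 28 1326 [1] 0 [])) (.leaf (.up 32 2727 [1] 0 [55,183])))) (.node (.node (.leaf (.up 23 723 [0] 0 [])) (.leaf (.up 31 2290 [0] 0 []))) (.node (.leaf (.up 28 1909 [1] 0 [])) (.leaf (.up 30 3536 [0] 0 []))))) (.node (.node (.node (.leaf (.up 22 257 [0] 0 [])) (.leaf (.up 32 2039 [0] 0 []))) (.node (.leaf (.up 25 1111 [0] 0 [])) (.leaf (.up 31 2875 [1] 0 [])))) (.node (.node (.leaf (.up 27 671 [0] 0 [])) (.leaf (.up 33 2203 [1] 0 []))) (.leaf (.up 24 1562 [0] 0 []))))) (.node (.node (.node (.node (.leaf (.up 17 249 [1] 0 [])) (.leaf (.up 27 1917 [0] 0 []))) (.node (.leaf (.up 28 823 [1] 0 [])) (.leaf (.up 31 3004 [1] 0 [94,140,143])))) (.node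 (.node (.leaf (.up 20 569 [0] 0 [])) (.leaf (.up 32 2074 [1] 0 []))) (.node (.leaf (.up 27 1237 [1] 0 [87,93,176,125])) (.leaf (.up 35 3763 [1] 0 [88,93,123,172]))))) (.node (.node (.node (.leaf (.up 20 283 [1] 0 [])) (.leaf (.up 26 2160 [0] 0 []))) (.node (.leaf (.up 29 1761 [1] 0 [])) (.leaf (.up 32 3363 [0] 0 [])))) (.node (.node (.leaf (.up 22 786 [0] 0 [])) (.leaf (.up 27 2682 [1] 0 [87,110,155,136]))) (.leaf (.up 28 1677 [0] 0 []))))))) (.node (.node (.node (.node (.node (.node (.leaf (.up 9 20 [1] 0 [])) (.leaf (.up 34 1485 [1] 0 []))) (.node (.leaf (.up 23 868 [0] 0 [])) (.leaf (.up 28 2873 [1] 0 [93,91,95])))) (.node (.node (.leaf (.up 24 438 [0] 0 [])) (.leaf (.up 29 1927 [1] 0 []))) (.node (.leaf (.up 26 1872 [1] 0 [])) (.leaf (.up 34 3631 [1] 0 [87,240]))))) (.node (.node (.node (.leaf (.up 20 178 [1] 0 [])) (.leaf (.up 24 1951 [1] 0 [94,116,151]))) (.node (.leaf (.up 22 1084 [0] 0 [])) (.leaf (.up 31 2825 [1] 0 [])))) (.node (.node (.leaf (.up 21 987 [1] 0 [])) (.leaf (.up 30 2172 [1] 0 []))) (.leaf (.up 25 2144 [1] 0 []))))) (.node (.node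 (.node (.node (.leaf (.up 24 129 [0] 0 [])) (.leaf (.up 28 2179 [1] 0 [104,173]))) (.node (.leaf (.up 29 1442 [1] 0 [])) (.leaf (.up 32 3443 [1] 0 [])))) (.node (.node (.leaf (.up 28 544 [0] 0 [])) (.leaf (.up 26 2385 [0] 0 []))) (.node (.leaf (.up 26 2009 [0] 0 [])) (.leaf (.up 35 3580 [1] 0 []))))) (.node (.node (.node (.leaf (.up 16 334 [0] 0 [])) (.leaf (.up 32 1812 [1] 0 []))) (.node (.leaf (.up 28 1728 [1] 0 [])) (.leaf (.up 35 3617 [1] 0 [])))) (.node (.node (.leaf (.up 28 609 [1] 0 [])) (.leaf (.up 30 2739 [0] 0 [90,77]))) (.leaf (.up 26 2287 [1] 0 [])))))) (.node (.node (.node (.node (.node (.leaf (.up 12 79 [0] 0 [])) (.leaf (.up 30 2486 [0] 0 []))) (.node (.leaf (.up 26 921 [0] 0 [])) (.leaf (.up 29 3039 [0] 0 [87,94,42,18])))) (.node (.node (.leaf (.up 27 761 [1] 0 [])) (.leaf (.up 29 2441 [1] 0 [88,56,42,5]))) (.node (.leaf (.up 27 1941 [1] 0 [])) (.leaf (.up 32 3478 [1] 0 [87,55,140,10]))))) (.node (.node (.node (.leaf (.up 21 449 [1] 0 [])) (.leaf (.up 24 1757 [1] 0 []))) (.node (.leaf (.up 24 1564 [1] 0 [88,44,100])) (.leaf (.up 33 2929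 [1] 0 [])))) (.node (.node (.leaf (.up 22 563 [1] 0 [])) (.leaf (.up 35 3202 [1] 0 []))) (.leaf (.up 28 2217 [1] 0 []))))) (.node (.node (.node (.node (.leaf (.up 21 292 [1] 0 [])) (.leaf (.up 30 2617 [1] 0 []))) (.node (.leaf (.up 27 1519 [1] 0 [])) (.leaf (.up 27 3175 [1] 0 [88,93,42,74])))) (.node (.node (.leaf (.up 23 594 [0] 0 [])) (.leaf (.up 28 2881 [1] 0 [87,140,0]))) (.leaf (.up 30 2075 [1] 0 [])))) (.node (.node (.node (.leaf (.up 18 604 [1] 0 [])) (.leaf (.up 29 2870 [1] 0 []))) (.node (.leaf (.up 26 1311 [0] 0 [])) (.leaf (.up 33 3180 [1] 0 [])))) (.node (.node (.leaf (.up 20 652 [1] 0 [])) (.leaf (.up 29 2732 [0] 0 []))) (.leaf (.up 22 1711 [0] 0 [])))))))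

noncomputable def trio0_00101 : Tr TStep :=
  .node (.node (.node (.node (.node (.node (.node (.leaf (.up 8 15 [0] 0 [])) (.leaf (.up 32 1760 [0] 0 []))) (.node (.leaf (.up 29 1268 [1] 0 [])) (.leaf (.up 32 3342 [0] 0 [])))) (.node (.node (.leaf (.up 29 425 [0] 0 [])) (.leaf (.up 26 2911 [1] 0 []))) (.node (.leaf (.up 29 1854 [1] 0 [])) (.leaf (.up 35 3474 [0] 0 []))))) (.node (.node (.node (.leaf (.up 22 217 [0] 0 [])) (.leaf (.up 27 1993 [0] 0 []))) (.node (.leaf (.up 25 1577 [1] 0 [])) (.leaf (.up 29 3110 [1] 0 [55,42,188])))) (.node (.node (.leaf (.up 17 821 [0] 0 [87,116,230])) (.leaf (.up 28 2159 [1] 0 []))) (.leaf (.up 31 1521 [0] 0 []))))) (.node (.node (.node (.node (.leaf (.up 13 189 [1] 0 [])) (.leaf (.up 27 2540 [1] 0 []))) (.node (.leaf (.up 24 782 [1] 0 [])) (.leaf (.up 31 3350 [0] 0 [57,55,90,201])))) (.node (.node (.leaf (.up 23 822 [1] 0 [])) (.leaf (.up 33 2371 [0] 0 []))) (.node (.leaf (.up 27 1996 [1] 0 [])) (.leaf (.up 31 3655 [0] 0 []))))) (.node (.node (.node (.leaf (.up 21 320 [0] 0 [])) (.leaf (.up 29 1883 [1] 0 [88,93,104,216])))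 (.node (.leaf (.up 21 1177 [0] 0 [])) (.leaf (.up 27 3402 [1] 0 [87,140,216])))) (.node (.node (.leaf (.up 21 597 [1] 0 [])) (.leaf (.up 23 2298 [1] 0 []))) (.leaf (.up 28 1636 [0] 0 [])))))) (.node (.node (.node (.node (.node (.leaf (.up 14 66 [0] 0 [])) (.leaf (.up 30 1525 [1] 0 []))) (.node (.leaf (.up 26 908 [0] 0 [])) (.leaf (.up 31 3384 [1] 0 [])))) (.node (.node (.leaf (.up 22 743 [1] 0 [])) (.leaf (.up 32 2306 [0] 0 []))) (.node (.leaf (.up 29 1340 [0] 0 [])) (.leaf (.up 34 3556 [0] 0 []))))) (.node (.node (.node (.leaf (.up 24 211 [1] 0 [])) (.leaf (.up 30 2729 [1] 0 []))) (.node (.leaf (.up 23 1645 [1] 0 [])) (.leaf (.up 30 3565 [1] 0 [])))) (.node (.node (.leaf (.up 25 551 [1] 0 [])) (.leaf (.up 27 3187 [0] 0 []))) (.leaf (.up 25 1577 [0] 0 []))))) (.node (.node (.node (.node (.leaf (.up 19 270 [1] 0 [])) (.leaf (.up 30 2601 [1] 0 []))) (.node (.leaf (.up 26 1019 [0] 0 [])) (.leaf (.up 30 2694 [1] 0 [])))) (.node (.node (.leaf (.up 25 463 [1] 0 [])) (.leaf (.up 30 3078 [1] 0 []))) (.leaf (.up 24 1462 [0] 0 [])))) (.node (.node (.node (.leaf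 (.up 20 374 [0] 0 [])) (.leaf (.up 28 2174 [0] 0 []))) (.node (.leaf (.up 27 1015 [1] 0 [])) (.leaf (.up 33 3459 [1] 0 [88,91,221])))) (.node (.node (.leaf (.up 25 1195 [1] 0 [])) (.leaf (.up 30 3252 [1] 0 [87,56,43,241]))) (.leaf (.up 27 2336 [1] 0 []))))))) (.node (.node (.node (.node (.node (.node (.leaf (.up 14 42 [0] 0 [])) (.leaf (.up 30 2440 [1] 0 []))) (.node (.leaf (.up 28 880 [0] 0 [])) (.leaf (.up 32 3363 [1] 0 [])))) (.node (.node (.leaf (.up 21 450 [0] 0 [])) (.leaf (.up 25 1942 [1] 0 []))) (.node (.leaf (.up 24 1081 [1] 0 [])) (.leaf (.up 36 3516 [0] 0 []))))) (.node (.node (.node (.leaf (.up 15 390 [1] 0 [])) (.leaf (.up 22 2025 [0] 0 []))) (.node (.leaf (.up 23 898 [1] 0 [])) (.leaf (.up 31 3485 [1] 0 [88,94,116,27])))) (.node (.node (.leaf (.up 18 659 [0] 0 [])) (.leaf (.up 30 2855 [0] 0 [88,55,44,106]))) (.leaf (.up 26 2160 [1] 0 []))))) (.node (.node (.node (.node (.leaf (.up 17 231 [1] 0 [])) (.leaf (.up 24 1904 [0] 0 []))) (.node (.leaf (.up 24 1461 [1] 0 [])) (.leaf (.up 29 2977 [0] 0 [])))) (.node (.node (.leaf (.up 28 860 [1]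 0 [])) (.leaf (.up 28 3051 [1] 0 []))) (.node (.leaf (.up 22 1181 [1] 0 [])) (.leaf (.up 36 3710 [0] 0 []))))) (.node (.node (.node (.leaf (.up 25 546 [1] 0 [])) (.leaf (.up 28 2611 [1] 0 [57,44,197]))) (.node (.leaf (.up 25 1204 [0] 0 [])) (.leaf (.up 34 3628 [1] 0 [])))) (.node (.node (.leaf (.up 25 1119 [1] 0 [93,116,204])) (.leaf (.up 28 3267 [1] 0 []))) (.leaf (.up 31 2303 [1] 0 [])))))) (.node (.node (.node (.node (.node (.leaf (.up 14 147 [1] 0 [])) (.leaf (.up 32 1551 [1] 0 []))) (.node (.leaf (.up 28 1387 [1] 0 [])) (.leaf (.up 28 3087 [1] 0 [57,99])))) (.node (.node (.leaf (.up 19 505 [0] 0 [])) (.leaf (.up 25 2019 [1] 0 [88,56,42,159]))) (.node (.leaf (.up 27 1960 [1] 0 [])) (.leaf (.up 34 3753 [0] 0 [88,110,123,13]))))) (.node (.node (.node (.leaf (.up 19 229 [1] 0 [])) (.leaf (.up 34 1767 [1] 0 []))) (.node (.leaf (.up 25 1149 [0] 0 [])) (.leaf (.up 28 3238 [0] 0 [])))) (.node (.node (.leaf (.up 24 714 [0] 0 [])) (.leaf (.up 30 2603 [0] 0 []))) (.leaf (.up 29 1604 [0] 0 []))))) (.node (.node (.node (.node (.leaf (.up 23 190 [0] 0 [])) (.leaf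 (.up 30 2631 [1] 0 []))) (.node (.leaf (.up 28 854 [1] 0 [])) (.leaf (.up 33 3065 [0] 0 [])))) (.node (.node (.leaf (.up 26 931 [0] 0 [])) (.leaf (.up 34 3103 [1] 0 []))) (.leaf (.up 31 1232 [1] 0 [])))) (.node (.node (.node (.leaf (.up 18 315 [1] 0 [])) (.leaf (.up 28 1884 [1] 0 []))) (.node (.leaf (.up 29 1816 [1] 0 [])) (.leaf (.up 32 3483 [0] 0 [87,123,119])))) (.node (.node (.leaf (.up 31 1228 [1] 0 [])) (.leaf (.up 28 3312 [0] 0 []))) (.leaf (.up 28 1729 [0] 0 [])))))))

noncomputable def trio0_0010 : Tr TStep := .node trio0_00100 trio0_00101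

noncomputable def trio0_00110 : Tr TStep :=
  .node (.node (.node (.node (.node (.node (.node (.leaf (.up 3 5 [1] 0 [])) (.leaf (.up 26 1466 [1] 0 []))) (.node (.leaf (.up 27 1256 [0] 0 [])) (.leaf (.up 32 3335 [1] 0 [])))) (.node (.node (.leaf (.up 18 332 [1] 0 [])) (.leaf (.up 28 1906 [1] 0 []))) (.node (.leaf (.up 24 1275 [0] 0 [])) (.leaf (.up 35 3458 [0] 0 []))))) (.node (.node (.node (.leaf (.up 25 164 [1] 0 [])) (.leaf (.up 30 1673 [1] 0 []))) (.node (.leaf (.up 27 1066 [0] 0 [])) (.leaf (.up 34 3507 [1] 0 [])))) (.node (.node (.leaf (.up 21 818 [0] 0 [0])) (.leaf (.up 28 2154 [1] 0 []))) (.leaf (.up 30 2118 [1] 0 []))))) (.node (.node (.node (.node (.leaf (.up 15 112 [0] 0 [])) (.leaf (.up 32 2530 [0] 0 []))) (.node (.leaf (.up 22 776 [1] 0 [])) (.leaf (.up 28 2926 [0] 0 [])))) (.node (.node (.leaf (.up 19 524 [0] 0 [])) (.leaf (.up 26 2382 [0] 0 [87,110,43,207]))) (.node (.leaf (.up 29 1395 [0] 0 [])) (.leaf (.up 35 3744 [1] 0 [88,110,176,247]))))) (.node (.node (.node (.leaf (.up 21 313 [0] 0 [])) (.leaf (.up 28 2658 [1] 0 [110,44,156])))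 (.node (.leaf (.up 23 1316 [1] 0 [88,110,116,7])) (.leaf (.up 31 2989 [1] 0 [])))) (.node (.node (.leaf (.up 25 1109 [1] 0 [])) (.leaf (.up 30 2629 [0] 0 []))) (.leaf (.up 28 1627 [0] 0 [])))))) (.node (.node (.node (.node (.node (.leaf (.up 11 48 [1] 0 [])) (.leaf (.up 29 1518 [1] 0 []))) (.node (.leaf (.up 26 900 [0] 0 [])) (.leaf (.up 29 2849 [0] 0 [])))) (.node (.node (.leaf (.up 22 734 [1] 0 [])) (.leaf (.up 34 2299 [0] 0 []))) (.node (.leaf (.up 27 1917 [1] 0 [])) (.leaf (.up 33 3602 [0] 0 [94,123,144]))))) (.node (.node (.node (.leaf (.up 17 263 [0] 0 [])) (.leaf (.up 27 2046 [0] 0 []))) (.node (.leaf (.up 26 1637 [1] 0 [])) (.leaf (.up 30 3184 [0] 0 [])))) (.node (.node (.leaf (.up 25 545 [1] 0 [])) (.leaf (.up 26 2214 [1] 0 []))) (.leaf (.up 27 1569 [0] 0 []))))) (.node (.node (.node (.node (.leaf (.up 17 260 [1] 0 [])) (.leaf (.up 25 1618 [1] 0 []))) (.node (.leaf (.up 30 1486 [0] 0 [])) (.leaf (.up 31 3391 [1] 0 [56,43,151])))) (.node (.node (.leaf (.up 19 754 [1] 0 [88,93,43,195])) (.leaf (.up 32 2082 [1] 0 []))) (.node (.leaf (.up 24 1454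 [0] 0 [])) (.leaf (.up 34 3789 [1] 0 [57,55,140,206]))))) (.node (.node (.node (.leaf (.up 17 365 [0] 0 [])) (.leaf (.up 34 2844 [1] 0 []))) (.node (.leaf (.up 28 1746 [0] 0 [87,56,116,193])) (.leaf (.up 30 3134 [1] 0 [])))) (.node (.node (.leaf (.up 27 793 [0] 0 [])) (.leaf (.up 28 2701 [0] 0 []))) (.leaf (.up 26 1401 [1] 0 []))))))) (.node (.node (.node (.node (.node (.node (.leaf (.up 10 36 [0] 0 [])) (.leaf (.up 29 1901 [0] 0 [87,94,214]))) (.node (.leaf (.up 23 874 [0] 0 [])) (.leaf (.up 32 3357 [1] 0 [])))) (.node (.node (.leaf (.up 22 691 [1] 0 [])) (.leaf (.up 26 2263 [0] 0 []))) (.node (.leaf (.up 24 1573 [1] 0 [57,94,123,22])) (.leaf (.up 33 3341 [1] 0 []))))) (.node (.node (.node (.leaf (.up 17 237 [0] 0 [])) (.leaf (.up 25 2017 [0] 0 []))) (.node (.leaf (.up 24 1091 [0] 0 [])) (.leaf (.up 28 3533 [1] 0 [])))) (.node (.node (.leaf (.up 21 523 [1] 0 [])) (.leaf (.up 29 2950 [0] 0 [88,55,155,189]))) (.leaf (.up 28 1543 [0] 0 []))))) (.node (.node (.node (.node (.leaf (.up 16 135 [0] 0 [])) (.leaf (.up 28 1823 [1] 0 [57,56,176,111]))) (.node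 (.leaf (.up 26 981 [0] 0 [])) (.leaf (.up 32 3451 [1] 0 [])))) (.node (.node (.leaf (.up 28 836 [1] 0 [94,119])) (.leaf (.up 28 2898 [1] 0 [88,103,92]))) (.node (.leaf (.up 25 2017 [1] 0 [])) (.leaf (.up 33 3782 [1] 0 []))))) (.node (.node (.node (.leaf (.up 25 340 [0] 0 [])) (.leaf (.up 26 2815 [1] 0 []))) (.node (.leaf (.up 25 1198 [0] 0 [])) (.leaf (.up 27 3170 [1] 0 [87,56,123,6])))) (.node (.node (.leaf (.up 24 764 [0] 0 [])) (.leaf (.up 30 2659 [0] 0 []))) (.leaf (.up 26 1419 [1] 0 [61])))))) (.node (.node (.node (.node (.node (.leaf (.up 13 86 [0] 0 [])) (.leaf (.up 30 2495 [1] 0 []))) (.node (.leaf (.up 24 1376 [1] 0 [])) (.leaf (.up 32 2889 [0] 0 [])))) (.node (.node (.leaf (.up 22 770 [1] 0 [])) (.leaf (.up 31 2327 [0] 0 []))) (.node (.leaf (.up 24 1364 [0] 0 [])) (.leaf (.up 33 3712 [1] 0 [87,93,155,100]))))) (.node (.node (.node (.leaf (.up 18 288 [0] 0 [])) (.leaf (.up 28 2753 [1] 0 []))) (.node (.leaf (.up 26 1561 [1] 0 [87,94,89,240])) (.leaf (.up 30 3560 [1] 0 [87,90,187])))) (.node (.node (.leaf (.up 22 568 [1] 0 [])) (.leaf (.up 28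 3211 [1] 0 []))) (.leaf (.up 23 2224 [1] 0 []))))) (.node (.node (.node (.node (.leaf (.up 18 184 [0] 0 [])) (.leaf (.up 25 2624 [0] 0 []))) (.node (.leaf (.up 29 1528 [1] 0 [])) (.leaf (.up 28 3053 [0] 0 [])))) (.node (.node (.leaf (.up 23 601 [0] 0 [])) (.leaf (.up 31 2746 [1] 0 [57,93,89,2]))) (.leaf (.up 28 1712 [0] 0 [56,103,31])))) (.node (.node (.node (.leaf (.up 23 310 [1] 0 [])) (.leaf (.up 26 1876 [1] 0 []))) (.node (.leaf (.up 29 1251 [0] 0 [])) (.leaf (.up 31 3412 [0] 0 [])))) (.node (.node (.leaf (.up 24 660 [1] 0 [])) (.leaf (.up 28 3307 [1] 0 []))) (.leaf (.up 28 1438 [1] 0 [])))))))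

noncomputable def trio0_00111 : Tr TStep :=
  .node (.node (.node (.node (.node (.node (.node (.leaf (.up 10 36 [1] 0 [])) (.leaf (.up 28 2341 [1] 0 [56,123,138]))) (.node (.leaf (.up 28 861 [0] 0 [])) (.leaf (.up 29 2460 [1] 0 [])))) (.node (.node (.leaf (.up 23 672 [1] 0 [])) (.leaf (.up 29 1920 [1] 0 []))) (.node (.leaf (.up 23 1288 [0] 0 [])) (.leaf (.up 33 3702 [1] 0 []))))) (.node (.node (.node (.leaf (.up 17 173 [1] 0 [])) (.leaf (.up 30 1690 [1] 0 []))) (.node (.leaf (.up 21 1378 [1] 0 [57,93,176,98])) (.leaf (.up 33 3116 [0] 0 [])))) (.node (.node (.leaf (.up 23 639 [0] 0 [])) (.leaf (.up 33 2167 [1] 0 []))) (.leaf (.up 26 1259 [1] 0 []))))) (.node (.node (.node (.node (.leaf (.up 15 124 [0] 0 [])) (.leaf (.up 32 1582 [1] 0 []))) (.node (.leaf (.up 24 1433 [1] 0 [])) (.leaf (.up 32 2769 [1] 0 [56,91,95])))) (.node (.node (.leaf (.up 26 428 [1] 0 [])) (.leaf (.up 31 3032 [1] 0 []))) (.node (.leaf (.up 29 1409 [0] 0 [])) (.leaf (.up 30 3549 [1] 0 []))))) (.node (.node (.node (.leaf (.up 19 359 [1] 0 [43])) (.leaf (.up 28 2799 [1] 0 []))) (.node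 (.leaf (.up 28 1718 [0] 0 [])) (.leaf (.up 33 3295 [0] 0 [])))) (.node (.node (.leaf (.up 22 750 [0] 0 [])) (.leaf (.up 29 2643 [0] 0 []))) (.leaf (.up 26 1362 [1] 0 [])))))) (.node (.node (.node (.node (.node (.leaf (.up 10 57 [1] 0 [])) (.leaf (.up 30 1531 [1] 0 []))) (.node (.leaf (.up 24 1061 [1] 0 [88,55,89,22])) (.leaf (.up 29 2526 [1] 0 [])))) (.node (.node (.leaf (.up 17 387 [1] 0 [])) (.leaf (.up 31 2981 [1] 0 []))) (.node (.leaf (.up 27 1933 [1] 0 [])) (.leaf (.up 30 3685 [0] 0 [88,43,1]))))) (.node (.node (.node (.leaf (.up 21 275 [0] 0 [])) (.leaf (.up 28 1750 [1] 0 []))) (.node (.leaf (.up 25 1130 [0] 0 [])) (.leaf (.up 32 3573 [0] 0 [])))) (.node (.node (.leaf (.up 27 557 [1] 0 [])) (.leaf (.up 31 2574 [0] 0 []))) (.leaf (.up 27 1584 [0] 0 []))))) (.node (.node (.node (.node (.leaf (.up 18 134 [1] 0 [])) (.leaf (.up 27 1939 [0] 0 []))) (.node (.leaf (.up 25 1026 [0] 0 [])) (.leaf (.up 29 3026 [0] 0 [])))) (.node (.node (.leaf (.up 21 468 [1] 0 [])) (.leaf (.up 30 3085 [1] 0 []))) (.leaf (.up 24 1470 [0] 0 [])))) (.node (.node (.node (.leaf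 (.up 20 381 [0] 0 [])) (.leaf (.up 33 2184 [0] 0 []))) (.node (.leaf (.up 25 1788 [1] 0 [])) (.leaf (.up 32 3394 [0] 0 [])))) (.node (.node (.leaf (.up 22 805 [0] 0 [])) (.leaf (.up 28 2381 [1] 0 []))) (.leaf (.up 26 1423 [1] 0 []))))))) (.node (.node (.node (.node (.node (.node (.leaf (.up 12 76 [1] 0 [])) (.leaf (.up 30 2451 [1] 0 []))) (.node (.leaf (.up 21 717 [1] 0 [])) (.leaf (.up 31 2496 [1] 0 [])))) (.node (.node (.leaf (.up 21 457 [0] 0 [])) (.leaf (.up 29 2950 [1] 0 []))) (.node (.leaf (.up 24 1897 [1] 0 [])) (.leaf (.up 35 3528 [0] 0 []))))) (.node (.node (.node (.leaf (.up 19 258 [1] 0 [88,94,44,187])) (.leaf (.up 30 1724 [1] 0 []))) (.node (.leaf (.up 28 1621 [1] 0 [])) (.leaf (.up 32 3159 [0] 0 [])))) (.node (.node (.leaf (.up 30 1010 [1] 0 [])) (.leaf (.up 30 2194 [1] 0 []))) (.leaf (.up 26 1639 [1] 0 [57,56,155,22]))))) (.node (.node (.node (.node (.leaf (.up 14 148 [0] 0 [])) (.leaf (.up 25 2577 [1] 0 []))) (.node (.leaf (.up 24 997 [0] 0 [])) (.leaf (.up 32 2655 [1] 0 [])))) (.node (.node (.leaf (.up 23 448 [1] 0 [])) (.leaf (.up 32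 3059 [1] 0 []))) (.node (.leaf (.up 29 1442 [0] 0 [])) (.leaf (.up 33 3729 [0] 0 []))))) (.node (.node (.node (.leaf (.up 25 558 [1] 0 [])) (.leaf (.up 29 2827 [0] 0 []))) (.node (.leaf (.up 24 1060 [1] 0 [87,110,104,148])) (.leaf (.up 35 3637 [1] 0 [])))) (.node (.node (.leaf (.up 25 1166 [1] 0 [])) (.leaf (.up 30 2680 [0] 0 []))) (.leaf (.up 31 1390 [1] 0 [])))))) (.node (.node (.node (.node (.node (.leaf (.up 14 157 [1] 0 [])) (.leaf (.up 29 1856 [0] 0 []))) (.node (.leaf (.up 26 943 [0] 0 [])) (.leaf (.up 28 3211 [0] 0 [93,89,222])))) (.node (.node (.leaf (.up 27 793 [1] 0 [])) (.leaf (.up 29 2345 [0] 0 []))) (.node (.leaf (.up 22 1968 [1] 0 [])) (.leaf (.up 34 3750 [0] 0 [88,44,130]))))) (.node (.node (.node (.leaf (.up 19 475 [1] 0 [])) (.leaf (.up 26 2089 [0] 0 []))) (.node (.leaf (.up 25 1157 [0] 0 [])) (.leaf (.up 34 3309 [1] 0 [88,56,43,150])))) (.node (.node (.leaf (.up 21 990 [0] 0 [87,56,43,170])) (.leaf (.up 28 2325 [1] 0 [44,190]))) (.leaf (.up 28 1612 [0] 0 []))))) (.node (.node (.node (.node (.leaf (.up 18 199 [0] 0 [])) (.leaf (.up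 32 2637 [0] 0 []))) (.node (.leaf (.up 28 1549 [1] 0 [])) (.leaf (.up 34 3482 [1] 0 [55,89,122])))) (.node (.node (.leaf (.up 23 941 [1] 0 [])) (.leaf (.up 30 3111 [1] 0 []))) (.leaf (.up 24 2057 [1] 0 [87,110,43,247])))) (.node (.node (.node (.leaf (.up 18 321 [1] 0 [])) (.leaf (.up 27 2891 [1] 0 []))) (.node (.leaf (.up 29 1826 [1] 0 [])) (.leaf (.up 34 3428 [0] 0 [])))) (.node (.node (.leaf (.up 25 1238 [1] 0 [])) (.leaf (.up 32 3319 [1] 0 []))) (.leaf (.up 31 2378 [1] 0 [])))))))

noncomputable def trio0_0011 : Tr TStep := .node trio0_00110 trio0_00111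

noncomputable def trio0_001 : Tr TStep := .node trio0_0010 trio0_0011

noncomputable def trio0_00 : Tr TStep := .node trio0_000 trio0_001

noncomputable def trio0_01000 : Tr TStep :=
  .node (.node (.node (.node (.node (.node (.node (.leaf (.up 3 1 [0] 0 [])) (.leaf (.up 31 2387 [1] 0 []))) (.node (.leaf (.up 24 1073 [1] 0 [88,104,160])) (.leaf (.up 35 3324 [0] 0 [])))) (.node (.node (.leaf (.up 23 639 [1] 0 [])) (.leaf (.up 26 1894 [1] 0 []))) (.node (.leaf (.up 29 1268 [0] 0 [])) (.leaf (.up 30 3685 [1] 0 []))))) (.node (.node (.node (.leaf (.up 18 203 [0] 0 [])) (.leaf (.up 31 2645 [1] 0 []))) (.node (.leaf (.up 27 1056 [0] 0 [])) (.leaf (.up 30 3222 [1] 0 [94,18])))) (.node (.node (.leaf (.up 21 498 [1] 0 [])) (.leaf (.up 28 3117 [0] 0 []))) (.leaf (.up 27 1242 [1] 0 []))))) (.node (.node (.node (.node (.leaf (.up 20 103 [0] 0 [])) (.leaf (.up 26 2520 [1] 0 []))) (.node (.leaf (.up 24 769 [1] 0 [])) (.leaf (.up 34 3418 [0] 0 [])))) (.node (.node (.leaf (.up 22 800 [1] 0 [])) (.leaf (.up 26 2354 [0] 0 []))) (.node (.leaf (.up 28 1297 [1] 0 [55,44,5]))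 (.leaf (.up 35 3626 [0] 0 []))))) (.node (.node (.node (.leaf (.up 19 483 [1] 0 [])) (.leaf (.up 31 2772 [0] 0 []))) (.node (.leaf (.up 25 1161 [0] 0 [])) (.leaf (.up 34 2978 [1] 0 [])))) (.node (.node (.leaf (.up 22 728 [0] 0 [])) (.leaf (.up 31 3226 [0] 0 []))) (.leaf (.up 26 1336 [1] 0 [])))))) (.node (.node (.node (.node (.node (.leaf (.up 13 85 [1] 0 [])) (.leaf (.up 30 2456 [1] 0 []))) (.node (.leaf (.up 18 891 [0] 0 [])) (.leaf (.up 29 3372 [1] 0 [])))) (.node (.node (.leaf (.up 19 721 [1] 0 [])) (.leaf (.up 29 2954 [1] 0 []))) (.node (.leaf (.up 21 1323 [0] 0 [])) (.leaf (.up 33 3728 [1] 0 []))))) (.node (.node (.node (.leaf (.up 17 256 [0] 0 [])) (.leaf (.up 27 2037 [0] 0 []))) (.node (.leaf (.up 25 1109 [0] 0 [])) (.leaf (.up 31 2869 [1] 0 [])))) (.node (.node (.leaf (.up 26 1019 [1] 0 [])) (.leaf (.up 25 2199 [1] 0 []))) (.leaf (.up 28 2176 [1] 0 []))))) (.node (.node (.node (.node (.leaf (.up 15 208 [1] 0 [88,110,90,179])) (.leaf (.up 26 2581 [1] 0 []))) (.node (.leaf (.up 20 1472 [0] 0 [])) (.leaf (.up 29 2995 [0] 0 [])))) (.node (.node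 (.leaf (.up 23 874 [1] 0 [])) (.leaf (.up 34 2413 [0] 0 []))) (.node (.leaf (.up 32 2039 [1] 0 [])) (.leaf (.up 36 3748 [0] 0 []))))) (.node (.node (.node (.leaf (.up 20 565 [1] 0 [])) (.leaf (.up 29 2834 [1] 0 []))) (.node (.leaf (.up 27 1759 [1] 0 [])) (.leaf (.up 30 3122 [1] 0 [])))) (.node (.node (.leaf (.up 22 783 [0] 0 [])) (.leaf (.up 31 2686 [0] 0 []))) (.leaf (.up 26 1394 [1] 0 []))))))) (.node (.node (.node (.node (.node (.node (.leaf (.up 8 27 [0] 0 [])) (.leaf (.up 31 1770 [0] 0 []))) (.node (.leaf (.up 22 866 [0] 0 [])) (.leaf (.up 30 3348 [0] 0 [])))) (.node (.node (.leaf (.up 24 680 [1] 0 [])) (.leaf (.up 28 1925 [1] 0 []))) (.node (.leaf (.up 26 1293 [0] 0 [])) (.leaf (.up 34 3316 [1] 0 []))))) (.node (.node (.node (.leaf (.up 14 227 [0] 0 [])) (.leaf (.up 30 2679 [1] 0 []))) (.node (.leaf (.up 21 886 [1] 0 [])) (.leaf (.up 32 3523 [1] 0 [])))) (.node (.node (.leaf (.up 23 644 [0] 0 [])) (.leaf (.up 32 2514 [0] 0 []))) (.leaf (.up 28 1617 [0] 0 []))))) (.node (.node (.node (.node (.leaf (.up 13 100 [1] 0 [])) (.leaf (.up 29 1888 [0] 0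 []))) (.node (.leaf (.up 24 1430 [0] 0 [87,94,44,132])) (.leaf (.up 30 2958 [0] 0 [])))) (.node (.node (.leaf (.up 26 839 [1] 0 [])) (.leaf (.up 29 3038 [1] 0 []))) (.node (.leaf (.up 27 1997 [0] 0 [88,42,150])) (.leaf (.up 34 3756 [0] 0 [88,110,104,59]))))) (.node (.node (.node (.leaf (.up 19 524 [1] 0 [])) (.leaf (.up 25 2125 [0] 0 []))) (.node (.leaf (.up 28 975 [1] 0 [])) (.leaf (.up 27 3615 [1] 0 [])))) (.node (.node (.leaf (.up 17 755 [0] 0 [])) (.leaf (.up 33 2650 [0] 0 []))) (.leaf (.up 26 2284 [1] 0 [])))))) (.node (.node (.node (.node (.node (.leaf (.up 15 82 [1] 0 [87,55,116,131])) (.leaf (.up 29 2485 [0] 0 []))) (.node (.leaf (.up 24 1363 [1] 0 [])) (.leaf (.up 26 2871 [0] 0 [])))) (.node (.node (.leaf (.up 27 391 [1] 0 [])) (.leaf (.up 27 2576 [1] 0 [94,103,236]))) (.node (.leaf (.up 24 1352 [0] 0 [])) (.leaf (.up 35 3751 [1] 0 []))))) (.node (.node (.node (.leaf (.up 21 219 [1] 0 [])) (.leaf (.up 25 1756 [1] 0 []))) (.node (.leaf (.up 20 1134 [0] 0 [])) (.leaf (.up 30 3578 [1] 0 [])))) (.node (.node (.leaf (.up 21 715 [1] 0 [87,155,208]))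 (.leaf (.up 30 2584 [0] 0 []))) (.leaf (.up 24 1313 [1] 0 []))))) (.node (.node (.node (.node (.leaf (.up 15 177 [0] 0 [])) (.leaf (.up 28 1944 [0] 0 []))) (.node (.leaf (.up 25 1201 [0] 0 [1])) (.leaf (.up 30 3128 [1] 0 [88,55,90,127])))) (.node (.node (.leaf (.up 23 593 [0] 0 [])) (.leaf (.up 31 2448 [0] 0 []))) (.leaf (.up 28 1652 [0] 0 [88,103,171])))) (.node (.node (.node (.leaf (.up 20 386 [0] 0 [])) (.leaf (.up 31 2868 [1] 0 []))) (.node (.leaf (.up 28 1794 [1] 0 [])) (.leaf (.up 34 3400 [0] 0 [])))) (.node (.node (.leaf (.up 25 1210 [1] 0 [])) (.leaf (.up 33 3140 [1] 0 [57,94,127]))) (.leaf (.up 27 2350 [1] 0 [])))))))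

noncomputable def trio0_01001 : Tr TStep :=
  .node (.node (.node (.node (.node (.node (.node (.leaf (.up 11 26 [1] 0 [])) (.leaf (.up 30 2406 [1] 0 []))) (.node (.leaf (.up 26 1265 [1] 0 [])) (.leaf (.up 33 2446 [1] 0 [])))) (.node (.node (.leaf (.up 15 423 [0] 0 [])) (.leaf (.up 31 2872 [0] 0 [87,116,151]))) (.node (.leaf (.up 29 1280 [0] 0 [])) (.leaf (.up 32 3270 [1] 0 []))))) (.node (.node (.node (.leaf (.up 22 216 [0] 0 [])) (.leaf (.up 27 1991 [0] 0 []))) (.node (.leaf (.up 25 875 [1] 0 [])) (.leaf (.up 32 3439 [0] 0 [88,110,91,65])))) (.node (.node (.leaf (.up 21 965 [1] 0 [])) (.leaf (.up 28 2158 [1] 0 []))) (.leaf (.up 25 2125 [1] 0 []))))) (.node (.node (.node (.node (.leaf (.up 15 116 [0] 0 [])) (.leaf (.up 29 1875 [0] 0 []))) (.node (.leaf (.up 24 1420 [0] 0 [])) (.leaf (.up 30 2935 [0] 0 [])))) (.node (.node (.leaf (.up 19 529 [0] 0 [])) (.leaf (.up 29 2036 [1] 0 []))) (.node (.leaf (.up 27 1993 [1] 0 [])) (.leaf (.up 34 3723 [0] 0 [88,55,176,143]))))) (.node (.node (.node (.leaf (.up 19 252 [1] 0 [])) (.leaf (.up 29 2788 [0] 0 []))) (.node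 (.leaf (.up 23 1175 [0] 0 [])) (.leaf (.up 34 3466 [1] 0 [110,91,213])))) (.node (.node (.leaf (.up 22 743 [0] 0 [])) (.leaf (.up 28 3238 [1] 0 []))) (.leaf (.up 26 2267 [1] 0 [])))))) (.node (.node (.node (.node (.node (.leaf (.up 14 77 [1] 0 [88,94,89,115])) (.leaf (.up 28 1815 [0] 0 []))) (.node (.leaf (.up 29 1343 [1] 0 [])) (.leaf (.up 28 2519 [1] 0 [])))) (.node (.node (.leaf (.up 22 741 [1] 0 [])) (.leaf (.up 30 2304 [0] 0 []))) (.node (.leaf (.up 24 1338 [0] 0 [])) (.leaf (.up 34 3399 [1] 0 []))))) (.node (.node (.node (.leaf (.up 26 268 [0] 0 [])) (.leaf (.up 32 2050 [0] 0 []))) (.node (.leaf (.up 25 1122 [0] 0 [])) (.leaf (.up 32 3192 [0] 0 [])))) (.node (.node (.leaf (.up 27 685 [0] 0 [])) (.leaf (.up 27 2565 [0] 0 []))) (.leaf (.up 25 1575 [0] 0 []))))) (.node (.node (.node (.node (.leaf (.up 26 268 [1] 0 [])) (.leaf (.up 29 1930 [0] 0 []))) (.node (.leaf (.up 27 1495 [0] 0 [])) (.leaf (.up 31 3231 [0] 0 [87,56,103,174])))) (.node (.node (.leaf (.up 18 891 [1] 0 [])) (.leaf (.up 27 2431 [0] 0 []))) (.node (.leaf (.up 27 2054 [1] 0 [])) (.leaf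 (.up 39 3793 [0] 0 []))))) (.node (.node (.node (.leaf (.up 20 372 [0] 0 [])) (.leaf (.up 31 1855 [1] 0 []))) (.node (.leaf (.up 30 1541 [1] 0 [88,94,91,177])) (.leaf (.up 31 3655 [1] 0 [])))) (.node (.node (.leaf (.up 27 797 [0] 0 [])) (.leaf (.up 28 2370 [1] 0 []))) (.leaf (.up 30 2333 [1] 0 []))))))) (.node (.node (.node (.node (.node (.node (.leaf (.up 8 31 [1] 0 [])) (.leaf (.up 30 2437 [1] 0 []))) (.node (.leaf (.up 21 709 [1] 0 [])) (.leaf (.up 29 2822 [0] 0 [])))) (.node (.node (.leaf (.up 23 699 [0] 0 [])) (.leaf (.up 26 2269 [0] 0 []))) (.node (.leaf (.up 29 1887 [1] 0 [])) (.leaf (.up 34 3353 [1] 0 []))))) (.node (.node (.node (.leaf (.up 15 187 [1] 0 [])) (.leaf (.up 25 1713 [1] 0 []))) (.node (.leaf (.up 24 1611 [1] 0 [])) (.leaf (.up 30 3536 [1] 0 [])))) (.node (.node (.leaf (.up 20 654 [1] 0 [87,110,104,231])) (.leaf (.up 30 2186 [1] 0 []))) (.leaf (.up 28 1547 [0] 0 []))))) (.node (.node (.node (.node (.leaf (.up 19 139 [0] 0 [])) (.leaf (.up 27 2411 [1] 0 [57,44,173]))) (.node (.leaf (.up 24 1458 [1] 0 [])) (.leaf (.up 30 3455 [0] 0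 [])))) (.node (.node (.leaf (.up 23 556 [0] 0 [])) (.leaf (.up 29 2396 [0] 0 []))) (.node (.leaf (.up 22 1179 [1] 0 [])) (.leaf (.up 31 3705 [0] 0 []))))) (.node (.node (.node (.leaf (.up 25 346 [0] 0 [])) (.leaf (.up 31 2141 [0] 0 []))) (.node (.leaf (.up 23 986 [1] 0 [])) (.leaf (.up 31 3436 [1] 0 [87,93,91,239])))) (.node (.node (.leaf (.up 25 1154 [1] 0 [])) (.leaf (.up 27 3186 [1] 0 [88,104,21]))) (.leaf (.up 31 1662 [0] 0 [])))))) (.node (.node (.node (.node (.node (.leaf (.up 14 70 [1] 0 [])) (.leaf (.up 27 2503 [1] 0 []))) (.node (.leaf (.up 29 757 [1] 0 [])) (.leaf (.up 26 2899 [0] 0 [])))) (.node (.node (.leaf (.up 22 778 [1] 0 [])) (.leaf (.up 30 3002 [1] 0 []))) (.node (.leaf (.up 26 1957 [0] 0 [])) (.leaf (.up 34 3759 [1] 0 []))))) (.node (.node (.node (.leaf (.up 21 292 [0] 0 [])) (.leaf (.up 31 2760 [1] 0 []))) (.node (.leaf (.up 25 1147 [0] 0 [])) (.leaf (.up 33 3236 [0] 0 [])))) (.node (.node (.leaf (.up 23 1079 [1] 0 [])) (.leaf (.up 30 2258 [1] 0 []))) (.leaf (.up 27 1603 [0] 0 []))))) (.node (.node (.node (.node (.leaf (.up 16 192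 [1] 0 [57,91,136])) (.leaf (.up 30 1651 [1] 0 []))) (.node (.leaf (.up 25 1043 [0] 0 [])) (.leaf (.up 28 3476 [0] 0 [88,56,182])))) (.node (.node (.leaf (.up 18 608 [0] 0 [])) (.leaf (.up 32 2983 [1] 0 [57,93,89,111]))) (.leaf (.up 28 1492 [0] 0 [])))) (.node (.node (.node (.leaf (.up 20 398 [0] 0 [])) (.leaf (.up 31 2883 [0] 0 []))) (.node (.leaf (.up 27 1255 [0] 0 [])) (.leaf (.up 31 3417 [0] 0 [])))) (.node (.node (.leaf (.up 29 664 [1] 0 [])) (.leaf (.up 32 2796 [1] 0 [88,89,13]))) (.leaf (.up 31 2368 [1] 0 [])))))))

noncomputable def trio0_0100 : Tr TStep := .node trio0_01000 trio0_01001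

noncomputable def trio0_01010 : Tr TStep :=
  .node (.node (.node (.node (.node (.node (.node (.leaf (.up 5 7 [0] 0 [])) (.leaf (.up 29 2396 [1] 0 []))) (.node (.leaf (.up 27 1255 [1] 0 [])) (.leaf (.up 29 2436 [1] 0 [])))) (.node (.node (.leaf (.up 20 417 [0] 0 [])) (.leaf (.up 26 2904 [1] 0 []))) (.node (.leaf (.up 26 1841 [1] 0 [])) (.leaf (.up 30 3275 [1] 0 [88,93,90,206]))))) (.node (.node (.node (.leaf (.up 13 209 [0] 0 [])) (.leaf (.up 30 2456 [0] 0 [57,94,103,29]))) (.node (.leaf (.up 30 1568 [1] 0 [])) (.leaf (.up 29 2783 [1] 0 [])))) (.node (.node (.leaf (.up 21 503 [1] 0 [])) (.leaf (.up 33 3126 [1] 0 []))) (.leaf (.up 32 2115 [1] 0 []))))) (.node (.node (.node (.node (.leaf (.up 12 109 [0] 0 [])) (.leaf (.up 29 1869 [0] 0 []))) (.node (.leaf (.up 25 1412 [1] 0 [])) (.leaf (.up 29 2923 [0] 0 [])))) (.node (.node (.leaf (.up 22 810 [1] 0 [])) (.leaf (.up 33 2361 [0] 0 []))) (.node (.leaf (.up 27 1146 [1] 0 [])) (.leaf (.up 35 3642 [0] 0 []))))) (.node (.node (.node (.leaf (.up 24 494 [1] 0 [])) (.leaf (.up 29 2238 [0] 0 [93,116,69]))) (.node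 (.leaf (.up 23 964 [1] 0 [87,110,42,233])) (.leaf (.up 33 3277 [1] 0 [87,93,103,101])))) (.node (.node (.leaf (.up 27 736 [0] 0 [])) (.leaf (.up 28 2285 [1] 0 []))) (.leaf (.up 28 2110 [1] 0 [57,93,191])))))) (.node (.node (.node (.node (.node (.leaf (.up 13 59 [0] 0 [])) (.leaf (.up 30 2432 [0] 0 [88,56,140,219]))) (.node (.leaf (.up 24 1332 [1] 0 [])) (.leaf (.up 27 2633 [1] 0 [88,55,89,172])))) (.node (.node (.leaf (.up 22 373 [1] 0 [])) (.leaf (.up 26 2296 [0] 0 []))) (.node (.leaf (.up 25 1330 [0] 0 [])) (.leaf (.up 35 3535 [1] 0 [57,110,238]))))) (.node (.node (.node (.leaf (.up 15 205 [1] 0 [])) (.leaf (.up 30 1736 [1] 0 []))) (.node (.leaf (.up 23 913 [1] 0 [])) (.leaf (.up 26 3182 [0] 0 [])))) (.node (.node (.leaf (.up 27 677 [0] 0 [])) (.leaf (.up 28 2556 [0] 0 []))) (.leaf (.up 32 2183 [1] 0 []))))) (.node (.node (.node (.node (.leaf (.up 19 158 [0] 0 [])) (.leaf (.up 30 2590 [1] 0 []))) (.node (.leaf (.up 29 1484 [1] 0 [])) (.leaf (.up 32 3268 [1] 0 [88,94,91,153])))) (.node (.node (.leaf (.up 23 885 [1] 0 [])) (.leaf (.up 29 2081 [1] 0 [])))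 (.node (.leaf (.up 27 2046 [1] 0 [])) (.leaf (.up 38 3735 [1] 0 [43,152]))))) (.node (.node (.node (.leaf (.up 20 574 [1] 0 [])) (.leaf (.up 30 2165 [0] 0 []))) (.node (.leaf (.up 32 1009 [1] 0 [])) (.leaf (.up 32 3370 [0] 0 [])))) (.node (.node (.leaf (.up 20 1182 [1] 0 [])) (.leaf (.up 32 3034 [0] 0 [57,110,89,132]))) (.leaf (.up 26 2326 [1] 0 []))))))) (.node (.node (.node (.node (.node (.node (.leaf (.up 13 25 [1] 0 [])) (.leaf (.up 33 2429 [0] 0 []))) (.node (.leaf (.up 26 1293 [1] 0 [])) (.leaf (.up 26 2815 [0] 0 [])))) (.node (.node (.leaf (.up 24 442 [0] 0 [])) (.leaf (.up 29 2647 [1] 0 [57,110,89,71]))) (.node (.leaf (.up 24 1877 [1] 0 [])) (.leaf (.up 34 3715 [1] 0 []))))) (.node (.node (.node (.leaf (.up 19 236 [1] 0 [87,93,90,193])) (.leaf (.up 28 2539 [1] 0 [57,103,216]))) (.node (.leaf (.up 22 1089 [0] 0 [])) (.leaf (.up 31 2833 [1] 0 [])))) (.node (.node (.leaf (.up 21 522 [1] 0 [])) (.leaf (.up 36 3157 [1] 0 []))) (.leaf (.up 28 1540 [0] 0 []))))) (.node (.node (.node (.node (.leaf (.up 17 105 [1] 0 [])) (.leaf (.up 27 2560 [1] 0 [])))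 (.node (.leaf (.up 26 980 [0] 0 [])) (.leaf (.up 38 3449 [1] 0 [])))) (.node (.node (.leaf (.up 26 696 [1] 0 [87,93,138])) (.leaf (.up 30 2389 [0] 0 []))) (.node (.leaf (.up 27 1425 [0] 0 [])) (.leaf (.up 36 3780 [0] 0 []))))) (.node (.node (.node (.leaf (.up 27 533 [0] 0 [])) (.leaf (.up 29 2567 [1] 0 [88,56,90,177]))) (.node (.leaf (.up 28 1737 [1] 0 [])) (.leaf (.up 34 3469 [0] 0 [57,93,104,173])))) (.node (.node (.leaf (.up 27 762 [0] 0 [])) (.leaf (.up 29 2945 [0] 0 [87,110,104,204]))) (.leaf (.up 28 1654 [0] 0 [])))))) (.node (.node (.node (.node (.node (.leaf (.up 16 135 [1] 0 [])) (.leaf (.up 27 1837 [0] 0 []))) (.node (.leaf (.up 24 751 [1] 0 [])) (.leaf (.up 29 2554 [1] 0 [87,110,123,244])))) (.node (.node (.leaf (.up 22 396 [1] 0 [])) (.leaf (.up 29 2995 [1] 0 []))) (.node (.leaf (.up 27 1948 [1] 0 [])) (.leaf (.up 34 3447 [1] 0 []))))) (.node (.node (.node (.leaf (.up 21 457 [1] 0 [])) (.leaf (.up 30 2752 [1] 0 []))) (.node (.leaf (.up 29 1666 [1] 0 [])) (.leaf (.up 31 3582 [1] 0 [])))) (.node (.node (.leaf (.up 22 567 [1] 0 [])) (.leaf (.up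 30 2590 [0] 0 []))) (.leaf (.up 25 1597 [0] 0 []))))) (.node (.node (.node (.node (.leaf (.up 18 183 [0] 0 [])) (.leaf (.up 30 1646 [1] 0 []))) (.node (.leaf (.up 28 1526 [1] 0 [])) (.leaf (.up 29 3199 [0] 0 [57,90,244])))) (.node (.node (.leaf (.up 21 479 [1] 0 [])) (.leaf (.up 32 2439 [1] 0 [110,140,158]))) (.leaf (.up 30 1226 [1] 0 [])))) (.node (.node (.node (.leaf (.up 24 611 [1] 0 [])) (.leaf (.up 28 2195 [0] 0 []))) (.node (.leaf (.up 29 1248 [0] 0 [])) (.leaf (.up 34 3671 [1] 0 [])))) (.node (.node (.leaf (.up 20 1217 [1] 0 [])) (.leaf (.up 29 2740 [0] 0 []))) (.leaf (.up 26 2357 [0] 0 [])))))))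

noncomputable def trio0_01011 : Tr TStep :=
  .node (.node (.node (.node (.node (.node (.node (.leaf (.up 10 13 [1] 0 [])) (.leaf (.up 31 1764 [0] 0 []))) (.node (.leaf (.up 24 1275 [1] 0 [])) (.leaf (.up 31 2798 [0] 0 [])))) (.node (.node (.leaf (.up 23 670 [1] 0 [])) (.leaf (.up 31 2248 [0] 0 []))) (.node (.leaf (.up 23 1058 [1] 0 [])) (.leaf (.up 30 3292 [1] 0 []))))) (.node (.node (.node (.leaf (.up 17 172 [1] 0 [])) (.leaf (.up 30 1689 [1] 0 []))) (.node (.leaf (.up 27 1078 [0] 0 [])) (.leaf (.up 28 3515 [1] 0 [])))) (.node (.node (.leaf (.up 26 974 [1] 0 [])) (.leaf (.up 32 2673 [1] 0 [88,140,189]))) (.leaf (.up 28 1526 [0] 0 []))))) (.node (.node (.node (.node (.leaf (.up 18 198 [1] 0 [])) (.leaf (.up 22 1581 [1] 0 []))) (.node (.leaf (.up 24 1430 [1] 0 [])) (.leaf (.up 30 2810 [1] 0 [88,94,116,12])))) (.node (.node (.leaf (.up 28 536 [0] 0 [])) (.leaf (.up 30 2209 [1] 0 [88,123,137]))) (.node (.leaf (.up 29 1408 [0] 0 [])) (.leaf (.up 35 3663 [0] 0 []))))) (.node (.node (.node (.leaf (.up 21 325 [0] 0 [])) (.leaf (.up 32 2796 [0] 0 []))) (.node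 (.leaf (.up 23 1716 [1] 0 [])) (.leaf (.up 33 3290 [0] 0 [])))) (.node (.node (.leaf (.up 22 749 [0] 0 [])) (.leaf (.up 32 3129 [0] 0 [55,90,129]))) (.leaf (.up 28 1641 [0] 0 [])))))) (.node (.node (.node (.node (.node (.leaf (.up 12 71 [0] 0 [])) (.leaf (.up 29 2220 [1] 0 [88,56,42,71]))) (.node (.leaf (.up 24 1352 [1] 0 [])) (.leaf (.up 32 3291 [0] 0 [87,93,113])))) (.node (.node (.leaf (.up 19 483 [0] 0 [])) (.leaf (.up 32 1979 [1] 0 []))) (.node (.leaf (.up 28 1253 [1] 0 [93,91,201])) (.leaf (.up 34 3659 [0] 0 [87,93,44,0]))))) (.node (.node (.node (.leaf (.up 24 435 [1] 0 [])) (.leaf (.up 25 1747 [1] 0 []))) (.node (.leaf (.up 23 1035 [1] 0 [55,155,192])) (.leaf (.up 33 3572 [1] 0 [])))) (.node (.node (.leaf (.up 22 691 [0] 0 [])) (.leaf (.up 29 2573 [0] 0 []))) (.leaf (.up 33 2203 [0] 0 []))))) (.node (.node (.node (.node (.leaf (.up 18 170 [0] 0 [])) (.leaf (.up 27 1937 [0] 0 []))) (.node (.leaf (.up 26 1024 [0] 0 [])) (.leaf (.up 32 2705 [1] 0 [])))) (.node (.node (.leaf (.up 23 586 [0] 0 [])) (.leaf (.up 30 2438 [0] 0 []))) (.leaf (.up 25 1212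 [1] 0 [])))) (.node (.node (.node (.leaf (.up 20 380 [0] 0 [])) (.leaf (.up 35 2859 [1] 0 []))) (.node (.leaf (.up 27 1096 [1] 0 [87,56,89,177])) (.leaf (.up 33 3661 [0] 0 [])))) (.node (.node (.leaf (.up 22 804 [0] 0 [])) (.leaf (.up 31 3296 [1] 0 []))) (.leaf (.up 26 1416 [1] 0 []))))))) (.node (.node (.node (.node (.node (.node (.leaf (.up 14 47 [0] 0 [])) (.leaf (.up 31 2447 [0] 0 []))) (.node (.leaf (.up 22 1314 [1] 0 [])) (.leaf (.up 31 3366 [0] 0 [])))) (.node (.node (.leaf (.up 19 710 [1] 0 [])) (.leaf (.up 27 2579 [1] 0 [87,56,43,132]))) (.node (.leaf (.up 26 1317 [0] 0 [])) (.leaf (.up 34 3723 [1] 0 []))))) (.node (.node (.node (.leaf (.up 20 398 [1] 0 [])) (.leaf (.up 27 2700 [1] 0 []))) (.node (.leaf (.up 23 903 [1] 0 [])) (.leaf (.up 37 2858 [1] 0 [])))) (.node (.node (.leaf (.up 24 802 [1] 0 [87,110,43,131])) (.leaf (.up 27 2536 [0] 0 []))) (.leaf (.up 26 1722 [0] 0 [87,56,90,30]))))) (.node (.node (.node (.node (.leaf (.up 17 240 [1] 0 [])) (.leaf (.up 25 1653 [1] 0 [88,56,43,177]))) (.node (.leaf (.up 24 809 [1] 0 [])) (.leaf (.up 31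 3463 [1] 0 [])))) (.node (.node (.leaf (.up 23 865 [1] 0 [])) (.leaf (.up 30 2407 [0] 0 []))) (.node (.leaf (.up 25 1187 [1] 0 [])) (.leaf (.up 31 3652 [1] 0 [57,110,73]))))) (.node (.node (.node (.leaf (.up 23 555 [1] 0 [])) (.leaf (.up 31 2153 [0] 0 []))) (.node (.leaf (.up 25 1210 [0] 0 [])) (.leaf (.up 35 3634 [1] 0 [])))) (.node (.node (.leaf (.up 21 1002 [0] 0 [55,140,169])) (.leaf (.up 29 3052 [0] 0 [56,44,120]))) (.leaf (.up 31 2002 [0] 0 [57,56,90,233])))))) (.node (.node (.node (.node (.node (.leaf (.up 16 96 [0] 0 [])) (.leaf (.up 29 1854 [0] 0 []))) (.node (.leaf (.up 26 942 [0] 0 [])) (.leaf (.up 33 3414 [1] 0 [])))) (.node (.node (.leaf (.up 19 511 [0] 0 [])) (.leaf (.up 26 2342 [0] 0 []))) (.node (.leaf (.up 22 1308 [1] 0 [57,93,176,98])) (.leaf (.up 32 3494 [1] 0 [93,43,172]))))) (.node (.node (.node (.leaf (.up 19 233 [1] 0 [])) (.leaf (.up 34 1773 [1] 0 []))) (.node (.leaf (.up 23 947 [1] 0 [])) (.leaf (.up 32 3179 [1] 0 [87,55,116,241])))) (.node (.node (.leaf (.up 22 1089 [1] 0 [])) (.leaf (.up 28 2266 [1] 0 []))) (.leaf (.up 27 2241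 [1] 0 []))))) (.node (.node (.node (.node (.leaf (.up 20 316 [0] 0 [])) (.leaf (.up 22 1968 [0] 0 []))) (.node (.leaf (.up 25 1050 [0] 0 [])) (.leaf (.up 31 3195 [1] 0 [57,56,42,218])))) (.node (.node (.leaf (.up 26 939 [1] 0 [])) (.leaf (.up 29 2470 [0] 0 []))) (.leaf (.up 28 1498 [0] 0 [])))) (.node (.node (.node (.leaf (.up 20 405 [0] 0 [])) (.leaf (.up 28 2211 [0] 0 []))) (.node (.leaf (.up 26 1824 [1] 0 [])) (.leaf (.up 29 3212 [1] 0 [])))) (.node (.node (.leaf (.up 27 834 [0] 0 [])) (.leaf (.up 33 3317 [1] 0 []))) (.leaf (.up 31 2375 [1] 0 [])))))))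

noncomputable def trio0_0101 : Tr TStep := .node trio0_01010 trio0_01011

noncomputable def trio0_010 : Tr TStep := .node trio0_0100 trio0_0101

noncomputable def trio0_01100 : Tr TStep :=
  .node (.node (.node (.node (.node (.node (.node (.leaf (.up 6 4 [0] 0 [])) (.leaf (.up 26 1460 [1] 0 []))) (.node (.leaf (.up 26 1250 [1] 0 [])) (.leaf (.up 29 2518 [1] 0 [87,93,138])))) (.node (.node (.leaf (.up 20 414 [0] 0 [])) (.leaf (.up 28 2225 [0] 0 []))) (.node (.leaf (.up 27 1046 [1] 0 [])) (.leaf (.up 25 3240 [1] 0 []))))) (.node (.node (.node (.leaf (.up 18 206 [0] 0 [])) (.leaf (.up 32 2641 [1] 0 [87,56,91,124]))) (.node (.leaf (.up 26 1059 [0] 0 [])) (.leaf (.up 31 3279 [0] 0 [87,93,42,23])))) (.node (.node (.leaf (.up 23 623 [0] 0 [])) (.leaf (.up 28 2902 [1] 0 [57,93,176,147]))) (.leaf (.up 26 1373 [1] 0 [87,93,103,105]))))) (.node (.node (.node (.node (.leaf (.up 17 106 [0] 0 [])) (.leaf (.up 33 1866 [0] 0 []))) (.node (.leaf (.up 29 1407 [1] 0 [])) (.leaf (.up 32 2587 [1] 0 [])))) (.node (.node (.leaf (.up 19 520 [0] 0 [])) (.leaf (.up 29 2358 [0]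 0 []))) (.node (.leaf (.up 32 1979 [0] 0 [])) (.leaf (.up 35 3666 [0] 0 [87,91,97]))))) (.node (.node (.node (.leaf (.up 14 243 [1] 0 [])) (.leaf (.up 29 1785 [1] 0 []))) (.node (.leaf (.up 28 1698 [1] 0 [])) (.leaf (.up 31 2982 [1] 0 [])))) (.node (.node (.leaf (.up 22 801 [0] 0 [])) (.leaf (.up 28 2279 [1] 0 []))) (.leaf (.up 25 1339 [1] 0 [])))))) (.node (.node (.node (.node (.node (.leaf (.up 13 56 [0] 0 [])) (.leaf (.up 29 2460 [0] 0 []))) (.node (.leaf (.up 26 895 [0] 0 [])) (.leaf (.up 30 3148 [1] 0 [57,89,126])))) (.node (.node (.leaf (.up 20 726 [1] 0 [])) (.leaf (.up 30 2958 [1] 0 []))) (.node (.leaf (.up 22 1216 [1] 0 [56,44,15])) (.leaf (.up 32 3538 [0] 0 []))))) (.node (.node (.node (.leaf (.up 20 316 [1] 0 [110,140,209])) (.leaf (.up 32 2042 [0] 0 []))) (.node (.leaf (.up 27 1503 [0] 0 [87,56,3])) (.leaf (.up 34 3551 [0] 0 [])))) (.node (.node (.leaf (.up 26 1024 [1] 0 [])) (.leaf (.up 30 3178 [1] 0 []))) (.leaf (.up 25 1380 [1] 0 [57,55,43,15]))))) (.node (.node (.node (.node (.leaf (.up 17 122 [1] 0 [])) (.leaf (.up 25 1613 [1] 0 [])))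 (.node (.leaf (.up 30 1477 [0] 0 [])) (.leaf (.up 31 3000 [0] 0 [])))) (.node (.node (.leaf (.up 18 455 [1] 0 [])) (.leaf (.up 33 3065 [1] 0 []))) (.node (.leaf (.up 29 1449 [0] 0 [])) (.leaf (.up 32 3694 [1] 0 []))))) (.node (.node (.node (.leaf (.up 20 569 [1] 0 [])) (.leaf (.up 29 1845 [1] 0 []))) (.node (.leaf (.up 32 1007 [1] 0 [])) (.leaf (.up 34 3367 [0] 0 [])))) (.node (.node (.leaf (.up 21 1177 [1] 0 [])) (.leaf (.up 28 2353 [1] 0 []))) (.leaf (.up 26 1396 [1] 0 []))))))) (.node (.node (.node (.node (.node (.node (.leaf (.up 11 30 [0] 0 [])) (.leaf (.up 35 2426 [1] 0 []))) (.node (.leaf (.up 23 870 [0] 0 [])) (.leaf (.up 28 2811 [0] 0 [])))) (.node (.node (.leaf (.up 27 685 [1] 0 [])) (.leaf (.up 27 2691 [1] 0 [88,110,91,25]))) (.node (.leaf (.up 24 1068 [1] 0 [])) (.leaf (.up 33 3678 [0] 0 [57,93,91,153]))))) (.node (.node (.node (.leaf (.up 20 374 [1] 0 [])) (.leaf (.up 25 1701 [1] 0 []))) (.node (.leaf (.up 22 1086 [0] 0 [])) (.leaf (.up 30 3044 [1] 0 [93,43,23])))) (.node (.node (.leaf (.up 18 647 [0] 0 [])) (.leaf (.up 29 2836 [0] 0 [88,110,89,157])))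 (.leaf (.up 30 2146 [1] 0 []))))) (.node (.node (.node (.node (.leaf (.up 20 212 [0] 0 [])) (.leaf (.up 25 1891 [0] 0 []))) (.node (.leaf (.up 26 977 [0] 0 [])) (.leaf (.up 27 2634 [1] 0 [])))) (.node (.node (.leaf (.up 26 844 [1] 0 [])) (.leaf (.up 33 3041 [0] 0 []))) (.node (.leaf (.up 24 1421 [0] 0 [])) (.leaf (.up 33 3581 [1] 0 []))))) (.node (.node (.node (.leaf (.up 16 336 [0] 0 [])) (.leaf (.up 28 2145 [1] 0 [57,110,176,72]))) (.node (.leaf (.up 30 1192 [0] 0 [])) (.leaf (.up 31 3619 [1] 0 [])))) (.node (.node (.leaf (.up 21 965 [0] 0 [87,44,11])) (.leaf (.up 30 2653 [0] 0 []))) (.leaf (.up 26 1368 [1] 0 [])))))) (.node (.node (.node (.node (.node (.leaf (.up 21 80 [0] 0 [])) (.leaf (.up 30 1539 [1] 0 []))) (.node (.leaf (.up 21 923 [0] 0 [])) (.leaf (.up 29 3397 [1] 0 [])))) (.node (.node (.leaf (.up 23 763 [1] 0 [])) (.leaf (.up 29 2991 [1] 0 []))) (.node (.leaf (.up 25 1357 [0] 0 [])) (.leaf (.up 36 3738 [1] 0 [123,21]))))) (.node (.node (.node (.leaf (.up 21 452 [1] 0 [])) (.leaf (.up 29 1758 [1] 0 []))) (.node (.leaf (.up 31 1662 [1] 0 []))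 (.leaf (.up 31 3404 [1] 0 [87,110,155,193])))) (.node (.node (.leaf (.up 22 1063 [1] 0 [])) (.leaf (.up 33 3205 [1] 0 []))) (.leaf (.up 25 1593 [0] 0 []))))) (.node (.node (.node (.node (.leaf (.up 18 180 [0] 0 [])) (.leaf (.up 25 1643 [1] 0 []))) (.node (.leaf (.up 28 1034 [0] 0 [])) (.leaf (.up 27 2733 [1] 0 [])))) (.node (.node (.leaf (.up 21 541 [1] 0 [110,91,244])) (.leaf (.up 31 2108 [1] 0 []))) (.leaf (.up 33 2078 [1] 0 [])))) (.node (.node (.node (.leaf (.up 18 307 [1] 0 [])) (.leaf (.up 28 2191 [0] 0 []))) (.node (.leaf (.up 27 1798 [1] 0 [])) (.leaf (.up 32 3430 [1] 0 [57,94,176,224])))) (.node (.node (.leaf (.up 20 1163 [1] 0 [93,44,150])) (.leaf (.up 28 2392 [1] 0 []))) (.leaf (.up 26 2354 [1] 0 [])))))))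

noncomputable def trio0_01101 : Tr TStep :=
  .node (.node (.node (.node (.node (.node (.node (.leaf (.up 8 16 [0] 0 [])) (.leaf (.up 29 1761 [0] 0 []))) (.node (.leaf (.up 26 856 [0] 0 [])) (.leaf (.up 32 2790 [0] 0 [])))) (.node (.node (.leaf (.up 27 338 [1] 0 [])) (.leaf (.up 28 2913 [1] 0 []))) (.node (.leaf (.up 26 1283 [0] 0 [])) (.leaf (.up 33 3278 [1] 0 []))))) (.node (.node (.node (.leaf (.up 20 352 [1] 0 [])) (.leaf (.up 25 1683 [1] 0 []))) (.node (.leaf (.up 22 1074 [0] 0 [])) (.leaf (.up 30 3348 [1] 0 [87,94,116,128])))) (.node (.node (.leaf (.up 21 589 [1] 0 [88,110,140,234])) (.leaf (.up 28 3135 [0] 0 [55,155,192]))) (.leaf (.up 29 2129 [1] 0 []))))) (.node (.node (.node (.node (.leaf (.up 18 93 [1] 0 [])) (.leaf (.up 27 2543 [1] 0 []))) (.node (.leaf (.up 24 963 [0] 0 [])) (.leaf (.up 29 2939 [0] 0 [])))) (.node (.node (.leaf (.up 28 824 [0] 0 [])) (.leaf (.up 32 3029 [0] 0 []))) (.node (.leaf (.up 27 1156 [1] 0 [])) (.leaf (.up 36 3720 [0] 0 [56,90,33]))))) (.node (.node (.node (.leaf (.up 19 508 [1] 0 [])) (.leaf (.up 32 1799 [1] 0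 []))) (.node (.leaf (.up 23 967 [1] 0 [])) (.leaf (.up 31 3284 [0] 0 [])))) (.node (.node (.leaf (.up 22 746 [0] 0 [])) (.leaf (.up 31 2730 [1] 0 [88,110,42,12]))) (.leaf (.up 24 2271 [1] 0 [])))))) (.node (.node (.node (.node (.node (.leaf (.up 12 109 [1] 0 [])) (.leaf (.up 27 2476 [0] 0 []))) (.node (.leaf (.up 26 909 [0] 0 [])) (.leaf (.up 35 3387 [1] 0 [])))) (.node (.node (.leaf (.up 18 604 [0] 0 [88,56,140,228])) (.leaf (.up 30 2307 [0] 0 []))) (.node (.leaf (.up 24 1899 [0] 0 [88,55,104,195])) (.leaf (.up 33 3559 [0] 0 []))))) (.node (.node (.node (.leaf (.up 20 212 [1] 0 [])) (.leaf (.up 27 2053 [0] 0 []))) (.node (.leaf (.up 25 1125 [0] 0 [])) (.leaf (.up 32 2908 [1] 0 [])))) (.node (.node (.leaf (.up 27 688 [0] 0 [])) (.leaf (.up 27 2569 [0] 0 []))) (.leaf (.up 25 1579 [0] 0 []))))) (.node (.node (.node (.node (.leaf (.up 23 167 [0] 0 [])) (.leaf (.up 27 1934 [0] 0 []))) (.node (.leaf (.up 24 835 [1] 0 [])) (.leaf (.up 34 2698 [1] 0 [])))) (.node (.node (.leaf (.up 19 721 [0] 0 [89,158])) (.leaf (.up 28 2435 [0] 0 []))) (.leaf (.up 27 1464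 [0] 0 [])))) (.node (.node (.node (.leaf (.up 18 295 [1] 0 [])) (.leaf (.up 28 2177 [0] 0 []))) (.node (.leaf (.up 30 1782 [1] 0 [])) (.leaf (.up 35 3387 [0] 0 [])))) (.node (.node (.leaf (.up 22 800 [0] 0 [])) (.leaf (.up 32 3191 [0] 0 [87,93,91,164]))) (.leaf (.up 24 1413 [1] 0 []))))))) (.node (.node (.node (.node (.node (.node (.leaf (.up 9 34 [1] 0 [])) (.leaf (.up 25 1788 [0] 0 []))) (.node (.leaf (.up 26 1307 [1] 0 [])) (.leaf (.up 32 2490 [1] 0 [])))) (.node (.node (.leaf (.up 24 705 [1] 0 [])) (.leaf (.up 29 2943 [0] 0 []))) (.node (.leaf (.up 22 1314 [0] 0 [])) (.leaf (.up 34 3721 [0] 0 []))))) (.node (.node (.node (.leaf (.up 22 245 [0] 0 [])) (.leaf (.up 28 1718 [1] 0 []))) (.node (.leaf (.up 28 899 [1] 0 [])) (.leaf (.up 29 3154 [0] 0 [])))) (.node (.node (.leaf (.up 22 1003 [0] 0 [])) (.leaf (.up 28 3051 [0] 0 [57,176,178]))) (.leaf (.up 28 2162 [0] 0 []))))) (.node (.node (.node (.node (.leaf (.up 17 113 [1] 0 [])) (.leaf (.up 22 1602 [1] 0 []))) (.node (.leaf (.up 19 806 [1] 0 [])) (.leaf (.up 31 3460 [1] 0 [])))) (.node (.node (.leaf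 (.up 25 559 [0] 0 [])) (.leaf (.up 28 3053 [1] 0 []))) (.node (.leaf (.up 27 2026 [1] 0 [])) (.leaf (.up 37 3778 [1] 0 [94,116,76]))))) (.node (.node (.node (.leaf (.up 23 549 [1] 0 [])) (.leaf (.up 29 2822 [1] 0 []))) (.node (.leaf (.up 23 1749 [1] 0 [])) (.leaf (.up 34 3344 [0] 0 [])))) (.node (.node (.leaf (.up 27 773 [0] 0 [])) (.leaf (.up 30 2972 [1] 0 [123,69]))) (.leaf (.up 25 1385 [1] 0 [])))))) (.node (.node (.node (.node (.node (.leaf (.up 19 150 [1] 0 [])) (.leaf (.up 26 2278 [0] 0 [57,93,103,211]))) (.node (.leaf (.up 29 760 [1] 0 [])) (.leaf (.up 26 2904 [0] 0 [])))) (.node (.node (.leaf (.up 20 785 [1] 0 [])) (.leaf (.up 24 2337 [0] 0 []))) (.node (.leaf (.up 27 1963 [1] 0 [])) (.leaf (.up 32 3486 [1] 0 []))))) (.node (.node (.node (.leaf (.up 19 230 [1] 0 [])) (.leaf (.up 27 2273 [0] 0 [88,42,33]))) (.node (.leaf (.up 25 1151 [0] 0 [])) (.leaf (.up 26 3590 [1] 0 [])))) (.node (.node (.leaf (.up 20 716 [0] 0 [])) (.leaf (.up 28 2936 [1] 0 [57,104,153]))) (.leaf (.up 26 2234 [0] 0 []))))) (.node (.node (.node (.node (.leaf (.up 21 312 [1]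 0 [])) (.leaf (.up 27 1965 [0] 0 []))) (.node (.leaf (.up 28 1542 [1] 0 [])) (.leaf (.up 33 3067 [0] 0 [])))) (.node (.node (.leaf (.up 22 934 [1] 0 [])) (.leaf (.up 31 3106 [1] 0 []))) (.leaf (.up 29 2095 [0] 0 [])))) (.node (.node (.node (.leaf (.up 23 625 [1] 0 [])) (.leaf (.up 32 2751 [1] 0 [88,56,91,174]))) (.node (.leaf (.up 27 1037 [1] 0 [])) (.leaf (.up 34 3203 [1] 0 [])))) (.node (.node (.leaf (.up 29 666 [1] 0 [])) (.leaf (.up 34 3103 [0] 0 [57,93,116,175]))) (.leaf (.up 33 2371 [1] 0 [])))))))

noncomputable def trio0_0110 : Tr TStep := .node trio0_01100 trio0_01101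

noncomputable def trio0_01110 : Tr TStep :=
  .node (.node (.node (.node (.node (.node (.node (.leaf (.up 7 6 [1] 0 [])) (.leaf (.up 26 1754 [0] 0 []))) (.node (.leaf (.up 24 683 [1] 0 [])) (.leaf (.up 30 2791 [1] 0 [57,94,43,219])))) (.node (.node (.leaf (.up 18 655 [1] 0 [])) (.leaf (.up 30 1908 [1] 0 []))) (.node (.leaf (.up 29 1846 [1] 0 [])) (.leaf (.up 30 3255 [1] 0 []))))) (.node (.node (.node (.leaf (.up 18 341 [0] 0 [])) (.leaf (.up 28 2658 [0] 0 []))) (.node (.leaf (.up 27 1067 [0] 0 [])) (.leaf (.up 31 2816 [1] 0 [110,123,223])))) (.node (.node (.leaf (.up 23 629 [0] 0 [])) (.leaf (.up 33 3068 [0] 0 [57,94,176,157]))) (.leaf (.up 28 1249 [1] 0 []))))) (.node (.node (.node (.node (.leaf (.up 18 182 [1] 0 [])) (.leaf (.up 24 2533 [1] 0 []))) (.node (.leaf (.up 24 777 [1] 0 [])) (.leaf (.up 34 3428 [1] 0 [])))) (.node (.node (.leaf (.up 19 526 [0] 0 [])) (.leaf (.up 30 3021 [1] 0 []))) (.node (.leaf (.up 27 1990 [1] 0 [])) (.leaf (.up 33 3531 [1] 0 []))))) (.node (.node (.node (.leaf (.up 19 248 [1] 0 [])) (.leaf (.up 32 2105 [0] 0 []))) (.node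 (.leaf (.up 23 1703 [1] 0 [])) (.leaf (.up 32 3272 [0] 0 [])))) (.node (.node (.leaf (.up 22 739 [0] 0 [])) (.leaf (.up 29 3235 [1] 0 []))) (.leaf (.up 26 2263 [1] 0 [])))))) (.node (.node (.node (.node (.node (.leaf (.up 11 49 [1] 0 [])) (.leaf (.up 33 2468 [1] 0 []))) (.node (.leaf (.up 24 1338 [1] 0 [])) (.leaf (.up 31 3378 [0] 0 [])))) (.node (.node (.leaf (.up 22 376 [1] 0 [])) (.leaf (.up 32 1970 [1] 0 []))) (.node (.leaf (.up 29 1334 [0] 0 [])) (.leaf (.up 34 3392 [1] 0 []))))) (.node (.node (.node (.leaf (.up 15 207 [1] 0 [])) (.leaf (.up 25 1739 [1] 0 []))) (.node (.leaf (.up 24 1640 [1] 0 [])) (.leaf (.up 28 2897 [1] 0 [])))) (.node (.node (.leaf (.up 25 681 [0] 0 [])) (.leaf (.up 27 2560 [0] 0 []))) (.leaf (.up 30 1571 [0] 0 []))))) (.node (.node (.node (.node (.leaf (.up 17 263 [1] 0 [])) (.leaf (.up 26 1926 [0] 0 []))) (.node (.leaf (.up 30 1014 [0] 0 [])) (.leaf (.up 32 3008 [0] 0 [])))) (.node (.node (.leaf (.up 20 577 [0] 0 [])) (.leaf (.up 34 2919 [0] 0 [87,110,89,233]))) (.node (.leaf (.up 29 1455 [0] 0 [])) (.leaf (.up 36 3745 [1]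 0 []))))) (.node (.node (.node (.leaf (.up 15 290 [1] 0 [])) (.leaf (.up 33 2846 [1] 0 []))) (.node (.leaf (.up 29 1772 [1] 0 [])) (.leaf (.up 34 3650 [0] 0 [])))) (.node (.node (.leaf (.up 25 1187 [0] 0 [])) (.leaf (.up 32 3288 [0] 0 []))) (.leaf (.up 28 1686 [0] 0 []))))))) (.node (.node (.node (.node (.node (.node (.leaf (.up 8 29 [1] 0 [])) (.leaf (.up 32 2434 [1] 0 []))) (.node (.leaf (.up 23 876 [0] 0 [])) (.leaf (.up 28 3315 [0] 0 [57,110,176,205])))) (.node (.node (.leaf (.up 24 353 [1] 0 [])) (.leaf (.up 28 2936 [0] 0 []))) (.node (.leaf (.up 31 1305 [0] 0 [])) (.leaf (.up 36 3717 [0] 0 []))))) (.node (.node (.node (.leaf (.up 15 185 [1] 0 [])) (.leaf (.up 26 1709 [1] 0 []))) (.node (.leaf (.up 27 893 [1] 0 [])) (.leaf (.up 28 3181 [1] 0 [123,146])))) (.node (.node (.leaf (.up 21 653 [0] 0 [])) (.leaf (.up 32 2525 [0] 0 []))) (.leaf (.up 31 1781 [1] 0 [87,94,43,99]))))) (.node (.node (.node (.node (.leaf (.up 14 107 [1] 0 [])) (.leaf (.up 27 2564 [1] 0 []))) (.node (.leaf (.up 24 1453 [1] 0 [])) (.leaf (.up 31 2998 [1] 0 [94,43,158])))) (.node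 (.node (.leaf (.up 26 852 [1] 0 [])) (.leaf (.up 29 3046 [1] 0 []))) (.node (.leaf (.up 23 1176 [1] 0 [])) (.leaf (.up 32 3732 [1] 0 [57,55,91,69]))))) (.node (.node (.node (.leaf (.up 25 539 [1] 0 [])) (.leaf (.up 29 2818 [1] 0 []))) (.node (.leaf (.up 23 1741 [1] 0 [])) (.leaf (.up 30 3332 [0] 0 [])))) (.node (.node (.leaf (.up 25 1147 [1] 0 [])) (.leaf (.up 30 3265 [1] 0 []))) (.leaf (.up 23 1657 [0] 0 [])))))) (.node (.node (.node (.node (.node (.leaf (.up 16 87 [0] 0 [])) (.leaf (.up 27 1843 [0] 0 []))) (.node (.leaf (.up 19 1379 [1] 0 [])) (.leaf (.up 25 2558 [1] 0 [])))) (.node (.node (.leaf (.up 24 501 [0] 0 [])) (.leaf (.up 29 2999 [1] 0 []))) (.node (.leaf (.up 29 1365 [0] 0 [])) (.leaf (.up 31 3598 [0] 0 []))))) (.node (.node (.node (.leaf (.up 18 289 [0] 0 [])) (.leaf (.up 31 2755 [0] 0 []))) (.node (.leaf (.up 30 1143 [0] 0 [])) (.leaf (.up 31 3047 [1] 0 [87,56,90,143])))) (.node (.node (.leaf (.up 22 1074 [1] 0 [])) (.leaf (.up 27 2254 [1] 0 []))) (.leaf (.up 25 1600 [0] 0 []))))) (.node (.node (.node (.node (.leaf (.up 16 302 [1] 0 []))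 (.leaf (.up 27 1956 [0] 0 []))) (.node (.leaf (.up 27 1530 [1] 0 [])) (.leaf (.up 31 2745 [1] 0 [])))) (.node (.node (.leaf (.up 21 925 [1] 0 [])) (.leaf (.up 30 2116 [1] 0 []))) (.leaf (.up 31 2087 [0] 0 [])))) (.node (.node (.node (.leaf (.up 23 311 [1] 0 [])) (.leaf (.up 27 2879 [1] 0 []))) (.node (.leaf (.up 28 1252 [0] 0 [])) (.leaf (.up 34 3507 [0] 0 [57,110,91,12])))) (.node (.node (.leaf (.up 26 901 [0] 0 [94,176,233])) (.leaf (.up 27 2473 [1] 0 [57,110,90,111]))) (.leaf (.up 28 2362 [0] 0 [])))))))

noncomputable def trio0_01111 : Tr TStep :=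
  .node (.node (.node (.node (.node (.node (.node (.leaf (.up 10 39 [1] 0 [])) (.leaf (.up 32 2418 [0] 0 []))) (.node (.leaf (.up 28 862 [0] 0 [])) (.leaf (.up 34 2803 [0] 0 [])))) (.node (.node (.leaf (.up 23 344 [1] 0 [])) (.leaf (.up 29 1921 [1] 0 []))) (.node (.leaf (.up 24 1865 [1] 0 [])) (.leaf (.up 28 3490 [0] 0 []))))) (.node (.node (.node (.leaf (.up 19 224 [0] 0 [])) (.leaf (.up 26 2676 [0] 0 []))) (.node (.leaf (.up 27 1080 [0] 0 [])) (.leaf (.up 33 3119 [0] 0 [])))) (.node (.node (.leaf (.up 23 641 [0] 0 [])) (.leaf (.up 32 3144 [0] 0 []))) (.leaf (.up 31 2136 [0] 0 []))))) (.node (.node (.node (.node (.leaf (.up 18 203 [1] 0 [])) (.leaf (.up 29 1885 [0] 0 []))) (.node (.leaf (.up 19 791 [1] 0 [])) (.leaf (.up 29 2622 [1] 0 [])))) (.node (.node (.leaf (.up 22 429 [1] 0 [])) (.leaf (.up 31 2379 [0] 0 []))) (.node (.leaf (.up 27 1808 [1] 0 [93,155,142])) (.leaf (.up 35 3554 [1] 0 []))))) (.node (.node (.node (.leaf (.up 19 519 [1] 0 [])) (.leaf (.up 31 2801 [1] 0 []))) (.node (.leaf (.up 27 1185 [0] 0 [])) (.leaf (.up 31 3298 [0] 0 [])))) (.node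 (.node (.leaf (.up 25 1130 [1] 0 [])) (.leaf (.up 31 2645 [0] 0 []))) (.leaf (.up 26 2280 [1] 0 [])))))) (.node (.node (.node (.node (.node (.leaf (.up 15 58 [1] 0 [])) (.leaf (.up 27 2242 [0] 0 [57,110,42,143]))) (.node (.leaf (.up 22 916 [0] 0 [])) (.leaf (.up 28 2894 [1] 0 [57,56,42,209])))) (.node (.node (.leaf (.up 19 486 [0] 0 [])) (.leaf (.up 32 2983 [0] 0 []))) (.node (.leaf (.up 27 1110 [1] 0 [])) (.leaf (.up 32 3747 [1] 0 []))))) (.node (.node (.node (.leaf (.up 21 277 [0] 0 [])) (.leaf (.up 27 2060 [0] 0 []))) (.node (.leaf (.up 23 927 [1] 0 [])) (.leaf (.up 34 3503 [0] 0 [87,94,42,231])))) (.node (.node (.leaf (.up 27 1055 [1] 0 [])) (.leaf (.up 31 2237 [1] 0 []))) (.leaf (.up 30 1586 [0] 0 []))))) (.node (.node (.node (.node (.leaf (.up 18 284 [1] 0 [])) (.leaf (.up 28 2611 [0] 0 []))) (.node (.leaf (.up 30 1028 [0] 0 [])) (.leaf (.up 34 3033 [0] 0 [])))) (.node (.node (.leaf (.up 21 469 [1] 0 [])) (.leaf (.up 26 2102 [1] 0 []))) (.leaf (.up 28 1474 [0] 0 [])))) (.node (.node (.node (.leaf (.up 19 598 [1] 0 [])) (.leaf (.up 28 2185 [0] 0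 []))) (.node (.leaf (.up 28 1790 [1] 0 [])) (.leaf (.up 29 3397 [0] 0 [])))) (.node (.node (.leaf (.up 20 1206 [1] 0 [])) (.leaf (.up 28 2383 [1] 0 []))) (.leaf (.up 29 2345 [1] 0 []))))))) (.node (.node (.node (.node (.node (.node (.leaf (.up 9 50 [0] 0 [])) (.leaf (.up 27 1797 [0] 0 []))) (.node (.leaf (.up 21 718 [1] 0 [])) (.leaf (.up 29 2837 [0] 0 [])))) (.node (.node (.leaf (.up 19 363 [1] 0 [])) (.leaf (.up 28 2283 [0] 0 []))) (.node (.leaf (.up 21 1320 [0] 0 [])) (.leaf (.up 35 3529 [0] 0 []))))) (.node (.node (.node (.leaf (.up 20 402 [1] 0 [])) (.leaf (.up 30 1725 [1] 0 []))) (.node (.leaf (.up 30 1106 [0] 0 [])) (.leaf (.up 33 3070 [1] 0 [87,110,103,193])))) (.node (.node (.leaf (.up 30 535 [1] 0 [])) (.leaf (.up 27 2541 [0] 0 []))) (.leaf (.up 28 1281 [1] 0 []))))) (.node (.node (.node (.node (.leaf (.up 22 245 [1] 0 [])) (.leaf (.up 28 1607 [1] 0 []))) (.node (.leaf (.up 24 816 [1] 0 [])) (.leaf (.up 32 3462 [0] 0 [94,44,96])))) (.node (.node (.leaf (.up 23 869 [1] 0 [])) (.leaf (.up 29 3060 [1] 0 []))) (.node (.leaf (.up 27 1189 [1] 0 []))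 (.leaf (.up 34 3772 [1] 0 [57,55,89,174]))))) (.node (.node (.node (.leaf (.up 22 355 [0] 0 [])) (.leaf (.up 31 2156 [0] 0 []))) (.node (.leaf (.up 23 1000 [1] 0 [])) (.leaf (.up 35 3620 [0] 0 [88,56,89,222])))) (.node (.node (.leaf (.up 25 1169 [1] 0 [])) (.leaf (.up 32 3276 [1] 0 []))) (.leaf (.up 31 2314 [1] 0 [])))))) (.node (.node (.node (.node (.node (.leaf (.up 14 160 [1] 0 [])) (.leaf (.up 27 1558 [1] 0 []))) (.node (.leaf (.up 25 1397 [1] 0 [])) (.leaf (.up 26 2911 [0] 0 [])))) (.node (.node (.leaf (.up 24 514 [0] 0 [])) (.leaf (.up 30 3011 [1] 0 []))) (.node (.leaf (.up 30 1136 [1] 0 [])) (.leaf (.up 35 3499 [1] 0 []))))) (.node (.node (.node (.leaf (.up 19 477 [1] 0 [])) (.leaf (.up 32 2769 [0] 0 []))) (.node (.leaf (.up 30 1158 [0] 0 [])) (.leaf (.up 32 3467 [0] 0 [88,93,42,61])))) (.node (.node (.leaf (.up 25 1093 [1] 0 [])) (.leaf (.up 29 2272 [1] 0 []))) (.leaf (.up 26 2246 [1] 0 []))))) (.node (.node (.node (.node (.leaf (.up 18 200 [0] 0 [])) (.leaf (.up 35 1663 [1] 0 []))) (.node (.leaf (.up 30 1552 [1] 0 [])) (.leaf (.up 31 3403 [1]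 0 [87,55,175])))) (.node (.node (.leaf (.up 23 618 [0] 0 [])) (.leaf (.up 30 2475 [0] 0 []))) (.leaf (.up 27 1938 [0] 0 [55,219])))) (.node (.node (.node (.leaf (.up 18 322 [1] 0 [])) (.leaf (.up 24 2215 [0] 0 []))) (.node (.leaf (.up 26 1828 [1] 0 [])) (.leaf (.up 30 3221 [1] 0 [])))) (.node (.node (.leaf (.up 25 837 [0] 0 [])) (.leaf (.up 32 3163 [1] 0 [94,104,113]))) (.leaf (.up 26 1451 [1] 0 [])))))))

noncomputable def trio0_0111 : Tr TStep := .node trio0_01110 trio0_01111

noncomputable def trio0_011 : Tr TStep := .node trio0_0110 trio0_0111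

noncomputable def trio0_01 : Tr TStep := .node trio0_010 trio0_011

noncomputable def trio0_0 : Tr TStep := .node trio0_00 trio0_01

noncomputable def trio0_10000 : Tr TStep :=
  .node (.node (.node (.node (.node (.node (.node (.leaf (.up 2 3 [1] 0 [])) (.leaf (.up 23 1741 [0] 0 []))) (.node (.leaf (.up 26 839 [0] 0 [])) (.leaf (.up 36 3323 [0] 0 [])))) (.node (.node (.leaf (.up 23 324 [1] 0 [])) (.leaf (.up 28 2219 [0] 0 []))) (.node (.leaf (.up 30 1831 [1] 0 [])) (.leaf (.up 30 3437 [0] 0 []))))) (.node (.node (.node (.leaf (.up 21 325 [1] 0 [])) (.leaf (.up 26 1974 [0] 0 []))) (.node (.leaf (.up 27 1055 [0] 0 [])) (.leaf (.up 31 3405 [1] 0 [88,55,42,191])))) (.node (.node (.leaf (.up 23 620 [0] 0 [])) (.leaf (.up 30 2478 [0] 0 []))) (.leaf (.up 29 1506 [0] 0 []))))) (.node (.node (.node (.node (.leaf (.up 23 165 [1] 0 [])) (.leaf (.up 27 1629 [1] 0 [56,155,237]))) (.node (.leaf (.up 26 946 [0] 0 [])) (.leaf (.up 32 2600 [1] 0 [57,110,89,65])))) (.node (.node (.leaf (.up 22 411 [1] 0 [])) (.leaf (.up 29 3014 [1] 0 []))) (.node (.leaf (.up 26 1974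 [1] 0 [])) (.leaf (.up 31 3502 [1] 0 []))))) (.node (.node (.node (.leaf (.up 18 480 [0] 0 [])) (.leaf (.up 34 2771 [1] 0 []))) (.node (.leaf (.up 28 1693 [1] 0 [])) (.leaf (.up 35 3595 [1] 0 [])))) (.node (.node (.leaf (.up 25 1097 [1] 0 [])) (.leaf (.up 28 3225 [1] 0 []))) (.leaf (.up 28 1616 [0] 0 [])))))) (.node (.node (.node (.node (.node (.leaf (.up 15 82 [0] 0 [])) (.leaf (.up 34 2455 [1] 0 []))) (.node (.leaf (.up 21 720 [1] 0 [])) (.leaf (.up 30 3164 [0] 0 [88,94,155,179])))) (.node (.node (.leaf (.up 19 719 [1] 0 [])) (.leaf (.up 27 1954 [1] 0 []))) (.node (.leaf (.up 24 1904 [1] 0 [])) (.leaf (.up 31 3532 [0] 0 []))))) (.node (.node (.node (.leaf (.up 17 255 [0] 0 [])) (.leaf (.up 30 2706 [1] 0 []))) (.node (.leaf (.up 28 1627 [1] 0 [])) (.leaf (.up 31 3547 [1] 0 [])))) (.node (.node (.leaf (.up 27 668 [0] 0 [])) (.leaf (.up 27 2544 [0] 0 []))) (.leaf (.up 28 2174 [1] 0 []))))) (.node (.node (.node (.node (.leaf (.up 17 119 [1] 0 [])) (.leaf (.up 26 1610 [1] 0 []))) (.node (.leaf (.up 19 820 [1] 0 [])) (.leaf (.up 29 3020 [1] 0 [87,94,104,213]))))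 (.node (.node (.leaf (.up 23 451 [1] 0 [])) (.leaf (.up 27 2545 [0] 0 [88,44,129]))) (.node (.leaf (.up 27 2037 [1] 0 [])) (.leaf (.up 32 3747 [0] 0 []))))) (.node (.node (.node (.leaf (.up 20 281 [1] 0 [])) (.leaf (.up 28 1840 [1] 0 []))) (.node (.leaf (.up 22 1003 [1] 0 [])) (.leaf (.up 32 3361 [0] 0 [])))) (.node (.node (.leaf (.up 25 1172 [1] 0 [])) (.leaf (.up 29 3281 [1] 0 []))) (.leaf (.up 28 1675 [0] 0 []))))))) (.node (.node (.node (.node (.node (.node (.leaf (.up 14 42 [1] 0 [])) (.leaf (.up 28 2422 [1] 0 []))) (.node (.leaf (.up 23 865 [0] 0 [])) (.leaf (.up 32 2806 [0] 0 [])))) (.node (.node (.leaf (.up 24 435 [0] 0 [])) (.leaf (.up 30 2925 [1] 0 []))) (.node (.leaf (.up 26 1452 [1] 0 [88,93,43,196])) (.leaf (.up 34 3569 [0] 0 [57,56,103,198]))))) (.node (.node (.node (.leaf (.up 17 367 [1] 0 [])) (.leaf (.up 23 2297 [1] 0 [87,55,103,238]))) (.node (.leaf (.up 23 1082 [0] 0 [])) (.leaf (.up 31 3522 [1] 0 [])))) (.node (.node (.leaf (.up 21 983 [1] 0 [])) (.leaf (.up 28 2400 [1] 0 [57,110,103,127]))) (.leaf (.up 31 2140 [1] 0 []))))) (.node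 (.node (.node (.node (.leaf (.up 15 127 [0] 0 [])) (.leaf (.up 29 1887 [0] 0 []))) (.node (.leaf (.up 26 1353 [1] 0 [88,56,103,201])) (.leaf (.up 32 3440 [1] 0 [])))) (.node (.node (.leaf (.up 24 542 [0] 0 [])) (.leaf (.up 29 3036 [1] 0 []))) (.node (.leaf (.up 29 1414 [0] 0 [])) (.leaf (.up 35 3675 [0] 0 []))))) (.node (.node (.node (.leaf (.up 19 262 [1] 0 [])) (.leaf (.up 30 2124 [0] 0 []))) (.node (.leaf (.up 30 1723 [1] 0 [])) (.leaf (.up 28 3302 [0] 0 [])))) (.node (.node (.leaf (.up 20 606 [1] 0 [])) (.leaf (.up 28 2401 [1] 0 [88,104,145]))) (.leaf (.up 28 2283 [1] 0 [])))))) (.node (.node (.node (.node (.node (.leaf (.up 12 76 [0] 0 [])) (.leaf (.up 27 1829 [0] 0 []))) (.node (.leaf (.up 24 1361 [1] 0 [])) (.leaf (.up 32 3394 [1] 0 [])))) (.node (.node (.leaf (.up 27 756 [1] 0 [])) (.leaf (.up 29 1984 [1] 0 []))) (.node (.leaf (.up 27 1937 [1] 0 [])) (.leaf (.up 31 3582 [0] 0 []))))) (.node (.node (.node (.leaf (.up 23 279 [0] 0 [])) (.leaf (.up 27 2064 [0] 0 []))) (.node (.leaf (.up 23 1657 [1] 0 [])) (.leaf (.up 31 2922 [1] 0 [])))) (.node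 (.node (.leaf (.up 22 561 [1] 0 [])) (.leaf (.up 27 2941 [1] 0 [57,56,90,169]))) (.leaf (.up 26 1589 [0] 0 []))))) (.node (.node (.node (.node (.leaf (.up 15 176 [0] 0 [])) (.leaf (.up 26 1638 [1] 0 []))) (.node (.leaf (.up 27 1030 [0] 0 [])) (.leaf (.up 29 2890 [1] 0 [87,93,123,156])))) (.node (.node (.leaf (.up 23 592 [0] 0 [])) (.leaf (.up 29 3045 [0] 0 [87,93,104,209]))) (.leaf (.up 28 2071 [1] 0 [])))) (.node (.node (.node (.leaf (.up 18 304 [1] 0 [])) (.leaf (.up 28 2187 [0] 0 []))) (.node (.leaf (.up 28 1023 [1] 0 [])) (.leaf (.up 32 3624 [0] 0 [88,56,42,105])))) (.node (.node (.leaf (.up 25 1208 [1] 0 [])) (.leaf (.up 32 3215 [1] 0 [88,116,183]))) (.leaf (.up 24 1426 [1] 0 [])))))))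

noncomputable def trio0_10001 : Tr TStep :=
  .node (.node (.node (.node (.node (.node (.node (.leaf (.up 4 12 [0] 0 [])) (.leaf (.up 25 2404 [1] 0 []))) (.node (.leaf (.up 26 852 [0] 0 [])) (.leaf (.up 33 3339 [1] 0 [])))) (.node (.node (.leaf (.up 18 480 [1] 0 [87,55,116,131])) (.leaf (.up 24 1911 [1] 0 []))) (.node (.leaf (.up 27 1850 [1] 0 [])) (.leaf (.up 32 3468 [0] 0 []))))) (.node (.node (.node (.leaf (.up 22 215 [0] 0 [])) (.leaf (.up 27 1990 [0] 0 []))) (.node (.leaf (.up 27 1069 [0] 0 [])) (.leaf (.up 30 3100 [0] 0 [])))) (.node (.node (.leaf (.up 19 722 [0] 0 [88,93,44,229])) (.leaf (.up 30 2498 [0] 0 []))) (.leaf (.up 30 2124 [1] 0 []))))) (.node (.node (.node (.node (.leaf (.up 13 90 [1] 0 [])) (.leaf (.up 27 2536 [1] 0 []))) (.node (.leaf (.up 24 779 [1] 0 [])) (.leaf (.up 29 2933 [0] 0 [])))) (.node (.node (.leaf (.up 19 528 [0] 0 [])) (.leaf (.up 31 2369 [0] 0 []))) (.node (.leaf (.up 27 1439 [0] 0 [87,94,42,98])) (.leaf (.up 32 3770 [1] 0 [87,55,91,179]))))) (.node (.node (.node (.leaf (.up 21 318 [0] 0 [])) (.leaf (.up 31 2107 [0]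 0 []))) (.node (.leaf (.up 26 1707 [1] 0 [])) (.leaf (.up 30 3455 [1] 0 [110,42,27])))) (.node (.node (.leaf (.up 22 742 [0] 0 [])) (.leaf (.up 28 2294 [1] 0 []))) (.leaf (.up 26 1351 [1] 0 [])))))) (.node (.node (.node (.node (.node (.leaf (.up 17 64 [0] 0 [])) (.leaf (.up 28 1522 [1] 0 []))) (.node (.leaf (.up 24 735 [1] 0 [])) (.leaf (.up 29 2517 [1] 0 [])))) (.node (.node (.leaf (.up 22 739 [1] 0 [])) (.leaf (.up 31 2303 [0] 0 []))) (.node (.leaf (.up 27 1923 [1] 0 [])) (.leaf (.up 35 3510 [1] 0 [93,104,220]))))) (.node (.node (.node (.leaf (.up 26 424 [0] 0 [])) (.leaf (.up 25 2725 [1] 0 []))) (.node (.leaf (.up 23 918 [1] 0 [])) (.leaf (.up 28 2903 [1] 0 [])))) (.node (.node (.leaf (.up 25 1038 [1] 0 [])) (.leaf (.up 27 2564 [0] 0 []))) (.leaf (.up 25 1574 [0] 0 []))))) (.node (.node (.node (.node (.leaf (.up 12 128 [1] 0 [])) (.leaf (.up 28 2598 [1] 0 []))) (.node (.leaf (.up 29 1017 [0] 0 [])) (.leaf (.up 28 3054 [0] 0 [55,140,225])))) (.node (.node (.leaf (.up 18 461 [1] 0 [])) (.leaf (.up 31 2949 [1] 0 [57,56,123,183]))) (.node (.leaf (.up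 24 1458 [0] 0 [])) (.leaf (.up 38 3791 [1] 0 [87,55,176,160]))))) (.node (.node (.node (.leaf (.up 21 582 [0] 0 [])) (.leaf (.up 29 2849 [1] 0 []))) (.node (.leaf (.up 27 1775 [0] 0 [])) (.leaf (.up 34 3379 [0] 0 [])))) (.node (.node (.leaf (.up 25 1191 [1] 0 [])) (.leaf (.up 30 2707 [0] 0 []))) (.leaf (.up 31 2332 [1] 0 []))))))) (.node (.node (.node (.node (.node (.node (.leaf (.up 10 40 [0] 0 [])) (.leaf (.up 27 1495 [1] 0 []))) (.node (.leaf (.up 23 878 [0] 0 [])) (.leaf (.up 32 2482 [1] 0 [])))) (.node (.node (.leaf (.up 21 447 [0] 0 [])) (.leaf (.up 29 2939 [1] 0 []))) (.node (.leaf (.up 26 1307 [0] 0 [])) (.leaf (.up 36 3718 [1] 0 []))))) (.node (.node (.node (.leaf (.up 17 241 [0] 0 [])) (.leaf (.up 27 2022 [0] 0 []))) (.node (.leaf (.up 28 1609 [1] 0 [])) (.leaf (.up 33 2850 [1] 0 [])))) (.node (.node (.leaf (.up 21 527 [1] 0 [])) (.leaf (.up 29 3147 [1] 0 [55,43,119]))) (.leaf (.up 25 1595 [0] 0 [88,94,89,114]))))) (.node (.node (.node (.node (.leaf (.up 14 227 [1] 0 [])) (.leaf (.up 27 1599 [1] 0 []))) (.node (.leaf (.up 24 1456 [1] 0 []))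 (.leaf (.up 32 2975 [0] 0 [])))) (.node (.node (.leaf (.up 23 555 [0] 0 [])) (.leaf (.up 29 3048 [1] 0 []))) (.node (.leaf (.up 24 1431 [0] 0 [])) (.leaf (.up 33 3702 [0] 0 []))))) (.node (.node (.node (.leaf (.up 25 345 [0] 0 [])) (.leaf (.up 31 2140 [0] 0 []))) (.node (.leaf (.up 25 1202 [0] 0 [])) (.leaf (.up 32 3336 [0] 0 [])))) (.node (.node (.leaf (.up 22 768 [0] 0 [])) (.leaf (.up 30 2750 [0] 0 [87,55,89,20]))) (.leaf (.up 32 1999 [0] 0 [87,43,36])))))) (.node (.node (.node (.node (.node (.leaf (.up 16 89 [0] 0 [])) (.leaf (.up 30 2502 [1] 0 []))) (.node (.leaf (.up 31 933 [0] 0 [])) (.leaf (.up 29 3406 [1] 0 [])))) (.node (.node (.leaf (.up 22 776 [0] 0 [])) (.leaf (.up 31 2506 [1] 0 [87,93,90,97]))) (.node (.leaf (.up 24 1367 [0] 0 [])) (.leaf (.up 34 3695 [0] 0 [93,140,97]))))) (.node (.node (.node (.leaf (.up 24 464 [1] 0 [])) (.leaf (.up 34 2758 [0] 0 []))) (.node (.leaf (.up 28 1674 [1] 0 [])) (.leaf (.up 32 3587 [1] 0 [])))) (.node (.node (.leaf (.up 24 712 [0] 0 [])) (.leaf (.up 32 2599 [0] 0 []))) (.leaf (.up 23 2230 [1] 0 []))))) (.node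 (.node (.node (.node (.leaf (.up 16 306 [1] 0 [])) (.leaf (.up 29 2534 [1] 0 [87,110,91,182]))) (.node (.leaf (.up 25 1535 [1] 0 [])) (.leaf (.up 35 2754 [1] 0 [])))) (.node (.node (.leaf (.up 21 929 [1] 0 [])) (.leaf (.up 30 2120 [1] 0 []))) (.leaf (.up 23 2020 [1] 0 [110,116,72])))) (.node (.node (.node (.leaf (.up 20 397 [0] 0 [])) (.leaf (.up 26 1880 [1] 0 []))) (.node (.leaf (.up 30 1813 [1] 0 [])) (.leaf (.up 33 3197 [1] 0 [])))) (.node (.node (.leaf (.up 31 828 [0] 0 [])) (.leaf (.up 32 3310 [1] 0 []))) (.leaf (.up 28 1726 [0] 0 [])))))))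

noncomputable def trio0_1000 : Tr TStep := .node trio0_10000 trio0_10001

noncomputable def trio0_10010 : Tr TStep :=
  .node (.node (.node (.node (.node (.node (.node (.leaf (.up 8 14 [1] 0 [])) (.leaf (.up 23 1749 [0] 0 []))) (.node (.leaf (.up 26 679 [1] 0 [])) (.leaf (.up 29 3333 [1] 0 [])))) (.node (.node (.leaf (.up 23 649 [1] 0 [])) (.leaf (.up 26 1903 [1] 0 []))) (.node (.leaf (.up 27 1048 [1] 0 [])) (.leaf (.up 33 3450 [0] 0 []))))) (.node (.node (.node (.leaf (.up 16 194 [1] 0 [57,56,44,237])) (.leaf (.up 30 2653 [1] 0 []))) (.node (.leaf (.up 22 1063 [0] 0 [])) (.leaf (.up 31 3088 [0] 0 [])))) (.node (.node (.leaf (.up 23 626 [0] 0 [])) (.leaf (.up 30 3125 [1] 0 []))) (.leaf (.up 31 2114 [0] 0 []))))) (.node (.node (.node (.node (.leaf (.up 15 176 [1] 0 [])) (.leaf (.up 27 2527 [1] 0 []))) (.node (.leaf (.up 24 774 [1] 0 [])) (.leaf (.up 32 3425 [1] 0 [])))) (.node (.node (.leaf (.up 22 416 [1] 0 [])) (.leaf (.up 29 2595 [0] 0 [57,94,90,238]))) (.node (.leaf (.up 29 1393 [0] 0 [])) (.leaf (.up 33 3767 [1] 0 []))))) (.node (.node (.node (.leaf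 (.up 24 492 [1] 0 [])) (.leaf (.up 28 2319 [1] 0 [57,56,42,222]))) (.node (.leaf (.up 23 957 [1] 0 [])) (.leaf (.up 33 3244 [1] 0 [93,140,197])))) (.node (.node (.leaf (.up 25 1105 [1] 0 [])) (.leaf (.up 30 2626 [0] 0 []))) (.leaf (.up 29 2257 [0] 0 [])))))) (.node (.node (.node (.node (.node (.leaf (.up 16 94 [1] 0 [])) (.leaf (.up 32 1807 [0] 0 []))) (.node (.leaf (.up 24 727 [1] 0 [])) (.leaf (.up 33 3206 [0] 0 [87,93,131])))) (.node (.node (.leaf (.up 24 467 [0] 0 [])) (.leaf (.up 26 2295 [0] 0 []))) (.node (.leaf (.up 27 1094 [1] 0 [])) (.leaf (.up 36 3722 [1] 0 [57,55,43,29]))))) (.node (.node (.node (.leaf (.up 17 261 [0] 0 [])) (.leaf (.up 32 2716 [1] 0 []))) (.node (.leaf (.up 25 1115 [0] 0 [])) (.leaf (.up 34 3556 [1] 0 [])))) (.node (.node (.leaf (.up 30 1027 [0] 0 [])) (.leaf (.up 31 2839 [1] 0 [87,94,140,132]))) (.leaf (.up 23 1289 [1] 0 []))))) (.node (.node (.node (.node (.leaf (.up 14 157 [0] 0 [])) (.leaf (.up 30 2588 [1] 0 []))) (.node (.leaf (.up 30 1483 [1] 0 [])) (.leaf (.up 30 3003 [0] 0 [])))) (.node (.node (.leaf (.up 23 883 [1]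 0 [])) (.leaf (.up 30 2421 [0] 0 []))) (.node (.leaf (.up 27 1196 [1] 0 [])) (.leaf (.up 35 3733 [1] 0 [88,93,116,152]))))) (.node (.node (.node (.leaf (.up 20 286 [1] 0 [])) (.leaf (.up 31 2841 [1] 0 []))) (.node (.leaf (.up 34 1766 [1] 0 [])) (.leaf (.up 34 3355 [1] 0 [56,42,241])))) (.node (.node (.leaf (.up 22 790 [0] 0 [])) (.leaf (.up 29 2747 [0] 0 [88,55,116,183]))) (.leaf (.up 26 1399 [1] 0 []))))))) (.node (.node (.node (.node (.node (.node (.leaf (.up 15 33 [0] 0 [])) (.leaf (.up 25 1702 [1] 0 [57,93,155,75]))) (.node (.leaf (.up 26 704 [1] 0 [])) (.leaf (.up 32 3029 [1] 0 [57,94,140,129])))) (.node (.node (.leaf (.up 22 350 [1] 0 [])) (.leaf (.up 29 1932 [1] 0 []))) (.node (.leaf (.up 24 1071 [1] 0 [])) (.leaf (.up 32 3713 [1] 0 []))))) (.node (.node (.node (.leaf (.up 20 378 [1] 0 [])) (.leaf (.up 28 1706 [1] 0 []))) (.node (.leaf (.up 25 1600 [1] 0 [])) (.leaf (.up 33 3133 [0] 0 [])))) (.node (.node (.leaf (.up 23 650 [0] 0 [])) (.leaf (.up 29 2521 [0] 0 []))) (.leaf (.up 31 2150 [1] 0 []))))) (.node (.node (.node (.node (.leaf (.up 19 133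 [0] 0 [])) (.leaf (.up 27 1591 [1] 0 []))) (.node (.leaf (.up 26 979 [0] 0 [])) (.leaf (.up 32 2637 [1] 0 [])))) (.node (.node (.leaf (.up 24 847 [1] 0 [])) (.leaf (.up 29 2051 [1] 0 []))) (.node (.leaf (.up 24 1424 [0] 0 [])) (.leaf (.up 33 3779 [1] 0 []))))) (.node (.node (.node (.leaf (.up 28 267 [1] 0 [])) (.leaf (.up 26 2743 [1] 0 [88,56,90,204]))) (.node (.leaf (.up 28 1735 [1] 0 [])) (.leaf (.up 30 3081 [1] 0 [87,93,44])))) (.node (.node (.leaf (.up 27 761 [0] 0 [])) (.leaf (.up 33 3260 [1] 0 []))) (.leaf (.up 26 2234 [1] 0 [88,93,176,75])))))) (.node (.node (.node (.node (.node (.leaf (.up 16 83 [0] 0 [])) (.leaf (.up 30 2491 [1] 0 []))) (.node (.leaf (.up 26 926 [0] 0 [])) (.leaf (.up 34 3400 [1] 0 [])))) (.node (.node (.leaf (.up 22 395 [1] 0 [])) (.leaf (.up 28 2994 [0] 0 []))) (.node (.leaf (.up 27 1411 [1] 0 [88,94,103,7])) (.leaf (.up 36 3591 [0] 0 []))))) (.node (.node (.node (.leaf (.up 16 223 [1] 0 [])) (.leaf (.up 30 2750 [1] 0 []))) (.node (.leaf (.up 24 1139 [0] 0 [])) (.leaf (.up 31 2937 [1] 0 [])))) (.node (.node (.leaf (.up 24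 706 [0] 0 [])) (.leaf (.up 33 3208 [1] 0 []))) (.leaf (.up 23 1318 [1] 0 []))))) (.node (.node (.node (.node (.leaf (.up 18 182 [0] 0 [])) (.leaf (.up 30 2216 [1] 0 [87,103,225]))) (.node (.leaf (.up 28 848 [1] 0 [])) (.leaf (.up 30 2738 [1] 0 [])))) (.node (.node (.leaf (.up 23 599 [0] 0 [])) (.leaf (.up 33 2454 [0] 0 []))) (.leaf (.up 29 2081 [0] 0 [])))) (.node (.node (.node (.leaf (.up 28 609 [0] 0 [])) (.leaf (.up 31 2876 [1] 0 []))) (.node (.leaf (.up 31 1803 [1] 0 [])) (.leaf (.up 29 3409 [0] 0 [])))) (.node (.node (.leaf (.up 20 658 [1] 0 [])) (.leaf (.up 29 2915 [0] 0 [93,123,100]))) (.leaf (.up 21 1435 [1] 0 [])))))))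

noncomputable def trio0_10011 : Tr TStep :=
  .node (.node (.node (.node (.node (.node (.node (.leaf (.up 12 18 [0] 0 [])) (.leaf (.up 31 2132 [0] 0 [88,55,91,46]))) (.node (.leaf (.up 24 690 [1] 0 [])) (.leaf (.up 28 3283 [0] 0 [88,93,42,18])))) (.node (.node (.leaf (.up 27 668 [1] 0 [])) (.leaf (.up 34 2917 [1] 0 []))) (.node (.leaf (.up 25 1285 [0] 0 [])) (.leaf (.up 32 3587 [0] 0 [60]))))) (.node (.node (.node (.leaf (.up 19 221 [0] 0 [])) (.leaf (.up 30 2672 [1] 0 []))) (.node (.leaf (.up 30 1583 [1] 0 [])) (.leaf (.up 33 3113 [0] 0 [])))) (.node (.node (.leaf (.up 26 512 [1] 0 [])) (.leaf (.up 30 3138 [0] 0 []))) (.leaf (.up 31 2132 [1] 0 []))))) (.node (.node (.node (.node (.leaf (.up 15 121 [0] 0 [])) (.leaf (.up 24 1881 [0] 0 []))) (.node (.leaf (.up 20 787 [1] 0 [])) (.leaf (.up 27 2615 [1] 0 [])))) (.node (.node (.leaf (.up 31 830 [1] 0 [])) (.leaf (.up 31 2375 [0] 0 []))) (.node (.leaf (.up 29 1407 [0] 0 [])) (.leaf (.up 35 3662 [0] 0 []))))) (.node (.node (.node (.leaf (.up 24 513 [1] 0 [])) (.leaf (.up 30 2795 [1] 0 []))) (.node (.leaf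 (.up 23 969 [1] 0 [])) (.leaf (.up 32 3289 [0] 0 [])))) (.node (.node (.leaf (.up 25 1125 [1] 0 [])) (.leaf (.up 33 3244 [0] 0 []))) (.leaf (.up 24 1640 [0] 0 [])))))) (.node (.node (.node (.node (.node (.leaf (.up 15 114 [1] 0 [])) (.leaf (.up 30 1529 [1] 0 []))) (.node (.leaf (.up 24 740 [1] 0 [])) (.leaf (.up 32 3287 [0] 0 [57,55,90,107])))) (.node (.node (.leaf (.up 22 404 [1] 0 [87,110,155,124])) (.leaf (.up 29 2977 [1] 0 []))) (.node (.leaf (.up 25 1931 [1] 0 [])) (.leaf (.up 30 3565 [0] 0 []))))) (.node (.node (.node (.leaf (.up 24 214 [1] 0 [])) (.leaf (.up 27 2055 [0] 0 []))) (.node (.leaf (.up 23 924 [1] 0 [])) (.leaf (.up 30 3571 [1] 0 [])))) (.node (.node (.leaf (.up 25 1049 [1] 0 [])) (.leaf (.up 29 2572 [0] 0 []))) (.leaf (.up 23 2202 [1] 0 []))))) (.node (.node (.node (.node (.leaf (.up 21 277 [1] 0 [])) (.leaf (.up 29 2606 [1] 0 []))) (.node (.leaf (.up 29 1505 [1] 0 [])) (.leaf (.up 31 2704 [1] 0 [])))) (.node (.node (.leaf (.up 26 900 [1] 0 [])) (.leaf (.up 31 2098 [1] 0 []))) (.leaf (.up 26 2061 [1] 0 [])))) (.node (.node (.node (.leaf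 (.up 20 378 [0] 0 [])) (.leaf (.up 28 2797 [1] 0 [110,123,127]))) (.node (.leaf (.up 28 1018 [1] 0 [])) (.leaf (.up 34 3660 [1] 0 [])))) (.node (.node (.leaf (.up 22 803 [0] 0 [])) (.leaf (.up 33 3295 [1] 0 []))) (.leaf (.up 25 2340 [1] 0 []))))))) (.node (.node (.node (.node (.node (.node (.leaf (.up 9 46 [0] 0 [])) (.leaf (.up 31 1504 [1] 0 []))) (.node (.leaf (.up 23 885 [0] 0 [])) (.leaf (.up 31 2992 [1] 0 [94,99])))) (.node (.node (.leaf (.up 19 360 [1] 0 [])) (.leaf (.up 29 1946 [1] 0 []))) (.node (.leaf (.up 24 1420 [1] 0 [87,110,140,229])) (.leaf (.up 31 3522 [0] 0 []))))) (.node (.node (.node (.leaf (.up 20 397 [1] 0 [])) (.leaf (.up 32 2699 [1] 0 []))) (.node (.leaf (.up 25 1102 [0] 0 [])) (.leaf (.up 34 3540 [1] 0 [])))) (.node (.node (.leaf (.up 30 532 [1] 0 [])) (.leaf (.up 27 2535 [0] 0 []))) (.leaf (.up 27 2166 [1] 0 []))))) (.node (.node (.node (.node (.leaf (.up 14 145 [0] 0 [])) (.leaf (.up 31 2574 [1] 0 []))) (.node (.leaf (.up 26 994 [0] 0 [])) (.leaf (.up 30 3171 [0] 0 [94,116,174])))) (.node (.node (.leaf (.up 23 446 [1] 0 []))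 (.leaf (.up 30 2406 [0] 0 []))) (.node (.leaf (.up 22 1203 [1] 0 [110,140,247])) (.leaf (.up 34 3726 [0] 0 []))))) (.node (.node (.node (.leaf (.up 23 553 [1] 0 [])) (.leaf (.up 29 1835 [1] 0 []))) (.node (.leaf (.up 25 1687 [1] 0 [88,55,103,76])) (.leaf (.up 33 3105 [1] 0 [])))) (.node (.node (.leaf (.up 23 775 [0] 0 [])) (.leaf (.up 28 3117 [1] 0 [87,110,44,152]))) (.leaf (.up 30 2308 [1] 0 [])))))) (.node (.node (.node (.node (.node (.leaf (.up 14 74 [1] 0 [])) (.leaf (.up 32 2511 [1] 0 []))) (.node (.leaf (.up 26 939 [0] 0 [])) (.leaf (.up 28 2907 [0] 0 [])))) (.node (.node (.leaf (.up 19 510 [0] 0 [])) (.leaf (.up 25 2340 [0] 0 []))) (.node (.leaf (.up 22 1133 [1] 0 [])) (.leaf (.up 30 3669 [1] 0 [57,94,91,208]))))) (.node (.node (.node (.leaf (.up 21 297 [0] 0 [])) (.leaf (.up 35 2766 [1] 0 []))) (.node (.leaf (.up 25 1155 [0] 0 [])) (.leaf (.up 37 2967 [1] 0 [])))) (.node (.node (.leaf (.up 19 719 [0] 0 [])) (.leaf (.up 30 2607 [0] 0 []))) (.leaf (.up 28 2239 [1] 0 []))))) (.node (.node (.node (.node (.leaf (.up 16 153 [1] 0 [])) (.leaf (.up 22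 1967 [0] 0 []))) (.node (.leaf (.up 25 1049 [0] 0 [])) (.leaf (.up 31 3497 [0] 0 [])))) (.node (.node (.leaf (.up 26 491 [1] 0 [])) (.leaf (.up 29 3108 [0] 0 []))) (.leaf (.up 28 2099 [1] 0 [])))) (.node (.node (.node (.leaf (.up 18 319 [1] 0 [])) (.leaf (.up 31 2888 [1] 0 []))) (.node (.leaf (.up 29 1261 [0] 0 [])) (.leaf (.up 35 3605 [1] 0 [110,104,9])))) (.node (.node (.leaf (.up 28 1234 [1] 0 [])) (.leaf (.up 32 2974 [1] 0 [87,176,166]))) (.leaf (.up 28 2003 [1] 0 [57,55,104,211])))))))

noncomputable def trio0_1001 : Tr TStep := .node trio0_10010 trio0_10011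

noncomputable def trio0_100 : Tr TStep := .node trio0_1000 trio0_1001

noncomputable def trio0_10100 : Tr TStep :=
  .node (.node (.node (.node (.node (.node (.node (.leaf (.up 2 3 [0] 0 [])) (.leaf (.up 26 2391 [1] 0 []))) (.node (.leaf (.up 29 1248 [1] 0 [])) (.leaf (.up 32 3329 [0] 0 [])))) (.node (.node (.leaf (.up 18 328 [1] 0 [])) (.leaf (.up 26 2899 [1] 0 []))) (.node (.leaf (.up 29 1270 [0] 0 [])) (.leaf (.up 30 3597 [1] 0 [57,110,176,109]))))) (.node (.node (.node (.leaf (.up 16 330 [1] 0 [])) (.leaf (.up 30 2649 [0] 0 []))) (.node (.leaf (.up 24 1562 [1] 0 [])) (.leaf (.up 28 3383 [0] 0 [57,110,103,36])))) (.node (.node (.leaf (.up 26 951 [1] 0 [])) (.leaf (.up 33 3121 [1] 0 []))) (.leaf (.up 26 1244 [1] 0 []))))) (.node (.node (.node (.node (.leaf (.up 18 170 [1] 0 [])) (.leaf (.up 24 1865 [0] 0 []))) (.node (.leaf (.up 24 1405 [1] 0 [])) (.leaf (.up 32 2586 [1] 0 [])))) (.node (.node (.leaf (.up 19 519 [0] 0 [])) (.leaf (.up 24 3016 [0] 0 [94,90,149]))) (.node (.leaf (.up 31 1977 [0] 0 [])) (.leaf (.up 35 3716 [1] 0 [57,93,89,77]))))) (.node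 (.node (.node (.leaf (.up 16 308 [0] 0 [])) (.leaf (.up 29 2776 [0] 0 []))) (.node (.leaf (.up 23 1164 [0] 0 [])) (.leaf (.up 28 3267 [0] 0 [88,93,90,238])))) (.node (.node (.leaf (.up 25 940 [1] 0 [88,56,42,233])) (.leaf (.up 30 2620 [0] 0 []))) (.leaf (.up 27 1619 [0] 0 [])))))) (.node (.node (.node (.node (.node (.leaf (.up 11 44 [1] 0 [])) (.leaf (.up 31 1830 [1] 0 [56,140,172]))) (.node (.leaf (.up 24 1327 [0] 0 [])) (.leaf (.up 29 3374 [0] 0 [])))) (.node (.node (.leaf (.up 24 464 [0] 0 [])) (.leaf (.up 29 2957 [1] 0 []))) (.node (.leaf (.up 27 1910 [1] 0 [])) (.leaf (.up 35 3730 [1] 0 []))))) (.node (.node (.node (.leaf (.up 20 202 [1] 0 [])) (.leaf (.up 29 2711 [1] 0 []))) (.node (.leaf (.up 23 910 [1] 0 [])) (.leaf (.up 28 2878 [1] 0 [])))) (.node (.node (.leaf (.up 24 540 [1] 0 [])) (.leaf (.up 32 2551 [0] 0 []))) (.leaf (.up 27 1286 [1] 0 []))))) (.node (.node (.node (.node (.leaf (.up 19 154 [0] 0 [])) (.leaf (.up 27 1918 [0] 0 []))) (.node (.leaf (.up 28 824 [1] 0 [])) (.leaf (.up 32 2668 [1] 0 [])))) (.node (.node (.leaf (.up 20 570 [0]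 0 [])) (.leaf (.up 29 3064 [0] 0 []))) (.node (.leaf (.up 27 1193 [1] 0 [])) (.leaf (.up 34 3783 [1] 0 [110,103,177]))))) (.node (.node (.node (.leaf (.up 20 412 [1] 0 [43])) (.leaf (.up 29 2838 [1] 0 []))) (.node (.leaf (.up 29 1762 [1] 0 [])) (.leaf (.up 32 3364 [0] 0 [])))) (.node (.node (.leaf (.up 20 631 [1] 0 [])) (.leaf (.up 28 2352 [1] 0 []))) (.leaf (.up 28 1678 [0] 0 []))))))) (.node (.node (.node (.node (.node (.node (.leaf (.up 9 46 [1] 0 [])) (.leaf (.up 30 1486 [1] 0 []))) (.node (.leaf (.up 23 869 [0] 0 [])) (.leaf (.up 31 3226 [1] 0 [57,56,104,46])))) (.node (.node (.leaf (.up 22 348 [1] 0 [])) (.leaf (.up 27 2893 [0] 0 [88,93,89,6]))) (.node (.leaf (.up 23 1303 [1] 0 [57,56,44,159])) (.leaf (.up 34 3606 [0] 0 [87,55,89,126]))))) (.node (.node (.node (.leaf (.up 19 371 [0] 0 [])) (.leaf (.up 27 2011 [0] 0 []))) (.node (.leaf (.up 25 1595 [1] 0 [])) (.leaf (.up 29 3372 [0] 0 [87,55,176,213])))) (.node (.node (.leaf (.up 21 989 [1] 0 [])) (.leaf (.up 28 2288 [1] 0 [103,210]))) (.leaf (.up 26 1266 [1] 0 []))))) (.node (.node (.node (.node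 (.leaf (.up 22 102 [1] 0 [])) (.leaf (.up 25 1890 [0] 0 []))) (.node (.leaf (.up 26 976 [0] 0 [])) (.leaf (.up 29 2962 [0] 0 [])))) (.node (.node (.leaf (.up 26 434 [1] 0 [])) (.leaf (.up 24 2049 [1] 0 []))) (.node (.leaf (.up 24 1417 [0] 0 [])) (.leaf (.up 35 3680 [0] 0 []))))) (.node (.node (.node (.leaf (.up 19 528 [1] 0 [])) (.leaf (.up 28 2222 [0] 0 [88,93,42,212]))) (.node (.leaf (.up 25 1191 [0] 0 [])) (.leaf (.up 35 3618 [1] 0 [])))) (.node (.node (.leaf (.up 30 1138 [1] 0 [])) (.leaf (.up 30 3255 [0] 0 []))) (.leaf (.up 25 2091 [1] 0 [57,93,43,37])))))) (.node (.node (.node (.node (.node (.leaf (.up 10 62 [1] 0 [])) (.leaf (.up 32 1833 [0] 0 []))) (.node (.leaf (.up 24 748 [1] 0 [])) (.leaf (.up 31 2876 [0] 0 [])))) (.node (.node (.leaf (.up 24 492 [0] 0 [])) (.leaf (.up 29 1989 [1] 0 []))) (.node (.leaf (.up 25 1942 [0] 0 [])) (.leaf (.up 29 3635 [1] 0 [57,56,42,174]))))) (.node (.node (.node (.leaf (.up 18 282 [0] 0 [])) (.leaf (.up 31 2066 [0] 0 []))) (.node (.leaf (.up 23 1660 [0] 0 [])) (.leaf (.up 33 3041 [1] 0 [55,90,22])))) (.node (.node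 (.leaf (.up 22 564 [1] 0 [])) (.leaf (.up 33 2247 [1] 0 []))) (.leaf (.up 25 1592 [0] 0 []))))) (.node (.node (.node (.node (.leaf (.up 18 179 [0] 0 [])) (.leaf (.up 28 2618 [0] 0 []))) (.node (.leaf (.up 27 1033 [0] 0 [])) (.leaf (.up 31 3366 [1] 0 [87,55,176,4])))) (.node (.node (.leaf (.up 21 474 [1] 0 [])) (.leaf (.up 28 2286 [1] 0 [88,93,140,217]))) (.leaf (.up 29 2076 [1] 0 [])))) (.node (.node (.node (.leaf (.up 20 388 [0] 0 [])) (.leaf (.up 23 2202 [0] 0 [57,56,116,12]))) (.node (.leaf (.up 27 1797 [1] 0 [])) (.leaf (.up 30 3669 [0] 0 [])))) (.node (.node (.leaf (.up 23 863 [1] 0 [87,56,43,207])) (.leaf (.up 28 3302 [1] 0 []))) (.leaf (.up 26 1429 [1] 0 [])))))))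

noncomputable def trio0_10101 : Tr TStep :=
  .node (.node (.node (.node (.node (.node (.node (.leaf (.up 6 10 [1] 0 [])) (.leaf (.up 30 1475 [1] 0 []))) (.node (.leaf (.up 26 855 [0] 0 [])) (.leaf (.up 30 3152 [1] 0 [87,140,0])))) (.node (.node (.leaf (.up 26 663 [1] 0 [])) (.leaf (.up 25 1915 [1] 0 []))) (.node (.leaf (.up 29 1856 [1] 0 [])) (.leaf (.up 34 3423 [1] 0 [94,123,150]))))) (.node (.node (.node (.leaf (.up 20 169 [1] 0 [])) (.leaf (.up 27 1994 [0] 0 []))) (.node (.leaf (.up 22 1072 [0] 0 [])) (.leaf (.up 31 3330 [0] 0 [88,56,176,31])))) (.node (.node (.leaf (.up 21 968 [1] 0 [])) (.leaf (.up 28 3135 [1] 0 []))) (.leaf (.up 29 1254 [1] 0 []))))) (.node (.node (.node (.node (.leaf (.up 20 118 [0] 0 [])) (.leaf (.up 24 1877 [0] 0 []))) (.node (.leaf (.up 24 1424 [1] 0 [])) (.leaf (.up 29 2938 [0] 0 [])))) (.node (.node (.leaf (.up 26 424 [1] 0 [])) (.leaf (.up 31 3028 [0] 0 []))) (.node (.leaf (.up 27 1997 [1] 0 [])) (.leaf (.up 34 3761 [1] 0 [87,43,126]))))) (.node (.node (.node (.leaf (.up 19 254 [1] 0 [])) (.leaf (.up 34 2112 [0] 0 [])))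 (.node (.leaf (.up 25 1178 [0] 0 [])) (.leaf (.up 32 3010 [1] 0 [])))) (.node (.node (.leaf (.up 25 1119 [0] 0 [])) (.leaf (.up 30 2706 [0] 0 [88,91,231]))) (.leaf (.up 26 1355 [1] 0 [])))))) (.node (.node (.node (.node (.node (.leaf (.up 12 53 [1] 0 [])) (.leaf (.up 30 2474 [0] 0 []))) (.node (.leaf (.up 24 737 [1] 0 [])) (.leaf (.up 35 3385 [0] 0 [])))) (.node (.node (.leaf (.up 20 478 [0] 0 [])) (.leaf (.up 30 1975 [1] 0 []))) (.node (.leaf (.up 27 1104 [1] 0 [])) (.leaf (.up 29 3614 [1] 0 [110,44,146]))))) (.node (.node (.node (.leaf (.up 17 389 [1] 0 [55,219])) (.leaf (.up 29 2731 [1] 0 []))) (.node (.leaf (.up 28 1647 [1] 0 [])) (.leaf (.up 34 3194 [0] 0 [])))) (.node (.node (.leaf (.up 25 1043 [1] 0 [])) (.leaf (.up 29 3188 [0] 0 []))) (.leaf (.up 23 1301 [1] 0 []))))) (.node (.node (.node (.node (.leaf (.up 21 130 [1] 0 [])) (.leaf (.up 27 1933 [0] 0 []))) (.node (.leaf (.up 26 1020 [0] 0 [])) (.leaf (.up 32 2695 [1] 0 [])))) (.node (.node (.leaf (.up 26 894 [0] 0 [])) (.leaf (.up 32 3079 [0] 0 []))) (.leaf (.up 22 1205 [1] 0 [])))) (.node (.node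 (.node (.leaf (.up 20 375 [0] 0 [])) (.leaf (.up 28 2176 [0] 0 []))) (.node (.leaf (.up 32 1780 [1] 0 [])) (.leaf (.up 36 3656 [1] 0 [])))) (.node (.node (.leaf (.up 25 1197 [1] 0 [])) (.leaf (.up 31 2814 [1] 0 [57,55,89,5]))) (.leaf (.up 24 2337 [1] 0 []))))))) (.node (.node (.node (.node (.node (.node (.leaf (.up 11 43 [0] 0 [])) (.leaf (.up 29 2441 [0] 0 []))) (.node (.leaf (.up 26 711 [1] 0 [])) (.leaf (.up 29 2991 [0] 0 [57,93,103,193])))) (.node (.node (.leaf (.up 19 357 [1] 0 [])) (.leaf (.up 30 2942 [1] 0 []))) (.node (.leaf (.up 25 1890 [1] 0 [])) (.leaf (.up 34 3608 [0] 0 [57,110,176,2]))))) (.node (.node (.node (.leaf (.up 25 392 [1] 0 [])) (.leaf (.up 25 2693 [1] 0 []))) (.node (.leaf (.up 27 1129 [1] 0 [103,166])) (.leaf (.up 31 3305 [0] 0 [87,94,123,71])))) (.node (.node (.leaf (.up 16 530 [1] 0 [])) (.leaf (.up 30 2532 [0] 0 []))) (.leaf (.up 28 1549 [0] 0 []))))) (.node (.node (.node (.node (.leaf (.up 19 142 [0] 0 [])) (.leaf (.up 24 1905 [0] 0 []))) (.node (.leaf (.up 21 989 [0] 0 [])) (.leaf (.up 35 3458 [1] 0 [])))) (.node (.node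 (.leaf (.up 25 558 [0] 0 [])) (.leaf (.up 26 2402 [0] 0 []))) (.node (.leaf (.up 22 2025 [1] 0 [])) (.leaf (.up 36 3717 [1] 0 [55,123,245]))))) (.node (.node (.node (.leaf (.up 23 274 [1] 0 [])) (.leaf (.up 28 2393 [1] 0 [88,110,132]))) (.node (.leaf (.up 23 988 [1] 0 [])) (.leaf (.up 33 3343 [0] 0 [])))) (.node (.node (.leaf (.up 22 772 [0] 0 [])) (.leaf (.up 32 3268 [0] 0 []))) (.leaf (.up 27 1665 [0] 0 [])))))) (.node (.node (.node (.node (.node (.leaf (.up 11 92 [0] 0 [])) (.leaf (.up 29 2240 [1] 0 [57,56,89,229]))) (.node (.leaf (.up 27 1388 [1] 0 [])) (.leaf (.up 29 3409 [1] 0 [])))) (.node (.node (.leaf (.up 22 783 [1] 0 [])) (.leaf (.up 28 2557 [0] 0 [88,56,155,218]))) (.node (.leaf (.up 24 1374 [0] 0 [])) (.leaf (.up 34 3612 [0] 0 []))))) (.node (.node (.node (.leaf (.up 21 294 [0] 0 [])) (.leaf (.up 29 1768 [1] 0 []))) (.node (.leaf (.up 24 1680 [1] 0 [])) (.leaf (.up 28 3239 [0] 0 [])))) (.node (.node (.leaf (.up 22 573 [1] 0 [])) (.leaf (.up 28 2262 [1] 0 []))) (.leaf (.up 27 2010 [0] 0 [87,56,89,117]))))) (.node (.node (.node (.node (.leaf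 (.up 21 149 [1] 0 [])) (.leaf (.up 27 1964 [0] 0 []))) (.node (.leaf (.up 28 1540 [1] 0 [])) (.leaf (.up 32 3494 [0] 0 [])))) (.node (.node (.leaf (.up 28 610 [0] 0 [])) (.leaf (.up 32 2123 [1] 0 []))) (.leaf (.up 30 1544 [1] 0 [57,55,44,29])))) (.node (.node (.node (.leaf (.up 23 623 [1] 0 [])) (.leaf (.up 28 2207 [0] 0 []))) (.node (.leaf (.up 29 1258 [0] 0 [])) (.leaf (.up 31 3676 [1] 0 [])))) (.node (.node (.leaf (.up 29 1229 [1] 0 [])) (.leaf (.up 33 2550 [1] 0 [88,93,104,25]))) (.leaf (.up 26 1445 [1] 0 [])))))))

noncomputable def trio0_1010 : Tr TStep := .node trio0_10100 trio0_10101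

noncomputable def trio0_10110 : Tr TStep :=
  .node (.node (.node (.node (.node (.node (.node (.leaf (.up 9 9 [0] 0 [])) (.leaf (.up 25 2229 [1] 0 [57,93,91,180]))) (.node (.leaf (.up 26 849 [0] 0 [])) (.leaf (.up 29 2961 [0] 0 [87,56,89,177])))) (.node (.node (.leaf (.up 20 419 [0] 0 [])) (.leaf (.up 28 2907 [1] 0 []))) (.node (.leaf (.up 27 1145 [1] 0 [57,104,180])) (.leaf (.up 29 3445 [1] 0 [87,55,22]))))) (.node (.node (.node (.leaf (.up 25 340 [1] 0 [])) (.leaf (.up 30 2657 [1] 0 []))) (.node (.leaf (.up 25 872 [1] 0 [])) (.leaf (.up 32 3091 [0] 0 [])))) (.node (.node (.leaf (.up 21 960 [1] 0 [])) (.leaf (.up 32 3129 [1] 0 []))) (.leaf (.up 30 1515 [0] 0 []))))) (.node (.node (.node (.node (.leaf (.up 13 88 [1] 0 [])) (.leaf (.up 29 1871 [0] 0 []))) (.node (.leaf (.up 26 956 [0] 0 [])) (.leaf (.up 30 3427 [1] 0 [])))) (.node (.node (.leaf (.up 20 607 [1] 0 [93,91,232])) (.leaf (.up 27 2690 [1] 0 [91,237]))) (.node (.leaf (.up 27 1148 [1] 0 [])) (.leaf (.up 33 3530 [1] 0 []))))) (.node (.node (.node (.leaf (.up 19 247 [1] 0 [])) (.leaf (.up 27 2062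 [1] 0 [57,94,116,193]))) (.node (.leaf (.up 23 959 [1] 0 [])) (.leaf (.up 33 3602 [1] 0 [])))) (.node (.node (.leaf (.up 25 615 [1] 0 [88,56,91,185])) (.leaf (.up 28 2291 [1] 0 []))) (.leaf (.up 26 1346 [1] 0 [])))))) (.node (.node (.node (.node (.node (.leaf (.up 13 61 [0] 0 [])) (.leaf (.up 24 2023 [1] 0 [87,110,43,118]))) (.node (.leaf (.up 24 731 [1] 0 [])) (.leaf (.up 33 3123 [0] 0 [88,110,89,157])))) (.node (.node (.leaf (.up 20 634 [1] 0 [88,116,125])) (.leaf (.up 31 2965 [1] 0 []))) (.node (.leaf (.up 24 1332 [0] 0 [])) (.leaf (.up 32 3736 [1] 0 []))))) (.node (.node (.node (.leaf (.up 17 264 [0] 0 [])) (.leaf (.up 27 2047 [0] 0 []))) (.node (.leaf (.up 24 915 [1] 0 [])) (.leaf (.up 30 3185 [0] 0 [])))) (.node (.node (.leaf (.up 27 1033 [1] 0 [])) (.leaf (.up 26 3182 [1] 0 []))) (.leaf (.up 28 2187 [1] 0 []))))) (.node (.node (.node (.node (.leaf (.up 14 160 [0] 0 [])) (.leaf (.up 29 2594 [1] 0 []))) (.node (.leaf (.up 28 1489 [1] 0 [])) (.leaf (.up 32 3007 [0] 0 [])))) (.node (.node (.leaf (.up 20 576 [0] 0 [])) (.leaf (.up 33 3071 [0] 0 [])))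 (.node (.leaf (.up 22 1199 [1] 0 [])) (.leaf (.up 33 3777 [1] 0 [87,110,42,188]))))) (.node (.node (.node (.leaf (.up 17 368 [0] 0 [])) (.leaf (.up 31 2168 [0] 0 []))) (.node (.leaf (.up 33 1771 [1] 0 [])) (.leaf (.up 27 3446 [0] 0 [57,55,43,15])))) (.node (.node (.leaf (.up 25 1186 [1] 0 [])) (.leaf (.up 29 3038 [0] 0 [110,140,134]))) (.leaf (.up 26 1896 [1] 0 [88,56,90,225]))))))) (.node (.node (.node (.node (.node (.node (.leaf (.up 10 37 [0] 0 [])) (.leaf (.up 33 2365 [1] 0 [88,94,140,77]))) (.node (.leaf (.up 26 1298 [1] 0 [])) (.leaf (.up 27 2736 [1] 0 [56,89,75])))) (.node (.node (.leaf (.up 26 444 [0] 0 [])) (.leaf (.up 30 2935 [1] 0 []))) (.node (.leaf (.up 21 1304 [0] 0 [])) (.leaf (.up 33 3521 [1] 0 [87,56,140,129]))))) (.node (.node (.node (.leaf (.up 17 238 [0] 0 [])) (.leaf (.up 28 2018 [0] 0 []))) (.node (.leaf (.up 29 1092 [0] 0 [])) (.leaf (.up 33 3139 [0] 0 [])))) (.node (.node (.leaf (.up 21 996 [1] 0 [])) (.leaf (.up 33 3161 [1] 0 []))) (.leaf (.up 26 1271 [1] 0 []))))) (.node (.node (.node (.node (.leaf (.up 16 136 [0] 0 [])) (.leaf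 (.up 27 1594 [1] 0 []))) (.node (.leaf (.up 24 799 [1] 0 [])) (.leaf (.up 32 2971 [0] 0 [])))) (.node (.node (.leaf (.up 26 439 [1] 0 [])) (.leaf (.up 26 2391 [0] 0 []))) (.node (.leaf (.up 25 1427 [0] 0 [])) (.leaf (.up 32 3599 [1] 0 []))))) (.node (.node (.node (.leaf (.up 21 342 [0] 0 [])) (.leaf (.up 29 1819 [1] 0 []))) (.node (.leaf (.up 23 982 [1] 0 [])) (.leaf (.up 29 3328 [0] 0 [])))) (.node (.node (.leaf (.up 22 813 [0] 0 [90,77])) (.leaf (.up 30 2660 [0] 0 []))) (.leaf (.up 26 2295 [1] 0 [])))))) (.node (.node (.node (.node (.node (.leaf (.up 11 67 [1] 0 [])) (.leaf (.up 29 2497 [1] 0 []))) (.node (.leaf (.up 21 929 [0] 0 [])) (.leaf (.up 27 2892 [0] 0 [])))) (.node (.node (.leaf (.up 22 772 [1] 0 [])) (.leaf (.up 29 1995 [1] 0 []))) (.node (.leaf (.up 22 1123 [1] 0 [])) (.leaf (.up 35 3647 [0] 0 [93,140,149]))))) (.node (.node (.node (.leaf (.up 16 225 [1] 0 [])) (.leaf (.up 33 1763 [1] 0 []))) (.node (.leaf (.up 30 1142 [0] 0 [])) (.leaf (.up 29 2952 [1] 0 [])))) (.node (.node (.leaf (.up 22 1072 [1] 0 [])) (.leaf (.up 29 2566 [1] 0 [89,158])))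 (.leaf (.up 28 2225 [1] 0 []))))) (.node (.node (.node (.node (.leaf (.up 16 144 [1] 0 [])) (.leaf (.up 27 1955 [0] 0 []))) (.node (.leaf (.up 28 850 [1] 0 [])) (.leaf (.up 33 3057 [0] 0 [])))) (.node (.node (.leaf (.up 21 923 [1] 0 [])) (.leaf (.up 27 2180 [1] 0 [57,56,103,109]))) (.leaf (.up 33 1487 [0] 0 [])))) (.node (.node (.node (.leaf (.up 24 614 [1] 0 [])) (.leaf (.up 26 2864 [1] 0 [55,155,98]))) (.node (.leaf (.up 27 1808 [0] 0 [])) (.leaf (.up 29 3193 [1] 0 [])))) (.node (.node (.leaf (.up 29 1220 [1] 0 [])) (.leaf (.up 27 2403 [1] 0 []))) (.leaf (.up 30 1723 [0] 0 [])))))))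

noncomputable def trio0_10111 : Tr TStep :=
  .node (.node (.node (.node (.node (.node (.node (.leaf (.up 7 21 [0] 0 [])) (.leaf (.up 34 1766 [0] 0 []))) (.node (.leaf (.up 26 693 [1] 0 [])) (.leaf (.up 32 2494 [1] 0 [57,56,155,196])))) (.node (.node (.leaf (.up 20 595 [1] 0 [88,123,131])) (.leaf (.up 31 2250 [0] 0 []))) (.node (.leaf (.up 21 1863 [0] 0 [])) (.leaf (.up 30 3704 [1] 0 []))))) (.node (.node (.node (.leaf (.up 17 361 [1] 0 [])) (.leaf (.up 29 2675 [0] 0 []))) (.node (.leaf (.up 24 882 [1] 0 [])) (.leaf (.up 31 2817 [1] 0 [])))) (.node (.node (.leaf (.up 26 979 [1] 0 [])) (.leaf (.up 31 3142 [0] 0 []))) (.leaf (.up 30 1260 [1] 0 []))))) (.node (.node (.node (.node (.leaf (.up 13 97 [1] 0 [])) (.leaf (.up 27 1961 [0] 0 [57,140,139]))) (.node (.leaf (.up 21 970 [0] 0 [])) (.leaf (.up 31 2951 [0] 0 [])))) (.node (.node (.leaf (.up 24 538 [0] 0 [])) (.leaf (.up 31 2378 [0] 0 []))) (.node (.leaf (.up 27 1160 [1] 0 [])) (.leaf (.up 35 3774 [1] 0 []))))) (.node (.node (.node (.leaf (.up 19 517 [1] 0 [])) (.leaf (.up 30 2662 [0] 0 [110,103,111])))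 (.node (.leaf (.up 30 1184 [0] 0 [])) (.leaf (.up 30 3297 [0] 0 [])))) (.node (.node (.leaf (.up 20 603 [1] 0 [])) (.leaf (.up 34 3248 [1] 0 []))) (.leaf (.up 26 2278 [1] 0 [])))))) (.node (.node (.node (.node (.node (.leaf (.up 17 73 [0] 0 [])) (.leaf (.up 30 1532 [1] 0 []))) (.node (.leaf (.up 25 1357 [1] 0 [])) (.leaf (.up 31 2866 [0] 0 [])))) (.node (.node (.leaf (.up 22 752 [1] 0 [])) (.leaf (.up 29 1988 [1] 0 [57,110,176,33]))) (.node (.leaf (.up 26 1859 [1] 0 [57,110,90,239])) (.leaf (.up 35 3574 [0] 0 []))))) (.node (.node (.node (.leaf (.up 24 440 [1] 0 [])) (.leaf (.up 26 2059 [0] 0 []))) (.node (.leaf (.up 25 1131 [0] 0 [])) (.leaf (.up 33 3575 [1] 0 [])))) (.node (.node (.leaf (.up 27 1053 [1] 0 [])) (.leaf (.up 29 3196 [1] 0 []))) (.leaf (.up 28 2207 [1] 0 []))))) (.node (.node (.node (.node (.leaf (.up 18 282 [1] 0 [])) (.leaf (.up 25 1635 [1] 0 []))) (.node (.leaf (.up 28 1510 [0] 0 [])) (.leaf (.up 30 3223 [1] 0 [88,55,176,189])))) (.node (.node (.leaf (.up 22 904 [1] 0 [])) (.leaf (.up 28 2443 [0] 0 []))) (.leaf (.up 23 1473 [0] 0 []))))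 (.node (.node (.node (.leaf (.up 18 301 [1] 0 [])) (.leaf (.up 31 1867 [1] 0 []))) (.node (.leaf (.up 28 1628 [0] 0 [55,219])) (.leaf (.up 29 3395 [0] 0 [])))) (.node (.node (.leaf (.up 20 646 [1] 0 [])) (.leaf (.up 30 2722 [0] 0 []))) (.leaf (.up 26 1668 [1] 0 [110,42,27]))))))) (.node (.node (.node (.node (.node (.node (.leaf (.up 12 78 [1] 0 [])) (.leaf (.up 29 1507 [1] 0 []))) (.node (.leaf (.up 23 888 [0] 0 [])) (.leaf (.up 32 3370 [1] 0 [])))) (.node (.node (.leaf (.up 21 458 [0] 0 [])) (.leaf (.up 31 2282 [0] 0 []))) (.node (.leaf (.up 24 1899 [1] 0 [])) (.leaf (.up 33 3368 [1] 0 []))))) (.node (.node (.node (.leaf (.up 20 197 [1] 0 [])) (.leaf (.up 32 2032 [0] 0 []))) (.node (.leaf (.up 25 1622 [1] 0 [])) (.leaf (.up 33 2862 [1] 0 [])))) (.node (.node (.leaf (.up 31 1011 [1] 0 [])) (.leaf (.up 27 2540 [0] 0 []))) (.leaf (.up 30 1556 [0] 0 []))))) (.node (.node (.node (.node (.leaf (.up 12 117 [1] 0 [])) (.leaf (.up 30 1912 [0] 0 []))) (.node (.leaf (.up 25 1468 [1] 0 [])) (.leaf (.up 31 2656 [1] 0 [])))) (.node (.node (.leaf (.up 23 868 [1] 0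 [])) (.leaf (.up 30 2729 [0] 0 [88,55,91,177]))) (.node (.leaf (.up 29 1443 [0] 0 [])) (.leaf (.up 31 3740 [0] 0 [87,93,90,166]))))) (.node (.node (.node (.leaf (.up 22 354 [0] 0 [])) (.leaf (.up 33 2829 [0] 0 []))) (.node (.leaf (.up 25 1215 [0] 0 [])) (.leaf (.up 32 3357 [0] 0 [])))) (.node (.node (.leaf (.up 22 778 [0] 0 [])) (.leaf (.up 28 2339 [1] 0 []))) (.leaf (.up 31 2312 [1] 0 [])))))) (.node (.node (.node (.node (.node (.leaf (.up 16 98 [0] 0 [])) (.leaf (.up 29 1857 [0] 0 []))) (.node (.leaf (.up 24 766 [1] 0 [])) (.leaf (.up 32 2910 [0] 0 [])))) (.node (.node (.leaf (.up 24 513 [0] 0 [])) (.leaf (.up 27 2347 [0] 0 []))) (.node (.leaf (.up 32 1382 [0] 0 [])) (.leaf (.up 35 3618 [0] 0 []))))) (.node (.node (.node (.leaf (.up 19 251 [1] 0 [61])) (.leaf (.up 32 2713 [1] 0 [55,42,10]))) (.node (.leaf (.up 23 949 [1] 0 [])) (.leaf (.up 32 3165 [1] 0 [57,56,140,74])))) (.node (.node (.leaf (.up 26 724 [0] 0 [])) (.leaf (.up 26 2612 [0] 0 []))) (.leaf (.up 26 1331 [1] 0 []))))) (.node (.node (.node (.node (.leaf (.up 16 155 [1] 0 [])) (.leaf (.up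 36 2639 [1] 0 []))) (.node (.leaf (.up 30 1550 [0] 0 [])) (.leaf (.up 35 3499 [0] 0 [])))) (.node (.node (.leaf (.up 23 617 [0] 0 [])) (.leaf (.up 29 2130 [1] 0 []))) (.leaf (.up 28 1693 [0] 0 [44,194])))) (.node (.node (.node (.leaf (.up 19 632 [1] 0 [])) (.leaf (.up 27 2892 [1] 0 []))) (.node (.leaf (.up 27 1041 [1] 0 [])) (.leaf (.up 32 3434 [0] 0 [])))) (.node (.node (.leaf (.up 29 684 [1] 0 [87,55,176,247])) (.leaf (.up 30 2762 [0] 0 []))) (.leaf (.up 28 1738 [0] 0 [])))))))

noncomputable def trio0_1011 : Tr TStep := .node trio0_10110 trio0_10111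

noncomputable def trio0_101 : Tr TStep := .node trio0_1010 trio0_1011

noncomputable def trio0_10 : Tr TStep := .node trio0_100 trio0_101

noncomputable def trio0_11000 : Tr TStep :=
  .node (.node (.node (.node (.node (.node (.node (.leaf (.up 1 0 [1] 0 [])) (.leaf (.up 28 1743 [0] 0 []))) (.node (.leaf (.up 29 1245 [1] 0 [])) (.leaf (.up 31 2427 [1] 0 [])))) (.node (.node (.leaf (.up 23 641 [1] 0 [])) (.leaf (.up 27 2428 [1] 0 [57,93,116,120]))) (.node (.leaf (.up 29 1269 [0] 0 [])) (.leaf (.up 31 3234 [1] 0 []))))) (.node (.node (.node (.leaf (.up 18 204 [0] 0 [])) (.leaf (.up 29 1667 [1] 0 []))) (.node (.leaf (.up 25 864 [1] 0 [])) (.leaf (.up 31 3080 [0] 0 [])))) (.node (.node (.leaf (.up 23 621 [0] 0 [])) (.leaf (.up 29 3118 [1] 0 []))) (.leaf (.up 30 2109 [1] 0 []))))) (.node (.node (.node (.node (.leaf (.up 20 104 [0] 0 [])) (.leaf (.up 27 1889 [1] 0 [104,173]))) (.node (.leaf (.up 24 1402 [1] 0 [])) (.leaf (.up 33 3420 [1] 0 [])))) (.node (.node (.leaf (.up 19 517 [0] 0 [])) (.leaf (.up 26 2355 [0] 0 []))) (.node (.leaf (.up 28 1387 [0] 0 []))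 (.leaf (.up 33 3504 [1] 0 []))))) (.node (.node (.node (.leaf (.up 16 306 [0] 0 [])) (.leaf (.up 27 2305 [1] 0 [110,44,173]))) (.node (.leaf (.up 26 1162 [0] 0 [])) (.leaf (.up 32 3254 [0] 0 [])))) (.node (.node (.leaf (.up 27 729 [0] 0 [])) (.leaf (.up 30 2617 [0] 0 []))) (.leaf (.up 26 1337 [1] 0 [])))))) (.node (.node (.node (.node (.node (.leaf (.up 10 54 [0] 0 [])) (.leaf (.up 31 2457 [0] 0 []))) (.node (.leaf (.up 23 723 [1] 0 [])) (.leaf (.up 32 2505 [1] 0 [])))) (.node (.node (.leaf (.up 16 462 [0] 0 [])) (.leaf (.up 29 2789 [1] 0 [56,42,235]))) (.node (.leaf (.up 26 1907 [1] 0 [])) (.leaf (.up 36 3658 [1] 0 [87,94,90,205]))))) (.node (.node (.node (.leaf (.up 15 201 [1] 0 [])) (.leaf (.up 32 2709 [1] 0 []))) (.node (.leaf (.up 27 1629 [0] 0 [])) (.leaf (.up 28 2874 [1] 0 [])))) (.node (.node (.leaf (.up 23 670 [0] 0 [])) (.leaf (.up 30 3050 [1] 0 [88,155,31]))) (.leaf (.up 25 1560 [0] 0 []))))) (.node (.node (.node (.node (.leaf (.up 17 120 [1] 0 [])) (.leaf (.up 29 2582 [0] 0 []))) (.node (.leaf (.up 25 1004 [0] 0 [])) (.leaf (.up 27 2667 [1]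 0 [])))) (.node (.node (.leaf (.up 23 876 [1] 0 [])) (.leaf (.up 30 3063 [1] 0 []))) (.node (.leaf (.up 29 1447 [0] 0 [])) (.leaf (.up 32 3688 [1] 0 []))))) (.node (.node (.node (.leaf (.up 22 358 [0] 0 [])) (.leaf (.up 29 2835 [0] 0 []))) (.node (.leaf (.up 29 1220 [0] 0 [])) (.leaf (.up 31 3512 [0] 0 [94,90,22])))) (.node (.node (.leaf (.up 23 1175 [1] 0 [])) (.leaf (.up 29 2349 [1] 0 []))) (.leaf (.up 30 1697 [1] 0 [57,55,214]))))))) (.node (.node (.node (.node (.node (.node (.leaf (.up 6 32 [0] 0 [1])) (.leaf (.up 31 2281 [1] 0 [56,103,210]))) (.node (.leaf (.up 25 1287 [1] 0 [])) (.leaf (.up 31 3213 [0] 0 [55,155,204])))) (.node (.node (.leaf (.up 24 437 [0] 0 [])) (.leaf (.up 28 2926 [1] 0 []))) (.node (.leaf (.up 29 1871 [1] 0 [])) (.leaf (.up 30 3704 [0] 0 [94,42,119]))))) (.node (.node (.node (.leaf (.up 22 228 [0] 0 [])) (.leaf (.up 27 2008 [0] 0 []))) (.node (.leaf (.up 25 1592 [1] 0 [])) (.leaf (.up 31 2824 [1] 0 [])))) (.node (.node (.leaf (.up 21 518 [1] 0 [])) (.leaf (.up 32 3150 [1] 0 []))) (.leaf (.up 28 2142 [1] 0 []))))) (.node (.node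 (.node (.node (.leaf (.up 13 209 [1] 0 [])) (.leaf (.up 27 1587 [1] 0 []))) (.node (.leaf (.up 24 1440 [1] 0 [])) (.leaf (.up 28 3299 [0] 0 [87,93,103,75])))) (.node (.node (.leaf (.up 26 840 [0] 0 [])) (.leaf (.up 26 2384 [0] 0 []))) (.node (.leaf (.up 27 2008 [1] 0 [])) (.leaf (.up 31 3579 [1] 0 []))))) (.node (.node (.node (.leaf (.up 19 371 [1] 0 [87,55,116,131])) (.leaf (.up 33 2807 [1] 0 []))) (.node (.leaf (.up 28 1726 [1] 0 [])) (.leaf (.up 32 3310 [0] 0 [])))) (.node (.node (.leaf (.up 25 1135 [1] 0 [])) (.leaf (.up 32 3254 [1] 0 []))) (.leaf (.up 26 1366 [1] 0 [])))))) (.node (.node (.node (.node (.node (.leaf (.up 12 78 [0] 0 [])) (.leaf (.up 28 2362 [1] 0 [56,176,122]))) (.node (.leaf (.up 21 920 [0] 0 [])) (.leaf (.up 29 3395 [1] 0 [])))) (.node (.node (.leaf (.up 23 758 [0] 0 [])) (.leaf (.up 29 1985 [1] 0 []))) (.node (.leaf (.up 24 1354 [0] 0 [])) (.leaf (.up 32 3584 [0] 0 []))))) (.node (.node (.node (.leaf (.up 21 447 [1] 0 [])) (.leaf (.up 26 2065 [0] 0 []))) (.node (.leaf (.up 18 930 [1] 0 [])) (.leaf (.up 29 2928 [1] 0 [])))) (.node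 (.node (.leaf (.up 24 701 [0] 0 [])) (.leaf (.up 28 2245 [1] 0 []))) (.leaf (.up 24 2215 [1] 0 []))))) (.node (.node (.node (.node (.leaf (.up 13 138 [1] 0 [])) (.leaf (.up 25 2201 [1] 0 [56,155,98]))) (.node (.leaf (.up 28 1517 [1] 0 [])) (.leaf (.up 27 2723 [1] 0 [])))) (.node (.node (.leaf (.up 21 473 [1] 0 [])) (.leaf (.up 31 2953 [1] 0 [55,155,192]))) (.leaf (.up 32 2073 [1] 0 [])))) (.node (.node (.node (.leaf (.up 18 305 [1] 0 [])) (.leaf (.up 31 1870 [1] 0 []))) (.node (.leaf (.up 28 1243 [0] 0 [])) (.leaf (.up 33 3249 [1] 0 [94,42,218])))) (.node (.node (.leaf (.up 25 1211 [1] 0 [])) (.leaf (.up 32 2966 [1] 0 [87,55,89,127]))) (.leaf (.up 24 1710 [0] 0 [])))))))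

noncomputable def trio0_11001 : Tr TStep :=
  .node (.node (.node (.node (.node (.node (.node (.leaf (.up 8 27 [1] 0 [])) (.leaf (.up 27 1759 [0] 0 []))) (.node (.leaf (.up 24 687 [1] 0 [])) (.leaf (.up 31 2447 [1] 0 [])))) (.node (.node (.leaf (.up 24 660 [0] 0 [])) (.leaf (.up 26 2466 [1] 0 [88,110,90,33]))) (.node (.leaf (.up 27 1852 [0] 0 [])) (.leaf (.up 33 3471 [0] 0 []))))) (.node (.node (.node (.leaf (.up 20 168 [1] 0 [])) (.leaf (.up 29 2665 [1] 0 []))) (.node (.leaf (.up 25 1575 [1] 0 [])) (.leaf (.up 34 3513 [1] 0 [])))) (.node (.node (.leaf (.up 19 632 [0] 0 [])) (.leaf (.up 28 2398 [1] 0 [55,42,106]))) (.leaf (.up 29 1940 [1] 0 [88,56,43,162]))))) (.node (.node (.node (.node (.leaf (.up 13 91 [1] 0 [])) (.leaf (.up 27 1576 [1] 0 []))) (.node (.leaf (.up 21 960 [0] 0 [])) (.leaf (.up 28 3307 [0] 0 [88,110,5])))) (.node (.node (.leaf (.up 17 821 [1] 0 [])) (.leaf (.up 29 3026 [1] 0 []))) (.node (.leaf (.up 24 1400 [0] 0 [])) (.leaf (.up 32 3563 [1] 0 [57,93,104,212]))))) (.node (.node (.node (.leaf (.up 19 505 [1] 0 [])) (.leaf (.up 29 2789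 [0] 0 []))) (.node (.leaf (.up 24 1710 [1] 0 [])) (.leaf (.up 34 3606 [1] 0 [])))) (.node (.node (.leaf (.up 23 744 [0] 0 [])) (.leaf (.up 25 2635 [0] 0 []))) (.leaf (.up 26 2269 [1] 0 [])))))) (.node (.node (.node (.node (.node (.leaf (.up 15 52 [1] 0 [])) (.leaf (.up 27 2473 [0] 0 []))) (.node (.leaf (.up 26 907 [0] 0 [])) (.leaf (.up 28 3383 [1] 0 [])))) (.node (.node (.leaf (.up 19 475 [0] 0 [])) (.leaf (.up 28 1973 [1] 0 []))) (.node (.leaf (.up 26 1926 [1] 0 [])) (.leaf (.up 36 3742 [1] 0 []))))) (.node (.node (.node (.leaf (.up 26 269 [0] 0 [])) (.leaf (.up 30 1742 [1] 0 []))) (.node (.leaf (.up 23 919 [1] 0 [])) (.leaf (.up 30 2906 [1] 0 [])))) (.node (.node (.leaf (.up 27 686 [0] 0 [])) (.leaf (.up 25 2223 [1] 0 []))) (.leaf (.up 28 2195 [1] 0 []))))) (.node (.node (.node (.node (.leaf (.up 23 165 [0] 0 [])) (.leaf (.up 23 2230 [0] 0 [56,90,169]))) (.node (.leaf (.up 29 1497 [1] 0 [])) (.leaf (.up 27 3099 [1] 0 [88,55,91,117])))) (.node (.node (.leaf (.up 22 892 [1] 0 [])) (.leaf (.up 33 3077 [1] 0 []))) (.leaf (.up 24 1461 [0] 0 [])))) (.node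 (.node (.node (.leaf (.up 23 586 [1] 0 [])) (.leaf (.up 31 2852 [1] 0 []))) (.node (.leaf (.up 24 1777 [1] 0 [])) (.leaf (.up 31 3384 [0] 0 [])))) (.node (.node (.leaf (.up 25 640 [1] 0 [])) (.leaf (.up 32 2628 [1] 0 [87,93,89,126]))) (.leaf (.up 27 2334 [1] 0 []))))))) (.node (.node (.node (.node (.node (.node (.leaf (.up 17 64 [1] 0 [])) (.leaf (.up 27 1923 [0] 0 [94,176,233]))) (.node (.leaf (.up 21 1304 [1] 0 [])) (.leaf (.up 32 2487 [1] 0 [])))) (.node (.node (.leaf (.up 21 449 [0] 0 [])) (.leaf (.up 27 2143 [1] 0 [55,91,193]))) (.node (.leaf (.up 26 1312 [0] 0 [])) (.leaf (.up 28 3515 [0] 0 []))))) (.node (.node (.node (.leaf (.up 17 242 [0] 0 [])) (.leaf (.up 25 2624 [1] 0 [88,55,91,109]))) (.node (.leaf (.up 25 1098 [0] 0 [])) (.leaf (.up 33 2851 [1] 0 [])))) (.node (.node (.leaf (.up 21 1001 [1] 0 [])) (.leaf (.up 29 3166 [0] 0 []))) (.leaf (.up 26 1274 [1] 0 []))))) (.node (.node (.node (.node (.leaf (.up 17 110 [1] 0 [])) (.leaf (.up 27 2569 [1] 0 []))) (.node (.leaf (.up 21 987 [0] 0 [])) (.leaf (.up 31 2947 [1] 0 [93,116,204])))) (.node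 (.node (.leaf (.up 21 443 [1] 0 [])) (.leaf (.up 29 2835 [1] 0 [87,170]))) (.node (.leaf (.up 24 1434 [0] 0 [])) (.leaf (.up 34 3707 [0] 0 []))))) (.node (.node (.node (.leaf (.up 23 273 [1] 0 [])) (.leaf (.up 29 1827 [1] 0 []))) (.node (.leaf (.up 23 1721 [1] 0 [87,56,210])) (.leaf (.up 33 3517 [1] 0 [57,93,91,92])))) (.node (.node (.leaf (.up 22 770 [0] 0 [])) (.leaf (.up 28 2324 [1] 0 []))) (.leaf (.up 36 2302 [1] 0 [])))))) (.node (.node (.node (.node (.node (.leaf (.up 14 145 [1] 0 [])) (.leaf (.up 30 1550 [1] 0 []))) (.node (.leaf (.up 23 758 [1] 0 [])) (.leaf (.up 26 2963 [1] 0 [87,93,116,232])))) (.node (.node (.leaf (.up 22 780 [1] 0 [])) (.leaf (.up 28 2563 [1] 0 [57,56,89,147]))) (.node (.leaf (.up 29 1371 [0] 0 [])) (.leaf (.up 33 3481 [1] 0 []))))) (.node (.node (.node (.leaf (.up 18 333 [1] 0 [88,94,89,115])) (.leaf (.up 33 2386 [1] 0 [87,56,176,141]))) (.node (.leaf (.up 28 1677 [1] 0 [])) (.leaf (.up 31 2959 [1] 0 [])))) (.node (.node (.leaf (.up 22 572 [1] 0 [])) (.leaf (.up 30 2360 [1] 0 [237]))) (.leaf (.up 25 1324 [1] 0 []))))) (.node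 (.node (.node (.node (.leaf (.up 13 189 [0] 0 [])) (.leaf (.up 27 1960 [0] 0 []))) (.node (.leaf (.up 30 1044 [0] 0 [])) (.leaf (.up 27 3190 [1] 0 [87,94,214])))) (.node (.node (.leaf (.up 16 488 [1] 0 [])) (.leaf (.up 33 2121 [1] 0 []))) (.leaf (.up 33 1493 [0] 0 [])))) (.node (.node (.node (.leaf (.up 20 399 [0] 0 [])) (.leaf (.up 33 2204 [0] 0 []))) (.node (.leaf (.up 25 1309 [0] 0 [55,116,102])) (.leaf (.up 29 3200 [1] 0 [])))) (.node (.node (.leaf (.up 30 1226 [0] 0 [])) (.leaf (.up 31 2801 [0] 0 [93,43,172]))) (.leaf (.up 28 1728 [0] 0 [])))))))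

noncomputable def trio0_1100 : Tr TStep := .node trio0_11000 trio0_11001

noncomputable def trio0_11010 : Tr TStep :=
  .node (.node (.node (.node (.node (.node (.node (.leaf (.up 5 8 [0] 0 [])) (.leaf (.up 25 1715 [1] 0 [56,90,33]))) (.node (.leaf (.up 22 1128 [1] 0 [55,155,192])) (.leaf (.up 32 3334 [1] 0 [])))) (.node (.node (.leaf (.up 20 418 [0] 0 [])) (.leaf (.up 30 2231 [0] 0 []))) (.node (.leaf (.up 27 1843 [1] 0 [])) (.leaf (.up 34 3692 [0] 0 []))))) (.node (.node (.node (.leaf (.up 27 337 [1] 0 [])) (.leaf (.up 32 1983 [0] 0 []))) (.node (.leaf (.up 27 1065 [0] 0 [])) (.leaf (.up 32 3506 [0] 0 [])))) (.node (.node (.leaf (.up 23 627 [0] 0 [])) (.leaf (.up 28 3127 [1] 0 []))) (.leaf (.up 30 2116 [0] 0 []))))) (.node (.node (.node (.node (.leaf (.up 18 179 [1] 0 [])) (.leaf (.up 27 1570 [1] 0 []))) (.node (.leaf (.up 19 815 [1] 0 [93,44,150])) (.leaf (.up 27 2592 [1] 0 [])))) (.node (.node (.leaf (.up 22 812 [1] 0 [])) (.leaf (.up 31 2029 [1] 0 []))) (.node (.leaf (.up 27 1986 [1] 0 [])) (.leaf (.up 33 3524 [1] 0 []))))) (.node (.node (.node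 (.leaf (.up 21 312 [0] 0 [])) (.leaf (.up 27 2782 [1] 0 []))) (.node (.leaf (.up 25 1169 [0] 0 [])) (.leaf (.up 31 2988 [1] 0 [])))) (.node (.node (.leaf (.up 25 591 [1] 0 [])) (.leaf (.up 30 2627 [0] 0 []))) (.leaf (.up 24 2259 [1] 0 [])))))) (.node (.node (.node (.node (.node (.leaf (.up 13 60 [0] 0 [])) (.leaf (.up 31 1809 [0] 0 []))) (.node (.leaf (.up 28 1333 [0] 0 [])) (.leaf (.up 28 2877 [1] 0 [57,110,90,139])))) (.node (.node (.leaf (.up 22 732 [1] 0 [])) (.leaf (.up 24 2964 [1] 0 []))) (.node (.leaf (.up 23 1095 [1] 0 [])) (.leaf (.up 33 3388 [1] 0 []))))) (.node (.node (.node (.leaf (.up 20 417 [1] 0 [])) (.leaf (.up 30 2719 [1] 0 []))) (.node (.leaf (.up 25 1116 [0] 0 [])) (.leaf (.up 30 3183 [0] 0 [])))) (.node (.node (.leaf (.up 27 1030 [1] 0 [])) (.leaf (.up 26 2213 [1] 0 []))) (.leaf (.up 30 1568 [0] 0 []))))) (.node (.node (.node (.node (.leaf (.up 17 125 [1] 0 [])) (.leaf (.up 27 1924 [0] 0 []))) (.node (.leaf (.up 32 829 [1] 0 [])) (.leaf (.up 29 3005 [0] 0 [])))) (.node (.node (.leaf (.up 20 574 [0] 0 [])) (.leaf (.up 30 2501 [1] 0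 [57,56,155,27]))) (.node (.leaf (.up 24 1453 [0] 0 [])) (.leaf (.up 35 3781 [1] 0 [57,110,104,5]))))) (.node (.node (.node (.leaf (.up 20 576 [1] 0 [])) (.leaf (.up 28 1849 [1] 0 []))) (.node (.leaf (.up 29 1768 [0] 0 [])) (.leaf (.up 32 3371 [0] 0 [])))) (.node (.node (.leaf (.up 30 1184 [1] 0 [])) (.leaf (.up 33 3084 [0] 0 [57,110,42,197]))) (.leaf (.up 28 1684 [0] 0 []))))))) (.node (.node (.node (.node (.node (.node (.leaf (.up 10 54 [1] 0 [])) (.leaf (.up 24 1777 [0] 0 []))) (.node (.leaf (.up 26 1295 [1] 0 [])) (.leaf (.up 32 3342 [1] 0 [94,155,112])))) (.node (.node (.leaf (.up 22 351 [1] 0 [])) (.leaf (.up 29 2933 [1] 0 []))) (.node (.leaf (.up 24 1879 [1] 0 [])) (.leaf (.up 34 3551 [1] 0 [88,55,104,222]))))) (.node (.node (.node (.leaf (.up 17 235 [0] 0 [])) (.leaf (.up 26 1864 [1] 0 [88,55,91,205]))) (.node (.leaf (.up 20 1472 [1] 0 [13])) (.leaf (.up 31 3532 [1] 0 [])))) (.node (.node (.leaf (.up 23 651 [0] 0 [])) (.leaf (.up 34 2182 [1] 0 []))) (.leaf (.up 28 1542 [0] 0 []))))) (.node (.node (.node (.node (.leaf (.up 19 220 [1] 0 [])) (.leaf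 (.up 27 2562 [1] 0 []))) (.node (.leaf (.up 24 798 [1] 0 [])) (.leaf (.up 33 3450 [1] 0 [])))) (.node (.node (.leaf (.up 23 549 [0] 0 [])) (.leaf (.up 28 2052 [1] 0 []))) (.node (.leaf (.up 25 1174 [1] 0 [])) (.leaf (.up 34 3593 [1] 0 []))))) (.node (.node (.node (.leaf (.up 28 536 [1] 0 [])) (.leaf (.up 29 1818 [1] 0 []))) (.node (.leaf (.up 25 1197 [0] 0 [])) (.leaf (.up 34 3622 [1] 0 [])))) (.node (.node (.leaf (.up 25 613 [1] 0 [])) (.leaf (.up 30 2657 [0] 0 []))) (.leaf (.up 26 1375 [1] 0 [])))))) (.node (.node (.node (.node (.node (.leaf (.up 13 85 [0] 0 [])) (.leaf (.up 32 1838 [0] 0 []))) (.node (.leaf (.up 24 1374 [1] 0 [])) (.leaf (.up 31 2888 [0] 0 [])))) (.node (.node (.leaf (.up 22 768 [1] 0 [])) (.leaf (.up 26 2326 [0] 0 []))) (.node (.leaf (.up 24 1363 [0] 0 [])) (.leaf (.up 33 3731 [0] 0 [57,94,155,218]))))) (.node (.node (.node (.leaf (.up 18 287 [0] 0 [])) (.leaf (.up 26 1902 [1] 0 [88,93,176,141]))) (.node (.leaf (.up 27 935 [1] 0 [])) (.leaf (.up 32 3584 [1] 0 [])))) (.node (.node (.leaf (.up 24 707 [0] 0 [])) (.leaf (.up 28 2251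 [1] 0 []))) (.leaf (.up 23 1319 [1] 0 []))))) (.node (.node (.node (.node (.leaf (.up 16 143 [1] 0 [])) (.leaf (.up 27 2623 [1] 0 []))) (.node (.leaf (.up 25 1038 [0] 0 [])) (.leaf (.up 27 2741 [1] 0 [])))) (.node (.node (.leaf (.up 21 920 [1] 0 [])) (.leaf (.up 29 3097 [1] 0 []))) (.leaf (.up 32 2083 [0] 0 [])))) (.node (.node (.node (.leaf (.up 25 393 [0] 0 [])) (.leaf (.up 27 2015 [1] 0 [57,94,123,72]))) (.node (.leaf (.up 29 1806 [1] 0 [])) (.leaf (.up 31 3411 [0] 0 [])))) (.node (.node (.leaf (.up 21 1218 [1] 0 [])) (.leaf (.up 27 2399 [1] 0 []))) (.leaf (.up 30 1719 [0] 0 [])))))))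

noncomputable def trio0_11011 : Tr TStep :=
  .node (.node (.node (.node (.node (.node (.node (.leaf (.up 7 35 [1] 0 [])) (.leaf (.up 29 2415 [0] 0 []))) (.node (.leaf (.up 29 1276 [0] 0 [])) (.leaf (.up 26 3015 [1] 0 [110,103,34])))) (.node (.node (.leaf (.up 24 496 [0] 0 [20])) (.leaf (.up 31 2249 [0] 0 []))) (.node (.leaf (.up 28 1861 [1] 0 [])) (.leaf (.up 35 3700 [1] 0 []))))) (.node (.node (.node (.leaf (.up 19 222 [0] 0 [])) (.leaf (.up 32 2001 [0] 0 []))) (.node (.leaf (.up 25 881 [1] 0 [])) (.leaf (.up 33 3115 [0] 0 [])))) (.node (.node (.leaf (.up 26 976 [1] 0 [])) (.leaf (.up 29 2507 [0] 0 []))) (.leaf (.up 28 2134 [1] 0 []))))) (.node (.node (.node (.node (.leaf (.up 15 123 [0] 0 [])) (.leaf (.up 32 2546 [1] 0 []))) (.node (.leaf (.up 21 968 [0] 0 [])) (.leaf (.up 31 3426 [0] 0 [57,89,130])))) (.node (.node (.leaf (.up 28 832 [1] 0 [])) (.leaf (.up 29 2043 [1] 0 []))) (.node (.leaf (.up 27 1159 [1] 0 [])) (.leaf (.up 33 3548 [1] 0 []))))) (.node (.node (.node (.leaf (.up 21 326 [0] 0 [])) (.leaf (.up 28 2797 [0] 0 []))) (.node (.leaf (.up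 20 1182 [0] 0 [])) (.leaf (.up 31 3610 [1] 0 [])))) (.node (.node (.leaf (.up 20 602 [1] 0 [])) (.leaf (.up 31 2571 [1] 0 [88,94,43,215]))) (.leaf (.up 28 1642 [0] 0 [])))))) (.node (.node (.node (.node (.node (.leaf (.up 12 72 [0] 0 [])) (.leaf (.up 32 1825 [0] 0 []))) (.node (.leaf (.up 24 1354 [1] 0 [])) (.leaf (.up 31 2863 [0] 0 [])))) (.node (.node (.leaf (.up 19 484 [0] 0 [])) (.leaf (.up 31 2980 [1] 0 []))) (.node (.leaf (.up 27 1108 [1] 0 [])) (.leaf (.up 34 3418 [1] 0 []))))) (.node (.node (.node (.leaf (.up 24 437 [1] 0 [])) (.leaf (.up 27 2056 [0] 0 []))) (.node (.leaf (.up 28 1333 [1] 0 [88,91,184])) (.leaf (.up 34 3540 [0] 0 [57,114])))) (.node (.node (.leaf (.up 29 692 [0] 0 [])) (.leaf (.up 27 2232 [1] 0 []))) (.leaf (.up 28 2111 [1] 0 [57,94,155,218]))))) (.node (.node (.node (.node (.leaf (.up 20 171 [0] 0 [])) (.leaf (.up 25 1634 [1] 0 []))) (.node (.leaf (.up 27 1508 [1] 0 [])) (.leaf (.up 31 3408 [1] 0 [57,55,123,181])))) (.node (.node (.leaf (.up 23 902 [1] 0 [])) (.leaf (.up 30 2925 [0] 0 [87,56,91,199]))) (.leaf (.up 27 2063 [1]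 0 [])))) (.node (.node (.node (.leaf (.up 18 299 [1] 0 [])) (.leaf (.up 30 2860 [1] 0 []))) (.node (.leaf (.up 28 1732 [1] 0 [87,55,116,164])) (.leaf (.up 30 3217 [1] 0 [110,89,162])))) (.node (.node (.leaf (.up 20 645 [1] 0 [])) (.leaf (.up 30 2720 [0] 0 []))) (.leaf (.up 26 2342 [1] 0 []))))))) (.node (.node (.node (.node (.node (.node (.leaf (.up 12 38 [1] 0 [])) (.leaf (.up 30 2450 [1] 0 []))) (.node (.leaf (.up 23 887 [0] 0 [])) (.leaf (.up 33 2832 [0] 0 [])))) (.node (.node (.leaf (.up 24 712 [1] 0 [])) (.leaf (.up 29 1947 [1] 0 []))) (.node (.leaf (.up 24 1085 [1] 0 [])) (.leaf (.up 36 3596 [1] 0 [87,94,176,245]))))) (.node (.node (.node (.leaf (.up 17 249 [0] 0 [])) (.leaf (.up 28 2701 [1] 0 []))) (.node (.leaf (.up 24 1103 [0] 0 [])) (.leaf (.up 34 3543 [1] 0 [])))) (.node (.node (.leaf (.up 27 533 [1] 0 [])) (.leaf (.up 30 3172 [1] 0 []))) (.leaf (.up 31 2168 [1] 0 []))))) (.node (.node (.node (.node (.leaf (.up 14 147 [0] 0 [])) (.leaf (.up 28 1605 [1] 0 []))) (.node (.leaf (.up 24 811 [1] 0 [])) (.leaf (.up 34 2985 [0] 0 [])))) (.node (.node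 (.leaf (.up 22 866 [1] 0 [])) (.leaf (.up 28 2067 [1] 0 []))) (.node (.leaf (.up 29 2030 [1] 0 [])) (.leaf (.up 33 3728 [0] 0 []))))) (.node (.node (.node (.leaf (.up 20 352 [0] 0 [])) (.leaf (.up 29 1836 [1] 0 []))) (.node (.leaf (.up 26 1754 [1] 0 [])) (.leaf (.up 27 3114 [1] 0 [])))) (.node (.node (.leaf (.up 20 1163 [0] 0 [])) (.leaf (.up 29 2335 [1] 0 []))) (.leaf (.up 31 2309 [1] 0 [])))))) (.node (.node (.node (.node (.node (.leaf (.up 14 75 [1] 0 [])) (.leaf (.up 30 2513 [0] 0 []))) (.node (.leaf (.up 24 765 [1] 0 [])) (.leaf (.up 30 2909 [0] 0 [])))) (.node (.node (.leaf (.up 17 408 [1] 0 [])) (.leaf (.up 32 3007 [1] 0 []))) (.node (.leaf (.up 19 1379 [0] 0 [])) (.leaf (.up 33 3491 [1] 0 []))))) (.node (.node (.node (.leaf (.up 19 259 [1] 0 [57,94,44,235])) (.leaf (.up 30 2768 [1] 0 []))) (.node (.leaf (.up 28 1685 [0] 0 [])) (.leaf (.up 31 3594 [0] 0 [])))) (.node (.node (.leaf (.up 17 579 [1] 0 [])) (.leaf (.up 28 2268 [1] 0 []))) (.leaf (.up 24 1611 [0] 0 []))))) (.node (.node (.node (.node (.leaf (.up 18 198 [0] 0 [])) (.leaf (.up 33 1661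 [1] 0 []))) (.node (.leaf (.up 23 858 [1] 0 [])) (.leaf (.up 35 3498 [1] 0 [])))) (.node (.node (.leaf (.up 22 817 [0] 0 [87,116,230])) (.leaf (.up 27 2397 [1] 0 [116,212]))) (.leaf (.up 29 1499 [0] 0 [])))) (.node (.node (.node (.leaf (.up 20 406 [0] 0 [])) (.leaf (.up 29 2212 [0] 0 []))) (.node (.leaf (.up 29 1263 [0] 0 [])) (.leaf (.up 30 3427 [0] 0 [])))) (.node (.node (.leaf (.up 25 669 [1] 0 [])) (.leaf (.up 32 2418 [1] 0 []))) (.leaf (.up 28 1735 [0] 0 [])))))))

noncomputable def trio0_1101 : Tr TStep := .node trio0_11010 trio0_11011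

noncomputable def trio0_110 : Tr TStep := .node trio0_1100 trio0_1101

noncomputable def trio0_11100 : Tr TStep :=
  .node (.node (.node (.node (.node (.node (.node (.leaf (.up 4 2 [1] 0 [])) (.leaf (.up 26 2394 [1] 0 []))) (.node (.leaf (.up 26 844 [0] 0 [])) (.leaf (.up 31 3330 [1] 0 [])))) (.node (.node (.leaf (.up 18 329 [1] 0 [])) (.leaf (.up 28 2226 [0] 0 []))) (.node (.leaf (.up 27 1837 [1] 0 [])) (.leaf (.up 35 3690 [1] 0 []))))) (.node (.node (.node (.leaf (.up 16 161 [1] 0 [])) (.leaf (.up 32 2651 [1] 0 []))) (.node (.leaf (.up 24 1422 [0] 0 [57,56,148])) (.leaf (.up 31 2778 [1] 0 [])))) (.node (.node (.leaf (.up 22 954 [1] 0 [])) (.leaf (.up 30 2583 [0] 0 [87,94,123,129]))) (.leaf (.up 31 1511 [0] 0 []))))) (.node (.node (.node (.node (.leaf (.up 15 84 [1] 0 [])) (.leaf (.up 31 2523 [0] 0 []))) (.node (.leaf (.up 26 951 [0] 0 [])) (.leaf (.up 34 2921 [0] 0 [])))) (.node (.node (.leaf (.up 17 415 [1] 0 [])) (.leaf (.up 31 2359 [0] 0 []))) (.node (.leaf (.up 29 1391 [0] 0 [])) (.leaf (.up 35 3634 [0] 0 []))))) (.node (.node (.node (.leaf (.up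 26 309 [0] 0 [])) (.leaf (.up 31 2779 [1] 0 []))) (.node (.leaf (.up 25 1166 [0] 0 [])) (.leaf (.up 30 3237 [1] 0 [88,93,123,106])))) (.node (.node (.leaf (.up 22 732 [0] 0 [])) (.leaf (.up 30 3230 [1] 0 []))) (.leaf (.up 28 1621 [0] 0 [])))))) (.node (.node (.node (.node (.node (.leaf (.up 11 45 [1] 0 [])) (.leaf (.up 31 2461 [1] 0 []))) (.node (.leaf (.up 22 896 [0] 0 [])) (.leaf (.up 32 2509 [1] 0 [])))) (.node (.node (.leaf (.up 22 370 [1] 0 [])) (.leaf (.up 29 1962 [1] 0 []))) (.node (.leaf (.up 27 1328 [0] 0 [])) (.leaf (.up 30 3382 [1] 0 []))))) (.node (.node (.node (.leaf (.up 20 412 [0] 0 [])) (.leaf (.up 30 1734 [1] 0 []))) (.node (.leaf (.up 25 1114 [0] 0 [])) (.leaf (.up 33 3553 [1] 0 [])))) (.node (.node (.leaf (.up 25 552 [1] 0 [57,56,155,196])) (.leaf (.up 31 2987 [1] 0 [57,94,104,194]))) (.leaf (.up 20 1659 [1] 0 [57,55,43,15]))))) (.node (.node (.node (.node (.leaf (.up 17 253 [1] 0 [])) (.leaf (.up 32 1919 [0] 0 []))) (.node (.leaf (.up 30 1480 [1] 0 [])) (.leaf (.up 29 3155 [0] 0 [57,55,140,161])))) (.node (.node (.leaf (.up 25 571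 [0] 0 [])) (.leaf (.up 34 3066 [0] 0 []))) (.node (.leaf (.up 27 1194 [1] 0 [])) (.leaf (.up 33 3757 [0] 0 []))))) (.node (.node (.node (.leaf (.up 17 361 [0] 0 [])) (.leaf (.up 26 2348 [1] 0 [57,110,44,75]))) (.node (.leaf (.up 31 1223 [0] 0 [])) (.leaf (.up 32 3380 [0] 0 [88,94,89,114])))) (.node (.node (.leaf (.up 22 789 [0] 0 [])) (.leaf (.up 25 2692 [0] 0 []))) (.leaf (.up 26 1398 [1] 0 []))))))) (.node (.node (.node (.node (.node (.node (.leaf (.up 9 22 [1] 0 [])) (.leaf (.up 30 2135 [1] 0 [56,90,46]))) (.node (.leaf (.up 21 703 [1] 0 [])) (.leaf (.up 29 3352 [1] 0 [])))) (.node (.node (.leaf (.up 24 440 [0] 0 [])) (.leaf (.up 31 2930 [1] 0 []))) (.node (.leaf (.up 24 1070 [1] 0 [])) (.leaf (.up 28 3500 [0] 0 []))))) (.node (.node (.node (.leaf (.up 17 231 [0] 0 [])) (.leaf (.up 27 2012 [0] 0 []))) (.node (.leaf (.up 22 1087 [0] 0 [])) (.leaf (.up 33 3527 [1] 0 [])))) (.node (.node (.leaf (.up 23 991 [0] 0 [])) (.leaf (.up 29 3154 [1] 0 []))) (.leaf (.up 29 2147 [0] 0 []))))) (.node (.node (.node (.node (.leaf (.up 22 215 [1] 0 [])) (.leaf (.up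 23 1590 [1] 0 []))) (.node (.leaf (.up 24 796 [1] 0 [])) (.leaf (.up 27 3187 [1] 0 [57,93,103,246])))) (.node (.node (.leaf (.up 25 546 [0] 0 [])) (.leaf (.up 31 2387 [0] 0 []))) (.node (.leaf (.up 22 1171 [1] 0 [])) (.leaf (.up 34 3583 [1] 0 []))))) (.node (.node (.node (.leaf (.up 14 266 [1] 0 [])) (.leaf (.up 28 2811 [1] 0 []))) (.node (.leaf (.up 28 978 [1] 0 [])) (.leaf (.up 31 3547 [0] 0 [88,93,155,144])))) (.node (.node (.leaf (.up 26 759 [0] 0 [])) (.leaf (.up 31 2480 [1] 0 [57,56,90,183]))) (.leaf (.up 30 2289 [0] 0 [])))))) (.node (.node (.node (.node (.node (.leaf (.up 19 63 [1] 0 [])) (.leaf (.up 30 2488 [1] 0 []))) (.node (.leaf (.up 24 1369 [1] 0 [])) (.leaf (.up 26 3040 [1] 0 [110,42,113])))) (.node (.node (.leaf (.up 24 494 [0] 0 [])) (.leaf (.up 29 2415 [1] 0 [94,155,101]))) (.node (.leaf (.up 25 1358 [0] 0 [])) (.leaf (.up 34 3442 [1] 0 []))))) (.node (.node (.node (.leaf (.up 18 284 [0] 0 [])) (.leaf (.up 29 2747 [1] 0 []))) (.node (.leaf (.up 33 1664 [1] 0 [])) (.leaf (.up 31 2932 [1] 0 [])))) (.node (.node (.leaf (.up 27 1065 [1]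 0 [])) (.leaf (.up 33 3206 [1] 0 []))) (.leaf (.up 28 2221 [1] 0 []))))) (.node (.node (.node (.node (.leaf (.up 16 140 [1] 0 [])) (.leaf (.up 27 1950 [0] 0 []))) (.node (.leaf (.up 26 846 [1] 0 [])) (.leaf (.up 29 3046 [0] 0 [])))) (.node (.node (.leaf (.up 21 476 [1] 0 [])) (.leaf (.up 29 2781 [1] 0 [88,93,37]))) (.leaf (.up 33 1482 [0] 0 [])))) (.node (.node (.node (.leaf (.up 18 341 [1] 0 [88,56,42,168])) (.leaf (.up 26 1873 [1] 0 []))) (.node (.leaf (.up 30 1027 [1] 0 [])) (.leaf (.up 32 3329 [1] 0 [57,56,43,242])))) (.node (.node (.leaf (.up 25 1214 [1] 0 [])) (.leaf (.up 30 2737 [0] 0 []))) (.leaf (.up 23 1716 [0] 0 [])))))))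

noncomputable def trio0_11101 : Tr TStep :=
  .node (.node (.node (.node (.node (.node (.node (.leaf (.up 6 11 [1] 0 [])) (.leaf (.up 27 2411 [0] 0 []))) (.node (.leaf (.up 24 689 [1] 0 [])) (.leaf (.up 34 3042 [0] 0 [94,43,208])))) (.node (.node (.leaf (.up 29 427 [0] 0 [])) (.leaf (.up 29 1916 [1] 0 []))) (.node (.leaf (.up 26 1284 [0] 0 [])) (.leaf (.up 34 3567 [1] 0 [57,93,44,126]))))) (.node (.node (.node (.leaf (.up 22 354 [1] 0 [])) (.leaf (.up 30 2669 [1] 0 []))) (.node (.leaf (.up 22 1075 [0] 0 [])) (.leaf (.up 30 3111 [0] 0 [])))) (.node (.node (.leaf (.up 18 635 [0] 0 [])) (.leaf (.up 30 2502 [0] 0 []))) (.leaf (.up 27 1256 [1] 0 []))))) (.node (.node (.node (.node (.leaf (.up 16 192 [0] 0 [])) (.leaf (.up 24 1879 [0] 0 []))) (.node (.leaf (.up 22 784 [1] 0 [])) (.leaf (.up 29 2940 [0] 0 [])))) (.node (.node (.leaf (.up 25 826 [0] 0 [])) (.leaf (.up 28 2896 [1] 0 [56,44,16]))) (.node (.leaf (.up 24 1405 [0] 0 [])) (.leaf (.up 37 3764 [1] 0 [57,110,43,219]))))) (.node (.node (.node (.leaf (.up 19 510 [1] 0 [])) (.leaf (.up 33 2794 [0] 0 [])))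 (.node (.leaf (.up 23 1714 [1] 0 [])) (.leaf (.up 33 3285 [0] 0 [])))) (.node (.node (.leaf (.up 22 747 [0] 0 [])) (.leaf (.up 36 2639 [0] 0 []))) (.leaf (.up 27 2273 [1] 0 [])))))) (.node (.node (.node (.node (.node (.leaf (.up 15 111 [1] 0 [])) (.leaf (.up 29 2035 [1] 0 [57,93,42,149]))) (.node (.leaf (.up 24 1349 [1] 0 [])) (.leaf (.up 31 2523 [1] 0 [])))) (.node (.node (.leaf (.up 22 746 [1] 0 [])) (.leaf (.up 28 2261 [1] 0 [56,43,139]))) (.node (.leaf (.up 30 1929 [1] 0 [])) (.leaf (.up 33 3410 [1] 0 []))))) (.node (.node (.node (.leaf (.up 24 431 [1] 0 [])) (.leaf (.up 25 1745 [1] 0 []))) (.node (.leaf (.up 23 991 [1] 0 [87,55,90,191])) (.leaf (.up 32 3322 [1] 0 [57,56,123,225])))) (.node (.node (.leaf (.up 25 554 [1] 0 [])) (.leaf (.up 27 2570 [0] 0 []))) (.leaf (.up 23 1302 [1] 0 []))))) (.node (.node (.node (.node (.leaf (.up 21 131 [1] 0 [])) (.leaf (.up 25 1631 [1] 0 []))) (.node (.leaf (.up 29 1501 [1] 0 [])) (.leaf (.up 31 2702 [1] 0 [])))) (.node (.node (.leaf (.up 23 584 [0] 0 [])) (.leaf (.up 30 3081 [0] 0 []))) (.leaf (.up 26 2059 [1]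 0 [])))) (.node (.node (.node (.leaf (.up 21 589 [0] 0 [])) (.leaf (.up 27 2178 [0] 0 []))) (.node (.leaf (.up 26 1783 [1] 0 [])) (.leaf (.up 33 3441 [0] 0 [57,93,176,59])))) (.node (.node (.leaf (.up 20 643 [1] 0 [])) (.leaf (.up 31 3293 [0] 0 []))) (.leaf (.up 28 1699 [0] 0 []))))))) (.node (.node (.node (.node (.node (.node (.leaf (.up 12 69 [1] 0 [])) (.leaf (.up 29 2444 [0] 0 []))) (.node (.leaf (.up 22 1308 [0] 0 [])) (.leaf (.up 27 2891 [0] 0 [110,89,186])))) (.node (.node (.leaf (.up 21 453 [0] 0 [])) (.leaf (.up 26 2275 [0] 0 []))) (.node (.leaf (.up 26 1315 [0] 0 [])) (.leaf (.up 32 3713 [0] 0 [87,93,90,106]))))) (.node (.node (.node (.leaf (.up 22 246 [0] 0 [])) (.leaf (.up 30 2696 [1] 0 []))) (.node (.leaf (.up 28 1615 [1] 0 [])) (.leaf (.up 27 2856 [1] 0 [])))) (.node (.node (.leaf (.up 27 661 [0] 0 [])) (.leaf (.up 25 2190 [1] 0 []))) (.leaf (.up 32 2119 [0] 0 [55,43,102]))))) (.node (.node (.node (.node (.leaf (.up 17 235 [1] 0 [])) (.leaf (.up 29 2572 [1] 0 []))) (.node (.leaf (.up 26 993 [0] 0 [])) (.leaf (.up 29 3461 [1] 0 [])))) (.node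 (.node (.leaf (.up 23 445 [1] 0 [])) (.leaf (.up 25 2404 [0] 0 []))) (.node (.leaf (.up 29 1842 [1] 0 [88,94,44,117])) (.leaf (.up 32 3703 [1] 0 [57,94,44,188]))))) (.node (.node (.node (.leaf (.up 25 349 [0] 0 [])) (.leaf (.up 31 2823 [1] 0 []))) (.node (.leaf (.up 20 1206 [0] 0 [])) (.leaf (.up 32 3098 [1] 0 [])))) (.node (.node (.leaf (.up 25 622 [1] 0 [])) (.leaf (.up 28 2328 [1] 0 []))) (.leaf (.up 29 1666 [0] 0 [])))))) (.node (.node (.node (.node (.node (.leaf (.up 16 94 [0] 0 [])) (.leaf (.up 32 1851 [0] 0 []))) (.node (.leaf (.up 29 1391 [1] 0 [])) (.leaf (.up 31 3096 [1] 0 [57,103,211])))) (.node (.node (.leaf (.up 19 508 [0] 0 [])) (.leaf (.up 29 2007 [1] 0 []))) (.node (.leaf (.up 24 1376 [0] 0 [])) (.leaf (.up 31 3613 [0] 0 []))))) (.node (.node (.node (.leaf (.up 19 470 [1] 0 [])) (.leaf (.up 31 2763 [0] 0 []))) (.node (.leaf (.up 25 1152 [0] 0 [])) (.leaf (.up 33 3241 [0] 0 [])))) (.node (.node (.leaf (.up 22 1084 [1] 0 [])) (.leaf (.up 29 3219 [1] 0 []))) (.leaf (.up 23 1606 [0] 0 []))))) (.node (.node (.node (.node (.leaf (.up 18 193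 [0] 0 [])) (.leaf (.up 25 1656 [1] 0 []))) (.node (.leaf (.up 25 1047 [0] 0 [])) (.leaf (.up 31 2761 [1] 0 [])))) (.node (.node (.leaf (.up 25 490 [1] 0 [])) (.leaf (.up 32 2621 [1] 0 [88,55,43,146]))) (.leaf (.up 25 2096 [0] 0 [])))) (.node (.node (.node (.leaf (.up 20 402 [0] 0 [])) (.leaf (.up 31 1886 [1] 0 []))) (.node (.leaf (.up 27 1820 [1] 0 [])) (.leaf (.up 32 3433 [0] 0 [88,110,123,203])))) (.node (.node (.leaf (.up 26 1231 [1] 0 [])) (.leaf (.up 29 3314 [1] 0 []))) (.leaf (.up 31 1446 [1] 0 [])))))))

noncomputable def trio0_1110 : Tr TStep := .node trio0_11100 trio0_11101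

noncomputable def trio0_11110 : Tr TStep :=
  .node (.node (.node (.node (.node (.node (.node (.leaf (.up 7 21 [1] 0 [])) (.leaf (.up 26 1469 [1] 0 []))) (.node (.leaf (.up 29 1261 [1] 0 [])) (.leaf (.up 27 2782 [0] 0 [])))) (.node (.node (.leaf (.up 20 421 [0] 0 [])) (.leaf (.up 29 2235 [0] 0 []))) (.node (.leaf (.up 31 1278 [0] 0 [])) (.leaf (.up 31 3463 [0] 0 []))))) (.node (.node (.node (.leaf (.up 22 213 [0] 0 [])) (.leaf (.up 27 1986 [0] 0 []))) (.node (.leaf (.up 25 873 [1] 0 [])) (.leaf (.up 32 2786 [1] 0 [])))) (.node (.node (.leaf (.up 21 506 [1] 0 [])) (.leaf (.up 30 2495 [0] 0 []))) (.leaf (.up 31 2122 [1] 0 []))))) (.node (.node (.node (.node (.leaf (.up 15 114 [0] 0 [])) (.leaf (.up 27 1572 [1] 0 []))) (.node (.leaf (.up 24 1417 [1] 0 [])) (.leaf (.up 31 2930 [0] 0 [])))) (.node (.node (.leaf (.up 17 420 [1] 0 [])) (.leaf (.up 32 2699 [0] 0 [88,123,206]))) (.node (.leaf (.up 25 1748 [1] 0 [94,42,31])) (.leaf (.up 31 3673 [1] 0 [88,56,103,227]))))) (.node (.node (.node (.leaf (.up 19 500 [1] 0 [])) (.leaf (.up 30 2785 [1] 0 []))) (.node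 (.leaf (.up 25 1172 [0] 0 [])) (.leaf (.up 32 3055 [1] 0 [87,56,155,59])))) (.node (.node (.leaf (.up 25 1113 [1] 0 [])) (.leaf (.up 30 2631 [0] 0 []))) (.leaf (.up 28 2264 [1] 0 [])))))) (.node (.node (.node (.node (.node (.leaf (.up 11 101 [1] 0 [])) (.leaf (.up 29 2469 [1] 0 []))) (.node (.leaf (.up 23 733 [1] 0 [])) (.leaf (.up 31 2852 [0] 0 [])))) (.node (.node (.leaf (.up 24 472 [0] 0 [])) (.leaf (.up 35 2968 [1] 0 []))) (.node (.leaf (.up 27 1100 [1] 0 [])) (.leaf (.up 34 3739 [1] 0 []))))) (.node (.node (.node (.leaf (.up 17 265 [0] 0 [])) (.leaf (.up 27 2048 [0] 0 []))) (.node (.leaf (.up 25 1120 [0] 0 [])) (.leaf (.up 28 2994 [1] 0 [88,110,140,183])))) (.node (.node (.leaf (.up 23 1035 [0] 0 [])) (.leaf (.up 30 3184 [1] 0 []))) (.leaf (.up 28 1294 [1] 0 []))))) (.node (.node (.node (.node (.leaf (.up 14 162 [0] 0 [])) (.leaf (.up 30 2596 [1] 0 []))) (.node (.leaf (.up 25 1491 [0] 0 [])) (.leaf (.up 30 2684 [1] 0 [])))) (.node (.node (.leaf (.up 18 460 [1] 0 [])) (.leaf (.up 35 2426 [0] 0 []))) (.node (.leaf (.up 27 1200 [1] 0 [])) (.leaf (.up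 37 3776 [0] 0 []))))) (.node (.node (.node (.leaf (.up 24 580 [1] 0 [])) (.leaf (.up 31 1853 [1] 0 []))) (.node (.leaf (.up 32 1012 [1] 0 [])) (.leaf (.up 34 3377 [0] 0 [])))) (.node (.node (.leaf (.up 27 795 [0] 0 [])) (.leaf (.up 29 3013 [0] 0 [57,94,44,172]))) (.leaf (.up 31 1406 [1] 0 []))))))) (.node (.node (.node (.node (.node (.node (.leaf (.up 13 59 [1] 0 [])) (.leaf (.up 28 2435 [1] 0 []))) (.node (.leaf (.up 23 877 [0] 0 [])) (.leaf (.up 32 2481 [1] 0 [])))) (.node (.node (.leaf (.up 24 695 [1] 0 [])) (.leaf (.up 29 2938 [1] 0 []))) (.node (.leaf (.up 29 1076 [1] 0 [])) (.leaf (.up 33 3496 [1] 0 [88,55,44,195]))))) (.node (.node (.node (.leaf (.up 20 384 [1] 0 [])) (.leaf (.up 26 2676 [1] 0 [43,211]))) (.node (.leaf (.up 23 1606 [1] 0 [])) (.leaf (.up 30 2843 [1] 0 [])))) (.node (.node (.leaf (.up 18 655 [0] 0 [])) (.leaf (.up 30 3164 [1] 0 []))) (.leaf (.up 28 1545 [0] 0 []))))) (.node (.node (.node (.node (.leaf (.up 16 137 [0] 0 [])) (.leaf (.up 24 1900 [0] 0 []))) (.node (.leaf (.up 21 983 [0] 0 [])) (.leaf (.up 33 3453 [1] 0 [])))) (.node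 (.node (.leaf (.up 23 553 [0] 0 [])) (.leaf (.up 29 2485 [1] 0 [55,116,71]))) (.node (.leaf (.up 21 1463 [1] 0 [55,116,18])) (.leaf (.up 33 3743 [0] 0 [56,140,9]))))) (.node (.node (.node (.leaf (.up 23 271 [1] 0 [])) (.leaf (.up 30 2819 [1] 0 []))) (.node (.leaf (.up 28 1743 [1] 0 [])) (.leaf (.up 33 3083 [1] 0 [])))) (.node (.node (.leaf (.up 25 1149 [1] 0 [])) (.leaf (.up 28 2321 [1] 0 []))) (.leaf (.up 21 1863 [1] 0 [88,44,100])))))) (.node (.node (.node (.node (.node (.leaf (.up 14 68 [1] 0 [])) (.leaf (.up 27 1844 [0] 0 []))) (.node (.leaf (.up 24 1381 [1] 0 [])) (.leaf (.up 29 3166 [1] 0 [94,104,31])))) (.node (.node (.leaf (.up 22 400 [1] 0 [])) (.leaf (.up 31 3000 [1] 0 []))) (.node (.leaf (.up 27 1124 [1] 0 [])) (.leaf (.up 33 3757 [1] 0 []))))) (.node (.node (.node (.leaf (.up 16 226 [1] 0 [])) (.leaf (.up 28 2322 [1] 0 [87,93,43,7]))) (.node (.leaf (.up 28 937 [1] 0 [])) (.leaf (.up 31 2955 [1] 0 [])))) (.node (.node (.leaf (.up 19 710 [0] 0 [])) (.leaf (.up 28 2256 [1] 0 []))) (.leaf (.up 25 1601 [0] 0 []))))) (.node (.node (.node (.node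 (.leaf (.up 18 186 [0] 0 [])) (.leaf (.up 25 2577 [0] 0 [88,93,176,151]))) (.node (.leaf (.up 28 851 [1] 0 [])) (.leaf (.up 33 2748 [1] 0 [])))) (.node (.node (.leaf (.up 23 605 [0] 0 [])) (.leaf (.up 27 3099 [0] 0 []))) (.leaf (.up 26 2089 [1] 0 [])))) (.node (.node (.node (.leaf (.up 23 617 [1] 0 [])) (.leaf (.up 26 1878 [1] 0 []))) (.node (.leaf (.up 26 1810 [0] 0 [])) (.leaf (.up 33 3414 [0] 0 [])))) (.node (.node (.leaf (.up 31 825 [0] 0 [])) (.leaf (.up 31 3273 [1] 0 [87,93,176,168]))) (.leaf (.up 29 2363 [0] 0 [])))))))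

noncomputable def trio0_11111 : Tr TStep :=
  .node (.node (.node (.node (.node (.node (.node (.leaf (.up 7 24 [0] 0 [])) (.leaf (.up 34 2419 [0] 0 []))) (.node (.leaf (.up 26 694 [1] 0 [])) (.leaf (.up 33 3346 [1] 0 [])))) (.node (.node (.leaf (.up 27 675 [1] 0 [])) (.leaf (.up 29 2731 [0] 0 [87,93,123,157]))) (.node (.leaf (.up 31 1290 [0] 0 [])) (.leaf (.up 26 3590 [0] 0 [87,110,91,23]))))) (.node (.node (.node (.leaf (.up 17 175 [1] 0 [])) (.leaf (.up 28 2004 [0] 0 []))) (.node (.leaf (.up 25 884 [1] 0 [])) (.leaf (.up 34 3520 [1] 0 [])))) (.node (.node (.leaf (.up 23 642 [0] 0 [])) (.leaf (.up 28 3146 [1] 0 []))) (.leaf (.up 27 1530 [0] 0 []))))) (.node (.node (.node (.node (.leaf (.up 15 126 [0] 0 [])) (.leaf (.up 27 1585 [1] 0 []))) (.node (.leaf (.up 29 1436 [1] 0 [])) (.leaf (.up 30 3437 [1] 0 [])))) (.node (.node (.leaf (.up 26 430 [1] 0 [])) (.leaf (.up 29 2045 [1] 0 []))) (.node (.leaf (.up 25 1412 [0] 0 [])) (.leaf (.up 32 3762 [1] 0 [110,44,23]))))) (.node (.node (.node (.leaf (.up 16 330 [0] 0 [])) (.leaf (.up 33 2802 [0] 0 []))) (.node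 (.leaf (.up 26 973 [1] 0 [])) (.leaf (.up 28 3300 [0] 0 [])))) (.node (.node (.leaf (.up 22 752 [0] 0 [])) (.leaf (.up 31 3250 [1] 0 []))) (.leaf (.up 23 1645 [0] 0 [])))))) (.node (.node (.node (.node (.node (.leaf (.up 15 121 [1] 0 [])) (.leaf (.up 26 1828 [0] 0 []))) (.node (.leaf (.up 24 771 [1] 0 [110,241])) (.leaf (.up 29 2529 [1] 0 [])))) (.node (.node (.leaf (.up 19 487 [0] 0 [])) (.leaf (.up 31 2316 [0] 0 []))) (.node (.leaf (.up 24 1349 [0] 0 [])) (.leaf (.up 36 3748 [1] 0 []))))) (.node (.node (.node (.leaf (.up 21 278 [0] 0 [])) (.leaf (.up 26 2061 [0] 0 []))) (.node (.leaf (.up 25 1132 [0] 0 [])) (.leaf (.up 33 3208 [0] 0 [])))) (.node (.node (.leaf (.up 22 814 [1] 0 [103,2])) (.leaf (.up 25 2678 [1] 0 [87,110,90,203]))) (.leaf (.up 28 1310 [1] 0 []))))) (.node (.node (.node (.node (.leaf (.up 15 174 [0] 0 [])) (.leaf (.up 23 2224 [0] 0 [57,94,43,197]))) (.node (.leaf (.up 30 1029 [0] 0 [])) (.leaf (.up 32 2717 [1] 0 [])))) (.node (.node (.leaf (.up 23 590 [0] 0 [])) (.leaf (.up 28 2445 [0] 0 []))) (.leaf (.up 26 1219 [1] 0 [])))) (.node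 (.node (.node (.leaf (.up 20 384 [0] 0 [])) (.leaf (.up 26 2864 [0] 0 []))) (.node (.leaf (.up 26 1022 [1] 0 [])) (.leaf (.up 33 3505 [1] 0 [110,44,181])))) (.node (.node (.leaf (.up 22 1126 [1] 0 [87,55,89,174])) (.leaf (.up 28 3299 [1] 0 []))) (.leaf (.up 26 1707 [0] 0 []))))))) (.node (.node (.node (.node (.node (.node (.leaf (.up 18 51 [0] 0 [])) (.leaf (.up 27 1798 [0] 0 []))) (.node (.leaf (.up 21 1320 [1] 0 [])) (.leaf (.up 27 2500 [1] 0 [])))) (.node (.node (.leaf (.up 20 716 [1] 0 [])) (.leaf (.up 26 2882 [0] 0 [87,55,42,233]))) (.node (.leaf (.up 26 1321 [0] 0 [])) (.leaf (.up 34 3725 [1] 0 []))))) (.node (.node (.node (.leaf (.up 17 253 [0] 0 [])) (.leaf (.up 32 2034 [0] 0 []))) (.node (.leaf (.up 28 906 [1] 0 [])) (.leaf (.up 30 3167 [0] 0 [])))) (.node (.node (.leaf (.up 30 1013 [0] 0 [])) (.leaf (.up 26 2681 [1] 0 [55,140,170]))) (.leaf (.up 30 1557 [0] 0 []))))) (.node (.node (.node (.node (.leaf (.up 19 150 [0] 0 [])) (.leaf (.up 27 2579 [0] 0 []))) (.node (.leaf (.up 24 1470 [1] 0 [])) (.leaf (.up 32 3467 [1] 0 [])))) (.node (.node (.leaf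 (.up 20 565 [0] 0 [])) (.leaf (.up 31 2410 [0] 0 []))) (.node (.leaf (.up 29 1444 [0] 0 [])) (.leaf (.up 34 3789 [0] 0 []))))) (.node (.node (.node (.leaf (.up 20 280 [1] 0 [])) (.leaf (.up 29 1839 [1] 0 []))) (.node (.leaf (.up 20 1217 [0] 0 [])) (.leaf (.up 33 3639 [1] 0 [])))) (.node (.node (.leaf (.up 22 781 [0] 0 [])) (.leaf (.up 31 2344 [1] 0 []))) (.leaf (.up 31 2316 [1] 0 [])))))) (.node (.node (.node (.node (.node (.leaf (.up 14 162 [1] 0 [])) (.leaf (.up 29 1858 [0] 0 []))) (.node (.leaf (.up 24 767 [1] 0 [])) (.leaf (.up 28 3312 [1] 0 [57,94,89,3])))) (.node (.node (.leaf (.up 22 410 [1] 0 [])) (.leaf (.up 27 2351 [0] 0 []))) (.node (.leaf (.up 34 1383 [0] 0 [])) (.leaf (.up 30 3501 [1] 0 []))))) (.node (.node (.node (.leaf (.up 20 478 [1] 0 [])) (.leaf (.up 26 1957 [1] 0 [104,148]))) (.node (.leaf (.up 28 950 [1] 0 [])) (.leaf (.up 29 3444 [1] 0 [88,94,89,167])))) (.node (.node (.leaf (.up 25 581 [1] 0 [])) (.leaf (.up 28 2880 [1] 0 [87,110,42,224]))) (.leaf (.up 31 2248 [1] 0 []))))) (.node (.node (.node (.node (.leaf (.up 16 156 [1] 0 []))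 (.leaf (.up 30 2206 [1] 0 [57,56,43,241]))) (.node (.leaf (.up 27 1053 [0] 0 [])) (.leaf (.up 28 3500 [1] 0 [])))) (.node (.node (.leaf (.up 23 619 [0] 0 [])) (.leaf (.up 25 2181 [1] 0 [88,55,44,233]))) (.leaf (.up 29 2104 [0] 0 [])))) (.node (.node (.node (.leaf (.up 18 635 [1] 0 [])) (.leaf (.up 27 2724 [1] 0 [57,56,149]))) (.node (.leaf (.up 24 1459 [0] 0 [1])) (.leaf (.up 33 3435 [0] 0 [])))) (.node (.node (.leaf (.up 27 838 [0] 0 [])) (.leaf (.up 32 3321 [1] 0 []))) (.leaf (.up 26 2382 [1] 0 [])))))))

noncomputable def trio0_1111 : Tr TStep := .node trio0_11110 trio0_11111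

noncomputable def trio0_111 : Tr TStep := .node trio0_1110 trio0_1111

noncomputable def trio0_11 : Tr TStep := .node trio0_110 trio0_111

noncomputable def trio0_1 : Tr TStep := .node trio0_10 trio0_11

noncomputable def trio0_ : Tr TStep := .node trio0_0 trio0_1

noncomputable def vt0_0_0000 : Tr VStep :=
  .node (.node (.node (.node (.node (.node (.node (.leaf (.root 3)) (.leaf (.up 6 332 5))) (.node (.leaf (.up 7 1906 3)) (.leaf (.up 8 844 5)))) (.node (.node (.leaf (.up 5 784 6)) (.leaf (.up 6 1808 6))) (.node (.leaf (.up 7 272 6)) (.leaf (.up 8 1296 6))))) (.node (.node (.node (.leaf (.up 8 656 6)) (.leaf (.up 7 1680 6))) (.node (.leaf (.up 8 144 6)) (.leaf (.up 5 1168 6)))) (.node (.node (.leaf (.up 6 1228 5)) (.leaf (.up 5 267 0))) (.node (.leaf (.up 6 1740 5)) (.leaf (.up 5 754 3)))))) (.node (.node (.node (.node (.leaf (.up 4 592 6)) (.leaf (.up 5 1616 6))) (.node (.leaf (.up 8 80 6)) (.leaf (.up 9 1104 6)))) (.node (.node (.leaf (.up 6 698 4)) (.leaf (.up 3 12 5))) (.node (.leaf (.up 6 186 4)) (.leaf (.up 7 524 5))))) (.node (.node (.node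 (.leaf (.up 7 1420 5)) (.leaf (.up 6 1850 4))) (.node (.leaf (.up 5 1932 5)) (.leaf (.up 6 1039 2)))) (.node (.node (.leaf (.up 7 976 6)) (.leaf (.up 6 2000 6))) (.node (.leaf (.up 5 464 6)) (.leaf (.up 8 1488 6))))))) (.node (.node (.node (.node (.node (.leaf (.up 6 560 6)) (.leaf (.up 5 1584 6))) (.node (.leaf (.up 6 48 6)) (.leaf (.up 7 1072 6)))) (.node (.node (.leaf (.up 6 1007 2)) (.leaf (.up 5 108 5))) (.node (.leaf (.up 4 1618 3)) (.leaf (.up 7 620 5))))) (.node (.node (.node (.leaf (.up 5 1516 5)) (.leaf (.up 4 1647 2))) (.node (.leaf (.up 7 2028 5)) (.leaf (.up 8 1370 4)))) (.node (.node (.leaf (.up 5 944 6)) (.leaf (.up 6 1968 6))) (.node (.leaf (.up 7 432 6)) (.leaf (.up 8 1456 6)))))) (.node (.node (.node (.node (.leaf (.up 3 922 4)) (.leaf (.up 6 300 5))) (.node (.leaf (.up 5 609 1)) (.leaf (.up 6 812 5)))) (.node (.node (.leaf (.up 5 880 6)) (.leaf (.up 8 1904 6))) (.node (.leaf (.up 5 368 6)) (.leaf (.up 8 1392 6))))) (.node (.node (.node (.leaf (.up 5 752 6)) (.leaf (.up 5 1776 6))) (.node (.leaf (.up 10 240 6)) (.leaf (.up 7 1264 6))))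 (.node (.node (.leaf (.up 4 1196 5)) (.leaf (.up 5 146 3))) (.node (.leaf (.up 8 1708 5)) (.leaf (.up 5 2017 1)))))))) (.node (.node (.node (.node (.node (.node (.leaf (.up 8 512 6)) (.leaf (.up 9 1536 6))) (.node (.leaf (.up 1 0 6)) (.leaf (.up 7 1024 6)))) (.node (.node (.leaf (.up 6 746 4)) (.leaf (.up 7 92 5))) (.node (.leaf (.up 4 234 4)) (.leaf (.up 5 604 5))))) (.node (.node (.node (.leaf (.up 7 1500 5)) (.leaf (.up 4 1169 1))) (.node (.leaf (.up 7 2012 5)) (.leaf (.up 6 1386 4)))) (.node (.node (.leaf (.up 7 896 6)) (.leaf (.up 6 1920 6))) (.node (.leaf (.up 7 384 6)) (.leaf (.up 6 1408 6)))))) (.node (.node (.node (.node (.leaf (.up 7 1314 3)) (.leaf (.up 8 284 5))) (.node (.leaf (.up 3 159 2)) (.leaf (.up 4 796 5)))) (.node (.node (.leaf (.up 7 832 6)) (.leaf (.up 8 1856 6))) (.node (.leaf (.up 7 320 6)) (.leaf (.up 4 1344 6))))) (.node (.node (.node (.leaf (.up 6 704 6)) (.leaf (.up 7 1728 6))) (.node (.leaf (.up 8 192 6)) (.leaf (.up 7 1216 6)))) (.node (.node (.leaf (.up 4 1180 5)) (.leaf (.up 7 162 3))) (.node (.leaf (.up 6 1692 5)) (.leaf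 (.up 5 1311 2))))))) (.node (.node (.node (.node (.node (.leaf (.up 5 767 2)) (.leaf (.up 6 380 5))) (.node (.leaf (.up 5 458 4)) (.leaf (.up 4 892 5)))) (.node (.node (.leaf (.up 5 800 6)) (.leaf (.up 8 1824 6))) (.node (.leaf (.up 7 288 6)) (.leaf (.up 6 1312 6))))) (.node (.node (.node (.leaf (.up 8 672 6)) (.leaf (.up 9 1696 6))) (.node (.leaf (.up 6 160 6)) (.leaf (.up 5 1184 6)))) (.node (.node (.leaf (.up 6 1276 5)) (.leaf (.up 7 1919 2))) (.node (.leaf (.up 4 1788 5)) (.leaf (.up 5 706 3)))))) (.node (.node (.node (.node (.leaf (.up 6 608 6)) (.leaf (.up 7 1632 6))) (.node (.leaf (.up 4 96 6)) (.leaf (.up 7 1120 6)))) (.node (.node (.leaf (.up 4 1026 3)) (.leaf (.up 7 60 5))) (.node (.leaf (.up 4 1980 0)) (.leaf (.up 7 572 5))))) (.node (.node (.node (.leaf (.up 9 1468 5)) (.leaf (.up 6 1802 4))) (.node (.leaf (.up 4 1980 5)) (.leaf (.up 4 1719 0)))) (.node (.node (.leaf (.up 9 992 6)) (.leaf (.up 6 2016 6))) (.node (.leaf (.up 5 480 6)) (.leaf (.up 6 1504 6))))))))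

noncomputable def vt0_0_0001 : Tr VStep :=
  .node (.node (.node (.node (.node (.node (.node (.leaf (.up 5 536 6)) (.leaf (.up 8 1560 6))) (.node (.leaf (.up 7 24 6)) (.leaf (.up 6 1048 6)))) (.node (.node (.leaf (.up 5 754 4)) (.leaf (.up 8 68 5))) (.node (.leaf (.up 5 777 1)) (.leaf (.up 6 580 5))))) (.node (.node (.node (.leaf (.up 6 1476 5)) (.leaf (.up 7 1906 4))) (.node (.leaf (.up 6 1988 5)) (.leaf (.up 2 1394 4)))) (.node (.node (.leaf (.up 8 920 6)) (.leaf (.up 5 1944 6))) (.node (.leaf (.up 8 408 6)) (.leaf (.up 5 1432 6)))))) (.node (.node (.node (.node (.leaf (.up 6 647 2)) (.leaf (.up 5 260 5))) (.node (.leaf (.up 6 1850 3)) (.leaf (.up 5 772 5)))) (.node (.node (.leaf (.up 8 856 6)) (.leaf (.up 7 1880 6))) (.node (.leaf (.up 6 344 6)) (.leaf (.up 7 1368 6))))) (.node (.node (.node (.leaf (.up 7 728 6)) (.leaf (.up 8 1752 6))) (.node (.leaf (.up 5 216 6)) (.leaf (.up 6 1240 6)))) (.node (.node (.leaf (.up 7 1156 5)) (.leaf (.up 4 1799 2))) (.node (.leaf (.up 5 1668 5)) (.leaf (.up 6 698 3))))))) (.node (.node (.node (.node (.node (.leaf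 (.up 8 1370 3)) (.leaf (.up 5 356 5))) (.node (.leaf (.up 4 231 2)) (.leaf (.up 5 868 5)))) (.node (.node (.leaf (.up 8 824 6)) (.leaf (.up 7 1848 6))) (.node (.leaf (.up 6 312 6)) (.leaf (.up 7 1336 6))))) (.node (.node (.node (.leaf (.up 7 696 6)) (.leaf (.up 6 1720 6))) (.node (.leaf (.up 7 184 6)) (.leaf (.up 6 1208 6)))) (.node (.node (.leaf (.up 5 1252 5)) (.leaf (.up 4 1618 4))) (.node (.leaf (.up 5 1764 5)) (.leaf (.up 6 1383 2)))))) (.node (.node (.node (.node (.leaf (.up 7 632 6)) (.leaf (.up 8 1656 6))) (.node (.leaf (.up 5 120 6)) (.leaf (.up 5 1144 6)))) (.node (.node (.leaf (.up 5 804 0)) (.leaf (.up 8 36 5))) (.node (.leaf (.up 5 146 4)) (.leaf (.up 6 548 5))))) (.node (.node (.node (.leaf (.up 6 1444 5)) (.leaf (.up 5 559 0))) (.node (.leaf (.up 8 1956 5)) (.leaf (.up 3 922 3)))) (.node (.node (.leaf (.up 6 1016 6)) (.leaf (.up 5 2040 6))) (.node (.leaf (.up 8 504 6)) (.leaf (.up 5 1528 6)))))))) (.node (.node (.node (.node (.node (.node (.leaf (.up 6 1386 3)) (.leaf (.up 5 340 5))) (.node (.leaf (.up 4 1176 0)) (.leaf (.up 7 852 5))))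 (.node (.node (.leaf (.up 6 776 6)) (.leaf (.up 7 1800 6))) (.node (.leaf (.up 6 264 6)) (.leaf (.up 9 1288 6))))) (.node (.node (.node (.leaf (.up 7 648 6)) (.leaf (.up 3 1672 6))) (.node (.leaf (.up 7 136 6)) (.leaf (.up 8 1160 6)))) (.node (.node (.leaf (.up 7 1236 5)) (.leaf (.up 4 234 3))) (.node (.leaf (.up 7 1748 5)) (.leaf (.up 4 1427 0)))))) (.node (.node (.node (.node (.leaf (.up 7 584 6)) (.leaf (.up 6 1608 6))) (.node (.leaf (.up 7 72 6)) (.leaf (.up 6 1096 6)))) (.node (.node (.leaf (.up 5 919 2)) (.leaf (.up 6 20 5))) (.node (.leaf (.up 7 162 4)) (.leaf (.up 6 532 5))))) (.node (.node (.node (.leaf (.up 4 1428 5)) (.leaf (.up 5 1826 4))) (.node (.leaf (.up 6 1940 5)) (.leaf (.up 7 1314 4)))) (.node (.node (.leaf (.up 6 968 6)) (.leaf (.up 7 1992 6))) (.node (.leaf (.up 8 456 6)) (.leaf (.up 5 1480 6))))))) (.node (.node (.node (.node (.node (.leaf (.up 5 552 6)) (.leaf (.up 6 1576 6))) (.node (.leaf (.up 9 40 6)) (.leaf (.up 6 1064 6)))) (.node (.node (.leaf (.up 5 706 4)) (.leaf (.up 6 116 5))) (.node (.leaf (.up 7 503 2)) (.leaf (.up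 6 628 5))))) (.node (.node (.node (.leaf (.up 6 1524 5)) (.leaf (.up 5 458 3))) (.node (.leaf (.up 6 2036 5)) (.leaf (.up 5 1143 2)))) (.node (.node (.leaf (.up 6 936 6)) (.leaf (.up 7 1960 6))) (.node (.leaf (.up 6 424 6)) (.leaf (.up 5 1448 6)))))) (.node (.node (.node (.node (.leaf (.up 4 121 1)) (.leaf (.up 4 308 5))) (.node (.leaf (.up 6 1802 3)) (.leaf (.up 7 820 5)))) (.node (.node (.leaf (.up 6 872 6)) (.leaf (.up 7 1896 6))) (.node (.leaf (.up 6 360 6)) (.leaf (.up 9 1384 6))))) (.node (.node (.node (.leaf (.up 9 744 6)) (.leaf (.up 4 1768 6))) (.node (.leaf (.up 7 232 6)) (.leaf (.up 6 1256 6)))) (.node (.node (.leaf (.up 7 1204 5)) (.leaf (.up 4 1529 1))) (.node (.leaf (.up 5 1716 5)) (.leaf (.up 4 1026 4))))))))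

noncomputable def vt0_0_000 : Tr VStep := .node vt0_0_0000 vt0_0_0001

noncomputable def vt0_0_0010 : Tr VStep :=
  .node (.node (.node (.node (.node (.node (.node (.leaf (.up 6 532 6)) (.leaf (.up 9 1556 6))) (.node (.leaf (.up 6 20 6)) (.leaf (.up 7 1044 6)))) (.node (.node (.leaf (.up 4 766 4)) (.leaf (.up 7 72 5))) (.node (.leaf (.up 4 773 1)) (.leaf (.up 7 584 5))))) (.node (.node (.node (.leaf (.up 5 1480 5)) (.leaf (.up 6 1918 4))) (.node (.leaf (.up 7 1992 5)) (.leaf (.up 4 1406 4)))) (.node (.node (.leaf (.up 9 916 6)) (.leaf (.up 6 1940 6))) (.node (.leaf (.up 7 404 6)) (.leaf (.up 4 1428 6)))))) (.node (.node (.node (.node (.leaf (.up 7 651 2)) (.leaf (.up 6 264 5))) (.node (.leaf (.up 5 1846 3)) (.leaf (.up 6 776 5)))) (.node (.node (.leaf (.up 7 852 6)) (.leaf (.up 6 1876 6))) (.node (.leaf (.up 5 340 6)) (.leaf (.up 8 1364 6))))) (.node (.node (.node (.leaf (.up 6 724 6)) (.leaf (.up 7 1748 6))) (.node (.leaf (.up 6 212 6)) (.leaf (.up 7 1236 6)))) (.node (.node (.leaf (.up 8 1160 5)) (.leaf (.up 5 1803 2))) (.node (.leaf (.up 3 1672 5))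 (.leaf (.up 5 694 3))))))) (.node (.node (.node (.node (.node (.leaf (.up 7 1366 3)) (.leaf (.up 6 360 5))) (.node (.leaf (.up 5 235 2)) (.leaf (.up 6 872 5)))) (.node (.node (.leaf (.up 7 820 6)) (.leaf (.up 8 1844 6))) (.node (.leaf (.up 4 308 6)) (.leaf (.up 6 1332 6))))) (.node (.node (.node (.leaf (.up 6 692 6)) (.leaf (.up 5 1716 6))) (.node (.leaf (.up 6 180 6)) (.leaf (.up 7 1204 6)))) (.node (.node (.leaf (.up 6 1256 5)) (.leaf (.up 5 1630 4))) (.node (.leaf (.up 4 1768 5)) (.leaf (.up 7 1387 2)))))) (.node (.node (.node (.node (.leaf (.up 6 628 6)) (.leaf (.up 9 1652 6))) (.node (.leaf (.up 6 116 6)) (.leaf (.up 7 1140 6)))) (.node (.node (.leaf (.up 4 805 0)) (.leaf (.up 9 40 5))) (.node (.leaf (.up 4 158 4)) (.leaf (.up 5 552 5))))) (.node (.node (.node (.leaf (.up 5 1448 5)) (.leaf (.up 4 558 0))) (.node (.leaf (.up 7 1960 5)) (.leaf (.up 4 918 3)))) (.node (.node (.leaf (.up 7 1012 6)) (.leaf (.up 6 2036 6))) (.node (.leaf (.up 7 500 6)) (.leaf (.up 6 1524 6)))))))) (.node (.node (.node (.node (.node (.node (.leaf (.up 5 1382 3)) (.leaf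 (.up 6 344 5))) (.node (.leaf (.up 5 1177 0)) (.leaf (.up 8 856 5)))) (.node (.node (.leaf (.up 5 772 6)) (.leaf (.up 8 1796 6))) (.node (.leaf (.up 5 260 6)) (.leaf (.up 8 1284 6))))) (.node (.node (.node (.leaf (.up 8 644 6)) (.leaf (.up 5 1668 6))) (.node (.leaf (.up 6 132 6)) (.leaf (.up 7 1156 6)))) (.node (.node (.leaf (.up 6 1240 5)) (.leaf (.up 3 230 3))) (.node (.leaf (.up 8 1752 5)) (.leaf (.up 5 1426 0)))))) (.node (.node (.node (.node (.leaf (.up 6 580 6)) (.leaf (.up 7 1604 6))) (.node (.leaf (.up 8 68 6)) (.leaf (.up 7 1092 6)))) (.node (.node (.leaf (.up 4 923 2)) (.leaf (.up 7 24 5))) (.node (.leaf (.up 6 174 4)) (.leaf (.up 5 536 5))))) (.node (.node (.node (.leaf (.up 5 1432 5)) (.leaf (.up 6 1838 4))) (.node (.leaf (.up 5 1944 5)) (.leaf (.up 6 1326 4)))) (.node (.node (.leaf (.up 4 964 6)) (.leaf (.up 6 1988 6))) (.node (.leaf (.up 9 452 6)) (.leaf (.up 6 1476 6))))))) (.node (.node (.node (.node (.node (.leaf (.up 6 548 6)) (.leaf (.up 7 1572 6))) (.node (.leaf (.up 8 36 6)) (.leaf (.up 7 1060 6)))) (.node (.node (.leaf (.up 3 718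 4)) (.leaf (.up 5 120 5))) (.node (.leaf (.up 6 507 2)) (.leaf (.up 7 632 5))))) (.node (.node (.node (.leaf (.up 5 1528 5)) (.leaf (.up 6 454 3))) (.node (.leaf (.up 5 2040 5)) (.leaf (.up 4 1147 2)))) (.node (.node (.leaf (.up 5 932 6)) (.leaf (.up 8 1956 6))) (.node (.leaf (.up 7 420 6)) (.leaf (.up 6 1444 6)))))) (.node (.node (.node (.node (.leaf (.up 5 117 1)) (.leaf (.up 6 312 5))) (.node (.leaf (.up 5 1798 3)) (.leaf (.up 8 824 5)))) (.node (.node (.leaf (.up 5 868 6)) (.leaf (.up 6 1892 6))) (.node (.leaf (.up 5 356 6)) (.leaf (.up 10 1380 6))))) (.node (.node (.node (.leaf (.up 8 740 6)) (.leaf (.up 5 1764 6))) (.node (.leaf (.up 6 228 6)) (.leaf (.up 5 1252 6)))) (.node (.node (.leaf (.up 6 1208 5)) (.leaf (.up 5 1525 1))) (.node (.leaf (.up 6 1720 5)) (.leaf (.up 5 1038 4))))))))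

noncomputable def vt0_0_0011 : Tr VStep :=
  .node (.node (.node (.node (.node (.node (.node (.leaf (.up 2 1 0)) (.leaf (.up 7 320 5))) (.node (.leaf (.up 6 1918 3)) (.leaf (.up 7 832 5)))) (.node (.node (.leaf (.up 4 796 6)) (.leaf (.up 5 1820 6))) (.node (.leaf (.up 8 284 6)) (.leaf (.up 9 1308 6))))) (.node (.node (.node (.leaf (.up 7 668 6)) (.leaf (.up 6 1692 6))) (.node (.leaf (.up 9 156 6)) (.leaf (.up 4 1180 6)))) (.node (.node (.leaf (.up 7 1216 5)) (.leaf (.up 6 266 0))) (.node (.leaf (.up 7 1728 5)) (.leaf (.up 4 766 3)))))) (.node (.node (.node (.node (.leaf (.up 5 604 6)) (.leaf (.up 6 1628 6))) (.node (.leaf (.up 7 92 6)) (.leaf (.up 8 1116 6)))) (.node (.node (.leaf (.up 5 694 4)) (.leaf (.up 1 0 5))) (.node (.leaf (.up 7 182 4)) (.leaf (.up 8 512 5))))) (.node (.node (.node (.leaf (.up 6 1408 5)) (.leaf (.up 5 1846 4))) (.node (.leaf (.up 6 1920 5)) (.leaf (.up 5 1027 2)))) (.node (.node (.leaf (.up 8 988 6)) (.leaf (.up 7 2012 6))) (.node (.leaf (.up 6 476 6)) (.leaf (.up 7 1500 6))))))) (.node (.node (.node (.node (.node (.leaf (.up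 7 572 6)) (.leaf (.up 6 1596 6))) (.node (.leaf (.up 7 60 6)) (.leaf (.up 6 1084 6)))) (.node (.node (.leaf (.up 5 995 2)) (.leaf (.up 4 96 5))) (.node (.leaf (.up 5 1630 3)) (.leaf (.up 6 608 5))))) (.node (.node (.node (.leaf (.up 6 1504 5)) (.leaf (.up 3 1635 2))) (.node (.leaf (.up 6 2016 5)) (.leaf (.up 7 1366 4)))) (.node (.node (.leaf (.up 6 956 6)) (.leaf (.up 4 1980 6))) (.node (.leaf (.up 8 444 6)) (.leaf (.up 9 1468 6)))))) (.node (.node (.node (.node (.leaf (.up 4 918 4)) (.leaf (.up 7 288 5))) (.node (.leaf (.up 6 621 1)) (.leaf (.up 5 800 5)))) (.node (.node (.leaf (.up 4 892 6)) (.leaf (.up 7 1916 6))) (.node (.leaf (.up 6 380 6)) (.leaf (.up 7 1404 6))))) (.node (.node (.node (.leaf (.up 7 764 6)) (.leaf (.up 4 1788 6))) (.node (.leaf (.up 9 252 6)) (.leaf (.up 6 1276 6)))) (.node (.node (.leaf (.up 5 1184 5)) (.leaf (.up 4 158 3))) (.node (.leaf (.up 9 1696 5)) (.leaf (.up 6 2029 1)))))))) (.node (.node (.node (.node (.node (.node (.leaf (.up 7 524 6)) (.leaf (.up 8 1548 6))) (.node (.leaf (.up 3 12 6)) (.leaf (.up 8 1036 6)))) (.node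 (.node (.leaf (.up 7 742 4)) (.leaf (.up 8 80 5))) (.node (.leaf (.up 3 230 4)) (.leaf (.up 4 592 5))))) (.node (.node (.node (.leaf (.up 8 1488 5)) (.leaf (.up 3 1181 1))) (.node (.leaf (.up 6 2000 5)) (.leaf (.up 5 1382 4)))) (.node (.node (.leaf (.up 8 908 6)) (.leaf (.up 5 1932 6))) (.node (.leaf (.up 8 396 6)) (.leaf (.up 7 1420 6)))))) (.node (.node (.node (.node (.leaf (.up 6 1326 3)) (.leaf (.up 7 272 5))) (.node (.leaf (.up 4 147 2)) (.leaf (.up 5 784 5)))) (.node (.node (.leaf (.up 8 844 6)) (.leaf (.up 9 1868 6))) (.node (.leaf (.up 6 332 6)) (.leaf (.up 2 1356 6))))) (.node (.node (.node (.leaf (.up 7 716 6)) (.leaf (.up 6 1740 6))) (.node (.leaf (.up 7 204 6)) (.leaf (.up 6 1228 6)))) (.node (.node (.leaf (.up 5 1168 5)) (.leaf (.up 6 174 3))) (.node (.leaf (.up 7 1680 5)) (.leaf (.up 6 1299 2))))))) (.node (.node (.node (.node (.node (.leaf (.up 6 755 2)) (.leaf (.up 5 368 5))) (.node (.leaf (.up 6 454 4)) (.leaf (.up 5 880 5)))) (.node (.node (.leaf (.up 6 812 6)) (.leaf (.up 7 1836 6))) (.node (.leaf (.up 6 300 6)) (.leaf (.up 5 1324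 6))))) (.node (.node (.node (.leaf (.up 7 684 6)) (.leaf (.up 8 1708 6))) (.node (.leaf (.up 7 172 6)) (.leaf (.up 4 1196 6)))) (.node (.node (.leaf (.up 7 1264 5)) (.leaf (.up 8 1907 2))) (.node (.leaf (.up 5 1776 5)) (.leaf (.up 3 718 3)))))) (.node (.node (.node (.node (.leaf (.up 7 620 6)) (.leaf (.up 6 1644 6))) (.node (.leaf (.up 5 108 6)) (.leaf (.up 8 1132 6)))) (.node (.node (.leaf (.up 5 1038 3)) (.leaf (.up 6 48 5))) (.node (.leaf (.up 3 1981 0)) (.leaf (.up 6 560 5))))) (.node (.node (.node (.leaf (.up 8 1456 5)) (.leaf (.up 5 1798 4))) (.node (.leaf (.up 6 1968 5)) (.leaf (.up 3 1718 0)))) (.node (.node (.leaf (.up 10 1004 6)) (.leaf (.up 7 2028 6))) (.node (.leaf (.up 6 492 6)) (.leaf (.up 5 1516 6))))))))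

noncomputable def vt0_0_001 : Tr VStep := .node vt0_0_0010 vt0_0_0011

noncomputable def vt0_0_00 : Tr VStep := .node vt0_0_000 vt0_0_001

noncomputable def vt0_0_0100 : Tr VStep :=
  .node (.node (.node (.node (.node (.node (.node (.leaf (.up 6 1358 5)) (.leaf (.up 3 1884 0))) (.node (.leaf (.up 8 1870 5)) (.leaf (.up 5 880 3)))) (.node (.node (.leaf (.up 6 786 6)) (.leaf (.up 7 1810 6))) (.node (.leaf (.up 8 274 6)) (.leaf (.up 5 1298 6))))) (.node (.node (.node (.leaf (.up 7 658 6)) (.leaf (.up 10 1682 6))) (.node (.leaf (.up 5 146 6)) (.leaf (.up 6 1170 6)))) (.node (.node (.leaf (.up 5 1623 0)) (.leaf (.up 8 206 5))) (.node (.leaf (.up 5 1776 3)) (.leaf (.up 3 718 5)))))) (.node (.node (.node (.node (.leaf (.up 7 594 6)) (.leaf (.up 4 1618 6))) (.node (.leaf (.up 7 82 6)) (.leaf (.up 8 1106 6)))) (.node (.node (.leaf (.up 5 1038 5)) (.leaf (.up 6 1720 4))) (.node (.leaf (.up 5 1550 5)) (.leaf (.up 6 1208 4))))) (.node (.node (.node (.leaf (.up 8 824 4)) (.leaf (.up 7 398 5))) (.node (.leaf (.up 4 13 2)) (.leaf (.up 5 910 5)))) (.node (.node (.leaf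 (.up 8 978 6)) (.leaf (.up 7 2002 6))) (.node (.leaf (.up 6 466 6)) (.leaf (.up 5 1490 6))))))) (.node (.node (.node (.node (.node (.leaf (.up 7 562 6)) (.leaf (.up 6 1586 6))) (.node (.leaf (.up 5 50 6)) (.leaf (.up 6 1074 6)))) (.node (.node (.leaf (.up 7 1134 5)) (.leaf (.up 6 2029 2))) (.node (.leaf (.up 5 1646 5)) (.leaf (.up 4 592 3))))) (.node (.node (.node (.leaf (.up 6 621 2)) (.leaf (.up 5 494 5))) (.node (.leaf (.up 6 344 4)) (.leaf (.up 7 1006 5)))) (.node (.node (.leaf (.up 8 946 6)) (.leaf (.up 5 1970 6))) (.node (.leaf (.up 6 434 6)) (.leaf (.up 7 1458 6)))))) (.node (.node (.node (.node (.leaf (.up 6 1326 5)) (.leaf (.up 5 1944 4))) (.node (.leaf (.up 6 1838 5)) (.leaf (.up 3 1635 1)))) (.node (.node (.leaf (.up 8 882 6)) (.leaf (.up 7 1906 6))) (.node (.leaf (.up 8 370 6)) (.leaf (.up 2 1394 6))))) (.node (.node (.node (.leaf (.up 5 754 6)) (.leaf (.up 8 1778 6))) (.node (.leaf (.up 7 242 6)) (.leaf (.up 8 1266 6)))) (.node (.node (.leaf (.up 5 1168 3)) (.leaf (.up 6 174 5))) (.node (.leaf (.up 5 995 1)) (.leaf (.up 6 686 5)))))))) (.node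 (.node (.node (.node (.node (.node (.leaf (.up 9 514 6)) (.leaf (.up 6 1538 6))) (.node (.leaf (.up 7 2 6)) (.leaf (.up 4 1026 6)))) (.node (.node (.leaf (.up 7 1118 5)) (.leaf (.up 4 1768 4))) (.node (.leaf (.up 5 1630 5)) (.leaf (.up 6 1256 4))))) (.node (.node (.node (.leaf (.up 4 147 1)) (.leaf (.up 5 478 5))) (.node (.leaf (.up 6 360 4)) (.leaf (.up 9 990 5)))) (.node (.node (.leaf (.up 6 898 6)) (.leaf (.up 4 1922 6))) (.node (.leaf (.up 6 386 6)) (.leaf (.up 9 1410 6)))))) (.node (.node (.node (.node (.leaf (.up 6 1310 5)) (.leaf (.up 7 288 3))) (.node (.leaf (.up 6 1822 5)) (.leaf (.up 3 1181 2)))) (.node (.node (.leaf (.up 6 834 6)) (.leaf (.up 7 1858 6))) (.node (.leaf (.up 6 322 6)) (.leaf (.up 7 1346 6))))) (.node (.node (.node (.leaf (.up 5 706 6)) (.leaf (.up 6 1730 6))) (.node (.leaf (.up 9 194 6)) (.leaf (.up 8 1218 6)))) (.node (.node (.leaf (.up 5 1184 3)) (.leaf (.up 4 158 5))) (.node (.leaf (.up 7 285 2)) (.leaf (.up 6 670 5))))))) (.node (.node (.node (.node (.node (.leaf (.up 4 1406 5)) (.leaf (.up 5 1789 2))) (.node (.leaf (.up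 6 1918 5)) (.leaf (.up 5 1480 4)))) (.node (.node (.leaf (.up 6 802 6)) (.leaf (.up 5 1826 6))) (.node (.leaf (.up 8 290 6)) (.leaf (.up 7 1314 6))))) (.node (.node (.node (.leaf (.up 7 674 6)) (.leaf (.up 8 1698 6))) (.node (.leaf (.up 7 162 6)) (.leaf (.up 6 1186 6)))) (.node (.node (.leaf (.up 5 893 2)) (.leaf (.up 6 254 5))) (.node (.leaf (.up 7 1728 3)) (.leaf (.up 4 766 5)))))) (.node (.node (.node (.node (.leaf (.up 7 610 6)) (.leaf (.up 4 1634 6))) (.node (.leaf (.up 7 98 6)) (.leaf (.up 6 1122 6)))) (.node (.node (.leaf (.up 7 1086 5)) (.leaf (.up 1 0 3))) (.node (.leaf (.up 7 1598 5)) (.leaf (.up 6 224 0))))) (.node (.node (.node (.leaf (.up 6 776 4)) (.leaf (.up 7 446 5))) (.node (.leaf (.up 4 491 0)) (.leaf (.up 7 958 5)))) (.node (.node (.leaf (.up 6 994 6)) (.leaf (.up 7 2018 6))) (.node (.leaf (.up 6 482 6)) (.leaf (.up 7 1506 6))))))))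

noncomputable def vt0_0_0101 : Tr VStep :=
  .node (.node (.node (.node (.node (.node (.node (.leaf (.up 6 538 6)) (.leaf (.up 5 1562 6))) (.node (.leaf (.up 8 26 6)) (.leaf (.up 7 1050 6)))) (.node (.node (.leaf (.up 5 1094 5)) (.leaf (.up 5 1776 4))) (.node (.leaf (.up 8 1606 5)) (.leaf (.up 5 1803 1))))) (.node (.node (.node (.leaf (.up 5 880 4)) (.leaf (.up 6 454 5))) (.node (.leaf (.up 5 368 4)) (.leaf (.up 6 966 5)))) (.node (.node (.leaf (.up 3 922 6)) (.leaf (.up 8 1946 6))) (.node (.leaf (.up 7 410 6)) (.leaf (.up 8 1434 6)))))) (.node (.node (.node (.node (.leaf (.up 5 1286 5)) (.leaf (.up 4 1669 2))) (.node (.leaf (.up 5 1798 5)) (.leaf (.up 8 824 3)))) (.node (.node (.leaf (.up 7 858 6)) (.leaf (.up 6 1882 6))) (.node (.leaf (.up 7 346 6)) (.leaf (.up 8 1370 6))))) (.node (.node (.node (.leaf (.up 8 730 6)) (.leaf (.up 5 1754 6))) (.node (.leaf (.up 6 218 6)) (.leaf (.up 7 1242 6)))) (.node (.node (.leaf (.up 4 773 2)) (.leaf (.up 5 134 5))) (.node (.leaf (.up 6 1720 3)) (.leaf (.up 7 646 5))))))) (.node (.node (.node (.node (.node (.leaf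 (.up 5 1382 5)) (.leaf (.up 6 344 3))) (.node (.leaf (.up 5 1894 5)) (.leaf (.up 6 1253 2)))) (.node (.node (.leaf (.up 7 826 6)) (.leaf (.up 6 1850 6))) (.node (.leaf (.up 7 314 6)) (.leaf (.up 8 1338 6))))) (.node (.node (.node (.leaf (.up 6 698 6)) (.leaf (.up 5 1722 6))) (.node (.leaf (.up 6 186 6)) (.leaf (.up 9 1210 6)))) (.node (.node (.leaf (.up 4 592 4)) (.leaf (.up 3 230 5))) (.node (.leaf (.up 6 357 2)) (.leaf (.up 7 742 5)))))) (.node (.node (.node (.node (.leaf (.up 6 634 6)) (.leaf (.up 7 1658 6))) (.node (.leaf (.up 8 122 6)) (.leaf (.up 5 1146 6)))) (.node (.node (.leaf (.up 6 1062 5)) (.leaf (.up 5 1144 0))) (.node (.leaf (.up 8 1574 5)) (.leaf (.up 5 1168 4))))) (.node (.node (.node (.leaf (.up 3 1395 0)) (.leaf (.up 6 422 5))) (.node (.leaf (.up 5 1944 3)) (.leaf (.up 8 934 5)))) (.node (.node (.leaf (.up 2 1018 6)) (.leaf (.up 6 2042 6))) (.node (.leaf (.up 7 506 6)) (.leaf (.up 8 1530 6)))))))) (.node (.node (.node (.node (.node (.node (.leaf (.up 7 1366 5)) (.leaf (.up 6 360 3))) (.node (.leaf (.up 5 1878 5)) (.leaf (.up 4 964 0))))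 (.node (.node (.leaf (.up 9 778 6)) (.leaf (.up 6 1802 6))) (.node (.leaf (.up 6 266 6)) (.leaf (.up 6 1290 6))))) (.node (.node (.node (.leaf (.up 6 650 6)) (.leaf (.up 7 1674 6))) (.node (.leaf (.up 6 138 6)) (.leaf (.up 7 1162 6)))) (.node (.node (.leaf (.up 6 1256 3)) (.leaf (.up 7 214 5))) (.node (.leaf (.up 2 719 0)) (.leaf (.up 7 726 5)))))) (.node (.node (.node (.node (.leaf (.up 6 586 6)) (.leaf (.up 9 1610 6))) (.node (.leaf (.up 6 74 6)) (.leaf (.up 5 1098 6)))) (.node (.node (.leaf (.up 6 1046 5)) (.leaf (.up 7 1941 2))) (.node (.leaf (.up 6 1558 5)) (.leaf (.up 5 1184 4))))) (.node (.node (.node (.leaf (.up 5 800 4)) (.leaf (.up 6 406 5))) (.node (.leaf (.up 7 288 4)) (.leaf (.up 4 918 5)))) (.node (.node (.leaf (.up 7 970 6)) (.leaf (.up 8 1994 6))) (.node (.leaf (.up 5 458 6)) (.leaf (.up 6 1482 6))))))) (.node (.node (.node (.node (.node (.leaf (.up 6 554 6)) (.leaf (.up 7 1578 6))) (.node (.leaf (.up 6 42 6)) (.leaf (.up 7 1066 6)))) (.node (.node (.leaf (.up 6 1142 5)) (.leaf (.up 7 1728 4))) (.node (.leaf (.up 6 1654 5)) (.leaf (.up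 5 1525 2))))) (.node (.node (.node (.leaf (.up 5 1480 3)) (.leaf (.up 8 502 5))) (.node (.leaf (.up 5 117 2)) (.leaf (.up 4 1014 5)))) (.node (.node (.leaf (.up 7 938 6)) (.leaf (.up 8 1962 6))) (.node (.leaf (.up 5 426 6)) (.leaf (.up 4 1450 6)))))) (.node (.node (.node (.node (.leaf (.up 7 1334 5)) (.leaf (.up 4 1147 1))) (.node (.leaf (.up 5 1846 5)) (.leaf (.up 6 776 3)))) (.node (.node (.leaf (.up 9 874 6)) (.leaf (.up 6 1898 6))) (.node (.leaf (.up 7 362 6)) (.leaf (.up 6 1386 6))))) (.node (.node (.node (.leaf (.up 6 746 6)) (.leaf (.up 9 1770 6))) (.node (.leaf (.up 4 234 6)) (.leaf (.up 7 1258 6)))) (.node (.node (.leaf (.up 6 507 1)) (.leaf (.up 7 182 5))) (.node (.leaf (.up 1 0 4)) (.leaf (.up 5 694 5))))))))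

noncomputable def vt0_0_010 : Tr VStep := .node vt0_0_0100 vt0_0_0101

noncomputable def vt0_0_0110 : Tr VStep :=
  .node (.node (.node (.node (.node (.node (.node (.leaf (.up 7 534 6)) (.leaf (.up 6 1558 6))) (.node (.leaf (.up 9 22 6)) (.leaf (.up 6 1046 6)))) (.node (.node (.leaf (.up 5 1098 5)) (.leaf (.up 4 1788 4))) (.node (.leaf (.up 9 1610 5)) (.leaf (.up 4 1799 1))))) (.node (.node (.node (.leaf (.up 4 892 4)) (.leaf (.up 5 458 5))) (.node (.leaf (.up 6 380 4)) (.leaf (.up 7 970 5)))) (.node (.node (.leaf (.up 4 918 6)) (.leaf (.up 9 1942 6))) (.node (.leaf (.up 6 406 6)) (.leaf (.up 7 1430 6)))))) (.node (.node (.node (.node (.leaf (.up 6 1290 5)) (.leaf (.up 4 1980 4))) (.node (.leaf (.up 6 1802 5)) (.leaf (.up 7 820 3)))) (.node (.node (.leaf (.up 6 854 6)) (.leaf (.up 5 1878 6))) (.node (.leaf (.up 8 342 6)) (.leaf (.up 7 1366 6))))) (.node (.node (.node (.leaf (.up 7 726 6)) (.leaf (.up 4 1750 6))) (.node (.leaf (.up 7 214 6)) (.leaf (.up 8 1238 6)))) (.node (.node (.leaf (.up 5 777 2)) (.leaf (.up 6 138 5))) (.node (.leaf (.up 5 1716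 3)) (.leaf (.up 6 650 5))))))) (.node (.node (.node (.node (.node (.leaf (.up 6 1386 5)) (.leaf (.up 5 340 3))) (.node (.leaf (.up 6 1898 5)) (.leaf (.up 7 1257 2)))) (.node (.node (.leaf (.up 8 822 6)) (.leaf (.up 5 1846 6))) (.node (.leaf (.up 6 310 6)) (.leaf (.up 7 1334 6))))) (.node (.node (.node (.leaf (.up 5 694 6)) (.leaf (.up 3 1718 6))) (.node (.leaf (.up 7 182 6)) (.leaf (.up 8 1206 6)))) (.node (.node (.leaf (.up 5 604 4)) (.leaf (.up 4 234 5))) (.node (.leaf (.up 7 361 2)) (.leaf (.up 6 746 5)))))) (.node (.node (.node (.node (.leaf (.up 7 630 6)) (.leaf (.up 6 1654 6))) (.node (.leaf (.up 9 118 6)) (.leaf (.up 6 1142 6)))) (.node (.node (.leaf (.up 7 1066 5)) (.leaf (.up 4 1145 0))) (.node (.leaf (.up 7 1578 5)) (.leaf (.up 4 1180 4))))) (.node (.node (.node (.leaf (.up 2 1394 0)) (.leaf (.up 5 426 5))) (.node (.leaf (.up 6 1940 3)) (.leaf (.up 7 938 5)))) (.node (.node (.leaf (.up 4 1014 6)) (.leaf (.up 7 2038 6))) (.node (.leaf (.up 8 502 6)) (.leaf (.up 7 1526 6)))))))) (.node (.node (.node (.node (.node (.node (.leaf (.up 8 1370 5))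 (.leaf (.up 5 356 3))) (.node (.leaf (.up 6 1882 5)) (.leaf (.up 5 965 0)))) (.node (.node (.leaf (.up 10 774 6)) (.leaf (.up 5 1798 6))) (.node (.leaf (.up 6 262 6)) (.leaf (.up 5 1286 6))))) (.node (.node (.node (.leaf (.up 7 646 6)) (.leaf (.up 8 1670 6))) (.node (.leaf (.up 5 134 6)) (.leaf (.up 6 1158 6)))) (.node (.node (.leaf (.up 5 1252 3)) (.leaf (.up 6 218 5))) (.node (.leaf (.up 3 718 0)) (.leaf (.up 8 730 5)))))) (.node (.node (.node (.node (.leaf (.up 7 582 6)) (.leaf (.up 8 1606 6))) (.node (.leaf (.up 7 70 6)) (.leaf (.up 5 1094 6)))) (.node (.node (.leaf (.up 7 1050 5)) (.leaf (.up 6 1945 2))) (.node (.leaf (.up 5 1562 5)) (.leaf (.up 4 1196 4))))) (.node (.node (.node (.leaf (.up 6 812 4)) (.leaf (.up 7 410 5))) (.node (.leaf (.up 6 300 4)) (.leaf (.up 3 922 5)))) (.node (.node (.leaf (.up 6 966 6)) (.leaf (.up 7 1990 6))) (.node (.leaf (.up 6 454 6)) (.leaf (.up 7 1478 6))))))) (.node (.node (.node (.node (.node (.leaf (.up 7 550 6)) (.leaf (.up 8 1574 6))) (.node (.leaf (.up 7 38 6)) (.leaf (.up 6 1062 6)))) (.node (.node (.leaf (.up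 5 1146 5)) (.leaf (.up 6 1740 4))) (.node (.leaf (.up 7 1658 5)) (.leaf (.up 4 1529 2))))) (.node (.node (.node (.leaf (.up 6 1476 3)) (.leaf (.up 7 506 5))) (.node (.leaf (.up 4 121 2)) (.leaf (.up 2 1018 5)))) (.node (.node (.leaf (.up 8 934 6)) (.leaf (.up 7 1958 6))) (.node (.leaf (.up 6 422 6)) (.leaf (.up 5 1446 6)))))) (.node (.node (.node (.node (.leaf (.up 8 1338 5)) (.leaf (.up 5 1143 1))) (.node (.leaf (.up 6 1850 5)) (.leaf (.up 5 772 3)))) (.node (.node (.leaf (.up 8 870 6)) (.leaf (.up 5 1894 6))) (.node (.leaf (.up 8 358 6)) (.leaf (.up 5 1382 6))))) (.node (.node (.node (.leaf (.up 7 742 6)) (.leaf (.up 8 1766 6))) (.node (.leaf (.up 3 230 6)) (.leaf (.up 6 1254 6)))) (.node (.node (.leaf (.up 7 503 1)) (.leaf (.up 6 186 5))) (.node (.leaf (.up 3 12 4)) (.leaf (.up 6 698 5))))))))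

noncomputable def vt0_0_0111 : Tr VStep :=
  .node (.node (.node (.node (.node (.node (.node (.leaf (.up 7 1346 5)) (.leaf (.up 4 1885 0))) (.node (.leaf (.up 7 1858 5)) (.leaf (.up 4 892 3)))) (.node (.node (.leaf (.up 5 798 6)) (.leaf (.up 6 1822 6))) (.node (.leaf (.up 9 286 6)) (.leaf (.up 6 1310 6))))) (.node (.node (.node (.leaf (.up 6 670 6)) (.leaf (.up 9 1694 6))) (.node (.leaf (.up 4 158 6)) (.leaf (.up 7 1182 6)))) (.node (.node (.leaf (.up 6 1622 0)) (.leaf (.up 9 194 5))) (.node (.leaf (.up 4 1788 3)) (.leaf (.up 5 706 5)))))) (.node (.node (.node (.node (.leaf (.up 8 606 6)) (.leaf (.up 5 1630 6))) (.node (.leaf (.up 6 94 6)) (.leaf (.up 7 1118 6)))) (.node (.node (.leaf (.up 4 1026 5)) (.leaf (.up 5 1716 4))) (.node (.leaf (.up 6 1538 5)) (.leaf (.up 7 1204 4))))) (.node (.node (.node (.leaf (.up 7 820 4)) (.leaf (.up 6 386 5))) (.node (.leaf (.up 2 1 2)) (.leaf (.up 6 898 5)))) (.node (.node (.leaf (.up 9 990 6)) (.leaf (.up 8 2014 6))) (.node (.leaf (.up 5 478 6)) (.leaf (.up 6 1502 6))))))) (.node (.node (.node (.node (.node (.leaf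 (.up 8 574 6)) (.leaf (.up 7 1598 6))) (.node (.leaf (.up 3 62 6)) (.leaf (.up 7 1086 6)))) (.node (.node (.leaf (.up 6 1122 5)) (.leaf (.up 5 2017 2))) (.node (.leaf (.up 4 1634 5)) (.leaf (.up 5 604 3))))) (.node (.node (.node (.leaf (.up 5 609 2)) (.leaf (.up 6 482 5))) (.node (.leaf (.up 5 340 4)) (.leaf (.up 6 994 5)))) (.node (.node (.leaf (.up 7 958 6)) (.leaf (.up 6 1982 6))) (.node (.leaf (.up 7 446 6)) (.leaf (.up 8 1470 6)))))) (.node (.node (.node (.node (.leaf (.up 7 1314 5)) (.leaf (.up 6 1940 4))) (.node (.leaf (.up 5 1826 5)) (.leaf (.up 4 1647 1)))) (.node (.node (.leaf (.up 7 894 6)) (.leaf (.up 6 1918 6))) (.node (.leaf (.up 7 382 6)) (.leaf (.up 4 1406 6))))) (.node (.node (.node (.leaf (.up 4 766 6)) (.leaf (.up 9 1790 6))) (.node (.leaf (.up 6 254 6)) (.leaf (.up 7 1278 6)))) (.node (.node (.leaf (.up 4 1180 3)) (.leaf (.up 7 162 5))) (.node (.leaf (.up 6 1007 1)) (.leaf (.up 7 674 5)))))))) (.node (.node (.node (.node (.node (.node (.leaf (.up 8 526 6)) (.leaf (.up 5 1550 6))) (.node (.leaf (.up 8 14 6)) (.leaf (.up 5 1038 6))))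 (.node (.node (.leaf (.up 8 1106 5)) (.leaf (.up 5 1764 4))) (.node (.leaf (.up 4 1618 5)) (.leaf (.up 5 1252 4))))) (.node (.node (.node (.leaf (.up 3 159 1)) (.leaf (.up 6 466 5))) (.node (.leaf (.up 5 356 4)) (.leaf (.up 8 978 5)))) (.node (.node (.leaf (.up 5 910 6)) (.leaf (.up 6 1934 6))) (.node (.leaf (.up 7 398 6)) (.leaf (.up 10 1422 6)))))) (.node (.node (.node (.node (.leaf (.up 5 1298 5)) (.leaf (.up 6 300 3))) (.node (.leaf (.up 7 1810 5)) (.leaf (.up 4 1169 2)))) (.node (.node (.leaf (.up 7 846 6)) (.leaf (.up 8 1870 6))) (.node (.leaf (.up 5 334 6)) (.leaf (.up 6 1358 6))))) (.node (.node (.node (.leaf (.up 3 718 6)) (.leaf (.up 7 1742 6))) (.node (.leaf (.up 8 206 6)) (.leaf (.up 7 1230 6)))) (.node (.node (.leaf (.up 4 1196 3)) (.leaf (.up 5 146 5))) (.node (.leaf (.up 8 273 2)) (.leaf (.up 7 658 5))))))) (.node (.node (.node (.node (.node (.leaf (.up 2 1394 5)) (.leaf (.up 6 1777 2))) (.node (.leaf (.up 7 1906 5)) (.leaf (.up 6 1476 4)))) (.node (.node (.leaf (.up 5 814 6)) (.leaf (.up 6 1838 6))) (.node (.leaf (.up 7 302 6)) (.leaf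 (.up 6 1326 6))))) (.node (.node (.node (.leaf (.up 6 686 6)) (.leaf (.up 7 1710 6))) (.node (.leaf (.up 6 174 6)) (.leaf (.up 7 1198 6)))) (.node (.node (.leaf (.up 6 881 2)) (.leaf (.up 7 242 5))) (.node (.leaf (.up 6 1740 3)) (.leaf (.up 5 754 5)))))) (.node (.node (.node (.node (.leaf (.up 6 622 6)) (.leaf (.up 5 1646 6))) (.node (.leaf (.up 8 110 6)) (.leaf (.up 7 1134 6)))) (.node (.node (.leaf (.up 6 1074 5)) (.leaf (.up 3 12 3))) (.node (.leaf (.up 6 1586 5)) (.leaf (.up 5 225 0))))) (.node (.node (.node (.leaf (.up 5 772 4)) (.leaf (.up 6 434 5))) (.node (.leaf (.up 3 490 0)) (.leaf (.up 8 946 5)))) (.node (.node (.leaf (.up 7 1006 6)) (.leaf (.up 8 2030 6))) (.node (.leaf (.up 5 494 6)) (.leaf (.up 8 1518 6))))))))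

noncomputable def vt0_0_011 : Tr VStep := .node vt0_0_0110 vt0_0_0111

noncomputable def vt0_0_01 : Tr VStep := .node vt0_0_010 vt0_0_011

noncomputable def vt0_0_0 : Tr VStep := .node vt0_0_00 vt0_0_01

noncomputable def vt0_0_1000 : Tr VStep :=
  .node (.node (.node (.node (.node (.node (.node (.leaf (.up 1 0 1)) (.leaf (.up 7 333 5))) (.node (.leaf (.up 6 507 4)) (.leaf (.up 7 845 5)))) (.node (.node (.leaf (.up 4 785 6)) (.leaf (.up 7 1809 6))) (.node (.leaf (.up 8 273 6)) (.leaf (.up 9 1297 6))))) (.node (.node (.node (.leaf (.up 7 657 6)) (.leaf (.up 6 1681 6))) (.node (.leaf (.up 9 145 6)) (.leaf (.up 4 1169 6)))) (.node (.node (.leaf (.up 7 1229 5)) (.leaf (.up 6 1659 4))) (.node (.leaf (.up 5 1741 5)) (.leaf (.up 4 1147 4)))))) (.node (.node (.node (.node (.leaf (.up 5 593 6)) (.leaf (.up 6 1617 6))) (.node (.leaf (.up 7 81 6)) (.leaf (.up 8 1105 6)))) (.node (.node (.leaf (.up 5 1075 3)) (.leaf (.up 4 13 5))) (.node (.leaf (.up 7 398 2)) (.leaf (.up 8 525 5))))) (.node (.node (.node (.leaf (.up 6 1421 5)) (.leaf (.up 5 435 3))) (.node (.leaf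 (.up 6 1933 5)) (.leaf (.up 5 1038 2)))) (.node (.node (.leaf (.up 8 977 6)) (.leaf (.up 7 2001 6))) (.node (.leaf (.up 4 465 6)) (.leaf (.up 7 1489 6))))))) (.node (.node (.node (.node (.node (.leaf (.up 7 561 6)) (.leaf (.up 6 1585 6))) (.node (.leaf (.up 5 49 6)) (.leaf (.up 8 1073 6)))) (.node (.node (.leaf (.up 7 1006 2)) (.leaf (.up 6 109 5))) (.node (.leaf (.up 5 1619 3)) (.leaf (.up 6 621 5))))) (.node (.node (.node (.leaf (.up 4 1517 5)) (.leaf (.up 5 1646 2))) (.node (.leaf (.up 6 2029 5)) (.leaf (.up 7 1371 4)))) (.node (.node (.leaf (.up 6 945 6)) (.leaf (.up 5 1969 6))) (.node (.leaf (.up 6 433 6)) (.leaf (.up 7 1457 6)))))) (.node (.node (.node (.node (.leaf (.up 4 923 4)) (.leaf (.up 7 301 5))) (.node (.leaf (.up 4 1190 0)) (.leaf (.up 7 813 5)))) (.node (.node (.leaf (.up 6 881 6)) (.leaf (.up 9 1905 6))) (.node (.leaf (.up 6 369 6)) (.leaf (.up 7 1393 6))))) (.node (.node (.node (.leaf (.up 4 753 6)) (.leaf (.up 6 1777 6))) (.node (.leaf (.up 9 241 6)) (.leaf (.up 6 1265 6)))) (.node (.node (.leaf (.up 5 1197 5)) (.leaf (.up 4 147 3)))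 (.node (.leaf (.up 7 1709 5)) (.leaf (.up 4 1453 0)))))))) (.node (.node (.node (.node (.node (.node (.leaf (.up 7 513 6)) (.leaf (.up 8 1537 6))) (.node (.leaf (.up 2 1 6)) (.leaf (.up 8 1025 6)))) (.node (.node (.leaf (.up 7 794 0)) (.leaf (.up 8 93 5))) (.node (.leaf (.up 3 1635 3)) (.leaf (.up 6 605 5))))) (.node (.node (.node (.leaf (.up 8 1501 5)) (.leaf (.up 3 529 0))) (.node (.leaf (.up 6 2013 5)) (.leaf (.up 5 995 3)))) (.node (.node (.leaf (.up 6 897 6)) (.leaf (.up 5 1921 6))) (.node (.leaf (.up 8 385 6)) (.leaf (.up 7 1409 6)))))) (.node (.node (.node (.node (.leaf (.up 6 939 4)) (.leaf (.up 7 285 5))) (.node (.leaf (.up 4 158 2)) (.leaf (.up 5 797 5)))) (.node (.node (.leaf (.up 8 833 6)) (.leaf (.up 9 1857 6))) (.node (.leaf (.up 6 321 6)) (.leaf (.up 5 1345 6))))) (.node (.node (.node (.leaf (.up 7 705 6)) (.leaf (.up 6 1729 6))) (.node (.leaf (.up 7 193 6)) (.leaf (.up 6 1217 6)))) (.node (.node (.leaf (.up 3 1181 5)) (.leaf (.up 6 1579 4))) (.node (.leaf (.up 7 1693 5)) (.leaf (.up 6 1067 4))))))) (.node (.node (.node (.node (.node (.leaf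 (.up 4 766 2)) (.leaf (.up 7 381 5))) (.node (.leaf (.up 6 459 4)) (.leaf (.up 5 893 5)))) (.node (.node (.leaf (.up 6 801 6)) (.leaf (.up 7 1825 6))) (.node (.leaf (.up 8 289 6)) (.leaf (.up 7 1313 6))))) (.node (.node (.node (.leaf (.up 7 673 6)) (.leaf (.up 8 1697 6))) (.node (.leaf (.up 5 161 6)) (.leaf (.up 6 1185 6)))) (.node (.node (.leaf (.up 5 1277 5)) (.leaf (.up 6 1918 2))) (.node (.leaf (.up 5 1789 5)) (.leaf (.up 4 707 3)))))) (.node (.node (.node (.node (.leaf (.up 5 609 6)) (.leaf (.up 8 1633 6))) (.node (.leaf (.up 5 97 6)) (.leaf (.up 8 1121 6)))) (.node (.node (.leaf (.up 5 1027 3)) (.leaf (.up 6 61 5))) (.node (.leaf (.up 5 880 1)) (.leaf (.up 8 573 5))))) (.node (.node (.node (.leaf (.up 8 1469 5)) (.leaf (.up 5 1803 4))) (.node (.leaf (.up 3 1981 5)) (.leaf (.up 5 1776 1)))) (.node (.node (.leaf (.up 8 993 6)) (.leaf (.up 5 2017 6))) (.node (.leaf (.up 6 481 6)) (.leaf (.up 5 1505 6))))))))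

noncomputable def vt0_0_1001 : Tr VStep :=
  .node (.node (.node (.node (.node (.node (.node (.leaf (.up 6 537 6)) (.leaf (.up 9 1561 6))) (.node (.leaf (.up 6 25 6)) (.leaf (.up 5 1049 6)))) (.node (.node (.leaf (.up 4 1147 3)) (.leaf (.up 7 69 5))) (.node (.leaf (.up 4 1922 0)) (.leaf (.up 7 581 5))))) (.node (.node (.node (.leaf (.up 7 1477 5)) (.leaf (.up 6 507 3))) (.node (.leaf (.up 7 1989 5)) (.leaf (.up 3 1395 4)))) (.node (.node (.leaf (.up 9 921 6)) (.leaf (.up 6 1945 6))) (.node (.leaf (.up 7 409 6)) (.leaf (.up 4 1433 6)))))) (.node (.node (.node (.node (.leaf (.up 7 947 4)) (.leaf (.up 6 261 5))) (.node (.leaf (.up 5 435 4)) (.leaf (.up 4 773 5)))) (.node (.node (.leaf (.up 7 857 6)) (.leaf (.up 6 1881 6))) (.node (.leaf (.up 5 345 6)) (.leaf (.up 8 1369 6))))) (.node (.node (.node (.leaf (.up 8 729 6)) (.leaf (.up 7 1753 6))) (.node (.leaf (.up 6 217 6)) (.leaf (.up 7 1241 6)))) (.node (.node (.leaf (.up 8 1157 5)) (.leaf (.up 5 1798 2))) (.node (.leaf (.up 4 1669 5)) (.leaf (.up 5 1075 4))))))) (.node (.node (.node (.node (.node (.leaf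 (.up 7 1371 3)) (.leaf (.up 6 357 5))) (.node (.leaf (.up 3 230 2)) (.leaf (.up 4 869 5)))) (.node (.node (.leaf (.up 9 825 6)) (.leaf (.up 6 1849 6))) (.node (.leaf (.up 5 313 6)) (.leaf (.up 6 1337 6))))) (.node (.node (.node (.leaf (.up 8 697 6)) (.leaf (.up 7 1721 6))) (.node (.leaf (.up 6 185 6)) (.leaf (.up 7 1209 6)))) (.node (.node (.leaf (.up 6 1253 5)) (.leaf (.up 5 1619 4))) (.node (.leaf (.up 6 1765 5)) (.leaf (.up 5 1382 2)))))) (.node (.node (.node (.node (.leaf (.up 6 633 6)) (.leaf (.up 9 1657 6))) (.node (.leaf (.up 4 121 6)) (.leaf (.up 4 1145 6)))) (.node (.node (.leaf (.up 6 360 1)) (.leaf (.up 7 37 5))) (.node (.leaf (.up 4 147 4)) (.leaf (.up 5 549 5))))) (.node (.node (.node (.leaf (.up 7 1445 5)) (.leaf (.up 6 1256 1))) (.node (.leaf (.up 7 1957 5)) (.leaf (.up 4 923 3)))) (.node (.node (.leaf (.up 7 1017 6)) (.leaf (.up 6 2041 6))) (.node (.leaf (.up 9 505 6)) (.leaf (.up 4 1529 6)))))))) (.node (.node (.node (.node (.node (.node (.leaf (.up 5 995 4)) (.leaf (.up 4 341 5))) (.node (.leaf (.up 5 483 4)) (.leaf (.up 8 853 5))))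 (.node (.node (.leaf (.up 5 777 6)) (.leaf (.up 8 1801 6))) (.node (.leaf (.up 5 265 6)) (.leaf (.up 8 1289 6))))) (.node (.node (.node (.leaf (.up 8 649 6)) (.leaf (.up 4 1673 6))) (.node (.leaf (.up 8 137 6)) (.leaf (.up 7 1161 6)))) (.node (.node (.leaf (.up 6 1237 5)) (.leaf (.up 3 1635 4))) (.node (.leaf (.up 8 1749 5)) (.leaf (.up 5 1944 1)))))) (.node (.node (.node (.node (.leaf (.up 6 585 6)) (.leaf (.up 5 1609 6))) (.node (.leaf (.up 8 73 6)) (.leaf (.up 7 1097 6)))) (.node (.node (.leaf (.up 4 918 2)) (.leaf (.up 7 21 5))) (.node (.leaf (.up 6 1579 3)) (.leaf (.up 5 533 5))))) (.node (.node (.node (.leaf (.up 5 1429 5)) (.leaf (.up 6 1558 2))) (.node (.leaf (.up 7 1941 5)) (.leaf (.up 6 939 3)))) (.node (.node (.leaf (.up 5 969 6)) (.leaf (.up 6 1993 6))) (.node (.leaf (.up 9 457 6)) (.leaf (.up 6 1481 6))))))) (.node (.node (.node (.node (.node (.leaf (.up 4 553 6)) (.leaf (.up 5 1577 6))) (.node (.leaf (.up 8 41 6)) (.leaf (.up 7 1065 6)))) (.node (.node (.leaf (.up 4 707 4)) (.leaf (.up 5 117 5))) (.node (.leaf (.up 8 502 2)) (.leaf (.up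 5 629 5))))) (.node (.node (.node (.leaf (.up 5 1525 5)) (.leaf (.up 6 459 3))) (.node (.leaf (.up 7 2037 5)) (.leaf (.up 6 1142 2)))) (.node (.node (.leaf (.up 7 937 6)) (.leaf (.up 6 1961 6))) (.node (.leaf (.up 7 425 6)) (.leaf (.up 6 1449 6)))))) (.node (.node (.node (.node (.leaf (.up 3 62 0)) (.leaf (.up 3 309 5))) (.node (.leaf (.up 5 1803 3)) (.leaf (.up 8 821 5)))) (.node (.node (.leaf (.up 5 873 6)) (.leaf (.up 6 1897 6))) (.node (.leaf (.up 7 361 6)) (.leaf (.up 8 1385 6))))) (.node (.node (.node (.leaf (.up 8 745 6)) (.leaf (.up 5 1769 6))) (.node (.leaf (.up 8 233 6)) (.leaf (.up 7 1257 6)))) (.node (.node (.leaf (.up 8 1205 5)) (.leaf (.up 3 309 0))) (.node (.leaf (.up 6 1717 5)) (.leaf (.up 5 1027 4))))))))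

noncomputable def vt0_0_100 : Tr VStep := .node vt0_0_1000 vt0_0_1001

noncomputable def vt0_0_1010 : Tr VStep :=
  .node (.node (.node (.node (.node (.node (.node (.leaf (.up 5 533 6)) (.leaf (.up 8 1557 6))) (.node (.leaf (.up 7 21 6)) (.leaf (.up 6 1045 6)))) (.node (.node (.leaf (.up 5 1143 3)) (.leaf (.up 8 73 5))) (.node (.leaf (.up 3 1923 0)) (.leaf (.up 6 585 5))))) (.node (.node (.node (.leaf (.up 6 1481 5)) (.leaf (.up 7 503 3))) (.node (.leaf (.up 6 1993 5)) (.leaf (.up 3 1672 0)))) (.node (.node (.leaf (.up 8 917 6)) (.leaf (.up 7 1941 6))) (.node (.leaf (.up 8 405 6)) (.leaf (.up 5 1429 6)))))) (.node (.node (.node (.node (.leaf (.up 6 959 4)) (.leaf (.up 5 265 5))) (.node (.leaf (.up 6 447 4)) (.leaf (.up 5 777 5)))) (.node (.node (.leaf (.up 8 853 6)) (.leaf (.up 7 1877 6))) (.node (.leaf (.up 4 341 6)) (.leaf (.up 7 1365 6))))) (.node (.node (.node (.leaf (.up 7 725 6)) (.leaf (.up 8 1749 6))) (.node (.leaf (.up 5 213 6)) (.leaf (.up 6 1237 6)))) (.node (.node (.leaf (.up 7 1161 5)) (.leaf (.up 6 1802 2))) (.node (.leaf (.up 4 1673 5))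 (.leaf (.up 6 1087 4))))))) (.node (.node (.node (.node (.node (.leaf (.up 6 1367 3)) (.leaf (.up 7 361 5))) (.node (.leaf (.up 4 234 2)) (.leaf (.up 5 873 5)))) (.node (.node (.leaf (.up 8 821 6)) (.leaf (.up 7 1845 6))) (.node (.leaf (.up 3 309 6)) (.leaf (.up 5 1333 6))))) (.node (.node (.node (.leaf (.up 7 693 6)) (.leaf (.up 6 1717 6))) (.node (.leaf (.up 5 181 6)) (.leaf (.up 8 1205 6)))) (.node (.node (.leaf (.up 7 1257 5)) (.leaf (.up 6 1631 4))) (.node (.leaf (.up 5 1769 5)) (.leaf (.up 6 1386 2)))))) (.node (.node (.node (.node (.leaf (.up 5 629 6)) (.leaf (.up 10 1653 6))) (.node (.leaf (.up 5 117 6)) (.leaf (.up 6 1141 6)))) (.node (.node (.leaf (.up 5 356 1)) (.leaf (.up 8 41 5))) (.node (.leaf (.up 3 159 4)) (.leaf (.up 4 553 5))))) (.node (.node (.node (.leaf (.up 6 1449 5)) (.leaf (.up 5 1252 1))) (.node (.leaf (.up 6 1961 5)) (.leaf (.up 5 919 3)))) (.node (.node (.leaf (.up 8 1013 6)) (.leaf (.up 7 2037 6))) (.node (.leaf (.up 8 501 6)) (.leaf (.up 5 1525 6)))))))) (.node (.node (.node (.node (.node (.node (.leaf (.up 6 1007 4)) (.leaf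 (.up 5 345 5))) (.node (.leaf (.up 4 495 4)) (.leaf (.up 7 857 5)))) (.node (.node (.leaf (.up 4 773 6)) (.leaf (.up 7 1797 6))) (.node (.leaf (.up 6 261 6)) (.leaf (.up 9 1285 6))))) (.node (.node (.node (.leaf (.up 7 645 6)) (.leaf (.up 4 1669 6))) (.node (.leaf (.up 7 133 6)) (.leaf (.up 8 1157 6)))) (.node (.node (.leaf (.up 7 1241 5)) (.leaf (.up 4 1647 4))) (.node (.leaf (.up 7 1753 5)) (.leaf (.up 6 1940 1)))))) (.node (.node (.node (.node (.leaf (.up 7 581 6)) (.leaf (.up 6 1605 6))) (.node (.leaf (.up 7 69 6)) (.leaf (.up 6 1093 6)))) (.node (.node (.leaf (.up 3 922 2)) (.leaf (.up 6 25 5))) (.node (.leaf (.up 7 1575 3)) (.leaf (.up 6 537 5))))) (.node (.node (.node (.leaf (.up 4 1433 5)) (.leaf (.up 5 1562 2))) (.node (.leaf (.up 6 1945 5)) (.leaf (.up 7 935 3)))) (.node (.node (.leaf (.up 5 965 6)) (.leaf (.up 7 1989 6))) (.node (.leaf (.up 8 453 6)) (.leaf (.up 7 1477 6))))))) (.node (.node (.node (.node (.node (.leaf (.up 5 549 6)) (.leaf (.up 6 1573 6))) (.node (.leaf (.up 7 37 6)) (.leaf (.up 8 1061 6)))) (.node (.node (.leaf (.up 2 719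 4)) (.leaf (.up 4 121 5))) (.node (.leaf (.up 7 506 2)) (.leaf (.up 6 633 5))))) (.node (.node (.node (.leaf (.up 4 1529 5)) (.leaf (.up 7 455 3))) (.node (.leaf (.up 6 2041 5)) (.leaf (.up 5 1146 2)))) (.node (.node (.leaf (.up 6 933 6)) (.leaf (.up 7 1957 6))) (.node (.leaf (.up 8 421 6)) (.leaf (.up 7 1445 6)))))) (.node (.node (.node (.node (.leaf (.up 4 63 0)) (.leaf (.up 5 313 5))) (.node (.leaf (.up 4 1799 3)) (.leaf (.up 9 825 5)))) (.node (.node (.leaf (.up 4 869 6)) (.leaf (.up 5 1893 6))) (.node (.leaf (.up 6 357 6)) (.leaf (.up 9 1381 6))))) (.node (.node (.node (.leaf (.up 7 741 6)) (.leaf (.up 6 1765 6))) (.node (.leaf (.up 7 229 6)) (.leaf (.up 6 1253 6)))) (.node (.node (.leaf (.up 7 1209 5)) (.leaf (.up 4 308 0))) (.node (.leaf (.up 7 1721 5)) (.leaf (.up 6 1039 4))))))))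

noncomputable def vt0_0_1011 : Tr VStep :=
  .node (.node (.node (.node (.node (.node (.node (.leaf (.up 3 12 1)) (.leaf (.up 6 321 5))) (.node (.leaf (.up 7 503 4)) (.leaf (.up 8 833 5)))) (.node (.node (.leaf (.up 5 797 6)) (.leaf (.up 6 1821 6))) (.node (.leaf (.up 7 285 6)) (.leaf (.up 8 1309 6))))) (.node (.node (.node (.leaf (.up 8 669 6)) (.leaf (.up 7 1693 6))) (.node (.leaf (.up 8 157 6)) (.leaf (.up 3 1181 6)))) (.node (.node (.leaf (.up 6 1217 5)) (.leaf (.up 5 1655 4))) (.node (.leaf (.up 6 1729 5)) (.leaf (.up 5 1143 4)))))) (.node (.node (.node (.node (.leaf (.up 6 605 6)) (.leaf (.up 5 1629 6))) (.node (.leaf (.up 8 93 6)) (.leaf (.up 9 1117 6)))) (.node (.node (.leaf (.up 6 1087 3)) (.leaf (.up 2 1 5))) (.node (.leaf (.up 6 386 2)) (.leaf (.up 7 513 5))))) (.node (.node (.node (.leaf (.up 7 1409 5)) (.leaf (.up 6 447 3))) (.node (.leaf (.up 5 1921 5)) (.leaf (.up 4 1026 2)))) (.node (.node (.leaf (.up 7 989 6)) (.leaf (.up 6 2013 6))) (.node (.leaf (.up 5 477 6)) (.leaf (.up 8 1501 6))))))) (.node (.node (.node (.node (.node (.leaf (.up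 8 573 6)) (.leaf (.up 7 1597 6))) (.node (.leaf (.up 6 61 6)) (.leaf (.up 7 1085 6)))) (.node (.node (.leaf (.up 6 994 2)) (.leaf (.up 5 97 5))) (.node (.leaf (.up 6 1631 3)) (.leaf (.up 5 609 5))))) (.node (.node (.node (.leaf (.up 5 1505 5)) (.leaf (.up 4 1634 2))) (.node (.leaf (.up 5 2017 5)) (.leaf (.up 6 1367 4)))) (.node (.node (.leaf (.up 7 957 6)) (.leaf (.up 3 1981 6))) (.node (.leaf (.up 7 445 6)) (.leaf (.up 8 1469 6)))))) (.node (.node (.node (.node (.leaf (.up 5 919 4)) (.leaf (.up 8 289 5))) (.node (.leaf (.up 5 1191 0)) (.leaf (.up 6 801 5)))) (.node (.node (.leaf (.up 5 893 6)) (.leaf (.up 8 1917 6))) (.node (.leaf (.up 7 381 6)) (.leaf (.up 6 1405 6))))) (.node (.node (.node (.leaf (.up 6 765 6)) (.leaf (.up 5 1789 6))) (.node (.leaf (.up 8 253 6)) (.leaf (.up 5 1277 6)))) (.node (.node (.leaf (.up 6 1185 5)) (.leaf (.up 3 159 3))) (.node (.leaf (.up 8 1697 5)) (.leaf (.up 5 1452 0)))))))) (.node (.node (.node (.node (.node (.node (.leaf (.up 8 525 6)) (.leaf (.up 9 1549 6))) (.node (.leaf (.up 4 13 6)) (.leaf (.up 7 1037 6)))) (.node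 (.node (.leaf (.up 6 795 0)) (.leaf (.up 7 81 5))) (.node (.leaf (.up 4 1647 3)) (.leaf (.up 5 593 5))))) (.node (.node (.node (.leaf (.up 7 1489 5)) (.leaf (.up 2 528 0))) (.node (.leaf (.up 7 2001 5)) (.leaf (.up 6 1007 3)))) (.node (.node (.leaf (.up 7 909 6)) (.leaf (.up 6 1933 6))) (.node (.leaf (.up 7 397 6)) (.leaf (.up 6 1421 6)))))) (.node (.node (.node (.node (.leaf (.up 7 935 4)) (.leaf (.up 8 273 5))) (.node (.leaf (.up 5 146 2)) (.leaf (.up 4 785 5)))) (.node (.node (.leaf (.up 7 845 6)) (.leaf (.up 8 1869 6))) (.node (.leaf (.up 7 333 6)) (.leaf (.up 3 1357 6))))) (.node (.node (.node (.leaf (.up 6 717 6)) (.leaf (.up 5 1741 6))) (.node (.leaf (.up 8 205 6)) (.leaf (.up 7 1229 6)))) (.node (.node (.leaf (.up 4 1169 5)) (.leaf (.up 7 1575 4))) (.node (.leaf (.up 6 1681 5)) (.leaf (.up 5 1063 4))))))) (.node (.node (.node (.node (.node (.leaf (.up 5 754 2)) (.leaf (.up 6 369 5))) (.node (.leaf (.up 7 455 4)) (.leaf (.up 6 881 5)))) (.node (.node (.leaf (.up 7 813 6)) (.leaf (.up 6 1837 6))) (.node (.leaf (.up 7 301 6)) (.leaf (.up 6 1325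 6))))) (.node (.node (.node (.leaf (.up 6 685 6)) (.leaf (.up 7 1709 6))) (.node (.leaf (.up 6 173 6)) (.leaf (.up 5 1197 6)))) (.node (.node (.leaf (.up 6 1265 5)) (.leaf (.up 7 1906 2))) (.node (.leaf (.up 6 1777 5)) (.leaf (.up 2 719 3)))))) (.node (.node (.node (.node (.leaf (.up 6 621 6)) (.leaf (.up 7 1645 6))) (.node (.leaf (.up 6 109 6)) (.leaf (.up 9 1133 6)))) (.node (.node (.leaf (.up 6 1039 3)) (.leaf (.up 5 49 5))) (.node (.leaf (.up 4 892 1)) (.leaf (.up 7 561 5))))) (.node (.node (.node (.leaf (.up 7 1457 5)) (.leaf (.up 4 1799 4))) (.node (.leaf (.up 5 1969 5)) (.leaf (.up 4 1788 1)))) (.node (.node (.leaf (.up 9 1005 6)) (.leaf (.up 6 2029 6))) (.node (.leaf (.up 7 493 6)) (.leaf (.up 4 1517 6))))))))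

noncomputable def vt0_0_101 : Tr VStep := .node vt0_0_1010 vt0_0_1011

noncomputable def vt0_0_10 : Tr VStep := .node vt0_0_100 vt0_0_101

noncomputable def vt0_0_1100 : Tr VStep :=
  .node (.node (.node (.node (.node (.node (.node (.leaf (.up 7 1359 5)) (.leaf (.up 4 1026 1))) (.node (.leaf (.up 7 1871 5)) (.leaf (.up 4 1529 4)))) (.node (.node (.leaf (.up 7 787 6)) (.leaf (.up 6 1811 6))) (.node (.leaf (.up 9 275 6)) (.leaf (.up 6 1299 6))))) (.node (.node (.node (.leaf (.up 6 659 6)) (.leaf (.up 9 1683 6))) (.node (.leaf (.up 4 147 6)) (.leaf (.up 7 1171 6)))) (.node (.node (.leaf (.up 6 633 4)) (.leaf (.up 9 207 5))) (.node (.leaf (.up 4 121 4)) (.leaf (.up 2 719 5)))))) (.node (.node (.node (.node (.leaf (.up 8 595 6)) (.leaf (.up 5 1619 6))) (.node (.leaf (.up 6 83 6)) (.leaf (.up 7 1107 6)))) (.node (.node (.leaf (.up 6 1039 5)) (.leaf (.up 5 49 3))) (.node (.leaf (.up 6 1551 5)) (.leaf (.up 7 1420 2))))) (.node (.node (.node (.leaf (.up 7 1457 3)) (.leaf (.up 6 399 5))) (.node (.leaf (.up 3 12 2)) (.leaf (.up 6 911 5)))) (.node (.node (.leaf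 (.up 9 979 6)) (.leaf (.up 8 2003 6))) (.node (.leaf (.up 5 467 6)) (.leaf (.up 4 1491 6))))))) (.node (.node (.node (.node (.node (.leaf (.up 8 563 6)) (.leaf (.up 7 1587 6))) (.node (.leaf (.up 6 51 6)) (.leaf (.up 5 1075 6)))) (.node (.node (.leaf (.up 8 1135 5)) (.leaf (.up 7 2028 2))) (.node (.leaf (.up 4 1647 5)) (.leaf (.up 5 593 3))))) (.node (.node (.node (.leaf (.up 7 620 2)) (.leaf (.up 4 495 5))) (.node (.leaf (.up 5 345 4)) (.leaf (.up 6 1007 5)))) (.node (.node (.leaf (.up 7 947 6)) (.leaf (.up 6 1971 6))) (.node (.leaf (.up 5 435 6)) (.leaf (.up 6 1459 6)))))) (.node (.node (.node (.node (.leaf (.up 7 1327 5)) (.leaf (.up 6 1945 4))) (.node (.leaf (.up 7 1839 5)) (.leaf (.up 2 1018 0)))) (.node (.node (.leaf (.up 9 883 6)) (.leaf (.up 8 1907 6))) (.node (.leaf (.up 7 371 6)) (.leaf (.up 3 1395 6))))) (.node (.node (.node (.leaf (.up 6 755 6)) (.leaf (.up 7 1779 6))) (.node (.leaf (.up 6 243 6)) (.leaf (.up 7 1267 6)))) (.node (.node (.leaf (.up 4 1169 3)) (.leaf (.up 7 175 5))) (.node (.leaf (.up 4 753 0)) (.leaf (.up 5 687 5)))))))) (.node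 (.node (.node (.node (.node (.node (.leaf (.up 8 515 6)) (.leaf (.up 5 1539 6))) (.node (.leaf (.up 8 3 6)) (.leaf (.up 5 1027 6)))) (.node (.node (.leaf (.up 8 1119 5)) (.leaf (.up 5 1094 0))) (.node (.leaf (.up 6 1631 5)) (.leaf (.up 5 609 3))))) (.node (.node (.node (.leaf (.up 3 1357 0)) (.leaf (.up 6 479 5))) (.node (.leaf (.up 5 2017 3)) (.leaf (.up 8 991 5)))) (.node (.node (.leaf (.up 5 899 6)) (.leaf (.up 3 1923 6))) (.node (.leaf (.up 7 387 6)) (.leaf (.up 10 1411 6)))))) (.node (.node (.node (.node (.leaf (.up 5 1311 5)) (.leaf (.up 6 1961 4))) (.node (.leaf (.up 7 1823 5)) (.leaf (.up 4 1180 2)))) (.node (.node (.leaf (.up 7 835 6)) (.leaf (.up 8 1859 6))) (.node (.leaf (.up 7 323 6)) (.leaf (.up 6 1347 6))))) (.node (.node (.node (.leaf (.up 4 707 6)) (.leaf (.up 7 1731 6))) (.node (.leaf (.up 8 195 6)) (.leaf (.up 7 1219 6)))) (.node (.node (.leaf (.up 4 553 4)) (.leaf (.up 3 159 5))) (.node (.leaf (.up 8 41 4)) (.leaf (.up 7 671 5))))))) (.node (.node (.node (.node (.node (.leaf (.up 5 1407 5)) (.leaf (.up 4 1788 2))) (.node (.leaf (.up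 7 1919 5)) (.leaf (.up 6 1481 4)))) (.node (.node (.leaf (.up 5 803 6)) (.leaf (.up 6 1827 6))) (.node (.leaf (.up 9 291 6)) (.leaf (.up 8 1315 6))))) (.node (.node (.node (.leaf (.up 6 675 6)) (.leaf (.up 7 1699 6))) (.node (.leaf (.up 8 163 6)) (.leaf (.up 5 1187 6)))) (.node (.node (.leaf (.up 4 892 2)) (.leaf (.up 5 255 5))) (.node (.leaf (.up 6 1729 3)) (.leaf (.up 5 767 5)))))) (.node (.node (.node (.node (.leaf (.up 8 611 6)) (.leaf (.up 3 1635 6))) (.node (.leaf (.up 8 99 6)) (.leaf (.up 7 1123 6)))) (.node (.node (.leaf (.up 6 1087 5)) (.leaf (.up 2 1 3))) (.node (.leaf (.up 8 1599 5)) (.leaf (.up 7 1906 1))))) (.node (.node (.node (.leaf (.up 5 777 4)) (.leaf (.up 6 447 5))) (.node (.leaf (.up 5 754 1)) (.leaf (.up 6 959 5)))) (.node (.node (.leaf (.up 5 995 6)) (.leaf (.up 6 2019 6))) (.node (.leaf (.up 5 483 6)) (.leaf (.up 8 1507 6))))))))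

noncomputable def vt0_0_1101 : Tr VStep :=
  .node (.node (.node (.node (.node (.node (.node (.leaf (.up 7 539 6)) (.leaf (.up 6 1563 6))) (.node (.leaf (.up 7 27 6)) (.leaf (.up 6 1051 6)))) (.node (.node (.leaf (.up 4 1095 5)) (.leaf (.up 4 121 3))) (.node (.leaf (.up 9 1607 5)) (.leaf (.up 4 222 0))))) (.node (.node (.node (.leaf (.up 4 1529 3)) (.leaf (.up 7 455 5))) (.node (.leaf (.up 6 469 0)) (.leaf (.up 7 967 5)))) (.node (.node (.leaf (.up 4 923 6)) (.leaf (.up 9 1947 6))) (.node (.leaf (.up 6 411 6)) (.leaf (.up 7 1435 6)))))) (.node (.node (.node (.node (.leaf (.up 6 1287 5)) (.leaf (.up 5 1969 4))) (.node (.leaf (.up 4 1799 5)) (.leaf (.up 7 1457 4)))) (.node (.node (.leaf (.up 6 859 6)) (.leaf (.up 5 1883 6))) (.node (.leaf (.up 8 347 6)) (.leaf (.up 7 1371 6))))) (.node (.node (.node (.leaf (.up 7 731 6)) (.leaf (.up 6 1755 6))) (.node (.leaf (.up 7 219 6)) (.leaf (.up 8 1243 6)))) (.node (.node (.leaf (.up 5 772 2)) (.leaf (.up 6 135 5))) (.node (.leaf (.up 5 49 4)) (.leaf (.up 6 647 5))))))) (.node (.node (.node (.node (.node (.leaf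 (.up 6 1383 5)) (.leaf (.up 5 345 3))) (.node (.leaf (.up 4 1895 5)) (.leaf (.up 5 1252 2)))) (.node (.node (.leaf (.up 6 827 6)) (.leaf (.up 7 1851 6))) (.node (.leaf (.up 6 315 6)) (.leaf (.up 7 1339 6))))) (.node (.node (.node (.leaf (.up 7 699 6)) (.leaf (.up 6 1723 6))) (.node (.leaf (.up 7 187 6)) (.leaf (.up 8 1211 6)))) (.node (.node (.leaf (.up 5 593 4)) (.leaf (.up 4 231 5))) (.node (.leaf (.up 5 356 2)) (.leaf (.up 8 743 5)))))) (.node (.node (.node (.node (.leaf (.up 7 635 6)) (.leaf (.up 6 1659 6))) (.node (.leaf (.up 7 123 6)) (.leaf (.up 4 1147 6)))) (.node (.node (.leaf (.up 5 1063 5)) (.leaf (.up 6 1386 1))) (.node (.leaf (.up 7 1575 5)) (.leaf (.up 4 1169 4))))) (.node (.node (.node (.leaf (.up 4 234 1)) (.leaf (.up 7 423 5))) (.node (.leaf (.up 6 1945 3)) (.leaf (.up 7 935 5)))) (.node (.node (.leaf (.up 3 1019 6)) (.leaf (.up 7 2043 6))) (.node (.leaf (.up 6 507 6)) (.leaf (.up 9 1531 6)))))))) (.node (.node (.node (.node (.node (.node (.leaf (.up 6 1367 5)) (.leaf (.up 5 2017 4))) (.node (.leaf (.up 6 1879 5)) (.leaf (.up 5 1505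 4)))) (.node (.node (.leaf (.up 10 779 6)) (.leaf (.up 5 1803 6))) (.node (.leaf (.up 5 267 6)) (.leaf (.up 5 1291 6))))) (.node (.node (.node (.leaf (.up 7 651 6)) (.leaf (.up 8 1675 6))) (.node (.leaf (.up 5 139 6)) (.leaf (.up 8 1163 6)))) (.node (.node (.leaf (.up 5 609 4)) (.leaf (.up 6 215 5))) (.node (.leaf (.up 3 922 1)) (.leaf (.up 8 727 5)))))) (.node (.node (.node (.node (.leaf (.up 5 587 6)) (.leaf (.up 8 1611 6))) (.node (.leaf (.up 7 75 6)) (.leaf (.up 6 1099 6)))) (.node (.node (.leaf (.up 7 1047 5)) (.leaf (.up 6 1940 2))) (.node (.leaf (.up 5 1559 5)) (.leaf (.up 4 553 3))))) (.node (.node (.node (.leaf (.up 6 532 2)) (.leaf (.up 7 407 5))) (.node (.leaf (.up 6 1961 3)) (.leaf (.up 5 919 5)))) (.node (.node (.leaf (.up 6 971 6)) (.leaf (.up 7 1995 6))) (.node (.leaf (.up 6 459 6)) (.leaf (.up 7 1483 6))))))) (.node (.node (.node (.node (.node (.leaf (.up 5 555 6)) (.leaf (.up 6 1579 6))) (.node (.leaf (.up 7 43 6)) (.leaf (.up 6 1067 6)))) (.node (.node (.leaf (.up 5 1143 5)) (.leaf (.up 6 1729 4))) (.node (.leaf (.up 5 1655 5)) (.leaf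 (.up 6 1524 2))))) (.node (.node (.node (.leaf (.up 6 1481 3)) (.leaf (.up 7 503 5))) (.node (.leaf (.up 6 116 2)) (.leaf (.up 5 1015 5)))) (.node (.node (.leaf (.up 6 939 6)) (.leaf (.up 9 1963 6))) (.node (.leaf (.up 6 427 6)) (.leaf (.up 5 1451 6)))))) (.node (.node (.node (.node (.leaf (.up 6 1335 5)) (.leaf (.up 3 1890 0))) (.node (.leaf (.up 6 1847 5)) (.leaf (.up 5 777 3)))) (.node (.node (.leaf (.up 8 875 6)) (.leaf (.up 5 1899 6))) (.node (.leaf (.up 6 363 6)) (.leaf (.up 7 1387 6))))) (.node (.node (.node (.leaf (.up 7 747 6)) (.leaf (.up 8 1771 6))) (.node (.leaf (.up 5 235 6)) (.leaf (.up 8 1259 6)))) (.node (.node (.leaf (.up 5 1641 0)) (.leaf (.up 8 183 5))) (.node (.leaf (.up 2 1 4)) (.leaf (.up 6 695 5))))))))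

noncomputable def vt0_0_110 : Tr VStep := .node vt0_0_1100 vt0_0_1101

noncomputable def vt0_0_1110 : Tr VStep :=
  .node (.node (.node (.node (.node (.node (.node (.leaf (.up 6 535 6)) (.leaf (.up 5 1559 6))) (.node (.leaf (.up 8 23 6)) (.leaf (.up 7 1047 6)))) (.node (.node (.leaf (.up 6 1099 5)) (.leaf (.up 5 117 3))) (.node (.leaf (.up 8 1611 5)) (.leaf (.up 3 223 0))))) (.node (.node (.node (.leaf (.up 5 1525 3)) (.leaf (.up 6 459 5))) (.node (.leaf (.up 5 468 0)) (.leaf (.up 6 971 5)))) (.node (.node (.leaf (.up 5 919 6)) (.leaf (.up 8 1943 6))) (.node (.leaf (.up 7 407 6)) (.leaf (.up 8 1431 6)))))) (.node (.node (.node (.node (.leaf (.up 5 1291 5)) (.leaf (.up 3 1981 4))) (.node (.leaf (.up 5 1803 5)) (.leaf (.up 8 1469 4)))) (.node (.node (.leaf (.up 7 855 6)) (.leaf (.up 6 1879 6))) (.node (.leaf (.up 7 343 6)) (.leaf (.up 6 1367 6))))) (.node (.node (.node (.leaf (.up 8 727 6)) (.leaf (.up 5 1751 6))) (.node (.leaf (.up 6 215 6)) (.leaf (.up 7 1239 6)))) (.node (.node (.leaf (.up 6 776 2)) (.leaf (.up 5 139 5))) (.node (.leaf (.up 6 61 4))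 (.leaf (.up 7 651 5))))))) (.node (.node (.node (.node (.node (.leaf (.up 7 1387 5)) (.leaf (.up 4 341 3))) (.node (.leaf (.up 5 1899 5)) (.leaf (.up 6 1256 2)))) (.node (.node (.leaf (.up 7 823 6)) (.leaf (.up 6 1847 6))) (.node (.leaf (.up 5 311 6)) (.leaf (.up 6 1335 6))))) (.node (.node (.node (.leaf (.up 6 695 6)) (.leaf (.up 4 1719 6))) (.node (.leaf (.up 8 183 6)) (.leaf (.up 7 1207 6)))) (.node (.node (.leaf (.up 6 605 4)) (.leaf (.up 5 235 5))) (.node (.leaf (.up 6 360 2)) (.leaf (.up 7 747 5)))))) (.node (.node (.node (.node (.leaf (.up 8 631 6)) (.leaf (.up 5 1655 6))) (.node (.leaf (.up 8 119 6)) (.leaf (.up 5 1143 6)))) (.node (.node (.leaf (.up 6 1067 5)) (.leaf (.up 5 1382 1))) (.node (.leaf (.up 6 1579 5)) (.leaf (.up 3 1181 4))))) (.node (.node (.node (.leaf (.up 3 230 1)) (.leaf (.up 6 427 5))) (.node (.leaf (.up 7 1941 3)) (.leaf (.up 6 939 5)))) (.node (.node (.leaf (.up 5 1015 6)) (.leaf (.up 8 2039 6))) (.node (.leaf (.up 7 503 6)) (.leaf (.up 8 1527 6)))))))) (.node (.node (.node (.node (.node (.node (.leaf (.up 7 1371 5)) (.leaf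 (.up 6 2029 4))) (.node (.leaf (.up 5 1883 5)) (.leaf (.up 4 1517 4)))) (.node (.node (.leaf (.up 9 775 6)) (.leaf (.up 4 1799 6))) (.node (.leaf (.up 7 263 6)) (.leaf (.up 6 1287 6))))) (.node (.node (.node (.leaf (.up 6 647 6)) (.leaf (.up 7 1671 6))) (.node (.leaf (.up 6 135 6)) (.leaf (.up 7 1159 6)))) (.node (.node (.leaf (.up 6 621 4)) (.leaf (.up 7 219 5))) (.node (.leaf (.up 4 918 1)) (.leaf (.up 7 731 5)))))) (.node (.node (.node (.node (.leaf (.up 6 583 6)) (.leaf (.up 9 1607 6))) (.node (.leaf (.up 6 71 6)) (.leaf (.up 4 1095 6)))) (.node (.node (.leaf (.up 6 1051 5)) (.leaf (.up 5 1944 2))) (.node (.leaf (.up 6 1563 5)) (.leaf (.up 5 549 3))))) (.node (.node (.node (.leaf (.up 5 536 2)) (.leaf (.up 6 411 5))) (.node (.leaf (.up 7 1957 3)) (.leaf (.up 4 923 5)))) (.node (.node (.leaf (.up 7 967 6)) (.leaf (.up 8 1991 6))) (.node (.leaf (.up 7 455 6)) (.leaf (.up 6 1479 6))))))) (.node (.node (.node (.node (.node (.leaf (.up 6 551 6)) (.leaf (.up 7 1575 6))) (.node (.leaf (.up 8 39 6)) (.leaf (.up 5 1063 6)))) (.node (.node (.leaf (.up 4 1147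 5)) (.leaf (.up 5 1741 4))) (.node (.leaf (.up 6 1659 5)) (.leaf (.up 5 1528 2))))) (.node (.node (.node (.leaf (.up 7 1477 3)) (.leaf (.up 6 507 5))) (.node (.leaf (.up 5 120 2)) (.leaf (.up 3 1019 5)))) (.node (.node (.leaf (.up 7 935 6)) (.leaf (.up 8 1959 6))) (.node (.leaf (.up 7 423 6)) (.leaf (.up 6 1447 6)))))) (.node (.node (.node (.node (.leaf (.up 7 1339 5)) (.leaf (.up 4 1891 0))) (.node (.leaf (.up 7 1851 5)) (.leaf (.up 4 773 3)))) (.node (.node (.leaf (.up 7 871 6)) (.leaf (.up 4 1895 6))) (.node (.leaf (.up 7 359 6)) (.leaf (.up 6 1383 6))))) (.node (.node (.node (.leaf (.up 8 743 6)) (.leaf (.up 7 1767 6))) (.node (.leaf (.up 4 231 6)) (.leaf (.up 7 1255 6)))) (.node (.node (.leaf (.up 6 1640 0)) (.leaf (.up 7 187 5))) (.node (.leaf (.up 4 13 4)) (.leaf (.up 7 699 5))))))))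

noncomputable def vt0_0_1111 : Tr VStep :=
  .node (.node (.node (.node (.node (.node (.node (.leaf (.up 6 1347 5)) (.leaf (.up 5 1038 1))) (.node (.leaf (.up 8 1859 5)) (.leaf (.up 5 1525 4)))) (.node (.node (.leaf (.up 6 799 6)) (.leaf (.up 7 1823 6))) (.node (.leaf (.up 8 287 6)) (.leaf (.up 5 1311 6))))) (.node (.node (.node (.leaf (.up 7 671 6)) (.leaf (.up 10 1695 6))) (.node (.leaf (.up 3 159 6)) (.leaf (.up 6 1183 6)))) (.node (.node (.leaf (.up 5 629 4)) (.leaf (.up 8 195 5))) (.node (.leaf (.up 5 117 4)) (.leaf (.up 4 707 5)))))) (.node (.node (.node (.node (.leaf (.up 7 607 6)) (.leaf (.up 6 1631 6))) (.node (.leaf (.up 7 95 6)) (.leaf (.up 8 1119 6)))) (.node (.node (.leaf (.up 5 1027 5)) (.leaf (.up 6 61 3))) (.node (.leaf (.up 5 1539 5)) (.leaf (.up 6 1408 2))))) (.node (.node (.node (.leaf (.up 8 1469 3)) (.leaf (.up 7 387 5))) (.node (.leaf (.up 1 0 2)) (.leaf (.up 5 899 5)))) (.node (.node (.leaf (.up 8 991 6)) (.leaf (.up 7 2015 6))) (.node (.leaf (.up 6 479 6)) (.leaf (.up 5 1503 6))))))) (.node (.node (.node (.node (.node (.leaf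 (.up 9 575 6)) (.leaf (.up 8 1599 6))) (.node (.leaf (.up 4 63 6)) (.leaf (.up 6 1087 6)))) (.node (.node (.leaf (.up 7 1123 5)) (.leaf (.up 6 2016 2))) (.node (.leaf (.up 3 1635 5)) (.leaf (.up 6 605 3))))) (.node (.node (.node (.leaf (.up 6 608 2)) (.leaf (.up 5 483 5))) (.node (.leaf (.up 4 341 4)) (.leaf (.up 5 995 5)))) (.node (.node (.leaf (.up 6 959 6)) (.leaf (.up 7 1983 6))) (.node (.leaf (.up 6 447 6)) (.leaf (.up 7 1471 6)))))) (.node (.node (.node (.node (.leaf (.up 8 1315 5)) (.leaf (.up 7 1941 4))) (.node (.leaf (.up 6 1827 5)) (.leaf (.up 3 1019 0)))) (.node (.node (.leaf (.up 8 895 6)) (.leaf (.up 7 1919 6))) (.node (.leaf (.up 6 383 6)) (.leaf (.up 5 1407 6))))) (.node (.node (.node (.leaf (.up 5 767 6)) (.leaf (.up 8 1791 6))) (.node (.leaf (.up 5 255 6)) (.leaf (.up 6 1279 6)))) (.node (.node (.leaf (.up 3 1181 3)) (.leaf (.up 8 163 5))) (.node (.leaf (.up 5 752 0)) (.leaf (.up 6 675 5)))))))) (.node (.node (.node (.node (.node (.node (.leaf (.up 9 527 6)) (.leaf (.up 6 1551 6))) (.node (.leaf (.up 7 15 6)) (.leaf (.up 6 1039 6))))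 (.node (.node (.leaf (.up 7 1107 5)) (.leaf (.up 4 1095 0))) (.node (.leaf (.up 5 1619 5)) (.leaf (.up 6 621 3))))) (.node (.node (.node (.leaf (.up 2 1356 0)) (.leaf (.up 5 467 5))) (.node (.leaf (.up 6 2029 3)) (.leaf (.up 9 979 5)))) (.node (.node (.leaf (.up 6 911 6)) (.leaf (.up 5 1935 6))) (.node (.leaf (.up 6 399 6)) (.leaf (.up 9 1423 6)))))) (.node (.node (.node (.node (.leaf (.up 6 1299 5)) (.leaf (.up 7 1957 4))) (.node (.leaf (.up 6 1811 5)) (.leaf (.up 5 1168 2)))) (.node (.node (.leaf (.up 6 847 6)) (.leaf (.up 7 1871 6))) (.node (.leaf (.up 6 335 6)) (.leaf (.up 7 1359 6))))) (.node (.node (.node (.leaf (.up 2 719 6)) (.leaf (.up 6 1743 6))) (.node (.leaf (.up 9 207 6)) (.leaf (.up 8 1231 6)))) (.node (.node (.leaf (.up 5 549 4)) (.leaf (.up 4 147 5))) (.node (.leaf (.up 7 37 4)) (.leaf (.up 6 659 5))))))) (.node (.node (.node (.node (.node (.leaf (.up 3 1395 5)) (.leaf (.up 5 1776 2))) (.node (.leaf (.up 8 1907 5)) (.leaf (.up 7 1477 4)))) (.node (.node (.leaf (.up 4 815 6)) (.leaf (.up 7 1839 6))) (.node (.leaf (.up 8 303 6)) (.leaf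 (.up 7 1327 6))))) (.node (.node (.node (.leaf (.up 5 687 6)) (.leaf (.up 6 1711 6))) (.node (.leaf (.up 7 175 6)) (.leaf (.up 6 1199 6)))) (.node (.node (.leaf (.up 5 880 2)) (.leaf (.up 6 243 5))) (.node (.leaf (.up 5 1741 3)) (.leaf (.up 6 755 5)))))) (.node (.node (.node (.node (.leaf (.up 7 623 6)) (.leaf (.up 4 1647 6))) (.node (.leaf (.up 9 111 6)) (.leaf (.up 8 1135 6)))) (.node (.node (.leaf (.up 5 1075 5)) (.leaf (.up 4 13 3))) (.node (.leaf (.up 7 1587 5)) (.leaf (.up 6 1918 1))))) (.node (.node (.node (.leaf (.up 4 773 4)) (.leaf (.up 5 435 5))) (.node (.leaf (.up 4 766 1)) (.leaf (.up 7 947 5)))) (.node (.node (.leaf (.up 6 1007 6)) (.leaf (.up 7 2031 6))) (.node (.leaf (.up 4 495 6)) (.leaf (.up 9 1519 6))))))))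

noncomputable def vt0_0_111 : Tr VStep := .node vt0_0_1110 vt0_0_1111

noncomputable def vt0_0_11 : Tr VStep := .node vt0_0_110 vt0_0_111

noncomputable def vt0_0_1 : Tr VStep := .node vt0_0_10 vt0_0_11

noncomputable def vt0_0_ : Tr VStep := .node vt0_0_0 vt0_0_1

noncomputable def roots0 : List Root := [⟨0,[⟨[0],11152190985263823847931674234978491437170700,0,11152190985263823847931674234978491437170700,[0]⟩,⟨[2],11157178412777514698937609335529149864878081,1,11151733894906779683522195341810241573494785,[]⟩,⟨[1,2,1,1],15066342243965255767204856825705303078084609,719,11151733894906779683522195341810241573494785,[]⟩,⟨[1,1,2,1],18741391806711391172609302585968399761809409,1394,11151733894906779683522195341810241573494785,[]⟩,⟨[1,0,1,2,1,1,0,1,1],16694253087315025376413640947658882201690113,1018,11151733894906779683522195341810241573494785,[]⟩,⟨[1,0,1,1,2,1,0,1,1],18534500127623460586823570824649884689244161,1356,11151733894906779683522195341810241573494785,[]⟩,⟨[1,1,0,1,1,2,1,0,1],14026439330654867822860784025393819423875073,528,11151733894906779683522195341810241573494785,[]⟩],vt0_0_⟩]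

noncomputable def sel0_00000 : Tr (ℕ × ℕ × ℕ) :=
  .node (.node (.node (.node (.node (.node (.node (.leaf (11152190985263823847931674234978491437170700,0,0)) (.leaf (16749904350241853185887391972796682430062594,2036,2))) (.leaf (11330727737477173043651641465152984027873800,731,1))) (.node (.node (.leaf (21354406810131336852177022884304092550504992,320,1)) (.leaf (18294944332140048067034300031330070531408897,2050,2559))) (.leaf (15623005827475005497096936488117512637960448,1247,2)))) (.node (.node (.node (.leaf (19453435194642555223003474445140480075683427,145,0)) (.leaf (11152470554343461981259860557705429576127631,2294,1))) (.leaf (13883616295584544111296390351298620916237671,982,0))) (.node (.leaf (21392590127219878579507547535866923928477910,503,1)) (.leaf (21539533663610132363574869972788618578469380,1570,2))))) (.node (.node (.node (.node (.leaf (17368670421547501892257015555907503645533341,70,2)) (.leaf (11151130757769627449012322288274051770741031,2157,1))) (.leaf (20694897083731918068952005025247957488222304,845,2))) (.node (.leaf (13564107240449107779183840530253907855837057,414,1))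 (.leaf (17048802005232664075913038605645601512419487,1382,1)))) (.node (.node (.node (.leaf (22253108824164404274040273464976398367065089,228,1)) (.leaf (11221154156999793830018569121031466573111299,2050,2431))) (.leaf (15365087565894029356653457650222081322786819,1105,0))) (.node (.leaf (19770408588860331129894712686869818833695872,603,1)) (.leaf (17221793386353617879491635395028554736399517,1749,1)))))) (.node (.node (.node (.node (.node (.leaf (14163118774652088292911663035359558751969510,36,1)) (.leaf (11150714767894063817839508397361896669323501,2097,1))) (.leaf (19824272484584248395531914616356931721246264,779,2))) (.node (.node (.leaf (19029669371320881889217874261860725468127446,366,1)) (.leaf (11152491409461081915580826706685184763240449,2622,2597))) (.leaf (15671469547413359736155467382781565965698176,1315,1)))) (.node (.node (.node (.leaf (12148646976412713232068659524570283288387766,188,2)) (.leaf (19894396443669834607606646503283166288282522,2366,2367))) (.leaf (13950427262860479702457951028113907266888561,1043,1))) (.node (.leaf (19199874723787730375210429807248589045728596,552,2))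 (.leaf (11618885817148557562508975012180430324441270,1656,1))))) (.node (.node (.node (.node (.leaf (13171653015778398561129731941837368339727361,105,1)) (.leaf (11150687952480211133180132733737434676143705,2220,0))) (.leaf (16532060967127572821657572884983526267913556,902,2))) (.node (.leaf (21485146931022373841569585429088364881993942,458,2)) (.leaf (11707452442189063010373670328467267329033862,1474,2)))) (.node (.node (.node (.leaf (12582911173401640929575237546884607098668026,283,1)) (.leaf (11221435988652991246131655954347530481287264,2050,2495))) (.leaf (14859097236214799220570954236761598149353702,1176,1))) (.node (.leaf (17315137029870358887050401662097434388068334,667,1)) (.leaf (14909610626037104171050166916234200572449698,1846,1))))))) (.node (.node (.node (.node (.node (.node (.leaf (17575562100635432478042747317226018718098589,18,2)) (.leaf (11151130602073772534685723722431783749612544,2072,1))) (.leaf (20314254178520803478827475151354438147699712,754,2))) (.node (.node (.leaf (20031039660336924430394458484453658131965085,342,2)) (.leaf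 (20609071479767234145253264596482371044249857,2587,2591))) (.leaf (13971653823288460936149418703506093555687940,1283,2)))) (.node (.node (.node (.leaf (14075158108952017861191139977654180309328086,172,1)) (.leaf (16248254728165872052477498894732940315755823,2335,12))) (.leaf (17565942144636373239437727391297157161141580,1019,0))) (.node (.leaf (20199819270233381003500477102595651534333665,524,0)) (.leaf (21773647932051738026437671702701675107951108,1620,2))))) (.node (.node (.node (.node (.leaf (20510129193191823374418012401615079352747002,89,2)) (.leaf (11151598799827711591098791688162445908377771,2185,0))) (.leaf (11630176220367598891499411119692940053955080,869,1))) (.node (.leaf (11702107539415850362715424195273915319694627,437,2)) (.leaf (17701135319462511493101253980844781132071432,1430,2)))) (.node (.node (.node (.leaf (20003162646491451972768329031627320399816251,254,2)) (.leaf (14994860573661892169511024944697031140189554,0,2463))) (.leaf (12795978624239164581953373847843586409681921,1131,0))) (.node (.leaf (19297987894945588753633854352761822261814708,633,1))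 (.leaf (16317392860198756078550084761186716344133345,1798,0)))))) (.node (.node (.node (.node (.node (.leaf (13982207940525125550958256406261321931538952,54,0)) (.leaf (11150724170717027545294678324534740565476096,2126,1))) (.leaf (13749424388655426630481725557842084213215724,810,0))) (.node (.leaf (14679784465971997831199408201974965052900353,383,2)) (.leaf (21070337478569362796897036069143865065981865,1342,2)))) (.node (.node (.node (.leaf (16040913933655751685052906631702037898724353,209,1)) (.leaf (11151156854512329432582493390742658486636545,2332,2399))) (.leaf (15796562894963610530367820050296694494261407,1072,1))) (.node (.leaf (11375614383926778013051657150543161891025055,579,1)) (.leaf (13334382268238513716266735203714008594314240,1702,1))))) (.node (.node (.node (.node (.leaf (22132748139166301317547492611468244639817858,123,2)) (.leaf (11151058863557273072123041449400691708937959,2258,1))) (.leaf (19439535555794181566342810332846590933858189,947,2))) (.node (.leaf (13280187140033251239110619002840714973659664,482,2)) (.leaf (19580018020738193937113201484156725870139145,1527,2))))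 (.node (.node (.node (.leaf (18361418638670993634327887046201678709302604,303,1)) (.leaf (11150415774581587403744013616381501987155969,2423,2527))) (.leaf (11978947037320010291501146582272166888227336,1211,1))) (.node (.leaf (14539395546562974348020955253933138478368237,698,1)) (.leaf (20875264228184777149719069229963316006229248,1913,0)))))))

noncomputable def sel0_00001 : Tr (ℕ × ℕ × ℕ) :=
  .node (.node (.node (.node (.node (.node (.node (.leaf (15000332617572089540364318669767587740459020,9,1)) (.leaf (11150545441771656714497134023805335716157027,2059,0))) (.leaf (13857055983829075196146478600729204567110656,744,2))) (.node (.node (.leaf (20109109152034122134491489071990256172123782,331,2)) (.leaf (11151662115602612981059200259253494107497804,2575,220))) (.leaf (14512034085025641718775872805907739396585353,1269,0)))) (.node (.node (.node (.leaf (19654882355859750793373792212740086856865379,162,0)) (.leaf (11152300425532059756367550222898778881753539,2314,1))) (.leaf (19535714555324252548999837332408774877828213,997,2))) (.node (.leaf (16286569529494948969226079765361465171698594,511,2))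 (.leaf (17408051126385057792390721573448816711025996,1599,2))))) (.node (.node (.node (.node (.leaf (19475213266125495284665130420016113241216611,79,0)) (.leaf (11151546427445939921646544273128784703984496,2172,1))) (.leaf (18421336788397040339211132775514750234658285,857,1))) (.node (.leaf (11592549652264803391511476658717128155140764,426,2)) (.leaf (13416057835104450475819820168648953950144295,1410,2)))) (.node (.node (.node (.leaf (22209359500198083451568764410588296352567964,240,2)) (.leaf (11150713507629166251637009429810002948386817,2442,2440))) (.leaf (12283840037486801170097309348602879105933856,1118,2))) (.node (.leaf (21523350473613562940718207274810105291814769,619,0)) (.leaf (11276896626789834077910403738258464585204442,1782,2)))))) (.node (.node (.node (.node (.node (.leaf (18223085970418221070354051876863593200205920,43,2)) (.leaf (11152773762483897647742555242941154459521763,2113,1))) (.leaf (21425185542450892052577404802649900338487840,793,2))) (.node (.node (.leaf (12610189437099901666273929989096432502948360,375,2)) (.leaf (11150404524228202335949772476785265202988929,2637,2639)))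 (.leaf (15072895251986268842076929052401363844014838,1333,1)))) (.node (.node (.node (.leaf (13933885431432394604570911420200130470802560,198,2)) (.leaf (22220439969477688784267584156822176470540545,2050,2370))) (.leaf (21326272224879310184167319765046255237203303,1058,0))) (.node (.leaf (15752728969498700346556423798513407667471258,568,0)) (.leaf (15909960777629297800017303162757228880978422,1675,1))))) (.node (.node (.node (.node (.leaf (20303971340192362640605284071322831389258880,114,2)) (.leaf (11151063955366816949104671336475348705681991,2234,0))) (.leaf (12650231197759039387787474366302560322274024,926,2))) (.node (.leaf (14190917949687971826120767857517927509697868,469,1)) (.leaf (18088049575881295612791305951757753030865024,1496,1)))) (.node (.node (.node (.leaf (11364527626086708777082873501655433343575380,292,2)) (.leaf (12795624963206228378129050617295355715084518,2486,2511))) (.leaf (17183664201653081143286303822133491587385127,1197,0))) (.node (.leaf (22116802696395588189506726517366855399051932,683,2)) (.leaf (20352687360149070378995122037386394649747958,1873,1)))))))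 (.node (.node (.node (.node (.node (.node (.leaf (21506853642713859531801163512111143253819920,26,1)) (.leaf (11151432216674081426540016636511080649491658,2085,1))) (.leaf (16993701902575861467237563005121879066203137,770,2))) (.node (.node (.leaf (16046358451526486700468320625420946190107649,352,2)) (.leaf (19061943113952521995476271101046661203427848,2,2607))) (.leaf (19629225944108510439801031189478831291729542,1300,0)))) (.node (.node (.node (.leaf (19965705445888104245409490559826758635365533,180,2)) (.leaf (11151945077360518348106170956393582356369409,2332,2351))) (.leaf (14014510751767297870741550188691003873911038,1030,2))) (.node (.leaf (16296806273580297409577364336490727593739265,535,2)) (.leaf (19111557842777521260691140699767495885767386,1635,1))))) (.node (.node (.node (.node (.leaf (13846067359181946918484161619773839120540829,97,1)) (.leaf (11151880500783121730025141044893073127718973,2201,1))) (.leaf (12920498877060665393091967500415265954866913,887,0))) (.node (.leaf (12577466655530905914159823553165698807284730,448,2)) (.leaf (16972503426093471842363489295717521841735516,1455,1))))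 (.node (.node (.node (.leaf (16411294018543895341553833824826935726024250,271,1)) (.leaf (11157683555497879336754457849955990965993568,0,2479))) (.leaf (14837300630303120064593806372058140090140074,1161,2))) (.node (.leaf (16477795133180402917316933501986114385137920,653,0)) (.leaf (16777126939595528262964461941391223886979074,1827,0)))))) (.node (.node (.node (.node (.node (.leaf (11929721649408882429061668382234106587521154,61,2)) (.leaf (11152173844511773874704578915712335075320025,2143,0))) (.leaf (22219763478947203874479628902969566794465800,822,0))) (.node (.leaf (11880222651011928111396749194335433738666080,397,0)) (.leaf (22100287469863630628756073993081800795456938,1359,0)))) (.node (.node (.node (.leaf (13700225792632030390295476807067090347009364,219,1)) (.leaf (11152197634830569630403887209891705147895809,2379,2399))) (.leaf (13567741194276187473166056706871420414186355,1089,1))) (.node (.leaf (17805392267166232013517628071123942050014548,592,1)) (.leaf (12563054080991448067889993576731033228632306,1721,2))))) (.node (.node (.node (.node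 (.leaf (22203914982327348436153350416869388061184668,133,1)) (.leaf (11151544289120776234035785244872740836319296,2274,0))) (.leaf (20462068359155197797159690031626426807613422,961,2))) (.node (.leaf (16655546128074376102613516370967033275597274,492,1)) (.leaf (19918447531771044809506392973431098961479393,1557,1)))) (.node (.node (.node (.leaf (12093635818914347593364968658104416821236737,311,0)) (.leaf (11150377227328828340770454425933382630092801,2542,2543))) (.leaf (13902407983909377135302914665027575551137663,1229,0))) (.node (.leaf (14602852564951548404225948505321549850407404,713,0)) (.leaf (12671276721152081552141778911459426925839094,1965,0)))))))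

noncomputable def sel0_0000 : Tr (ℕ × ℕ × ℕ) := .node sel0_00000 sel0_00001

noncomputable def sel0_00010 : Tr (ℕ × ℕ × ℕ) :=
  .node (.node (.node (.node (.node (.node (.node (.leaf (18747491857654189982504279198732740221400434,4,2)) (.leaf (11151155593893775224657467280430220919709826,2053,1))) (.leaf (14261011133317736978083118160114644359488852,738,2))) (.node (.node (.leaf (20680783251604110201294248370456610838586700,326,0)) (.leaf (11151053355799786405295890014442895955853313,2566,2567))) (.leaf (14482421525566146341538539400654312937154107,1261,1)))) (.node (.node (.node (.leaf (15312488631059385001696050563613035534656844,156,2)) (.leaf (11151546474389572191055025461692191364751366,2306,0))) (.leaf (13633236554696127653063496051904982503507288,989,2))) (.node (.leaf (11522338996055969620189198135727634907557956,507,0)) (.leaf (19623781426237775424385617195759923000346246,1584,2))))) (.node (.node (.node (.node (.leaf (20117666374872227103683981678847291624445539,75,0)) (.leaf (11150545677351844260856149839544179898188141,2165,0))) (.leaf (15451705523521622801811769954020351825528152,852,2)))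 (.node (.leaf (15549547028230209362959682169560338048280123,417,2)) (.leaf (13573185712146922488581470700590328705569651,1392,2)))) (.node (.node (.node (.leaf (12566917785053395703298441230052192968245508,235,1)) (.leaf (11152196872354595214974699341597580929794049,2439,2357))) (.leaf (12065834518786851428566973566912616500049464,1113,1))) (.node (.leaf (13623547613518825336660420086453470584819871,610,1)) (.leaf (18387196844667897206754720482666451319629516,1772,0)))))) (.node (.node (.node (.node (.node (.leaf (19830451241365485022433821880301342714734138,40,1)) (.leaf (11150614871862110578555453368552269526859856,2106,0))) (.leaf (19546477125745179153650797856326656568338145,785,2))) (.node (.node (.leaf (14777107549652437801608699489221932473500168,370,2)) (.leaf (18915617621941534427111289969444843600879873,2598,2344))) (.leaf (16819854722809242485447410430522152937948806,1325,0)))) (.node (.node (.node (.leaf (14843683322426545862698586415429887523119286,193,1)) (.leaf (11152196302741478153879121210132515487023105,2375,2357))) (.leaf (19357793862163462990662339695166976352585197,1049,2)))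 (.node (.leaf (19951218189949162502537560940457933256623444,559,2)) (.leaf (15851138637147615244864129175505539581346944,1664,1))))) (.node (.node (.node (.node (.leaf (12360063619879033633905654064345213729882640,109,2)) (.leaf (11152631529544846914623384322315904379605354,2227,1))) (.leaf (16018942914143654307111679328249761109754739,914,2))) (.node (.leaf (14581074493468608342564292530445916684874220,463,0)) (.leaf (15011221817550063790417965513573842842355124,1489,0)))) (.node (.node (.node (.leaf (14069713591081282845775725983935272017944790,288,2)) (.leaf (18414876594974381014426183513385186955077178,2388,2503))) (.leaf (14527335307132899484055023850456423069570049,1187,2))) (.node (.leaf (11723885610898790424377080170149548485227811,675,2)) (.leaf (15267436076519925376727003765679720003100902,1861,2))))))) (.node (.node (.node (.node (.node (.node (.leaf (17664417109799005052996553093910827264521388,22,0)) (.leaf (11152185823713495950155441312777534773036929,2078,1))) (.leaf (21479278635689872873893822572302721867510252,760,0))) (.node (.node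 (.leaf (19205319241658465390625843800967497337111892,349,0)) (.leaf (11157387318069056452217174766012156833560558,2050,2391))) (.leaf (18198130077202189022843477075801114810343666,1288,1)))) (.node (.node (.node (.leaf (14357976619756699304336309580867204544471170,176,1)) (.leaf (18533924632067167846989796212115212194869967,2340,2050))) (.leaf (20792616573751950930316370078872242824945667,1024,0))) (.node (.leaf (14870905911780220939775656384024428980035766,527,2)) (.leaf (21702869199732182826037289784355867319968260,1626,1))))) (.node (.node (.node (.node (.leaf (20983456530880873885968946692350096931536992,93,1)) (.leaf (11152185823768753743835983596530036914815954,2193,0))) (.leaf (19743183427297044252021629833170566214767617,878,2))) (.node (.leaf (21827076133187682136932016927461598013220411,441,1)) (.leaf (18828504425013561662232078888393973262373889,1442,0)))) (.node (.node (.node (.leaf (18061304412434348367918968858958799655384355,266,0)) (.leaf (11150399380915427989451391764968703000356772,0,2331))) (.leaf (11609639707209946705942674146398362441441462,1144,1)))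 (.node (.leaf (17821720215363889834037583618440191717574529,641,1)) (.leaf (13143350820954361878824893253474751911764150,1814,1)))))) (.node (.node (.node (.node (.node (.leaf (16732367703239098642810483834003390904402945,57,1)) (.leaf (11151546313446255349798719526268509687391234,2134,0))) (.leaf (14341939484618033616546425669880686587109590,817,1))) (.node (.leaf (21655241531429981943799032565115417691469705,392,0)) (.leaf (21149040241635283062333543628687804217689581,1353,2)))) (.node (.node (.node (.leaf (16628921777446227235200838311059734705534080,214,1)) (.leaf (11151943913234744152070403451667085817548801,2357,2399))) (.leaf (17482668635425502690360264187635585485070590,1081,1))) (.node (.leaf (18048898493981944293563319534402047788933374,583,1)) (.leaf (16967058908222736826948075301998613550352220,1712,2))))) (.node (.node (.node (.node (.leaf (22192637835744386487117046542376235845034114,128,1)) (.leaf (11150383316235864918439327574527635873611792,2268,1))) (.leaf (15566214405676969073730906885047727989530888,955,1))) (.node (.leaf (13851611465958340180731064607010296275727360,488,1))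 (.leaf (12524082423655210043712231545174458914870726,1548,2)))) (.node (.node (.node (.leaf (15087741672455467167125827711796492724262479,307,2)) (.leaf (14885970216247191861202745070318865312523634,0,2535))) (.leaf (16461461579568197871070691520829389510988032,1222,1))) (.node (.leaf (12397170017078557159747991764315657511903235,707,0)) (.leaf (11298674698272774139572059713134097750737626,1937,2)))))))

noncomputable def sel0_00011 : Tr (ℕ × ℕ × ℕ) :=
  .node (.node (.node (.node (.node (.node (.node (.leaf (16150178774062356471881645339993712938451866,13,0)) (.leaf (11151355251914051021781510253025798054139471,2065,0))) (.leaf (17156441772181997520831603793106596082860506,748,2))) (.node (.node (.leaf (18762574544048827068378731940184542040932826,337,0)) (.leaf (11152716314275557901465425601200255993389057,2581,2583))) (.leaf (20190888825746131281761749322662782048675252,1276,1)))) (.node (.node (.node (.leaf (20531907264674763436079668376490712518280186,166,2)) (.leaf (16438569652682021405168748673353199475357678,2327,2050))) (.leaf (20478068481690694920392799259472908752574160,1006,2)))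 (.node (.leaf (14183976774373321550076793156501872798704160,516,2)) (.leaf (18751927513790335242591959745781026488410342,1610,1))))) (.node (.node (.node (.node (.leaf (18948849983028166843060563514279946877886694,84,1)) (.leaf (11152211568382958626385902449789605128303680,2178,1))) (.leaf (20810874795594442427024467647766498825585996,864,0))) (.node (.leaf (21190754754180311370880228066228597667693871,433,0)) (.leaf (19132320759548187030744887708981451567042596,1419,1)))) (.node (.node (.node (.leaf (14728591945808172270789937040808303991919260,246,2)) (.leaf (22221094008596115772027332918971502779491234,2050,2384))) (.leaf (16100197346571901547297044012919420617028608,1127,1))) (.node (.leaf (11885667168882663126812163188054342030049376,624,2)) (.leaf (14980420015597794912333806787926314602815730,1788,1)))))) (.node (.node (.node (.node (.node (.leaf (11419555112065942371516702298323017047880876,49,0)) (.leaf (11151672715762928723355881882723573883388634,2118,1))) (.leaf (21181191095285727827683260118660019125281698,802,2))) (.node (.node (.leaf (20587649529045002162075498827838299743133950,380,1))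 (.leaf (11150713265642193346339313085436715847393281,2619,2529))) (.leaf (17036885850080066292421059834497089808991658,1338,2)))) (.node (.node (.node (.leaf (14988760523548424497485052774516004210352131,204,2)) (.leaf (15060319572026764896343276871156915918664399,2,2391))) (.leaf (16498905700288427518956225240035864082706591,1063,2))) (.node (.leaf (12724622699034748264316931190054502357324917,573,1)) (.leaf (13189023181657450664405230713731779441604323,1688,0))))) (.node (.node (.node (.node (.leaf (21398883024858923779996860687788678000369894,119,2)) (.leaf (11152408286043633623765988684476053922878388,2247,0))) (.leaf (17794046940570121251536007263349735575920897,936,0))) (.node (.leaf (11310280169477957828066689225916262394425503,477,1)) (.leaf (16902390180371925287504626383346014687462432,1510,0)))) (.node (.node (.node (.leaf (15300103270075941958229210672555691076862480,297,0)) (.leaf (12279858144133162889921165511123263232296628,2489,2519))) (.leaf (12981877894795088429804092506828181153130192,1202,2))) (.node (.leaf (22154228543025972650827643133980913772197646,693,2))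 (.leaf (11972497535493694137200200137419248263024770,1885,1))))))) (.node (.node (.node (.node (.node (.node (.leaf (19426822757410998656086737733170823822319746,32,1)) (.leaf (11150468324475566372758565504406658641823079,2092,0))) (.leaf (21131992686185326432335578233376908085208404,774,2))) (.node (.node (.leaf (19237628566826566961691127428831359803904719,362,1)) (.leaf (11151683663308779109551958074846861436346369,2423,2615))) (.leaf (16385058928451371590348317368256984865949318,1310,0)))) (.node (.node (.node (.leaf (13345199349649128747354819141149051839693320,184,2)) (.leaf (11152126136897702351734193062209078753230849,2356,2351))) (.leaf (22292407515994920615234800352420149930582258,1038,1))) (.node (.leaf (15577424042075681820585811622386675780428957,545,2)) (.leaf (18650025060473195302322838554470502995157234,1646,2))))) (.node (.node (.node (.node (.leaf (13339754831778393731939405147430143548310024,101,0)) (.leaf (11150500558234254277110220221044746263664291,2208,1))) (.leaf (16929022825164675633083497889684526381060588,892,0))) (.node (.leaf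 (12029472808154132241515104149516416150668781,453,1)) (.leaf (22265166405135961222493412341064003951265261,1467,2)))) (.node (.node (.node (.leaf (15130319152183613175972804653204399611766331,276,1)) (.leaf (11946255059368097173008455121635834959115436,2484,2487))) (.leaf (22243388333653021160831756366188370785732077,1166,2))) (.node (.leaf (18333504895212981283086499028017571107604353,659,1)) (.leaf (14642859907612223956578139177354000537051378,1834,2)))))) (.node (.node (.node (.node (.node (.leaf (18506682204124281343854274235395852345917914,66,0)) (.leaf (11150436914300771425773583012260815292170512,2149,1))) (.leaf (13249016634908002711069856986165809029170822,834,0))) (.node (.leaf (17909635796109124305240525156817993099806530,402,2)) (.leaf (16444182989728526421783844863917480832501382,1374,0)))) (.node (.node (.node (.leaf (21609294254362203242628469136708486532440067,223,2)) (.leaf (12267506409465322377140383656596462866620598,2387,131))) (.leaf (21055314806353794767932415204532175600153728,1097,2))) (.node (.leaf (16722041987830126181016414248453248050356406,599,2))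 (.leaf (13360849515188256887380324945552905341621107,1738,2))))) (.node (.node (.node (.node (.leaf (16959677156750578355551906542757585516553787,139,1)) (.leaf (11151017672846104695423210799141147006374397,2280,1))) (.leaf (13873802873074058233438565802999894304736115,966,0))) (.node (.leaf (20155926909956395259328535103619556554268926,497,1)) (.leaf (20871040962395413794824338720521642166350006,1565,0)))) (.node (.node (.node (.leaf (21104770096831651355258508264782366628291924,316,1)) (.leaf (11152196940095941815272092460409332502110209,2547,2547))) (.leaf (15718534990186544685193586813049016267985336,1237,1))) (.node (.leaf (20096481422378905845155160401317073429840346,725,1)) (.leaf (11576065960165054153367261467186445347037700,1980,1)))))))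

noncomputable def sel0_0001 : Tr (ℕ × ℕ × ℕ) := .node sel0_00010 sel0_00011

noncomputable def sel0_000 : Tr (ℕ × ℕ × ℕ) := .node sel0_0000 sel0_0001

noncomputable def sel0_00100 : Tr (ℕ × ℕ × ℕ) :=
  .node (.node (.node (.node (.node (.node (.node (.leaf (18742047339783454967088865205013831930017138,2,1)) (.leaf (11152111368727612320531599106035901448586138,2050,0))) (.leaf (21582390592088969298167001457973528896692478,733,2))) (.node (.node (.leaf (14178532256502586534661379162782964507320864,323,1)) (.leaf (15132931346814206417216255502124741193057000,2050,2563))) (.leaf (15986467007486096133618561348672182836666625,1255,2)))) (.node (.node (.node (.leaf (12300173923300948464336100133437222524666384,152,1)) (.leaf (11151155711681106896004437058066893747397135,2300,1))) (.leaf (11768154471864135817239550493770422686671090,986,2))) (.node (.leaf (21110214614702386370673922258501274919675220,504,2)) (.leaf (17139657682007019988807106131701934861640173,1577,0))))) (.node (.node (.node (.node (.leaf (14788481642386257440359490971716295197135516,72,1))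 (.leaf (11151203967254574887213010011041638156075392,2161,0))) (.leaf (15747284451627965331141009804794499376087962,848,2))) (.node (.leaf (13323426430968214095607007142406116618831151,416,0)) (.leaf (15094070163649195241935967233116130958983893,1388,2)))) (.node (.node (.node (.leaf (22198082353615121502532460536095144136417410,232,2)) (.leaf (12343801426058282959089489975041343649439958,2,2435))) (.leaf (22007524150748989577112926097639156565947960,1109,1))) (.node (.leaf (16466726752678752636672604960356626771314004,606,2)) (.leaf (16597171968244863426009477012503062956228928,1768,0)))))) (.node (.node (.node (.node (.node (.leaf (15360348814283295254177484082785215536091295,38,0)) (.leaf (11151393566247722950964969957111598619140612,2102,1))) (.leaf (17282263921934429085050517557328729671529600,782,0))) (.node (.node (.leaf (18114232708430764478548287459028947285532926,368,1)) (.leaf (11152491580589759599157921506807706277650433,2624,2622))) (.leaf (13372391526165434920342385924848275997782508,1322,2)))) (.node (.node (.node (.leaf (20272444688156172596953908883557504913622662,191,2))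 (.leaf (20576149289304704586466502213524092203410426,0,534))) (.leaf (12348169356241942021009265820845482889453571,1046,1))) (.node (.leaf (14194865810114791580907621143939689381470752,554,1)) (.leaf (15812896448575815576614062031453419368411295,1661,2))))) (.node (.node (.node (.node (.leaf (16797701917687918827795451758630290401002497,107,1)) (.leaf (11150957666070675792706647564126934654351007,2222,1))) (.leaf (13161090997959829844959538247328590233670001,909,1))) (.node (.leaf (12234517704019185602610364422491760397500936,461,1)) (.leaf (21295525944405976099935953706394068791390367,1480,1)))) (.node (.node (.node (.leaf (19018780335579411858387046274422908885360854,286,2)) (.leaf (12054447222875448604689996993340499062931552,2325,2499))) (.leaf (19699502426175587715988598157669023084762832,1181,1))) (.node (.leaf (14038573828025046274252128563689565881628557,671,2)) (.leaf (20438891619488721666690302040793247573792521,1851,0))))))) (.node (.node (.node (.node (.node (.node (.leaf (11490437085803404180075426972939414983583052,20,1)) (.leaf (11151380320373917963691198655069954498208288,2075,1)))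 (.leaf (16764155850998307389567789352261705302734606,757,0))) (.node (.node (.leaf (14129531595665971395922653219312789884871200,346,1)) (.leaf (11150415214413025779120577507177580665511937,2532,2595))) (.leaf (11892693853570462401847654721528992691299612,1286,0)))) (.node (.node (.node (.leaf (11359083108215973761667459507936525052192084,174,1)) (.leaf (12403267185242629110065880011612596509605889,0,6))) (.leaf (11239501437158402627666307307570454606442655,1021,2))) (.node (.leaf (22090425579698475402057397069717703786292130,526,0)) (.leaf (14708194122061044141563107101980900033650930,1622,2))))) (.node (.node (.node (.node (.leaf (17384975935389924525970380006961720098735098,91,1)) (.leaf (11151158362251650324189054944813237364655611,2189,0))) (.leaf (17658390284656386597301450240713418182665556,874,2))) (.node (.leaf (14815704231739932517436560940310836654051996,439,1)) (.leaf (16034863132123081362312076088292521120429056,1436,1)))) (.node (.node (.node (.leaf (22105913660654118158675898529929038816285340,257,1)) (.leaf (18081291903161168615403436241475221723111520,0,2467)))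 (.leaf (13220072307382674696634740235321174273308216,1140,1))) (.node (.leaf (15529567565784262184688849344519343379138468,639,1)) (.leaf (15290710945162782212330987142508518712386064,1803,1)))))) (.node (.node (.node (.node (.node (.leaf (12871606207913540388900790736325770764206554,56,0)) (.leaf (11150678327686623355316203569963206906057569,2129,1))) (.leaf (19717103921507556839674759210544876727141716,812,2))) (.node (.leaf (15320876113663260437825306391369409984733187,388,1)) (.leaf (15391747745778143381366066611436217629410663,1346,0)))) (.node (.node (.node (.leaf (14827569091531204475205792516515643783434959,212,1)) (.leaf (11152124854395670368983457207290975261249537,2353,2399))) (.leaf (17897491869117874026196285962460655435830273,1076,2))) (.node (.leaf (14696115361125684961932857655742580102452225,581,0)) (.leaf (12908954531917250607900963466883517156807539,1707,2))))) (.node (.node (.node (.node (.leaf (18011829316612921150715992715662440716891264,126,1)) (.leaf (11151272745291289066212144475009667154805171,2263,1))) (.leaf (19852074695707957078562496889097069718806785,952,0)))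 (.node (.leaf (13138629675394140838309855166149099397693968,485,2)) (.leaf (13791301579817354048305944932683624998576392,1541,2)))) (.node (.node (.node (.leaf (15174557354216093926933921030702237744480776,305,2)) (.leaf (11151053169196525866870451833606389104648193,2531,2529))) (.leaf (13477109189865072029544823030944071196549374,1216,1))) (.node (.leaf (15931417292579116069419210207633263584146432,702,1)) (.leaf (16073093060676596247779165161029682454476039,1924,1)))))))

noncomputable def sel0_00101 : Tr (ℕ × ℕ × ℕ) :=
  .node (.node (.node (.node (.node (.node (.node (.leaf (14031530606194683366437750136050059184554512,10,2)) (.leaf (11151736885735707842011140272122392236524545,2062,1))) (.leaf (18855149821482375622073088117545238454916213,746,1))) (.node (.node (.leaf (14440225294129077648972519144289714292314271,334,1)) (.leaf (11152197650466951214474341745027806725672961,2542,2579))) (.leaf (15884274812975638544543386635334085403951848,1273,1)))) (.node (.node (.node (.leaf (18674869139127448018599273343336594407872099,164,0)) (.leaf (20112333671563271419502707697324770310209632,2323,6)))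 (.leaf (13662442453112139047867703700504406445261952,1004,2))) (.node (.leaf (18789689141713012010908252729398404066060001,513,0)) (.leaf (13078016606505541693839925328847852415164598,1608,1))))) (.node (.node (.node (.node (.leaf (16677188612194372521966560823503642218906618,81,2)) (.leaf (11150536540340794508894182362095452893266790,2176,0))) (.leaf (11800803057583261594067716413322267912570349,860,1))) (.node (.leaf (12719963946970005876440990963338836460566510,430,1)) (.leaf (12676201803292606043610278871132315161261184,1415,0)))) (.node (.node (.node (.leaf (19215542201030171635986735527367357428643107,243,0)) (.leaf (11152937063974818940477019759925248749654017,2445,2440))) (.leaf (17766469533911331678086221905471680628670984,1121,2))) (.node (.leaf (16144166825170559661666201183784651811570547,621,0)) (.leaf (20849262890912473733162682745646009000816822,1786,0)))))) (.node (.node (.node (.node (.node (.leaf (18475753513956428958051580914298752828351820,46,2)) (.leaf (11152939979126257338841806429758958888034306,2116,0))) (.leaf (14940539954534939567905562250496194350429752,800,1)))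 (.node (.node (.leaf (20217511432165630099154983230413251550438306,378,0)) (.leaf (11151158813055137671712181474998097161551873,2333,2643))) (.leaf (21768203414181003011022257708982766816567812,1336,1)))) (.node (.node (.node (.leaf (19056820600883102594864866338602412131336720,201,2)) (.leaf (11157964046655804085216760749971455391093455,2050,2))) (.leaf (20379588392969623663812443075981337644299264,1061,2))) (.node (.leaf (15457150041392357817227183947739260116911448,571,0)) (.leaf (15164848895968750442336349151461938746966741,1685,1))))) (.node (.node (.node (.node (.leaf (20756518951955410670792042881009899741836658,117,0)) (.leaf (11152470136620838515327910246832897345523730,2244,0))) (.leaf (19801923393237806246754082102230234805457336,933,1))) (.node (.leaf (15468641232254142742053265740245025754038746,474,1)) (.leaf (12768177768092375269682988532961572384863389,1501,1)))) (.node (.node (.node (.leaf (21410348646282602266959723528790321883948364,295,1)) (.leaf (13830135009075709010923701546213960010073290,2487,2515))) (.leaf (13492173253487842011710436840900636550112993,1199,2)))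 (.node (.leaf (13905394367067484172958046326174254081770855,689,0)) (.leaf (20619905966907317688982532261414939999197143,1880,1))))))) (.node (.node (.node (.node (.node (.node (.leaf (21865869652568943979201364749310943174795276,30,2)) (.leaf (11151735138273402444730934926281620088299777,2088,0))) (.leaf (17892047351247139010780871968741747144446977,773,0))) (.node (.node (.leaf (17004593596775849413581183519948805473567745,359,1)) (.leaf (11151432442863508374627335900525612621292838,2599,2611))) (.leaf (16394680078639433358832303970291690215102160,1305,2)))) (.node (.node (.node (.leaf (18958890639001326688817492343514917680144598,182,1)) (.leaf (11151158256088837922995356808287129283997697,2353,2351))) (.leaf (12104527127583756035759915838878057288880287,1033,2))) (.node (.leaf (16682005581347014291678804821096482830557187,537,2)) (.leaf (14974944840485924356035134840861100069049250,1642,1))))) (.node (.node (.node (.node (.leaf (19960260928017369229994076566107850343982237,99,1)) (.leaf (11152995826825611082800767588982895543010501,2205,1))) (.leaf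 (21816841242715022623919040207128406611992579,890,0))) (.node (.leaf (15441418642900467664976195771650484297122266,451,2)) (.leaf (16118324250581413134155331475178147501924594,1462,1)))) (.node (.node (.node (.leaf (17778089617412126081090429461947292062057370,274,1)) (.leaf (11151155740839023828076029380980762705457871,0,2059))) (.leaf (18610344734821022140898681647930157249254991,1164,1))) (.node (.leaf (20653672802959572074609177991147771956987714,655,2)) (.leaf (20337215470207711369089337414002845916612444,1829,1)))))) (.node (.node (.node (.node (.node (.leaf (20778297023438350732453698855885532907369842,64,0)) (.leaf (11151522844345924886607211242588113360573265,2145,1))) (.leaf (16807884636765466399697559015715786002540257,829,0))) (.node (.leaf (15426720264926913717261401675439519505986732,400,1)) (.leaf (21320827707008575168751905771327346945820007,1360,2)))) (.node (.node (.node (.leaf (18916121906818632287731706618920688575751452,221,1)) (.leaf (11150376667152157146899766850343754456924161,2383,2399))) (.leaf (16345208449559888769312548789421614714357543,1095,0)))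 (.node (.leaf (19177738846163179789564287453905425887875663,596,1)) (.leaf (15296155463033517227746401136227427003769360,1733,1))))) (.node (.node (.node (.node (.leaf (19812604521015726433228839251465530201400891,136,1)) (.leaf (11152371912060778890872440916025602855502229,2277,1))) (.leaf (20348847339272998877676283036129909558661376,964,0))) (.node (.leaf (16785933922481247451229445327137338468267790,494,0)) (.leaf (18124971524426340115139354710257223735891721,1562,0)))) (.node (.node (.node (.leaf (13410533564097948932339787065775951336292872,313,2)) (.leaf (11152196302741486454214518440845819900862465,2530,2547))) (.leaf (13472353731460086741678120275907735622420290,1232,1))) (.node (.leaf (14264958573821108579850593899760785277542654,716,2)) (.leaf (16755348868112588201302805966515590721445890,1969,0)))))))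

noncomputable def sel0_0010 : Tr (ℕ × ℕ × ℕ) := .node sel0_00100 sel0_00101

noncomputable def sel0_00110 : Tr (ℕ × ℕ × ℕ) :=
  .node (.node (.node (.node (.node (.node (.node (.leaf (16171956845545296533543301314869346103985050,7,0)) (.leaf (11151138560761275517629968721150750687085018,2056,0))) (.leaf (21789949951231734750077476351104028186609066,742,0))) (.node (.node (.leaf (21495964274770447252977786720995708126470688,328,1)) (.leaf (11151158256088230561081987248125010719547393,2550,2569))) (.leaf (12529526941525945059127645538893367206254022,1265,1)))) (.node (.node (.node (.leaf (14956094580320092682679556854199334287500859,159,1)) (.leaf (11152442287186948359883073631519582819705115,2310,1))) (.leaf (21061927955703522815686919729185271555556845,993,1))) (.node (.leaf (20733382021565412514211048487048664089896673,509,2)) (.leaf (14766540432412303958508916343540157195837670,1596,1))))) (.node (.node (.node (.node (.leaf (13008691962648252577187770964183628810290074,77,1)) (.leaf (11151662231222236381284227896610491199489335,2168,1))) (.leaf (11550355235529450884958672702252486508938733,854,1)))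 (.node (.leaf (18055859894563613352503554865239891364001059,424,2)) (.leaf (16067538038152402983126435109757291853809447,1404,0)))) (.node (.node (.node (.leaf (21334237536801449001535927206011308379899714,238,0)) (.leaf (11151544289119264458431740463498161625034753,2423,2440))) (.leaf (17608932243400651359456657375001476358148589,1115,1))) (.node (.leaf (12785091861425632962686665053741593711792287,614,1)) (.leaf (18228530296724211914224248964124344985190944,1776,0)))))) (.node (.node (.node (.node (.node (.leaf (17599082895350184868011585169283927767921836,42,0)) (.leaf (11152063903658609156671774565051430713233777,2110,1))) (.leaf (19993052538577033873409748421643088754128440,788,1))) (.node (.node (.leaf (12332912390316812928258661987603527066673366,372,1)) (.leaf (14598972874489393720139033205300667903042266,2632,2386))) (.leaf (13607997274404788893713563763315323531428992,1327,1)))) (.node (.node (.node (.leaf (16356695970158382579146918267398718798955521,195,1)) (.leaf (11152491708668447448853439236826237193420801,2360,2376))) (.leaf (11313871941763011086097134727650050374223192,1054,2)))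 (.node (.leaf (16111692665975306885453288550047845686707201,565,2)) (.leaf (17445314817176572147164049391489367051067894,1668,1))))) (.node (.node (.node (.node (.leaf (14983316005677689482069638780797095918968835,113,1)) (.leaf (11151075008971931681996355639699539538264084,2231,0))) (.leaf (20951676105029578273476757637580673103020915,922,0))) (.node (.leaf (14270403091691843595266007893479693568925950,467,1)) (.leaf (12245486492896422161505811519083671302735655,1493,0)))) (.node (.node (.node (.leaf (12539046408798108693164357890866856909037822,290,2)) (.leaf (17430048609657239841216395470135864353837647,2492,2507))) (.leaf (15861897109412430715352787974923593990860959,1192,1))) (.node (.leaf (17526604863491636446276961980448157410084772,678,0)) (.leaf (12779041601119397058221106410227630894346535,1867,1))))))) (.node (.node (.node (.node (.node (.node (.leaf (11738665186372817710595985357643818162700384,24,1)) (.leaf (11151157034392328809262287005290006147552373,2081,1))) (.leaf (20177704981439335320990191078495189719802110,764,1))) (.node (.node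 (.leaf (18366863489565273016652088768255620464084308,351,0)) (.leaf (21806301793996713116323405244901632835076616,2050,2603))) (.leaf (19077686344265748817601340359137130895902055,1297,0)))) (.node (.node (.node (.leaf (11685802174482531816061922960210477618734364,178,1)) (.leaf (17950623474263528245433500392221422729912416,2,2347))) (.leaf (11212189789488610249649596721331181116835148,1026,0))) (.node (.leaf (19711659403636821824259345216825968435758420,530,0)) (.leaf (17076350647646185057568643186882618510424035,1630,2))))) (.node (.node (.node (.node (.leaf (11751136388931352001046890884837377115333916,95,1)) (.leaf (11152923466991244734697658501709144733410183,2196,1))) (.leaf (12916135570964133566535180527768157501681732,884,0))) (.node (.leaf (17625421503717803779191154424143484704499258,443,2)) (.leaf (21925839267063279570111892351302613382235943,1444,0)))) (.node (.node (.node (.leaf (16252577045423652389099735763178777383044399,268,0)) (.leaf (11156138792278738495360808552273042239488012,0,2475))) (.leaf (16851413184057893015259808622508707543172090,1152,1)))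 (.node (.leaf (13106524715792191970935384517381325148780526,645,2)) (.leaf (17162484615027164860628189337797145923683329,1821,2)))))) (.node (.node (.node (.node (.node (.leaf (11946636109332440588712910021029716838764703,59,2)) (.leaf (11151889389699125881577597184233421283645399,2139,1))) (.leaf (17303363841673484954360792574795379675349512,819,2))) (.node (.leaf (19107429769469863214094364572600032063399348,394,2)) (.leaf (18715359274922015487307806479097402491756786,1355,2)))) (.node (.node (.node (.leaf (21719164439010715943100072061426791629117007,217,0)) (.leaf (11151156849319247605262029078707779529641985,2361,2399))) (.leaf (15099514681519930257351381226835039250367189,1087,1))) (.node (.leaf (20717156459642697602512355685272618647536090,586,0)) (.leaf (16123768768452148149570745468897055793307890,1716,2))))) (.node (.node (.node (.node (.leaf (18306307716617424061612598576309672767632675,131,2)) (.leaf (11151735079207483083183931632469761534414853,2271,0))) (.leaf (14477674855880027813645125497859514235439012,958,0))) (.node (.leaf (17150997254311262505416189799387687791477210,490,1))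 (.leaf (12049777665345358970083325600130948727735498,1550,2)))) (.node (.node (.node (.leaf (12414580158377838159489871893387151437422806,309,1)) (.leaf (11152942114599608713645267315174324694767529,2533,2539))) (.leaf (16199841826059029280778635263416735946688225,1224,1))) (.node (.leaf (13656997935241404032452289706785498153878656,710,1)) (.leaf (16269657742329331624807026243396078246363712,1942,0)))))))

noncomputable def sel0_00111 : Tr (ℕ × ℕ × ℕ) :=
  .node (.node (.node (.node (.node (.node (.node (.leaf (21932664912840399592321054319690964038636239,15,2)) (.leaf (11152979356535488104082711892668171448481677,2069,1))) (.leaf (15185544776606975232084056351001050062574709,751,1))) (.node (.node (.leaf (12446950847128708893525997785530394268934274,339,1)) (.leaf (14994988016089407826970700294824822795727567,2,2430))) (.leaf (13889060813455279126711804345017529207620967,1280,2)))) (.node (.node (.node (.leaf (19938807095280365902259696115343780346779215,169,2)) (.leaf (11152492014843123146208226372388969909329921,2331,2063))) (.leaf (13591663720792583847467321782158598657279104,1009,1)))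 (.node (.leaf (20702561323087050262955904345332244004119884,521,0)) (.leaf (17691385677456050455274059052496542068900992,1613,1))))) (.node (.node (.node (.node (.leaf (15317933148930120017111464557331943826040140,87,1)) (.leaf (11152296441019245720527324384697155859936549,2181,1))) (.leaf (19764836640624407900973566082295922581362384,866,1))) (.node (.leaf (12059611073089064481679312195740123271587387,435,1)) (.leaf (19388586107493863706603792038478316118222561,1423,2)))) (.node (.node (.node (.leaf (13585910722690165696448666022016184138315043,251,2)) (.leaf (15061553259166584546269005451031826954909042,2050,13))) (.leaf (15855418692229104340699200826162561809307215,1129,0))) (.node (.leaf (21029121976295455171026423287440964182390665,629,0)) (.leaf (15160105131987228684586505806875461346140162,1792,0)))))) (.node (.node (.node (.node (.node (.leaf (14613370622120905849934574041227396013080672,51,1)) (.leaf (11152239225237044081176235780626527997477589,2123,1))) (.leaf (19361363518140188629526722069883774661306081,805,0))) (.node (.node (.leaf (20211977942971271062296784222273462827049142,382,1))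 (.leaf (11151945267931030753152896421480445704675329,2623,2650))) (.leaf (17935231298751343835964368798116957887235498,1341,0)))) (.node (.node (.node (.leaf (19227097313141405452287499775843130502645076,207,0)) (.leaf (15061109289889898119433295844419240232552430,0,2395))) (.leaf (15773454319996945622629460339782149796643336,1068,1))) (.node (.leaf (15397854541247084558708638823180251028583424,577,1)) (.leaf (19899715477941010401292531401961763292959603,1691,1))))) (.node (.node (.node (.node (.leaf (18544030693138389563750390672963118483644419,121,2)) (.leaf (11151148018915712492782627082457341353046623,2250,0))) (.leaf (16483239651051137932732347495705022676521216,944,2))) (.node (.leaf (11815965407506861807178854978440093960688641,479,0)) (.leaf (13269807214864520040438911466247958368069176,1515,1)))) (.node (.node (.node (.leaf (11691246692353266831477336953929385910117660,300,2)) (.leaf (11152256282259576974568792139601724548841946,1498,2523))) (.leaf (17849146345318893238288462828180027624837612,1206,2))) (.node (.leaf (12024028290283397226099690155797507859285485,696,2))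 (.leaf (11990345202723271794495796326648048726450767,1906,1))))))) (.node (.node (.node (.node (.node (.node (.leaf (18927071911545226781398907539404313712353510,34,1)) (.leaf (11151734048708923076775660824376242777559533,2094,1))) (.leaf (11544117067538909681850854110603268073091140,777,0))) (.node (.node (.leaf (21713719921139980927684658067707883337733711,364,2)) (.leaf (11151027913999247793849448021098109654278145,2619,2619))) (.leaf (17342716911936237607405753648821917214426444,1313,2)))) (.node (.node (.node (.leaf (13176419295656343269476985335862894806811144,187,0)) (.leaf (11255408810900745412964285388562988196483791,2363,2053))) (.leaf (17291952563830058012221699831011354313082200,1040,0))) (.node (.leaf (14571546400213419113370671743905353385960354,549,0)) (.leaf (12740225136344789211313625679214179249538985,1651,2))))) (.node (.node (.node (.node (.leaf (12143202458541978216653245530851374997004470,103,1)) (.leaf (11151027911263732977665786574476494766606260,2212,1))) (.leaf (16351814625613160168883411714527649046929662,894,1))) (.node (.leaf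 (17553610942254884624802818441503407553312526,456,0)) (.leaf (19143907486153053651609253032383169804817999,1470,1)))) (.node (.node (.node (.leaf (18816426603766558419400037180028209983837795,279,0)) (.leaf (11157635503134558863347088228697399728553996,0,2))) (.leaf (21663900414030275390799136787294712293868888,1171,2))) (.node (.leaf (21196199272051046386295642059947505959077167,664,2)) (.leaf (16488551465791394182403483048063911315988722,1841,1)))))) (.node (.node (.node (.node (.node (.leaf (17946495102164100965731024791035541220291712,68,1)) (.leaf (11152489295004254099955502821840016038405818,2154,1))) (.leaf (15693604882010836080775030123936615931487564,839,0))) (.node (.leaf (22144424381212317560522614090769088845051886,406,2)) (.leaf (12681518890798152845519960253996235491694288,1377,1)))) (.node (.node (.node (.leaf (15633715518456295278114263921363658189669716,226,0)) (.leaf (11221781705717887075721739117157534252844026,2050,2427))) (.leaf (19998497056447768888825162415361997045511736,1100,2))) (.node (.leaf (16330036554130220107221755739652015881396478,601,1))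 (.leaf (18250790036530600899204464107112005507179024,1745,0))))) (.node (.node (.node (.node (.leaf (22040579446205297973690930605302139319685788,142,1)) (.leaf (11151030732382802738282819707877395812766263,2285,1))) (.leaf (18464976618924095877612752516146638820902722,970,0))) (.node (.leaf (18431511822300758786290237348798395559093588,499,2)) (.leaf (17722069475618124230039405334805109332362584,1568,1)))) (.node (.node (.node (.leaf (16221235315046128784241111840734565675099042,318,2)) (.leaf (11150457955758530939840890039491967567536129,2552,2529))) (.leaf (20787507043711848857112926861480779426111752,1242,1))) (.node (.leaf (18725713509419048823860548671069355258474655,729,1)) (.leaf (20598127895424377627320876286539306833663959,2005,1)))))))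

noncomputable def sel0_0011 : Tr (ℕ × ℕ × ℕ) := .node sel0_00110 sel0_00111

noncomputable def sel0_001 : Tr (ℕ × ℕ × ℕ) := .node sel0_0010 sel0_0011

noncomputable def sel0_00 : Tr (ℕ × ℕ × ℕ) := .node sel0_000 sel0_001

noncomputable def sel0_01000 : Tr (ℕ × ℕ × ℕ) :=
  .node (.node (.node (.node (.node (.node (.node (.leaf (11157178412777514698937609335529149864878081,2,0)) (.leaf (11152519528785069069801346756252547099710159,1,1))) (.leaf (14010761033362525474112030110494774920540319,732,1))) (.node (.node (.leaf (19047427890383605576670050254784123423597900,322,0)) (.leaf (12725154519704812357439523270858336028697594,0,2561))) (.leaf (15968982812240355394302630524118797671616952,1252,1)))) (.node (.node (.node (.leaf (13030470034131192638849426939059261975823258,149,1)) (.leaf (11152313439076022312949367426084726543102464,2297,1))) (.leaf (11450136507088928879699482695442770366095853,986,0))) (.node (.leaf (16988257384705126451822149011402970774819841,504,0)) (.leaf (21566756252963807440651939941383160035385860,1575,1))))) (.node (.node (.node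 (.node (.leaf (15247154416610564816711082638986136038057292,71,2)) (.leaf (11151343516344056994514993397060732888922074,2159,1))) (.leaf (16237291059994116718528269239496245600584602,847,2))) (.node (.leaf (13628330068045365408840542477709820779644836,415,0)) (.leaf (22079036756264301820313482578082362089920471,1386,1)))) (.node (.node (.node (.leaf (18478696478689569378765422748336218987044867,230,2)) (.leaf (11222121870981846895691184781481844996571396,2050,2433))) (.leaf (13421502352975185491235234162367862241527591,1108,0))) (.node (.leaf (16651263255510570980616032330107440262373558,605,1)) (.leaf (16051314989193656186117509186154049288942855,1767,1)))))) (.node (.node (.node (.node (.node (.leaf (14733648352837415367999875147471876649918594,37,1)) (.leaf (11150584496639866751661246082884959797399992,2100,1))) (.leaf (19797049895230573318454844647762390264329784,781,1))) (.node (.node (.leaf (12442590158514698958804468087138730121012508,367,2)) (.leaf (11151027929589269137731946958952271320195073,2623,2597))) (.leaf (18654934777099493623460166752723547470491807,1317,2))))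 (.node (.node (.node (.leaf (19411070110110146723245495409652984325263519,190,1)) (.leaf (22220441664351729421041644628842427808879773,2365,2053))) (.leaf (18849705303611640606657674123826330163532917,1044,2))) (.node (.leaf (17244152296839283977142619601296371631846528,553,1)) (.leaf (13063325865538515490890354585760000187155788,1659,0))))) (.node (.node (.node (.node (.leaf (20636087016556104695662317330460635826226177,106,1)) (.leaf (11150399226662110560696277282208062315030078,2221,0))) (.leaf (14310120424087529388103164069937039778193662,906,2))) (.node (.leaf (13764396812858356030252193472609672977379820,460,0)) (.leaf (20457200755789438286304367861701954091615360,1477,2)))) (.node (.node (.node (.leaf (22170562096638177697073885115137638646347534,286,0)) (.leaf (19808520213955476237802610642902176873378944,2494,2497))) (.leaf (11712896960059798025789084322186175620417158,1177,0))) (.node (.leaf (20327069267790058816014627061254276393128192,671,0)) (.leaf (16056047007173209512922723256819172169074008,1847,0))))))) (.node (.node (.node (.node (.node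 (.node (.leaf (18541087728405249143036548838925652324951372,19,2)) (.leaf (11150694351760679762233789492545242606297342,2074,1))) (.leaf (11962390197131846106158972069407341563663477,756,1))) (.node (.node (.leaf (21881520147898954013399168822653901101604867,345,2)) (.leaf (11151945408447566969038293782610787089473537,2077,2593))) (.leaf (21544978181480867378990283966507526869852676,1284,1)))) (.node (.node (.node (.leaf (12533601890927373677748943897147948617654526,173,1)) (.leaf (11217634606584444953172692433430173113606374,2,14))) (.leaf (19929082522328141791009210470967849827435648,1020,1))) (.node (.leaf (21186635613156462843098674112378927416664994,525,0)) (.leaf (16513538126872493216034496854027481352561133,1622,0))))) (.node (.node (.node (.node (.leaf (16399518200786886735780447143839319358358522,90,1)) (.leaf (11150545885825291081308854059482133772632922,2186,1))) (.leaf (14462001092684079299070055925829523572970497,870,2))) (.node (.leaf (22051468481946768004521758592739955902452380,438,2)) (.leaf (11570085802317102683262839344423195323070222,1434,2))))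 (.node (.node (.node (.leaf (19986829092879246926522087050470595525666363,256,1)) (.leaf (18081247838121991531127189248852693541512763,2,2465))) (.leaf (15415248921913560246150884828523202132747604,1136,1))) (.node (.leaf (15489826184747464000582087017775243948643939,636,1)) (.leaf (12774766384540255040956417841204901608104190,1801,1)))))) (.node (.node (.node (.node (.node (.leaf (13710061960006732762874545769037647637234138,55,0)) (.leaf (11150657448349305383002706837685013630289276,2128,0))) (.leaf (22280894586843591956269250874418778363339006,811,1))) (.node (.leaf (14663450912359792784953166220818240178750465,385,1)) (.leaf (18631625480660417677054789197847249247205134,1344,1)))) (.node (.node (.node (.leaf (14887458788109289644775346447423634988651215,210,2)) (.leaf (11151156923940255563234474532892163459649537,2351,2399))) (.leaf (17059036117024681652222530929748778562802689,1075,2))) (.node (.leaf (17728005822753447252673580899974909104419308,580,0)) (.leaf (18893838639462381847217046813020872758973441,1705,0))))) (.node (.node (.node (.node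 (.leaf (22274886895647344335701929439852031532598273,124,1)) (.leaf (11152988807160442551798317362802102368748107,2261,1))) (.leaf (17521429047422259731325175514258738127044868,950,1))) (.node (.leaf (14255566615447001962667704166395736068105556,484,1)) (.leaf (20663005314635133650397769857170117117847244,1535,0)))) (.node (.node (.node (.leaf (13274742622162516223695205009121806682276368,304,0)) (.leaf (11150700161572238215078479661952991496249345,2529,2529))) (.leaf (14488869775728852398006997686688889215926792,1215,1))) (.node (.leaf (17559055460125619640218232435222315844695822,700,2)) (.leaf (14520531898997681351613949197868328630407298,1918,2)))))))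

noncomputable def sel0_01001 : Tr (ℕ × ℕ × ℕ) :=
  .node (.node (.node (.node (.node (.node (.node (.leaf (17581006618506167493458161310944927009481885,10,0)) (.leaf (11151058647742917534942979672429010412225032,2061,0))) (.leaf (21518307103182151129883402297396432289670001,745,1))) (.node (.node (.leaf (16362140488029117594562332261117627090338817,332,2)) (.leaf (11151945395959974090434043220990809535414273,2360,2333))) (.leaf (12660898008975736477535114941478920326264713,1271,0)))) (.node (.node (.node (.leaf (16404962718657621751195861137558227649741818,162,2)) (.leaf (18742177440589680558888454000410705288024783,1,4))) (.leaf (18103680334096728973337904707960122982278301,1003,1))) (.node (.leaf (17125513358871333686844620514028512494077574,512,1)) (.leaf (15606135332964539551170499458154666469098624,1602,1))))) (.node (.node (.node (.node (.leaf (17109076286984033480624325734582181543425196,80,0)) (.leaf (11152979438127500914553853432617993524708745,2174,1))) (.leaf (17259879653038459830780224675046886681670656,858,1))) (.node (.leaf (16230798973940712327438079788303144217511215,429,0))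 (.leaf (22012968668619724592528340091358064857331256,1412,2)))) (.node (.node (.node (.leaf (17904191278238389289825111163099084808423234,242,0)) (.leaf (11150383274627828221303478933909619641155585,2444,2440))) (.leaf (13743979870784691615066311564123175921832428,1120,2))) (.node (.leaf (16024387432014389322527093321968669401138035,620,0)) (.leaf (19688505552897878612711803240542204260422176,1784,1)))))) (.node (.node (.node (.node (.node (.leaf (11744109704243552726011399351362726454083680,44,2)) (.leaf (11151904356840390074052339207286690808796937,2114,1))) (.leaf (19782437802932832657750939406836742760342860,798,2))) (.node (.node (.leaf (13824316922273810103911250588412981481423368,377,0)) (.leaf (11152994354156217693547406926073327398289409,2423,2360))) (.leaf (21784498653459536128085039986053691125716559,1335,2)))) (.node (.node (.node (.leaf (20940274144749672004768595435511342792975517,199,2)) (.leaf (12426128550479605927738473636260441632277402,1,14))) (.leaf (11984168268614786167820628044282974729196661,1060,1))) (.node (.leaf (12121643709775901813745037638218222965936847,569,2))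 (.leaf (12953273816091974165509630702541749182564135,1682,0))))) (.node (.node (.node (.node (.leaf (14892903305980024660190760441142543280034511,116,1)) (.leaf (11150694274063201903262272015744379498914677,2236,0))) (.leaf (12710120894337124557357028297210551527490280,928,1))) (.node (.leaf (15305547787946676973644624666274599368245776,472,2)) (.leaf (13264206742410071954734507516805006865264768,1499,1)))) (.node (.node (.node (.leaf (18605736394164279279583485147803460883359060,293,2)) (.leaf (17468129539490196574423361996727005984641154,2392,2513))) (.leaf (20896842505119046432368471378981865123755576,1198,1))) (.node (.leaf (16160020241621157127037697869957336429528367,685,0)) (.leaf (20331648503088432902479648804478090919330536,1877,1))))))) (.node (.node (.node (.node (.node (.node (.leaf (16014065827293981086496295497021005653869466,27,2)) (.leaf (11151543937706550525731568943545748613088115,2087,0))) (.leaf (19910923605773319565634905386268683442020606,771,2))) (.node (.node (.leaf (21224469429587390839047487486016240507683738,354,0)) (.leaf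 (19061578964827275095176357496294485909202754,2050,2609))) (.leaf (19148459897721521434229366410043273139733470,1303,0)))) (.node (.node (.node (.leaf (15506645309756126620185429704040867992446109,181,1)) (.leaf (11152125871830739358879817710335315517227009,2352,2332))) (.leaf (12266820515261357922393658204921442339873022,1031,2))) (.node (.leaf (18768019061919562083794145933903450332316122,536,2)) (.leaf (17962222458363276819368629864786056270115840,1637,2))))) (.node (.node (.node (.node (.leaf (13715506477877467778289959762756555928617434,98,2)) (.leaf (11152372128571699640685325698985592031175738,2204,0))) (.leaf (12987322412665823445219506500547089444513488,889,1))) (.node (.leaf (22176006614508912712489299108856546937730830,450,2)) (.leaf (20294187890021148625458949028834415280595702,1457,1)))) (.node (.node (.node (.leaf (19660326873730485808789206206458995148248675,272,2)) (.leaf (21936284176334069017880516115711459178414092,2481,2050))) (.leaf (15196632029870167475434107586174658551928399,1162,1))) (.node (.leaf (11849877643989570077255703088688432745543565,653,2))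 (.leaf (16491760055389553154372840879151848187027949,1828,0)))))) (.node (.node (.node (.node (.node (.leaf (20298526822321627625189870077603923097875584,63,1)) (.leaf (11152935987364790903089284129027976840386443,2144,0))) (.leaf (17989345014714964744842395652718885232715489,826,2))) (.node (.leaf (21807910591555395342676944659556329730246466,399,2)) (.leaf (19259792540490232713184887808226627107685869,1359,2)))) (.node (.node (.node (.leaf (14782552067523172817024113482940840764883464,220,0)) (.leaf (11150714543585424333956153468100217662496769,2381,2399))) (.leaf (15713661492179311756894349358581171726857784,1091,1))) (.node (.leaf (13818872404403075088495836594694073190040072,594,2)) (.leaf (17452080500723323637769846245305794072335266,1727,0))))) (.node (.node (.node (.node (.leaf (11603438688006273422342304646154944737907356,134,1)) (.leaf (11151003247650489752676667850549578261070338,2275,1))) (.leaf (20321624749919323800599213067535368101744896,962,2))) (.node (.leaf (20308809660650068463412061157635529856316416,493,1)) (.leaf (15801162191471061739118099876237491047970673,1558,0))))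 (.node (.node (.node (.leaf (11533307680079494254960707306941590376457556,312,1)) (.leaf (11150415651844396477674634801260828657487873,2526,2423))) (.leaf (12713291396795013242063324594688576296329453,1230,1))) (.node (.leaf (18000937708661839319089151843119912972112897,714,2)) (.leaf (11512231474698454551831834835635426749272994,1967,1)))))))

noncomputable def sel0_0100 : Tr (ℕ × ℕ × ℕ) := .node sel0_01000 sel0_01001

noncomputable def sel0_01010 : Tr (ℕ × ℕ × ℕ) :=
  .node (.node (.node (.node (.node (.node (.node (.leaf (14026086088323948351022336142331150893171216,6,1)) (.leaf (11152773736399926616161416606096510770099372,2055,0))) (.leaf (21170789859970261588681507805158357063083340,741,1))) (.node (.node (.leaf (19156318580821850251887117857497322714662228,327,0)) (.leaf (11150415137177634065590202436656449366007809,2529,2569))) (.leaf (15876386953569650095076480571817732636857955,1264,1)))) (.node (.node (.node (.leaf (20521905010948831980191399082602695720412730,157,2)) (.leaf (11152877072541978029880629162815459633938945,2307,1))) (.leaf (12729446588154115094104773094566206133880152,991,2)))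 (.node (.leaf (21241211119171750632006191073371668322144847,508,1)) (.leaf (12975650372431938006174828167956669849928705,1593,2))))) (.node (.node (.node (.node (.leaf (17604527413220919883426999163002836059305132,76,2)) (.leaf (11151942967622165286833322461731226995745983,2167,0))) (.leaf (18437670342009245385457374756671475108808173,853,2))) (.node (.leaf (19981384575008511911106673056751687234283067,418,2)) (.leaf (19790825120526310092984251527583597465293683,1401,1)))) (.node (.node (.node (.leaf (19101985251599128198678950578881123772016052,237,1)) (.leaf (11152936763215741857658389922289831879274497,2421,2440))) (.leaf (17675409663815570243801433879638249923790470,1114,2))) (.node (.leaf (14315564941958264403518578063655948069576958,613,1)) (.leaf (12948123491803616806756140757477068227716812,1775,0)))))) (.node (.node (.node (.node (.node (.leaf (20052332160423406918699013754220392127845987,41,0)) (.leaf (11150657561050654431747972917061896399130660,2107,1))) (.leaf (19573699715098854230727867824921198025254625,787,0))) (.node (.node (.leaf (11657495755872131658290968696288692018356354,371,1))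 (.leaf (16269586011633978603221414524630149282508804,2574,2))) (.leaf (11190411718005670187987940746455547951301964,1326,0)))) (.node (.node (.node (.leaf (20641531534426839711077731324179544117609473,194,2)) (.leaf (11151158214627314606211847959029060349120513,2351,2376))) (.leaf (13922390198277895381131446525356104063710208,1051,2))) (.node (.leaf (18158830999841093177700276854304077307105439,563,1)) (.leaf (12757263529636456996559450435351997728813351,1667,1))))) (.node (.node (.node (.node (.leaf (11226598674870528845433983114750374864494595,111,2)) (.leaf (11150459103040579389752351325146794447602911,2229,1))) (.leaf (18040088866367464491188565140407738434242273,916,1))) (.node (.leaf (18006382226532574334504565836838821263496193,464,0)) (.leaf (13366294033058991902795738939271813633004403,1491,1)))) (.node (.node (.node (.leaf (21490591448893108856984999422807273173377238,289,1)) (.leaf (16106247728879924290298470506923262833033346,2493,2505))) (.leaf (15588734077016352146676230231510685313884374,1189,1))) (.node (.leaf (14810259713869197502021146946591928362668700,676,2))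 (.leaf (16080193564628621745741491110351451537802121,1866,1))))))) (.node (.node (.node (.node (.node (.node (.leaf (11678775489794732541026431426735826957484128,22,2)) (.leaf (11150536405640960623634714916082801632724312,2080,0))) (.leaf (17713033185462335956593545839352413061181599,761,1))) (.node (.node (.leaf (11457193206829366274311082322268930282709174,350,1)) (.leaf (11156123036711938427898302340845137746282404,2050,2601))) (.leaf (21067372473574257831102333722904179846940141,1292,2)))) (.node (.node (.node (.leaf (12338356908187547943674075981322435358056662,177,1)) (.leaf (21338428439809781642526518654815335837132347,2345,14))) (.leaf (13377836044036169935757799918567184289165804,1025,0))) (.node (.leaf (14713014746521920528843799605136253340557566,529,1)) (.leaf (14637415389741488941162725183635092245668082,1627,1))))) (.node (.node (.node (.node (.leaf (12316578836704607882012420006446802192523478,94,1)) (.leaf (11151343478642141498614933675980789066380380,2194,1))) (.leaf (17810836785036967028933042064842850341397844,880,2))) (.node (.leaf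 (18702091728481123095676343311931135864788579,442,2)) (.leaf (16377875556784298861805032751735064462657319,1443,0)))) (.node (.node (.node (.leaf (11587105134394068376096062664998219863757468,267,1)) (.leaf (11151158333154707826669615635589839412502529,2473,2360))) (.leaf (14331898828644873770789496840645715784851686,1147,2))) (.node (.leaf (13542329168966167717522184555378274690303873,644,1)) (.leaf (12208625618149235371609998189536130472669343,1815,1)))))) (.node (.node (.node (.node (.node (.leaf (13863106699112839404170529501854322682819712,58,1)) (.leaf (11152713680996413337192678222068836434063996,2137,0))) (.leaf (19972358373741225278322021400388897104110876,818,1))) (.node (.leaf (15959053217565569137542125397341769904538483,394,0)) (.leaf (20166809618135688559777286639414944870752749,1355,0)))) (.node (.node (.node (.leaf (19596836645488852387308862218882433677194610,215,2)) (.leaf (11152935868458536570178372285923735015272449,2359,2399))) (.leaf (20751458504108387076415267989295396173002467,1082,0))) (.node (.leaf (17652945766785651581886036246994509891282260,584,1))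 (.leaf (12272258705569916207426995746997922364973549,1716,0))))) (.node (.node (.node (.node (.leaf (16634365996035288861384358613009755719782559,130,0)) (.leaf (11151260849746077560473944838188482076971437,2269,1))) (.leaf (15023238029806091910514790846921329946560385,956,1))) (.node (.leaf (21691444524013496340517453667873709004617486,489,2)) (.leaf (18452531059116717391739688407293350816229068,1550,0)))) (.node (.node (.node (.leaf (18964335156872061704232906337233825971527894,308,2)) (.leaf (22104746544595167923118130607125920873768507,2050,2537))) (.leaf (18071871976852803636834053926325071368136248,1223,1))) (.node (.leaf (21577310370200472055460777644138388411236872,707,2)) (.leaf (19753839767346698797696771165169103757021728,1940,1)))))))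

noncomputable def sel0_01011 : Tr (ℕ × ℕ × ℕ) :=
  .node (.node (.node (.node (.node (.node (.node (.leaf (12431762091758353390810013032746722092081382,14,2)) (.leaf (11152191429128043175881727746618009979626836,2066,1))) (.leaf (17504882957221535524473854392397759793918976,749,2))) (.node (.node (.leaf (12387061150550623723956443854622403063718018,337,2)) (.leaf (14390253303455435147225376227886621404067688,2585,2483))) (.leaf (15120726243528754961192683303807718301811418,1278,1)))) (.node (.node (.node (.leaf (17363197863906984464308724032086086933201914,168,1)) (.leaf (18478697642685647656452410790332998812493371,2329,4))) (.leaf (20537958178268780089962353190380899957790416,1008,1))) (.node (.leaf (21758220871253030476389507477403582390542590,519,1)) (.leaf (17751275374034135624843612983404533274117248,1611,2))))) (.node (.node (.node (.node (.leaf (11430547389225319010505873042031423778366796,85,2)) (.leaf (11150661354604997289935559990142043610072466,2179,1))) (.leaf (11370169866056042997636243156824253599641759,864,2))) (.node (.leaf (12075944626701269527925554176896848145737275,433,2))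 (.leaf (17466015989722458510602476209609757044626291,1421,1)))) (.node (.node (.node (.leaf (13513984556443939635146496922567906817246511,248,0)) (.leaf (14647900363283895508728559326786044382962247,2425,2456))) (.leaf (11564641284446367667847425350704287031686926,1128,0))) (.node (.leaf (15105709134479626883765079189202437896676788,626,1)) (.leaf (20444508186033977223908947163737159400174063,1791,1)))))) (.node (.node (.node (.node (.node (.leaf (14553480925542820680365020110319404807864416,49,2)) (.leaf (11150463145611783788986209636966993097671646,2121,0))) (.leaf (17680854181686305259216847873357158215173766,803,1))) (.node (.node (.leaf (15655493589939235339775919896239291355202900,381,0)) (.leaf (11151945096773022498197144604418082389106689,2649,2630))) (.leaf (22227073301546100430249832427793250433982706,1340,1)))) (.node (.node (.node (.leaf (11435415135346426212649426347393297117175990,206,1)) (.leaf (15060616083633994208014570799146339137348602,0,2393))) (.leaf (15833344016575030792199014270690141001859592,1065,2))) (.node (.leaf (21735497992622920989346314042583516503266895,575,2))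 (.leaf (17211987615365116238532010789771456307086037,1689,1))))) (.node (.node (.node (.node (.leaf (18501237686253546328438860241676944054534618,120,2)) (.leaf (11152449073111013019822182212949482062194490,2248,1))) (.leaf (13536884651095432702106770561659366398920577,938,2))) (.node (.leaf (11935744800663032146317962840256076371121153,478,0)) (.leaf (16309014851785220173848126698809096070730687,1511,1)))) (.node (.node (.node (.leaf (19035113889191616904633288255579633759510742,299,1)) (.leaf (12327468444816801359905073789594511723902062,2480,2521))) (.leaf (21838619314197962685580696182004039777525763,1205,0))) (.node (.leaf (11762709953993400801824136500051514395287794,695,1)) (.leaf (11647690351473930483978909209047182513357525,1891,2))))))) (.node (.node (.node (.node (.node (.node (.leaf (12011970323781260773697877945656616335364255,33,2)) (.leaf (11151609369121613513788628018983005612988112,2093,1))) (.leaf (11346660204397114986702876690942594888929316,776,1))) (.node (.node (.leaf (19531502431040032202323894294255534180595058,363,2)) (.leaf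 (11151158493125830930893866525533348819083265,2417,2541))) (.leaf (17571386662507108254853141385016065452524876,1312,2)))) (.node (.node (.node (.leaf (20908815447507647929773228320041123222037788,186,1)) (.leaf (11152491674592110473727078942396685994688513,2358,2351))) (.leaf (17031441332209331277005645840778181517608362,1039,0))) (.node (.leaf (17994789532585699760257809646437793524098785,548,0)) (.leaf (18866237074745567865423139352718846944269903,1650,1))))) (.node (.node (.node (.node (.leaf (12806271993464720203915822811698871267607002,102,0)) (.leaf (11150376667125754735657183092358868154605633,2210,1))) (.leaf (19394380377261101287295006027425259752276488,893,1))) (.node (.leaf (15866083078130295884434242283006364087546880,454,1)) (.leaf (21642122342547335329137480812419079128335704,1469,2)))) (.node (.node (.node (.leaf (18696647210610388080260929318212227573405283,277,0)) (.leaf (11952455495725659586597456182715420281930650,2389,2486))) (.leaf (18415892270526305323795718781795841943274989,1168,2))) (.node (.leaf (17173579565231248486249637825405818812102638,661,1))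 (.leaf (13056854092612173407158707297376609356718877,1837,1)))))) (.node (.node (.node (.node (.node (.leaf (14739092870708150383415289141190784941301890,66,2)) (.leaf (11150500226251685060655975162037348904690240,2151,0))) (.leaf (12790536678578041367333972739229389280310400,835,1))) (.node (.leaf (18911417322332885071047652942112486669678477,404,1)) (.leaf (17860165731448835933151892857782699101783168,1376,1)))) (.node (.node (.node (.leaf (20277312157420091247281752146900362323648694,225,1)) (.leaf (21838203120592914313977491663855064816288666,2424,2425))) (.leaf (19568255197228119215312453831202289733871329,1098,2))) (.node (.leaf (19372602305778161225633350052549626586743304,600,1)) (.leaf (17217384049852246843808747219139267978871774,1743,0))))) (.node (.node (.node (.node (.leaf (16939633865318933707116674429235415189029786,141,1)) (.leaf (11150678899024142533101710868715891288850576,2283,0))) (.leaf (20125554611297311096776781398035882552075700,969,1))) (.node (.leaf (13649728054428051837908812609524148351230206,498,1)) (.leaf (20555575657989315156834478402742098736927650,1565,2))))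 (.node (.node (.node (.leaf (13198197367139283331138641310738527972344328,317,0)) (.leaf (11151945096909784598281379901159884732768257,2549,2529))) (.leaf (11390585386847933026896051097611724053288840,1239,0))) (.node (.leaf (17544164073153433177776071416421523995608396,728,0)) (.leaf (16205089147175505583814546103417236450865334,1983,2)))))))

noncomputable def sel0_0101 : Tr (ℕ × ℕ × ℕ) := .node sel0_01010 sel0_01011

noncomputable def sel0_010 : Tr (ℕ × ℕ × ℕ) := .node sel0_0100 sel0_0101

noncomputable def sel0_01100 : Tr (ℕ × ℕ × ℕ) :=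
  .node (.node (.node (.node (.node (.node (.node (.leaf (12404539502404678313732943064152180635164902,4,0)) (.leaf (11152876977817833224319759362367100917818700,2051,1))) (.leaf (14019955269638032886156964182409912165294334,734,1))) (.node (.node (.leaf (19210186654756028225860609377994337212522678,324,1)) (.leaf (11152824169643530500406114029247853598820162,2558,2565))) (.leaf (11869260671888770825606174379874129858394094,1259,0)))) (.node (.node (.node (.leaf (14135896185298413215834593066765017295053030,153,2)) (.leaf (11152474696457346759462534126333030359713116,2302,1))) (.leaf (16525094390329511236795122053588281649452623,988,1))) (.node (.leaf (21126548168314591416920164239657999793825108,506,1)) (.leaf (19693451358751713031885670355684937309372960,1582,1))))) (.node (.node (.node (.node (.leaf (15725284766831283399211670616244491011728954,73,1)) (.leaf (11151451232871866382452246184220876393365847,2164,0))) (.leaf (19166849834507011761290745510485552015921871,851,2))) (.node (.leaf (13094756680397343448159619406211968380732719,417,0)) (.leaf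 (12224809245771842118012792543251461399986901,1391,1)))) (.node (.node (.node (.leaf (20826645055782924120485027468338027362055296,233,2)) (.leaf (11151856463056156837370653138369304308598092,2426,2437))) (.leaf (12654423731809665981948622896256681995728000,1111,0))) (.node (.leaf (16537505484998307837072986878702434559296852,608,0)) (.leaf (11838663349222459952937646502177216287228224,1771,0)))))) (.node (.node (.node (.node (.node (.leaf (17374114939418236907672429549626411936916637,39,0)) (.leaf (11150425918090164710012739513292958165616553,2104,1))) (.leaf (21175876904722930447021223148744768825545295,784,1))) (.node (.node (.leaf (17631167695302711520224380272118876725749076,369,1)) (.leaf (11152491554913896969593094713009974101942273,2628,2622))) (.leaf (18773705585273275304253615720656659653943526,1324,1)))) (.node (.node (.node (.leaf (14374891079680257463987551219662814795714719,192,1)) (.leaf (11152893004860941024438353700526340889704144,2371,2373))) (.leaf (12937157113515136078037300192827717627860559,1047,0))) (.node (.leaf (16227167633342867591485601508389628487050572,557,0))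 (.leaf (18344508200151480443841928493101042828952908,1662,2))))) (.node (.node (.node (.node (.leaf (13928440913561659589155497426481222179419264,108,1)) (.leaf (11151714203197433243071550534087732322841201,2224,0))) (.leaf (12132077136962288933802423997413061935273414,910,1))) (.node (.leaf (14718548356558077478115849293952852800368799,462,1)) (.leaf (11408665837927100623564854767648768159266531,1487,0)))) (.node (.node (.node (.leaf (20428813703646517289646955550045526571275855,287,2)) (.leaf (12229170132299308276909438036774062613602434,1,2501))) (.leaf (18348711272854607914120279368825771620942344,1185,1))) (.node (.leaf (17250849175549222957438192714452304701695412,673,1)) (.leaf (11624330335019292577924389005899338615824566,1856,2))))))) (.node (.node (.node (.node (.node (.node (.leaf (21622684843241267868160869283827745247896908,21,1)) (.leaf (11151343138662291695290802863136037208588548,2076,1))) (.leaf (14249285920362274793152072679084615851234895,758,2))) (.node (.node (.leaf (17413495610406488174889140489714765866672382,348,1)) (.leaf (19220718452051458132476861153153314825790655,2425,125)))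 (.leaf (13998876412642136013226488672100635012604420,1287,1)))) (.node (.node (.node (.leaf (13965874386912920504712014425104597057389064,175,2)) (.leaf (15060897726094520751789442831986394786701313,2325,2))) (.leaf (11500058512848654500375123616993136261519056,1023,1))) (.node (.leaf (22068558536891911318952956080421190188753078,526,2)) (.leaf (22030989090785618542976013025166160231867126,1625,1))))) (.node (.node (.node (.node (.leaf (20526462746804028420664254382771804226896890,92,1)) (.leaf (11151336769205535469131613922399412450490313,2191,1))) (.leaf (21452479823797963749077101466774915133694166,877,1))) (.node (.leaf (11266277675483756760525454640390322661226478,440,1)) (.leaf (16062310371317034926484932587481076881872463,1439,0)))) (.node (.node (.node (.leaf (21377104953375983718335204712913044834836710,263,2)) (.leaf (18083390964121316352469810092942710951384192,0,2469))) (.leaf (12160113116927355443080135928700168287126868,1142,1))) (.node (.leaf (16137888782104145692349376225533098584776968,640,1)) (.leaf (21044800590499614447808669556394987051386502,1806,2))))))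 (.node (.node (.node (.node (.node (.leaf (19432267275281733671502151726889732113703042,56,2)) (.leaf (11150543018900922403673270946514040973817255,2131,1))) (.leaf (21164204864486821687008801387141454150684831,815,2))) (.node (.leaf (21980882930627653503269573779030983797900289,390,1)) (.leaf (18267140450944440372603557071043357757677698,1351,2)))) (.node (.node (.node (.leaf (12899427122241647790359032255891953770562561,213,1)) (.leaf (11151542320953356794850312226980425860075521,2355,2399))) (.leaf (17913825422730079072442527943617380309980161,1078,0))) (.node (.leaf (14467445610554814314485469919548431864353793,582,0)) (.leaf (16182973460971878029043925359039465982903628,1709,1))))) (.node (.node (.node (.node (.leaf (18484140996560304394180836742055127278428163,127,1)) (.leaf (11151654408387520687820479211810084118221486,2266,0))) (.leaf (18355282966695921344748155002893204273137537,953,1))) (.node (.leaf (19417683558741548160231893626074967557801453,487,1)) (.leaf (13480932167515790010280077658818978166949796,1543,2)))) (.node (.node (.node (.leaf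 (15512089827626861635600843697759776283829405,306,2)) (.leaf (15059821087521177113998521526177875906510944,2050,2461))) (.leaf (16374349066234040358833094623435995567330239,1220,1))) (.node (.leaf (17352163781037689054432500673903800772130574,703,2)) (.leaf (16613908079948778302702283344958821669720320,1929,1)))))))

noncomputable def sel0_01101 : Tr (ℕ × ℕ × ℕ) :=
  .node (.node (.node (.node (.node (.node (.node (.leaf (11673330971923997525611017433016918666100832,12,1)) (.leaf (11151543704735267142862943167485556553093788,2063,1))) (.leaf (18239917861590765295526487102448816300761218,748,0))) (.node (.node (.leaf (20576197319978019526092763399552644621009921,335,2)) (.leaf (11150394506902925530501606222797691798810625,2526,2376))) (.leaf (15829829634268288390389246698145002490118888,1274,1)))) (.node (.node (.node (.leaf (12345123150090894992137081230537426583041196,165,0)) (.leaf (17602410933154429312996856592908047982510176,2324,2325))) (.leaf (18097819674919990248623709353879249331945552,1006,0))) (.node (.leaf (19025649818900665515008394279908490258064716,515,0))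 (.leaf (16885188937258062670432378355149052434548358,1609,0))))) (.node (.node (.node (.node (.leaf (12855137066938391700345937232830021667832826,83,1)) (.leaf (11151157046004095698182516625397970604196687,2177,1))) (.leaf (15332520326798264373723670898553351531983872,862,1))) (.node (.leaf (11652439348842888561081030589625119360357020,432,1)) (.leaf (14275528517471739477169875890329498294014835,1416,1)))) (.node (.node (.node (.leaf (22138979863341582545107200097050180553668590,244,1)) (.leaf (11151734156813558960424663065157463182290945,2449,2376))) (.leaf (17695690801591776477685839987125872840688136,1123,1))) (.node (.leaf (19129207840952803275756020547475665228932532,622,2)) (.leaf (14914285681814724072905157300505175491465805,1787,1)))))) (.node (.node (.node (.node (.node (.leaf (21688019057690088053145837208454644744496460,48,1)) (.leaf (11152313822277740363285930010204558352992092,2117,1))) (.leaf (20134485055784560818515509177968752037734113,801,0))) (.node (.node (.leaf (20282756675290826262697166140619270615031990,378,2)) (.leaf (11152936700947078683208263773704119692296193,2526,2546)))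 (.leaf (14702749604190309126147693108261991742267634,1337,1)))) (.node (.node (.node (.leaf (20025595142466189414979044490734749840581789,203,1)) (.leaf (11156447491269066890736771192530634756244474,2050,2389))) (.leaf (11898199041201222191991759929913625831130444,1063,0))) (.node (.leaf (12702818195233251928078711932320646793851904,571,2)) (.leaf (14280973035342474492585289884048406585398131,1686,2))))) (.node (.node (.node (.node (.leaf (11783300573210390126250490209462468097265823,118,2)) (.leaf (11152773716033216906299347991513580903060461,2245,1))) (.leaf (16977369259959868939223908205513491868426497,935,0))) (.node (.leaf (14047935519598342784114070009059638852411606,475,2)) (.leaf (16193923754368829685721256857719143786176694,1505,1)))) (.node (.node (.node (.leaf (14287180854304644396908429103241926523863514,296,0)) (.leaf (14341145033301373465180573236342155149742116,2050,2517))) (.leaf (12942276948543605454753623475290899120400097,1201,0))) (.node (.leaf (20058388270914814028879580729423970850624629,689,2)) (.leaf (11967708249682037695394518599606314962790113,1883,1)))))))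 (.node (.node (.node (.node (.node (.node (.leaf (11166708978292443675864429183842383659278339,31,1)) (.leaf (11152923952471079075297769203533785760358642,2090,1))) (.leaf (14413457633698317409714709984244076518221140,773,2))) (.node (.node (.leaf (16264513649347791795605339208090787057501082,361,0)) (.leaf (11151734174076954137592079658637297095540737,2613,2360))) (.leaf (13597108238663318862882735775877506948662400,1308,2)))) (.node (.node (.node (.leaf (14625841824679440140385479568420954965714204,183,1)) (.leaf (11151733811829261736809599532433146393133057,2355,2332))) (.leaf (21855284165680554935062444275730927683208618,1037,0))) (.node (.leaf (12838175964608093408396525255547229113950211,539,1)) (.leaf (20145031546652748498115630664539311705219565,1644,0))))) (.node (.node (.node (.node (.leaf (20974149661956468114758196244668022718637340,100,1)) (.leaf (11151063987037579380472482643543117798916168,2207,0))) (.leaf (17854590863189628253703876821898935916220908,891,0))) (.node (.leaf (20074703350895965783493504426441440264307162,452,1)) (.leaf (12817384500260429345475214702343163986937258,1464,0))))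 (.node (.node (.node (.leaf (22056912999817503019937172586458864193835676,275,1)) (.leaf (11217070714653948523047434862696005793403039,1,2485))) (.leaf (16638610419341856162372020584742359347086680,1165,2))) (.node (.leaf (11920656376309125277656085007034240533526413,657,1)) (.leaf (14964004894571568533768649178023198016348918,1831,1)))))) (.node (.node (.node (.node (.node (.leaf (11788745091081125141665904203181376388649119,65,0)) (.leaf (11152226093246669300098924351497257875010347,2148,0))) (.leaf (19557715913383151749757425838992508493775368,830,2))) (.node (.leaf (18971307018910970240617206873020477874894733,401,2)) (.leaf (14451489449039510779742323162797046186215046,1367,0)))) (.node (.node (.node (.leaf (18991244294619697715826119676378690279031258,222,2)) (.leaf (11151543809198374712432202050571126939320321,2421,2376))) (.leaf (16949567048836160256193325932773353870865976,1095,2))) (.node (.leaf (12180394197942835877204443467943621569651232,597,2)) (.leaf (15005777299679328775002551519854934550971828,1736,2))))) (.node (.node (.node (.node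 (.leaf (14723147427937437255374523047089395700535964,137,1)) (.leaf (11152737384263893319037280846496407463985169,2279,0))) (.leaf (20141955660185068291890551274811394486096128,965,0))) (.node (.leaf (14243841402491539777736658685365707559851599,495,0)) (.leaf (11271452108919099062494989744539556293821146,1563,1)))) (.node (.node (.node (.leaf (20914259965378382945188642313760031513421084,314,2)) (.leaf (11152125892611279266373524589325172065968129,2532,2547))) (.leaf (21137420813265480904711239011921354757994026,1236,0))) (.node (.leaf (16803146050028074339262192418295912752664735,719,0)) (.leaf (14969449412442303549184063171742106307732214,1974,2)))))))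

noncomputable def sel0_0110 : Tr (ℕ × ℕ × ℕ) := .node sel0_01100 sel0_01101

noncomputable def sel0_01110 : Tr (ℕ × ℕ × ℕ) :=
  .node (.node (.node (.node (.node (.node (.node (.leaf (12426317573887618375394599039027813800698086,8,0)) (.leaf (11151736799486801727294360629837993573938304,2057,1))) (.leaf (17270174492347117950560043856135721147549016,744,0))) (.node (.node (.leaf (22063114019021176303537542086702281897369782,329,1)) (.leaf (16275030529504713618636828518349057573892100,2557,2384))) (.leaf (12044333147474623954667911606412040436352202,1266,1)))) (.node (.node (.node (.leaf (20494682421595156903114329114008154263496250,161,1)) (.leaf (11152905277217058206194941113262875346105590,2313,0))) (.leaf (14474061332114154163035987329306238981768685,996,1))) (.node (.leaf (16662729339858857376534431047921307726497414,510,1)) (.leaf (21039356072628879432393255562676078760003206,1598,0))))) (.node (.node (.node (.node (.leaf (16955745805617396883095233196717764864353850,78,1)) (.leaf (11151880251609859113548990856833550378763956,2171,0))) (.leaf (22237943815782286145416342372469462494348781,855,1)))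 (.node (.leaf (16890733070226320053604960209393517007975715,425,2)) (.leaf (19466656043287390315472637813159077788894854,1407,2)))) (.node (.node (.node (.leaf (18371641931066244246597566500936572264232227,239,2)) (.leaf (11150375577697865938768058847562945537708033,2441,2440))) (.leaf (19366808036010923644942136063602682952689377,1116,2))) (.node (.leaf (17831855644065945341252986929611554176795850,615,2)) (.leaf (20724177621038645385896018978551173737232355,1781,2)))))) (.node (.node (.node (.node (.node (.leaf (17130854358466973542285981709457814708958380,43,0)) (.leaf (11152926459188194350518847836978888402573183,2112,0))) (.leaf (15659797596455394491257147429094058839307392,791,2))) (.node (.node (.leaf (12371811426195143758404086168792922333029660,373,1)) (.leaf (14729348333923528845822647167877694274168140,0,408))) (.leaf (18637270720003563731137221035927911064257032,1330,1)))) (.node (.node (.node (.leaf (13236987230227218746114699866464267836326913,197,1)) (.leaf (11151158458914211066934478654456759729586177,2380,2332))) (.leaf (11253982245184925916527580796742059169006936,1056,0)))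 (.node (.leaf (16259069131477056780189925214371878766117786,566,2)) (.leaf (19117568870122371633926908591389358291239637,1671,1))))) (.node (.node (.node (.node (.leaf (14087472387001195085043612018877685902198406,114,0)) (.leaf (11151726096152902656131613030208510039438874,2232,1))) (.leaf (21034566494166190186441837281159872473773961,924,2))) (.node (.leaf (16737811835579254154277224493669013256065183,468,0)) (.leaf (17195605978369306782147091244263634813338590,1495,0)))) (.node (.node (.node (.leaf (17984604155049634272842909861963188097963009,292,0)) (.leaf (17430452634064485159381822258801933477779341,2485,2509))) (.leaf (12152485639975922598669964336824368220823806,1194,1))) (.node (.leaf (20956640485738705708017426336315541138212143,679,0)) (.leaf (13214827584060610460231580067459350029931776,1870,0))))))) (.node (.node (.node (.node (.node (.node (.leaf (18470308996085693942636166920579844536968524,25,1)) (.leaf (11152519504699767067244060712234604388897359,2083,1))) (.leaf (21387145609349143564092133542148015637094614,768,2))) (.node (.node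 (.leaf (17064483293353934583150737450856796678784001,351,2)) (.leaf (21806811233686249238609784052038314047537722,2050,2605))) (.leaf (17019847544917692854599656781337455376670902,1299,1)))) (.node (.node (.node (.leaf (15239891568664914111918888955329137241080328,179,2)) (.leaf (11151058647774544596879738227472913823498760,0,2147))) (.leaf (14005316515491790458696616116775866629157023,1026,2))) (.node (.leaf (14445669811999812664387933138008622583697567,532,2)) (.leaf (18861110020723710551582096988697714482135770,1632,1))))) (.node (.node (.node (.node (.leaf (13987652458395860566373670399980230222922248,96,2)) (.leaf (11150714496436961582821433078727151187955959,2199,1))) (.leaf (13426839039039021826725468916273737053513441,885,2))) (.node (.leaf (18821871121637293434815451173747118275221091,444,2)) (.leaf (16845968666187157999844394628789799251788794,1452,2)))) (.node (.node (.node (.leaf (22001300705051202630225264726466663337485883,269,1)) (.leaf (11156475474793706301644159372866685714965874,0,2477))) (.leaf (15681950237179145146156041880167599879488410,1157,2)))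 (.node (.leaf (13116534751880283509821275381087601546265903,648,0)) (.leaf (12664112373705294909119805169939306637280600,1824,1)))))) (.node (.node (.node (.node (.node (.leaf (18932516429415961796814321533123222003736806,60,2)) (.leaf (11151452158606894326945472652431382211977718,2140,1))) (.leaf (14575632753860438984149636778107550165902493,820,1))) (.node (.leaf (19123763323082068260340606553756756937549236,396,1)) (.leaf (18644580542602460286907424560751594703773938,1358,1)))) (.node (.node (.node (.leaf (18986900639138187488132088537266496363734300,217,2)) (.leaf (11151542479564988215085198572287503987863553,2377,2399))) (.leaf (19518599226989559322213551841638182896128883,1088,1))) (.node (.leaf (19748627945167779267437043826889474506150913,591,0)) (.leaf (15212965583482372521680349567331383426078287,1719,2))))) (.node (.node (.node (.node (.leaf (14793926160256992455774904965435203488518812,132,2)) (.leaf (11152256613836575155857447493209195720581760,2273,0))) (.leaf (21915997654156621426428906895059226837813121,959,1))) (.node (.leaf (15153075886904287352110795636423392220862031,491,2))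 (.leaf (12926345420320676745094484782601435062183628,1553,0)))) (.node (.node (.node (.leaf (21370812055736938517845891560991290762944726,310,1)) (.leaf (11150459082642623219257618409508164814643201,742,2521))) (.leaf (15964843560878352671068838357107562602800696,1226,1))) (.node (.leaf (20472623963819959904977385265754000461190864,712,1)) (.leaf (16311948342328021063134670767467808052750049,1952,2)))))))

noncomputable def sel0_01111 : Tr (ℕ × ℕ × ℕ) :=
  .node (.node (.node (.node (.node (.node (.node (.leaf (21871314170439678994616778743029851466178572,17,1)) (.leaf (11151063800544942944856823648561708356896047,2071,0))) (.leaf (11319316459633746101512548721368958665606488,754,0))) (.node (.node (.leaf (14292642405307879119351341656240305047871618,341,1)) (.leaf (14718032886352881707533393362391410683950917,2586,2589))) (.leaf (11444691989218193864284068701723862074712557,1282,2)))) (.node (.node (.node (.leaf (19013335817708676842971632280704000593977558,171,1)) (.leaf (21511991944869667730360005382689026702657444,2330,14))) (.leaf (19612517570609015682847706869021478383580288,1015,1)))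 (.node (.leaf (19776993285062097642335525413117834468959564,523,0)) (.leaf (15138229466435089027061896977028263340614390,1617,1))))) (.node (.node (.node (.node (.leaf (11414110594195207356101288304604108756497580,88,2)) (.leaf (11151988029090951659848887355228025926766752,2183,0))) (.leaf (11353836312443837951390001175667528725491871,868,1))) (.node (.leaf (17772645099541391065675015468228383770674074,436,2)) (.leaf (15824273643932020817653753701525448388085076,1428,1)))) (.node (.node (.node (.leaf (13258092216519393910622039217779217122231599,254,0)) (.leaf (14994523891146924363227674124103387664711692,2,2461))) (.leaf (11875572889175071633363886515215230590476502,1130,1))) (.node (.leaf (12644786679888304372372060372583652030890728,631,1)) (.leaf (12628404322095446516418998727583105852907522,1797,0)))))) (.node (.node (.node (.node (.node (.leaf (18273668798071900468712855360089510192522524,53,1)) (.leaf (11153056428199160575451074647002944130749375,2124,1))) (.leaf (12289284555357536185512723342321787397317152,806,1))) (.node (.node (.leaf (16472171270549487652088018954075535062697300,383,0))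 (.leaf (11150713073425259563320599187304309858508801,2626,2650))) (.leaf (17081795165516920072984057180601526801807331,1342,0)))) (.node (.node (.node (.leaf (14065694315518255023381956044002052736665222,208,0)) (.leaf (15059539168200447877739934576040249477353602,2050,2397))) (.leaf (19684079218145066097315580753616976715187328,1071,1))) (.node (.leaf (21599385045854545603960964199610809218684495,578,0)) (.leaf (13814608661939922843488794504303619549603100,1699,1))))) (.node (.node (.node (.node (.leaf (18996688812490432731241533670097598570414554,123,0)) (.leaf (11150373949587443567497763519429082404335649,2255,0))) (.leaf (16543129347629223102301901426613013881737472,946,0))) (.node (.leaf (14239233061834796916421462185239011193955668,479,2)) (.leaf (18666361120802515623790159169072330511521663,1523,0)))) (.node (.node (.node (.leaf (21284439186565906863967170057506340243940692,301,2)) (.leaf (11150375449664637623411011618492072419315713,2357,2525))) (.leaf (13896914317691825360597199925031913238398292,1207,1))) (.node (.leaf (19270681576231702744015715795664443690452461,697,1))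 (.leaf (16585365668072451158843848802220525734077597,1908,0))))))) (.node (.node (.node (.node (.node (.node (.leaf (17510227886186612293057779392599119221499037,35,2)) (.leaf (11151432594461061719669522830237332071229132,2096,0))) (.leaf (15518237381038405439937683786940692466962925,778,1))) (.node (.node (.leaf (12305689800963137851181592019008985609756886,365,2)) (.leaf (11151683238994585822987341815713482231783425,2617,2621))) (.leaf (19934527040198876806424624464686758118818944,1314,2)))) (.node (.node (.node (.leaf (16215790797175393768825697847015657383715746,188,0)) (.leaf (20744568854467010231056563723637954184664675,2364,2365))) (.leaf (21075781996440097812312450062862773357365161,1041,1))) (.node (.leaf (19563160431253886765172839832711416785158664,550,1)) (.leaf (12496151165985599829388766701596146025813583,1653,1))))) (.node (.node (.node (.node (.leaf (16726923185368363627395069840284482613019649,104,2)) (.leaf (11152175038290510472011730151364425607626776,2217,0))) (.leaf (12115059983494015692219475543316722073051680,897,2))) (.node (.leaf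 (20407035632163577227985299575169893405742671,457,2)) (.leaf (18170888966343229630102089064444968831026669,1471,1)))) (.node (.node (.node (.leaf (16426740790140561812857517112433860815275002,281,2)) (.leaf (15066997777037319561684419444750735246292338,2388,2050))) (.leaf (18149110894860289568440433089569335665493485,1173,1))) (.node (.leaf (20396734144706377612174722106999527311013870,665,2)) (.leaf (15889635978505258171043625696222394741425645,1842,1)))))) (.node (.node (.node (.node (.node (.leaf (15382126885766235315839140057660848701624479,69,0)) (.leaf (11152211266581590481858816933976232774718929,2156,0))) (.leaf (17178818082390463792157651676669472135246976,842,1))) (.node (.leaf (11663328384584358591911858577062935943123612,409,2)) (.leaf (18339063682280745428426514499382134537569612,1379,0)))) (.node (.node (.node (.leaf (14147362083579280254613165949785677107414662,227,0)) (.leaf (11221937131670042144088802647621376867103439,0,2429))) (.leaf (19488434114770330377134293788034710954428038,1101,2))) (.node (.leaf (15650049072068500324360505902520383063819604,602,2))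 (.leaf (14515087381126946336198535204149420339024002,1748,1))))) (.node (.node (.node (.node (.leaf (20008607164362186988183743025346228691199547,144,1)) (.leaf (11151811150219602884190709722646881408942159,2287,0))) (.leaf (21141116210888917997297417987489672853964713,980,1))) (.node (.leaf (18942557085389121642571250362358192805994710,501,2)) (.leaf (11466470060701133925945724676599495240245741,1569,2)))) (.node (.node (.node (.leaf (14118642559924501365091825231874973302104608,319,2)) (.leaf (17482959817711887099851994141772953664205293,2533,2557))) (.leaf (16548573865499958117717315420331922173120768,1246,2))) (.node (.leaf (11941189318533767161733376833974984662504449,730,2)) (.leaf (11516639026380002803343764624274241273284444,2032,1)))))))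

noncomputable def sel0_0111 : Tr (ℕ × ℕ × ℕ) := .node sel0_01110 sel0_01111

noncomputable def sel0_011 : Tr (ℕ × ℕ × ℕ) := .node sel0_0110 sel0_0111

noncomputable def sel0_01 : Tr (ℕ × ℕ × ℕ) := .node sel0_010 sel0_011

noncomputable def sel0_0 : Tr (ℕ × ℕ × ℕ) := .node sel0_00 sel0_01

noncomputable def sel0_10000 : Tr (ℕ × ℕ × ℕ) :=
  .node (.node (.node (.node (.node (.node (.node (.leaf (11152389427978843478001757960855673741702514,1,0)) (.leaf (11152300392135624768187724508803273617006822,1,0))) (.leaf (12201486300812537737408690280294542843273470,731,2))) (.node (.node (.leaf (12452620091479586647975143153889036138816032,321,1)) (.leaf (12725202550378127297065784456886888446297089,2,2560))) (.leaf (15639339381087210543343178469274237512110336,1248,0)))) (.node (.node (.node (.leaf (16933967734134456821433577221842131698820666,146,1)) (.leaf (11150701483259545763319285743719532435825769,2296,0))) (.leaf (20080166342397754090541236704299604016157813,983,2))) (.node (.leaf (14565952128101354970815925637512963760497948,503,2)) (.leaf (11200452673203929721852551294070602458947798,1572,1)))))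 (.node (.node (.node (.node (.leaf (16569031781586468676399390688382856223183007,71,0)) (.leaf (11150857906740693177586291246592337083549284,2158,0))) (.leaf (20667674494378242991874935056653416031305824,847,1))) (.node (.leaf (13252647698648658895206625224060308830848303,414,2)) (.leaf (17919269940600814087857941937336288601363457,1382,2)))) (.node (.node (.node (.leaf (18017273834483656166131406709381349008274560,228,2)) (.leaf (11223371255280055787319127478239923128354124,0,2432))) (.leaf (18871706661670539807415262630410063779480072,1105,2))) (.node (.leaf (12109615465623280676804061549597813781668384,604,1)) (.leaf (20657560796764398634982355863451208826463948,1762,2)))))) (.node (.node (.node (.node (.node (.leaf (11495881603674139195490840966658323274966348,36,2)) (.leaf (11151543929863358574354549240289810206635889,2099,0))) (.leaf (15735439563662251818556005333456804892390968,780,1))) (.node (.node (.leaf (21534050831405725418975996274983909722084943,367,0)) (.leaf (11151028100467878097672567045863685603991553,2622,2622))) (.leaf (19863748307879321606024242546340950330836096,1317,1))))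 (.node (.node (.node (.leaf (19188408583273088164198953403118704046989494,189,1)) (.leaf (11973848227499404877381115995390385663230048,2368,1))) (.leaf (15369969674295203319704410636560584463877479,1044,0))) (.node (.leaf (12328892837896596554049182005651291856610636,553,0)) (.leaf (17865610249319570948567306851501607393166464,1658,2))))) (.node (.node (.node (.node (.leaf (20038330419714566934091107153644448384140934,106,0)) (.leaf (11151393613248245257703235760412298718545123,2220,1))) (.leaf (19705074374411510944909744762242919337096320,903,1))) (.node (.leaf (13835175545177911230652575390955480765362668,459,2)) (.leaf (11734675031542738087450740297061808785950342,1475,0)))) (.node (.node (.node (.leaf (19873472880831545717274728190716880850179663,285,2)) (.leaf (11221809689242526486629127297493585211565426,0,2496))) (.leaf (20816319313465177442439881641485407116969292,1176,2))) (.node (.leaf (20467512877025932812575104025345335098996718,668,1)) (.leaf (20150476064523483513531044658258219996602861,1846,2))))))) (.node (.node (.node (.node (.node (.node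 (.leaf (12017414841651995789113291939375524626747551,19,0)) (.leaf (11150857926270506496275961828067256886556430,2073,0))) (.leaf (16552092329842907826776405491588808801842176,755,1))) (.node (.node (.leaf (15571979524204946805170397628667767489045661,343,1)) (.leaf (11150380741436634988359783988476988696614625,1384,2592))) (.leaf (11471914578571868941361138670318403531629037,1284,0)))) (.node (.node (.node (.leaf (11756580906802087016462304878556285406717212,172,2)) (.leaf (14957453495308343575661318016254818335909435,2336,3))) (.leaf (17337272394065502591990339655103008923043148,1020,0))) (.node (.leaf (21501408792641182268393200714714616417853984,524,2)) (.leaf (15609748160330480657075773896688704982933997,1621,0))))) (.node (.node (.node (.node (.leaf (11484889326514762556501670222949916544480428,90,0)) (.leaf (11150374008654551352162501190143034879674293,2185,1))) (.leaf (13306723428571745866737731005232925994082558,869,2))) (.node (.leaf (19281654299534348189924851573982882528397122,438,0)) (.leaf (17204840277898297765575075931508821650949464,1432,0))))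 (.node (.node (.node (.leaf (15554991546100944378375096163279246339663419,255,1)) (.leaf (14994206205415237790587454810231692327183931,2050,2464))) (.leaf (14320161413135093554884769695005053421576406,1135,1))) (.node (.leaf (17096756653504928528922884004183891399147780,634,1)) (.leaf (19758785573200533216870638280311836805972512,1799,1)))))) (.node (.node (.node (.node (.node (.leaf (11161264460421708660449015190123475367895043,54,2)) (.leaf (11152470560828452920173743136226374043543162,2127,0))) (.leaf (17761025016040596662670807911752772337287688,810,1))) (.node (.leaf (22247664306293669258624859471257490075681793,384,2)) (.leaf (21010447781991277627327482138235873860765609,1343,1)))) (.node (.node (.node (.leaf (21202691358104450777385831511140607342150554,210,0)) (.leaf (11151542765465845015349630525065713615638529,2333,2399))) (.leaf (21000161063065191517337391125038792225780204,1073,2))) (.node (.leaf (14668892771772009884855787687148038645535745,579,2)) (.leaf (11194694703727155640953280670902017018151386,1703,1))))) (.node (.node (.node (.node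 (.leaf (14169140155062220316274821924661310272947846,124,0)) (.leaf (11150715986017449664282313051123658969850840,2259,1))) (.leaf (11915221662228907850332478869922179146065332,949,1))) (.node (.leaf (21306217258048846925628826032381973409473876,483,2)) (.leaf (22019432708324553402008305994384497962087978,1528,0)))) (.node (.node (.node (.leaf (13301965211516191300772274977716348139192848,303,2)) (.leaf (11152716360539043412241646224439057450016769,2474,2528))) (.leaf (13510353492703283451009728684673407015569030,1213,2))) (.node (.leaf (15871527596001030899849656276725272378930176,698,2)) (.leaf (16275530264774373291105963252260906936419660,1917,1)))))))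

noncomputable def sel0_10001 : Tr (ℕ × ℕ × ℕ) :=
  .node (.node (.node (.node (.node (.node (.node (.leaf (18811130918532170169432883721058099924402188,9,2)) (.leaf (11152239423150500305351351575757465063171356,2060,1))) (.leaf (16556874570115436680264661267282591985436007,745,0))) (.node (.node (.leaf (19733437475119761885921001191701601601291604,332,0)) (.leaf (11151026899758629498353391283864295784329217,2576,2054))) (.leaf (21986022779436762103213864137138580502250698,1270,1)))) (.node (.node (.node (.leaf (13520476642497344026236686373761008200319898,162,1)) (.leaf (11152389373159778953647669663359144569078800,2320,0))) (.leaf (15980444385734287482734499433961660604535925,998,1))) (.node (.leaf (19551921643615914169066211850045564859721441,512,0)) (.leaf (19869192825750056621439656540059858622219392,1601,2))))) (.node (.node (.node (.node (.leaf (12827914477584716623268867264235480210916346,79,2)) (.leaf (11151735138221501560787159440540362636320897,2173,1))) (.leaf (12637483980784431743093744007693747297252352,857,2))) (.node (.leaf (16830843373648234884035406278485525802759459,427,0))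 (.leaf (12931495744609034103847974727666116017030951,1412,0)))) (.node (.node (.node (.leaf (18976751536781705256032620866739386166278029,241,1)) (.leaf (11151683790289112328447601064905899194925057,2444,2376))) (.leaf (19067709304422630377703145522362610169520672,1119,2))) (.node (.leaf (15209154597004496633032051414189457272423144,619,2)) (.leaf (11293230180402039124156645719415189459354330,1783,1)))))) (.node (.node (.node (.node (.node (.leaf (16671744094323637506551146829784733927523322,44,1)) (.leaf (11152175038337462632841974531443548361029162,2114,0))) (.leaf (18877151179541274822830676624128972070863368,794,1))) (.node (.node (.leaf (12550299740521816496704376058188441297732104,376,0)) (.leaf (11151945117523017534471958302044903590707201,2640,2088))) (.leaf (21860728683551289950477858269449835974591914,1334,2)))) (.node (.node (.node (.leaf (12381616632679888708541029860903494772334722,199,1)) (.leaf (11319875778965424049167503252599057657209590,2371,2384))) (.leaf (17478474843096769691646218957966480083264369,1058,1))) (.node (.leaf (19232184048955831946275713435112451512521423,568,2))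 (.leaf (11778358780371570853948845058300981506556629,1681,1))))) (.node (.node (.node (.node (.leaf (16563587562997407050215870386432835208934528,115,1)) (.leaf (11151944387032808082152419835624069819537122,2235,1))) (.leaf (21218457480695594028832043329807179380802419,927,0))) (.node (.leaf (21345014431833782081974755604163422387348812,472,1)) (.leaf (19922274250238185525536976279607067262514333,1497,1)))) (.node (.node (.node (.leaf (12468267676478553492763975972521049121054974,293,1)) (.leaf (19890970687229466808983520631082412059087439,2481,2512))) (.leaf (13388072104541931964457394914147446798537587,1197,1))) (.node (.leaf (14881038446188752702421528864937736150651548,684,1)) (.leaf (11772914262500835838533431064582073215173333,1873,2))))))) (.node (.node (.node (.node (.node (.node (.leaf (14548036407672085664949606116600496516481120,27,1)) (.leaf (11152766558782137207465438681341323613091721,2086,0))) (.leaf (20994716545194456501921977131319883934396908,771,0))) (.node (.node (.leaf (21208135875975185792801245504859515633533850,353,2)) (.leaf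 (19061305311977741630056422055999009720567491,2050,2608))) (.leaf (18834326334981198189150588106518220749768326,1301,0)))) (.node (.node (.node (.leaf (15169112836345358911518507036983329453097480,181,0)) (.leaf (11151945096794114696039056618050636197412865,2351,2351))) (.leaf (11396061951925993228636609389779883524473352,1031,1))) (.node (.leaf (15540520826962922730175030513197547918107932,536,1)) (.leaf (11400984227694771332743758627152583036355928,1637,0))))) (.node (.node (.node (.node (.leaf (18208334583623080283727887435462610695922972,98,1)) (.leaf (11152448982587593051890774679949780013860402,2203,0))) (.leaf (19247378394156885886411807315086583785169440,887,2))) (.node (.leaf (20063832788785549044294994723142879142007925,450,1)) (.leaf (20223409157701593425058567110488607492612854,1455,2)))) (.node (.node (.node (.leaf (12081389144572004543340968170615756437120571,272,1)) (.leaf (15060222314150174709933872600675578945675276,0,13))) (.leaf (14853634183915325110840048353214864964289962,1162,0))) (.node (.leaf (17586763261871079916310143438885637623644420,653,1))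 (.leaf (18555937870447343915928001414826874900423172,1827,2)))))) (.node (.node (.node (.node (.node (.leaf (19492156971859818841071705657797723318919298,62,1)) (.leaf (11150453904925345008848478997334117882319955,2143,1))) (.leaf (12843620482478828423811939249266137405333507,822,2))) (.node (.leaf (13760697796481999000144719597453582342698156,397,2)) (.leaf (12517929237468539891050422676471779191346767,1359,1)))) (.node (.node (.node (.leaf (14755329478169497739947043514346299307966984,219,2)) (.leaf (11151156846843128976884779674911746056785921,2380,2399))) (.leaf (15740884081532986833971419327175713183774264,1089,2))) (.node (.leaf (13547779292251449958663884982937658188277076,593,1)) (.leaf (12622943777569533237459547507639024433848562,1722,1))))) (.node (.node (.node (.node (.leaf (19193764129547231574325079552491724263109923,134,0)) (.leaf (11152989093385793087106040108990292645924868,2274,1))) (.leaf (19285541915552194457168523252560067976135882,962,1))) (.node (.leaf (12420024676248573174905285887106059728806102,492,2)) (.leaf (18686756670803811860664536250514823887569779,1557,2))))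 (.node (.node (.node (.leaf (18409733750817818724628581373922762393560404,311,2)) (.leaf (11150458187279295899243293874451671985004545,2541,2544))) (.leaf (15904021774656028477958053868793469452048232,1229,1))) (.node (.leaf (14653214142109257293130881369325953303769247,714,1)) (.leaf (12691514738107315272359420108011752470360559,1965,2)))))))

noncomputable def sel0_1000 : Tr (ℕ × ℕ × ℕ) := .node sel0_10000 sel0_10001

noncomputable def sel0_10010 : Tr (ℕ × ℕ × ℕ) :=
  .node (.node (.node (.node (.node (.node (.node (.leaf (18805686400661435154017469727339191633018892,5,1)) (.leaf (11151736500205128338062466938069106296803487,2054,0))) (.leaf (12099082609713021020344501845159148997496991,739,0))) (.node (.node (.leaf (14380335597550992479402965213381723087098015,326,2)) (.leaf (11150383873044941224260568030369558520930305,2568,2376))) (.leaf (21910553136285886411013492901340318546429825,1262,2)))) (.node (.node (.node (.leaf (18083082483917288429580624833834432820917539,157,0)) (.leaf (11151361990901538567349937748103269604287665,2306,1))) (.leaf (19265237058360967728600301801945535399069165,990,2)))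 (.node (.leaf (14364785048433426162338317006390496305041999,507,2)) (.leaf (21971134319991853221656152610172909359826260,1593,0))))) (.node (.node (.node (.node (.leaf (19808673169882544960772165905425709549200954,76,1)) (.leaf (11151328801040096237108080973987723882428212,2166,1))) (.leaf (14831856112432385049178392378339231798756778,853,0))) (.node (.leaf (16857797528728617592155626189709137911871470,418,1)) (.leaf (22023840588736509847589344238242962627135271,1393,0)))) (.node (.node (.node (.leaf (15328924563389244927705245075070830939469709,236,1)) (.leaf (11151027913860168979252268013896339558342657,2376,2440))) (.leaf (14505559807859571223189380760685501066048640,1114,0))) (.node (.leaf (14658006394489057769537752227099331887367169,610,2)) (.leaf (12458748209206389858727263620547559418271174,1773,2)))))) (.node (.node (.node (.node (.node (.leaf (17669861627669740068411967087629735555904684,40,2)) (.leaf (11151158252862684114969294591046525757956224,2106,1))) (.leaf (21049870288483059752517001210813267308770432,786,0))) (.node (.node (.leaf (21626633035870029870940271373927125664252432,371,0))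 (.leaf (21290443142042751060214250466362939829781614,2599,2632))) (.leaf (13667886970982874063283117694223314736645248,1325,2)))) (.node (.node (.node (.leaf (20043774937585301949506521147363356675524230,193,2)) (.leaf (11151158333138147898710274119797010453299201,2332,2376))) (.leaf (21154484759506018077748957622406712509072877,1051,1))) (.node (.leaf (20021996922268717702937942858803741044606292,560,0)) (.leaf (22073592238393566804898068584363453798537175,1666,2))))) (.node (.node (.node (.node (.leaf (19062265118753837610280280332321320422720016,110,1)) (.leaf (11151513201643512653727046189161083287896200,2229,0))) (.leaf (21730242152701493526503939036128620364380017,915,0))) (.node (.leaf (14199624359372288394865625975133885780943102,463,2)) (.leaf (13382627586671196949041980920428538507154291,1489,2)))) (.node (.node (.node (.leaf (20412480150034312243400713568888801697125967,289,0)) (.leaf (16105607460185238226823516638867579896554000,2481,2504))) (.leaf (15643082495270438739498055071125138445358671,1189,0))) (.node (.leaf (18399642404475275692627784591519739324303170,676,0))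 (.leaf (15845694119276880229448715181786631289963648,1864,2))))))) (.node (.node (.node (.node (.node (.node (.leaf (16693522165806577568212802804660367093056506,22,1)) (.leaf (11151074436860933394827175335606548200245156,2079,0))) (.leaf (15838788534445765807614428264409049293242888,760,1))) (.node (.node (.leaf (18180609071324033239361932829179710472638623,349,1)) (.leaf (11156896770316988155162737302689094215525370,0,2600))) (.leaf (21007501298501456977197097834757793164124402,1290,1)))) (.node (.node (.node (.leaf (13840622841311211903068747626054930829157533,176,2)) (.leaf (19813292065071381834053562083775666819244296,2343,2344))) (.leaf (11325283219606438028236227471434075736490504,1024,2))) (.node (.leaf (22084892090504116365199198061577915062902966,528,1)) (.leaf (22232517819416835445665246421512158725366002,1626,2))))) (.node (.node (.node (.node (.leaf (19944251613151100917675110109062688638162511,94,0)) (.leaf (11150584496638188585846554134411842790487198,2193,1))) (.leaf (20630639840226851764734110809352617710244865,880,0))) (.node (.leaf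 (15108541080700673114311148678328766446233147,442,1)) (.leaf (15409804404042825230735470834804293841364308,1442,2)))) (.node (.node (.node (.leaf (16896177588097055069020374203112425299359011,267,0)) (.leaf (11152126011057517836495136299415999777206273,2471,2472))) (.leaf (13243572117037267695654442992446900737787526,1144,2))) (.node (.leaf (11907333425803823857239679150733588218435171,643,1)) (.leaf (16879744419387327655016964361430144143165062,1814,2)))))) (.node (.node (.node (.node (.node (.leaf (17429265904444274501266695387739253538878592,57,2)) (.leaf (11151272837854918011763809495758707372565277,2135,1))) (.leaf (15545965344833657745590444506916456209491228,817,2))) (.node (.leaf (13799092340778775332933248592283235024556288,393,0)) (.leaf (14457727778501949116789745348149514107618797,1354,1)))) (.node (.node (.node (.leaf (12192422442095457014145419556564030753919695,215,1)) (.leaf (11151943913312572123402206554148833081692161,2358,2399))) (.leaf (14435235705181257471376365959119709683754324,1081,2))) (.node (.leaf (13727448381985705467372546775661631803925844,583,2))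 (.leaf (16907169211644651657378521371090622345135964,1714,1))))) (.node (.node (.node (.node (.leaf (20821200537912189105069613474619119070672000,129,1)) (.leaf (11152120692769747595845906512030579868258436,2269,0))) (.leaf (21888775064802946349351836926464685380896641,955,2))) (.node (.leaf (12485063912722407586038715466422537536459893,489,1)) (.leaf (18899612850285913095162018190016068124710342,1549,1)))) (.node (.node (.node (.leaf (21696889041884231355932867661592617296000782,308,0)) (.leaf (22105400912841822302041700741591259686774130,2,2536))) (.leaf (12137521654833023949217837991131970226656710,1222,2))) (.node (.leaf (21752667723449118189692773517332453302904148,707,1)) (.leaf (16339454125839842641895903578271720690038497,1938,0)))))))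

noncomputable def sel0_10011 : Tr (ℕ × ℕ × ℕ) :=
  .node (.node (.node (.node (.node (.node (.node (.leaf (14091420302772768536007304066958050389770768,14,1)) (.leaf (11151452012367314583113825350600427836498134,2065,1))) (.leaf (19352349344292727975246925701448068061201901,749,1))) (.node (.node (.leaf (16687450099217749307094218814815391121940483,337,1)) (.leaf (20571920750622390560922141565447422591885980,2489,1))) (.leaf (18459532101053360862197338522427730529519426,1276,2)))) (.node (.node (.node (.leaf (16421296272269826797442103118714952523891706,167,1)) (.leaf (11586106871430457947730253521317999026820707,2328,4))) (.leaf (16389235560768698343416889976572781923718864,1007,1))) (.node (.leaf (21419741024580157037161990808930992047104544,517,1)) (.leaf (11184967200134935172572526752736639659918668,1610,2))))) (.node (.node (.node (.node (.leaf (14141340703169148231250007060483925586436326,85,1)) (.leaf (11152951321404327137144963398361338864738963,2179,0))) (.leaf (20386422023469883085903985943356146303632512,864,1))) (.node (.leaf (20402178662577112627590136100718435602397166,433,1))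 (.leaf (18190900007739058995137892660131525493294887,1421,0)))) (.node (.node (.node (.leaf (11668772902455093607327272570781844234506908,247,1)) (.leaf (11609578898378506590764216464883984672096800,2426,2456))) (.leaf (15926197424548659541099582744508369597290063,1127,2))) (.node (.leaf (11902000722494868173058405169211066904199264,625,0)) (.leaf (20490241443540494971849510478115199240328098,1789,2)))))) (.node (.node (.node (.node (.node (.leaf (20504684675321088359002598407896171061363706,49,1)) (.leaf (11151096042088615813875145079037556076036144,2120,1))) (.leaf (20341376734872491404301240939287267110299361,803,0))) (.node (.node (.leaf (15628271000585560262698849927644749898286420,380,2)) (.leaf (11152716049001239851630170934973981656096769,2647,2648))) (.leaf (17009663260726391215343989865902548352075178,1339,0)))) (.node (.node (.node (.leaf (21876075630028218997983754828934992810221571,205,1)) (.leaf (15061106631386062505069008262469401755383790,2050,2392))) (.leaf (13012400536471613901689773054552294438215683,1065,0))) (.node (.leaf (12632039462913696727678330013974839005869056,575,1))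 (.leaf (19137765277418922046160301702700359858425892,1688,2))))) (.node (.node (.node (.node (.leaf (18981456121267452472716674543547588072351004,120,1)) (.leaf (11152674079147477076122809887440427660752405,2247,1))) (.leaf (13039958113655921920978813799474280787681544,936,1))) (.node (.leaf (12006523532982587346718344758601884159104001,477,2)) (.leaf (16368904548363305343417680629717087275946943,1510,2)))) (.node (.node (.node (.leaf (21250736244107228820250425629005101435723906,297,1)) (.leaf (19793165137244863958616047530493850048894699,2482,2520))) (.leaf (21811396724844287608503626213409498320609283,1204,2))) (.node (.leaf (20069258833025230768078090432722531972923866,694,2)) (.leaf (13466825526028176311184398491308205075858925,1888,1))))))) (.node (.node (.node (.node (.node (.node (.leaf (17423821386573539485851281394020345247495296,33,1)) (.leaf (11151945077302681778935158256595045495874417,2092,1))) (.leaf (14429791187310522455960951965400801392371028,775,1))) (.node (.node (.leaf (12127088227646636829160451631937131257320143,363,1)) (.leaf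 (11151683223355179434879975347714986757595137,2614,2616))) (.leaf (12970205854561202990759414174237761558545409,1310,1)))) (.node (.node (.node (.leaf (13405089046227213916924373072057043044909576,185,0)) (.leaf (11152491674592706228923657642788737557307393,2357,2351))) (.leaf (17275619010217852965975457849854629438932312,1038,2))) (.node (.leaf (14598768989567094190447741712499894842876834,547,2)) (.leaf (22094842951992895613340659999362892504073642,1648,2))))) (.node (.node (.node (.node (.leaf (15054094737997244682470020699142903706951683,101,2)) (.leaf (11150388707438950925561447736350525638083449,2209,0))) (.leaf (16324592036259485091806341745933107590013182,892,2))) (.node (.leaf (19606466855325251474823655967896360267871232,453,2)) (.leaf (12557609563120713052474579583012124937249010,1468,1)))) (.node (.node (.node (.leaf (18680313656998183034014687337055502699255395,276,2)) (.leaf (13927834880322120773958447777069214683985466,2488,1))) (.leaf (16709389151661411362772402503088167135069528,1167,0))) (.node (.leaf (15697236222608680816727508403850131661948207,661,0))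 (.leaf (18235032053316139226821411002029138555376888,1835,1)))))) (.node (.node (.node (.node (.node (.leaf (18549475211009124579165804666682026775027715,66,1)) (.leaf (11151688813450167021642143431374479908709856,2150,0))) (.leaf (17238707778968548961727205607577463340463232,834,2))) (.node (.leaf (17882413206755449228163455188223451642890050,403,0)) (.leaf (12997991651089695305905386661133100690556236,1376,0)))) (.node (.node (.node (.leaf (15255541899214440252840338466742510488133635,224,1)) (.leaf (14091774788470310769054491534492097435279617,2386,131))) (.leaf (16922344459482485179116255964178812413949496,1098,1))) (.node (.leaf (17789256648740808068718908897272036419621356,600,0)) (.leaf (17718327777343472672165512205629927405732565,1740,1))))) (.node (.node (.node (.node (.leaf (13003247444777517561772356970464720518906778,140,2)) (.leaf (11152842384083591061106740869784796743103161,2282,0))) (.leaf (17256293693419957972853606708171212993078708,966,2))) (.node (.leaf (11560073067582316082654397273651404265673729,498,0)) (.leaf (14773541147185359030128707147967408417215055,1565,1))))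 (.node (.node (.node (.leaf (13181863813527078284892399329581803098194440,316,2)) (.leaf (11151027991883663765534155844992018616950785,2548,2547))) (.leaf (16982813777830603954639322199232400159809793,1238,2))) (.node (.leaf (21463368859539433779907929454212731716460758,727,2)) (.leaf (15895080496375993186459039689941303032808941,1982,2)))))))

noncomputable def sel0_1001 : Tr (ℕ × ℕ × ℕ) := .node sel0_10010 sel0_10011

noncomputable def sel0_100 : Tr (ℕ × ℕ × ℕ) := .node sel0_1000 sel0_1001

noncomputable def sel0_10100 : Tr (ℕ × ℕ × ℕ) :=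
  .node (.node (.node (.node (.node (.node (.node (.leaf (11222969717583379048332056153324299225153548,3,2)) (.leaf (11151031013168114287854234728914234885809309,2051,0))) (.leaf (11794187336023921745517199003564460795155457,734,0))) (.node (.node (.leaf (12170425047895653293730315499445916453920950,323,2)) (.leaf (15130636915267976030901418901067203607486718,2050,2564))) (.leaf (13785857061946619032890530938964716707193096,1258,1)))) (.node (.node (.node (.leaf (18954294500898901858475977507998855169269990,152,2)) (.leaf (11151575663655667901554868128288786165855240,2301,0))) (.leaf (18132795862753368837858509151174215313744114,987,1))) (.node (.leaf (14408013115827582394299295990525168226837844,505,1)) (.leaf (18839052799725564717529529088210106052354564,1577,1))))) (.node (.node (.node (.node (.leaf (19835895759236220037849235874020251006117434,72,2)) (.leaf (11152285595270172435766728644130452532101378,2162,1))) (.leaf (15687394755049880161571455873886508170871706,849,0))) (.node (.leaf (13101080197921456955519970523662416857397230,416,1)) (.leaf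 (19513154709118824306798137847919274604745587,1390,2)))) (.node (.node (.node (.leaf (14935676805896543555723865906763654747915265,233,1)) (.leaf (12343895888183449497329407413741254097248259,0,2436))) (.leaf (14918761883051999506243906275620561184896568,1110,1))) (.node (.leaf (16864176224218864395089038773501898578896204,607,0)) (.leaf (16592130008465838241040627370083188504187136,1768,1)))))) (.node (.node (.node (.node (.node (.leaf (21617240325370532852745455290108836956513612,38,2)) (.leaf (11152842385057057742978853574787394048041718,2103,1))) (.leaf (14299450833984605977353349081763596808442447,783,2))) (.node (.node (.leaf (13705670310502765405710890800785998638392660,368,2)) (.leaf (11151733920627962795011379766349954155552769,2625,2597))) (.leaf (18566491987684008530736839117582103276274184,1323,2)))) (.node (.node (.node (.leaf (19090984366373030066902149932870423218062676,192,0)) (.leaf (20577449217549221832630249221033032576353000,2050,2372))) (.leaf (18245362379461500310941901096167724592144514,1046,2))) (.node (.leaf (11462637724700101289726496315987838574092470,554,2))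 (.leaf (15272880594390660392142417759398628294484198,1662,1))))) (.node (.node (.node (.node (.leaf (17494600118893094686251663312366153035478144,107,2)) (.leaf (11151544077210135800881303927060967517651190,2223,1))) (.leaf (20559559475091168357504903976510859581564620,910,0))) (.node (.leaf (18887354246075136667537074567113924661960958,461,2)) (.leaf (18316366084131534009358840248268363177746662,1483,1)))) (.node (.node (.node (.leaf (19601022337454516459408241974177451976487936,287,1)) (.leaf (12229623709472494151385998578501617278965106,2389,2500))) (.leaf (20451756237918703270888953867983045800232064,1182,1))) (.node (.leaf (21437673614353932223799746027685933871527821,672,1)) (.leaf (14500051206264963203835488019852173084115674,1851,2))))))) (.node (.node (.node (.node (.node (.node (.leaf (17395893010901176969334085524502045102449821,21,0)) (.leaf (11153056655601557841042047644893805412274432,2076,0))) (.leaf (20374143875098888648397029082262429352915968,758,1))) (.node (.node (.leaf (11440859653217161228064840341112205408559286,346,2)) (.leaf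 (11151028074960437771395285996047550279327745,2584,2596))) (.leaf (17940444386880336757706973889910423104582656,1286,1)))) (.node (.node (.node (.leaf (18600291876293544264168071154084552591975764,175,1)) (.leaf (20506274431357149164581857691631119884272634,2339,2340))) (.leaf (18660379294970228638875580746442455761875103,1022,1))) (.node (.leaf (19007819607844545208133591591454618964304416,526,1)) (.leaf (14898670680122748348783681253396298519749366,1624,1))))) (.node (.node (.node (.node (.leaf (20923566834302788716399392761442105726320736,91,2)) (.leaf (11150420845799764231459889182425262340638403,2189,1))) (.leaf (19504129836858013952596417940562784045147420,876,1))) (.node (.leaf (20934862414255765646355770361439907972678959,440,0)) (.leaf (13399716482687333901251703128340908090913792,1437,1)))) (.node (.node (.node (.leaf (12294729405430213448920686139718314233283088,260,2)) (.leaf (18083860409771680315996533753445273283339700,2050,2468))) (.leaf (17265349529319498002814947344779821067465885,1141,1))) (.node (.leaf (16912035045511048754238940280886592371826945,640,0))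 (.leaf (18497531971025706292009829442945502337147408,1804,1)))))) (.node (.node (.node (.node (.node (.leaf (15048650220126509667054606705423995415568387,56,1)) (.leaf (11150479514834916000517878860646343254312857,2131,0))) (.leaf (15599907899877309321687593498186067634091136,813,1))) (.node (.leaf (16248946037849352020056045211600295115982164,389,0)) (.leaf (17956777940492541803953215871067147978732544,1350,1)))) (.node (.node (.node (.leaf (20761963469826145686207456874728808033219954,212,2)) (.leaf (11152935683474050525672263635449167415201793,2354,2399))) (.leaf (17455446046071827613283194219041044028154110,1077,2))) (.node (.leaf (13312167946442480882153144998951834285465854,581,1)) (.leaf (15028735949200375056950999308489231462384341,1708,1))))) (.node (.node (.node (.node (.leaf (15376682367895500300423726063941940410241183,126,2)) (.leaf (11152673562469253531687331168209846281576909,2265,0))) (.leaf (18328060377342246267671085034298662816221057,952,2))) (.node (.leaf (13067850943074585637909473247803291609711120,486,0)) (.leaf (11179126667041966835875177693549051417908835,1542,1))))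 (.node (.node (.node (.leaf (13133185157523405822894441172430191106310672,306,0)) (.leaf (16417162164595916390222790501824713334884272,2459,125))) (.leaf (21900131960641518153547434229449563389130678,1220,0))) (.node (.leaf (19541159073194987564415251326127683169211509,703,1)) (.leaf (16602616486115598441424891006221971247612224,1924,2)))))))

noncomputable def sel0_10101 : Tr (ℕ × ℕ × ℕ) :=
  .node (.node (.node (.node (.node (.node (.node (.leaf (21441519428265039346816195587484243757220368,11,1)) (.leaf (11152211234471613805758610829664177889981731,2063,0))) (.leaf (12506841984205347647700371441298170701993077,747,1))) (.node (.node (.leaf (13231542712356483730699285872745359544943617,334,2)) (.leaf (11152125934146621819870915907351976859402241,2577,2580))) (.leaf (18692201188674546876079950244233732178953075,1274,0)))) (.node (.node (.node (.leaf (17379531417519189510554966013242811807351802,164,2)) (.leaf (15066342243965255767204856825705303078084609,2322,1))) (.leaf (15350242993039993826646041753365976774083712,1005,1))) (.node (.leaf (19052872408254340592085464248503031714981196,514,2))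 (.leaf (16814410204938507470031996436803244646565510,1608,2))))) (.node (.node (.node (.node (.leaf (20232458781784337588231898721950756492198906,82,1)) (.leaf (11152904891613432794791826794739447835919241,2176,1))) (.leaf (15403299059117819574124052816899159319966720,860,2))) (.node (.leaf (21995856187180467614809850732747755046102587,430,2)) (.leaf (18446792347663604719662350364920215188309799,1416,0)))) (.node (.node (.node (.leaf (18300195669010342383301516920412143139361436,243,1)) (.leaf (11151734014711964832592850625449229945962497,2446,2440))) (.leaf (20129390289810328368375895179477879089021448,1122,1))) (.node (.leaf (15181932007650821555954981445594915815506664,622,1)) (.leaf (20859831598737544736924425464697497166316278,1787,0)))))) (.node (.node (.node (.node (.node (.leaf (11425102871354583995090459048312515486983500,47,1)) (.leaf (11151260680996746508765766189197432553656815,2117,0))) (.leaf (20205263788104116018915891096314559825716961,800,2))) (.node (.node (.leaf (12174949680072100861789029474224713278267936,378,1)) (.leaf (11150699630893218935767462704447204669984769,2641,2644)))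 (.leaf (22297852033865655630650214346139058221965554,1336,2)))) (.node (.node (.node (.leaf (13780733144733126733499193695146939623941277,202,1)) (.leaf (11156503000833168657082039104218334023852044,0,2388))) (.leaf (16617426544291728011761373416215708298441728,1062,1))) (.node (.leaf (18443114859879980400872788750390383400191469,571,1)) (.leaf (11842512416782284818647021169169217257276852,1686,0))))) (.node (.node (.node (.node (.leaf (20363861036770447810174838002230822594475136,118,1)) (.leaf (11152989038542174579192026690715144705126889,2245,0))) (.leaf (16917479563381783769654354274605500663210241,933,2))) (.node (.leaf (19040558407062351920048702249298542050894038,474,2)) (.leaf (21256055902029316036131398854080852599513091,1501,2)))) (.node (.node (.node (.leaf (15283769716463736911982968691398966202712592,295,2)) (.leaf (14341165799937342388748803889243465656669025,2490,2516))) (.leaf (13394296879246195189927988034326239597573688,1200,1))) (.node (.leaf (19846840116866501397351306225691586834998129,689,1)) (.leaf (13210801253140390726066886688607412607137507,1881,0)))))))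 (.node (.node (.node (.node (.node (.node (.leaf (13731840031489672824536201743913280802767322,31,0)) (.leaf (11150710412510871571830157979013103677677832,2088,1))) (.leaf (17460890563942562628698608212759952319537406,773,1))) (.node (.node (.leaf (16106248148104571870037874556328937395323905,360,1)) (.leaf (11152492028722315135917827256329286729535489,2612,2229))) (.leaf (16454569775217518528401857901199681420318416,1307,1)))) (.node (.node (.node (.leaf (20979594179827203130173610238386931010020636,182,2)) (.leaf (11151733811850347192975023214376417228439553,2354,2351))) (.leaf (21795394469102469765492890344822936477992362,1036,2))) (.node (.leaf (18784352615531767130040387915060175206466010,538,0)) (.leaf (20172254136006423575192700633133853162136045,1642,2))))) (.node (.node (.node (.node (.leaf (18729144300743380087874466459406000390676483,99,2)) (.leaf (11151513436185596353798025468380911836419035,2206,1))) (.leaf (19378046823648896241048764046268534878126600,890,2))) (.node (.leaf (22148784025155237635412229140262005480814350,452,0)) (.leaf (12888163232579984545875596620688971774920106,1463,2))))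 (.node (.node (.node (.leaf (11696663021545115347300010201555007028311331,275,0)) (.leaf (11215709638449946592290289743437528232284161,2389,0))) (.leaf (20746164440706176237257226136250195177726194,1165,1))) (.node (.leaf (20713562499537657244178731922055763162203970,656,0)) (.leaf (14904115197993483364199095247115206811132662,1829,2)))))) (.node (.node (.node (.node (.node (.leaf (14157674256781353277496249041640650460586214,64,2)) (.leaf (11151002931850687307897576956593355729953580,2146,1))) (.leaf (18593686663239893497993955925534698113081347,830,0))) (.node (.leaf (17118534724987868590584539979059524564680964,401,1)) (.leaf (19319682237068317882754441739134618312902125,1364,1)))) (.node (.node (.node (.leaf (18523015757736486390100516216552577220067802,221,2)) (.leaf (11150713507706642103555025952955038276517889,2376,2376))) (.leaf (19856159334975130277969219452210496961893235,1095,1))) (.node (.leaf (13432283556909756842140882909992645344896737,597,0)) (.leaf (20418458805690122118612214493815333218015191,1734,1))))) (.node (.node (.node (.node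 (.leaf (20112221857001492088268567685128383333062243,136,2)) (.leaf (11150951444719807766244184817295163198584457,2278,1))) (.leaf (17613985851224754993387213407480179080560900,964,1))) (.node (.leaf (21365367537866203502430477567272382471561430,494,2)) (.leaf (20729622138909380401311432972270082028615651,1563,0)))) (.node (.node (.node (.leaf (18937112567518386627155836368639284514611414,314,1)) (.leaf (11150543185727306954683849713879415854735361,2531,2547))) (.leaf (15045604037463206012710868595008178173429473,1233,1))) (.node (.leaf (16743256353449989169692638487387921547448479,718,2)) (.leaf (13459736258188393044901299526014548100174319,1973,0)))))))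

noncomputable def sel0_1010 : Tr (ℕ × ℕ × ℕ) := .node sel0_10100 sel0_10101

noncomputable def sel0_10110 : Tr (ℕ × ℕ × ℕ) :=
  .node (.node (.node (.node (.node (.node (.node (.leaf (15061683359972810138068594246428700312916687,7,2)) (.leaf (11150375424680238629618187202685658785128451,2056,1))) (.leaf (19423128076612283175647307619793875849184749,742,2))) (.node (.node (.leaf (14849127840297280878114000409148795814502582,328,2)) (.leaf (11152126136912882539842163478743378298937345,2569,2529))) (.leaf (19290986433422929472583937246278976267519178,1265,2)))) (.node (.node (.node (.leaf (20890787912516599292672768786932269000873571,159,2)) (.leaf (11151733824566608539469849333446094635434332,2311,1))) (.leaf (19336015790680522929000683720291343187052013,995,1))) (.node (.leaf (20804160753884967714611430405394471877879521,510,0)) (.leaf (21023022519016674386147013581519353885853318,1597,2))))) (.node (.node (.node (.node (.leaf (20259681371138012665308968690545297949115386,77,2)) (.leaf (11150463007867840923102765580407085266699057,2169,1))) (.leaf (16644054937212591177787434578461267638469976,855,0)))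 (.node (.leaf (11855322161860305092671117082407341036926861,425,1)) (.leaf (15039685965773006417653490189310586012917942,1407,1)))) (.node (.node (.node (.leaf (13755253278611263984729305603734674051314860,238,1)) (.leaf (11150713309711295102423786912082682277380097,2440,2376))) (.leaf (15114764526398460061198810049501259674695224,1116,1))) (.node (.leaf (20624893689539988542489871901137759078164172,615,0)) (.leaf (11995790033112526433232036936023418184377912,1776,1)))))) (.node (.node (.node (.node (.node (.leaf (20254236853267277649893554696826389657732090,42,1)) (.leaf (11152654097509848010595483293594771572932928,2111,0))) (.leaf (19482989596899595361718879794315802663044742,791,0))) (.node (.node (.leaf (18921566424689367303147120612639596867134748,372,2)) (.leaf (14151086293804087570096520764957213950539259,2635,2636))) (.leaf (13939982301042970273711648192148967132557471,1327,2)))) (.node (.node (.node (.leaf (16792257399817183812380037764911382109619201,196,2)) (.leaf (11152993857723318977959493009902440163176449,2378,2376))) (.leaf (12040361843895602272345932136954232733435373,1055,2)))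 (.node (.leaf (20689452565861183053536591031529049196839008,566,1)) (.leaf (17739318782196262979596405052310414785765878,1670,1))))) (.node (.node (.node (.node (.leaf (19497601489730553856487119651516631610302594,113,2)) (.leaf (11151962943697572420517491644370523894297199,2232,0))) (.leaf (17319353515436836283503563280884990806597869,924,1))) (.node (.leaf (11386305697569648838744529476531066509108564,467,2)) (.leaf (13328962664797375004943020109699340100974136,1494,1)))) (.node (.node (.node (.leaf (18881909728204401652121660573395016370577662,291,1)) (.leaf (16744499209780348935712883441986986699126669,2491,2508))) (.leaf (20565305625778031579749142884725718213645313,1194,0))) (.node (.leaf (11260833157613021745110040646671414369843182,678,2)) (.leaf (20880211341744165724931098022281453785499236,1869,0))))))) (.node (.node (.node (.node (.node (.node (.leaf (16155623291933091487297059333712621229835162,24,2)) (.leaf (11151028234905548630853476487533693113397740,2082,0))) (.leaf (17085663039862442320431221874760788294877658,766,1))) (.node (.node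 (.leaf (14930231902495229036359778578991460516810911,351,1)) (.leaf (21807612628624560998252130200731873566119918,0,2604))) (.leaf (15974999867863552467319085440242752313152629,1297,2)))) (.node (.node (.node (.leaf (21278994668695171848551756063787431952557396,179,1)) (.leaf (11150463008193598882476640609215407487665511,2346,2348))) (.leaf (13673331488853609078698531687942223028028544,1026,1))) (.node (.leaf (19340291377790591522845113491307176537280671,531,2)) (.leaf (17147129379965740257969025105228426298406883,1632,0))))) (.node (.node (.node (.node (.leaf (18578513804810604202506415179208919426442580,96,1)) (.leaf (11151945395960269908882206575926194068784423,2198,1))) (.leaf (16094777743130762835973328918904752123688504,885,1))) (.node (.leaf (12255613716435525036634215969620821761386043,444,1)) (.leaf (16704546961241856521226889890942050754322960,1445,0)))) (.node (.node (.node (.leaf (14950650062449357667264142860480425996117563,268,2)) (.leaf (11156101774204171061146688029720630984687712,2050,2476))) (.leaf (20673119012248978007290349050372324322689120,1153,2)))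 (.node (.leaf (13089312162526608432744205412493060089349423,646,2)) (.leaf (12686070220236580256944006114292844178977263,1823,1)))))) (.node (.node (.node (.node (.node (.leaf (12365508137749768649321068058064122021265936,60,1)) (.leaf (11151355311052039617789676447993107595662592,2140,0))) (.leaf (17287030288061279908114550593638654801199624,820,0))) (.node (.leaf (12231003698731538744426490505618860046296500,395,1)) (.leaf (21289047527222649725282366557633036609836623,1357,1)))) (.node (.node (.node (.leaf (12311134318833872866597006012727893901140182,217,1)) (.leaf (11151156849309865487437969857108798785720321,2362,2399))) (.leaf (21114606104323762273215207287185277966124839,1087,2))) (.node (.leaf (12377255944065878773819500162511830624412956,590,2)) (.leaf (12822829018131164360890628696062072278320554,1718,2))))) (.node (.node (.node (.node (.leaf (21268903322352628816550959281384408883300162,132,0)) (.leaf (11150375262933092607650794674526916924731424,2272,0))) (.leaf (15898165025052590156738136546693365802391139,958,1))) (.node (.leaf (17499438439350800509058440398678851502535680,491,1))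 (.leaf (12464192727077124874142677614266467709654470,1551,1)))) (.node (.node (.node (.leaf (14222063331008599716075002710490074394318415,310,0)) (.leaf (11152493163638882350692689208128324228886529,2540,2213))) (.leaf (20542450391786593465775196294660368823091744,1226,0))) (.node (.leaf (22286428196879748905541300563235377823150239,711,1)) (.leaf (20591170576791670103699310377343745238431288,1952,1)))))))

noncomputable def sel0_10111 : Tr (ℕ × ℕ × ℕ) :=
  .node (.node (.node (.node (.node (.node (.node (.leaf (14994888099701354524948904676048679449075724,16,2)) (.leaf (11152989118526970174711758951652803493136194,2070,0))) (.leaf (20091053937640670536767244966877635371081858,752,0))) (.node (.node (.leaf (20962052216232612066430251410386975958508701,339,2)) (.leaf (15714948754872397870285391380862183511175530,2585,2523))) (.leaf (20550131140118580141419064409023190445544354,1282,1)))) (.node (.node (.node (.leaf (19878917398702280732690142184435789141562959,171,0)) (.leaf (11151158618389957801821867408219401086836737,2332,2332))) (.leaf (13155319375917287400166710318396244802991232,1013,1)))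 (.node (.leaf (19161763098692585267302531851216231006045524,522,2)) (.leaf (17167929132897899876043603331516054215066625,1615,1))))) (.node (.node (.node (.node (.leaf (20516460493078096964775985088883787429029434,88,1)) (.leaf (11152824063745796798265547835350445784252814,2182,1))) (.leaf (17706227751270507191011924925099275938886124,867,0))) (.node (.leaf (19638548802247545747127550231583361982715491,435,2)) (.leaf (20836828025982719849144521337724914162999299,1428,0)))) (.node (.node (.node (.leaf (22046023964076032989106344599021047611069084,252,2)) (.leaf (15059858105595744548212642048730287161311244,0,2460))) (.leaf (16084088442799974988146588562356710047405647,1130,0))) (.node (.leaf (12860921750073086535730796890873240702943492,630,1)) (.leaf (21561311735093072425236525947664251744002564,1794,2)))))) (.node (.node (.node (.node (.node (.leaf (15948731612845160901511327572394106157269914,51,2)) (.leaf (11152653683810597723520210628324596198504374,2124,0))) (.leaf (19002375089973810192718177597735710672921120,805,2))) (.node (.node (.leaf (14152806601450015270028579943504585398797958,382,2))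 (.leaf (11151543840921356459972497830600410604249089,2624,2650))) (.leaf (14386949046182393916389363429803706319635949,1341,2)))) (.node (.node (.node (.leaf (12959316818819732959928586186799944975778817,207,2)) (.leaf (15059538080133615277411644949259304051205691,2050,2396))) (.leaf (17091107557733177335846635868479696586260954,1069,2))) (.node (.leaf (21528606313534990403560582281265001430701647,577,2)) (.leaf (19895051660884510448459906311012525805597853,1695,1))))) (.node (.node (.node (.node (.leaf (18528460275607221405515930210271485511451098,122,0)) (.leaf (11152491468522790793045871469741149009953754,2253,1))) (.leaf (11283434987679777577435374530595122606290825,945,0))) (.node (.leaf (21587835109959704313582415451692437188075774,479,1)) (.leaf (18093650048335743698495709901200704533669432,1516,1)))) (.node (.node (.node (.leaf (12001079015111852331302930764882975867720705,301,0)) (.leaf (11150375883764421944674583306678572839202817,2054,2524))) (.leaf (21261500419900051051546812847799760890896387,1207,0))) (.node (.leaf (13638681072566862668478910045623890794890584,697,0))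 (.leaf (18517813245348729579729158015867969958928614,1907,1))))))) (.node (.node (.node (.node (.node (.node (.leaf (11924277131538147413646254388515198296137858,35,1)) (.leaf (11151155516503368838777422622136023547655736,2095,1))) (.leaf (17592598689788446313210415393844751483998701,777,1))) (.node (.node (.leaf (18152507908035736320498357750583319605475086,365,0)) (.leaf (11150394295061951550073309638226889565806593,2532,2620))) (.leaf (21017578001145939370731599587800445594470022,1314,0)))) (.node (.node (.node (.leaf (21946854362347774198384136747280800598204419,187,2)) (.leaf (20939618555582684124219682525407736642850817,2344,32))) (.leaf (14392393564053128931804777423522614611019245,1040,1))) (.node (.leaf (21348962292260601836761608890585184259121696,549,1)) (.leaf (17199285272476766836537686535000069892458409,1652,1))))) (.node (.node (.node (.node (.leaf (20250666616673232535292252908681871748089478,103,2)) (.leaf (11151039954931939916619587542340615229407520,2214,1))) (.leaf (13504908974832548435594314690954498724185734,896,0))) (.node (.leaf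 (19666356551903336644393209898804351473087488,457,1)) (.leaf (18143666376989554553025019095850427374110189,1470,2)))) (.node (.node (.node (.leaf (12599244727013845975821479528041331972817914,279,2)) (.leaf (11151058482962433641666625110499425732468748,0,2050))) (.leaf (21636677824676600313722066818700170836952408,1173,0))) (.node (.leaf (14543009070328847998630093422486413732038564,665,0)) (.leaf (11335650013245951147758790702525683539756376,1842,0)))))) (.node (.node (.node (.node (.node (.leaf (15354904296412560238762070089066307244707999,68,2)) (.leaf (11151904356724744737070434250888144240432159,2155,0))) (.leaf (20016552404397982687522528865084832753222996,841,2))) (.node (.leaf (13689919064162443799744337679107774554715308,408,1)) (.leaf (15818340966446550592029476025172327659794591,1378,1)))) (.node (.node (.node (.leaf (22269442377776609320286515446133123241214977,226,2)) (.leaf (11223655710137388424720141280712908705801548,2050,2428))) (.leaf (15017907894290066355991834214434952847384758,1101,1))) (.node (.leaf (20609427600527942223737154802713932908667134,602,1))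 (.leaf (13083942577203071269976584067868036984431120,1748,0))))) (.node (.node (.node (.node (.leaf (13024803902946715753166329731665978485614138,143,1)) (.leaf (11151856130749960155055898607775711585486173,2286,1))) (.leaf (14875593928318017687006114871218827859268252,977,2))) (.node (.leaf (11555085751562434316622363281817223541990740,500,1)) (.leaf (20484796925669759956434096484396290948944802,1569,1)))) (.node (.node (.node (.leaf (20738826539436147529626462480767572381279969,319,0)) (.leaf (18627067412067655124456483299087298998138418,2425,2458))) (.leaf (13018180042172981859317157824598647622148360,1243,1))) (.node (.leaf (11244945955029137643081721301289362897825951,730,1)) (.leaf (16334009607969107626480489584552812398655201,2025,2)))))))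

noncomputable def sel0_1011 : Tr (ℕ × ℕ × ℕ) := .node sel0_10110 sel0_10111

noncomputable def sel0_101 : Tr (ℕ × ℕ × ℕ) := .node sel0_1010 sel0_1011

noncomputable def sel0_10 : Tr (ℕ × ℕ × ℕ) := .node sel0_100 sel0_101

noncomputable def sel0_11000 : Tr (ℕ × ℕ × ℕ) :=
  .node (.node (.node (.node (.node (.node (.node (.leaf (11217525199712644032916642159605390933770252,2,0)) (.leaf (11151380652575860211683747458747573042790928,2049,1))) (.leaf (11821409925377596822594268972159002252071937,732,2))) (.node (.node (.leaf (19405625592239411707830081415934076033880223,322,2)) (.leaf (15131631418569689171052508494615800820114426,2,2562))) (.leaf (19786740481259136893577528964470170222207233,1253,0)))) (.node (.node (.node (.leaf (12849692549067656684930523239111113376449530,150,2)) (.leaf (11151380520486900205383374900727773664321654,2300,0))) (.leaf (13977098341159195951564832697225001847071236,986,1))) (.node (.leaf (19905479087902584550219491392549775150637310,504,1)) (.leaf (12218519068911785972386112726017623730266628,1576,1))))) (.node (.node (.node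 (.node (.leaf (18311752234488159077028012570028581059015971,72,0)) (.leaf (11152268281339922060480655084297213870458187,2160,1))) (.leaf (17814747130113094914198002347945471346458720,848,1))) (.node (.leaf (16841463975116412545909384208552413037721582,415,2)) (.leaf (18120338185592859349519588408195720566281472,1388,0)))) (.node (.node (.node (.leaf (21669183950940288412198023067616477737656323,232,1)) (.leaf (11222230744686869783514207268946235624480982,2050,2434))) (.leaf (14945984472405674583320976244215102641813048,1108,2))) (.node (.leaf (17887168665160434516030157943259787217019134,606,1)) (.leaf (16580838414632658379763235031346338082079040,1767,2)))))) (.node (.node (.node (.node (.node (.leaf (17390448493030441953918671530783136811066525,37,2)) (.leaf (11151026600535592348617835373979759232423816,2101,0))) (.leaf (20798716236014232699196016411675563586496225,781,2))) (.node (.node (.leaf (14674337289642744900271201680866946936919041,368,0)) (.leaf (11151683409879148152632959049321037386752001,2623,2622))) (.leaf (11505503030719389515790537610712044552902352,1318,2))))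 (.node (.node (.node (.leaf (12164980530024918278314901505727008162537654,191,1)) (.leaf (13547313668413932214272475532666715221918240,2369,2370))) (.leaf (12501397466334612632284957447579262410609781,1045,2))) (.node (.leaf (18175164553453298223946518835460802181255327,553,2)) (.leaf (17925499945897656118136860782409598598382720,1661,1))))) (.node (.node (.node (.node (.leaf (13868551216983574419585943495573230974203008,106,2)) (.leaf (11152926688792584656687781387451500995842533,2222,0))) (.leaf (13129236964894643820115039082330810689955148,908,0))) (.node (.leaf (21571865852329737040045363650419480119853576,460,1)) (.leaf (14751126405466370269668692638621570515977548,1479,0)))) (.node (.node (.node (.leaf (15446863160771202680391609765369392588505562,286,1)) (.leaf (14929152658623536744028585676924076913311840,2389,2498))) (.leaf (20391866541340618101319399937075054595015808,1177,2))) (.node (.leaf (13683043948554073863458309942428392701821188,671,1)) (.leaf (17227212545814049738287740712733436933370880,1847,2))))))) (.node (.node (.node (.node (.node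 (.node (.leaf (17515672404057347308473193386318027512882333,20,0)) (.leaf (11152389177391829432490683688430946397250466,2075,0))) (.leaf (16780489404610512435814031333418430176884494,756,2))) (.node (.node (.leaf (14593324471696359175032327718780986551493538,346,0)) (.leaf (11151027919061994995715232475357972524965889,2423,2594))) (.leaf (12240297140394726034047768700893256895799812,1285,1)))) (.node (.node (.node (.leaf (18583958322681339217921829172927827717825876,173,2)) (.leaf (15311786850954861568072289595763011723806628,2337,2338))) (.leaf (18720268991548313808445134677350446967091359,1020,2))) (.node (.leaf (14102309006312296318845583250718248427954720,525,1)) (.leaf (18561382388318078931343415408545783191806468,1622,1))))) (.node (.node (.node (.node (.leaf (12323345078607954930475425255661793417508012,91,0)) (.leaf (11151775198077886229263198794917466316858021,2188,0))) (.leaf (14532779825003634499470437844175331360953345,871,0))) (.node (.leaf (11718441093028055408961666176430640193844515,439,0)) (.leaf (11172916632244215579291624696026383852618202,1435,1))))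 (.node (.node (.node (.leaf (19447990676771820207588060451421571784300131,256,2)) (.leaf (18082608048932476351116374634008248504874112,2050,2466))) (.leaf (19677270502074402979315736785946407853897272,1138,1))) (.node (.leaf (13695363582033178815159751672826682846098604,637,2)) (.leaf (22036468534440673406641120534799808856425812,1802,0)))))) (.node (.node (.node (.node (.node (.leaf (18734588818614115103289880453124908682059779,55,1)) (.leaf (11151889760657824070644598344134787810427450,2128,1))) (.leaf (14647680532073100343858831680509353843958014,812,1))) (.node (.leaf (12572050177429953311277287089549298936849565,386,1)) (.leaf (18201076560692009672973861379279195506984873,1345,1)))) (.node (.node (.node (.leaf (22112334002574655101029716112414937654285007,211,1)) (.leaf (11152125162039576773552216168993905702998017,2352,2399))) (.leaf (17027023933749724014251382630769968346886303,1076,1))) (.node (.leaf (18108788190560029463132873465310038994149630,580,2)) (.leaf (11642245833603195468563495215328274221974229,1706,1))))) (.node (.node (.node (.node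 (.leaf (17951939620034835981146438784754449511675008,124,2)) (.leaf (11150657217065345531974781193276253115158772,2262,0))) (.leaf (19510314288113736766743192251192398721841037,951,1))) (.node (.leaf (21236124074419081773666475729785256559682892,485,1)) (.leaf (14396364867632150614126756892980422313936074,1537,1)))) (.node (.node (.node (.leaf (21300772740178111910213412038663065118090580,305,1)) (.leaf (11150393946853510611892808144941175917256705,2530,2529))) (.leaf (13449886600511396952467753062349529739632894,1215,2))) (.node (.leaf (19671801069774071659808623892523259764470784,701,2)) (.leaf (13149276791651891454961551992494936481030672,1919,0)))))))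

noncomputable def sel0_11001 : Tr (ℕ × ℕ × ℕ) :=
  .node (.node (.node (.node (.node (.node (.node (.leaf (18535643210534514127621134845206744033568076,10,1)) (.leaf (11152877254675021776135469404386116846601862,2062,0))) (.leaf (12479619394851672570623301472703629245076597,745,2))) (.node (.node (.leaf (19345735895661326538260527485026084828663967,333,1)) (.leaf (11152491960821873744840633847953564922232833,2360,2578))) (.leaf (15501512917379569012206583844543762023842052,1271,2)))) (.node (.node (.node (.leaf (17641755057330008825437396405300209578649146,163,1)) (.leaf (14821148749610667532851974934029744945435292,78,2322))) (.leaf (19651004015591450501462687164354464457262726,1004,0))) (.node (.leaf (21359851328002071867592436878023000841888288,512,2)) (.leaf (18779150103144010319669029714375567945326822,1606,2))))) (.node (.node (.node (.node (.leaf (17112750041853173755199680321016305529570298,80,1)) (.leaf (11152988539820938046435100772395789874579444,2175,0))) (.leaf (21658455896159540375383722793575804002485592,860,0))) (.node (.leaf (15762570437057501001712476328477031158547759,430,0))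 (.leaf (14924206400922734521659320269339469476279864,1413,2)))) (.node (.node (.node (.leaf (11597994170135538406926890652436036446524060,242,2)) (.leaf (11151544166505910962204750011588243805437953,2445,2376))) (.leaf (20902162240431540034129489262351813659598851,1121,0))) (.node (.leaf (21748020559757250146944257870598315223761640,620,1)) (.leaf (20865596444524678779408924726802733874966710,1784,2)))))) (.node (.node (.node (.node (.node (.leaf (18282975666996306239923605807771584405422176,45,1)) (.leaf (11152691167327459870111501351382880279455135,2115,1))) (.leaf (19842327499510917827320493337744733965559116,799,0))) (.node (.node (.leaf (15260986417085175268255752460461418779516931,377,2)) (.leaf (11150713041724383887491976296032615618641921,2423,2642))) (.leaf (15675082374779300842060741821315604479533549,1336,0)))) (.node (.node (.node (.leaf (20967496734103347081845665404105884249891997,200,0)) (.leaf (19416387000960844963646348976848912532956653,2385,2386))) (.leaf (16758711333127572374152375358542797011351310,1060,2))) (.node (.leaf (19172294352377746776706159504204460307305167,570,1))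 (.leaf (12277390458911988819712940195490155356345203,1682,1))))) (.node (.node (.node (.node (.leaf (20783741541309085747869112849604441198753138,116,2)) (.leaf (11152939505347040538258741832601447111970850,2241,0))) (.leaf (13110610746416354340320564947785220293785582,932,0))) (.node (.leaf (21245291726236493804835011635286193144340610,473,2)) (.leaf (13047212109243908614789060431455080649729744,1499,2)))) (.node (.node (.node (.leaf (11380861179698913823329115482812158217725268,294,1)) (.leaf (17468533768252551354237028363211540809274570,2484,2514))) (.leaf (16029443528681942650988360994277852627088952,1199,1))) (.node (.leaf (17837979313990211250659983392855283267273626,687,2)) (.leaf (16606437475548270829327241248116179221358305,1878,1))))))) (.node (.node (.node (.node (.node (.node (.leaf (15943287094974425886095913578675197865886618,28,0)) (.leaf (11152988783306910148548626093602780191867624,2087,1))) (.leaf (17053591599153946636807116936029870271419393,772,0))) (.node (.node (.leaf (12893982604370912774943618262173045479179265,358,2)) (.leaf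 (15239527419571294273555733905620865358128962,2,2610))) (.leaf (16867358636133876764740146773405975479320656,1305,0)))) (.node (.node (.node (.leaf (15082297154584732151710413718077584432879183,182,0)) (.leaf (11151158745156557997329032967095868805103617,2352,2351))) (.leaf (13954621055189212701171996257783012668694782,1032,1))) (.node (.leaf (17308808359544219969776206568514287966732808,537,0)) (.leaf (21849832867908356313070007910680590622316111,1639,2))))) (.node (.node (.node (.node (.leaf (15234447050794179096503474961610228949697032,99,0)) (.leaf (11150600224799182017942348644980265909933654,2205,0))) (.leaf (17783812130870073053303494903553128128238060,889,2))) (.node (.leaf (15463213747515907433665350305805587695280258,451,0)) (.leaf (15191187511999432460018693592455750260545103,1458,2)))) (.node (.node (.node (.leaf (19633104284376810731712136237864453691332195,274,0)) (.leaf (21871386453724508265047464612956411812214330,2480,2482))) (.leaf (15473483595004562863473425928895984991061336,1163,2))) (.node (.leaf (19444980073664916581758224326565499225241485,654,1))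 (.leaf (13437958186705452983239643551138914934641135,1829,0)))))) (.node (.node (.node (.node (.node (.leaf (11805078644693330187912146184338101262799007,63,2)) (.leaf (11152136743566598535856363036454039559409787,2144,1))) (.leaf (17973011461102759698596153671562160358565601,827,0))) (.node (.leaf (21824244145167600388923186640713054604396354,400,0)) (.leaf (12745669654215524226729039672933087540922281,1360,1)))) (.node (.node (.node (.leaf (12593828248912893372938943064424932102382749,220,1)) (.leaf (11151542325558027255475704093727574121738241,2382,2399))) (.leaf (15583571595487225624922651711567591963562477,1094,1))) (.node (.leaf (13802538850790870042249594613537348315890184,595,0)) (.leaf (14745681887595635254253278644902662224594252,1731,2))))) (.node (.node (.node (.node (.leaf (15730729284702018414627084609963399303112250,134,2)) (.leaf (11152147377409482164218906735590950596408359,2276,0))) (.leaf (13677599430683338848042895948709484410437892,963,2))) (.node (.leaf (14227507848879334731490416704208982685701711,493,2)) (.leaf (15808051562785348328727590723269369324585704,1560,1))))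 (.node (.node (.node (.leaf (18426067304430023770874823355079487267710292,313,1)) (.leaf (11150700017485983760148975189367610866147329,2545,2546))) (.leaf (20194058951184924422842151964468568656978157,1231,1))) (.node (.leaf (21550087780846796978383707675543846954320392,715,1)) (.leaf (16771682421724793247549047947672315595595778,1968,2)))))))

noncomputable def sel0_1100 : Tr (ℕ × ℕ × ℕ) := .node sel0_11000 sel0_11001

noncomputable def sel0_11010 : Tr (ℕ × ℕ × ℕ) :=
  .node (.node (.node (.node (.node (.node (.node (.leaf (12409984020275413329148357057871088926548198,6,2)) (.leaf (11151002973398331875321357198811726464861178,2055,1))) (.leaf (13073295460945320653324887241522199901094416,741,2))) (.node (.node (.leaf (21093426132167266486608419468795646362701983,327,1)) (.leaf (11150712923251737178994108221974554439852033,2549,2569))) (.leaf (19312764882692849827375099414880860854789836,1265,0)))) (.node (.node (.node (.leaf (16433072090026835403215489799702568891557434,158,1)) (.leaf (11151633060509087752323334225374691729609732,2310,0))) (.leaf (12800225320473670294505155012912013921863000,993,0)))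 (.node (.leaf (19818827966713513380116500622638023429862968,509,1)) (.leaf (22187418290224129969718189782412158351270118,1595,2))))) (.node (.node (.node (.node (.leaf (20237445768028397442823089540663274034878051,77,0)) (.leaf (11151218131151915317744639131180651778794262,2168,0))) (.leaf (15478928112875297878888839922614893282444632,854,0))) (.node (.leaf (15533213474618004316713440188403613174130235,419,1)) (.leaf (18028665295975368550844109847607700014580437,1403,1)))) (.node (.node (.node (.leaf (21274347840223363831966373275103317174683458,237,2)) (.leaf (11150383233847035808079669279670988446851073,2422,2440))) (.leaf (18137428208999013349917200504201208938262596,1115,0))) (.node (.leaf (15758939429483200632668785776898548891485524,614,0)) (.leaf (12213744905023314165033633903196686306022854,1775,1)))))) (.node (.node (.node (.node (.node (.leaf (16698966683677312583628216798379275384439802,41,2)) (.leaf (11151138400878684063007598781583104734693159,2109,0))) (.leaf (12867900383956551631990877425842228632340102,787,1))) (.node (.node (.leaf (12588383731042158357523529070706023810999453,371,2))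 (.leaf (15839574178347911751731710853356655015588824,2633,2634))) (.leaf (17756719891904870640259026977123441565500544,1326,1)))) (.node (.node (.node (.leaf (20103664634163387119076075078271347880740486,195,0)) (.leaf (11152196585977017609877527001428759902302209,2357,2376))) (.leaf (18709914757051280471892392485378494200373490,1054,1))) (.node (.leaf (16999149078905114398165769526229897182184449,564,2)) (.leaf (18185672400041679534504556332822620062881024,1668,0))))) (.node (.node (.node (.node (.leaf (18799923033062935288274848377751808178659331,112,1)) (.leaf (11152185668888910664767753068592141886808104,2230,1))) (.leaf (21726242488274310085282601895722682058228456,918,1))) (.node (.leaf (12473712194349288508179389966239957412438270,465,2)) (.leaf (20831508290670226247383503454354965627156024,1492,1)))) (.node (.node (.node (.leaf (13829731027307176215237161397236572473979372,290,0)) (.leaf (15398980195702916289488795011580134594090893,2476,2506))) (.leaf (16449815981135695079277858678920957427565900,1191,0))) (.node (.leaf (20929417896385030630940356367720999681295663,677,2))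 (.leaf (12751819011765721981144036441633089437430055,1866,2))))))) (.node (.node (.node (.node (.node (.node (.leaf (18217641452547486054938637883144684908822624,23,1)) (.leaf (11152905430965794759633451160772181237958125,2080,1))) (.leaf (17733116457479313399469307898705366888702206,763,1))) (.node (.node (.leaf (14060249797647520007966542050283144445281926,350,2)) (.leaf (21805599991869628580448074055029755692009380,2,2602))) (.leaf (19330571272809787913585269726572434895668717,1293,2)))) (.node (.node (.node (.leaf (18213779101493815299143301429181518987306268,177,2)) (.leaf (17427949758672966765553756995206226757116000,0,105))) (.leaf (18571936505554743546152253111301011567657480,1025,1))) (.node (.leaf (19738881992990496901336415185420509892674900,529,2)) (.leaf (12991519878163353222173739372749709860119325,1630,1))))) (.node (.node (.node (.node (.leaf (18279113315942635484128269353808418483905820,94,2)) (.leaf (11152989076980979339081159451919034178156436,2195,1))) (.leaf (13553223810122184974079298976656566479660372,881,2))) (.node (.leaf (22122247214266323204922140511085763690435228,443,1))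 (.leaf (12903510014046515592485549473164608865424243,1443,1)))) (.node (.node (.node (.leaf (16438516607897570418630903793421477182940730,267,2)) (.leaf (11157833945849578493417171954574582033085810,2050,2388))) (.leaf (11636862482631041140159569949786111550120166,1148,1))) (.node (.leaf (13317981913097479080191593148687208327447855,644,2)) (.leaf (18757372031661070258007373739499934779793638,1816,2)))))) (.node (.node (.node (.node (.node (.leaf (17489155601022359670836249318647244744094848,59,1)) (.leaf (11152593062388284935226010770307896591958986,2137,1))) (.leaf (15937922637504121726030628225538398105544020,819,1))) (.node (.leaf (15203710079133761617616637420470548981039848,394,1)) (.leaf (15076890951047669065478459428444476706497028,1355,1)))) (.node (.node (.node (.leaf (19526057913169297186908480300536625889211762,216,0)) (.leaf (11152935356439209226538088289620757741547521,2360,2399))) (.leaf (15523681898909140455353097780659600758346221,1086,2))) (.node (.leaf (21632077553740764886355685367646033955635728,585,2)) (.leaf (11728512460545634584998853291315877505769988,1716,1)))))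 (.node (.node (.node (.node (.leaf (21677232400666272902077961751317898692392845,131,1)) (.leaf (11152225937474901545176887183092247343064901,2270,1))) (.leaf (16520469818258034990294196201360652410898340,957,1))) (.node (.leaf (21762223256333051540917835586219516792600334,490,0)) (.leaf (14211882963583064822490569598036029243692486,1550,1)))) (.node (.node (.node (.leaf (15147631369033552336695381642704483929478735,309,0)) (.leaf (13801856791724269414611790185790776514242107,2,2538))) (.leaf (16129063093739474080378253345070928158705377,1223,2))) (.node (.leaf (16164776383627187827214475417800195149144067,708,0)) (.leaf (20843818373041738717747268751927100709433526,1940,2)))))))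

noncomputable def sel0_11011 : Tr (ℕ × ℕ × ℕ) :=
  .node (.node (.node (.node (.node (.node (.node (.leaf (16008621309423246071080881503302097362486170,15,0)) (.leaf (11152300206068205411047898674010065965244598,2067,1))) (.leaf (13916945680407160365716032531637195772326912,750,1))) (.node (.node (.leaf (18904149041820437176206994336155627849523330,338,1)) (.leaf (12022861983589485953502176108578502804926596,2586,2483))) (.leaf (14422581158401908974676549738356841286977449,1279,1)))) (.node (.node (.node (.leaf (20988901048751608901384360686069005222920288,168,2)) (.leaf (11150374248945874209144397459083150837999163,2330,609))) (.leaf (14608297082822283419641362499040458141790700,1008,2))) (.node (.leaf (20686227769474845216709662364175519129969996,520,2)) (.leaf (13602552756534053878298149769596415240045696,1612,2))))) (.node (.node (.node (.node (.leaf (21682574539819353037730423214735736453113164,86,2)) (.leaf (11151654501506567512788318205712980234773798,2180,1))) (.leaf (18616823152004348515552268796691189430808735,865,1))) (.node (.leaf (19300819841166634984179923841888150811371067,434,1))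 (.leaf (21833299578885469083819678298634091241682488,1422,1)))) (.node (.node (.node (.leaf (14821547845073721826790792538837436934518766,248,1)) (.leaf (18691272174437167625032504253085090148779292,2457,2458))) (.leaf (14347384002488768631961839663599594878492886,1128,2))) (.node (.leaf (15421275747056178701845987681720611214603436,628,2)) (.leaf (15230883864306783884986887725221269134123010,1791,2)))))) (.node (.node (.node (.node (.node (.leaf (20918122316432053700983978767723197434937440,50,1)) (.leaf (11152773498002554899040397062860078464251619,2122,0))) (.leaf (12355757954132205474050553324113336784605775,804,1))) (.node (.node (.leaf (20162413576271578850572626542862328536158367,381,1)) (.leaf (11152716220165181475822446465617733309440001,2622,2650))) (.leaf (17297397081700793027637113824730262604465496,1340,2)))) (.node (.node (.node (.leaf (14082027869130460069628198025158777610815110,206,2)) (.leaf (15059842350028944480750135837302382668105636,2050,2394))) (.leaf (15769470869086590013632919269721915210597504,1066,1))) (.node (.leaf (21648169015538385238548148611205936474079706,576,1))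 (.leaf (17471460507593193526017890203328665336009587,1690,2))))) (.node (.node (.node (.node (.leaf (14760773996040232755362457508065207599350280,121,0)) (.leaf (11150459426820872049549691708728924233142281,2249,1))) (.leaf (17799942143880949772375927643564558552041345,939,1))) (.node (.leaf (12196041782941802721993276286575634551890174,478,1)) (.leaf (18066427458982068621418639932606163076752952,1514,2)))) (.node (.node (.node (.leaf (14053380037469077799529484002778547143794902,300,1)) (.leaf (13774872154034356483749366966151885277627290,2483,2522))) (.leaf (13052656627114643630204474425173988941113040,1206,1))) (.node (.leaf (13611458483213187591401840077029349337974104,695,2)) (.leaf (16188417978842613044459339352758374274286924,1894,2))))))) (.node (.node (.node (.node (.node (.node (.leaf (11952080627203175604128324014748625130147999,34,0)) (.leaf (11152111780845988571941046562841871093493828,2094,0))) (.leaf (11527783513926704635604612129446543198941252,776,2))) (.node (.node (.leaf (12697373677362516912663297938601738502468608,364,1)) (.leaf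 (11150457711396050810776278552119590720118785,2441,2618))) (.leaf (22181973772353394954302775788693250059886822,1313,1)))) (.node (.node (.node (.leaf (12811716511335455219331236805417779558990298,186,2)) (.leaf (15023278153972700310524592918620719725279214,2346,32))) (.leaf (21083706027186462877348575704060904721090029,1039,2))) (.node (.leaf (14124087077795236380507239225593881593487904,548,2)) (.leaf (14494606688394228188420074026133264792732378,1651,1))))) (.node (.node (.node (.node (.leaf (21941409844477039182968722753561892306821123,102,1)) (.leaf (11150544668100397055003468282165388602635249,2211,1))) (.leaf (20603983082657207208321740808995024617283838,893,2))) (.node (.leaf (17537277388642679578556576460346682679162638,455,2)) (.leaf (15142193631064280927856990020317004407604650,1470,0)))) (.node (.node (.node (.leaf (17619976985847068763775740430424576413115962,278,1)) (.leaf (15065666832020909725349286594394487237058572,2481,2))) (.leaf (22259721887265226207077998347345095659881965,1170,1))) (.node (.leaf (21894219582673681364767250920183593672279937,664,1))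 (.leaf (13192238333540416148774276400926311742625545,1840,0)))))) (.node (.node (.node (.node (.node (.leaf (22127303621295566302132078617749336348434562,67,1)) (.leaf (11151714303489884171367805173729451465708792,2153,1))) (.leaf (14337343346515608786204910834364624076234982,838,1))) (.node (.leaf (18294751151139607367886102926693234847978140,405,2)) (.leaf (15791118377092875514952406056577786202878111,1376,2)))) (.node (.node (.node (.leaf (14174584672932955331690235918380218564331142,225,2)) (.leaf (11221837215281988842067007028845233520451596,2,2389))) (.leaf (16089316109635343044788091084632925019342631,1100,0))) (.node (.leaf (20582205011174267146660084834119391451750654,600,2)) (.leaf (17685612586735458169534350678965381037835230,1744,0))))) (.node (.node (.node (.node (.leaf (13580466204819430681033252028297275846931747,142,0)) (.leaf (11151328592641677605644609181856532890267840,2283,1))) (.leaf (18394197886604540677212370597800831032919874,969,2))) (.node (.leaf (11538752197950229270376121300660498667840852,498,2)) (.leaf (17744027322149409577863606279158646874059247,1567,1))))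 (.node (.node (.node (.leaf (14370229566304161177753731000109404596425295,318,1)) (.leaf (11151028292712388310378989413028162976096257,2550,2529))) (.leaf (20771173490099643810866684880324054551961864,1239,2))) (.node (.leaf (11304835651607222812651275232197354103042207,728,2)) (.leaf (20614461449036582673567118267696031707813847,2004,2)))))))

noncomputable def sel0_1101 : Tr (ℕ × ℕ × ℕ) := .node sel0_11010 sel0_11011

noncomputable def sel0_110 : Tr (ℕ × ℕ × ℕ) := .node sel0_1100 sel0_1101

noncomputable def sel0_11100 : Tr (ℕ × ℕ × ℕ) :=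
  .node (.node (.node (.node (.node (.node (.node (.leaf (15067127877843545153484008240147608604299983,4,1)) (.leaf (11150657256333436045731274036001722693304416,2052,1))) (.leaf (12261375997390622906978244211202534048489726,737,1))) (.node (.node (.leaf (19096428884243765082317563926589331509445972,325,2)) (.leaf (11150420653715493991581422237304966792175712,0,2062))) (.leaf (13486376685386525025695491652537886458333092,1259,1)))) (.node (.node (.node (.leaf (21382549471246718733750618706631953126220006,154,1)) (.leaf (11152519717889844413260420911364698412189184,2303,0))) (.leaf (11828044168442220986809104424678413891887346,989,1))) (.node (.leaf (13203641885010018346554055304457436263727624,506,2)) (.leaf (17041625616400632916261312756213088542204086,1584,1))))) (.node (.node (.node (.node (.leaf (20046887642552671903283599760501483836462691,74,2)) (.leaf (11152737366450307381420380534486989721916729,2164,1))) (.leaf (18045683576821608591211885251671682651611378,852,1))) (.node (.leaf (20707071663338273490853319748977299919861742,417,1)) (.leaf (21953061856416954647188962319897154839152423,1391,2))))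 (.node (.node (.node (.leaf (12546853230509721787388030036934328006398208,235,0)) (.leaf (11152716473471488634380856665243932344451073,2438,2054))) (.leaf (15437712818943478908066282461166942165255814,1111,2))) (.node (.leaf (20184191647754518912234282517737961701691551,609,1)) (.leaf (14217327481453799837905983591754937535075782,1771,2)))))) (.node (.node (.node (.node (.node (.leaf (15252598934481299832126496632705044329440588,39,1)) (.leaf (11150399185276449755202707237376508358051760,2105,0))) (.leaf (16944122530965425240777911939054445579482680,785,1))) (.node (.node (.leaf (13722003864114970451957132781942723512542548,370,1)) (.leaf (11151683384316408425831498853850827244707841,2629,2622))) (.leaf (11206745271617875234234182727612272825451852,1324,2)))) (.node (.node (.node (.leaf (13166208497907663545714317948118460048344065,192,2)) (.leaf (11152716030819297695412859708851430830313473,2374,2127))) (.leaf (18261695933073705357188143077324449466294402,1048,0))) (.node (.leaf (21975438027226338983905486451258789566795935,558,1)) (.leaf (15780359904828060044463747257159731793364096,1663,2)))))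 (.node (.node (.node (.node (.leaf (20945718662620407020184009429230251084358813,109,0)) (.leaf (11151458864507277357882938609603339060016685,2226,1))) (.leaf (16134507611610209095793667338789836450088673,911,1))) (.node (.leaf (17979159637178899257427495868244279806579713,462,2)) (.leaf (17189108719523816158701717815852399878768423,1488,2)))) (.node (.node (.node (.leaf (17531832870771944563141162466627774387779342,288,0)) (.leaf (11521836386276942147382179395043539399136626,2388,2502))) (.leaf (21317304015888916161597609681269701956923551,1186,1))) (.node (.leaf (14109352560344601474652510482035373669611405,675,1)) (.leaf (17930944463768391133552274776128506889766016,1859,2))))))) (.node (.node (.node (.node (.node (.node (.leaf (21446963946135774362231609581203152048603664,21,2)) (.leaf (11152989160326005692174519749275018352403892,2077,1))) (.leaf (16504350218159162534371639233754772374089887,759,1))) (.node (.node (.leaf (19221652795270670436872085782124222211261780,348,2)) (.leaf (11275687449251789038504666491035557574951232,2575,2598))) (.leaf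 (11833488686312956002224518418397322183270642,1287,2)))) (.node (.node (.node (.leaf (15278325198593001896567554697680057911329296,176,0)) (.leaf (17381121173555250316134225296977760630260730,2341,2342))) (.leaf (13350613454682494858680729949972642832249324,1023,2))) (.node (.leaf (21430630060321627067992818796368808629871136,527,1)) (.leaf (17015107778597126230759403859621456643458474,1625,2))))) (.node (.node (.node (.node (.leaf (14618815139991640865349988034946304304463968,92,2)) (.leaf (11152313912892518300335947023184403347965884,2192,0))) (.leaf (19618614440219591351988443640970315045335199,878,1))) (.node (.leaf (15124874634312878160557390659485491320383035,440,2)) (.leaf (14325605931005828570300183688723961712959702,1441,2)))) (.node (.node (.node (.leaf (18077637966046553414165210840115524529534243,265,2)) (.leaf (11152239117811420076852308272445807365104984,2459,2470))) (.leaf (19083693271606044885381215360236444337577987,1143,0))) (.node (.leaf (13558662722578372763768426536534999564453761,640,2)) (.leaf (22165640218741189908056533807536525185736934,1807,2))))))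 (.node (.node (.node (.node (.node (.leaf (20245222098802497519876838914962963456706182,57,0)) (.leaf (11151962545189127781063381333792256828252749,2133,1))) (.leaf (15920752906677924525684168750789461305906767,817,0))) (.node (.leaf (17826411126195210325837572935892645885412554,391,1)) (.leaf (21844388350037621297654593916961682330932815,1352,1)))) (.node (.node (.node (.leaf (20369305554641182825590251995949730885858432,213,2)) (.leaf (11151542486399227843045865497186818152476673,2356,2399))) (.leaf (19889145534290379503973249411393050276487422,1079,2))) (.node (.leaf (17636612213173446535639794265837785017132372,582,2)) (.leaf (16302060219161579932780357584355753335989250,1712,0))))) (.node (.node (.node (.node (.leaf (14804427085156970568400257065817684437901442,127,2)) (.leaf (11151987867684732148903185875420047471826071,2267,1))) (.leaf (15991911525356831149033975342391091128049921,955,0))) (.node (.leaf (17439548742772715339488886467770860297319424,487,2)) (.leaf (16575393896761923364347821037627429790695744,1548,0)))) (.node (.node (.node (.leaf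 (17434104224901980324073472474051952005936128,307,1)) (.leaf (14885596515657656620705273727172810582245472,2,2534))) (.leaf (13226425212408650029944506171955489730269553,1221,1))) (.node (.leaf (13769841330729091045667607466328581268763116,706,2)) (.leaf (18513199510638480876193615606949676116490023,1933,0)))))))

noncomputable def sel0_11101 : Tr (ℕ × ℕ × ℕ) :=
  .node (.node (.node (.node (.node (.node (.node (.leaf (16177401363416031548958715308588254395368346,12,2)) (.leaf (11150376588676316907305175244682438610576955,2064,1))) (.leaf (19182903282484648043086992311147194853532956,748,1))) (.node (.node (.leaf (16291361755709562394161950342771819302355969,336,1)) (.leaf (11151945076703172148408864186533477205671937,2526,2582))) (.leaf (15345267920791967562043294912834402717541812,1275,1)))) (.node (.node (.node (.leaf (12604689244884580991236893521760240264201210,165,1)) (.leaf (18304641923917466970351121770450830593807971,2326,6))) (.leaf (15996779157816847834687749000874905089089664,1006,1))) (.node (.leaf (15665242114326129506672561422812967130690688,515,1))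 (.leaf (18164273244783889781551571654687161713611777,1609,1))))) (.node (.node (.node (.node (.leaf (18288420184867041255339019801490492696805472,83,2)) (.leaf (11152767097717130004580126640500660631012828,2178,0))) (.leaf (21593940527983810588545550205891900927301199,862,2))) (.node (.leaf (16416738536414630356969247818545844017407546,432,2)) (.leaf (12071279036657586443982387560631524791432760,1416,2)))) (.node (.node (.node (.leaf (15707438046481524810006687987408678498395707,245,1)) (.leaf (11150383750528100221927756903083900954775553,2451,2440))) (.leaf (15594463382006574306272179504467159342707840,1125,2))) (.node (.leaf (12252781770214478806088146480494493211829684,623,1)) (.leaf (20853261447723570004953460529526358994646016,1788,0)))))) (.node (.node (.node (.node (.node (.leaf (21512298160584594547216577505830051545203216,48,2)) (.leaf (11152715204286488285598218020710397485397987,2118,0))) (.leaf (15432268301072743892650868467448033873872518,801,1))) (.node (.node (.leaf (16716597469959391165601000254734339758973110,379,1)) (.leaf (11150699749433679371486029675020001789091841,2645,2646)))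 (.leaf (21965654876336798357991045100539260735267574,1338,1)))) (.node (.node (.node (.leaf (18794478515192200272859434384032899887276035,203,2)) (.leaf (11156600258709758843491443374699670996841167,0,2390))) (.leaf (17876499285061040979398134838939423975933056,1063,1))) (.node (.leaf (17325213867487280015765192599673786178270208,572,1)) (.leaf (18381458133214784534677382440293315691710247,1687,0))))) (.node (.node (.node (.node (.leaf (19591392127618117371893448225163525385811314,119,0)) (.leaf (11152715354224033991327178363113987829011396,2246,1))) (.leaf (20765728972228908795451270886605146260578568,935,1))) (.node (.leaf (21468813377410168795323343447931640007844054,476,1)) (.leaf (21905576478512253168962848223168471680513974,1509,2)))) (.node (.node (.node (.leaf (14352532101885964288920895587148296253087874,296,2)) (.leaf (18310580955162377028524829192407862272459868,2488,2518))) (.leaf (13285984813893012016396163491680640030797952,1202,1))) (.node (.leaf (20085610860268489105956650698018512307541109,693,1)) (.leaf (18256154468508132978004705770043184506799540,1884,0)))))))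 (.node (.node (.node (.node (.node (.node (.leaf (11864387434960062244076700457607207090921602,31,2)) (.leaf (11151362031815514628358532624357226823648682,2091,0))) (.leaf (19883701016419644488557835417674141985104126,774,1))) (.node (.node (.leaf (12186977924224721998730005562845122462536399,361,2)) (.leaf (11150394295034346207356580278305110195318785,2423,2526))) (.leaf (21922133602988882267824348980386717202761350,1309,0)))) (.node (.node (.node (.leaf (18404289232947083709213167380203854102177108,184,1)) (.leaf (11152125892530760649914648621671223219073025,2355,2351))) (.leaf (21779054135588801112669625992334782834333263,1037,1))) (.node (.leaf (16665672027734809245432562839939757956407299,540,1)) (.leaf (17232657063684784753703154706452345224754176,1645,1))))) (.node (.node (.node (.node (.leaf (12877050725784275404316204730044679055589850,100,2)) (.leaf (11151942811956573035601538619054993303008415,2207,1))) (.leaf (11957168965837070229839490607396533722694152,891,1))) (.node (.leaf (13616903001083922606817254070748257629357400,453,0)) (.leaf (15218410101353107537095763561050291717461583,1466,1))))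 (.node (.node (.node (.leaf (17647199575200743840852810399019117870032442,275,2)) (.leaf (11945927684100887815171104539224300033409025,2392,2486))) (.leaf (12882718714709249530460182626970063483536810,1166,0))) (.node (.leaf (16825398855777499868619992284766617511376163,657,2)) (.leaf (18626716602766899116328383333172682688406020,1834,1)))))) (.node (.node (.node (.node (.node (.leaf (21404327542729658795412274681507586291753190,65,1)) (.leaf (11151074437613442401909088412925025898792691,2148,1))) (.leaf (16002445743793186683492087940545394220483080,831,1))) (.node (.leaf (19276209823462648691972198377886189096281524,402,1)) (.leaf (17871054767190305963982720845220515684549760,1367,2)))) (.node (.node (.node (.leaf (12615633954970636681689343982815340794331656,223,0)) (.leaf (11151683602083305824796477264464344357404673,2422,2376))) (.leaf (13034958699777684172510664448878292366276152,1096,1))) (.node (.leaf (19241933876286150870996393321367675493786144,598,1)) (.leaf (15032999889033003852079621488449476007888308,1737,0))))) (.node (.node (.node (.node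 (.leaf (15703506695348343337550014641368857846195770,138,1)) (.leaf (11150379872855580770216715071445857361478811,2280,0))) (.leaf (15496068399508833996791169850824853732458756,965,1))) (.node (.leaf (12088191301043612577949554664385508529853441,496,2)) (.leaf (14400803086918968913014893763481208121444265,1564,1)))) (.node (.node (.node (.leaf (14560507610230619955400511643794055469114652,315,1)) (.leaf (11150394027009611937363771337767025503117313,2547,2529))) (.leaf (19585462538608928952528615477875634161522441,1236,1))) (.node (.leaf (17968272874365367638160787074142287108690079,720,0)) (.leaf (18621272084896164100912969339453774397022724,1975,2)))))))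

noncomputable def sel0_1110 : Tr (ℕ × ℕ × ℕ) := .node sel0_11100 sel0_11101

noncomputable def sel0_11110 : Tr (ℕ × ℕ × ℕ) :=
  .node (.node (.node (.node (.node (.node (.node (.leaf (21938109430711134607736468313409872330019535,8,1)) (.leaf (11151889755413870450263915892361526249760314,2058,1))) (.leaf (21089150545057197892763989697779813012473325,744,1))) (.node (.node (.leaf (14865461393909485924360242390305520688652470,331,1)) (.leaf (16792706561642972742838869476409875905896460,2558,2574))) (.leaf (19307319987035134518830179227435701141669066,1268,1)))) (.node (.node (.node (.leaf (11479444808644027541086256229231008253097132,161,2)) (.leaf (11151736706555967027936298706584294869966858,2314,0))) (.leaf (18587679735899597430214080924435384671405415,997,0))) (.node (.leaf (14304895351855340992768763075482505099825743,511,1)) (.leaf (22160195700870454892641119813817616894353638,1599,1))))) (.node (.node (.node (.node (.leaf (17136298876337708557701395703176723000341676,78,2)) (.leaf (11152806813637567318360471741668570471839485,2172,0))) (.leaf (17330658385358015031180606593392694469653504,855,2)))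 (.node (.leaf (20648228285088837059193763997428863665604418,426,0)) (.leaf (15386865637376969418315113625097714488320003,1409,0)))) (.node (.node (.node (.leaf (21802466073684660327261530665837421438863170,240,0)) (.leaf (11151028194646236426113939602174122255425537,2442,2376))) (.leaf (19383141589623128691188378044759407826839265,1117,0))) (.node (.leaf (15953608699694834122126711403622861613155187,618,2)) (.leaf (20357223851427696435459092135009623203043081,1782,0)))))) (.node (.node (.node (.node (.node (.leaf (12833358995455451638684281257954388502299642,43,1)) (.leaf (11150957673504360020301637352186531074430824,2112,1))) (.leaf (17103735287388393625182964539152879328544390,793,1))) (.node (.node (.leaf (13526001220768509897002229008062025022743892,375,1)) (.leaf (22112114566640209749124022650717337389917516,2,2638))) (.leaf (21311207146278340492456872909320865295168640,1332,1)))) (.node (.node (.node (.leaf (20570752802107284510677349405833736329626625,198,1)) (.leaf (11152716033540469407074841585244295675408385,2381,2332))) (.leaf (19254348022619497697769473814507718816302573,1056,1)))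 (.node (.leaf (16242735577864851733943683233215153891967898,567,0)) (.leaf (11341913436527765157329166228154897794077952,1675,0))))) (.node (.node (.node (.node (.leaf (12964761336690467975344000180518853267162113,114,1)) (.leaf (11150388739196212373924114084549356250396395,2233,1))) (.leaf (22216026872115688531586673918162971703949193,925,0))) (.node (.leaf (21415793164153337282375137522509230175331660,468,2)) (.leaf (13291429331763747031811577485399548322181248,1495,2)))) (.node (.node (.node (.leaf (14205068877243023410281039968852794072326398,292,1)) (.leaf (11969601209717264697721586558736917220333453,2342,2510))) (.leaf (18021639113918243886000432990324160124850212,1196,1))) (.node (.leaf (11288055746966696822187110615265955826759662,681,1)) (.leaf (15915405295500032815432717156476137172361718,1872,2))))))) (.node (.node (.node (.node (.node (.node (.leaf (14096864820643503551422718060676958681154064,25,2)) (.leaf (11151030569071785383082419541770071255295713,2084,0))) (.leaf (19727504797634291660296723515348480873001119,770,1))) (.node (.node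 (.leaf (19956662707819897517952974934176841548006740,352,0)) (.leaf (21805980120802969764844923935376440060609032,0,2606))) (.leaf (19645559497720715486047273170635556165879430,1299,2)))) (.node (.node (.node (.leaf (13296520693645456285356860983997439847809552,180,0)) (.leaf (11152491393952689636273751273608297573814273,2349,2350))) (.leaf (13945426818913705289127062185867875423940767,1029,1))) (.node (.leaf (21158760346616086671593387393422545859301535,533,1)) (.leaf (12491024111963742515547724337575013563679450,1633,1))))) (.node (.node (.node (.node (.leaf (13960429869042185489296600431385688766005768,97,0)) (.leaf (11151889523330949334188501843752886448027411,2200,0))) (.leaf (13497617771358577027125850834619544841496289,886,0))) (.node (.leaf (17843423831860946266075397386574191558656922,446,1)) (.leaf (16873191255540833076921464597384340708705274,1453,1)))) (.node (.node (.node (.leaf (20500126939465891918529743107727062554879546,270,2)) (.leaf (11155821106547051922720589238401346901960251,2050,2478))) (.leaf (20228853675572328440473981104207515783996150,1161,1)))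 (.node (.leaf (13122858269404397017181626498538050022930414,650,1)) (.leaf (16508093609001758200619082860308573061177837,1826,2)))))) (.node (.node (.node (.node (.node (.leaf (11232043192741263860849397108469283155877891,61,1)) (.leaf (11152979308875749008827449016178858986701856,2142,0))) (.leaf (15562298898445862791836686488073181083641116,821,1))) (.node (.leaf (21339682054672184016951341199730216671283010,396,2)) (.leaf (11248537727314190901112166803023150877623640,1358,2)))) (.node (.node (.node (.leaf (12437145640643963943389054093419821829629212,218,1)) (.leaf (11151542837509413213144466867824698427621377,2378,2399))) (.leaf (21958506374287689662604376313616063130535719,1089,0))) (.node (.leaf (13531445738639244912417643001780933314127188,591,2)) (.leaf (18321823602005738253065199684913818370941444,1721,1))))) (.node (.node (.node (.node (.leaf (18377086448936979262012980494655480555615523,133,0)) (.leaf (11152123271827158293358137280381731251171394,2273,1))) (.leaf (13878777890099176117949586188779602183276452,960,0))) (.node (.leaf (21555331577245120955132103824901001720035086,492,0))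 (.leaf (21991467297307497118629278130857488793633994,1553,2)))) (.node (.node (.node (.leaf (14631286342550175155800893562139863257097500,310,2)) (.leaf (11150699781298979046630697984658239255609345,2423,2351))) (.leaf (18034644348496729475773151146688830142858977,1226,2))) (.node (.leaf (14586519011339343357979706524164824976257516,712,2)) (.leaf (18492087453154971276594415449226594045764112,1957,2)))))))

noncomputable def sel0_11111 : Tr (ℕ × ℕ × ℕ) :=
  .node (.node (.node (.node (.node (.node (.node (.leaf (11858942917089327228661286463888298799538306,18,1)) (.leaf (11151942800198321436801760772293248542177262,2071,1))) (.leaf (12034917326024867256930518143235324442052077,754,1))) (.node (.node (.leaf (13775288626862391718083779701428031332557981,341,2)) (.leaf (22089254630423702220025305643550286444320491,2588,2590))) (.leaf (13994978307649935385687911151029086990114818,1283,0)))) (.node (.node (.node (.leaf (20434258221517252305062369543764434862659151,172,0)) (.leaf (16562435076462354113693036965573077030795246,2334,2049))) (.leaf (17549608591024168193191485410140432286991692,1018,2)))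 (.node (.leaf (21098870650038001502023833462514554654085279,523,2)) (.leaf (21709860130481452229329540250722135880245250,1620,0))))) (.node (.node (.node (.node (.leaf (20885343394645864277257354793213360709490275,89,0)) (.leaf (11150376608081987664518959770233344178000462,2184,1))) (.leaf (14690670843254949946517443662023671811068929,868,2))) (.node (.leaf (14044018345895781289667542557408474173011853,437,1)) (.leaf (18669909913430183713809751837599414192447491,1429,0)))) (.node (.node (.node (.leaf (16836019457245677530493970214833504746338286,254,1)) (.leaf (14994486873072356929013553601550976409911392,2050,2462))) (.leaf (19977802891611960293737435394107805395494172,1130,2))) (.node (.leaf (12056779126868018251133242706613794722031028,632,1)) (.leaf (18844497317596299732944943081929014343737860,1797,2)))))) (.node (.node (.node (.node (.node (.leaf (13737284549360407839951615737632189094150618,53,2)) (.leaf (11151248905532142312244914839136587043976455,2125,1))) (.leaf (19073153822293365393118559516081518460903968,809,1))) (.node (.node (.leaf (13645325685001765398322076061329103750353055,383,1))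 (.leaf (11150542932278319621217307965923535211208705,2650,2650))) (.leaf (12512802183446682577209380312450646729212634,1342,1)))) (.node (.node (.node (.leaf (17069927811224669598566151444575704970167297,208,1)) (.leaf (11151943748419597013620956402872959541448705,2387,2398))) (.leaf (19722060279763556644881309521629572581617823,1071,2))) (.node (.leaf (21474257895280903810738757441650548299227350,578,1)) (.leaf (13445047454545236249522742516432571910325741,1701,1))))) (.node (.node (.node (.node (.leaf (21603849736491468227213055142989578241056771,123,1)) (.leaf (11152185855466795992371066052491988860112904,2256,1))) (.leaf (15617561309604270481681522494398604346577152,947,0))) (.node (.leaf (15486136617240697038857263509054273558110438,480,1)) (.leaf (13808814484067286566564896844419879215015480,1525,1)))) (.node (.node (.node (.leaf (14233788543964061901006048191520102902572372,302,1)) (.leaf (11150458097937609733662368263783532051070977,2526,2422))) (.leaf (19399824895131836302710420021144168043659784,1210,2))) (.node (.leaf (12734891106024850109520187088285114425263448,698,0))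 (.leaf (20423903323560857134027628487534241509398487,1909,2))))))) (.node (.node (.node (.node (.node (.node (.leaf (11810523162564065203327560178057009554182303,36,0)) (.leaf (11152063920229986159027905128009569486280134,2096,1))) (.leaf (21120050622194497288630621280904186257508135,779,0))) (.node (.node (.leaf (21740942510493656004761728036302424794650191,366,0)) (.leaf (11151733749504740945301832604249788981977089,2597,2622))) (.leaf (17402606608514322776975307579729908419642700,1315,0)))) (.node (.node (.node (.leaf (14113198042053766349676411238156065010721312,188,1)) (.leaf (18925465793817605493156577589155174043451404,2344,6))) (.leaf (16622208784564256865249629191909491482035559,1043,0))) (.node (.leaf (17418940128277223190304554483433674158055678,550,2)) (.leaf (19325126754939052898169855732853526604285421,1653,2))))) (.node (.node (.node (.node (.leaf (20267000170285437581538494889838596622239366,105,0)) (.leaf (11152988733975074710512356270317693590295662,2219,1))) (.leaf (13455331118382131967883167056068438031016190,900,1))) (.node (.leaf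 (17346719263166954039017086680184892480747278,458,0)) (.leaf (20286558267358702103848053012682430206648502,1474,1)))) (.node (.node (.node (.leaf (17357753346036249448893310038367178641818618,282,2)) (.leaf (11221473006727558680345776476899941736087564,2,2476))) (.leaf (15337964844668999389139084892272259823367168,1174,2))) (.node (.leaf (21212532825663251432541884041104230833227055,666,0)) (.leaf (16210533665046240599229960097136144742248630,1844,0)))))) (.node (.node (.node (.node (.node (.leaf (14798982567286235552984843072098776146518146,70,1)) (.leaf (11151543852022239403941794700875451677507902,2156,1))) (.leaf (11615557755412402926471606072203715537679532,845,0))) (.node (.leaf (21228877015591446928758477709305795550726052,411,0)) (.leaf (15785804422698795059879161250878640084747392,1379,1)))) (.node (.node (.node (.leaf (14685228983842732846614822195693873344283649,227,1)) (.leaf (11222322437054822343263325085831364341076636,2050,2430))) (.leaf (19461211525416655300057223819440169497511558,1102,0))) (.node (.leaf (21459349307119217405698449472260496506398028,603,0))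 (.leaf (12762733250221640254267574539242664093480093,1748,2))))) (.node (.node (.node (.node (.leaf (19469768748254760269249716426297204949833315,144,2)) (.leaf (11152111464787329773884452682770664629065054,2290,1))) (.leaf (13910838884938219188373460319893162373154151,980,2))) (.node (.leaf (12392802086894898097828215918511518271889622,502,1)) (.leaf (15225439346436048869571473731502360842739714,1570,0)))) (.node (.node (.node (.leaf (16281125011624213953810665771642556880315298,320,0)) (.leaf (18295150246602661661824920531500926837061614,2,2393))) (.leaf (14418142939115090675788412867856055479469258,1247,1))) (.node (.leaf (13356057972553229874096143943691551123632620,731,0)) (.leaf (11582240744924894638671793144533301164888653,2033,1)))))))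

noncomputable def sel0_1111 : Tr (ℕ × ℕ × ℕ) := .node sel0_11110 sel0_11111

noncomputable def sel0_111 : Tr (ℕ × ℕ × ℕ) := .node sel0_1110 sel0_1111

noncomputable def sel0_11 : Tr (ℕ × ℕ × ℕ) := .node sel0_110 sel0_111

noncomputable def sel0_1 : Tr (ℕ × ℕ × ℕ) := .node sel0_10 sel0_11

noncomputable def sel0_ : Tr (ℕ × ℕ × ℕ) := .node sel0_0 sel0_1

noncomputable def orb0 : Orb := ⟨trio0_, roots0, sel0_, 2656, 3, [(2048,[2656,2,3,4,5,6,7,8,9,10,11,12,13,14,15,16,17,18,19,20,21,22,23,24,25,26,27,28,29,30,31,32,33,34,35,36,37,38,39,40,41,42,43,44,45,46,47,48,49,50,51,52,53,54,55,56,57,58,59,60,61,62,63,64,65,66,67,68,69,70,71,72,73,74,75,76,77,78,79,80,81,82,83,84,85,86,87,88,89,90,91,92,93,94,95,96,97,98,99,100,101,102,103,104,105,106,107,108,109,110,111,112,113,114,115,116,117,118,119,120,121,122,123,124,125,126,127,128,129,130,131,132,133,134,135,136,137,138,139,140,141,142,143,144,145,146,147,148,149,150,151,152,153,154,155,156,157,158,159,160,161,162,163,164,165,166,167,168,169,170,171,172,173,174,175,176,177,178,179,180,181,182,183,184,185,1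86,187,188,189,190,191,192,193,194,195,196,197,198,199,200,201,202,203,204,205,206,207,208,209,210,211,212,213,214,215,216,217,218,219,220,221,222,223,224,225,226,227,228,229,230,231,232,233,234,235,236,237,238,239,240,241,242,243,244,245,246,247,248,249,250,251,252,253,254,255,256,257,258,259,260,261,262,263,264,265,266,267,268,269,270,271,272,273,274,275,276,277,278,279,280,281,282,283,284,285,286,287,288,289,290,291,292,293,294,295,296,297,298,299,300,301,302,303,304,305,306,307,308,309,310,311,312,313,314,315,316,317,318,319,320,321,322,323,324,325,326,327,328,329,330,331,332,333,334,335,336,337,338,339,340,341,342,343,344,345,346,347,348,349,350,351,352,353,354,355,356,357,358,359,360,361,362,363,364,365,366,367,368,369,370,371,372,373,374,375,376,377,378,379,380,381,382,383,384,385,386,387,388,389,390,391,392,393,394,395,396,397,398,399,400,401,402,403,404,405,406,407,408,409,410,411,412,413,414,415,416,417,418,419,420,421,422,423,424,425,426,427,428,429,430,431,432,433,434,435,436,437,438,439,440,441,442,443,444,445,446,447,448,449,450,451,452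,453,454,455,456,457,458,459,460,461,462,463,464,465,466,467,468,469,470,471,472,473,474,475,476,477,478,479,480,481,482,483,484,485,486,487,488,489,490,491,492,493,494,495,496,497,498,499,500,501,502,503,504,505,506,507,508,509,510,511,512,513,514,515,516,517,518,519,520,521,522,523,524,525,526,527,528,529,530,531,532,533,534,535,536,537,538,539,540,541,542,543,544,545,546,547,548,549,550,551,552,553,554,555,556,557,558,559,560,561,562,563,564,565,566,567,568,569,570,571,572,573,574,575,576,577,578,579,580,581,582,583,584,585,586,587,588,589,590,591,592,593,594,595,596,597,598,599,600,601,602,603,604,605,606,607,608,609,610,611,612,613,614,615,616,617,618,619,620,621,622,623,624,625,626,627,628,629,630,631,632,633,634,635,636,637,638,639,640,641,642,643,644,645,646,647,648,649,650,651,652,653,654,655,656,657,658,659,660,661,662,663,664,665,666,667,668,669,670,671,672,673,674,675,676,677,678,679,680,681,682,683,684,685,686,687,688,689,690,691,692,693,694,695,696,697,698,699,700,701,702,703,704,705,706,707,708,709,710,711,712,713,714,715,716,717,718,7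19,720,721,722,723,724,725,726,727,728,729,730,731,732,733,734,735,736,737,738,739,740,741,742,743,744,745,746,747,748,749,750,751,752,753,754,755,756,757,758,759,760,761,762,763,764,765,766,767,768,769,770,771,772,773,774,775,776,777,778,779,780,781,782,783,784,785,786,787,788,789,790,791,792,793,794,795,796,797,798,799,800,801,802,803,804,805,806,807,808,809,810,811,812,813,814,815,816,817,818,819,820,821,822,823,824,825,826,827,828,829,830,831,832,833,834,835,836,837,838,839,840,841,842,843,844,845,846,847,848,849,850,851,852,853,854,855,856,857,858,859,860,861,862,863,864,865,866,867,868,869,870,871,872,873,874,875,876,877,878,879,880,881,882,883,884,885,886,887,888,889,890,891,892,893,894,895,896,897,898,899,900,901,902,903,904,905,906,907,908,909,910,911,912,913,914,915,916,917,918,919,920,921,922,923,924,925,926,927,928,929,930,931,932,933,934,935,936,937,938,939,940,941,942,943,944,945,946,947,948,949,950,951,952,953,954,955,956,957,958,959,960,961,962,963,964,965,966,967,968,969,970,971,972,973,974,975,976,977,978,979,980,981,982,983,984,985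,986,987,988,989,990,991,992,993,994,995,996,997,998,999,1000,1001,1002,1003,1004,1005,1006,1007,1008,1009,1010,1011,1012,1013,1014,1015,1016,1017,1018,1019,1020,1021,1022,1023,1024,1025,1026,1027,1028,1029,1030,1031,1032,1033,1034,1035,1036,1037,1038,1039,1040,1041,1042,1043,1044,1045,1046,1047,1048,1049,1050,1051,1052,1053,1054,1055,1056,1057,1058,1059,1060,1061,1062,1063,1064,1065,1066,1067,1068,1069,1070,1071,1072,1073,1074,1075,1076,1077,1078,1079,1080,1081,1082,1083,1084,1085,1086,1087,1088,1089,1090,1091,1092,1093,1094,1095,1096,1097,1098,1099,1100,1101,1102,1103,1104,1105,1106,1107,1108,1109,1110,1111,1112,1113,1114,1115,1116,1117,1118,1119,1120,1121,1122,1123,1124,1125,1126,1127,1128,1129,1130,1131,1132,1133,1134,1135,1136,1137,1138,1139,1140,1141,1142,1143,1144,1145,1146,1147,1148,1149,1150,1151,1152,1153,1154,1155,1156,1157,1158,1159,1160,1161,1162,1163,1164,1165,1166,1167,1168,1169,1170,1171,1172,1173,1174,1175,1176,1177,1178,1179,1180,1181,1182,1183,1184,1185,1186,1187,1188,1189,1190,1191,1192,1193,1194,1195,1196,1197,1198,1199,1200,1201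,1202,1203,1204,1205,1206,1207,1208,1209,1210,1211,1212,1213,1214,1215,1216,1217,1218,1219,1220,1221,1222,1223,1224,1225,1226,1227,1228,1229,1230,1231,1232,1233,1234,1235,1236,1237,1238,1239,1240,1241,1242,1243,1244,1245,1246,1247,1248,1249,1250,1251,1252,1253,1254,1255,1256,1257,1258,1259,1260,1261,1262,1263,1264,1265,1266,1267,1268,1269,1270,1271,1272,1273,1274,1275,1276,1277,1278,1279,1280,1281,1282,1283,1284,1285,1286,1287,1288,1289,1290,1291,1292,1293,1294,1295,1296,1297,1298,1299,1300,1301,1302,1303,1304,1305,1306,1307,1308,1309,1310,1311,1312,1313,1314,1315,1316,1317,1318,1319,1320,1321,1322,1323,1324,1325,1326,1327,1328,1329,1330,1331,1332,1333,1334,1335,1336,1337,1338,1339,1340,1341,1342,1343,1344,1345,1346,1347,1348,1349,1350,1351,1352,1353,1354,1355,1356,1357,1358,1359,1360,1361,1362,1363,1364,1365,1366,1367,1368,1369,1370,1371,1372,1373,1374,1375,1376,1377,1378,1379,1380,1381,1382,1383,1384,1385,1386,1387,1388,1389,1390,1391,1392,1393,1394,1395,1396,1397,1398,1399,1400,1401,1402,1403,1404,1405,1406,1407,1408,1409,1410,1411,1412,1413,1414,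1415,1416,1417,1418,1419,1420,1421,1422,1423,1424,1425,1426,1427,1428,1429,1430,1431,1432,1433,1434,1435,1436,1437,1438,1439,1440,1441,1442,1443,1444,1445,1446,1447,1448,1449,1450,1451,1452,1453,1454,1455,1456,1457,1458,1459,1460,1461,1462,1463,1464,1465,1466,1467,1468,1469,1470,1471,1472,1473,1474,1475,1476,1477,1478,1479,1480,1481,1482,1483,1484,1485,1486,1487,1488,1489,1490,1491,1492,1493,1494,1495,1496,1497,1498,1499,1500,1501,1502,1503,1504,1505,1506,1507,1508,1509,1510,1511,1512,1513,1514,1515,1516,1517,1518,1519,1520,1521,1522,1523,1524,1525,1526,1527,1528,1529,1530,1531,1532,1533,1534,1535,1536,1537,1538,1539,1540,1541,1542,1543,1544,1545,1546,1547,1548,1549,1550,1551,1552,1553,1554,1555,1556,1557,1558,1559,1560,1561,1562,1563,1564,1565,1566,1567,1568,1569,1570,1571,1572,1573,1574,1575,1576,1577,1578,1579,1580,1581,1582,1583,1584,1585,1586,1587,1588,1589,1590,1591,1592,1593,1594,1595,1596,1597,1598,1599,1600,1601,1602,1603,1604,1605,1606,1607,1608,1609,1610,1611,1612,1613,1614,1615,1616,1617,1618,1619,1620,1621,1622,1623,1624,1625,1626,1627,1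628,1629,1630,1631,1632,1633,1634,1635,1636,1637,1638,1639,1640,1641,1642,1643,1644,1645,1646,1647,1648,1649,1650,1651,1652,1653,1654,1655,1656,1657,1658,1659,1660,1661,1662,1663,1664,1665,1666,1667,1668,1669,1670,1671,1672,1673,1674,1675,1676,1677,1678,1679,1680,1681,1682,1683,1684,1685,1686,1687,1688,1689,1690,1691,1692,1693,1694,1695,1696,1697,1698,1699,1700,1701,1702,1703,1704,1705,1706,1707,1708,1709,1710,1711,1712,1713,1714,1715,1716,1717,1718,1719,1720,1721,1722,1723,1724,1725,1726,1727,1728,1729,1730,1731,1732,1733,1734,1735,1736,1737,1738,1739,1740,1741,1742,1743,1744,1745,1746,1747,1748,1749,1750,1751,1752,1753,1754,1755,1756,1757,1758,1759,1760,1761,1762,1763,1764,1765,1766,1767,1768,1769,1770,1771,1772,1773,1774,1775,1776,1777,1778,1779,1780,1781,1782,1783,1784,1785,1786,1787,1788,1789,1790,1791,1792,1793,1794,1795,1796,1797,1798,1799,1800,1801,1802,1803,1804,1805,1806,1807,1808,1809,1810,1811,1812,1813,1814,1815,1816,1817,1818,1819,1820,1821,1822,1823,1824,1825,1826,1827,1828,1829,1830,1831,1832,1833,1834,1835,1836,1837,1838,1839,1840,18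41,1842,1843,1844,1845,1846,1847,1848,1849,1850,1851,1852,1853,1854,1855,1856,1857,1858,1859,1860,1861,1862,1863,1864,1865,1866,1867,1868,1869,1870,1871,1872,1873,1874,1875,1876,1877,1878,1879,1880,1881,1882,1883,1884,1885,1886,1887,1888,1889,1890,1891,1892,1893,1894,1895,1896,1897,1898,1899,1900,1901,1902,1903,1904,1905,1906,1907,1908,1909,1910,1911,1912,1913,1914,1915,1916,1917,1918,1919,1920,1921,1922,1923,1924,1925,1926,1927,1928,1929,1930,1931,1932,1933,1934,1935,1936,1937,1938,1939,1940,1941,1942,1943,1944,1945,1946,1947,1948,1949,1950,1951,1952,1953,1954,1955,1956,1957,1958,1959,1960,1961,1962,1963,1964,1965,1966,1967,1968,1969,1970,1971,1972,1973,1974,1975,1976,1977,1978,1979,1980,1981,1982,1983,1984,1985,1986,1987,1988,1989,1990,1991,1992,1993,1994,1995,1996,1997,1998,1999,2000,2001,2002,2003,2004,2005,2006,2007,2008,2009,2010,2011,2012,2013,2014,2015,2016,2017,2018,2019,2020,2021,2022,2023,2024,2025,2026,2027,2028,2029,2030,2031,2032,2033,2034,2035,2036,2037,2038,2039,2040,2041,2042,2043,2044,2045,2046,2047,2048]),(1,[2656,0,1,2049,2050,205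1,2052,2053,2054,2055,2056,2057,2058,2059,2060,2061,2062,2063,2064,2065,2066,2067,2068,2069,2070,2071,2072,2073,2074,2075,2076,2077,2078,2079,2080,2081,2082,2083,2084,2085,2086,2087,2088,2089,2090,2091,2092,2093,2094,2095,2096,2097,2098,2099,2100,2101,2102,2103,2104,2105,2106,2107,2108,2109,2110,2111,2112,2113,2114,2115,2116,2117,2118,2119,2120,2121,2122,2123,2124,2125,2126,2127,2128,2129,2130,2131,2132,2133,2134,2135,2136,2137,2138,2139,2140,2141,2142,2143,2144,2145,2146,2147,2148,2149,2150,2151,2152,2153,2154,2155,2156,2157,2158,2159,2160,2161,2162,2163,2164,2165,2166,2167,2168,2169,2170,2171,2172,2173,2174,2175,2176,2177,2178,2179,2180,2181,2182,2183,2184,2185,2186,2187,2188,2189,2190,2191,2192,2193,2194,2195,2196,2197,2198,2199,2200,2201,2202,2203,2204,2205,2206,2207,2208,2209,2210,2211,2212,2213,2214,2215,2216,2217,2218,2219,2220,2221,2222,2223,2224,2225,2226,2227,2228,2229,2230,2231,2232,2233,2234,2235,2236,2237,2238,2239,2240,2241,2242,2243,2244,2245,2246,2247,2248,2249,2250,2251,2252,2253,2254,2255,2256,2257,2258,2259,2260,2261,2262,2263,2264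,2265,2266,2267,2268,2269,2270,2271,2272,2273,2274,2275,2276,2277,2278,2279,2280,2281,2282,2283,2284,2285,2286,2287,2288,2289,2290,2291,2292,2293,2294,2295,2296,2297,2298,2299,2300,2301,2302,2303,2304,2305,2306,2307,2308,2309,2310,2311,2312,2313,2314,2315,2316,2317,2318,2319,2320,2321]),(4,[2656,2332,2333,2351,2352,2353,2354,2355,2356,2357,2358,2359,2360,2361,2362,2377,2378,2379,2380,2381,2382,2383,2399,2400,2401,2402,2403,2404,2405,2406,2407,2408,2409,2410,2411,2412,2413,2414,2415,2416,2417,2418,2419,2420]),(2,[2656,2376,2421,2422,2423,2440,2441,2442,2443,2444,2445,2446,2447,2448,2449,2450,2451,2452,2453,2454,2455]),(8,[2656,2529,2530,2531,2532,2547,2548,2549,2550,2551,2552,2553,2554,2555,2556,2569,2570,2571,2572,2573]),(16,[2656,2597,2622,2623,2624,2625,2626,2627,2628,2629,2630,2631,2651,2652,2653,2654]),(32,[2656,2650,2655])], 1⟩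

end Cfsg.Agent.Lib.J4Dce59.Data
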