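import Cfsg.Agent.Lib.J4Dce59.CoverRules

/-! # Generated data for the double coset enumeration (Orb1) -/

set_option autoImplicit false
set_option maxRecDepth 100000
set_option maxHeartbeats 0

namespace Cfsg.Agent.Lib.J4Dce59.Data

noncomputable def trio1_00000 : Tr TStep :=
  .node (.node (.node (.node (.node (.node (.node (.leaf (.root 0)) (.leaf (.up 6 2384 [18] 530 [110,116,194]))) (.node (.leaf (.up 4 1917 [51] 617 [87,93,116,234])) (.leaf (.up 6 1319 [9] 0 [57,110,43,230])))) (.node (.node (.leaf (.up 5 2958 [9] 0 [88,56,43,128])) (.leaf (.up 5 547 [9] 0 [90,183]))) (.node (.leaf (.up 6 2007 [9] 0 [55,89,130])) (.leaf (.up 3 189 [10] 0 [87,91,122]))))) (.node (.node (.node (.leaf (.up 6 1881 [18] 530 [88,56,155,115])) (.leaf (.up 6 1255 [18] 530 [57,56,140,164]))) (.node (.leaf (.up 6 1539 [18] 530 [57,110,43,7])) (.leaf (.up 4 2735 [18] 530 [87,110,42,212])))) (.node (.node (.leaf (.up 4 3538 [18] 530 [87,56,44,171])) (.leaf (.up 6 1064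 [51] 617 [57,123,240]))) (.leaf (.up 7 1127 [18] 530 [94,42,236]))))) (.node (.node (.node (.node (.leaf (.up 5 1446 [9] 0 [55,91,205])) (.leaf (.up 5 2787 [18] 530 [110,90]))) (.node (.leaf (.up 2 2635 [18] 530 [55,140,23])) (.leaf (.up 4 2913 [5] 0 [])))) (.node (.node (.leaf (.up 6 1664 [9] 0 [87,93,123,1])) (.leaf (.up 5 434 [51] 617 [55,44,168]))) (.node (.leaf (.up 5 3658 [51] 617 [87,91,244])) (.leaf (.up 6 3625 [5] 0 []))))) (.node (.node (.node (.leaf (.up 6 188 [10] 0 [56,42,164])) (.leaf (.up 6 1248 [10] 0 [87,110,116,114]))) (.node (.leaf (.up 4 3517 [9] 0 [87,56,91,208])) (.leaf (.up 5 1633 [51] 617 [55,155,151])))) (.node (.node (.leaf (.up 6 3725 [10] 0 [88,55,42,243])) (.leaf (.up 4 1003 [51] 617 [87,93,89,246]))) (.leaf (.up 3 399 [10] 0 [87,56,103,122])))))) (.node (.node (.node (.node (.node (.leaf (.up 5 3100 [18] 530 [93,140,157])) (.leaf (.up 6 2259 [51] 617 [42,4]))) (.node (.leaf (.up 4 185 [18] 530 [57,94,116,193])) (.leaf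 (.up 5 2512 [18] 530 [57,110,89,188])))) (.node (.node (.leaf (.up 5 2819 [9] 0 [57,110,176,201])) (.leaf (.up 5 2284 [5] 0 []))) (.node (.leaf (.up 6 1902 [5] 0 [])) (.leaf (.up 4 3562 [5] 0 [88,110,91,200]))))) (.node (.node (.node (.leaf (.up 4 2326 [18] 530 [88,55,43,34])) (.leaf (.up 5 717 [10] 0 [55,91,157]))) (.node (.leaf (.up 5 2099 [51] 617 [87,55,42,196])) (.leaf (.up 7 737 [9] 0 [93,42,133])))) (.node (.node (.leaf (.up 6 936 [51] 617 [57,55,42,228])) (.leaf (.up 5 3777 [18] 530 [88,110,91,170]))) (.leaf (.up 6 1957 [18] 530 [57,93,103,248]))))) (.node (.node (.node (.node (.leaf (.up 3 1744 [10] 0 [57,94,155,203])) (.leaf (.up 6 1914 [5] 0 []))) (.node (.leaf (.up 6 2171 [51] 617 [88,55,91,197])) (.leaf (.up 6 1604 [10] 0 [55,44,76])))) (.node (.node (.leaf (.up 5 2099 [10] 0 [87,56,140,98])) (.leaf (.up 5 2566 [18] 530 [55,91,25]))) (.node (.leaf (.up 3 2260 [9] 0 [57,110,104,240])) (.leaf (.up 6 2159 [51] 617 [57,56,89,243])))))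 (.node (.node (.node (.leaf (.up 4 3501 [10] 0 [87,140,18])) (.leaf (.up 3 2121 [18] 530 [57,94,103,141]))) (.node (.leaf (.up 5 2157 [10] 0 [57,110,103,239])) (.leaf (.up 5 3674 [51] 617 [57,93,91,164])))) (.node (.node (.leaf (.up 5 1171 [5] 0 [])) (.leaf (.up 6 3124 [10] 0 [87,232]))) (.leaf (.up 5 2317 [18] 530 [55,116,15]))))))) (.node (.node (.node (.node (.node (.node (.leaf (.up 6 2484 [10] 0 [57,56,91,208])) (.leaf (.up 4 1524 [18] 530 [56,123,153]))) (.node (.leaf (.up 5 3272 [9] 0 [57,116,0])) (.leaf (.up 4 3354 [9] 0 [87,103,100])))) (.node (.node (.leaf (.up 4 1144 [10] 0 [88,140,146])) (.leaf (.up 6 388 [18] 530 [110,123,35]))) (.node (.leaf (.up 5 1867 [5] 0 [])) (.leaf (.up 4 1412 [18] 530 [88,55,23]))))) (.node (.node (.node (.leaf (.up 5 1875 [9] 0 [57,93,90,242])) (.leaf (.up 5 285 [9] 0 [88,56,42,171]))) (.node (.leaf (.up 6 2179 [51] 617 [57,94,104,108])) (.leaf (.up 5 2546 [10] 0 [57,176,215])))) (.node (.node (.leaf (.up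 6 3263 [51] 617 [57,94,42,169])) (.leaf (.up 3 1212 [9] 0 [57,110,116,0]))) (.leaf (.up 6 1588 [5] 0 []))))) (.node (.node (.node (.node (.leaf (.up 5 212 [51] 617 [87,55,89,126])) (.leaf (.up 4 2883 [10] 0 [87,93,103,136]))) (.node (.leaf (.up 6 2644 [18] 530 [57,110,116,105])) (.leaf (.up 6 3340 [10] 0 [57,103,248])))) (.node (.node (.leaf (.up 3 1071 [9] 0 [57,103,162])) (.leaf (.up 4 3701 [51] 617 [176,143]))) (.node (.leaf (.up 6 599 [10] 0 [88,110,90,167])) (.leaf (.up 5 2020 [9] 0 [93,104,117]))))) (.node (.node (.node (.leaf (.up 5 925 [51] 617 [87,56,21])) (.leaf (.up 6 388 [9] 0 [88,55,43,146]))) (.node (.leaf (.up 5 1886 [9] 0 [88,89,46])) (.leaf (.up 6 2644 [10] 0 [88,56,116,212])))) (.node (.node (.leaf (.up 6 1157 [9] 0 [57,93,90,211])) (.leaf (.up 6 2648 [5] 0 []))) (.leaf (.up 6 2281 [5] 0 [])))))) (.node (.node (.node (.node (.node (.leaf (.up 4 1070 [9] 0 [87,93,12])) (.leaf (.up 6 2435 [10] 0 [57,110,42,223]))) (.node (.leaf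 (.up 4 1359 [5] 0 [])) (.leaf (.up 6 3348 [18] 530 [57,110,103,139])))) (.node (.node (.leaf (.up 5 1151 [10] 0 [57,93,155,114])) (.leaf (.up 3 2121 [9] 0 [57,90,34]))) (.node (.leaf (.up 4 1728 [10] 0 [88,94,22])) (.leaf (.up 6 2108 [10] 0 [88,94,90,201]))))) (.node (.node (.node (.leaf (.up 6 1403 [10] 0 [110,231])) (.leaf (.up 6 3634 [9] 0 [57,55,90,216]))) (.node (.leaf (.up 4 1063 [51] 617 [56,43,75])) (.leaf (.up 5 1188 [18] 530 [91,119])))) (.node (.node (.leaf (.up 6 698 [5] 0 [])) (.leaf (.up 5 1661 [51] 617 [57,94,123,175]))) (.leaf (.up 3 1205 [51] 617 [57,94,90,216]))))) (.node (.node (.node (.node (.leaf (.up 4 3347 [18] 530 [57,110,42,209])) (.leaf (.up 5 2040 [51] 617 [88,93,91,120]))) (.node (.leaf (.up 5 1514 [5] 0 [])) (.leaf (.up 6 1607 [9] 0 [93,8])))) (.node (.node (.leaf (.up 6 839 [51] 617 [56,140,7])) (.leaf (.up 5 1656 [10] 0 [87,90,132]))) (.leaf (.up 7 2068 [5] 0 [])))) (.node (.node (.node (.leaf (.up 5 385 [5] 0 []))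 (.leaf (.up 6 2256 [10] 0 [88,55,91,146]))) (.node (.leaf (.up 5 894 [51] 617 [110,89,65])) (.leaf (.up 4 166 [18] 530 [88,94,43,190])))) (.node (.node (.leaf (.up 6 3298 [9] 0 [56,44,23])) (.leaf (.up 6 3151 [18] 530 [56,91,99]))) (.leaf (.up 6 2325 [18] 530 [88,110])))))))

noncomputable def trio1_00001 : Tr TStep :=
  .node (.node (.node (.node (.node (.node (.node (.leaf (.up 5 2208 [18] 530 [88,56,44,239])) (.leaf (.up 6 3426 [51] 617 [55,42,228]))) (.node (.leaf (.up 6 2624 [9] 0 [88,93,103,177])) (.leaf (.up 5 1886 [51] 617 [57,71])))) (.node (.node (.leaf (.up 3 3129 [18] 530 [87,93,116,61])) (.leaf (.up 6 2194 [9] 0 [110,43,190]))) (.node (.leaf (.up 6 3386 [10] 0 [57,94,123,128])) (.leaf (.up 6 3550 [51] 617 [88,56,90,227]))))) (.node (.node (.node (.leaf (.up 6 2897 [51] 617 [87,55,171])) (.leaf (.up 5 3640 [18] 530 [110,176,95]))) (.node (.leaf (.up 5 946 [9] 0 [87,56,42,247])) (.leaf (.up 6 2264 [18] 530 [88,56,43,131])))) (.node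 (.node (.leaf (.up 6 630 [5] 0 [])) (.leaf (.up 6 131 [51] 617 [56,104,151]))) (.leaf (.up 3 1517 [5] 0 []))))) (.node (.node (.node (.node (.leaf (.up 6 28 [51] 617 [57,56,43,193])) (.leaf (.up 5 337 [18] 530 [56,176,195]))) (.node (.leaf (.up 6 57 [51] 617 [94,44,10])) (.leaf (.up 5 3430 [5] 0 [])))) (.node (.node (.leaf (.up 4 816 [5] 0 [])) (.leaf (.up 6 3602 [18] 530 [88,56,91,223]))) (.node (.leaf (.up 6 1703 [5] 0 [87,110,123,4])) (.leaf (.up 5 1850 [51] 617 [57,93,42,172]))))) (.node (.node (.node (.leaf (.up 5 317 [5] 0 [])) (.leaf (.up 5 2332 [51] 617 [87,110,176,186]))) (.node (.leaf (.up 5 2882 [10] 0 [87,93,44,242])) (.leaf (.up 6 1473 [51] 617 [93,42,106])))) (.node (.node (.leaf (.up 6 3659 [9] 0 [90,139])) (.leaf (.up 6 1344 [51] 617 [93,123,198]))) (.leaf (.up 5 1633 [5] 0 [])))))) (.node (.node (.node (.node (.node (.leaf (.up 5 768 [10] 0 [55,44,200])) (.leaf (.up 5 82 [51] 617 [87,93,18]))) (.node (.leaf (.up 5 156 [51] 617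 [93,140,150])) (.leaf (.up 6 818 [9] 0 [88,56,116,112])))) (.node (.node (.leaf (.up 6 2115 [10] 0 [87,55,140,211])) (.leaf (.up 7 60 [18] 530 [57,94,43,25]))) (.node (.leaf (.up 6 1921 [5] 0 [])) (.leaf (.up 6 1905 [51] 617 [88,110,123,178]))))) (.node (.node (.node (.leaf (.up 5 3021 [9] 0 [88,103,189])) (.leaf (.up 5 3483 [18] 530 [57,55,103,223]))) (.node (.leaf (.up 4 3036 [51] 617 [87,55,155,23])) (.leaf (.up 5 2564 [18] 530 [87,176,25])))) (.node (.node (.leaf (.up 6 682 [5] 0 [])) (.leaf (.up 4 1773 [10] 0 [110,42,187]))) (.leaf (.up 6 2374 [9] 0 [88,56,116,71]))))) (.node (.node (.node (.node (.leaf (.up 6 3257 [18] 530 [87,91,131])) (.leaf (.up 5 1928 [5] 0 []))) (.node (.leaf (.up 5 3623 [9] 0 [57,55,104,193])) (.leaf (.up 4 2111 [9] 0 [88,94,116,162])))) (.node (.node (.leaf (.up 7 578 [5] 0 [])) (.leaf (.up 6 3659 [51] 617 [87,94,176,215]))) (.node (.leaf (.up 2 508 [18] 530 [87,89,22])) (.leaf (.up 6 3366 [51] 617 [87,55,89,232])))))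 (.node (.node (.node (.leaf (.up 4 123 [10] 0 [110,91,2])) (.leaf (.up 4 1707 [18] 530 [89,120]))) (.node (.leaf (.up 6 1026 [51] 617 [56,43,134])) (.leaf (.up 6 707 [51] 617 [87,94,140,96])))) (.node (.node (.leaf (.up 4 2602 [10] 0 [56,104,172])) (.leaf (.up 6 350 [18] 530 [88,93,43,112]))) (.leaf (.up 6 236 [51] 617 [91,208]))))))) (.node (.node (.node (.node (.node (.node (.leaf (.up 4 1070 [51] 617 [57,56,116,214])) (.leaf (.up 5 3333 [9] 0 [56,140,144]))) (.node (.leaf (.up 6 1014 [9] 0 [57,110,43,221])) (.leaf (.up 5 1114 [51] 617 [57,55,42,246])))) (.node (.node (.leaf (.up 5 1052 [18] 530 [56,91,194])) (.leaf (.up 6 3644 [9] 0 [88,56,176,33]))) (.node (.leaf (.up 6 899 [18] 530 [55,116,214])) (.leaf (.up 6 1609 [51] 617 [93,43,11]))))) (.node (.node (.node (.leaf (.up 6 240 [5] 0 [])) (.leaf (.up 5 1993 [10] 0 [88,55,90,35]))) (.node (.leaf (.up 5 3075 [51] 617 [56,89,230])) (.leaf (.up 6 3151 [10] 0 [87,110,176,215])))) (.node (.node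 (.leaf (.up 3 3464 [51] 617 [87,104,148])) (.leaf (.up 6 1770 [18] 530 [87,110,44,18]))) (.leaf (.up 5 3315 [9] 0 [57,93,89,229]))))) (.node (.node (.node (.node (.leaf (.up 5 3654 [18] 530 [88,93,140,3])) (.leaf (.up 5 2393 [51] 617 [57,110,123,13]))) (.node (.leaf (.up 6 3496 [18] 530 [88,55,44,181])) (.leaf (.up 6 76 [51] 617 [87,110,42,196])))) (.node (.node (.leaf (.up 6 2127 [9] 0 [56,42,100])) (.leaf (.up 6 3233 [51] 617 [88,93,44,156]))) (.node (.leaf (.up 6 3484 [51] 617 [88,93,233])) (.leaf (.up 4 2496 [51] 617 [87,55,135]))))) (.node (.node (.node (.leaf (.up 6 541 [5] 0 [])) (.leaf (.up 6 1675 [18] 530 [88,94,2]))) (.node (.leaf (.up 7 3689 [9] 0 [57,93,43,124])) (.leaf (.up 6 12 [51] 617 [93,43,131])))) (.node (.node (.leaf (.up 6 2158 [9] 0 [57,55,140,130])) (.leaf (.up 3 462 [51] 617 [88,93,104,215]))) (.leaf (.up 6 2298 [5] 0 [])))))) (.node (.node (.node (.node (.node (.leaf (.up 6 1935 [51] 617 [88,55,123,175])) (.leaf (.up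 5 2208 [9] 0 [88,110,140,218]))) (.node (.leaf (.up 3 3213 [10] 0 [88,55,90,101])) (.leaf (.up 4 444 [51] 617 [55,90,223])))) (.node (.node (.leaf (.up 6 2717 [51] 617 [93,89,215])) (.leaf (.up 5 732 [51] 617 [87,56,123,166]))) (.node (.leaf (.up 4 1586 [9] 0 [88,93,91,111])) (.leaf (.up 5 3758 [5] 0 []))))) (.node (.node (.node (.leaf (.up 5 3768 [51] 617 [94,42,147])) (.leaf (.up 6 3301 [51] 617 [88,56,44,230]))) (.node (.leaf (.up 6 1672 [5] 0 [])) (.leaf (.up 6 2536 [51] 617 [87,94,116,211])))) (.node (.node (.leaf (.up 5 3042 [51] 617 [56,90,203])) (.leaf (.up 5 1577 [9] 0 [55,103,185]))) (.leaf (.up 5 2734 [18] 530 [57,140,241]))))) (.node (.node (.node (.node (.leaf (.up 5 1928 [10] 0 [57,93,91,202])) (.leaf (.up 6 3062 [10] 0 [94,43,234]))) (.node (.leaf (.up 6 1532 [5] 0 [])) (.leaf (.up 4 3584 [51] 617 [57,94,42,15])))) (.node (.node (.leaf (.up 4 927 [5] 0 [])) (.leaf (.up 6 1351 [9] 0 [88,55,116,242]))) (.leaf (.up 5 562 [51] 617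 [87,55,44,216])))) (.node (.node (.node (.leaf (.up 5 261 [18] 530 [55,44,233])) (.leaf (.up 6 2881 [5] 0 []))) (.node (.leaf (.up 6 1811 [5] 0 [])) (.leaf (.up 6 1905 [9] 0 [94,155,234])))) (.node (.node (.leaf (.up 5 636 [51] 617 [94,44,177])) (.leaf (.up 6 581 [9] 0 [57,55,42,239]))) (.leaf (.up 6 667 [9] 0 [93,139])))))))

noncomputable def trio1_0000 : Tr TStep := .node trio1_00000 trio1_00001

noncomputable def trio1_00010 : Tr TStep :=
  .node (.node (.node (.node (.node (.node (.node (.leaf (.up 4 812 [51] 617 [87,43,69])) (.leaf (.up 6 2125 [51] 617 [88,93,155,73]))) (.node (.leaf (.up 5 2284 [51] 617 [57,89,36])) (.leaf (.up 5 3331 [5] 0 [])))) (.node (.node (.leaf (.up 5 847 [10] 0 [57,93,44,20])) (.leaf (.up 5 2618 [10] 0 [57,94,155,166]))) (.node (.leaf (.up 4 903 [51] 617 [110,176,121])) (.leaf (.up 5 8 [18] 530 [88,110,43,185]))))) (.node (.node (.node (.leaf (.up 6 2222 [51] 617 [55,90,177])) (.leaf (.up 5 1402 [9] 0 [87,43,37])))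 (.node (.leaf (.up 6 2090 [10] 0 [57,94,176,36])) (.leaf (.up 6 900 [9] 0 [57,110,89,23])))) (.node (.node (.leaf (.up 5 1795 [9] 0 [57,140,33])) (.leaf (.up 5 3033 [18] 530 [110,91,135]))) (.leaf (.up 6 1473 [9] 0 [110,90,173]))))) (.node (.node (.node (.node (.leaf (.up 5 2601 [10] 0 [57,94,123,18])) (.leaf (.up 4 2524 [5] 0 []))) (.node (.leaf (.up 4 3441 [9] 0 [88,56,140,180])) (.leaf (.up 5 2143 [10] 0 [56,89,36])))) (.node (.node (.leaf (.up 5 1632 [9] 0 [88,94,90,139])) (.leaf (.up 6 1704 [51] 617 [88,44,246]))) (.node (.leaf (.up 5 3515 [10] 0 [87,56,71])) (.leaf (.up 5 1485 [10] 0 [56,44,36]))))) (.node (.node (.node (.leaf (.up 5 490 [5] 0 [])) (.leaf (.up 4 3538 [9] 0 [57,94,91,236]))) (.node (.leaf (.up 5 3640 [51] 617 [57,94,44,186])) (.leaf (.up 2 2 [18] 530 [87,55,42,173])))) (.node (.node (.leaf (.up 3 998 [5] 0 [57,110,160])) (.leaf (.up 6 3722 [9] 0 [87,55,176,178]))) (.leaf (.up 4 1806 [51] 617 [57,123,171])))))) (.node (.node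 (.node (.node (.node (.leaf (.up 5 448 [51] 617 [57,103,29])) (.leaf (.up 4 1806 [5] 0 []))) (.node (.leaf (.up 6 188 [51] 617 [87,94,44,77])) (.leaf (.up 5 824 [10] 0 [87,56,104,234])))) (.node (.node (.leaf (.up 6 727 [5] 0 [])) (.leaf (.up 6 936 [18] 530 [88,55,90,76]))) (.node (.leaf (.up 6 2003 [18] 530 [88,94,103,230])) (.leaf (.up 6 2234 [51] 617 [88,94,233]))))) (.node (.node (.node (.leaf (.up 6 260 [5] 0 [])) (.leaf (.up 5 1024 [18] 530 [88,56,89,184]))) (.node (.leaf (.up 5 2627 [10] 0 [57,55,91,106])) (.leaf (.up 6 1735 [18] 530 [55,91,218])))) (.node (.node (.leaf (.up 4 997 [51] 617 [110,44,167])) (.leaf (.up 5 1928 [18] 530 [57,93,103,182]))) (.leaf (.up 6 1566 [5] 0 []))))) (.node (.node (.node (.node (.leaf (.up 7 2774 [51] 617 [88,55,123,235])) (.leaf (.up 6 2228 [10] 0 [87,93,103,136]))) (.node (.leaf (.up 6 3080 [18] 530 [57,93,42,197])) (.leaf (.up 4 2161 [10] 0 [87,55,116,227])))) (.node (.node (.leaf (.up 2 2946 [18] 530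 [57,56,104,206])) (.leaf (.up 4 2297 [18] 530 [87,56,176,145]))) (.node (.leaf (.up 6 2271 [51] 617 [57,55,89,179])) (.leaf (.up 5 3324 [18] 530 [87,94,155,75]))))) (.node (.node (.node (.leaf (.up 5 111 [9] 0 [88,44,138])) (.leaf (.up 5 1446 [51] 617 [88,42,8]))) (.node (.leaf (.up 6 3123 [51] 617 [110,104,113])) (.leaf (.up 4 3780 [51] 617 [88,93,104,214])))) (.node (.node (.leaf (.up 6 2281 [18] 530 [94,116,106])) (.leaf (.up 6 302 [51] 617 [88,110,43,76]))) (.leaf (.up 5 1420 [51] 617 [87,93,123,15]))))))) (.node (.node (.node (.node (.node (.node (.leaf (.up 7 3622 [51] 617 [87,56,44,132])) (.leaf (.up 6 1059 [10] 0 [88,93,176,153]))) (.node (.leaf (.up 5 3764 [18] 530 [94,91,16])) (.leaf (.up 5 1671 [18] 530 [94,91,69])))) (.node (.node (.leaf (.up 4 441 [5] 0 [])) (.leaf (.up 3 712 [18] 530 [94,91,239]))) (.node (.leaf (.up 6 1153 [9] 0 [57,176,15])) (.leaf (.up 5 3553 [5] 0 [104,231]))))) (.node (.node (.node (.leaf (.up 6 2043 [10] 0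 [57,93,89,195])) (.leaf (.up 5 2014 [5] 0 []))) (.node (.leaf (.up 6 2740 [9] 0 [57,94,140,60])) (.leaf (.up 5 1751 [51] 617 [56,89,46])))) (.node (.node (.leaf (.up 4 341 [51] 617 [57,110,43,194])) (.leaf (.up 5 2520 [5] 0 []))) (.leaf (.up 4 1688 [5] 0 [87,94,111]))))) (.node (.node (.node (.node (.leaf (.up 5 132 [5] 0 [])) (.leaf (.up 7 1892 [5] 0 []))) (.node (.leaf (.up 5 1446 [5] 0 [])) (.leaf (.up 5 2964 [5] 0 [])))) (.node (.node (.leaf (.up 6 3052 [10] 0 [57,93,176,130])) (.leaf (.up 6 2388 [5] 0 []))) (.node (.leaf (.up 5 216 [18] 530 [88,56,42,108])) (.leaf (.up 6 173 [51] 617 [87,55,90,160]))))) (.node (.node (.node (.leaf (.up 5 337 [5] 0 [])) (.leaf (.up 5 2812 [5] 0 []))) (.node (.leaf (.up 6 250 [18] 530 [88,94,155,180])) (.leaf (.up 5 1402 [10] 0 [57,55,140,71])))) (.node (.node (.leaf (.up 5 3683 [51] 617 [56,123,105])) (.leaf (.up 6 2514 [9] 0 [56,155,100]))) (.leaf (.up 5 1538 [51] 617 [56,155,195])))))) (.node (.node (.node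 (.node (.node (.leaf (.up 6 2388 [10] 0 [87,42,16])) (.leaf (.up 4 3737 [10] 0 [110,103,141]))) (.node (.leaf (.up 5 925 [5] 0 [])) (.leaf (.up 6 3151 [51] 617 [88,55,155,198])))) (.node (.node (.leaf (.up 5 495 [5] 0 [])) (.leaf (.up 6 2001 [18] 530 [88,55,116,186]))) (.node (.leaf (.up 5 1257 [9] 0 [57,89,246])) (.leaf (.up 6 3757 [51] 617 [94,42,209]))))) (.node (.node (.node (.leaf (.up 3 2943 [18] 530 [91,12])) (.leaf (.up 5 858 [10] 0 [57,94,123,180]))) (.node (.leaf (.up 5 3451 [51] 617 [87,94,42,92])) (.leaf (.up 5 3686 [18] 530 [55,104,18])))) (.node (.node (.leaf (.up 6 3157 [18] 530 [57,93,155,115])) (.leaf (.up 7 1843 [18] 530 [88,93,42,1]))) (.leaf (.up 6 757 [10] 0 [94,140,36]))))) (.node (.node (.node (.node (.leaf (.up 6 186 [18] 530 [56,91,125])) (.leaf (.up 2 10 [10] 0 [88,55,176,95]))) (.node (.leaf (.up 5 2837 [51] 617 [88,55,155,46])) (.leaf (.up 6 3512 [51] 617 [57,110,103,31])))) (.node (.node (.leaf (.up 6 1664 [51] 617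 [87,55,89,144])) (.leaf (.up 6 1915 [18] 530 [57,94,176,205]))) (.leaf (.up 5 2440 [10] 0 [88,55,140,157])))) (.node (.node (.node (.leaf (.up 5 1046 [10] 0 [87,123,117])) (.leaf (.up 5 2986 [18] 530 [88,94,104,102]))) (.node (.leaf (.up 5 2346 [9] 0 [87,56,155,125])) (.leaf (.up 7 2146 [51] 617 [57,94,155,167])))) (.node (.node (.leaf (.up 3 1152 [18] 530 [88,56,42,106])) (.leaf (.up 4 1989 [51] 617 [110,103,192]))) (.leaf (.up 6 1310 [51] 617 [88,94,123,167])))))))

noncomputable def trio1_00011 : Tr TStep :=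
  .node (.node (.node (.node (.node (.node (.node (.leaf (.up 6 2893 [9] 0 [88,94,91,222])) (.leaf (.up 5 2412 [5] 0 []))) (.node (.leaf (.up 5 857 [5] 0 [])) (.leaf (.up 4 446 [9] 0 [88,123,9])))) (.node (.node (.leaf (.up 4 1199 [51] 617 [87,110,42,159])) (.leaf (.up 6 2835 [9] 0 [88,55,116,34]))) (.node (.leaf (.up 5 3374 [18] 530 [87,56,91,143])) (.leaf (.up 5 2788 [10] 0 [57,116,20]))))) (.node (.node (.node (.leaf (.up 6 220 [5] 0 [])) (.leaf (.up 6 228 [18] 530 [93,140,159]))) (.node (.leaf (.up 6 1581 [5] 0 [])) (.leaf (.up 6 1328 [10] 0 [94,42,109])))) (.node (.node (.leaf (.up 5 1075 [18] 530 [94,42,31])) (.leaf (.up 5 2193 [9] 0 [87,56,129]))) (.leaf (.up 5 2522 [10] 0 [88,55,42,154]))))) (.node (.node (.node (.node (.leaf (.up 5 249 [9] 0 [57,56,92])) (.leaf (.up 6 2503 [5] 0 [93,116,183]))) (.node (.leaf (.up 3 966 [5] 0 [])) (.leaf (.up 5 2085 [18] 530 [87,56,44,18])))) (.node (.node (.leaf (.up 6 1885 [10] 0 [57,93,155,72])) (.leaf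 (.up 5 3683 [18] 530 [42,220]))) (.node (.leaf (.up 3 876 [18] 530 [88,55,103,182])) (.leaf (.up 3 966 [18] 530 [87,56,43,157]))))) (.node (.node (.node (.leaf (.up 5 3746 [9] 0 [93,103,242])) (.leaf (.up 5 2314 [5] 0 [87,110,42,216]))) (.node (.leaf (.up 5 1180 [5] 0 [])) (.leaf (.up 5 335 [51] 617 [87,55,188])))) (.node (.node (.leaf (.up 5 3415 [18] 530 [55,123,205])) (.leaf (.up 6 2178 [10] 0 [94,104,240]))) (.leaf (.up 6 2336 [10] 0 [94,44,189])))))) (.node (.node (.node (.node (.node (.leaf (.up 5 1832 [9] 0 [57,110,104,133])) (.leaf (.up 5 1822 [5] 0 []))) (.node (.leaf (.up 3 3160 [10] 0 [57,89,127])) (.leaf (.up 2 2 [9] 0 [88,93,155,102])))) (.node (.node (.leaf (.up 5 782 [9] 0 [87,94,91,121])) (.leaf (.up 5 2512 [9] 0 [87,91,71]))) (.node (.leaf (.up 6 3728 [10] 0 [56,176,18])) (.leaf (.up 6 3744 [5] 0 []))))) (.node (.node (.node (.leaf (.up 5 2296 [51] 617 [94,176,185])) (.leaf (.up 6 1478 [9] 0 [57,56,89,197]))) (.node (.leaf (.up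 5 2164 [9] 0 [87,94,104,224])) (.leaf (.up 6 900 [51] 617 [93,44,2])))) (.node (.node (.leaf (.up 5 1046 [5] 0 [])) (.leaf (.up 6 315 [9] 0 [94,123,246]))) (.leaf (.up 6 550 [9] 0 [57,90,156]))))) (.node (.node (.node (.node (.leaf (.up 4 3412 [18] 530 [88,42,171])) (.leaf (.up 5 3033 [10] 0 [94,140,33]))) (.node (.leaf (.up 4 436 [18] 530 [88,110,176,191])) (.leaf (.up 5 1131 [10] 0 [55,44,102])))) (.node (.node (.leaf (.up 6 916 [51] 617 [110,176,77])) (.leaf (.up 6 3276 [18] 530 [57,110,42,153]))) (.leaf (.up 4 1755 [5] 0 [93,42,102])))) (.node (.node (.node (.leaf (.up 5 3466 [10] 0 [87,110,123,132])) (.leaf (.up 4 221 [18] 530 [88,110,155,198]))) (.node (.leaf (.up 5 2465 [9] 0 [88,103,138])) (.leaf (.up 5 3658 [5] 0 [])))) (.node (.node (.leaf (.up 5 1928 [9] 0 [88,110,42,74])) (.leaf (.up 6 1271 [18] 530 [88,94,42,222]))) (.leaf (.up 5 2618 [9] 0 [57,56,140,99]))))))) (.node (.node (.node (.node (.node (.node (.leaf (.up 6 94 [10] 0 [87,93,104,229]))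 (.leaf (.up 4 1791 [5] 0 []))) (.node (.leaf (.up 4 26 [18] 530 [93,155,192])) (.leaf (.up 5 1408 [51] 617 [88,94,89,166])))) (.node (.node (.leaf (.up 6 1440 [18] 530 [88,90,235])) (.leaf (.up 5 320 [9] 0 [87,55,155,3]))) (.node (.leaf (.up 6 3367 [18] 530 [87,56,176,6])) (.leaf (.up 4 2553 [9] 0 [44,151]))))) (.node (.node (.node (.leaf (.up 6 2897 [10] 0 [57,176,165])) (.leaf (.up 5 2028 [5] 0 []))) (.node (.leaf (.up 6 1250 [9] 0 [87,56,193])) (.leaf (.up 5 3539 [5] 0 [])))) (.node (.node (.leaf (.up 4 2848 [51] 617 [87,110,140,34])) (.leaf (.up 5 2578 [5] 0 [88,94,140,213]))) (.leaf (.up 5 1656 [9] 0 [88,94,43,217]))))) (.node (.node (.node (.node (.leaf (.up 5 1961 [10] 0 [87,55,155,244])) (.leaf (.up 5 3783 [18] 530 [88,176,244]))) (.node (.leaf (.up 2 811 [10] 0 [94,116,162])) (.leaf (.up 5 3075 [9] 0 [57,103,242])))) (.node (.node (.leaf (.up 5 574 [10] 0 [110,42,205])) (.leaf (.up 5 3539 [18] 530 [87,93,140,72]))) (.node (.leaf (.up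 5 3417 [51] 617 [88,90,180])) (.leaf (.up 4 1464 [9] 0 [43,99]))))) (.node (.node (.node (.leaf (.up 5 1046 [51] 617 [87,94,103,148])) (.leaf (.up 4 1869 [18] 530 [94,116,99]))) (.node (.leaf (.up 3 712 [51] 617 [57,116,69])) (.leaf (.up 5 3499 [18] 530 [110,91,221])))) (.node (.node (.leaf (.up 5 1160 [5] 0 [])) (.leaf (.up 4 507 [9] 0 [88,110,104,36]))) (.leaf (.up 5 1820 [5] 0 [87,55,154])))))) (.node (.node (.node (.node (.node (.leaf (.up 5 3705 [51] 617 [57,94,43,199])) (.leaf (.up 5 3636 [18] 530 [88,56,89,184]))) (.node (.leaf (.up 3 2011 [18] 530 [87,56,90,128])) (.leaf (.up 5 1323 [9] 0 [57,94,43,124])))) (.node (.node (.leaf (.up 5 2758 [9] 0 [57,56,103,177])) (.leaf (.up 5 2530 [9] 0 [57,110,140,146]))) (.node (.leaf (.up 4 1377 [5] 0 [])) (.leaf (.up 5 3619 [5] 0 [57,93,104,146]))))) (.node (.node (.node (.leaf (.up 6 263 [51] 617 [57,56,91,126])) (.leaf (.up 6 2084 [5] 0 []))) (.node (.leaf (.up 6 2784 [18] 530 [94,90,152])) (.leaf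 (.up 6 825 [18] 530 [88,166])))) (.node (.node (.leaf (.up 5 177 [10] 0 [110,127])) (.leaf (.up 5 2964 [18] 530 [140,228]))) (.leaf (.up 6 1927 [10] 0 [87,56,2]))))) (.node (.node (.node (.node (.leaf (.up 5 1825 [18] 530 [87,94,140,219])) (.leaf (.up 4 2656 [10] 0 [87,155,179]))) (.node (.leaf (.up 5 1544 [5] 0 [])) (.leaf (.up 5 3782 [10] 0 [57,94,44,12])))) (.node (.node (.leaf (.up 6 1254 [51] 617 [88,93,104,223])) (.leaf (.up 4 1678 [18] 530 [55,44,197]))) (.leaf (.up 5 2044 [18] 530 [88,94,44,142])))) (.node (.node (.node (.leaf (.up 6 1840 [51] 617 [93,42,101])) (.leaf (.up 4 2782 [10] 0 [57,110,44,74]))) (.node (.leaf (.up 6 1870 [10] 0 [94,103,242])) (.leaf (.up 6 2153 [51] 617 [93,104,100])))) (.node (.node (.leaf (.up 5 932 [51] 617 [88,93,104,143])) (.leaf (.up 5 2778 [9] 0 [57,110,104,229]))) (.leaf (.up 4 1000 [51] 617 [93,176,115])))))))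

noncomputable def trio1_0001 : Tr TStep := .node trio1_00010 trio1_00011

noncomputable def trio1_000 : Tr TStep := .node trio1_0000 trio1_0001

noncomputable def trio1_00100 : Tr TStep :=
  .node (.node (.node (.node (.node (.node (.node (.leaf (.root 2)) (.leaf (.up 3 1744 [5] 0 []))) (.node (.leaf (.up 6 3054 [18] 530 [87,55,103,115])) (.leaf (.up 5 2778 [18] 530 [88,110,91,241])))) (.node (.node (.leaf (.up 5 3355 [51] 617 [55,123,168])) (.leaf (.up 4 1807 [9] 0 [110,116,5]))) (.node (.leaf (.up 4 2087 [51] 617 [87,110,176,227])) (.leaf (.up 4 904 [9] 0 [57,110,140,204]))))) (.node (.node (.node (.leaf (.up 5 2571 [51] 617 [88,94,44,222])) (.leaf (.up 4 2647 [5] 0 []))) (.node (.leaf (.up 6 757 [18] 530 [57,103,126])) (.leaf (.up 5 2898 [9] 0 [88,93,116,185])))) (.node (.node (.leaf (.up 4 2992 [51] 617 [56,123,244])) (.leaf (.up 6 1581 [9] 0 [88,94,155,61]))) (.leaf (.up 6 1509 [5] 0 []))))) (.node (.node (.node (.node (.leaf (.up 4 3134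 [51] 617 [88,56,116,1])) (.leaf (.up 6 1033 [18] 530 [110,197]))) (.node (.leaf (.up 5 2494 [18] 530 [88,110,74])) (.leaf (.up 5 859 [51] 617 [87,110,44,224])))) (.node (.node (.leaf (.up 5 335 [18] 530 [87,94,42,98])) (.leaf (.up 6 891 [18] 530 [57,93,140,236]))) (.node (.leaf (.up 6 550 [18] 530 [88,93,176,232])) (.leaf (.up 7 1797 [10] 0 [94,44,113]))))) (.node (.node (.node (.leaf (.up 5 2254 [18] 530 [88,94,43,4])) (.leaf (.up 5 2097 [5] 0 []))) (.node (.leaf (.up 3 2199 [51] 617 [110,42,109])) (.leaf (.up 6 1876 [18] 530 [87,56,112])))) (.node (.node (.leaf (.up 5 3104 [18] 530 [93,44,106])) (.leaf (.up 3 314 [10] 0 [88,110,43,200]))) (.leaf (.up 5 810 [51] 617 [57,55,176,73])))))) (.node (.node (.node (.node (.node (.leaf (.up 6 3275 [18] 530 [55,123,76])) (.leaf (.up 5 772 [9] 0 [88,103,173]))) (.node (.leaf (.up 5 1690 [18] 530 [88,55,135])) (.leaf (.up 6 1934 [18] 530 [87,93,140,219])))) (.node (.node (.leaf (.up 6 660 [10] 0 [88,91,6]))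 (.leaf (.up 6 3369 [9] 0 [87,93,103,142]))) (.node (.leaf (.up 5 3760 [9] 0 [93,43,175])) (.leaf (.up 5 3048 [51] 617 [88,56,123,225]))))) (.node (.node (.node (.leaf (.up 6 257 [5] 0 [])) (.leaf (.up 6 1771 [51] 617 [94,123,122]))) (.node (.leaf (.up 5 2225 [10] 0 [57,55,104,134])) (.leaf (.up 5 3100 [51] 617 [88,94,116,236])))) (.node (.node (.leaf (.up 5 3285 [10] 0 [87,93,176,238])) (.leaf (.up 5 2802 [10] 0 [88,90,136]))) (.leaf (.up 6 414 [51] 617 [87,94,90,191]))))) (.node (.node (.node (.node (.leaf (.up 5 2002 [18] 530 [87,103,192])) (.leaf (.up 4 2614 [9] 0 [87,94,140,158]))) (.node (.leaf (.up 5 1475 [5] 0 [])) (.leaf (.up 6 305 [51] 617 [87,94,140,59])))) (.node (.node (.leaf (.up 5 244 [51] 617 [93,44,165])) (.leaf (.up 5 338 [9] 0 [57,94,104,201]))) (.node (.leaf (.up 5 3225 [18] 530 [88,93,91,135])) (.leaf (.up 3 189 [18] 530 [87,93,104,46]))))) (.node (.node (.node (.leaf (.up 6 3573 [9] 0 [87,55,155,31])) (.leaf (.up 6 220 [18]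 530 [88,93,120]))) (.node (.leaf (.up 6 2232 [10] 0 [87,110,103,144])) (.leaf (.up 5 1822 [18] 530 [87,56,89,120])))) (.node (.node (.leaf (.up 5 786 [5] 0 [])) (.leaf (.up 4 3036 [5] 0 [57,55,123,153]))) (.leaf (.up 6 218 [18] 530 [57,94,176,10]))))))) (.node (.node (.node (.node (.node (.node (.leaf (.up 6 853 [10] 0 [56,91,0])) (.leaf (.up 5 1471 [9] 0 [56,140,8]))) (.node (.leaf (.up 6 409 [9] 0 [94,116,187])) (.leaf (.up 6 635 [51] 617 [57,93,246])))) (.node (.node (.leaf (.up 6 383 [18] 530 [103,224])) (.leaf (.up 6 115 [9] 0 [57,104,164]))) (.node (.leaf (.up 5 3781 [9] 0 [57,110,44,107])) (.leaf (.up 6 2657 [51] 617 [93,123,233]))))) (.node (.node (.node (.leaf (.up 5 370 [5] 0 [])) (.leaf (.up 6 1929 [10] 0 [57,89,96]))) (.node (.leaf (.up 6 681 [51] 617 [57,110,42,7])) (.leaf (.up 5 524 [9] 0 [87,93,241])))) (.node (.node (.leaf (.up 5 1544 [18] 530 [88,56,140,223])) (.leaf (.up 5 3437 [51] 617 [87,94,89,136]))) (.leaf (.up 5 2143 [5]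 0 []))))) (.node (.node (.node (.node (.leaf (.up 6 2712 [9] 0 [57,93,140,211])) (.leaf (.up 6 804 [9] 0 [87,103,125]))) (.node (.leaf (.up 4 1879 [51] 617 [88,110,43,128])) (.leaf (.up 7 515 [9] 0 [94,91,164])))) (.node (.node (.leaf (.up 5 249 [18] 530 [57,94,104,61])) (.leaf (.up 7 2279 [51] 617 [87,55,91,146]))) (.node (.leaf (.up 5 2393 [18] 530 [88,116,151])) (.leaf (.up 4 2981 [51] 617 [87,94,89,237]))))) (.node (.node (.node (.leaf (.up 4 360 [10] 0 [103,179])) (.leaf (.up 4 1773 [9] 0 [88,110,42,177]))) (.node (.leaf (.up 6 299 [51] 617 [88,55,89,231])) (.leaf (.up 5 3331 [9] 0 [57,94,135])))) (.node (.node (.leaf (.up 4 1136 [5] 0 [])) (.leaf (.up 6 698 [18] 530 [87,55,116,12]))) (.leaf (.up 3 998 [51] 617 [94,91,29])))))) (.node (.node (.node (.node (.node (.leaf (.up 6 3110 [51] 617 [87,191])) (.leaf (.up 6 2486 [5] 0 []))) (.node (.leaf (.up 6 241 [10] 0 [87,103,72])) (.leaf (.up 6 3039 [5] 0 [87,94,42,18])))) (.node (.node (.leaf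 (.up 6 2993 [10] 0 [56,43,109])) (.leaf (.up 3 527 [18] 530 [55,44,46]))) (.node (.leaf (.up 3 2669 [51] 617 [88,93,44,203])) (.leaf (.up 6 1566 [18] 530 [56,116,95]))))) (.node (.node (.node (.leaf (.up 5 1080 [10] 0 [87,110,91,60])) (.leaf (.up 6 644 [18] 530 [57,56,123,126]))) (.node (.leaf (.up 6 1135 [5] 0 [])) (.leaf (.up 6 2215 [9] 0 [88,56,31])))) (.node (.node (.leaf (.up 5 385 [18] 530 [104,33])) (.leaf (.up 7 3336 [51] 617 [87,94,123,133]))) (.leaf (.up 6 2074 [18] 530 [110,176,37]))))) (.node (.node (.node (.node (.leaf (.up 5 291 [5] 0 [])) (.leaf (.up 4 436 [10] 0 [87,90,143]))) (.node (.leaf (.up 5 3758 [51] 617 [87,94,44,147])) (.leaf (.up 6 2205 [51] 617 [87,55,90,175])))) (.node (.node (.leaf (.up 6 3445 [10] 0 [87,56,176,74])) (.leaf (.up 4 2450 [5] 0 []))) (.leaf (.up 6 3558 [9] 0 [88,93,44,158])))) (.node (.node (.node (.leaf (.up 6 72 [18] 530 [88,94,210])) (.leaf (.up 6 3445 [51] 617 [55,123,235]))) (.node (.leaf (.up 5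 552 [51] 617 [87,56,184])) (.leaf (.up 6 3256 [51] 617 [87,110,116,197])))) (.node (.node (.leaf (.up 6 3319 [9] 0 [87,43,169])) (.leaf (.up 6 2732 [5] 0 []))) (.leaf (.up 4 243 [18] 530 [88,55,43,230])))))))

noncomputable def trio1_00101 : Tr TStep :=
  .node (.node (.node (.node (.node (.node (.node (.leaf (.up 1 15 [5] 0 [])) (.leaf (.up 6 1589 [51] 617 [88,55,90,173]))) (.node (.leaf (.up 4 1136 [51] 617 [57,56,90,134])) (.leaf (.up 5 3342 [5] 0 [])))) (.node (.node (.leaf (.up 6 890 [10] 0 [88,94,104,7])) (.leaf (.up 6 1509 [18] 530 [57,56,103,98]))) (.node (.leaf (.up 5 249 [51] 617 [57,94,176,188])) (.leaf (.up 6 3474 [5] 0 []))))) (.node (.node (.node (.leaf (.up 6 854 [9] 0 [88,94,176,60])) (.leaf (.up 5 1993 [5] 0 []))) (.node (.leaf (.up 6 1929 [9] 0 [56,89,30])) (.leaf (.up 5 337 [51] 617 [87,94,104,172])))) (.node (.node (.leaf (.up 6 66 [51] 617 [110,104,159])) (.leaf (.up 6 1793 [10] 0 [110,91,194]))) (.leaf (.up 3 189 [51] 617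 [57,93,233]))))) (.node (.node (.node (.node (.leaf (.up 6 188 [5] 0 [])) (.leaf (.up 5 398 [51] 617 [56,90,196]))) (.node (.leaf (.up 4 1808 [51] 617 [55,43,190])) (.leaf (.up 5 2720 [51] 617 [87,110,176,238])))) (.node (.node (.leaf (.up 5 2501 [51] 617 [57,116,220])) (.leaf (.up 5 2412 [18] 530 [87,110,42,141]))) (.node (.leaf (.up 6 1641 [18] 530 [88,55,176,111])) (.leaf (.up 4 1373 [9] 0 [88,110,89,60]))))) (.node (.node (.node (.leaf (.up 4 1868 [10] 0 [87,104,148])) (.leaf (.up 6 1516 [9] 0 [88,55,42,109]))) (.node (.leaf (.up 4 3562 [18] 530 [57,56,42,59])) (.leaf (.up 6 2062 [18] 530 [88,55,43,109])))) (.node (.node (.leaf (.up 5 2035 [10] 0 [55,123,97])) (.leaf (.up 4 3517 [51] 617 [88,55,91,167]))) (.leaf (.up 2 1146 [18] 530 [88,56,44,174])))))) (.node (.node (.node (.node (.node (.leaf (.up 6 66 [5] 0 [])) (.leaf (.up 6 1902 [18] 530 [87,55,123,223]))) (.node (.leaf (.up 1 15 [51] 617 [87,110,43,149])) (.leaf (.up 6 461 [18] 530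 [55,148])))) (.node (.node (.leaf (.up 5 1475 [9] 0 [88,116,189])) (.leaf (.up 5 2306 [5] 0 []))) (.node (.leaf (.up 6 748 [51] 617 [57,94,42,76])) (.leaf (.up 6 3110 [9] 0 [110,104,189]))))) (.node (.node (.node (.leaf (.up 6 3394 [51] 617 [88,56,176,204])) (.leaf (.up 5 562 [18] 530 [88,94,155,196]))) (.node (.leaf (.up 6 2285 [10] 0 [57,155,120])) (.leaf (.up 3 2794 [10] 0 [88,56,43,223])))) (.node (.node (.leaf (.up 3 311 [18] 530 [87,110,123,2])) (.leaf (.up 5 2014 [18] 530 [57,94,42,246]))) (.leaf (.up 5 1577 [5] 0 []))))) (.node (.node (.node (.node (.leaf (.up 4 166 [5] 0 [])) (.leaf (.up 2 2946 [51] 617 [57,94,116,111]))) (.node (.leaf (.up 6 1763 [9] 0 [88,56,104,10])) (.leaf (.up 6 128 [10] 0 [57,110,44,77])))) (.node (.node (.leaf (.up 6 170 [9] 0 [88,55,44,150])) (.leaf (.up 4 2970 [9] 0 [88,110,140,146]))) (.leaf (.up 6 1660 [18] 530 [87,110,116,60])))) (.node (.node (.node (.leaf (.up 6 3520 [18] 530 [57,123,190])) (.leaf (.up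 4 2087 [18] 530 [87,110,42,218]))) (.node (.leaf (.up 5 1540 [9] 0 [93,44,16])) (.leaf (.up 4 123 [51] 617 [57,55,104,211])))) (.node (.node (.leaf (.up 5 2663 [9] 0 [57,55,176,152])) (.leaf (.up 5 2709 [5] 0 []))) (.leaf (.up 6 1545 [51] 617 [88,94,90,211]))))))) (.node (.node (.node (.node (.node (.node (.leaf (.up 5 1075 [51] 617 [87,110,42,149])) (.leaf (.up 6 757 [51] 617 [87,55,140,175]))) (.node (.leaf (.up 6 880 [5] 0 [])) (.leaf (.up 5 3674 [18] 530 [88,93,74])))) (.node (.node (.leaf (.up 6 1749 [10] 0 [88,110,123,149])) (.leaf (.up 5 2031 [18] 530 [87,116,106]))) (.node (.leaf (.up 5 1302 [51] 617 [57,94,90,216])) (.leaf (.up 4 2848 [18] 530 [87,94,90,0]))))) (.node (.node (.node (.leaf (.up 5 2465 [51] 617 [94,116,7])) (.leaf (.up 6 2834 [10] 0 [110,44,186]))) (.node (.leaf (.up 5 819 [10] 0 [87,201])) (.leaf (.up 6 496 [9] 0 [88,155,139])))) (.node (.node (.leaf (.up 6 3196 [51] 617 [57,155,20])) (.leaf (.up 6 2855 [5] 0 [88,55,44,106])))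 (.leaf (.up 5 2157 [9] 0 [57,90,181]))))) (.node (.node (.node (.node (.leaf (.up 5 795 [9] 0 [57,104,31])) (.leaf (.up 5 1114 [18] 530 [103,131]))) (.node (.leaf (.up 5 2085 [10] 0 [57,56,43,201])) (.leaf (.up 5 1729 [51] 617 [88,110,89,184])))) (.node (.node (.leaf (.up 5 859 [5] 0 [])) (.leaf (.up 5 3358 [51] 617 [87,43,114]))) (.node (.leaf (.up 6 2565 [10] 0 [94,116,132])) (.leaf (.up 4 3710 [5] 0 []))))) (.node (.node (.node (.leaf (.up 3 998 [9] 0 [57,56,89,154])) (.leaf (.up 5 1954 [51] 617 [87,93,43,115]))) (.node (.leaf (.up 6 1204 [5] 0 [])) (.leaf (.up 6 3574 [10] 0 [88,55,89,216])))) (.node (.node (.leaf (.up 5 858 [18] 530 [57,93,89,206])) (.leaf (.up 5 116 [18] 530 [57,93,176,242]))) (.leaf (.up 6 1664 [5] 0 [])))))) (.node (.node (.node (.node (.node (.leaf (.up 4 3134 [10] 0 [56,104,37])) (.leaf (.up 4 3347 [10] 0 [88,93,155,220]))) (.node (.leaf (.up 6 2665 [10] 0 [42,92])) (.leaf (.up 5 135 [9] 0 [123,146])))) (.node (.node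 (.leaf (.up 5 2244 [51] 617 [88,94,176,120])) (.leaf (.up 6 86 [18] 530 [88,93,44,29]))) (.node (.leaf (.up 4 1762 [5] 0 [88,55,2])) (.leaf (.up 5 557 [9] 0 [57,55,90,213]))))) (.node (.node (.node (.leaf (.up 5 1383 [51] 617 [57,94,44,11])) (.leaf (.up 5 96 [18] 530 [87,93,89,114]))) (.node (.leaf (.up 5 1666 [18] 530 [123,238])) (.leaf (.up 5 3654 [10] 0 [57,110,103,152])))) (.node (.node (.leaf (.up 6 86 [51] 617 [88,93,90,224])) (.leaf (.up 7 814 [18] 530 [88,110,116,35]))) (.leaf (.up 5 786 [18] 530 [88,110,1]))))) (.node (.node (.node (.node (.leaf (.up 4 2326 [51] 617 [88,55,155,192])) (.leaf (.up 5 1577 [18] 530 [88,56,155,130]))) (.node (.leaf (.up 4 246 [51] 617 [87,110,90,240])) (.leaf (.up 6 2293 [9] 0 [57,42,35])))) (.node (.node (.leaf (.up 5 155 [9] 0 [88,94,116,15])) (.leaf (.up 6 247 [18] 530 [87,94,89,37]))) (.leaf (.up 6 3157 [51] 617 [140,243])))) (.node (.node (.node (.leaf (.up 4 1412 [10] 0 [57,94,89,228])) (.leaf (.up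 5 801 [51] 617 [123,218]))) (.node (.leaf (.up 3 3213 [18] 530 [94,89,246])) (.leaf (.up 5 3483 [5] 0 [87,123,119])))) (.node (.node (.leaf (.up 7 51 [51] 617 [57,43,159])) (.leaf (.up 5 3312 [5] 0 []))) (.leaf (.up 3 3357 [9] 0 [88,90,216])))))))

noncomputable def trio1_0010 : Tr TStep := .node trio1_00100 trio1_00101

noncomputable def trio1_00110 : Tr TStep :=
  .node (.node (.node (.node (.node (.node (.node (.leaf (.up 5 17 [5] 0 [])) (.leaf (.up 5 793 [18] 530 [57,56,90,120]))) (.node (.leaf (.up 6 1256 [5] 0 [])) (.leaf (.up 5 2663 [10] 0 [57,94,103,117])))) (.node (.node (.leaf (.up 4 881 [51] 617 [88,55,89,76])) (.leaf (.up 6 3791 [10] 0 [87,93,244]))) (.node (.leaf (.up 6 1844 [51] 617 [56,44,168])) (.leaf (.up 6 1651 [18] 530 [87,55,72]))))) (.node (.node (.node (.leaf (.up 5 338 [5] 0 [])) (.leaf (.up 6 1051 [51] 617 [110,155,245]))) (.node (.leaf (.up 6 1732 [10] 0 [87,56,176,77])) (.leaf (.up 5 1961 [9] 0 [57,110,104,65])))) (.node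 (.node (.leaf (.up 6 1027 [18] 530 [57,56,123,174])) (.leaf (.up 5 2998 [9] 0 [57,110,44,197]))) (.leaf (.up 6 236 [18] 530 [88,56,42,5]))))) (.node (.node (.node (.node (.leaf (.up 6 581 [51] 617 [88,55,90,36])) (.leaf (.up 5 2530 [5] 0 []))) (.node (.leaf (.up 5 1186 [51] 617 [87,55,43,128])) (.leaf (.up 5 2723 [51] 617 [91,227])))) (.node (.node (.leaf (.up 4 1464 [10] 0 [57,93,89,189])) (.leaf (.up 6 1396 [9] 0 [57,56,29]))) (.node (.leaf (.up 6 1492 [10] 0 [87,42,181])) (.leaf (.up 6 3663 [10] 0 [87,123,37]))))) (.node (.node (.node (.leaf (.up 6 313 [5] 0 [])) (.leaf (.up 6 2912 [18] 530 [87,110,171]))) (.node (.leaf (.up 4 123 [18] 530 [88,90,174])) (.leaf (.up 6 2388 [18] 530 [87,140,171])))) (.node (.node (.leaf (.up 2 1108 [5] 0 [])) (.leaf (.up 6 988 [9] 0 [57,94,44,213]))) (.leaf (.up 5 1627 [5] 0 [])))))) (.node (.node (.node (.node (.node (.leaf (.up 5 2303 [10] 0 [57,56,42,212])) (.leaf (.up 4 3097 [51] 617 [56,42,132]))) (.node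 (.leaf (.up 4 3134 [18] 530 [57,94,90,71])) (.leaf (.up 7 2741 [10] 0 [87,43,20])))) (.node (.node (.leaf (.up 2 1146 [51] 617 [88,110,30])) (.leaf (.up 3 462 [9] 0 [55,43,197]))) (.node (.leaf (.up 6 1250 [10] 0 [57,94,116,167])) (.leaf (.up 6 3602 [5] 0 [94,123,144]))))) (.node (.node (.node (.leaf (.up 6 853 [9] 0 [87,110,104,102])) (.leaf (.up 6 3247 [18] 530 [140,136]))) (.node (.leaf (.up 5 3069 [51] 617 [56,90,122])) (.leaf (.up 5 3184 [5] 0 [])))) (.node (.node (.leaf (.up 3 1517 [9] 0 [103,10])) (.leaf (.up 6 2159 [18] 530 [87,94,104,99]))) (.leaf (.up 3 3464 [9] 0 [93,89,192]))))) (.node (.node (.node (.node (.leaf (.up 5 259 [5] 0 [])) (.leaf (.up 5 1783 [10] 0 [88,55,116,108]))) (.node (.leaf (.up 6 2171 [10] 0 [93,155,227])) (.leaf (.up 5 791 [51] 617 [56,91,163])))) (.node (.node (.leaf (.up 6 1581 [10] 0 [110,103,210])) (.leaf (.up 5 2299 [51] 617 [88,55,91,179]))) (.node (.leaf (.up 5 1725 [51] 617 [88,55,89,132])) (.leaf (.up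 6 1223 [9] 0 [57,93,140,211]))))) (.node (.node (.node (.leaf (.up 5 3612 [10] 0 [57,140,167])) (.leaf (.up 4 2861 [18] 530 [57,44,119]))) (.node (.leaf (.up 6 1478 [18] 530 [57,94,44,195])) (.leaf (.up 4 3649 [5] 0 [])))) (.node (.node (.leaf (.up 5 793 [5] 0 [])) (.leaf (.up 4 981 [51] 617 [94,155,22]))) (.leaf (.up 6 1026 [10] 0 [88,94,116,109]))))))) (.node (.node (.node (.node (.node (.node (.leaf (.up 6 936 [9] 0 [87,90,145])) (.leaf (.up 6 3359 [18] 530 [87,93,91,139]))) (.node (.leaf (.up 6 3741 [51] 617 [56,140,35])) (.leaf (.up 6 1018 [18] 530 [57,110,116,193])))) (.node (.node (.leaf (.up 5 212 [18] 530 [88,110])) (.leaf (.up 6 2263 [5] 0 []))) (.node (.leaf (.up 5 3227 [51] 617 [94,176,234])) (.leaf (.up 6 1874 [18] 530 [87,110,104,3]))))) (.node (.node (.node (.leaf (.up 4 1707 [10] 0 [87,89,201])) (.leaf (.up 6 2569 [51] 617 [87,110,91,216]))) (.node (.leaf (.up 6 2234 [18] 530 [140,76])) (.leaf (.up 6 2549 [9] 0 [57,110,90,218]))))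 (.node (.node (.leaf (.up 3 2280 [9] 0 [87,91,220])) (.leaf (.up 6 2950 [5] 0 [88,55,155,189]))) (.leaf (.up 5 2425 [18] 530 [93,89,5]))))) (.node (.node (.node (.node (.leaf (.up 5 135 [5] 0 [])) (.leaf (.up 5 840 [51] 617 [88,56,104,96]))) (.node (.leaf (.up 4 3546 [51] 617 [88,140,137])) (.leaf (.up 5 3594 [18] 530 [57,116,180])))) (.node (.node (.leaf (.up 6 550 [5] 0 [])) (.leaf (.up 5 2459 [10] 0 [88,94,90,231]))) (.node (.leaf (.up 5 2887 [51] 617 [110,44,202])) (.leaf (.up 4 1989 [18] 530 [93,123,230]))))) (.node (.node (.node (.leaf (.up 7 1892 [10] 0 [88,93,140,227])) (.leaf (.up 5 224 [10] 0 [91,162]))) (.node (.leaf (.up 6 3634 [51] 617 [57,176,175])) (.leaf (.up 5 3623 [5] 0 [])))) (.node (.node (.leaf (.up 4 1888 [18] 530 [88,93,42,13])) (.leaf (.up 7 1385 [51] 617 [57,56,90,247]))) (.leaf (.up 6 1581 [51] 617 [87,90,126])))))) (.node (.node (.node (.node (.node (.leaf (.up 6 86 [5] 0 [])) (.leaf (.up 5 335 [9] 0 [88,55,176,226])))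 (.node (.leaf (.up 4 3351 [51] 617 [56,123,248])) (.leaf (.up 6 3014 [51] 617 [57,56,103,150])))) (.node (.node (.leaf (.up 4 3107 [10] 0 [88,94,91,242])) (.leaf (.up 5 617 [18] 530 [88,110,89,242]))) (.node (.leaf (.up 6 2219 [51] 617 [57,55,89,138])) (.leaf (.up 6 3531 [9] 0 [93,91,244]))))) (.node (.node (.node (.leaf (.up 6 1328 [51] 617 [57,140,2])) (.leaf (.up 4 246 [10] 0 [87,94,42,147]))) (.node (.leaf (.up 5 3255 [9] 0 [57,55,237])) (.leaf (.up 6 970 [51] 617 [94,103,241])))) (.node (.node (.leaf (.up 2 2635 [9] 0 [87,93,206])) (.leaf (.up 5 859 [10] 0 [87,56,116,160]))) (.leaf (.up 5 3616 [9] 0 [87,94,44,22]))))) (.node (.node (.node (.node (.leaf (.up 5 3781 [18] 530 [57,110,123,109])) (.leaf (.up 4 1913 [18] 530 [57,55,155,219]))) (.node (.leaf (.up 5 526 [9] 0 [87,94,90,238])) (.leaf (.up 6 839 [10] 0 [87,110,155,202])))) (.node (.node (.leaf (.up 5 2958 [10] 0 [87,42,3])) (.leaf (.up 7 1944 [18] 530 [57,93,90,201]))) (.leaf (.up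 6 3784 [10] 0 [57,56,116,30])))) (.node (.node (.node (.leaf (.up 6 613 [5] 0 [])) (.leaf (.up 6 2285 [9] 0 [88,56,42,226]))) (.node (.leaf (.up 5 1024 [10] 0 [88,56,103,132])) (.leaf (.up 4 3412 [5] 0 [])))) (.node (.node (.leaf (.up 5 2494 [51] 617 [57,94,42,205])) (.leaf (.up 5 654 [51] 617 [57,110,90,121]))) (.leaf (.up 4 2797 [10] 0 [94,104,215])))))))

noncomputable def trio1_00111 : Tr TStep :=
  .node (.node (.node (.node (.node (.node (.node (.leaf (.up 5 2104 [9] 0 [104,7])) (.leaf (.up 6 3105 [9] 0 [57,93,176,167]))) (.node (.leaf (.up 4 3134 [9] 0 [87,55,15])) (.leaf (.up 4 3635 [18] 530 [57,42,11])))) (.node (.node (.leaf (.up 6 39 [10] 0 [57,55,43,76])) (.leaf (.up 6 2953 [10] 0 [88,110,176,61]))) (.node (.leaf (.up 6 2714 [10] 0 [87,89,23])) (.leaf (.up 4 3701 [5] 0 []))))) (.node (.node (.node (.leaf (.up 4 359 [5] 0 [])) (.leaf (.up 4 881 [9] 0 [55,116,150]))) (.node (.leaf (.up 5 2964 [9] 0 [88,93,44,132])) (.leaf (.up 5 1041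 [9] 0 [87,91,4])))) (.node (.node (.leaf (.up 4 3780 [18] 530 [93,91,212])) (.leaf (.up 5 1088 [9] 0 [87,94,103,119]))) (.leaf (.up 4 166 [9] 0 [103,0]))))) (.node (.node (.node (.node (.leaf (.up 4 192 [9] 0 [87,94,91,143])) (.leaf (.up 6 2327 [10] 0 [88,56,155]))) (.node (.leaf (.up 4 3037 [51] 617 [88,104,217])) (.leaf (.up 6 3126 [5] 0 [56,91,95])))) (.node (.node (.leaf (.up 5 833 [5] 0 [])) (.leaf (.up 4 1869 [51] 617 [88,110,176,34]))) (.node (.leaf (.up 5 2783 [51] 617 [87,110,43,162])) (.leaf (.up 6 2413 [9] 0 [93,155,200]))))) (.node (.node (.node (.leaf (.up 6 889 [51] 617 [87,56,176,139])) (.leaf (.up 6 1191 [18] 530 [88,94,176,241]))) (.node (.leaf (.up 5 3029 [9] 0 [88,56,43,143])) (.leaf (.up 5 3353 [10] 0 [88,94,140,244])))) (.node (.node (.leaf (.up 5 2703 [9] 0 [87,44,245])) (.leaf (.up 6 3728 [51] 617 [57,110,42,233]))) (.leaf (.up 5 2193 [5] 0 [])))))) (.node (.node (.node (.node (.node (.leaf (.up 6 682 [51] 617 [88,94,140,119]))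 (.leaf (.up 5 1928 [51] 617 [88,94,176,168]))) (.node (.leaf (.up 6 1130 [51] 617 [88,56,103,241])) (.leaf (.up 6 3117 [18] 530 [88,110,91,194])))) (.node (.node (.leaf (.up 5 774 [9] 0 [57,93,89,207])) (.leaf (.up 5 347 [51] 617 [87,93,44,127]))) (.node (.leaf (.up 5 1475 [18] 530 [88,94,104,194])) (.leaf (.up 6 2756 [51] 617 [88,93,202]))))) (.node (.node (.node (.leaf (.up 6 2001 [51] 617 [57,94,116,218])) (.leaf (.up 6 3001 [10] 0 [88,94,43,225]))) (.node (.leaf (.up 6 1135 [9] 0 [87,94,176,34])) (.leaf (.up 5 2673 [10] 0 [57,91,76])))) (.node (.node (.leaf (.up 5 1970 [18] 530 [88,55,123,177])) (.leaf (.up 5 3557 [18] 530 [87,55,104,222]))) (.leaf (.up 6 2654 [51] 617 [56,90,178]))))) (.node (.node (.node (.node (.leaf (.up 5 249 [10] 0 [57,93,140,216])) (.leaf (.up 4 2647 [51] 617 [42,2]))) (.node (.leaf (.up 6 3237 [51] 617 [93,155,193])) (.leaf (.up 6 2523 [18] 530 [57,44,207])))) (.node (.node (.leaf (.up 4 903 [5] 0 [])) (.leaf (.up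 4 2670 [18] 530 [88,110,176,215]))) (.leaf (.up 6 1406 [51] 617 [57,55,103,233])))) (.node (.node (.node (.leaf (.up 1 7 [51] 617 [56,75])) (.leaf (.up 3 2186 [9] 0 [87,110,103,138]))) (.node (.leaf (.up 6 2108 [51] 617 [55,116,60])) (.leaf (.up 5 3133 [10] 0 [88,94,104,134])))) (.node (.node (.leaf (.up 5 1820 [18] 530 [55,43,144])) (.leaf (.up 3 828 [51] 617 [57,55,90,184]))) (.leaf (.up 6 240 [51] 617 [57,55,123,186]))))))) (.node (.node (.node (.node (.node (.node (.leaf (.up 6 167 [9] 0 [88,93,140,100])) (.leaf (.up 5 1795 [5] 0 []))) (.node (.leaf (.up 6 511 [18] 530 [57,110,123,177])) (.leaf (.up 6 1799 [9] 0 [57,90,76])))) (.node (.node (.leaf (.up 6 449 [18] 530 [93,97])) (.leaf (.up 6 3778 [10] 0 [87,55,155,145]))) (.node (.leaf (.up 6 1805 [18] 530 [88,110])) (.leaf (.up 5 3528 [5] 0 []))))) (.node (.node (.node (.leaf (.up 6 250 [5] 0 [])) (.leaf (.up 6 2702 [5] 0 []))) (.node (.leaf (.up 6 1328 [18] 530 [87,56,42,185])) (.leaf (.up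 5 3694 [18] 530 [88,55,123,30])))) (.node (.node (.leaf (.up 2 2455 [9] 0 [88,55,116,1])) (.leaf (.up 4 507 [10] 0 [55,103,138]))) (.leaf (.up 2 1555 [5] 0 []))))) (.node (.node (.node (.node (.leaf (.up 5 3430 [51] 617 [57,56,140,165])) (.leaf (.up 6 1924 [18] 530 [104,124]))) (.node (.leaf (.up 2 590 [51] 617 [57,93,116,132])) (.leaf (.up 5 1487 [51] 617 [87,55,176,111])))) (.node (.node (.leaf (.up 5 420 [9] 0 [87,116,178])) (.leaf (.up 6 2408 [5] 0 []))) (.node (.leaf (.up 4 1989 [9] 0 [87,55,116,181])) (.leaf (.up 6 1605 [51] 617 [56,42,96]))))) (.node (.node (.node (.leaf (.up 3 1517 [10] 0 [87,43,109])) (.leaf (.up 5 1690 [9] 0 [57,43,215]))) (.node (.leaf (.up 7 290 [18] 530 [57,56,89,149])) (.leaf (.up 5 3636 [5] 0 [])))) (.node (.node (.leaf (.up 5 1165 [5] 0 [])) (.leaf (.up 6 3060 [9] 0 [57,93,155,242]))) (.leaf (.up 6 3117 [9] 0 [88,55,104,169])))))) (.node (.node (.node (.node (.node (.leaf (.up 5 156 [5] 0 [])) (.leaf (.up 5 2760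 [51] 617 [94,43,132]))) (.node (.leaf (.up 6 2292 [9] 0 [57,93,123,222])) (.leaf (.up 5 1730 [51] 617 [88,94,90,230])))) (.node (.node (.leaf (.up 4 1466 [18] 530 [57,110,44,221])) (.leaf (.up 5 2508 [51] 617 [116,207]))) (.node (.leaf (.up 5 1318 [9] 0 [57,94,140,175])) (.leaf (.up 6 313 [10] 0 [110,155,187]))))) (.node (.node (.node (.leaf (.up 6 3426 [10] 0 [94,91,247])) (.leaf (.up 6 2089 [5] 0 []))) (.node (.leaf (.up 4 2297 [9] 0 [57,110,104,76])) (.leaf (.up 5 1648 [51] 617 [94,90,213])))) (.node (.node (.leaf (.up 6 990 [5] 0 [87,56,43,170])) (.leaf (.up 6 2131 [51] 617 [56,104,207]))) (.leaf (.up 6 701 [51] 617 [87,56,91,244]))))) (.node (.node (.node (.node (.leaf (.up 6 2038 [9] 0 [88,155,147])) (.leaf (.up 6 2710 [9] 0 [57,94,104,111]))) (.node (.leaf (.up 6 1051 [5] 0 [])) (.leaf (.up 4 528 [51] 617 [88,93,116,61])))) (.node (.node (.leaf (.up 5 940 [5] 0 [])) (.leaf (.up 4 1689 [18] 530 [88,93,89,75]))) (.leaf (.up 7 1452 [18] 530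 [57,56,90,244])))) (.node (.node (.node (.leaf (.up 1 1 [9] 0 [87,56,44,77])) (.leaf (.up 5 1196 [9] 0 [57,93,90,135]))) (.node (.leaf (.up 5 824 [51] 617 [87,94,90,194])) (.leaf (.up 5 61 [10] 0 [87,110,123,246])))) (.node (.node (.leaf (.up 4 1237 [5] 0 [])) (.leaf (.up 5 3049 [51] 617 [88,56,176,238]))) (.leaf (.up 4 927 [9] 0 [57,123,135])))))))

noncomputable def trio1_0011 : Tr TStep := .node trio1_00110 trio1_00111

noncomputable def trio1_001 : Tr TStep := .node trio1_0010 trio1_0011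

noncomputable def trio1_00 : Tr TStep := .node trio1_000 trio1_001

noncomputable def trio1_01000 : Tr TStep :=
  .node (.node (.node (.node (.node (.node (.node (.leaf (.up 1 1 [5] 0 [])) (.leaf (.up 5 925 [18] 530 [57,140,33]))) (.node (.leaf (.up 5 2303 [18] 530 [88,140,126])) (.leaf (.up 5 3324 [5] 0 [])))) (.node (.node (.leaf (.up 6 2706 [9] 0 [88,93,155,204])) (.leaf (.up 5 271 [18] 530 [44,10]))) (.node (.leaf (.up 4 1678 [10] 0 [87,110,91,135])) (.leaf (.up 5 1376 [18] 530 [87,56,44,5]))))) (.node (.node (.node (.leaf (.up 5 1414 [9] 0 [94,155,225])) (.leaf (.up 4 3037 [9] 0 [55,155,221]))) (.node (.leaf (.up 6 2177 [18] 530 [87,94,160])) (.leaf (.up 6 3349 [5] 0 [57,140,207])))) (.node (.node (.leaf (.up 6 66 [10] 0 [87,55,123,181])) (.leaf (.up 6 3117 [5] 0 []))) (.leaf (.up 5 3358 [18] 530 [87,140]))))) (.node (.node (.node (.node (.leaf (.up 6 188 [18] 530 [88,110,116,189])) (.leaf (.up 5 1685 [18] 530 [87,56,116,114]))) (.node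 (.leaf (.up 6 1299 [5] 0 [33])) (.leaf (.up 6 3524 [18] 530 [57,110,201])))) (.node (.node (.leaf (.up 4 3037 [18] 530 [43])) (.leaf (.up 6 3507 [18] 530 [91,139]))) (.node (.leaf (.up 4 1975 [5] 0 [])) (.leaf (.up 6 9 [9] 0 [93,42,151]))))) (.node (.node (.node (.leaf (.up 5 911 [51] 617 [57,94,176,236])) (.leaf (.up 5 271 [9] 0 [94,91,197]))) (.node (.leaf (.up 5 2516 [9] 0 [57,110,116,219])) (.leaf (.up 5 3598 [51] 617 [87,55,155,137])))) (.node (.node (.leaf (.up 6 751 [10] 0 [57,94,90,230])) (.leaf (.up 1 1 [10] 0 [57,93,155,186]))) (.leaf (.up 4 1913 [10] 0 [87,56,89,207])))))) (.node (.node (.node (.node (.node (.leaf (.up 5 1701 [51] 617 [56,104,157])) (.leaf (.up 5 2546 [51] 617 [88,56,231]))) (.node (.leaf (.up 6 891 [5] 0 [])) (.leaf (.up 4 246 [9] 0 [87,110,248])))) (.node (.node (.leaf (.up 6 2712 [51] 617 [57,183])) (.leaf (.up 6 3216 [18] 530 [110,103,230]))) (.node (.leaf (.up 3 3661 [51] 617 [87,56,140,190])) (.leaf (.up 6 424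 [10] 0 [93,190]))))) (.node (.node (.node (.leaf (.up 7 46 [51] 617 [56,91,149])) (.leaf (.up 5 2210 [9] 0 [87,93,116,158]))) (.node (.leaf (.up 6 475 [9] 0 [57,110,104,190])) (.leaf (.up 5 3532 [9] 0 [88,94,176,136])))) (.node (.node (.leaf (.up 6 1018 [5] 0 [])) (.leaf (.up 4 1728 [18] 530 [57,94,90,202]))) (.leaf (.up 4 1354 [18] 530 [87,110,103,117]))))) (.node (.node (.node (.node (.leaf (.up 5 3111 [51] 617 [87,56,44,238])) (.leaf (.up 5 562 [10] 0 [94,43,142]))) (.node (.leaf (.up 6 1472 [5] 0 [])) (.leaf (.up 6 682 [9] 0 [87,93,116,212])))) (.node (.node (.leaf (.up 6 366 [10] 0 [88,56,44,118])) (.leaf (.up 6 2413 [5] 0 []))) (.node (.leaf (.up 4 3570 [9] 0 [88,93,155,191])) (.leaf (.up 5 3748 [5] 0 []))))) (.node (.node (.node (.leaf (.up 6 209 [51] 617 [110,176,215])) (.leaf (.up 5 2833 [5] 0 []))) (.node (.leaf (.up 6 3439 [18] 530 [90,234])) (.leaf (.up 6 1335 [18] 530 [87,55,60])))) (.node (.node (.leaf (.up 4 1643 [9] 0 [88,94,44,35]))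 (.leaf (.up 6 1256 [9] 0 [93,155,144]))) (.leaf (.up 4 1237 [18] 530 [87,93,89,122]))))))) (.node (.node (.node (.node (.node (.node (.leaf (.up 6 604 [51] 617 [57,56,123,102])) (.leaf (.up 6 1770 [5] 0 []))) (.node (.leaf (.up 4 1331 [10] 0 [123,203])) (.leaf (.up 5 2876 [51] 617 [55,103,71])))) (.node (.node (.leaf (.up 6 367 [9] 0 [57,94,43,25])) (.leaf (.up 3 712 [10] 0 [87,89,169]))) (.node (.leaf (.up 6 1506 [9] 0 [93,43,143])) (.leaf (.up 6 2009 [51] 617 [93,103,214]))))) (.node (.node (.node (.leaf (.up 6 1734 [10] 0 [87,56,103,46])) (.leaf (.up 6 2255 [5] 0 [88,110,103,73]))) (.node (.leaf (.up 6 970 [18] 530 [93,44,169])) (.leaf (.up 5 1842 [51] 617 [57,56,91,199])))) (.node (.node (.leaf (.up 5 1360 [51] 617 [90,97])) (.leaf (.up 6 2514 [5] 0 []))) (.leaf (.up 6 248 [51] 617 [103,166]))))) (.node (.node (.node (.node (.leaf (.up 6 2133 [18] 530 [87,93,90,248])) (.leaf (.up 4 1888 [5] 0 []))) (.node (.leaf (.up 4 2614 [18] 530 [55,44,5]))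 (.leaf (.up 5 2958 [5] 0 [])))) (.node (.node (.leaf (.up 6 2679 [51] 617 [57,93,91,36])) (.leaf (.up 4 3037 [5] 0 []))) (.node (.leaf (.up 6 2569 [18] 530 [57,110,43,59])) (.leaf (.up 4 3561 [18] 530 [55,42,171]))))) (.node (.node (.node (.leaf (.up 5 2683 [51] 617 [57,56,155,224])) (.leaf (.up 6 2125 [5] 0 []))) (.node (.leaf (.up 5 1724 [5] 0 [])) (.leaf (.up 5 719 [10] 0 [57,110,90,34])))) (.node (.node (.leaf (.up 6 755 [5] 0 [])) (.leaf (.up 5 2650 [5] 0 []))) (.leaf (.up 4 2161 [18] 530 [87,93,103,175])))))) (.node (.node (.node (.node (.node (.leaf (.up 5 2345 [51] 617 [57,55,140,230])) (.leaf (.up 6 3496 [9] 0 [57,94,42,182]))) (.node (.leaf (.up 6 21 [9] 0 [87,43,167])) (.leaf (.up 5 796 [18] 530 [88,110,44,33])))) (.node (.node (.leaf (.up 6 757 [5] 0 [])) (.leaf (.up 5 181 [18] 530 [87,93,103,3]))) (.node (.leaf (.up 5 2152 [18] 530 [57,110,90,29])) (.leaf (.up 6 1190 [51] 617 [88,93,116,189]))))) (.node (.node (.node (.leaf (.up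 5 1632 [18] 530 [93,44,15])) (.leaf (.up 6 2486 [51] 617 [87,94,44,27]))) (.node (.leaf (.up 5 2422 [18] 530 [87,93,89,29])) (.leaf (.up 5 3782 [51] 617 [57,42,213])))) (.node (.node (.leaf (.up 5 1479 [10] 0 [57,56,140,36])) (.leaf (.up 6 77 [51] 617 [87,94,89,118]))) (.leaf (.up 6 2213 [5] 0 []))))) (.node (.node (.node (.node (.leaf (.up 5 177 [5] 0 [])) (.leaf (.up 6 237 [9] 0 [55,116]))) (.node (.leaf (.up 5 3535 [51] 617 [87,56,103,142])) (.leaf (.up 5 48 [10] 0 [87,94,89,118])))) (.node (.node (.leaf (.up 6 2191 [51] 617 [87,44,187])) (.leaf (.up 6 176 [18] 530 [88,110,42,244]))) (.leaf (.up 3 828 [10] 0 [88,91,46])))) (.node (.node (.node (.leaf (.up 5 151 [51] 617 [87,55,90,168])) (.leaf (.up 4 3338 [10] 0 [57,56,140,169]))) (.node (.leaf (.up 5 2313 [18] 530 [57,110,90,2])) (.leaf (.up 6 3221 [10] 0 [88,93,140,191])))) (.node (.node (.leaf (.up 6 2271 [9] 0 [57,94,44,124])) (.leaf (.up 4 816 [18] 530 [91,243]))) (.leaf (.up 4 444 [9]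 0 [56,103,167])))))))

noncomputable def trio1_01001 : Tr TStep :=
  .node (.node (.node (.node (.node (.node (.node (.leaf (.up 5 2501 [10] 0 [88,89,177])) (.leaf (.up 6 2285 [18] 530 [57,94,90,120]))) (.node (.leaf (.up 6 853 [5] 0 [])) (.leaf (.up 5 3623 [51] 617 [88,90,164])))) (.node (.node (.leaf (.up 6 975 [51] 617 [88,110,104,129])) (.leaf (.up 4 1176 [9] 0 [110,218]))) (.node (.leaf (.up 6 2995 [9] 0 [87,43,183])) (.leaf (.up 5 1098 [9] 0 [57,93,44,119]))))) (.node (.node (.node (.leaf (.up 4 1399 [10] 0 [57,94,229])) (.leaf (.up 5 370 [10] 0 [88,93,104,99]))) (.node (.leaf (.up 6 1110 [18] 530 [176,228])) (.leaf (.up 6 3439 [5] 0 [88,110,91,65])))) (.node (.node (.leaf (.up 4 3351 [18] 530 [88,155,121])) (.leaf (.up 5 3331 [18] 530 [57,93,90,120]))) (.leaf (.up 6 2870 [51] 617 [42,128]))))) (.node (.node (.node (.node (.leaf (.up 5 1075 [10] 0 [88,93,91,203])) (.leaf (.up 5 1875 [5] 0 []))) (.node (.leaf (.up 5 1420 [5] 0 [])) (.leaf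 (.up 6 1630 [18] 530 [87,93,42,122])))) (.node (.node (.leaf (.up 6 1992 [51] 617 [87,93,176,224])) (.leaf (.up 5 2618 [18] 530 [88,94,104,226]))) (.node (.leaf (.up 5 347 [18] 530 [87,56,116,168])) (.leaf (.up 5 3100 [9] 0 [123,77]))))) (.node (.node (.node (.leaf (.up 6 3269 [51] 617 [87,56,44,245])) (.leaf (.up 3 1775 [51] 617 [155,231]))) (.node (.leaf (.up 5 1151 [51] 617 [88,56,91,69])) (.leaf (.up 5 406 [51] 617 [57,56,91,139])))) (.node (.node (.leaf (.up 6 3216 [9] 0 [88,93,44,183])) (.leaf (.up 6 3237 [5] 0 []))) (.leaf (.up 5 2720 [9] 0 [110,223])))))) (.node (.node (.node (.node (.node (.leaf (.up 4 1009 [10] 0 [93,91,210])) (.leaf (.up 6 628 [9] 0 [87,55,89,125]))) (.node (.leaf (.up 6 3173 [9] 0 [55,44,5])) (.leaf (.up 5 1827 [18] 530 [57,123,241])))) (.node (.node (.leaf (.up 6 1472 [18] 530 [87,110,89,213])) (.leaf (.up 6 487 [9] 0 [88,110,123,148]))) (.node (.leaf (.up 5 3401 [51] 617 [57,103,173])) (.leaf (.up 6 2178 [51] 617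 [87,55,104,183]))))) (.node (.node (.node (.leaf (.up 4 1755 [51] 617 [87,110,187])) (.leaf (.up 5 2552 [9] 0 [93,104,1]))) (.node (.leaf (.up 7 1680 [51] 617 [87,94,91,184])) (.leaf (.up 6 3192 [5] 0 [])))) (.node (.node (.leaf (.up 4 2913 [9] 0 [87,56,42,213])) (.leaf (.up 4 1176 [18] 530 [87,56,43,193]))) (.leaf (.up 5 774 [51] 617 [88,55,155,142]))))) (.node (.node (.node (.node (.leaf (.up 5 1414 [18] 530 [88,176,240])) (.leaf (.up 5 473 [10] 0 [56,104,130]))) (.node (.leaf (.up 5 1747 [51] 617 [57,55,42,182])) (.leaf (.up 6 1733 [18] 530 [56,116,227])))) (.node (.node (.leaf (.up 6 785 [5] 0 [88,93,213])) (.leaf (.up 4 3570 [18] 530 [88,103,177]))) (.node (.leaf (.up 5 1842 [18] 530 [57,93,43,184])) (.leaf (.up 5 858 [51] 617 [87,110,103,149]))))) (.node (.node (.node (.leaf (.up 6 372 [5] 0 [])) (.leaf (.up 5 3000 [51] 617 [87,56,140,105]))) (.node (.leaf (.up 5 284 [51] 617 [88,93,42,2])) (.leaf (.up 3 3357 [51] 617 [87,94,116,113]))))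 (.node (.node (.leaf (.up 6 1785 [10] 0 [57,176,15])) (.leaf (.up 6 2008 [10] 0 [87,110,42,10]))) (.leaf (.up 4 799 [9] 0 [110,116,65]))))))) (.node (.node (.node (.node (.node (.node (.leaf (.up 7 2404 [10] 0 [57,110,90,167])) (.leaf (.up 5 2703 [51] 617 [88,110,44,150]))) (.node (.leaf (.up 5 1302 [5] 0 [])) (.leaf (.up 6 1640 [18] 530 [88,155,126])))) (.node (.node (.leaf (.up 4 2656 [51] 617 [87,43,21])) (.leaf (.up 5 1569 [18] 530 [93,123,182]))) (.node (.leaf (.up 3 3661 [10] 0 [87,56,91,29])) (.leaf (.up 5 1521 [10] 0 [88,110,44,235]))))) (.node (.node (.node (.leaf (.up 6 1591 [51] 617 [57,94,89,228])) (.leaf (.up 6 2221 [51] 617 [87,56,123,133]))) (.node (.leaf (.up 5 850 [10] 0 [94,44,240])) (.leaf (.up 5 1715 [51] 617 [57,56,91,158])))) (.node (.node (.leaf (.up 5 3648 [18] 530 [88,94,90,146])) (.leaf (.up 5 1540 [18] 530 [88,110,104]))) (.leaf (.up 4 3635 [51] 617 [87,116,119]))))) (.node (.node (.node (.node (.leaf (.up 6 3028 [51]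 617 [88,94,103,69])) (.leaf (.up 5 779 [10] 0 [88,55,116,153]))) (.node (.leaf (.up 6 853 [18] 530 [94,176,227])) (.leaf (.up 6 1710 [9] 0 [87,55,91,163])))) (.node (.node (.leaf (.up 6 2624 [51] 617 [87,56,116,213])) (.leaf (.up 5 2276 [51] 617 [56,104,118]))) (.node (.leaf (.up 7 1282 [10] 0 [57,94,43,16])) (.leaf (.up 4 1917 [9] 0 [93,90,218]))))) (.node (.node (.node (.leaf (.up 4 1956 [9] 0 [55,91,229])) (.leaf (.up 6 2950 [10] 0 [87,55,44,100]))) (.node (.leaf (.up 6 713 [18] 530 [88,43,108])) (.leaf (.up 4 421 [10] 0 [110,140,159])))) (.node (.node (.leaf (.up 4 507 [18] 530 [88,44,60])) (.leaf (.up 6 2665 [5] 0 []))) (.leaf (.up 4 1602 [18] 530 [110,44,15])))))) (.node (.node (.node (.node (.node (.leaf (.up 5 398 [9] 0 [56,176,124])) (.leaf (.up 5 2097 [9] 0 [87,55,91,11]))) (.node (.leaf (.up 6 769 [18] 530 [110,104,232])) (.leaf (.up 4 1009 [9] 0 [87,55,104,22])))) (.node (.node (.leaf (.up 4 1762 [51] 617 [57,94,123,65])) (.leaf (.up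 4 2036 [18] 530 [57,110,44,95]))) (.node (.leaf (.up 5 132 [10] 0 [88,110,176,37])) (.leaf (.up 5 3607 [5] 0 []))))) (.node (.node (.node (.leaf (.up 4 1009 [18] 530 [87,56,103,221])) (.leaf (.up 4 441 [10] 0 [94,42,223]))) (.node (.leaf (.up 6 1771 [10] 0 [87,55,103,248])) (.leaf (.up 6 3002 [10] 0 [88,94,91,203])))) (.node (.node (.leaf (.up 6 713 [5] 0 [])) (.leaf (.up 6 2936 [51] 617 [57,94,43,152]))) (.leaf (.up 6 2685 [10] 0 [57,35]))))) (.node (.node (.node (.node (.leaf (.up 5 2986 [9] 0 [88,91,119])) (.leaf (.up 6 2084 [18] 530 [87,93,91,106]))) (.node (.leaf (.up 6 3755 [9] 0 [88,55,116,159])) (.leaf (.up 6 3257 [9] 0 [88,110,44,158])))) (.node (.node (.leaf (.up 6 242 [18] 530 [87,56,42,172])) (.leaf (.up 4 3347 [9] 0 [87,110,42,198]))) (.leaf (.up 6 2764 [10] 0 [88,123,157])))) (.node (.node (.node (.leaf (.up 4 904 [51] 617 [88,91])) (.leaf (.up 4 1331 [51] 617 [56,91,205]))) (.node (.leaf (.up 5 3451 [10] 0 [88,55,140,237])) (.leaf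 (.up 3 3213 [51] 617 [57,55,104,242])))) (.node (.node (.leaf (.up 6 949 [10] 0 [88,110,103,149])) (.leaf (.up 6 2378 [51] 617 [87,103,177]))) (.leaf (.up 6 2979 [18] 530 [88,55,176,202])))))))

noncomputable def trio1_0100 : Tr TStep := .node trio1_01000 trio1_01001

noncomputable def trio1_01010 : Tr TStep :=
  .node (.node (.node (.node (.node (.node (.node (.leaf (.up 1 7 [5] 0 [])) (.leaf (.up 5 2563 [18] 530 [57,94,116,132]))) (.node (.leaf (.up 6 3326 [10] 0 [94,90,186])) (.leaf (.up 7 3435 [9] 0 [87,55,176,7])))) (.node (.node (.leaf (.up 5 111 [51] 617 [57,42,228])) (.leaf (.up 5 156 [18] 530 [87,56,103,2]))) (.node (.leaf (.up 6 1840 [5] 0 [])) (.leaf (.up 4 1791 [10] 0 [55,140,142]))))) (.node (.node (.node (.leaf (.up 6 2140 [18] 530 [57,110,155,112])) (.leaf (.up 4 1003 [9] 0 [94,91,92]))) (.node (.leaf (.up 5 1417 [51] 617 [88,93,103,230])) (.leaf (.up 3 735 [51] 617 [56,42,157])))) (.node (.node (.leaf (.up 5 1171 [18] 530 [87,56,42,233]))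 (.leaf (.up 5 2508 [5] 0 [88,110,164]))) (.leaf (.up 7 1613 [51] 617 [88,94,103,199]))))) (.node (.node (.node (.node (.leaf (.up 6 3276 [51] 617 [56,116,160])) (.leaf (.up 2 989 [10] 0 [88,55,103,181]))) (.node (.leaf (.up 5 1974 [18] 530 [87,56,44,37])) (.leaf (.up 6 2641 [51] 617 [88,110,176,214])))) (.node (.node (.leaf (.up 6 1713 [10] 0 [93,91,183])) (.leaf (.up 5 3760 [18] 530 [87,55,91,125]))) (.node (.leaf (.up 6 1984 [5] 0 [])) (.leaf (.up 5 1757 [10] 0 [57,110,90,0]))))) (.node (.node (.node (.leaf (.up 4 437 [9] 0 [57,56,43,181])) (.leaf (.up 5 2707 [9] 0 [88,56,140,1]))) (.node (.leaf (.up 6 1960 [10] 0 [57,55,104,1])) (.leaf (.up 4 243 [51] 617 [110,44,214])))) (.node (.node (.leaf (.up 5 833 [10] 0 [57,56,103,242])) (.leaf (.up 6 160 [51] 617 [88,55,123,125]))) (.leaf (.up 6 2258 [5] 0 [])))))) (.node (.node (.node (.node (.node (.leaf (.up 5 1627 [51] 617 [55,103,217])) (.leaf (.up 6 2192 [9] 0 [56,42,210]))) (.node (.leaf (.up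 4 2496 [18] 530 [87,56,104,107])) (.leaf (.up 6 2158 [51] 617 [88,55,176,119])))) (.node (.node (.leaf (.up 6 575 [51] 617 [57,44,23])) (.leaf (.up 5 2296 [5] 0 []))) (.node (.leaf (.up 6 1330 [5] 0 [])) (.leaf (.up 4 3736 [51] 617 [87,42,154]))))) (.node (.node (.node (.leaf (.up 6 3745 [51] 617 [57,94,89,114])) (.leaf (.up 5 2508 [18] 530 [57,110,116,36]))) (.node (.leaf (.up 3 2011 [10] 0 [88,55,140,148])) (.leaf (.up 5 1151 [18] 530 [57,56,104,164])))) (.node (.node (.leaf (.up 6 890 [51] 617 [87,93,44,154])) (.leaf (.up 5 2124 [51] 617 [87,93,240]))) (.leaf (.up 5 2182 [5] 0 []))))) (.node (.node (.node (.node (.leaf (.up 6 1424 [9] 0 [88,56,90,190])) (.leaf (.up 6 2107 [10] 0 [57,118]))) (.node (.leaf (.up 6 1522 [51] 617 [56,89,146])) (.leaf (.up 6 3068 [10] 0 [88,93,90,117])))) (.node (.node (.leaf (.up 6 3444 [51] 617 [87,116,35])) (.leaf (.up 5 3069 [5] 0 []))) (.node (.leaf (.up 5 1044 [18] 530 [87,55,140,240])) (.leaf (.up 6 400 [9]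 0 [57,110,155,228]))))) (.node (.node (.node (.leaf (.up 4 246 [18] 530 [87,91,2])) (.leaf (.up 5 2165 [5] 0 []))) (.node (.leaf (.up 5 819 [51] 617 [110,103,164])) (.leaf (.up 5 3783 [10] 0 [57,56,158])))) (.node (.node (.leaf (.up 5 3466 [9] 0 [88,104,151])) (.leaf (.up 6 3251 [51] 617 [57,110,104,12]))) (.leaf (.up 5 779 [51] 617 [110,103,222]))))))) (.node (.node (.node (.node (.node (.node (.leaf (.up 6 52 [5] 0 [])) (.leaf (.up 5 2035 [18] 530 [91,174]))) (.node (.leaf (.up 6 299 [10] 0 [88,55,116,235])) (.leaf (.up 6 2483 [51] 617 [44,74])))) (.node (.node (.leaf (.up 6 2187 [9] 0 [57,103,2])) (.leaf (.up 3 2669 [5] 0 [87,155,12]))) (.node (.leaf (.up 5 3096 [18] 530 [57,110,90,223])) (.leaf (.up 6 2285 [51] 617 [94,155,75]))))) (.node (.node (.node (.leaf (.up 6 2197 [51] 617 [56,21])) (.leaf (.up 4 903 [10] 0 [56,176,202]))) (.node (.leaf (.up 5 717 [51] 617 [110,116,246])) (.leaf (.up 6 3530 [5] 0 [])))) (.node (.node (.leaf (.up 4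 1975 [51] 617 [87,103,207])) (.leaf (.up 5 2522 [5] 0 []))) (.leaf (.up 5 1540 [5] 0 []))))) (.node (.node (.node (.node (.leaf (.up 5 3012 [10] 0 [88,110,129])) (.leaf (.up 6 400 [10] 0 [88,110,235]))) (.node (.leaf (.up 5 1167 [18] 530 [56,104,138])) (.leaf (.up 6 597 [9] 0 [57,55,176,96])))) (.node (.node (.leaf (.up 5 3437 [10] 0 [87,55,104,59])) (.leaf (.up 6 1506 [18] 530 [94,104,224]))) (.node (.leaf (.up 5 2184 [10] 0 [87,94,140,18])) (.leaf (.up 4 3780 [5] 0 []))))) (.node (.node (.node (.leaf (.up 6 3191 [18] 530 [88,94,176,37])) (.leaf (.up 4 341 [9] 0 [55,44,65]))) (.node (.leaf (.up 6 3241 [51] 617 [57,94,42,244])) (.leaf (.up 7 469 [9] 0 [57,94,176,3])))) (.node (.node (.leaf (.up 7 393 [18] 530 [57,93,155,152])) (.leaf (.up 4 3736 [18] 530 [93,90,167]))) (.leaf (.up 6 225 [9] 0 [87,56,44,188])))))) (.node (.node (.node (.node (.node (.leaf (.up 3 223 [18] 530 [57,110,90,205])) (.leaf (.up 5 3271 [9] 0 [56,116,121]))) (.node (.leaf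 (.up 5 840 [9] 0 [88,110,44,234])) (.leaf (.up 6 2872 [18] 530 [57,93,91,153])))) (.node (.node (.leaf (.up 6 611 [10] 0 [88,110,123,209])) (.leaf (.up 4 1373 [10] 0 [57,55,90,237]))) (.node (.leaf (.up 4 360 [51] 617 [88,94,176,175])) (.leaf (.up 5 2674 [18] 530 [88,93,43,240]))))) (.node (.node (.node (.leaf (.up 6 456 [5] 0 [])) (.leaf (.up 5 1540 [51] 617 [93,155,129]))) (.node (.leaf (.up 6 1050 [9] 0 [87,56,116,10])) (.leaf (.up 6 1334 [18] 530 [87,123,242])))) (.node (.node (.leaf (.up 5 1970 [51] 617 [87,56,116,109])) (.leaf (.up 6 3119 [51] 617 [57,93,103,210]))) (.leaf (.up 4 3780 [10] 0 [88,110,104,37]))))) (.node (.node (.node (.node (.leaf (.up 6 3731 [18] 530 [110,116,2])) (.leaf (.up 5 1685 [10] 0 [88,56,44,122]))) (.node (.leaf (.up 6 214 [51] 617 [56,104,208])) (.leaf (.up 6 313 [18] 530 [88,89,217])))) (.node (.node (.leaf (.up 6 2403 [51] 617 [87,94,106])) (.leaf (.up 2 2455 [5] 0 []))) (.leaf (.up 5 1521 [9] 0 [88,55,155,209]))))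 (.node (.node (.node (.leaf (.up 4 3546 [10] 0 [57,110,103,234])) (.leaf (.up 5 2674 [10] 0 [88,93,104,217]))) (.node (.leaf (.up 4 3107 [9] 0 [55,123,183])) (.leaf (.up 3 1212 [10] 0 [88,94,176,216])))) (.node (.node (.leaf (.up 5 954 [5] 0 [88,93,103,65])) (.leaf (.up 6 2046 [51] 617 [87,94,140,27]))) (.leaf (.up 4 1812 [10] 0 [87,56,116,231])))))))

noncomputable def trio1_01011 : Tr TStep :=
  .node (.node (.node (.node (.node (.node (.node (.leaf (.up 3 3226 [9] 0 [87,93,8])) (.leaf (.up 5 1666 [51] 617 [87,110,116,238]))) (.node (.leaf (.up 5 1841 [51] 617 [57,93,104,99])) (.leaf (.up 6 2050 [9] 0 [57,110,116,241])))) (.node (.node (.leaf (.up 6 3270 [10] 0 [94,91,197])) (.leaf (.up 6 1914 [51] 617 [57,110,89,229]))) (.node (.leaf (.up 6 1618 [10] 0 [88,56,140,142])) (.leaf (.up 5 2182 [18] 530 [57,110,91,76]))))) (.node (.node (.node (.leaf (.up 6 66 [9] 0 [88,55,123,115])) (.leaf (.up 5 2673 [5] 0 []))) (.node (.leaf (.up 6 2083 [51]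 617 [55,89,18])) (.leaf (.up 3 735 [10] 0 [110,224])))) (.node (.node (.leaf (.up 6 1126 [9] 0 [87,94,44,59])) (.leaf (.up 6 2570 [9] 0 [87,110,44,214]))) (.leaf (.up 5 3615 [10] 0 [57,94,103,185]))))) (.node (.node (.node (.node (.leaf (.up 6 424 [18] 530 [94,43,37])) (.leaf (.up 4 844 [51] 617 [88,110,104,241]))) (.node (.leaf (.up 5 2733 [51] 617 [57,110,44,124])) (.leaf (.up 2 2946 [5] 0 [])))) (.node (.node (.leaf (.up 3 381 [10] 0 [57,94,104,75])) (.leaf (.up 5 2722 [9] 0 [57,90,220]))) (.node (.leaf (.up 4 2036 [10] 0 [110,42,6])) (.leaf (.up 5 370 [18] 530 [88,93,44,77]))))) (.node (.node (.node (.leaf (.up 5 2716 [51] 617 [87,55,44,20])) (.leaf (.up 6 1371 [10] 0 [57,94,42,75]))) (.node (.leaf (.up 5 1715 [5] 0 [])) (.leaf (.up 4 2981 [18] 530 [56,104,207])))) (.node (.node (.leaf (.up 5 1569 [10] 0 [57,56,116,100])) (.leaf (.up 3 3129 [5] 0 [55,90,129]))) (.leaf (.up 6 1117 [9] 0 [88,110,103,228])))))) (.node (.node (.node (.node (.node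 (.leaf (.up 3 314 [9] 0 [87,56,91,175])) (.leaf (.up 6 2959 [51] 617 [87,94,89,109]))) (.node (.leaf (.up 4 3107 [51] 617 [57,56,89,144])) (.leaf (.up 6 2397 [51] 617 [88,56,103,74])))) (.node (.node (.leaf (.up 4 1144 [18] 530 [56,104,186])) (.leaf (.up 4 1136 [9] 0 [57,93,103,180]))) (.node (.leaf (.up 6 1235 [10] 0 [87,93,89,106])) (.leaf (.up 4 3695 [51] 617 [110,90,106]))))) (.node (.node (.node (.leaf (.up 5 1487 [9] 0 [87,110,90,141])) (.leaf (.up 6 3395 [51] 617 [57,55,103,153]))) (.node (.leaf (.up 5 1402 [5] 0 [88,55,44,118])) (.leaf (.up 5 3285 [18] 530 [88,110,103,115])))) (.node (.node (.leaf (.up 4 1602 [9] 0 [87,94,43,167])) (.leaf (.up 6 2298 [9] 0 [87,93,103,239]))) (.leaf (.up 5 151 [18] 530 [93,103,248]))))) (.node (.node (.node (.node (.leaf (.up 5 1832 [10] 0 [57,110,90,46])) (.leaf (.up 5 2703 [10] 0 [87,55,90,223]))) (.node (.leaf (.up 5 1024 [5] 0 [])) (.leaf (.up 5 3482 [5] 0 [])))) (.node (.node (.leaf (.up 6 787 [10]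 0 [57,94,103,199])) (.leaf (.up 4 1917 [18] 530 [110,168]))) (.leaf (.up 6 2062 [5] 0 [])))) (.node (.node (.node (.leaf (.up 6 1192 [9] 0 [93,43,109])) (.leaf (.up 4 3441 [18] 530 [88,55,91,10]))) (.node (.leaf (.up 5 2530 [51] 617 [57,55,42,9])) (.leaf (.up 3 3661 [5] 0 [])))) (.node (.node (.leaf (.up 5 1729 [9] 0 [87,110,91,146])) (.leaf (.up 5 385 [10] 0 [94,155,136]))) (.leaf (.up 6 756 [51] 617 [57,116,144]))))))) (.node (.node (.node (.node (.node (.node (.leaf (.up 5 2488 [10] 0 [94,91,168])) (.leaf (.up 5 317 [9] 0 [93,91,59]))) (.node (.leaf (.up 5 3475 [10] 0 [88,56,104,229])) (.leaf (.up 6 21 [51] 617 [87,56,44,130])))) (.node (.node (.leaf (.up 4 2594 [51] 617 [88,93,0])) (.leaf (.up 4 3118 [51] 617 [93,140,154]))) (.node (.leaf (.up 5 1622 [18] 530 [44,9])) (.leaf (.up 4 2036 [51] 617 [110,11]))))) (.node (.node (.node (.leaf (.up 2 20 [18] 530 [44,7])) (.leaf (.up 5 1451 [18] 530 [87,93,176,216]))) (.node (.leaf (.up 5 1540 [10]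 0 [44,245])) (.leaf (.up 5 547 [51] 617 [94,155,226])))) (.node (.node (.leaf (.up 4 663 [5] 0 [])) (.leaf (.up 5 2183 [9] 0 [88,56,104,134]))) (.leaf (.up 4 1000 [10] 0 [88,56,123,60]))))) (.node (.node (.node (.node (.leaf (.up 5 2002 [51] 617 [88,110,190])) (.leaf (.up 5 3149 [10] 0 [57,116,173]))) (.node (.leaf (.up 4 1466 [5] 0 [])) (.leaf (.up 6 1215 [51] 617 [57,93,91,172])))) (.node (.node (.leaf (.up 5 859 [18] 530 [88,55,116,107])) (.leaf (.up 6 122 [9] 0 [87,43,119]))) (.node (.leaf (.up 5 1850 [5] 0 [57,55,155,9])) (.leaf (.up 5 2085 [51] 617 [57,56,91,199]))))) (.node (.node (.node (.leaf (.up 6 675 [51] 617 [55,116,198])) (.leaf (.up 6 2153 [5] 0 []))) (.node (.leaf (.up 3 2963 [9] 0 [57,43,178])) (.leaf (.up 5 2566 [9] 0 [93,89,0])))) (.node (.node (.leaf (.up 4 1489 [51] 617 [88,55,89,226])) (.leaf (.up 5 3407 [18] 530 [88,55,91,109]))) (.leaf (.up 5 2002 [5] 0 [57,56,90,233])))))) (.node (.node (.node (.node (.node (.leaf (.up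 5 3430 [10] 0 [87,167])) (.leaf (.up 6 725 [51] 617 [87,93,43,202]))) (.node (.leaf (.up 1 7 [18] 530 [88,93,176,232])) (.leaf (.up 6 451 [10] 0 [88,56,104,216])))) (.node (.node (.leaf (.up 6 511 [5] 0 [])) (.leaf (.up 6 3585 [51] 617 [87,55,43,232]))) (.node (.leaf (.up 5 2120 [9] 0 [56,90,243])) (.leaf (.up 5 3616 [5] 0 []))))) (.node (.node (.node (.leaf (.up 5 473 [5] 0 [])) (.leaf (.up 6 517 [9] 0 [88,42,60]))) (.node (.leaf (.up 4 1868 [51] 617 [57,56,176,1])) (.leaf (.up 6 1919 [9] 0 [88,55,91,99])))) (.node (.node (.leaf (.up 5 1088 [5] 0 [])) (.leaf (.up 6 853 [51] 617 [87,42,27]))) (.leaf (.up 5 547 [10] 0 [57,55,90,192]))))) (.node (.node (.node (.node (.leaf (.up 5 2808 [51] 617 [93,89,143])) (.leaf (.up 5 1825 [51] 617 [87,94,44,96]))) (.node (.leaf (.up 6 1050 [5] 0 [])) (.leaf (.up 5 1774 [10] 0 [57,56,91,192])))) (.node (.node (.leaf (.up 6 3444 [9] 0 [57,94,11])) (.leaf (.up 6 1435 [51] 617 [87,55,42,154]))) (.leaf (.up 6 1840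 [18] 530 [87,110,89,143])))) (.node (.node (.node (.leaf (.up 5 405 [5] 0 [])) (.leaf (.up 5 1601 [10] 0 [55,123,16]))) (.node (.leaf (.up 5 2315 [18] 530 [87,93,2])) (.leaf (.up 6 1207 [18] 530 [56,43,226])))) (.node (.node (.leaf (.up 5 1180 [51] 617 [57,110,123,244])) (.leaf (.up 5 1428 [10] 0 [57,44,206]))) (.leaf (.up 6 2374 [5] 0 [])))))))

noncomputable def trio1_0101 : Tr TStep := .node trio1_01010 trio1_01011

noncomputable def trio1_010 : Tr TStep := .node trio1_0100 trio1_0101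

noncomputable def trio1_01100 : Tr TStep :=
  .node (.node (.node (.node (.node (.node (.node (.leaf (.up 1 4 [5] 0 [])) (.leaf (.up 6 839 [9] 0 [57,93,103,22]))) (.node (.leaf (.up 5 2563 [10] 0 [140,143])) (.leaf (.up 5 3255 [18] 530 [87,56,89,60])))) (.node (.node (.leaf (.up 6 414 [5] 0 [])) (.leaf (.up 4 2553 [10] 0 [55,42,131]))) (.node (.leaf (.up 5 1045 [51] 617 [57,55,176,107])) (.leaf (.up 5 3615 [5] 0 [57,55,123,128]))))) (.node (.node (.node (.leaf (.up 5 717 [18] 530 [57,93,116,225])) (.leaf (.up 5 2488 [9] 0 [88,93,140,154]))) (.node (.leaf (.up 6 2131 [18] 530 [110,176,188])) (.leaf (.up 5 2703 [18] 530 [57,110,43,20])))) (.node (.node (.leaf (.up 4 1237 [51] 617 [87,56,140,194])) (.leaf (.up 6 2039 [18] 530 [93,42,233]))) (.leaf (.up 4 377 [18] 530 [88,56,42,5]))))) (.node (.node (.node (.node (.leaf (.up 2 1555 [51] 617 [93,91,97])) (.leaf (.up 4 2341 [51] 617 [87,93,104,73]))) (.node (.leaf (.up 5 1967 [10] 0 [93,140,18]))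 (.leaf (.up 4 1688 [18] 530 [57,110,89,59])))) (.node (.node (.leaf (.up 6 2995 [51] 617 [93,104,112])) (.leaf (.up 5 3658 [10] 0 [155,34]))) (.node (.leaf (.up 5 3328 [51] 617 [57,94,90,213])) (.leaf (.up 5 3636 [51] 617 [87,155,213]))))) (.node (.node (.node (.leaf (.up 6 952 [18] 530 [88,56,90,95])) (.leaf (.up 5 2778 [5] 0 []))) (.node (.leaf (.up 4 2450 [51] 617 [87,93,90,206])) (.leaf (.up 7 3765 [10] 0 [57,93,123,65])))) (.node (.node (.leaf (.up 3 1212 [51] 617 [104,76])) (.leaf (.up 5 2183 [18] 530 [55,104,184]))) (.leaf (.up 5 2254 [5] 0 [])))))) (.node (.node (.node (.node (.node (.leaf (.up 5 2347 [51] 617 [57,56,44,213])) (.leaf (.up 6 1056 [51] 617 [88,93,103,163]))) (.node (.leaf (.up 6 1016 [18] 530 [56,169])) (.leaf (.up 5 2758 [18] 530 [176,217])))) (.node (.node (.leaf (.up 6 3124 [9] 0 [57,93,123,97])) (.leaf (.up 6 2292 [5] 0 []))) (.node (.leaf (.up 5 1911 [5] 0 [])) (.leaf (.up 4 377 [9] 0 [88,93,140,193]))))) (.node (.node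 (.node (.leaf (.up 6 411 [5] 0 [])) (.leaf (.up 5 3184 [10] 0 [87,94,116,225]))) (.node (.leaf (.up 6 3419 [10] 0 [55,140,162])) (.leaf (.up 4 1688 [51] 617 [56,176,222])))) (.node (.node (.leaf (.up 5 2268 [51] 617 [87,94,89,3])) (.leaf (.up 5 2552 [5] 0 []))) (.leaf (.up 6 985 [18] 530 [87,93,155,227]))))) (.node (.node (.node (.node (.leaf (.up 5 2508 [9] 0 [87,94,43,13])) (.leaf (.up 6 2192 [5] 0 [88,94,90,135]))) (.node (.leaf (.up 6 1504 [18] 530 [88,89,166])) (.leaf (.up 5 3000 [5] 0 [])))) (.node (.node (.leaf (.up 6 935 [51] 617 [87,110,155,162])) (.leaf (.up 4 3538 [51] 617 [57,110,90,109]))) (.node (.leaf (.up 5 1544 [51] 617 [94,42,245])) (.leaf (.up 4 1176 [51] 617 [87,56,104,235]))))) (.node (.node (.node (.leaf (.up 5 132 [9] 0 [56,91,59])) (.leaf (.up 6 1374 [51] 617 [88,91,101]))) (.node (.leaf (.up 5 1875 [51] 617 [87,94,176,112])) (.leaf (.up 6 3367 [5] 0 [])))) (.node (.node (.leaf (.up 2 6 [10] 0 [88,55,140,16])) (.leaf (.up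 5 3748 [51] 617 [87,56,90,168]))) (.leaf (.up 5 1318 [51] 617 [110,103,213]))))))) (.node (.node (.node (.node (.node (.node (.leaf (.up 5 30 [5] 0 [])) (.leaf (.up 5 2734 [10] 0 [56,103,232]))) (.node (.leaf (.up 6 870 [5] 0 [])) (.leaf (.up 5 1898 [51] 617 [56,90,247])))) (.node (.node (.leaf (.up 5 1013 [18] 530 [88,110])) (.leaf (.up 6 2928 [5] 0 []))) (.node (.leaf (.up 6 2654 [9] 0 [57,55,90,31])) (.leaf (.up 6 2763 [18] 530 [88,93,160]))))) (.node (.node (.node (.leaf (.up 3 2011 [51] 617 [57,94,43,223])) (.leaf (.up 5 2871 [9] 0 [57,94,176,11]))) (.node (.leaf (.up 4 1086 [5] 0 [])) (.leaf (.up 5 458 [10] 0 [87,56,91,239])))) (.node (.node (.leaf (.up 6 3093 [9] 0 [87,104,122])) (.leaf (.up 6 1722 [18] 530 [87,55,91,134]))) (.leaf (.up 6 2924 [9] 0 [88,110,155,161]))))) (.node (.node (.node (.node (.leaf (.up 3 3357 [10] 0 [55,90,29])) (.leaf (.up 4 243 [10] 0 [87,110,123,12]))) (.node (.leaf (.up 5 3532 [18] 530 [57,116,8])) (.leaf (.up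 5 1701 [10] 0 [87,55,91,214])))) (.node (.node (.leaf (.up 5 1417 [9] 0 [43,109])) (.leaf (.up 5 3777 [51] 617 [88,89,206]))) (.node (.leaf (.up 6 2176 [10] 0 [88,94,91,211])) (.leaf (.up 5 283 [9] 0 [87,94,140,238]))))) (.node (.node (.node (.leaf (.up 5 3069 [10] 0 [55,42,106])) (.leaf (.up 6 926 [10] 0 [88,93,42,182]))) (.node (.leaf (.up 4 1586 [51] 617 [56,103,12])) (.leaf (.up 3 3283 [9] 0 [88,94,155,36])))) (.node (.node (.leaf (.up 6 1356 [51] 617 [87,89,135])) (.leaf (.up 5 2653 [5] 0 []))) (.leaf (.up 6 2057 [51] 617 [57,94,89,112])))))) (.node (.node (.node (.node (.node (.leaf (.up 6 80 [5] 0 [])) (.leaf (.up 5 2085 [5] 0 [93,116,69]))) (.node (.leaf (.up 5 3557 [10] 0 [110,90,230])) (.leaf (.up 6 3408 [18] 530 [57,56,155,183])))) (.node (.node (.leaf (.up 5 301 [9] 0 [56,140,118])) (.leaf (.up 6 3217 [18] 530 [56,42,117]))) (.node (.leaf (.up 5 2284 [10] 0 [87,110,91,178])) (.leaf (.up 4 663 [9] 0 [88,94,104,15]))))) (.node (.node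 (.node (.leaf (.up 5 850 [18] 530 [87,55,104])) (.leaf (.up 5 1031 [18] 530 [87,56,140,186]))) (.node (.leaf (.up 5 1661 [5] 0 [])) (.leaf (.up 4 243 [9] 0 [57,155,160])))) (.node (.node (.leaf (.up 5 2564 [51] 617 [110,42,22])) (.leaf (.up 6 2505 [9] 0 [87,110,116,215]))) (.leaf (.up 6 3769 [10] 0 [87,55,44,65]))))) (.node (.node (.node (.node (.leaf (.up 6 180 [5] 0 [])) (.leaf (.up 7 2166 [5] 0 [88,93,140,241]))) (.node (.leaf (.up 5 116 [51] 617 [88,94,89,202])) (.leaf (.up 6 2073 [9] 0 [57,55,151])))) (.node (.node (.leaf (.up 6 913 [5] 0 [])) (.leaf (.up 2 3094 [5] 0 []))) (.leaf (.up 5 1131 [9] 0 [87,93,42,234])))) (.node (.node (.node (.leaf (.up 6 3474 [18] 530 [57,93,43,173])) (.leaf (.up 6 2191 [5] 0 []))) (.node (.leaf (.up 5 1245 [5] 0 [])) (.leaf (.up 5 406 [10] 0 [94,89,154])))) (.node (.node (.leaf (.up 2 3094 [51] 617 [88,56,89,115])) (.leaf (.up 6 1416 [18] 530 [57,116,225]))) (.leaf (.up 6 595 [9] 0 [55,190])))))))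

noncomputable def trio1_01101 : Tr TStep :=
  .node (.node (.node (.node (.node (.node (.node (.leaf (.up 6 2805 [51] 617 [57,55,44,125])) (.leaf (.up 6 2680 [18] 530 [88,176,240]))) (.node (.leaf (.up 4 441 [18] 530 [88,110,44,4])) (.leaf (.up 1 1 [51] 617 [88,55,116,179])))) (.node (.node (.leaf (.up 6 3068 [18] 530 [88,94,44,178])) (.leaf (.up 6 2115 [9] 0 [87,110,43,61]))) (.node (.leaf (.up 6 1710 [10] 0 [87,93,90,3])) (.leaf (.up 6 1159 [10] 0 [87,56,43,22]))))) (.node (.node (.node (.leaf (.up 5 3342 [10] 0 [57,56,103,168])) (.leaf (.up 3 311 [10] 0 [87,110,43,137]))) (.node (.leaf (.up 4 629 [51] 617 [56,104,215])) (.leaf (.up 6 789 [51] 617 [155,210])))) (.node (.node (.leaf (.up 6 2336 [18] 530 [55,123,59])) (.leaf (.up 6 3135 [5] 0 [55,155,192]))) (.leaf (.up 5 2819 [10] 0 [57,110,90,3]))))) (.node (.node (.node (.node (.leaf (.up 7 3122 [10] 0 [155,136])) (.leaf (.up 5 2882 [9] 0 [57,94,90,149]))) (.node (.leaf (.up 6 3579 [10] 0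 [56,105])) (.leaf (.up 6 2939 [5] 0 [])))) (.node (.node (.leaf (.up 5 824 [5] 0 [])) (.leaf (.up 5 3029 [5] 0 []))) (.node (.leaf (.up 6 2374 [51] 617 [87,110,155,165])) (.leaf (.up 5 505 [9] 0 [57,94,42,181]))))) (.node (.node (.node (.leaf (.up 4 2496 [9] 0 [88,56,140,16])) (.leaf (.up 6 1905 [18] 530 [57,94,89,73]))) (.node (.leaf (.up 4 85 [18] 530 [88,140,195])) (.leaf (.up 6 1618 [9] 0 [56,103,27])))) (.node (.node (.leaf (.up 6 3237 [9] 0 [57,110,103,106])) (.leaf (.up 4 715 [10] 0 [57,123,33]))) (.leaf (.up 6 2945 [51] 617 [88,155,203])))))) (.node (.node (.node (.node (.node (.leaf (.up 5 2346 [51] 617 [94,44,227])) (.leaf (.up 4 437 [18] 530 [110,43,205]))) (.node (.leaf (.up 5 224 [51] 617 [110,104,168])) (.leaf (.up 6 2859 [5] 0 [])))) (.node (.node (.leaf (.up 6 604 [5] 0 [88,56,140,228])) (.leaf (.up 5 1471 [10] 0 [87,241]))) (.node (.leaf (.up 4 1688 [9] 0 [104,144])) (.leaf (.up 4 3153 [9] 0 [57,94,91,170]))))) (.node (.node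 (.node (.leaf (.up 5 1479 [51] 617 [57,94,91,180])) (.leaf (.up 6 2271 [10] 0 [94,89,146]))) (.node (.leaf (.up 5 2165 [9] 0 [88,56,89,92])) (.leaf (.up 5 857 [9] 0 [57,56,90,95])))) (.node (.node (.leaf (.up 5 3271 [18] 530 [57,110,43,222])) (.leaf (.up 5 2780 [9] 0 [88,93,89,136]))) (.leaf (.up 4 446 [18] 530 [87,110,90,134]))))) (.node (.node (.node (.node (.leaf (.up 5 2469 [51] 617 [87,56,103,138])) (.leaf (.up 4 1806 [10] 0 [57,93,89,119]))) (.node (.leaf (.up 5 3020 [10] 0 [94,140,126])) (.leaf (.up 5 1967 [51] 617 [93,59])))) (.node (.node (.leaf (.up 5 2770 [10] 0 [57,55,91,36])) (.leaf (.up 6 3170 [9] 0 [56,91,4]))) (.leaf (.up 4 1464 [5] 0 [])))) (.node (.node (.node (.leaf (.up 5 500 [5] 0 [57,56,44,237])) (.leaf (.up 5 3782 [9] 0 [57,110,104,163]))) (.node (.leaf (.up 7 1781 [5] 0 [])) (.leaf (.up 7 3162 [18] 530 [87,55,43,188])))) (.node (.node (.leaf (.up 6 3791 [51] 617 [55,89,162])) (.leaf (.up 4 1913 [9] 0 [110,234]))) (.leaf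 (.up 6 648 [51] 617 [57,56,176,167]))))))) (.node (.node (.node (.node (.node (.node (.leaf (.up 7 583 [18] 530 [94,91,92])) (.leaf (.up 6 1923 [9] 0 [88,104,234]))) (.node (.leaf (.up 5 3623 [10] 0 [87,155,120])) (.leaf (.up 5 3648 [51] 617 [57,93,103,199])))) (.node (.node (.leaf (.up 6 3043 [51] 617 [93,155,128])) (.leaf (.up 3 2943 [5] 0 []))) (.node (.leaf (.up 5 3495 [51] 617 [87,110,91,121])) (.leaf (.up 5 1046 [9] 0 [87,140,2]))))) (.node (.node (.node (.leaf (.up 5 1100 [10] 0 [87,55,90,136])) (.leaf (.up 6 2694 [5] 0 []))) (.node (.leaf (.up 5 2666 [18] 530 [87,93,104,114])) (.leaf (.up 6 3544 [51] 617 [88,93,155,192])))) (.node (.node (.leaf (.up 2 989 [51] 617 [87,94,155,114])) (.leaf (.up 5 1661 [18] 530 [110,42,117]))) (.leaf (.up 6 2162 [5] 0 []))))) (.node (.node (.node (.node (.leaf (.up 5 875 [10] 0 [88,56,91,161])) (.leaf (.up 6 3144 [18] 530 [56,103,13]))) (.node (.leaf (.up 6 3405 [51] 617 [87,55,44,168])) (.leaf (.up 5 1922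 [9] 0 [91,231])))) (.node (.node (.leaf (.up 5 2308 [9] 0 [87,93,44,172])) (.leaf (.up 6 2834 [5] 0 [88,56,90,208]))) (.node (.leaf (.up 6 1436 [5] 0 [])) (.leaf (.up 5 283 [51] 617 [88,110,176,150]))))) (.node (.node (.node (.leaf (.up 6 2433 [10] 0 [88,56,90,142])) (.leaf (.up 5 3317 [10] 0 [88,56,91,139]))) (.node (.leaf (.up 6 2821 [9] 0 [110,176,99])) (.leaf (.up 6 1322 [51] 617 [57,56,116,111])))) (.node (.node (.leaf (.up 6 1192 [10] 0 [57,93,140,76])) (.leaf (.up 4 2670 [5] 0 []))) (.leaf (.up 4 2305 [5] 0 [])))))) (.node (.node (.node (.node (.node (.leaf (.up 6 1177 [10] 0 [88,56,90,9])) (.leaf (.up 6 1859 [51] 617 [88,55,140,10]))) (.node (.leaf (.up 6 3665 [10] 0 [57,55,89,211])) (.leaf (.up 5 1404 [10] 0 [88,110,42,122])))) (.node (.node (.leaf (.up 5 3075 [10] 0 [57,56,155,8])) (.leaf (.up 6 2337 [5] 0 []))) (.node (.leaf (.up 6 3001 [9] 0 [88,55,116,227])) (.leaf (.up 5 833 [51] 617 [155,9]))))) (.node (.node (.node (.leaf (.up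 6 3367 [51] 617 [93,89,141])) (.leaf (.up 4 1791 [51] 617 [88,56,116,243]))) (.node (.leaf (.up 5 1151 [5] 0 [])) (.leaf (.up 6 265 [10] 0 [57,93,123,10])))) (.node (.node (.leaf (.up 6 698 [9] 0 [88,94,43,135])) (.leaf (.up 5 3612 [9] 0 [88,110,21]))) (.leaf (.up 6 2234 [5] 0 []))))) (.node (.node (.node (.node (.leaf (.up 3 311 [5] 0 [])) (.leaf (.up 6 2277 [51] 617 [88,42,167]))) (.node (.leaf (.up 7 584 [9] 0 [88,110,103,229])) (.leaf (.up 6 1139 [18] 530 [57,93,140,18])))) (.node (.node (.leaf (.up 6 611 [5] 0 [])) (.leaf (.up 6 3105 [5] 0 []))) (.leaf (.up 5 654 [18] 530 [88,56,44,29])))) (.node (.node (.node (.leaf (.up 6 880 [9] 0 [57,94,90,101])) (.leaf (.up 5 2208 [5] 0 []))) (.node (.leaf (.up 5 719 [9] 0 [56,155,217])) (.leaf (.up 5 3677 [5] 0 [])))) (.node (.node (.leaf (.up 5 1323 [51] 617 [55,90,212])) (.leaf (.up 5 2015 [51] 617 [87,90,113]))) (.leaf (.up 5 1730 [5] 0 [])))))))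

noncomputable def trio1_0110 : Tr TStep := .node trio1_01100 trio1_01101

noncomputable def trio1_01110 : Tr TStep :=
  .node (.node (.node (.node (.node (.node (.node (.leaf (.up 6 179 [51] 617 [88,55,43,36])) (.leaf (.up 5 3398 [18] 530 [88,94,123,207]))) (.node (.leaf (.up 5 369 [10] 0 [88,56,155,46])) (.leaf (.up 6 147 [10] 0 [88,55,123,35])))) (.node (.node (.leaf (.up 4 1466 [51] 617 [94,42,137])) (.leaf (.up 5 768 [9] 0 [87,94,104,158]))) (.node (.leaf (.up 6 1207 [9] 0 [56,155,31])) (.leaf (.up 4 1678 [51] 617 [57,90,166]))))) (.node (.node (.node (.leaf (.up 4 377 [10] 0 [87,110,44,0])) (.leaf (.up 6 64 [10] 0 [88,55,155,230]))) (.node (.leaf (.up 6 392 [51] 617 [87,94,89,192])) (.leaf (.up 4 715 [51] 617 [87,94,116,137])))) (.node (.node (.leaf (.up 4 629 [5] 0 [])) (.leaf (.up 6 3068 [5] 0 [57,94,176,157]))) (.leaf (.up 3 145 [18] 530 [42,92]))))) (.node (.node (.node (.node (.leaf (.up 5 181 [5] 0 [])) (.leaf (.up 6 1234 [51] 617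 [87,94,90,130]))) (.node (.leaf (.up 5 3539 [9] 0 [87,110,42,119])) (.leaf (.up 4 3347 [5] 0 [88,94,155,138])))) (.node (.node (.leaf (.up 4 1399 [51] 617 [57,94,89,122])) (.leaf (.up 5 2028 [9] 0 [56,42,15]))) (.node (.leaf (.up 3 1744 [9] 0 [87,110,44,107])) (.leaf (.up 6 2999 [51] 617 [87,110,104,5]))))) (.node (.node (.node (.leaf (.up 4 2594 [18] 530 [87,93,116,127])) (.leaf (.up 6 3009 [10] 0 [87,55,43,11]))) (.node (.leaf (.up 6 1919 [10] 0 [57,42,22])) (.leaf (.up 5 3272 [5] 0 [])))) (.node (.node (.leaf (.up 4 3701 [10] 0 [57,94,116,108])) (.leaf (.up 4 1547 [51] 617 [56,90,172]))) (.leaf (.up 5 2346 [18] 530 [155,114])))))) (.node (.node (.node (.node (.node (.leaf (.up 5 335 [10] 0 [56,89,194])) (.leaf (.up 7 2774 [18] 530 [57,123,148]))) (.node (.leaf (.up 6 3135 [18] 530 [55,123,134])) (.leaf (.up 6 1581 [18] 530 [57,56,140,204])))) (.node (.node (.leaf (.up 1 4 [9] 0 [88,56,116,137])) (.leaf (.up 5 2966 [5] 0 []))) (.node (.leaf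 (.up 6 1334 [5] 0 [])) (.leaf (.up 4 3737 [5] 0 []))))) (.node (.node (.node (.leaf (.up 5 420 [5] 0 [])) (.leaf (.up 6 776 [51] 617 [88,110,140,75]))) (.node (.leaf (.up 6 1639 [5] 0 [])) (.leaf (.up 7 282 [51] 617 [87,94,91,204])))) (.node (.node (.leaf (.up 6 313 [51] 617 [57,94,155,240])) (.leaf (.up 6 2634 [18] 530 [56,42,30]))) (.leaf (.up 5 155 [51] 617 [88,94,42,247]))))) (.node (.node (.node (.node (.leaf (.up 6 218 [51] 617 [87,93,245])) (.leaf (.up 4 3118 [9] 0 [57,110,90,171]))) (.node (.leaf (.up 6 2953 [51] 617 [87,94,104,74])) (.leaf (.up 6 2706 [18] 530 [57,55,91,141])))) (.node (.node (.leaf (.up 5 1911 [18] 530 [57,55,44,179])) (.leaf (.up 6 1722 [9] 0 [57,93,42,230]))) (.node (.leaf (.up 5 3557 [9] 0 [110,42,214])) (.leaf (.up 5 3540 [18] 530 [57,55,123,216]))))) (.node (.node (.node (.leaf (.up 2 2455 [10] 0 [94,140,171])) (.leaf (.up 5 2169 [5] 0 []))) (.node (.leaf (.up 7 1060 [10] 0 [88,89,101])) (.leaf (.up 5 1918 [10]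 0 [57,56,116,231])))) (.node (.node (.leaf (.up 5 3113 [51] 617 [94,140,246])) (.leaf (.up 6 3288 [5] 0 []))) (.leaf (.up 5 1188 [9] 0 [88,110,90,12]))))))) (.node (.node (.node (.node (.node (.node (.leaf (.up 6 57 [5] 0 [])) (.leaf (.up 5 795 [18] 530 [57,55,44,22]))) (.node (.leaf (.up 3 876 [5] 0 [])) (.leaf (.up 3 2121 [10] 0 [88,56,176,237])))) (.node (.node (.leaf (.up 6 3439 [51] 617 [57,110,43,13])) (.leaf (.up 6 3254 [18] 530 [88,55,103]))) (.node (.leaf (.up 6 302 [18] 530 [57,110,91,148])) (.leaf (.up 6 411 [9] 0 [88,56,140,248]))))) (.node (.node (.node (.leaf (.up 5 801 [10] 0 [87,56,176,224])) (.leaf (.up 5 2080 [5] 0 [93,123,168]))) (.node (.leaf (.up 6 3512 [18] 530 [88,94,90,130])) (.leaf (.up 4 927 [51] 617 [110,176,243])))) (.node (.node (.leaf (.up 6 837 [18] 530 [55,44,125])) (.leaf (.up 5 3315 [51] 617 [88,55,104,131]))) (.leaf (.up 5 2155 [5] 0 []))))) (.node (.node (.node (.node (.leaf (.up 3 223 [5] 0 [])) (.leaf (.up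 5 782 [51] 617 [57,94,89,150]))) (.node (.leaf (.up 7 1452 [5] 0 [])) (.leaf (.up 6 3512 [10] 0 [57,44,13])))) (.node (.node (.leaf (.up 4 2326 [9] 0 [110,91,194])) (.leaf (.up 4 3011 [5] 0 [88,94,116,60]))) (.node (.leaf (.up 5 2578 [18] 530 [87,110,103,190])) (.leaf (.up 4 844 [10] 0 [87,93,18]))))) (.node (.node (.node (.leaf (.up 6 1811 [18] 530 [57,94,116,97])) (.leaf (.up 6 3473 [10] 0 [56,91,189]))) (.node (.leaf (.up 6 1740 [5] 0 [])) (.leaf (.up 6 1597 [18] 530 [87,93,89,113])))) (.node (.node (.leaf (.up 2 1146 [5] 0 [])) (.leaf (.up 6 3744 [18] 530 [57,110,140,243]))) (.leaf (.up 6 2067 [51] 617 [93,176,5])))))) (.node (.node (.node (.node (.node (.leaf (.up 6 3085 [18] 530 [87,110,192])) (.leaf (.up 5 3239 [10] 0 [88,55,44,222]))) (.node (.leaf (.up 5 1167 [51] 617 [87,93,116,170])) (.leaf (.up 6 3402 [5] 0 [])))) (.node (.node (.leaf (.up 6 1150 [18] 530 [87,56,123,2])) (.leaf (.up 3 2790 [10] 0 [116,131]))) (.node (.leaf (.up 5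 1747 [18] 530 [57,110,244])) (.leaf (.up 4 2782 [18] 530 [93,155,33]))))) (.node (.node (.node (.leaf (.up 5 289 [5] 0 [])) (.leaf (.up 5 3186 [18] 530 [57,55,89,192]))) (.node (.leaf (.up 5 1143 [5] 0 [])) (.leaf (.up 6 1161 [18] 530 [57,110,90,237])))) (.node (.node (.leaf (.up 6 778 [10] 0 [88,55,89,61])) (.leaf (.up 6 3452 [9] 0 [57,56,43,36]))) (.leaf (.up 5 3437 [9] 0 [88,55,104,128]))))) (.node (.node (.node (.node (.leaf (.up 3 3226 [18] 530 [56,91,125])) (.leaf (.up 4 1956 [5] 0 []))) (.node (.leaf (.up 5 111 [18] 530 [93,123,92])) (.leaf (.up 6 541 [10] 0 [93,104,112])))) (.node (.node (.leaf (.up 6 1589 [18] 530 [94,204])) (.leaf (.up 5 3768 [10] 0 [93,140,9]))) (.leaf (.up 4 2087 [5] 0 [])))) (.node (.node (.node (.leaf (.up 6 2227 [18] 530 [88,56,123,186])) (.leaf (.up 5 3325 [18] 530 [93,123,96]))) (.node (.leaf (.up 6 141 [51] 617 [57,93,43,5])) (.leaf (.up 5 574 [9] 0 [110,116,193])))) (.node (.node (.leaf (.up 6 1836 [10] 0 [87,110,123,237]))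 (.leaf (.up 5 3528 [9] 0 [93,42,13]))) (.leaf (.up 6 3790 [18] 530 [87,94,176,141])))))))

noncomputable def trio1_01111 : Tr TStep :=
  .node (.node (.node (.node (.node (.node (.node (.leaf (.up 4 663 [51] 617 [87,56,42,169])) (.leaf (.up 5 3430 [18] 530 [88,196]))) (.node (.leaf (.up 6 2407 [18] 530 [57,94,104,188])) (.leaf (.up 6 3093 [18] 530 [57,56,90,0])))) (.node (.node (.leaf (.up 5 151 [9] 0 [88,94,43,0])) (.leaf (.up 7 750 [10] 0 [57,91,228]))) (.node (.leaf (.up 5 2558 [18] 530 [57,104,134])) (.leaf (.up 6 2050 [51] 617 [110,89,117]))))) (.node (.node (.node (.leaf (.up 5 224 [5] 0 [])) (.leaf (.up 6 1857 [10] 0 [89,128]))) (.node (.leaf (.up 5 1080 [5] 0 [])) (.leaf (.up 4 2087 [10] 0 [57,90,11])))) (.node (.node (.leaf (.up 5 3783 [51] 617 [88,56,103,69])) (.leaf (.up 6 3144 [5] 0 []))) (.leaf (.up 4 3546 [9] 0 [93,140,201]))))) (.node (.node (.node (.node (.leaf (.up 7 2676 [18] 530 [57,94,123,10])) (.leaf (.up 6 1885 [5] 0 [])))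 (.node (.leaf (.up 6 1159 [9] 0 [88,110,104,177])) (.leaf (.up 5 1013 [51] 617 [87,110,90,180])))) (.node (.node (.leaf (.up 6 1303 [51] 617 [88,94,113])) (.leaf (.up 5 3021 [18] 530 [88,55,90,203]))) (.node (.leaf (.up 6 520 [51] 617 [91,158])) (.leaf (.up 4 852 [9] 0 [93,44,76]))))) (.node (.node (.node (.leaf (.up 5 2373 [9] 0 [88,94,123,1])) (.leaf (.up 6 1332 [9] 0 [57,93,44,219]))) (.node (.leaf (.up 6 1844 [10] 0 [87,56,42,107])) (.leaf (.up 5 2134 [51] 617 [94,162])))) (.node (.node (.leaf (.up 5 561 [51] 617 [87,56,90,5])) (.leaf (.up 5 1196 [51] 617 [88,93,116,100]))) (.leaf (.up 5 394 [51] 617 [87,56,89,25])))))) (.node (.node (.node (.node (.node (.leaf (.up 5 2770 [51] 617 [57,110,103,202])) (.leaf (.up 6 2242 [5] 0 [57,110,42,143]))) (.node (.leaf (.up 6 2570 [18] 530 [88,55,43,187])) (.leaf (.up 5 999 [51] 617 [87,55,140,60])))) (.node (.node (.leaf (.up 5 2833 [18] 530 [88,55,90,92])) (.leaf (.up 5 1622 [51] 617 [57,55,90,22])))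 (.node (.leaf (.up 5 620 [9] 0 [43,138])) (.leaf (.up 6 2991 [9] 0 [88,104,146]))))) (.node (.node (.node (.leaf (.up 5 297 [9] 0 [57,94,44,204])) (.leaf (.up 5 1302 [10] 0 [87,93,123,237]))) (.node (.leaf (.up 5 3466 [51] 617 [87,94,193])) (.leaf (.up 5 2833 [9] 0 [56,44,33])))) (.node (.node (.leaf (.up 6 2550 [9] 0 [88,55,104,198])) (.leaf (.up 6 3173 [51] 617 [88,55,176,220]))) (.leaf (.up 4 1586 [5] 0 []))))) (.node (.node (.node (.node (.leaf (.up 3 2167 [18] 530 [55,140,92])) (.leaf (.up 4 2111 [51] 617 [57,103,202]))) (.node (.leaf (.up 6 3126 [51] 617 [57,110,103,121])) (.leaf (.up 5 3033 [5] 0 [])))) (.node (.node (.leaf (.up 3 1852 [51] 617 [87,56,90,168])) (.leaf (.up 3 2790 [9] 0 [57,94,104,15]))) (.leaf (.up 7 1563 [10] 0 [87,93,140,209])))) (.node (.node (.node (.leaf (.up 6 597 [5] 0 [])) (.leaf (.up 6 2891 [9] 0 [110,42,154]))) (.node (.leaf (.up 4 2913 [10] 0 [88,43,181])) (.leaf (.up 5 1428 [51] 617 [87,56,123,240])))) (.node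 (.node (.leaf (.up 5 3754 [51] 617 [57,56,176,161])) (.leaf (.up 5 1013 [10] 0 [56,42,224]))) (.leaf (.up 4 1377 [18] 530 [57,110,89,20]))))))) (.node (.node (.node (.node (.node (.node (.leaf (.up 6 2706 [51] 617 [202])) (.leaf (.up 7 1797 [5] 0 []))) (.node (.leaf (.up 3 1517 [51] 617 [88,94,123,195])) (.leaf (.up 3 2963 [51] 617 [88,93,91,244])))) (.node (.node (.leaf (.up 4 715 [5] 0 [])) (.leaf (.up 6 120 [9] 0 [88,55,42,146]))) (.node (.leaf (.up 6 1447 [18] 530 [56,123,243])) (.leaf (.up 5 48 [18] 530 [88,110,44,5]))))) (.node (.node (.node (.leaf (.up 5 857 [10] 0 [87,44,242])) (.leaf (.up 6 2679 [5] 0 [87,55,116,132]))) (.node (.leaf (.up 6 3770 [10] 0 [87,244])) (.leaf (.up 6 98 [51] 617 [55,123,151])))) (.node (.node (.leaf (.up 7 1140 [9] 0 [123,121])) (.leaf (.up 7 2541 [5] 0 []))) (.leaf (.up 6 2213 [18] 530 [88,110,65]))))) (.node (.node (.node (.node (.leaf (.up 4 1989 [10] 0 [55,89,174])) (.leaf (.up 5 1180 [18] 530 [88,94,140,219])))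 (.node (.leaf (.up 6 2384 [9] 0 [87,110,43,207])) (.leaf (.up 7 3765 [18] 530 [56,44,168])))) (.node (.node (.leaf (.up 6 1455 [9] 0 [88,93,43,179])) (.leaf (.up 6 3646 [10] 0 [57,55,176,76]))) (.node (.leaf (.up 5 495 [51] 617 [57,140,1])) (.leaf (.up 6 2352 [9] 0 [88,56,91,247]))))) (.node (.node (.node (.leaf (.up 3 2167 [51] 617 [88,93,103,138])) (.leaf (.up 4 3441 [51] 617 [87,93,75]))) (.node (.leaf (.up 5 3184 [51] 617 [88,104,204])) (.leaf (.up 6 1162 [18] 530 [88,110,103,139])))) (.node (.node (.leaf (.up 6 1657 [51] 617 [88,55,44,6])) (.leaf (.up 5 2683 [5] 0 []))) (.leaf (.up 5 82 [9] 0 [147])))))) (.node (.node (.node (.node (.node (.leaf (.up 6 3386 [9] 0 [57,55,155,211])) (.leaf (.up 5 3483 [10] 0 [94,44,218]))) (.node (.leaf (.up 5 216 [9] 0 [57,94,42,211])) (.leaf (.up 5 1031 [51] 617 [55,42,65])))) (.node (.node (.leaf (.up 6 861 [51] 617 [57,55,90,137])) (.leaf (.up 6 866 [51] 617 [88,94,43,23]))) (.node (.leaf (.up 5 1970 [5]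 0 [])) (.leaf (.up 3 1152 [10] 0 [88,56,91,27]))))) (.node (.node (.node (.leaf (.up 6 2089 [9] 0 [94,91,168])) (.leaf (.up 6 2378 [10] 0 [57,89,240]))) (.node (.leaf (.up 5 490 [18] 530 [87,56,140,145])) (.leaf (.up 6 1273 [9] 0 [57,103,71])))) (.node (.node (.leaf (.up 4 441 [9] 0 [57,93,91,223])) (.leaf (.up 5 2666 [5] 0 [88,55,103,164]))) (.leaf (.up 4 1354 [51] 617 [94,90,196]))))) (.node (.node (.node (.node (.leaf (.up 6 2675 [18] 530 [154])) (.leaf (.up 6 1749 [51] 617 [88,110,5]))) (.node (.leaf (.up 5 1579 [51] 617 [87,110,42,102])) (.leaf (.up 5 3075 [5] 0 [])))) (.node (.node (.leaf (.up 7 2892 [9] 0 [88,44,228])) (.leaf (.up 5 3398 [51] 617 [93,43,107]))) (.leaf (.up 6 727 [51] 617 [87,110,116,223])))) (.node (.node (.node (.leaf (.up 6 3386 [51] 617 [87,89,100])) (.leaf (.up 4 1524 [9] 0 [87,123,135]))) (.node (.leaf (.up 5 1240 [10] 0 [93,89,118])) (.leaf (.up 6 3530 [18] 530 [116,205])))) (.node (.node (.leaf (.up 6 837 [5] 0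 [])) (.leaf (.up 5 1471 [18] 530 [88,56,42,29]))) (.leaf (.up 5 1497 [18] 530 [88,93,90,3])))))))

noncomputable def trio1_0111 : Tr TStep := .node trio1_01110 trio1_01111

noncomputable def trio1_011 : Tr TStep := .node trio1_0110 trio1_0111

noncomputable def trio1_01 : Tr TStep := .node trio1_010 trio1_011

noncomputable def trio1_0 : Tr TStep := .node trio1_00 trio1_01

noncomputable def trio1_10000 : Tr TStep :=
  .node (.node (.node (.node (.node (.node (.node (.leaf (.root 1)) (.leaf (.up 6 1398 [10] 0 [57,56,155,234]))) (.node (.leaf (.up 5 2299 [18] 530 [55,123,2])) (.leaf (.up 6 1706 [18] 530 [87,56,43])))) (.node (.node (.leaf (.up 4 222 [9] 0 [88,110,123,21])) (.leaf (.up 6 414 [18] 530 [88,140,102]))) (.node (.leaf (.up 6 1315 [9] 0 [94,90,75])) (.leaf (.up 5 3437 [5] 0 []))))) (.node (.node (.node (.leaf (.up 5 3417 [9] 0 [57,176,13])) (.leaf (.up 3 2794 [9] 0 [56,44,4]))) (.node (.leaf (.up 5 1055 [5] 0 [])) (.leaf (.up 5 2202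 [10] 0 [88,110,103,202])))) (.node (.node (.leaf (.up 5 620 [5] 0 [])) (.leaf (.up 6 194 [10] 0 [87,44,121]))) (.leaf (.up 5 2202 [9] 0 [88,89,188]))))) (.node (.node (.node (.node (.leaf (.up 7 164 [5] 0 [])) (.leaf (.up 5 2709 [10] 0 [140,130]))) (.node (.leaf (.up 5 1795 [18] 530 [94,103,183])) (.leaf (.up 3 223 [51] 617 [87,103,144])))) (.node (.node (.leaf (.up 5 1045 [9] 0 [87,55,176,13])) (.leaf (.up 4 2735 [5] 0 [87,94,104,213]))) (.node (.leaf (.up 6 3744 [10] 0 [88,93,91,113])) (.leaf (.up 6 1937 [10] 0 [88,93,103,12]))))) (.node (.node (.node (.leaf (.up 4 981 [9] 0 [57,55,116,133])) (.leaf (.up 5 2020 [18] 530 [87,94,91,220]))) (.node (.leaf (.up 5 1031 [10] 0 [87,93,103,220])) (.leaf (.up 6 1776 [51] 617 [87,56,44,238])))) (.node (.node (.leaf (.up 6 1639 [9] 0 [88,93,89,148])) (.leaf (.up 5 2986 [5] 0 [55,176,216]))) (.leaf (.up 5 3425 [18] 530 [57,94,44,9])))))) (.node (.node (.node (.node (.node (.leaf (.up 5 82 [5] 0 [])) (.leaf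 (.up 6 1926 [9] 0 [56,176,178]))) (.node (.leaf (.up 6 1322 [5] 0 [])) (.leaf (.up 6 2127 [18] 530 [87,56,16])))) (.node (.node (.leaf (.up 5 1961 [18] 530 [57,110,89,154])) (.leaf (.up 5 732 [9] 0 [88,94,140,11]))) (.node (.leaf (.up 4 2931 [51] 617 [57,94,176,237])) (.leaf (.up 3 1152 [9] 0 [88,93,44,153]))))) (.node (.node (.node (.leaf (.up 6 38 [9] 0 [87,94,101])) (.leaf (.up 5 3642 [18] 530 [57,155,194]))) (.node (.leaf (.up 6 1531 [18] 530 [57,110,123,184])) (.leaf (.up 4 2341 [9] 0 [55,176,189])))) (.node (.node (.leaf (.up 4 3097 [9] 0 [57,110,176,218])) (.leaf (.up 5 1514 [18] 530 [88,56,44,207]))) (.leaf (.up 5 3324 [9] 0 [88,55,176,219]))))) (.node (.node (.node (.node (.leaf (.up 5 1143 [10] 0 [93,103,74])) (.leaf (.up 5 2667 [9] 0 [57,93,89,242]))) (.node (.leaf (.up 5 1471 [5] 0 [])) (.leaf (.up 6 913 [18] 530 [88,93,44,229])))) (.node (.node (.leaf (.up 5 3020 [18] 530 [87,110,164])) (.leaf (.up 5 1376 [10] 0 [87,55,140,22])))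 (.node (.leaf (.up 4 2036 [5] 0 [])) (.leaf (.up 4 1086 [10] 0 [88,110,42,118]))))) (.node (.node (.node (.leaf (.up 5 404 [51] 617 [87,55,43,175])) (.leaf (.up 6 1655 [9] 0 [94,42,217]))) (.node (.leaf (.up 5 1757 [5] 0 [])) (.leaf (.up 6 173 [18] 530 [57,94,104,59])))) (.node (.node (.leaf (.up 2 1555 [9] 0 [57,93,91,106])) (.leaf (.up 5 3280 [5] 0 []))) (.leaf (.up 5 1058 [9] 0 [57,93,91,158]))))))) (.node (.node (.node (.node (.node (.node (.leaf (.up 6 1711 [9] 0 [123,198])) (.leaf (.up 6 1769 [5] 0 []))) (.node (.leaf (.up 6 1281 [9] 0 [55,103,147])) (.leaf (.up 5 2733 [10] 0 [55,116,219])))) (.node (.node (.leaf (.up 6 606 [10] 0 [56,176,61])) (.leaf (.up 6 482 [9] 0 [87,116,100]))) (.node (.leaf (.up 4 1868 [5] 0 [])) (.leaf (.up 5 824 [18] 530 [56,25]))))) (.node (.node (.node (.leaf (.up 4 3145 [51] 617 [57,55,89,201])) (.leaf (.up 5 2563 [51] 617 [56,91,142]))) (.node (.leaf (.up 6 1506 [51] 617 [87,55,44,163])) (.leaf (.up 7 2664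 [9] 0 [110,43,118])))) (.node (.node (.leaf (.up 4 902 [5] 0 [])) (.leaf (.up 6 963 [9] 0 [87,93,210]))) (.leaf (.up 4 1807 [10] 0 [57,55,176,98]))))) (.node (.node (.node (.node (.leaf (.up 6 2624 [10] 0 [88,56,42,234])) (.leaf (.up 6 2752 [10] 0 [57,55,91,211]))) (.node (.leaf (.up 5 2760 [10] 0 [87,93,154])) (.leaf (.up 5 3425 [5] 0 [110,42,186])))) (.node (.node (.leaf (.up 5 561 [10] 0 [87,42,150])) (.leaf (.up 3 1940 [10] 0 [88,55,89,137]))) (.node (.leaf (.up 5 1414 [5] 0 [])) (.leaf (.up 5 3658 [18] 530 [116,142]))))) (.node (.node (.node (.leaf (.up 6 1932 [51] 617 [87,110,89,102])) (.leaf (.up 4 579 [51] 617 [87,93,123,92]))) (.node (.leaf (.up 5 1188 [5] 0 [])) (.leaf (.up 5 3758 [18] 530 [87,55,131])))) (.node (.node (.leaf (.up 3 3389 [9] 0 [57,110,91,0])) (.leaf (.up 5 768 [51] 617 [88,93,89]))) (.leaf (.up 6 1605 [10] 0 [57,56,197])))))) (.node (.node (.node (.node (.node (.leaf (.up 6 257 [18] 530 [88,93,33])) (.leaf (.up 5 2217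 [9] 0 [93,140,207]))) (.node (.leaf (.up 5 1360 [5] 0 [])) (.leaf (.up 4 1009 [51] 617 [57,94,44,146])))) (.node (.node (.leaf (.up 6 1803 [18] 530 [94,90,175])) (.leaf (.up 5 2020 [51] 617 [87,93,91,234]))) (.node (.leaf (.up 4 444 [18] 530 [93,44,12])) (.leaf (.up 6 860 [10] 0 [57,176,240]))))) (.node (.node (.node (.leaf (.up 5 1053 [9] 0 [94,42,231])) (.leaf (.up 6 1153 [51] 617 [110,174]))) (.node (.leaf (.up 3 1152 [51] 617 [87,93,90,117])) (.leaf (.up 4 3338 [9] 0 [93,103,209])))) (.node (.node (.leaf (.up 6 3190 [18] 530 [87,110,43,207])) (.leaf (.up 3 3357 [18] 530 [87,185]))) (.leaf (.up 6 1271 [9] 0 [88,94,89,137]))))) (.node (.node (.node (.node (.leaf (.up 5 2306 [10] 0 [57,94,90,156])) (.leaf (.up 5 2422 [5] 0 [155,203]))) (.node (.leaf (.up 4 294 [9] 0 [87,110,65])) (.leaf (.up 5 1376 [9] 0 [94,103,109])))) (.node (.node (.leaf (.up 6 3257 [51] 617 [87,93,103,119])) (.leaf (.up 6 3497 [9] 0 [88,93,103,135]))) (.leaf (.up 6 168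 [51] 617 [57,110,89,244])))) (.node (.node (.node (.leaf (.up 4 1917 [10] 0 [56,140,20])) (.leaf (.up 6 2171 [9] 0 [57,94,155,188]))) (.node (.leaf (.up 7 164 [18] 530 [57,155,12])) (.leaf (.up 4 1755 [10] 0 [87,56,155,214])))) (.node (.node (.leaf (.up 6 1207 [5] 0 [])) (.leaf (.up 6 431 [18] 530 [88,55,1]))) (.leaf (.up 5 338 [51] 617 [110,42,73])))))))

noncomputable def trio1_10001 : Tr TStep :=
  .node (.node (.node (.node (.node (.node (.node (.leaf (.up 4 1377 [10] 0 [57,104,114])) (.leaf (.up 5 2837 [9] 0 [88,110,104,5]))) (.node (.leaf (.up 4 852 [5] 0 [])) (.leaf (.up 6 2228 [9] 0 [55,42,12])))) (.node (.node (.leaf (.up 6 2977 [51] 617 [88,55,205])) (.leaf (.up 6 2287 [5] 0 [94,104,237]))) (.node (.leaf (.up 5 1954 [10] 0 [87,110,103,167])) (.leaf (.up 5 602 [9] 0 [57,110,214]))))) (.node (.node (.node (.leaf (.up 6 838 [18] 530 [88,90])) (.leaf (.up 6 3486 [51] 617 [56,89,100]))) (.node (.leaf (.up 6 3404 [9] 0 [87,93,89,241])) (.leaf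 (.up 5 3100 [5] 0 [])))) (.node (.node (.leaf (.up 5 3754 [10] 0 [88,103,223])) (.leaf (.up 4 902 [51] 617 [57,110,201]))) (.leaf (.up 5 1165 [51] 617 [88,94,123,163]))))) (.node (.node (.node (.node (.leaf (.up 2 508 [10] 0 [87,110,123,22])) (.leaf (.up 4 2913 [51] 617 [57,55,91]))) (.node (.leaf (.up 5 2689 [51] 617 [57,44,102])) (.leaf (.up 5 2673 [51] 617 [57,110,104,149])))) (.node (.node (.leaf (.up 4 528 [5] 0 [])) (.leaf (.up 6 575 [10] 0 [87,55,103,172]))) (.node (.leaf (.up 7 1439 [5] 0 [87,94,42,98])) (.leaf (.up 6 250 [51] 617 [88,94,176,172]))))) (.node (.node (.node (.leaf (.up 5 1633 [9] 0 [57,42,16])) (.leaf (.up 6 2107 [5] 0 []))) (.node (.leaf (.up 6 367 [51] 617 [44,150])) (.leaf (.up 5 1967 [9] 0 [57,55,239])))) (.node (.node (.leaf (.up 5 2783 [18] 530 [88,55,89,111])) (.leaf (.up 6 3085 [5] 0 [94,91,75]))) (.leaf (.up 5 1993 [51] 617 [57,93,90,130])))))) (.node (.node (.node (.node (.node (.leaf (.up 5 617 [9] 0 [88,110,103,161]))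 (.leaf (.up 6 1708 [10] 0 [93,91,232]))) (.node (.leaf (.up 6 920 [51] 617 [57,56,176,166])) (.leaf (.up 3 1775 [10] 0 [88,91,163])))) (.node (.node (.leaf (.up 6 2391 [51] 617 [87,93,176,27])) (.leaf (.up 5 2303 [5] 0 []))) (.node (.leaf (.up 6 630 [18] 530 [87,110,123,170])) (.leaf (.up 5 3552 [5] 0 []))))) (.node (.node (.node (.leaf (.up 4 3737 [9] 0 [57,93,90,1])) (.leaf (.up 6 342 [9] 0 [88,93,42,75]))) (.node (.leaf (.up 7 863 [51] 617 [87,94,43,180])) (.leaf (.up 2 2946 [9] 0 [87,94,44,181])))) (.node (.node (.leaf (.up 5 3342 [51] 617 [87,56,123,195])) (.leaf (.up 5 2564 [5] 0 []))) (.leaf (.up 6 3080 [9] 0 [44,92]))))) (.node (.node (.node (.node (.leaf (.up 5 3552 [51] 617 [94,116,244])) (.leaf (.up 6 2107 [18] 530 [94,140,228]))) (.node (.leaf (.up 6 2859 [51] 617 [57,55,140,204])) (.leaf (.up 6 3054 [5] 0 [55,140,225])))) (.node (.node (.leaf (.up 6 726 [5] 0 [89,158])) (.leaf (.up 6 1092 [51] 617 [104,118]))) (.node (.leaf (.up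 6 2168 [51] 617 [57,104,221])) (.leaf (.up 5 2522 [18] 530 [88,93,104,203]))))) (.node (.node (.node (.leaf (.up 6 131 [18] 530 [88,94,176,143])) (.leaf (.up 5 2871 [51] 617 [88,94,123,27]))) (.node (.leaf (.up 3 1775 [5] 0 [])) (.leaf (.up 6 1713 [9] 0 [56,90,230])))) (.node (.node (.leaf (.up 5 2422 [10] 0 [87,93,154])) (.leaf (.up 4 903 [9] 0 [110,42,203]))) (.leaf (.up 5 3483 [9] 0 [87,93,42,237]))))))) (.node (.node (.node (.node (.node (.node (.leaf (.up 6 669 [9] 0 [88,110,155,137])) (.leaf (.up 4 2450 [18] 530 [88,93,103,226]))) (.node (.leaf (.up 6 2739 [10] 0 [88,110,43,21])) (.leaf (.up 5 1918 [18] 530 [87,93,1])))) (.node (.node (.leaf (.up 4 637 [18] 530 [87,55,91,99])) (.leaf (.up 5 2707 [18] 530 [56,90,59]))) (.node (.leaf (.up 6 3301 [18] 530 [88,56,89,30])) (.leaf (.up 6 3263 [9] 0 [56,104,205]))))) (.node (.node (.node (.leaf (.up 5 3133 [9] 0 [93,43,167])) (.leaf (.up 6 3329 [51] 617 [57,94,247]))) (.node (.leaf (.up 7 1968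 [51] 617 [87,93,209])) (.leaf (.up 5 3535 [5] 0 [])))) (.node (.node (.leaf (.up 6 639 [9] 0 [93,91,172])) (.leaf (.up 6 3039 [18] 530 [55,89,222]))) (.leaf (.up 4 1602 [10] 0 [93,155,96]))))) (.node (.node (.node (.node (.leaf (.up 4 3153 [51] 617 [110,218])) (.leaf (.up 4 902 [9] 0 [57,140,157]))) (.node (.leaf (.up 6 2001 [10] 0 [88,93,176,186])) (.leaf (.up 4 3517 [10] 0 [89,207])))) (.node (.node (.leaf (.up 5 2306 [18] 530 [88,93,116,234])) (.leaf (.up 6 1472 [9] 0 [57,94,89,196]))) (.node (.leaf (.up 5 3732 [51] 617 [55,44,206])) (.leaf (.up 6 990 [51] 617 [87,55,89,134]))))) (.node (.node (.node (.leaf (.up 5 1414 [10] 0 [93,140,173])) (.leaf (.up 6 2569 [10] 0 [88,110,103,205]))) (.node (.leaf (.up 5 1842 [10] 0 [87,94,116,71])) (.leaf (.up 6 2959 [9] 0 [87,93,123,241])))) (.node (.node (.leaf (.up 5 768 [5] 0 [])) (.leaf (.up 5 1491 [51] 617 [57,93,104,189]))) (.leaf (.up 5 910 [18] 530 [87,55,233])))))) (.node (.node (.node (.node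 (.node (.leaf (.up 5 89 [5] 0 [])) (.leaf (.up 3 876 [51] 617 [88,140,34]))) (.node (.leaf (.up 6 1159 [18] 530 [87,56,43,178])) (.leaf (.up 5 1729 [18] 530 [103,131])))) (.node (.node (.leaf (.up 4 2981 [10] 0 [87,110,140,173])) (.leaf (.up 4 2861 [51] 617 [87,55,116,127]))) (.node (.leaf (.up 6 2153 [9] 0 [57,110,140,210])) (.leaf (.up 4 3695 [5] 0 [93,140,97]))))) (.node (.node (.node (.leaf (.up 4 1000 [18] 530 [87,93,90,160])) (.leaf (.up 5 2758 [5] 0 []))) (.node (.leaf (.up 5 3539 [10] 0 [88,55,103,162])) (.leaf (.up 3 3283 [10] 0 [56,104,25])))) (.node (.node (.leaf (.up 3 712 [5] 0 [])) (.leaf (.up 6 600 [51] 617 [87,93,104,92]))) (.leaf (.up 5 765 [10] 0 [56,91,111]))))) (.node (.node (.node (.node (.leaf (.up 5 3764 [9] 0 [88,93,89,190])) (.leaf (.up 6 3741 [18] 530 [88,55,42,242]))) (.node (.leaf (.up 5 3200 [10] 0 [57,56,44,244])) (.leaf (.up 6 3492 [5] 0 [])))) (.node (.node (.leaf (.up 6 3170 [51] 617 [57,55,103,161])) (.leaf (.up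 6 2221 [10] 0 [88,93,155,147]))) (.leaf (.up 6 2761 [51] 617 [57,93,103,111])))) (.node (.node (.node (.leaf (.up 5 2673 [18] 530 [57,55,43,243])) (.leaf (.up 6 1572 [18] 530 [87,56,90,134]))) (.node (.leaf (.up 4 1812 [5] 0 [])) (.leaf (.up 6 2009 [10] 0 [57,55,44,160])))) (.node (.node (.leaf (.up 3 828 [5] 0 [])) (.leaf (.up 5 1751 [9] 0 [57,55,42,168]))) (.leaf (.up 5 824 [9] 0 [88,93,42,248])))))))

noncomputable def trio1_1000 : Tr TStep := .node trio1_10000 trio1_10001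

noncomputable def trio1_10010 : Tr TStep :=
  .node (.node (.node (.node (.node (.node (.node (.leaf (.up 5 394 [18] 530 [57,93,140,61])) (.leaf (.up 5 1757 [18] 530 [87,110,103,18]))) (.node (.leaf (.up 5 2709 [51] 617 [110,140,119])) (.leaf (.up 6 3171 [51] 617 [57,55,90,225])))) (.node (.node (.leaf (.up 6 2798 [18] 530 [93,89,248])) (.leaf (.up 5 1485 [18] 530 [55,44,18]))) (.node (.leaf (.up 5 1627 [18] 530 [57,116,138])) (.leaf (.up 6 1436 [51] 617 [57,43,33]))))) (.node (.node (.node (.leaf (.up 5 335 [5] 0 [])) (.leaf (.up 4 579 [18] 530 [87,93,89,29]))) (.node (.leaf (.up 4 1063 [5] 0 [])) (.leaf (.up 6 3399 [10] 0 [87,55,176,199])))) (.node (.node (.leaf (.up 5 626 [5] 0 [])) (.leaf (.up 6 372 [18] 530 [87,55,90,20]))) (.leaf (.up 6 2565 [9] 0 [87,93,155,59]))))) (.node (.node (.node (.node (.leaf (.up 6 1391 [10] 0 [110,90,98])) (.leaf (.up 6 1275 [18] 530 [87,55,140,148]))) (.node (.leaf (.up 5 181 [9] 0 [57,56,116,69])) (.leaf (.up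 6 141 [10] 0 [93,43,127])))) (.node (.node (.leaf (.up 4 238 [51] 617 [87,94,89,241])) (.leaf (.up 5 2595 [5] 0 [57,94,90,238]))) (.node (.leaf (.up 5 500 [18] 530 [42,7])) (.leaf (.up 6 3755 [51] 617 [87,56,123,135]))))) (.node (.node (.node (.leaf (.up 6 697 [18] 530 [124])) (.leaf (.up 6 3203 [51] 617 [94,89,184]))) (.node (.leaf (.up 4 166 [51] 617 [123,69])) (.leaf (.up 5 2169 [9] 0 [57,152])))) (.node (.node (.leaf (.up 6 1104 [5] 0 [])) (.leaf (.up 5 3000 [18] 530 [57,43,225]))) (.leaf (.up 5 2666 [51] 617 [88,55,116,25])))))) (.node (.node (.node (.node (.node (.leaf (.up 6 775 [9] 0 [87,104,33])) (.leaf (.up 2 6 [18] 530 [88,110,42,92]))) (.node (.leaf (.up 3 3389 [51] 617 [55,182])) (.leaf (.up 3 1205 [10] 0 [94,116,119])))) (.node (.node (.leaf (.up 5 1165 [9] 0 [87,56,90,206])) (.leaf (.up 6 675 [10] 0 [57,44,18]))) (.node (.leaf (.up 5 3697 [51] 617 [88,94,91,98])) (.leaf (.up 6 1434 [51] 617 [57,94,43,138]))))) (.node (.node (.node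 (.leaf (.up 5 1289 [10] 0 [56,155,201])) (.leaf (.up 5 2044 [5] 0 []))) (.node (.leaf (.up 6 2999 [10] 0 [88,56,91,212])) (.leaf (.up 4 902 [18] 530 [57,55,140,200])))) (.node (.node (.leaf (.up 4 1879 [9] 0 [57,94,44,190])) (.leaf (.up 6 2863 [18] 530 [87,93,116,133]))) (.leaf (.up 5 3113 [9] 0 [110,103,118]))))) (.node (.node (.node (.node (.leaf (.up 5 181 [10] 0 [57,93,44,37])) (.leaf (.up 6 3480 [51] 617 [87,43,164]))) (.node (.leaf (.up 5 752 [9] 0 [87,140,21])) (.leaf (.up 6 2712 [10] 0 [87,176,102])))) (.node (.node (.leaf (.up 5 796 [51] 617 [57,94,109])) (.leaf (.up 5 1841 [9] 0 [57,110,123,27]))) (.node (.leaf (.up 6 124 [10] 0 [87,56,44,119])) (.leaf (.up 5 875 [9] 0 [87,94,91,178]))))) (.node (.node (.node (.leaf (.up 6 984 [51] 617 [57,93,90,4])) (.leaf (.up 5 2164 [5] 0 []))) (.node (.leaf (.up 6 487 [18] 530 [88,155,126])) (.leaf (.up 6 3646 [5] 0 [])))) (.node (.node (.leaf (.up 5 3200 [9] 0 [57,94,118])) (.leaf (.up 6 1175 [18]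 530 [87,55,104,204]))) (.leaf (.up 4 2450 [9] 0 [93,123,25]))))))) (.node (.node (.node (.node (.node (.node (.leaf (.up 5 3515 [9] 0 [88,94,133])) (.leaf (.up 5 2508 [10] 0 [55,176,174]))) (.node (.leaf (.up 6 1291 [5] 0 [])) (.leaf (.up 4 1464 [18] 530 [93,91,161])))) (.node (.node (.leaf (.up 6 3031 [10] 0 [116,240])) (.leaf (.up 4 2931 [5] 0 []))) (.node (.leaf (.up 4 2297 [10] 0 [88,94,104,171])) (.leaf (.up 5 1661 [9] 0 [57,94,103,215]))))) (.node (.node (.node (.leaf (.up 4 377 [5] 0 [])) (.leaf (.up 4 816 [9] 0 [87,93,226]))) (.node (.leaf (.up 6 242 [51] 617 [57,110,91,223])) (.leaf (.up 5 3133 [5] 0 [])))) (.node (.node (.leaf (.up 6 3106 [18] 530 [88,55,98])) (.leaf (.up 6 2357 [9] 0 [87,56,44,228]))) (.leaf (.up 5 602 [10] 0 [88,89,235]))))) (.node (.node (.node (.node (.leaf (.up 6 1703 [51] 617 [57,110,155,182])) (.leaf (.up 4 3167 [51] 617 [57,56,116,227]))) (.node (.leaf (.up 5 1783 [9] 0 [88,164])) (.leaf (.up 5 3748 [9] 0 [88,103,141]))))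 (.node (.node (.leaf (.up 5 481 [51] 617 [56,155,232])) (.leaf (.up 7 3468 [51] 617 [57,90,231]))) (.node (.leaf (.up 6 2652 [10] 0 [87,56,140,196])) (.leaf (.up 6 3700 [5] 0 [87,110,103,130]))))) (.node (.node (.node (.leaf (.up 6 497 [51] 617 [57,55,176,162])) (.leaf (.up 6 2131 [5] 0 []))) (.node (.leaf (.up 5 1485 [51] 617 [87,110,140,205])) (.leaf (.up 5 2595 [10] 0 [87,94,43,60])))) (.node (.node (.leaf (.up 5 1058 [51] 617 [56,91,113])) (.leaf (.up 3 942 [51] 617 [57,94,155,138]))) (.leaf (.up 4 3011 [18] 530 [57,89,223])))))) (.node (.node (.node (.node (.node (.leaf (.up 5 2097 [18] 530 [87,56,104,121])) (.leaf (.up 5 2595 [51] 617 [87,94,116,46]))) (.node (.leaf (.up 5 1165 [18] 530 [88,93,43,181])) (.leaf (.up 6 3399 [5] 0 [])))) (.node (.node (.leaf (.up 4 3494 [18] 530 [88,55,104,20])) (.leaf (.up 5 2530 [18] 530 [57,94,90,15]))) (.node (.leaf (.up 5 3111 [10] 0 [87,116,187])) (.leaf (.up 6 798 [51] 617 [87,56,90,233]))))) (.node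 (.node (.node (.leaf (.up 6 2503 [51] 617 [87,110,89,0])) (.leaf (.up 6 2814 [18] 530 [57,116,179]))) (.node (.leaf (.up 6 1139 [5] 0 [])) (.leaf (.up 5 513 [51] 617 [87,56,91,247])))) (.node (.node (.leaf (.up 6 1195 [10] 0 [87,55,123,183])) (.leaf (.up 6 2408 [51] 617 [87,93,91,111]))) (.leaf (.up 7 1884 [51] 617 [87,94,91,33]))))) (.node (.node (.node (.node (.leaf (.up 5 2268 [9] 0 [87,42,208])) (.leaf (.up 5 1420 [9] 0 [57,56,91,172]))) (.node (.leaf (.up 4 1524 [5] 0 [])) (.leaf (.up 5 2898 [51] 617 [88,123,9])))) (.node (.node (.leaf (.up 5 244 [18] 530 [57,110,44,237])) (.leaf (.up 7 1353 [18] 530 [91,232]))) (.leaf (.up 5 1974 [10] 0 [87,155,125])))) (.node (.node (.node (.leaf (.up 6 1650 [51] 617 [180])) (.leaf (.up 6 2615 [51] 617 [88,55,103,184]))) (.node (.leaf (.up 6 1901 [10] 0 [56,123,146])) (.leaf (.up 3 3409 [5] 0 [])))) (.node (.node (.leaf (.up 6 453 [10] 0 [88,94,176,209])) (.leaf (.up 4 816 [10] 0 [110,91,187]))) (.leaf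 (.up 6 2969 [10] 0 [57,110,176,127])))))))

noncomputable def trio1_10011 : Tr TStep :=
  .node (.node (.node (.node (.node (.node (.node (.leaf (.up 6 3320 [9] 0 [55,44,164])) (.leaf (.up 5 2650 [51] 617 [94,176,4]))) (.node (.leaf (.up 6 1273 [5] 0 [])) (.leaf (.up 3 3283 [5] 0 [88,93,42,18])))) (.node (.node (.leaf (.up 5 833 [18] 530 [94,90,22])) (.leaf (.up 6 1207 [51] 617 [57,55,174]))) (.node (.leaf (.up 6 2231 [51] 617 [93,155,172])) (.leaf (.up 5 2184 [18] 530 [87,55,155,102]))))) (.node (.node (.node (.leaf (.up 2 590 [10] 0 [110,44,74])) (.leaf (.up 6 2996 [9] 0 [87,110,140,182]))) (.node (.leaf (.up 6 2357 [51] 617 [57,56,155,102])) (.leaf (.up 4 341 [18] 530 [88,110,176,230])))) (.node (.node (.leaf (.up 4 1755 [9] 0 [88,94,44,118])) (.leaf (.up 5 3113 [10] 0 [110,103,72]))) (.leaf (.up 5 570 [51] 617 [88,110,176,178]))))) (.node (.node (.node (.node (.leaf (.up 6 2174 [9] 0 [87,55,123,92])) (.leaf (.up 6 98 [10] 0 [87,91,191])))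 (.node (.leaf (.up 5 1289 [18] 530 [87,56,91,20])) (.leaf (.up 4 107 [9] 0 [87,93,123,240])))) (.node (.node (.leaf (.up 7 1372 [51] 617 [87,56,123,246])) (.leaf (.up 6 3208 [18] 530 [87,104,206]))) (.node (.leaf (.up 3 2167 [9] 0 [87,55,43,25])) (.leaf (.up 3 1775 [18] 530 [88,94,116,102]))))) (.node (.node (.node (.leaf (.up 5 932 [18] 530 [57,110,43,130])) (.leaf (.up 5 1360 [18] 530 [88,110,43,65]))) (.node (.leaf (.up 5 320 [51] 617 [57,110,42,20])) (.leaf (.up 5 2879 [18] 530 [87,42,8])))) (.node (.node (.leaf (.up 6 2560 [51] 617 [88,55,91,144])) (.leaf (.up 5 620 [18] 530 [55,89,191]))) (.leaf (.up 6 1640 [5] 0 [])))))) (.node (.node (.node (.node (.node (.leaf (.up 4 2600 [51] 617 [88,110,103,188])) (.leaf (.up 4 2479 [5] 0 []))) (.node (.leaf (.up 6 172 [51] 617 [87,110,140,188])) (.leaf (.up 6 1746 [51] 617 [88,93,43,118])))) (.node (.node (.leaf (.up 5 3133 [51] 617 [44,126])) (.leaf (.up 6 2309 [5] 0 []))) (.node (.leaf (.up 5 3184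 [9] 0 [87,116,145])) (.leaf (.up 6 1950 [18] 530 [87,104,65]))))) (.node (.node (.node (.leaf (.up 6 1597 [51] 617 [93,103,201])) (.leaf (.up 4 2305 [18] 530 [87,44,213]))) (.node (.leaf (.up 5 289 [10] 0 [87,110,89,136])) (.leaf (.up 4 3570 [5] 0 [])))) (.node (.node (.leaf (.up 4 1888 [51] 617 [57,110,89,220])) (.leaf (.up 6 1397 [9] 0 [56,89,96]))) (.leaf (.up 5 793 [10] 0 [57,110,176,6]))))) (.node (.node (.node (.node (.leaf (.up 6 315 [10] 0 [110,91,154])) (.leaf (.up 5 3777 [9] 0 [88,110,42,147]))) (.node (.leaf (.up 6 1504 [5] 0 [])) (.leaf (.up 6 3481 [5] 0 [])))) (.node (.node (.leaf (.up 5 654 [10] 0 [110,44,213])) (.leaf (.up 5 1045 [18] 530 [87,56,43,134]))) (.leaf (.up 5 1467 [5] 0 [])))) (.node (.node (.node (.leaf (.up 4 2636 [18] 530 [94,158])) (.leaf (.up 5 774 [18] 530 [88,110,104,4]))) (.node (.leaf (.up 4 3570 [51] 617 [87,176,108])) (.leaf (.up 3 3389 [5] 0 [])))) (.node (.node (.leaf (.up 5 2393 [9] 0 [56,104,142])) (.leaf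 (.up 4 1000 [9] 0 [150]))) (.leaf (.up 5 3437 [18] 530 [57,93,140,60]))))))) (.node (.node (.node (.node (.node (.node (.leaf (.up 5 404 [9] 0 [94,44,61])) (.leaf (.up 6 1178 [51] 617 [88,94,116,107]))) (.node (.leaf (.up 5 3255 [10] 0 [88,55,44,195])) (.leaf (.up 2 3094 [18] 530 [88,103,195])))) (.node (.node (.leaf (.up 6 3105 [51] 617 [88,55,89,164])) (.leaf (.up 2 811 [18] 530 [55,116,61]))) (.node (.leaf (.up 5 2879 [10] 0 [55,90,195])) (.leaf (.up 6 641 [10] 0 [87,93,116,119]))))) (.node (.node (.node (.leaf (.up 5 1302 [18] 530 [57,93,104,248])) (.leaf (.up 6 2698 [5] 0 []))) (.node (.leaf (.up 6 676 [51] 617 [88,94,89,105])) (.leaf (.up 6 3157 [5] 0 [])))) (.node (.node (.leaf (.up 5 1407 [10] 0 [57,90,131])) (.leaf (.up 6 1733 [10] 0 [88,55,123]))) (.leaf (.up 6 1175 [51] 617 [88,90,242]))))) (.node (.node (.node (.node (.leaf (.up 3 145 [5] 0 [])) (.leaf (.up 6 1177 [51] 617 [55,36]))) (.node (.leaf (.up 5 3333 [18] 530 [87,93,116,102]))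 (.leaf (.up 5 1257 [10] 0 [87,110,90,29])))) (.node (.node (.leaf (.up 5 1757 [9] 0 [88,56,91,37])) (.leaf (.up 6 2406 [5] 0 []))) (.node (.leaf (.up 6 1440 [5] 0 [])) (.leaf (.up 5 3149 [51] 617 [55,140,208]))))) (.node (.node (.node (.leaf (.up 3 2186 [51] 617 [88,56,104,182])) (.leaf (.up 5 2099 [9] 0 [57,93,123,138]))) (.node (.leaf (.up 5 1751 [5] 0 [])) (.leaf (.up 5 3732 [18] 530 [87,110,44,226])))) (.node (.node (.leaf (.up 5 1213 [51] 617 [88,110,89,114])) (.leaf (.up 5 2169 [18] 530 [110,140,92]))) (.leaf (.up 6 1384 [51] 617 [87,94,103,5])))))) (.node (.node (.node (.node (.node (.leaf (.up 5 3616 [18] 530 [57,110,140,177])) (.leaf (.up 4 799 [51] 617 [87,94,43,241]))) (.node (.leaf (.up 5 1408 [18] 530 [56,42,183])) (.leaf (.up 7 1060 [51] 617 [88,94,91,181])))) (.node (.node (.leaf (.up 6 1982 [51] 617 [87,55,42,115])) (.leaf (.up 6 1583 [10] 0 [56,90,167]))) (.node (.leaf (.up 5 1820 [51] 617 [56,176,235])) (.leaf (.up 4 2861 [9]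 0 [104,247]))))) (.node (.node (.node (.leaf (.up 3 2943 [51] 617 [88,110,140,21])) (.leaf (.up 4 2848 [10] 0 [93,123,213]))) (.node (.leaf (.up 3 2617 [10] 0 [88,42,190])) (.leaf (.up 4 2721 [9] 0 [123,187])))) (.node (.node (.leaf (.up 5 1420 [18] 530 [88,55,140,27])) (.leaf (.up 4 2670 [9] 0 [110,116,72]))) (.leaf (.up 3 145 [51] 617 [88,94,116,224]))))) (.node (.node (.node (.node (.leaf (.up 4 3695 [18] 530 [87,93,113])) (.leaf (.up 3 281 [18] 530 [87,55,103,165]))) (.node (.leaf (.up 5 2214 [18] 530 [57,93,155,217])) (.leaf (.up 6 2694 [18] 530 [87,94,176,65])))) (.node (.node (.leaf (.up 6 937 [5] 0 [])) (.leaf (.up 6 1101 [10] 0 [110,140,169]))) (.leaf (.up 5 1497 [5] 0 [])))) (.node (.node (.node (.leaf (.up 4 903 [18] 530 [87,93,101])) (.leaf (.up 3 281 [51] 617 [88,90,124]))) (.node (.leaf (.up 5 3475 [18] 530 [87,110,116,71])) (.leaf (.up 6 2292 [10] 0 [87,110,90,202])))) (.node (.node (.leaf (.up 5 552 [9] 0 [57,140,241])) (.leaf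 (.up 6 2037 [51] 617 [57,91,113]))) (.leaf (.up 6 1733 [5] 0 [])))))))

noncomputable def trio1_1001 : Tr TStep := .node trio1_10010 trio1_10011

noncomputable def trio1_100 : Tr TStep := .node trio1_1000 trio1_1001

noncomputable def trio1_10100 : Tr TStep :=
  .node (.node (.node (.node (.node (.node (.node (.leaf (.up 7 3472 [18] 530 [88,110,44,8])) (.leaf (.up 6 1646 [9] 0 [88,94,155,120]))) (.node (.leaf (.up 5 779 [9] 0 [56,155,74])) (.leaf (.up 6 3329 [5] 0 [])))) (.node (.node (.leaf (.up 5 2014 [51] 617 [57,89,167])) (.leaf (.up 5 2898 [5] 0 []))) (.node (.leaf (.up 6 2224 [10] 0 [57,93,140,230])) (.leaf (.up 6 2568 [9] 0 [88,55,42,25]))))) (.node (.node (.node (.leaf (.up 4 1070 [10] 0 [88,56,104,148])) (.leaf (.up 5 2347 [18] 530 [88,110,155,18]))) (.node (.leaf (.up 6 1785 [51] 617 [87,94,103,36])) (.leaf (.up 4 3153 [18] 530 [94,155,97])))) (.node (.node (.leaf (.up 7 3589 [51] 617 [90,69])) (.leaf (.up 5 3528 [10] 0 [88,56,102])))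 (.leaf (.up 6 1374 [18] 530 [94,116,4]))))) (.node (.node (.node (.node (.leaf (.up 6 3734 [10] 0 [87,56,116,30])) (.leaf (.up 4 1851 [9] 0 [88,55,140,119]))) (.node (.leaf (.up 5 1404 [5] 0 [])) (.leaf (.up 5 2313 [10] 0 [93,103,106])))) (.node (.node (.leaf (.up 6 3420 [51] 617 [87,110,90,59])) (.leaf (.up 6 1256 [51] 617 [87,110,89,212]))) (.node (.leaf (.up 6 1630 [51] 617 [88,94,103,219])) (.leaf (.up 5 2418 [9] 0 [57,246]))))) (.node (.node (.node (.leaf (.up 5 2214 [51] 617 [88,94,116,168])) (.leaf (.up 6 731 [10] 0 [103,71]))) (.node (.leaf (.up 6 1164 [5] 0 [])) (.leaf (.up 7 2092 [10] 0 [103,236])))) (.node (.node (.leaf (.up 5 940 [18] 530 [56,91,65])) (.leaf (.up 6 3574 [51] 617 [57,93,91,100]))) (.leaf (.up 6 1984 [18] 530 [110,44,235])))))) (.node (.node (.node (.node (.node (.leaf (.up 5 373 [10] 0 [93,15])) (.leaf (.up 6 3394 [18] 530 [87,94,103,224]))) (.node (.leaf (.up 6 2139 [51] 617 [57,44,224])) (.leaf (.up 5 3374 [5] 0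 [])))) (.node (.node (.leaf (.up 5 464 [5] 0 [])) (.leaf (.up 6 2191 [18] 530 [87,93,43,201]))) (.node (.leaf (.up 5 3499 [51] 617 [88,93,140,71])) (.leaf (.up 6 2518 [18] 530 [56,91,194]))))) (.node (.node (.node (.leaf (.up 5 810 [10] 0 [88,93,103,112])) (.leaf (.up 4 3354 [18] 530 [87,93,123,135]))) (.node (.leaf (.up 6 184 [9] 0 [87,55,103,190])) (.leaf (.up 6 3791 [18] 530 [87,93,2])))) (.node (.node (.leaf (.up 5 1383 [18] 530 [88,56,44,146])) (.leaf (.up 6 342 [10] 0 [57,55,140,164]))) (.leaf (.up 5 3482 [51] 617 [87,93,123,158]))))) (.node (.node (.node (.node (.leaf (.up 7 1337 [10] 0 [88,110,233])) (.leaf (.up 5 337 [10] 0 [93,91,156]))) (.node (.leaf (.up 6 1662 [10] 0 [110,91,225])) (.leaf (.up 5 3374 [9] 0 [57,94,43,125])))) (.node (.node (.leaf (.up 5 570 [5] 0 [])) (.leaf (.up 5 2772 [18] 530 [57,110,155,131]))) (.node (.leaf (.up 5 1911 [9] 0 [88,93,176,238])) (.leaf (.up 4 3736 [10] 0 [57,110,43,167]))))) (.node (.node (.node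 (.leaf (.up 5 2347 [9] 0 [87,93,43,212])) (.leaf (.up 4 2161 [5] 0 []))) (.node (.leaf (.up 6 1583 [51] 617 [55,116,178])) (.leaf (.up 5 505 [18] 530 [87,55,116,164])))) (.node (.node (.leaf (.up 5 177 [18] 530 [94,113])) (.leaf (.up 5 3025 [51] 617 [110,176,216]))) (.leaf (.up 3 311 [51] 617 [87,93,89,236]))))))) (.node (.node (.node (.node (.node (.node (.leaf (.up 6 1641 [51] 617 [57,55,103,69])) (.leaf (.up 4 3494 [51] 617 [88,91,102]))) (.node (.leaf (.up 5 625 [51] 617 [57,55,104])) (.leaf (.up 3 1852 [9] 0 [87,93,6])))) (.node (.node (.leaf (.up 5 774 [10] 0 [87,56,89,243])) (.leaf (.up 6 797 [18] 530 [88,94,175]))) (.node (.leaf (.up 6 1223 [51] 617 [87,56,123,3])) (.leaf (.up 6 2714 [51] 617 [87,42,202]))))) (.node (.node (.node (.leaf (.up 6 2264 [51] 617 [57,110,42,136])) (.leaf (.up 3 2011 [5] 0 []))) (.node (.leaf (.up 6 1738 [10] 0 [110,104,5])) (.leaf (.up 6 136 [18] 530 [57,155,194])))) (.node (.node (.leaf (.up 6 160 [18] 530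 [176,18])) (.leaf (.up 6 1014 [10] 0 [55,103,65]))) (.leaf (.up 4 666 [9] 0 [57,94,42,23]))))) (.node (.node (.node (.node (.leaf (.up 6 1720 [10] 0 [94,140,115])) (.leaf (.up 5 620 [51] 617 [88,56,89,133]))) (.node (.leaf (.up 4 2479 [51] 617 [87,93,116,214])) (.leaf (.up 5 2373 [51] 617 [110,44,196])))) (.node (.node (.leaf (.up 7 459 [51] 617 [87,55,123,215])) (.leaf (.up 6 1194 [9] 0 [88,110,89]))) (.node (.leaf (.up 4 185 [51] 617 [87,140,29])) (.leaf (.up 6 1322 [18] 530 [87,94,176,141]))))) (.node (.node (.node (.leaf (.up 3 527 [5] 0 [])) (.leaf (.up 4 192 [18] 530 [57,110,89,237]))) (.node (.leaf (.up 5 500 [51] 617 [110,103,211])) (.leaf (.up 5 1231 [51] 617 [56,214])))) (.node (.node (.leaf (.up 6 2089 [51] 617 [88,93,176,1])) (.leaf (.up 3 1205 [9] 0 [88,110,90,113]))) (.leaf (.up 5 1730 [18] 530 [57,94,91,99])))))) (.node (.node (.node (.node (.node (.leaf (.up 6 128 [5] 0 [])) (.leaf (.up 5 2683 [18] 530 [87,43,164]))) (.node (.leaf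 (.up 6 236 [9] 0 [57,94,89,13])) (.leaf (.up 5 2876 [5] 0 [])))) (.node (.node (.leaf (.up 5 3312 [18] 530 [57,176,22])) (.leaf (.up 6 1445 [18] 530 [57,110,42,148]))) (.node (.leaf (.up 6 1713 [51] 617 [88,55,89,119])) (.leaf (.up 6 2371 [10] 0 [87,94,91,102]))))) (.node (.node (.node (.leaf (.up 6 1379 [18] 530 [57,56,176,35])) (.leaf (.up 6 2282 [9] 0 [57,110,43,245]))) (.node (.leaf (.up 6 1660 [5] 0 [])) (.leaf (.up 6 3452 [5] 0 [57,110,123,217])))) (.node (.node (.leaf (.up 6 1061 [5] 0 [])) (.leaf (.up 5 649 [9] 0 [61]))) (.leaf (.up 7 1592 [5] 0 []))))) (.node (.node (.node (.node (.leaf (.up 6 1588 [18] 530 [87,116,11])) (.leaf (.up 5 2618 [5] 0 []))) (.node (.leaf (.up 6 1033 [5] 0 [])) (.leaf (.up 5 2120 [51] 617 [88,110,89,179])))) (.node (.node (.leaf (.up 6 2881 [18] 530 [57,94,42,100])) (.leaf (.up 3 527 [9] 0 [57,55,234]))) (.leaf (.up 5 3543 [51] 617 [87,56,89,240])))) (.node (.node (.node (.leaf (.up 6 388 [5] 0 [])) (.leaf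 (.up 5 2202 [5] 0 [57,56,116,12]))) (.node (.leaf (.up 5 1701 [18] 530 [57,55,89,175])) (.leaf (.up 4 3501 [51] 617 [88,93,116,109])))) (.node (.node (.leaf (.up 3 966 [9] 0 [56,7])) (.leaf (.up 6 604 [18] 530 [57,110,90,237]))) (.leaf (.up 5 1774 [9] 0 [94,140,36])))))))

noncomputable def trio1_10101 : Tr TStep :=
  .node (.node (.node (.node (.node (.node (.node (.leaf (.up 5 3499 [10] 0 [88,56,91,46])) (.leaf (.up 6 1848 [18] 530 [55,89,150]))) (.node (.leaf (.up 4 3710 [18] 530 [93,43,146])) (.leaf (.up 5 2787 [5] 0 [])))) (.node (.node (.leaf (.up 6 400 [51] 617 [55,176,4])) (.leaf (.up 6 2912 [5] 0 []))) (.node (.leaf (.up 6 2115 [51] 617 [57,103,165])) (.leaf (.up 5 3475 [5] 0 []))))) (.node (.node (.node (.leaf (.up 6 350 [5] 0 [])) (.leaf (.up 5 1479 [9] 0 [57,93,140,156]))) (.node (.leaf (.up 6 3287 [9] 0 [57,220])) (.leaf (.up 5 2722 [51] 617 [93,176,208])))) (.node (.node (.leaf (.up 5 1172 [10] 0 [93,44,20])) (.leaf (.up 4 3134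 [5] 0 []))) (.leaf (.up 6 2127 [5] 0 []))))) (.node (.node (.node (.node (.leaf (.up 6 1914 [18] 530 [94,43,238])) (.leaf (.up 5 300 [9] 0 [57,55,104,141]))) (.node (.leaf (.up 6 78 [9] 0 [44,138])) (.leaf (.up 5 2303 [9] 0 [110,176,210])))) (.node (.node (.leaf (.up 6 1272 [10] 0 [88,56,89,29])) (.leaf (.up 4 1812 [9] 0 [57,93,9]))) (.node (.leaf (.up 4 3011 [51] 617 [110,155,10])) (.leaf (.up 5 1446 [10] 0 [88,104,228]))))) (.node (.node (.node (.leaf (.up 4 3701 [9] 0 [57,55,155,231])) (.leaf (.up 5 3612 [51] 617 [88,56,44,174]))) (.node (.leaf (.up 5 190 [51] 617 [87,56,116,162])) (.leaf (.up 6 3320 [5] 0 [57,55,116,60])))) (.node (.node (.leaf (.up 5 2653 [51] 617 [88,56,89,211])) (.leaf (.up 6 2706 [5] 0 [88,91,231]))) (.leaf (.up 4 816 [51] 617 [57,44,229])))))) (.node (.node (.node (.node (.node (.leaf (.up 3 998 [10] 0 [88,56,104,228])) (.leaf (.up 5 3042 [9] 0 [55,90,167]))) (.node (.leaf (.up 6 1030 [18] 530 [88,55,103,191])) (.leaf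 (.up 5 1098 [51] 617 [88,110,176,143])))) (.node (.node (.leaf (.up 5 2169 [10] 0 [57,94,140,199])) (.leaf (.up 6 1219 [51] 617 [87,93,103,15]))) (.node (.leaf (.up 5 2031 [51] 617 [88,55,176,144])) (.leaf (.up 5 3557 [5] 0 []))))) (.node (.node (.node (.leaf (.up 3 3226 [51] 617 [88,94,103,200])) (.leaf (.up 5 1143 [18] 530 [87,55,155,179]))) (.node (.leaf (.up 6 1374 [9] 0 [93,155,9])) (.leaf (.up 6 1658 [51] 617 [57,56,140,112])))) (.node (.node (.leaf (.up 5 1100 [51] 617 [88,110,155,240])) (.leaf (.up 6 1998 [18] 530 [94,43,12]))) (.leaf (.up 6 3166 [51] 617 [57,56,146]))))) (.node (.node (.node (.node (.leaf (.up 5 89 [10] 0 [94,90,218])) (.leaf (.up 6 2917 [10] 0 [56,89,134]))) (.node (.leaf (.up 3 2963 [18] 530 [57,56,104,15])) (.leaf (.up 4 2883 [9] 0 [87,93,176,101])))) (.node (.node (.leaf (.up 5 894 [5] 0 [])) (.leaf (.up 6 2807 [51] 617 [57,56,43,245]))) (.leaf (.up 5 2203 [51] 617 [57,55,90,120])))) (.node (.node (.node (.leaf (.up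 6 122 [51] 617 [88,55,176,10])) (.leaf (.up 5 2026 [18] 530 [57,44,5]))) (.node (.leaf (.up 6 607 [51] 617 [87,94,123,202])) (.leaf (.up 6 3386 [5] 0 [])))) (.node (.node (.leaf (.up 3 3283 [51] 617 [88,116,158])) (.leaf (.up 4 3649 [18] 530 [57,93,123,113]))) (.leaf (.up 6 2256 [9] 0 [87,56,140,25]))))))) (.node (.node (.node (.node (.node (.node (.leaf (.up 5 1497 [9] 0 [93,43,137])) (.leaf (.up 6 198 [51] 617 [88,104,92]))) (.node (.leaf (.up 6 472 [18] 530 [88,93,89,194])) (.leaf (.up 6 2991 [5] 0 [57,93,103,193])))) (.node (.node (.leaf (.up 4 3736 [9] 0 [93,43,6])) (.leaf (.up 6 630 [51] 617 [87,110,42,96]))) (.node (.leaf (.up 5 2653 [9] 0 [57,94,103,99])) (.leaf (.up 5 1461 [10] 0 [42,215]))))) (.node (.node (.node (.leaf (.up 6 391 [5] 0 [])) (.leaf (.up 5 2026 [5] 0 []))) (.node (.leaf (.up 5 2512 [51] 617 [87,110,140,240])) (.leaf (.up 6 3305 [5] 0 [87,94,123,71])))) (.node (.node (.leaf (.up 6 2844 [51] 617 [88,110,140,149])) (.leaf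 (.up 6 2213 [51] 617 [88,93,103,206]))) (.leaf (.up 6 2125 [9] 0 [88,93,89,114]))))) (.node (.node (.node (.node (.leaf (.up 4 2992 [18] 530 [88,55,104,60])) (.leaf (.up 5 2575 [10] 0 [87,56,90,144]))) (.node (.leaf (.up 2 989 [5] 0 [])) (.leaf (.up 6 2136 [18] 530 [88,93,96])))) (.node (.node (.leaf (.up 6 2982 [9] 0 [88,90,229])) (.leaf (.up 6 3124 [51] 617 [55,42,13]))) (.node (.leaf (.up 6 1449 [9] 0 [57,43,141])) (.leaf (.up 6 1033 [51] 617 [110,90,138]))))) (.node (.node (.node (.leaf (.up 3 1212 [18] 530 [57,94,103,99])) (.leaf (.up 6 2542 [10] 0 [87,56,103,232]))) (.node (.leaf (.up 4 1086 [9] 0 [87,110,103,172])) (.leaf (.up 6 3343 [5] 0 [])))) (.node (.node (.leaf (.up 5 772 [5] 0 [])) (.leaf (.up 5 786 [51] 617 [87,94,42,164]))) (.leaf (.up 6 2046 [9] 0 [57,110,116,153])))))) (.node (.node (.node (.node (.node (.leaf (.up 6 3572 [9] 0 [91,189])) (.leaf (.up 4 294 [10] 0 [87,93,91,76]))) (.node (.leaf (.up 6 936 [5] 0 [])) (.leaf (.up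 5 1132 [10] 0 [110,116,69])))) (.node (.node (.leaf (.up 3 631 [10] 0 [57,93,44,9])) (.leaf (.up 6 1738 [9] 0 [88,93,43,204]))) (.node (.leaf (.up 6 1374 [5] 0 [])) (.leaf (.up 3 2186 [18] 530 [56,91,134]))))) (.node (.node (.node (.leaf (.up 4 294 [5] 0 [])) (.leaf (.up 6 701 [18] 530 [57,93,140,169]))) (.node (.leaf (.up 5 3640 [10] 0 [88,56,140,109])) (.leaf (.up 5 3239 [5] 0 [])))) (.node (.node (.leaf (.up 6 776 [10] 0 [88,93,104,198])) (.leaf (.up 5 270 [9] 0 [87,93,89,59]))) (.leaf (.up 6 2057 [10] 0 [56,155,105]))))) (.node (.node (.node (.node (.leaf (.up 5 1652 [51] 617 [87,55,140,178])) (.leaf (.up 5 940 [51] 617 [110,140,177]))) (.node (.leaf (.up 5 3401 [10] 0 [55,183])) (.leaf (.up 4 3494 [5] 0 [])))) (.node (.node (.leaf (.up 5 3483 [51] 617 [57,55,140,158])) (.leaf (.up 5 3683 [9] 0 [56,116,169]))) (.leaf (.up 6 472 [51] 617 [94,44,222])))) (.node (.node (.node (.leaf (.up 6 1459 [51] 617 [57,55,140,158])) (.leaf (.up 5 847 [51]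 617 [94,91,98]))) (.node (.leaf (.up 6 3238 [51] 617 [93,91,73])) (.leaf (.up 5 2778 [10] 0 [89,25])))) (.node (.node (.leaf (.up 4 3695 [9] 0 [57,93,103,112])) (.leaf (.up 6 3269 [5] 0 [56,155,233]))) (.leaf (.up 5 2299 [10] 0 [87,56,90,128])))))))

noncomputable def trio1_1010 : Tr TStep := .node trio1_10100 trio1_10101

noncomputable def trio1_10110 : Tr TStep :=
  .node (.node (.node (.node (.node (.node (.node (.leaf (.up 6 147 [51] 617 [87,115])) (.leaf (.up 6 1903 [51] 617 [55,104,117]))) (.node (.leaf (.up 6 2360 [9] 0 [55,89,200])) (.leaf (.up 5 317 [51] 617 [57,110,140,95])))) (.node (.node (.leaf (.up 3 134 [9] 0 [87,104,8])) (.leaf (.up 5 1635 [9] 0 [57,110,175]))) (.node (.leaf (.up 6 3625 [18] 530 [56,155,114])) (.leaf (.up 6 278 [9] 0 [55,155,197]))))) (.node (.node (.node (.leaf (.up 6 339 [5] 0 [])) (.leaf (.up 4 2656 [5] 0 []))) (.node (.leaf (.up 6 2058 [51] 617 [88,110,116,204])) (.leaf (.up 6 3744 [51] 617 [88,93,104,231]))))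 (.node (.node (.leaf (.up 6 1339 [10] 0 [103,1])) (.leaf (.up 6 1697 [9] 0 [87,164]))) (.leaf (.up 5 1515 [5] 0 []))))) (.node (.node (.node (.node (.leaf (.up 5 2296 [18] 530 [87,110,43,134])) (.leaf (.up 6 1051 [10] 0 [88,56,123,193]))) (.node (.leaf (.up 4 2052 [51] 617 [88,55,103,161])) (.leaf (.up 2 6 [51] 617 [110])))) (.node (.node (.leaf (.up 5 819 [9] 0 [90,227])) (.leaf (.up 5 3020 [5] 0 []))) (.node (.leaf (.up 6 3704 [10] 0 [55,0])) (.leaf (.up 5 2707 [51] 617 [87,110,43,139]))))) (.node (.node (.node (.leaf (.up 5 2035 [51] 617 [87,56,155,137])) (.leaf (.up 5 2783 [5] 0 []))) (.node (.leaf (.up 7 1034 [18] 530 [88,110,2])) (.leaf (.up 6 1299 [18] 530 [57,55,162])))) (.node (.node (.leaf (.up 6 472 [9] 0 [88,110,42,71])) (.leaf (.up 7 1253 [51] 617 [57,55,3]))) (.leaf (.up 6 922 [18] 530 [88,94,104,5])))))) (.node (.node (.node (.node (.node (.leaf (.up 5 3239 [9] 0 [88,55,91,207])) (.leaf (.up 5 2164 [51] 617 [87,93,116,239]))) (.node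 (.leaf (.up 5 2155 [51] 617 [87,56,89,146])) (.leaf (.up 4 1975 [18] 530 [88,55,44,241])))) (.node (.node (.leaf (.up 6 2051 [10] 0 [88,55,44,225])) (.leaf (.up 6 105 [10] 0 [88,110,43,157]))) (.node (.leaf (.up 6 2078 [18] 530 [57,94,44,111])) (.leaf (.up 2 590 [18] 530 [87,110,44,23]))))) (.node (.node (.node (.leaf (.up 5 347 [10] 0 [93,44,132])) (.leaf (.up 6 1351 [51] 617 [88,43,139]))) (.node (.leaf (.up 5 656 [9] 0 [155,61])) (.leaf (.up 5 3654 [51] 617 [104,167])))) (.node (.node (.leaf (.up 5 300 [51] 617 [56,44,59])) (.leaf (.up 5 2018 [18] 530 [88,93,155,76]))) (.leaf (.up 3 2186 [5] 0 []))))) (.node (.node (.node (.node (.leaf (.up 6 2903 [10] 0 [57,55,91,175])) (.leaf (.up 6 2903 [51] 617 [57,56,44,236]))) (.node (.leaf (.up 5 1491 [18] 530 [88,94,89,114])) (.leaf (.up 4 1199 [18] 530 [87,110,103,125])))) (.node (.node (.leaf (.up 4 1377 [9] 0 [87,56,176,65])) (.leaf (.up 5 3636 [10] 0 [110,103,158]))) (.node (.leaf (.up 7 3187 [9]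 0 [88,93,43,248])) (.leaf (.up 6 3240 [9] 0 [57,140,227]))))) (.node (.node (.node (.leaf (.up 5 1080 [18] 530 [110,176])) (.leaf (.up 6 2319 [10] 0 [94,43,212]))) (.node (.leaf (.up 4 123 [9] 0 [56,173])) (.leaf (.up 6 1719 [18] 530 [56,123,102])))) (.node (.node (.leaf (.up 7 430 [51] 617 [88,110,123,33])) (.leaf (.up 4 3701 [18] 530 [87,56,44,5]))) (.leaf (.up 5 338 [10] 0 [88,55,96]))))))) (.node (.node (.node (.node (.node (.node (.leaf (.up 6 2039 [51] 617 [56,104,96])) (.leaf (.up 5 2566 [51] 617 [87,55,89,148]))) (.node (.leaf (.up 6 3002 [51] 617 [88,56,90,111])) (.leaf (.up 5 526 [51] 617 [88,93,116,95])))) (.node (.node (.leaf (.up 4 444 [5] 0 [])) (.leaf (.up 6 3605 [10] 0 [88,110,44,234]))) (.node (.leaf (.up 5 2080 [51] 617 [174])) (.leaf (.up 6 1273 [18] 530 [87,104,157]))))) (.node (.node (.node (.leaf (.up 4 377 [51] 617 [104,214])) (.leaf (.up 5 1850 [9] 0 [110,103,131]))) (.node (.leaf (.up 5 89 [9] 0 [87,93,91,233])) (.leaf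 (.up 5 2015 [18] 530 [88,110,15])))) (.node (.node (.leaf (.up 6 941 [5] 0 [88,55,103,76])) (.leaf (.up 3 3160 [5] 0 []))) (.leaf (.up 5 2716 [10] 0 [87,94,89,192]))))) (.node (.node (.node (.node (.leaf (.up 5 1196 [10] 0 [57,56,222])) (.leaf (.up 5 2563 [5] 0 []))) (.node (.leaf (.up 5 1451 [5] 0 [])) (.leaf (.up 5 859 [9] 0 [55,128])))) (.node (.node (.leaf (.up 5 850 [5] 0 [])) (.leaf (.up 4 1806 [9] 0 [57,94,246]))) (.node (.leaf (.up 6 2397 [18] 530 [57,110,176,202])) (.leaf (.up 5 3783 [5] 0 []))))) (.node (.node (.node (.leaf (.up 6 342 [5] 0 [])) (.leaf (.up 6 260 [18] 530 [57,94,103,189]))) (.node (.leaf (.up 7 883 [10] 0 [57,55,176,97])) (.leaf (.up 3 3409 [51] 617 [94,116,193])))) (.node (.node (.leaf (.up 5 1210 [51] 617 [88,55,155,145])) (.leaf (.up 2 476 [10] 0 [87,164]))) (.leaf (.up 6 792 [10] 0 [87,56,116,0])))))) (.node (.node (.node (.node (.node (.leaf (.up 6 3408 [51] 617 [87,55,15])) (.leaf (.up 4 2496 [5] 0 []))) (.node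 (.leaf (.up 3 2280 [51] 617 [87,56,89,225])) (.leaf (.up 6 743 [18] 530 [57,94,140,153])))) (.node (.node (.leaf (.up 6 3063 [51] 617 [94,91,136])) (.leaf (.up 2 10 [18] 530 [87,29]))) (.node (.leaf (.up 6 3166 [18] 530 [88,110,116,100])) (.leaf (.up 6 3154 [10] 0 [110,89,239]))))) (.node (.node (.node (.leaf (.up 5 3655 [18] 530 [93,123,10])) (.leaf (.up 5 954 [10] 0 [57,93,91,223]))) (.node (.leaf (.up 5 513 [10] 0 [87,110,116,120])) (.leaf (.up 4 1812 [51] 617 [57,44,22])))) (.node (.node (.leaf (.up 3 223 [9] 0 [87,44,75])) (.leaf (.up 6 1483 [51] 617 [88,55,89,235]))) (.leaf (.up 5 2225 [18] 530 [87,110,163]))))) (.node (.node (.node (.node (.leaf (.up 5 317 [18] 530 [88,110,123,122])) (.leaf (.up 5 810 [18] 530 [59]))) (.node (.leaf (.up 6 1150 [10] 0 [94,104,182])) (.leaf (.up 6 614 [18] 530 [88,56,7])))) (.node (.node (.leaf (.up 5 320 [10] 0 [88,94,89,242])) (.leaf (.up 3 3661 [9] 0 [94,140,160]))) (.leaf (.up 3 3129 [51] 617 [57,94,89,36]))))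 (.node (.node (.node (.leaf (.up 4 3036 [9] 0 [87,93,176,190])) (.leaf (.up 6 1509 [51] 617 [87,56,90,22]))) (.node (.leaf (.up 2 2455 [18] 530 [87,93,140,219])) (.leaf (.up 6 1217 [9] 0 [57,55,42,151])))) (.node (.node (.leaf (.up 4 1144 [5] 0 [110,44,173])) (.leaf (.up 6 1256 [10] 0 [88,94,89,25]))) (.leaf (.up 6 2777 [18] 530 [87,93,155,125])))))))

noncomputable def trio1_10111 : Tr TStep :=
  .node (.node (.node (.node (.node (.node (.node (.leaf (.up 6 21 [5] 0 [])) (.leaf (.up 5 370 [51] 617 [94,43,11]))) (.node (.leaf (.up 4 1773 [51] 617 [57,110,116,223])) (.leaf (.up 6 1983 [10] 0 [57,93,180])))) (.node (.node (.leaf (.up 5 132 [18] 530 [57,55,176])) (.leaf (.up 5 2184 [51] 617 [88,55,155,118]))) (.node (.leaf (.up 6 1978 [10] 0 [87,93,90,179])) (.leaf (.up 6 3703 [5] 0 []))))) (.node (.node (.node (.leaf (.up 4 360 [5] 0 [])) (.leaf (.up 6 2675 [5] 0 []))) (.node (.leaf (.up 6 1459 [18] 530 [88,94,43,171])) (.leaf (.up 2 508 [51] 617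 [88,110,155,148])))) (.node (.node (.leaf (.up 5 2876 [9] 0 [87,110,155,122])) (.leaf (.up 6 2684 [51] 617 [87,56,123,229]))) (.leaf (.up 5 259 [51] 617 [93,192]))))) (.node (.node (.node (.node (.leaf (.up 6 201 [5] 0 [])) (.leaf (.up 5 1961 [5] 0 [57,140,139]))) (.node (.leaf (.up 6 970 [5] 0 [])) (.leaf (.up 5 840 [10] 0 [87,110,176,185])))) (.node (.node (.leaf (.up 5 1633 [18] 530 [57,56,43,228])) (.leaf (.up 5 2937 [51] 617 [87,56,89,203]))) (.node (.leaf (.up 6 1789 [5] 0 [57,56,155,188])) (.leaf (.up 5 2317 [9] 0 [88,55,89,113]))))) (.node (.node (.node (.leaf (.up 5 1119 [10] 0 [57,110,44,23])) (.leaf (.up 6 931 [51] 617 [56,140,205]))) (.node (.leaf (.up 6 1325 [51] 617 [88,103,61])) (.leaf (.up 5 2459 [51] 617 [57,56,90,195])))) (.node (.node (.leaf (.up 4 2861 [10] 0 [55,176,196])) (.leaf (.up 6 260 [9] 0 [55,42,97]))) (.leaf (.up 6 644 [10] 0 [123,107])))))) (.node (.node (.node (.node (.node (.leaf (.up 5 448 [9] 0 [93,104,204]))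 (.leaf (.up 7 35 [18] 530 [57,43,7]))) (.node (.leaf (.up 5 261 [51] 617 [94,155,115])) (.leaf (.up 5 2663 [51] 617 [88,94,123,102])))) (.node (.node (.leaf (.up 5 505 [51] 617 [57,56,139])) (.leaf (.up 4 2496 [10] 0 [57,93,104,120]))) (.node (.leaf (.up 5 3271 [51] 617 [87,94,44,172])) (.leaf (.up 4 715 [9] 0 [87,116,203]))))) (.node (.node (.node (.leaf (.up 5 1635 [18] 530 [88,110,44,131])) (.leaf (.up 5 3375 [9] 0 [57,110,161]))) (.node (.leaf (.up 3 735 [18] 530 [87,93,103,237])) (.leaf (.up 7 3116 [18] 530 [88,94,104,154])))) (.node (.node (.leaf (.up 5 1052 [5] 0 [])) (.leaf (.up 5 2147 [10] 0 [88,30]))) (.leaf (.up 5 2440 [51] 617 [57,110,140,96]))))) (.node (.node (.node (.node (.leaf (.up 3 281 [5] 0 [])) (.leaf (.up 6 2610 [5] 0 []))) (.node (.leaf (.up 4 3494 [10] 0 [94,43,18])) (.leaf (.up 5 1747 [9] 0 [94,91,121])))) (.node (.node (.leaf (.up 3 588 [5] 0 [])) (.leaf (.up 5 1886 [18] 530 [87,110,42,180]))) (.leaf (.up 4 1112 [51]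 617 [88,56,155,218])))) (.node (.node (.node (.leaf (.up 4 3109 [51] 617 [110,140,117])) (.leaf (.up 5 2819 [18] 530 [87,56,103,119]))) (.node (.leaf (.up 5 2520 [51] 617 [87,55,90,200])) (.leaf (.up 6 3395 [5] 0 [])))) (.node (.node (.leaf (.up 1 4 [51] 617 [57,94,42,61])) (.leaf (.up 3 3160 [18] 530 [88,55,91,77]))) (.leaf (.up 5 536 [9] 0 [87,110,91,13]))))))) (.node (.node (.node (.node (.node (.node (.leaf (.up 4 3412 [51] 617 [87,56,140,221])) (.leaf (.up 6 2058 [5] 0 [110,155,99]))) (.node (.leaf (.up 5 1652 [9] 0 [87,55,42,239])) (.leaf (.up 4 1602 [51] 617 [57,42,159])))) (.node (.node (.leaf (.up 5 458 [5] 0 [])) (.leaf (.up 5 2770 [18] 530 [87,93,116,99]))) (.node (.leaf (.up 5 1898 [5] 0 [])) (.leaf (.up 6 952 [51] 617 [57,110,103,191]))))) (.node (.node (.node (.leaf (.up 4 1913 [51] 617 [87,43,211])) (.leaf (.up 6 3467 [18] 530 [88,55,90,238]))) (.node (.leaf (.up 6 1035 [51] 617 [87,110,91,226])) (.leaf (.up 2 1146 [10] 0 [57,110,104,98]))))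 (.node (.node (.leaf (.up 7 468 [9] 0 [88,94,36])) (.leaf (.up 6 3698 [18] 530 [57,55,42,18]))) (.leaf (.up 6 1556 [5] 0 []))))) (.node (.node (.node (.node (.leaf (.up 2 6 [9] 0 [57,93,103,151])) (.leaf (.up 6 295 [51] 617 [56,75]))) (.node (.leaf (.up 4 3561 [10] 0 [57,94,42,161])) (.leaf (.up 5 355 [9] 0 [57,55,155,192])))) (.node (.node (.leaf (.up 5 847 [9] 0 [87,55,130])) (.leaf (.up 6 3696 [18] 530 [88,110,140,243]))) (.node (.leaf (.up 4 3036 [18] 530 [57,56,44,169])) (.leaf (.up 6 3555 [10] 0 [93,42,236]))))) (.node (.node (.node (.leaf (.up 6 689 [10] 0 [88,93,104,77])) (.leaf (.up 6 888 [18] 530 [57,155,145]))) (.node (.leaf (.up 6 3745 [9] 0 [87,56,155,137])) (.leaf (.up 3 3357 [5] 0 [])))) (.node (.node (.leaf (.up 5 3764 [51] 617 [87,55,116,216])) (.leaf (.up 4 2970 [10] 0 [57,140,199]))) (.leaf (.up 5 3564 [9] 0 [88,94,116,95])))))) (.node (.node (.node (.node (.node (.leaf (.up 5 1240 [18] 530 [56,89,160])) (.leaf (.up 6 628 [51]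 617 [57,110,89,2]))) (.node (.leaf (.up 6 1396 [5] 0 [])) (.leaf (.up 6 792 [51] 617 [93,123,71])))) (.node (.node (.leaf (.up 3 3129 [9] 0 [110,123,221])) (.leaf (.up 5 2347 [5] 0 []))) (.node (.leaf (.up 4 3635 [10] 0 [87,55,104,193])) (.leaf (.up 6 2310 [10] 0 [57,94,103,151]))))) (.node (.node (.node (.leaf (.up 2 476 [5] 0 [])) (.leaf (.up 5 561 [18] 530 [87,90,77]))) (.node (.leaf (.up 6 1185 [18] 530 [57,123,187])) (.leaf (.up 5 3415 [51] 617 [87,93,44,178])))) (.node (.node (.leaf (.up 6 3006 [9] 0 [87,110,104,127])) (.leaf (.up 5 3328 [9] 0 [88,55,90,61]))) (.leaf (.up 3 1744 [51] 617 [55,44,154]))))) (.node (.node (.node (.node (.leaf (.up 5 3147 [51] 617 [88,93,43,92])) (.leaf (.up 6 1508 [18] 530 [57,110,140,152]))) (.node (.leaf (.up 6 2504 [18] 530 [57,55,123,34])) (.leaf (.up 4 2594 [9] 0 [87,94,42,199])))) (.node (.node (.leaf (.up 4 3780 [9] 0 [88,110,116,11])) (.leaf (.up 5 561 [9] 0 [87,110,91,31]))) (.leaf (.up 5 495 [18]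 530 [88,176,122])))) (.node (.node (.node (.leaf (.up 6 3311 [51] 617 [87,94,44,189])) (.leaf (.up 6 2533 [10] 0 [93,91,213]))) (.node (.leaf (.up 5 1827 [5] 0 [])) (.leaf (.up 5 2575 [9] 0 [88,56,123,242])))) (.node (.node (.leaf (.up 6 726 [18] 530 [88,110,103,196])) (.leaf (.up 4 3710 [51] 617 [87,93,91,208]))) (.leaf (.up 5 3147 [18] 530 [56,112])))))))

noncomputable def trio1_1011 : Tr TStep := .node trio1_10110 trio1_10111

noncomputable def trio1_101 : Tr TStep := .node trio1_1010 trio1_1011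

noncomputable def trio1_10 : Tr TStep := .node trio1_100 trio1_101

noncomputable def trio1_11000 : Tr TStep :=
  .node (.node (.node (.node (.node (.node (.node (.leaf (.up 6 614 [10] 0 [88,110,103,168])) (.leaf (.up 5 3674 [9] 0 [87,56,104,197]))) (.node (.leaf (.up 5 3619 [18] 530 [87,55,123,185])) (.leaf (.up 4 1812 [18] 530 [88,43,8])))) (.node (.node (.leaf (.up 6 703 [18] 530 [57,56,90,230])) (.leaf (.up 4 2797 [51] 617 [57,103,7]))) (.node (.leaf (.up 5 2099 [18] 530 [87,55,104,195])) (.leaf (.up 6 3700 [18] 530 [88,56,155,99]))))) (.node (.node (.node (.leaf (.up 4 2235 [51] 617 [94,116,239])) (.leaf (.up 6 2646 [5] 0 []))) (.node (.leaf (.up 6 3066 [18] 530 [87,140,209])) (.leaf (.up 4 3097 [10] 0 [57,44,128])))) (.node (.node (.leaf (.up 6 596 [51] 617 [88,55,123,203])) (.leaf (.up 4 2161 [51] 617 [57,55,123,34]))) (.leaf (.up 4 1373 [18] 530 [93,42,194]))))) (.node (.node (.node (.node (.leaf (.up 5 3783 [9] 0 [56,44,145])) (.leaf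 (.up 5 2317 [10] 0 [87,94,123,219]))) (.node (.leaf (.up 2 1108 [51] 617 [87,55,174])) (.leaf (.up 5 1080 [51] 617 [57,56,116,111])))) (.node (.node (.leaf (.up 6 3054 [10] 0 [87,93,89,139])) (.leaf (.up 6 122 [18] 530 [87,93,91,137]))) (.node (.leaf (.up 5 3619 [9] 0 [87,94,43,189])) (.leaf (.up 6 3527 [9] 0 [123,1]))))) (.node (.node (.node (.leaf (.up 6 1248 [18] 530 [88,94,44,195])) (.leaf (.up 5 3227 [9] 0 [55,123,35]))) (.node (.leaf (.up 5 2666 [9] 0 [88,55,176,119])) (.leaf (.up 6 2330 [9] 0 [87,55,104,59])))) (.node (.node (.leaf (.up 5 796 [10] 0 [55,42,231])) (.leaf (.up 3 2617 [5] 0 []))) (.leaf (.up 5 2099 [5] 0 [56,42,30])))))) (.node (.node (.node (.node (.node (.leaf (.up 6 1334 [10] 0 [57,110,140,203])) (.leaf (.up 5 840 [18] 530 [87,140]))) (.node (.leaf (.up 7 3632 [51] 617 [87,55,104,164])) (.leaf (.up 6 176 [9] 0 [57,93,10])))) (.node (.node (.leaf (.up 3 462 [5] 0 [])) (.leaf (.up 4 1791 [18] 530 [88,55,190]))) (.node (.leaf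 (.up 6 1711 [10] 0 [88,55,104,6])) (.leaf (.up 6 924 [10] 0 [57,116,31]))))) (.node (.node (.node (.leaf (.up 6 408 [5] 0 [])) (.leaf (.up 5 2268 [18] 530 [88,93,89,212]))) (.node (.leaf (.up 6 440 [9] 0 [56,123,238])) (.leaf (.up 5 1822 [51] 617 [57,55,176,118])))) (.node (.node (.leaf (.up 7 352 [18] 530 [93,140,236])) (.leaf (.up 3 822 [51] 617 [57,114]))) (.leaf (.up 5 1075 [9] 0 [57,55,42,151]))))) (.node (.node (.node (.node (.leaf (.up 5 3711 [10] 0 [88,94,43,35])) (.leaf (.up 6 659 [9] 0 [87,94,90,72]))) (.node (.leaf (.up 5 3214 [9] 0 [87,56,123,30])) (.leaf (.up 6 3088 [18] 530 [87,110,44,121])))) (.node (.node (.leaf (.up 5 1024 [9] 0 [88,94,140,8])) (.leaf (.up 6 2234 [9] 0 [88,93,140,172]))) (.node (.leaf (.up 6 1339 [9] 0 [104,6])) (.leaf (.up 5 2270 [10] 0 [57,93,155,220]))))) (.node (.node (.node (.leaf (.up 5 2468 [51] 617 [88,55,104,196])) (.leaf (.up 6 2835 [5] 0 []))) (.node (.leaf (.up 4 2235 [18] 530 [87,56,43,35])) (.leaf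 (.up 6 3512 [5] 0 [94,90,22])))) (.node (.node (.leaf (.up 5 3374 [51] 617 [110,123,224])) (.leaf (.up 3 735 [9] 0 [87,163]))) (.leaf (.up 5 2152 [5] 0 [94,116,238]))))))) (.node (.node (.node (.node (.node (.node (.leaf (.up 6 2086 [51] 617 [57,94,140,98])) (.leaf (.up 5 3255 [51] 617 [88,93,42,72]))) (.node (.leaf (.up 5 1245 [51] 617 [56,42,160])) (.leaf (.up 3 3213 [5] 0 [55,155,204])))) (.node (.node (.leaf (.up 4 437 [5] 0 [])) (.leaf (.up 4 1399 [9] 0 [88,94,176,192]))) (.node (.leaf (.up 5 1538 [9] 0 [87,94,104,195])) (.leaf (.up 4 1063 [18] 530 [57,94,90,234]))))) (.node (.node (.node (.leaf (.up 4 1354 [9] 0 [94,90,22])) (.leaf (.up 6 2008 [5] 0 []))) (.node (.leaf (.up 5 17 [51] 617 [87,94,140,168])) (.leaf (.up 6 2136 [10] 0 [56,116,204])))) (.node (.node (.leaf (.up 6 2178 [9] 0 [88,89,108])) (.leaf (.up 6 1861 [18] 530 [87,55,116,27]))) (.leaf (.up 4 359 [9] 0 [57,42,114]))))) (.node (.node (.node (.node (.leaf (.up 6 3547 [10]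 0 [87,91,214])) (.leaf (.up 6 1117 [18] 530 [57,94,43,65]))) (.node (.leaf (.up 5 3615 [18] 530 [57,94,103,227])) (.leaf (.up 6 3126 [18] 530 [88,56,165])))) (.node (.node (.leaf (.up 5 840 [5] 0 [])) (.leaf (.up 4 3145 [9] 0 [87,176,242]))) (.node (.leaf (.up 6 939 [10] 0 [87,55,89,241])) (.leaf (.up 5 3777 [5] 0 []))))) (.node (.node (.node (.leaf (.up 3 1208 [18] 530 [57,34])) (.leaf (.up 7 3726 [51] 617 [88,91,65]))) (.node (.leaf (.up 5 3214 [10] 0 [87,140,61])) (.leaf (.up 5 385 [51] 617 [87,94,89,139])))) (.node (.node (.leaf (.up 5 2882 [18] 530 [87,110,44,181])) (.leaf (.up 5 626 [9] 0 [88,93,123,73]))) (.leaf (.up 6 2285 [5] 0 [])))))) (.node (.node (.node (.node (.node (.leaf (.up 6 78 [5] 0 [])) (.leaf (.up 4 2782 [51] 617 [87,42,207]))) (.node (.leaf (.up 6 920 [5] 0 [])) (.leaf (.up 5 3532 [10] 0 [88,110,140,243])))) (.node (.node (.leaf (.up 5 3401 [9] 0 [57,110,104,59])) (.leaf (.up 6 2094 [9] 0 [110,42,217]))) (.node (.leaf (.up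 4 1354 [5] 0 [])) (.leaf (.up 4 3584 [5] 0 []))))) (.node (.node (.node (.leaf (.up 4 446 [5] 0 [])) (.leaf (.up 5 1114 [10] 0 [110,44,121]))) (.node (.leaf (.up 5 2707 [10] 0 [87,94,91,10])) (.leaf (.up 6 1766 [51] 617 [93,43,161])))) (.node (.node (.leaf (.up 6 3208 [9] 0 [88,93,43,173])) (.leaf (.up 5 3049 [5] 0 [87,56,89,117]))) (.leaf (.up 5 2214 [5] 0 []))))) (.node (.node (.node (.node (.leaf (.up 6 3405 [10] 0 [103,244])) (.leaf (.up 6 265 [51] 617 [110,44,195]))) (.node (.leaf (.up 5 1302 [9] 0 [87,110,44,129])) (.leaf (.up 6 3585 [10] 0 [57,42,125])))) (.node (.node (.leaf (.up 5 910 [5] 0 [])) (.leaf (.up 4 1975 [10] 0 [110,90,156]))) (.leaf (.up 5 626 [10] 0 [57,91,177])))) (.node (.node (.node (.leaf (.up 5 224 [18] 530 [88,93,89,177])) (.leaf (.up 6 2125 [18] 530 [88,93,104,179]))) (.node (.leaf (.up 5 557 [18] 530 [55,42,234])) (.leaf (.up 5 3401 [5] 0 [])))) (.node (.node (.leaf (.up 3 1208 [9] 0 [56,104,164])) (.leaf (.up 5 3169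 [9] 0 [88,93,116,145]))) (.leaf (.up 6 1710 [5] 0 [])))))))

noncomputable def trio1_11001 : Tr TStep :=
  .node (.node (.node (.node (.node (.node (.node (.leaf (.up 6 1159 [51] 617 [57,94,176,21])) (.leaf (.up 5 2203 [10] 0 [87,110,104,227]))) (.node (.leaf (.up 6 517 [51] 617 [87,110,43,35])) (.leaf (.up 6 3463 [10] 0 [57,55,104,114])))) (.node (.node (.leaf (.up 6 2298 [51] 617 [93,155,159])) (.leaf (.up 5 3762 [51] 617 [57,93,42,160]))) (.node (.leaf (.up 1 15 [10] 0 [87,110,116,143])) (.leaf (.up 6 1235 [51] 617 [88,94,43,31]))))) (.node (.node (.node (.leaf (.up 6 325 [51] 617 [88,93,104,230])) (.leaf (.up 6 2046 [10] 0 [88,110,103,37]))) (.node (.leaf (.up 5 2683 [9] 0 [88,110,155,111])) (.leaf (.up 3 2121 [51] 617 [57,44,179])))) (.node (.node (.leaf (.up 5 2674 [51] 617 [57,56,140,160])) (.leaf (.up 5 2879 [51] 617 [88,56,42,168]))) (.leaf (.up 5 3540 [10] 0 [87,42,2]))))) (.node (.node (.node (.node (.leaf (.up 5 2459 [18] 530 [57,93,89,163]))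 (.leaf (.up 6 2538 [5] 0 []))) (.node (.leaf (.up 4 2931 [9] 0 [87,176,207])) (.leaf (.up 7 3307 [5] 0 [88,110,5])))) (.node (.node (.leaf (.up 5 1479 [18] 530 [87,89,134])) (.leaf (.up 4 1868 [18] 530 [88,56,90,206]))) (.node (.leaf (.up 7 3626 [51] 617 [56,116,204])) (.leaf (.up 5 1842 [9] 0 [88,55,90,226]))))) (.node (.node (.node (.leaf (.up 6 2431 [10] 0 [57,94,42,192])) (.leaf (.up 2 1146 [9] 0 [57,94,90,203]))) (.node (.leaf (.up 6 2140 [51] 617 [57,110,42,159])) (.leaf (.up 4 1331 [9] 0 [87,94,43,178])))) (.node (.node (.leaf (.up 6 2698 [9] 0 [57,55,176,201])) (.leaf (.up 2 2635 [5] 0 []))) (.leaf (.up 5 2268 [5] 0 [])))))) (.node (.node (.node (.node (.node (.leaf (.up 6 52 [18] 530 [88,110,44,4])) (.leaf (.up 5 795 [10] 0 [87,93,90,178]))) (.node (.leaf (.up 5 1858 [9] 0 [88,55,140,211])) (.leaf (.up 5 3271 [5] 0 [88,56,42,137])))) (.node (.node (.leaf (.up 5 3169 [18] 530 [88,93,89,95])) (.leaf (.up 6 662 [10] 0 [55,91,125]))) (.node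 (.leaf (.up 6 121 [18] 530 [87,94,241])) (.leaf (.up 6 3741 [5] 0 []))))) (.node (.node (.node (.leaf (.up 5 274 [9] 0 [87,91,244])) (.leaf (.up 6 2504 [9] 0 [87,94,104,119]))) (.node (.leaf (.up 4 2947 [10] 0 [87,93,42,72])) (.leaf (.up 6 1403 [51] 617 [55,91,157])))) (.node (.node (.leaf (.up 5 3552 [18] 530 [57,93,155,109])) (.leaf (.up 5 3186 [5] 0 []))) (.leaf (.up 4 1807 [51] 617 [87,123,5]))))) (.node (.node (.node (.node (.leaf (.up 6 560 [51] 617 [57,176,212])) (.leaf (.up 5 2393 [10] 0 [88,56,116,246]))) (.node (.leaf (.up 5 3495 [9] 0 [57,94,176,135])) (.leaf (.up 2 2455 [51] 617 [57,93,71])))) (.node (.node (.leaf (.up 6 2781 [51] 617 [57,56,140,221])) (.leaf (.up 5 3425 [10] 0 [87,123,194]))) (.leaf (.up 4 2450 [10] 0 [94,43,246])))) (.node (.node (.node (.leaf (.up 6 585 [5] 0 [])) (.leaf (.up 6 3379 [51] 617 [57,55,90,225]))) (.node (.leaf (.up 4 3412 [9] 0 [57,90,30])) (.leaf (.up 4 359 [51] 617 [110,42,218])))) (.node (.node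 (.leaf (.up 6 2078 [9] 0 [88,94,116,0])) (.leaf (.up 6 2897 [18] 530 [110,243]))) (.leaf (.up 5 752 [51] 617 [88,94,155,198]))))))) (.node (.node (.node (.node (.node (.node (.leaf (.up 6 2357 [18] 530 [87,55,123,167])) (.leaf (.up 4 1762 [18] 530 [87,110,104,138]))) (.node (.leaf (.up 4 3354 [51] 617 [94,116,246])) (.leaf (.up 5 3711 [51] 617 [88,110,155,215])))) (.node (.node (.leaf (.up 6 449 [5] 0 [])) (.leaf (.up 5 2270 [5] 0 []))) (.node (.leaf (.up 6 3198 [18] 530 [57,94,42,92])) (.leaf (.up 3 2794 [51] 617 [57,55,103,71]))))) (.node (.node (.node (.leaf (.up 5 1044 [9] 0 [88,55,155,71])) (.leaf (.up 6 2403 [18] 530 [87,91,203]))) (.node (.leaf (.up 3 1517 [18] 530 [57,43,141])) (.leaf (.up 5 3677 [18] 530 [87,93,155,233])))) (.node (.node (.leaf (.up 4 1000 [5] 0 [])) (.leaf (.up 5 1659 [51] 617 [56,176,108]))) (.leaf (.up 6 2158 [5] 0 []))))) (.node (.node (.node (.node (.leaf (.up 5 2332 [10] 0 [94,89,182])) (.leaf (.up 5 3169 [51]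 617 [87,56,123,10]))) (.node (.leaf (.up 6 2162 [18] 530 [57,117])) (.leaf (.up 5 1795 [10] 0 [93,103,226])))) (.node (.node (.leaf (.up 5 858 [5] 0 [])) (.leaf (.up 5 3206 [18] 530 [56,140,244]))) (.node (.leaf (.up 4 1888 [9] 0 [55,123,151])) (.leaf (.up 6 18 [18] 530 [88,93,104,242]))))) (.node (.node (.node (.leaf (.up 6 407 [10] 0 [87,93,104,33])) (.leaf (.up 5 2760 [5] 0 [56,42,30]))) (.node (.leaf (.up 5 1875 [10] 0 [110,123,169])) (.leaf (.up 5 3711 [9] 0 [57,56,103,35])))) (.node (.node (.leaf (.up 6 143 [10] 0 [93,103,226])) (.leaf (.up 5 2254 [51] 617 [57,93,103,156]))) (.leaf (.up 5 1475 [10] 0 [88,93,104,226])))))) (.node (.node (.node (.node (.node (.leaf (.up 5 3748 [10] 0 [93,89,71])) (.leaf (.up 6 2504 [5] 0 []))) (.node (.leaf (.up 5 2296 [9] 0 [87,110,155,1])) (.leaf (.up 6 2805 [18] 530 [88,110,103,129])))) (.node (.node (.leaf (.up 5 779 [5] 0 [])) (.leaf (.up 5 2097 [10] 0 [88,94,123,21]))) (.node (.leaf (.up 5 1798 [9]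 0 [88,55,44,199])) (.leaf (.up 5 3760 [5] 0 []))))) (.node (.node (.node (.leaf (.up 6 1663 [18] 530 [88,55,123,30])) (.leaf (.up 5 1055 [10] 0 [87,94,89,246]))) (.node (.leaf (.up 6 1836 [51] 617 [93,155,31])) (.leaf (.up 6 2641 [10] 0 [110,104,72])))) (.node (.node (.leaf (.up 6 2215 [18] 530 [57,55,116,129])) (.leaf (.up 3 828 [18] 530 [57,93,43,240]))) (.leaf (.up 5 1970 [10] 0 [94,89,92]))))) (.node (.node (.node (.node (.leaf (.up 3 189 [5] 0 [])) (.leaf (.up 6 3725 [18] 530 [57,93,75]))) (.node (.leaf (.up 5 1044 [5] 0 [])) (.leaf (.up 4 3118 [5] 0 [88,56,42,72])))) (.node (.node (.leaf (.up 5 954 [18] 530 [56])) (.leaf (.up 7 44 [18] 530 [87,94,90]))) (.leaf (.up 5 894 [18] 530 [88,55,44,206])))) (.node (.node (.node (.leaf (.up 3 2669 [18] 530 [87,90,202])) (.leaf (.up 6 210 [10] 0 [57,110,104,225]))) (.node (.leaf (.up 6 258 [18] 530 [57,110,44,35])) (.leaf (.up 6 2610 [9] 0 [57,93,120])))) (.node (.node (.leaf (.up 6 1675 [51] 617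 [93,90,36])) (.leaf (.up 5 1249 [10] 0 [110,240]))) (.leaf (.up 4 1728 [5] 0 [])))))))

noncomputable def trio1_1100 : Tr TStep := .node trio1_11000 trio1_11001

noncomputable def trio1_11010 : Tr TStep :=
  .node (.node (.node (.node (.node (.node (.node (.leaf (.up 4 1097 [9] 0 [57,56,44,208])) (.leaf (.up 6 2397 [5] 0 []))) (.node (.leaf (.up 5 847 [5] 0 [])) (.leaf (.up 6 3718 [9] 0 [57,140,69])))) (.node (.node (.leaf (.up 6 418 [5] 0 [])) (.leaf (.up 4 3695 [10] 0 [87,56,44,180]))) (.node (.leaf (.up 3 2011 [9] 0 [57,56,104,156])) (.leaf (.up 6 2863 [51] 617 [110,43,156]))))) (.node (.node (.node (.leaf (.up 6 1482 [18] 530 [88,44,37])) (.leaf (.up 4 1808 [9] 0 [110,104,180]))) (.node (.leaf (.up 5 2575 [51] 617 [87,93,43,6])) (.leaf (.up 4 3167 [9] 0 [57,94,127])))) (.node (.node (.leaf (.up 4 2636 [51] 617 [88,94,44,187])) (.leaf (.up 5 2847 [51] 617 [103,243]))) (.leaf (.up 5 3754 [9] 0 [87,94,103,204]))))) (.node (.node (.node (.node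 (.leaf (.up 6 305 [18] 530 [57,56,104,236])) (.leaf (.up 5 3012 [51] 617 [88,93,43,5]))) (.node (.leaf (.up 6 2156 [10] 0 [57,110,91,137])) (.leaf (.up 5 259 [18] 530 [87,110,44,113])))) (.node (.node (.leaf (.up 2 811 [5] 0 [])) (.leaf (.up 5 2703 [5] 0 [87,137]))) (.node (.leaf (.up 5 3781 [51] 617 [87,110,176,74])) (.leaf (.up 6 3298 [51] 617 [57,56,116,144]))))) (.node (.node (.node (.leaf (.up 6 3290 [51] 617 [87,56,152])) (.leaf (.up 6 3332 [10] 0 [87,94,91,122]))) (.node (.leaf (.up 5 3642 [9] 0 [88,202])) (.leaf (.up 5 2564 [10] 0 [87,55,123,220])))) (.node (.node (.leaf (.up 5 1020 [10] 0 [44,20])) (.leaf (.up 5 2080 [18] 530 [57,56,140,147]))) (.leaf (.up 6 1704 [5] 0 [87,110,155,124])))))) (.node (.node (.node (.node (.node (.leaf (.up 6 268 [10] 0 [87,55,103,29])) (.leaf (.up 6 700 [18] 530 [87,93,127]))) (.node (.leaf (.up 5 1878 [9] 0 [55,89,182])) (.leaf (.up 4 3011 [10] 0 [88,93,176,11])))) (.node (.node (.leaf (.up 6 1496 [18]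 530 [88,110,173])) (.leaf (.up 1 4 [10] 0 [87,93,186]))) (.node (.leaf (.up 6 1915 [5] 0 [])) (.leaf (.up 5 3674 [5] 0 [57,93,43,196]))))) (.node (.node (.node (.leaf (.up 6 2050 [18] 530 [55,42,165])) (.leaf (.up 6 2384 [51] 617 [57,110,44,179]))) (.node (.leaf (.up 6 860 [9] 0 [93,44,118])) (.leaf (.up 7 3183 [5] 0 [])))) (.node (.node (.leaf (.up 5 2552 [18] 530 [88,94,44])) (.leaf (.up 5 795 [51] 617 [87,89,211]))) (.leaf (.up 4 1144 [51] 617 [57,55,43,219]))))) (.node (.node (.node (.node (.leaf (.up 6 258 [5] 0 [])) (.leaf (.up 6 1924 [5] 0 []))) (.node (.leaf (.up 5 1485 [5] 0 [])) (.leaf (.up 5 1798 [10] 0 [87,56,123,122])))) (.node (.node (.leaf (.up 3 462 [18] 530 [88,90])) (.leaf (.up 5 2026 [51] 617 [57,94,44,242]))) (.node (.leaf (.up 7 1147 [51] 617 [93,104,163])) (.leaf (.up 6 1708 [9] 0 [88,56,155,195]))))) (.node (.node (.node (.leaf (.up 6 386 [10] 0 [57,55,104,207])) (.leaf (.up 5 2239 [18] 530 [57,94,44,217]))) (.node (.leaf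 (.up 5 2270 [51] 617 [88,94,155,13])) (.leaf (.up 5 2422 [51] 617 [88,56,89,132])))) (.node (.node (.leaf (.up 5 1231 [9] 0 [88,55,43,190])) (.leaf (.up 6 3170 [10] 0 [57,93,140,232]))) (.leaf (.up 6 28 [18] 530 [56,89,120]))))))) (.node (.node (.node (.node (.node (.node (.leaf (.up 5 1044 [51] 617 [88,110,155,173])) (.leaf (.up 6 407 [9] 0 [57,56,140,118]))) (.node (.leaf (.up 7 1480 [10] 0 [87,110,44,159])) (.leaf (.up 5 2080 [10] 0 [116,25])))) (.node (.node (.leaf (.up 5 1186 [9] 0 [87,110,140,165])) (.leaf (.up 6 2420 [51] 617 [88,93,90,16]))) (.node (.leaf (.up 4 222 [10] 0 [57,110,43,131])) (.leaf (.up 5 2239 [51] 617 [87,94,140,204]))))) (.node (.node (.node (.leaf (.up 5 1569 [51] 617 [110,123,22])) (.leaf (.up 4 927 [18] 530 [87,55,42,173]))) (.node (.leaf (.up 4 1602 [5] 0 [])) (.leaf (.up 6 1789 [9] 0 [88,94,43,29])))) (.node (.node (.leaf (.up 1 15 [9] 0 [94,43,184])) (.leaf (.up 5 2876 [18] 530 [124]))) (.leaf (.up 6 2127 [10]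 0 [110,123,246]))))) (.node (.node (.node (.node (.leaf (.up 5 857 [18] 530 [87,94,90,37])) (.leaf (.up 5 1231 [18] 530 [87,43,240]))) (.node (.leaf (.up 5 3069 [18] 530 [87,94,200])) (.leaf (.up 7 3146 [51] 617 [57,55,228])))) (.node (.node (.leaf (.up 6 265 [9] 0 [88,56,176,202])) (.leaf (.up 5 1323 [10] 0 [87,56,89,226]))) (.node (.leaf (.up 3 712 [9] 0 [93,123,228])) (.leaf (.up 5 3781 [5] 0 []))))) (.node (.node (.node (.leaf (.up 6 3230 [18] 530 [57,44,102])) (.leaf (.up 6 2814 [5] 0 []))) (.node (.leaf (.up 4 2913 [18] 530 [56,89,201])) (.leaf (.up 4 360 [9] 0 [88,110,155,139])))) (.node (.node (.leaf (.up 5 2474 [18] 530 [87,94,103,166])) (.leaf (.up 6 2657 [5] 0 []))) (.leaf (.up 5 1922 [5] 0 [60])))))) (.node (.node (.node (.node (.node (.leaf (.up 3 2260 [10] 0 [88,93,104,35])) (.leaf (.up 4 3351 [10] 0 [57,56,236]))) (.node (.leaf (.up 4 1373 [5] 0 [])) (.leaf (.up 5 212 [9] 0 [57,94,116,160])))) (.node (.node (.leaf (.up 6 3217 [10]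 0 [87,94,44,96])) (.leaf (.up 4 2326 [5] 0 []))) (.node (.leaf (.up 3 1071 [51] 617 [55,140,154])) (.leaf (.up 6 3326 [9] 0 [87,140,114]))))) (.node (.node (.node (.leaf (.up 5 3087 [10] 0 [57,55,123,15])) (.leaf (.up 6 43 [18] 530 [57,56,176,235]))) (.node (.leaf (.up 5 2944 [51] 617 [57,56,103,167])) (.leaf (.up 6 3583 [5] 0 [])))) (.node (.node (.leaf (.up 4 26 [51] 617 [56,155,146])) (.leaf (.up 5 1058 [18] 530 [87,56,176,33]))) (.leaf (.up 5 1622 [5] 0 [88,110,123,156]))))) (.node (.node (.node (.node (.leaf (.up 5 875 [18] 530 [57,110,90,92])) (.leaf (.up 5 2147 [51] 617 [87,110,140,72]))) (.node (.leaf (.up 5 1783 [18] 530 [57,94,155,174])) (.leaf (.up 6 970 [10] 0 [87,56,123,22])))) (.node (.node (.leaf (.up 6 1423 [51] 617 [57,55,89,4])) (.leaf (.up 5 1402 [51] 617 [110,104,246]))) (.leaf (.up 5 2770 [9] 0 [87,55,155,122])))) (.node (.node (.node (.leaf (.up 6 951 [51] 617 [57,155,212])) (.leaf (.up 5 271 [10] 0 [87,110,116,248]))) (.node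 (.leaf (.up 4 1547 [10] 0 [87,44,109])) (.leaf (.up 6 2177 [9] 0 [93,176,226])))) (.node (.node (.leaf (.up 3 822 [5] 0 [])) (.leaf (.up 5 2819 [51] 617 [89,226]))) (.leaf (.up 6 1719 [5] 0 [])))))))

noncomputable def trio1_11011 : Tr TStep :=
  .node (.node (.node (.node (.node (.node (.node (.leaf (.up 7 1022 [9] 0 [88,55,155,239])) (.leaf (.up 6 3481 [10] 0 [87,110,43,153]))) (.node (.leaf (.up 5 954 [9] 0 [88,55,116,192])) (.leaf (.up 6 3644 [10] 0 [88,10])))) (.node (.node (.leaf (.up 6 146 [18] 530 [57,104,111])) (.leaf (.up 6 1315 [51] 617 [94,140,193]))) (.node (.leaf (.up 6 1335 [5] 0 [57,55,155,35])) (.leaf (.up 6 1002 [9] 0 [93,176,238]))))) (.node (.node (.node (.leaf (.up 4 222 [5] 0 [])) (.leaf (.up 6 2001 [5] 0 []))) (.node (.leaf (.up 7 823 [51] 617 [57,104,15])) (.leaf (.up 4 3737 [18] 530 [57,93,123,74])))) (.node (.node (.leaf (.up 4 507 [51] 617 [87,110,99])) (.leaf (.up 4 1956 [10] 0 [93,104,242]))) (.leaf (.up 6 1527 [5]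 0 []))))) (.node (.node (.node (.node (.leaf (.up 4 123 [5] 0 [])) (.leaf (.up 4 629 [18] 530 [87,176,212]))) (.node (.leaf (.up 6 74 [10] 0 [57,163])) (.leaf (.up 4 1086 [18] 530 [88,110,140,192])))) (.node (.node (.leaf (.up 5 3317 [18] 530 [88,44,37])) (.leaf (.up 7 1340 [51] 617 [87,56,176,151]))) (.node (.leaf (.up 5 3355 [9] 0 [56,90,105])) (.leaf (.up 7 1653 [51] 617 [87,55,11]))))) (.node (.node (.node (.leaf (.up 5 2898 [10] 0 [87,103,106])) (.leaf (.up 4 2797 [5] 0 []))) (.node (.leaf (.up 5 481 [18] 530 [88,93,42,125])) (.leaf (.up 4 3584 [18] 530 [87,94,155,120])))) (.node (.node (.leaf (.up 6 1126 [5] 0 [])) (.leaf (.up 6 310 [9] 0 [57,56,91,10]))) (.leaf (.up 5 3705 [18] 530 [88,93,43,237])))))) (.node (.node (.node (.node (.node (.leaf (.up 6 72 [5] 0 [])) (.leaf (.up 5 1825 [5] 0 []))) (.node (.leaf (.up 6 2266 [51] 617 [88,55,91,97])) (.leaf (.up 5 2558 [51] 617 [57,110,42,205])))) (.node (.node (.leaf (.up 6 3490 [9] 0 [88,56,91,124]))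 (.leaf (.up 6 2979 [5] 0 []))) (.node (.leaf (.up 4 26 [10] 0 [87,56,155,225])) (.leaf (.up 5 3355 [10] 0 [57,110,176,202]))))) (.node (.node (.node (.leaf (.up 4 2600 [9] 0 [110,104,227])) (.leaf (.up 6 302 [9] 0 [87,42,169]))) (.node (.leaf (.up 5 30 [9] 0 [57,94,91,106])) (.leaf (.up 5 3540 [5] 0 [57,114])))) (.node (.node (.leaf (.up 4 1070 [18] 530 [87,55,44,114])) (.leaf (.up 6 965 [18] 530 [87,94,43,213]))) (.leaf (.up 6 726 [51] 617 [57,94,91,211]))))) (.node (.node (.node (.node (.leaf (.up 6 2320 [10] 0 [44,149])) (.leaf (.up 6 1334 [51] 617 [55,176,149]))) (.node (.leaf (.up 6 1299 [51] 617 [110,176,226])) (.leaf (.up 7 3162 [5] 0 [57,55,123,152])))) (.node (.node (.leaf (.up 5 1132 [18] 530 [94,91,92])) (.leaf (.up 6 1818 [51] 617 [57,42,204]))) (.leaf (.up 3 1744 [18] 530 [57,56,44,22])))) (.node (.node (.node (.leaf (.up 5 473 [18] 530 [87,94,91,143])) (.leaf (.up 5 2183 [5] 0 []))) (.node (.leaf (.up 5 3760 [10] 0 [88,55,89,243]))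 (.leaf (.up 5 3495 [5] 0 [57,94,104,215])))) (.node (.node (.leaf (.up 7 3622 [9] 0 [87,42,31])) (.leaf (.up 5 2720 [5] 0 []))) (.leaf (.up 2 989 [18] 530 [88,93,42,1]))))))) (.node (.node (.node (.node (.node (.node (.leaf (.up 6 1379 [9] 0 [57,55,104,23])) (.leaf (.up 5 765 [51] 617 [57,56,91,216]))) (.node (.leaf (.up 5 626 [18] 530 [57,110,90,170])) (.leaf (.up 7 3435 [51] 617 [87,55,42,96])))) (.node (.node (.leaf (.up 6 363 [18] 530 [87,110,104,122])) (.leaf (.up 3 1071 [18] 530 [88,56,0]))) (.node (.leaf (.up 5 1841 [5] 0 [57,56,155,196])) (.leaf (.up 6 1017 [10] 0 [87,55,104,168]))))) (.node (.node (.node (.leaf (.up 5 249 [5] 0 [])) (.leaf (.up 5 2031 [5] 0 []))) (.node (.leaf (.up 5 2143 [18] 530 [57,94,216])) (.leaf (.up 6 2844 [18] 530 [87,55,116,97])))) (.node (.node (.leaf (.up 6 1008 [5] 0 [])) (.leaf (.up 6 2038 [10] 0 [55,91,232]))) (.leaf (.up 3 2167 [5] 0 []))))) (.node (.node (.node (.node (.leaf (.up 6 147 [5] 0 [])) (.leaf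 (.up 3 822 [9] 0 [88,110,89,146]))) (.node (.leaf (.up 5 841 [10] 0 [88,93,155,245])) (.leaf (.up 3 588 [18] 530 [88,91,137])))) (.node (.node (.leaf (.up 5 562 [5] 0 [])) (.leaf (.up 5 2165 [18] 530 [57,89,61]))) (.node (.leaf (.up 6 713 [51] 617 [110,103,108])) (.leaf (.up 6 3728 [5] 0 []))))) (.node (.node (.node (.leaf (.up 6 2621 [10] 0 [57,55,91,132])) (.leaf (.up 5 3398 [9] 0 [57,110,103,21]))) (.node (.leaf (.up 4 437 [51] 617 [57,55,104,120])) (.leaf (.up 4 3635 [5] 0 [])))) (.node (.node (.leaf (.up 5 3029 [18] 530 [57,93,116,239])) (.leaf (.up 5 772 [18] 530 [87,94,140,35]))) (.leaf (.up 6 2795 [18] 530 [57,93,116,215])))))) (.node (.node (.node (.node (.node (.leaf (.up 3 631 [18] 530 [57,110,176,232])) (.leaf (.up 5 1257 [51] 617 [88,56,123,122]))) (.node (.leaf (.up 6 2999 [9] 0 [55,42,198])) (.leaf (.up 5 320 [18] 530 [88,110,1])))) (.node (.node (.leaf (.up 5 796 [9] 0 [87,110,91,182])) (.leaf (.up 4 437 [10] 0 [87,155,29])))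 (.node (.leaf (.up 4 852 [10] 0 [87,110,43,98])) (.leaf (.up 6 1083 [18] 530 [93,140,179]))))) (.node (.node (.node (.leaf (.up 6 2106 [51] 617 [56,90,132])) (.leaf (.up 6 2242 [9] 0 [56,42,151]))) (.node (.leaf (.up 5 1685 [5] 0 [])) (.leaf (.up 4 1489 [9] 0 [87,104,22])))) (.node (.node (.leaf (.up 5 2653 [18] 530 [87,94,182])) (.leaf (.up 5 3559 [18] 530 [87,93,90,99]))) (.leaf (.up 5 3214 [51] 617 [87,55,91,179]))))) (.node (.node (.node (.node (.leaf (.up 5 3280 [18] 530 [87,94,91,195])) (.leaf (.up 4 2636 [5] 0 []))) (.node (.leaf (.up 5 3758 [9] 0 [57,56,104,212])) (.leaf (.up 6 601 [10] 0 [57,94,89,2])))) (.node (.node (.leaf (.up 6 1861 [51] 617 [94,104,102])) (.leaf (.up 6 3110 [5] 0 []))) (.leaf (.up 6 1499 [5] 0 [])))) (.node (.node (.node (.leaf (.up 3 3661 [18] 530 [88,94,43,15])) (.leaf (.up 6 2827 [9] 0 [93,91,236]))) (.node (.leaf (.up 5 2143 [9] 0 [103,148])) (.leaf (.up 5 2522 [51] 617 [87,56,90,224])))) (.node (.node (.leaf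 (.up 6 1950 [51] 617 [123,95])) (.leaf (.up 5 772 [51] 617 [88,93,43,137]))) (.leaf (.up 5 1376 [51] 617 [110,176,154])))))))

noncomputable def trio1_1101 : Tr TStep := .node trio1_11010 trio1_11011

noncomputable def trio1_110 : Tr TStep := .node trio1_1100 trio1_1101

noncomputable def trio1_11100 : Tr TStep :=
  .node (.node (.node (.node (.node (.node (.node (.leaf (.root 3)) (.leaf (.up 5 2393 [5] 0 []))) (.node (.leaf (.up 4 844 [5] 0 [])) (.leaf (.up 5 3557 [51] 617 [88,55,196])))) (.node (.node (.leaf (.up 6 1128 [51] 617 [88,56,43,231])) (.leaf (.up 6 1527 [18] 530 [57,93,140]))) (.node (.leaf (.up 5 2040 [9] 0 [88,56,103,166])) (.leaf (.up 7 683 [18] 530 [57,110,90,212]))))) (.node (.node (.node (.leaf (.up 5 3021 [51] 617 [57,110,89,158])) (.leaf (.up 6 2969 [51] 617 [87,93,176,214]))) (.node (.leaf (.up 6 3286 [51] 617 [87,94,90,133])) (.leaf (.up 6 3513 [9] 0 [57,93,89,11])))) (.node (.node (.leaf (.up 5 2733 [18] 530 [57,90,222]))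 (.leaf (.up 6 2514 [18] 530 [88,110,91,203]))) (.leaf (.up 5 656 [51] 617 [87,56,42,74]))))) (.node (.node (.node (.node (.leaf (.up 4 294 [51] 617 [93,103,65])) (.leaf (.up 4 2305 [10] 0 [57,55,116,23]))) (.node (.leaf (.up 5 1757 [51] 617 [87,93,104,238])) (.leaf (.up 7 2048 [10] 0 [57,110,43,184])))) (.node (.node (.leaf (.up 5 1918 [51] 617 [88,55,43,197])) (.leaf (.up 6 2548 [10] 0 [57,93,42,114]))) (.node (.leaf (.up 4 852 [51] 617 [87,93,123,151])) (.leaf (.up 4 3737 [51] 617 [88,155,208]))))) (.node (.node (.node (.leaf (.up 5 2578 [51] 617 [88,55,176,167])) (.leaf (.up 6 2862 [51] 617 [88,93,89,11]))) (.node (.leaf (.up 6 1166 [5] 0 [])) (.leaf (.up 5 3748 [18] 530 [88,104,127])))) (.node (.node (.leaf (.up 3 631 [51] 617 [87,110,123,215])) (.leaf (.up 6 3229 [5] 0 []))) (.leaf (.up 5 1024 [51] 617 [88,55,42,100])))))) (.node (.node (.node (.node (.node (.leaf (.up 3 2617 [18] 530 [88,55,104,95])) (.leaf (.up 6 2043 [51] 617 [88,94,140,248])))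 (.node (.leaf (.up 6 2106 [18] 530 [88,110,89,158])) (.leaf (.up 5 2040 [10] 0 [88,110,91,188])))) (.node (.node (.leaf (.up 6 1368 [51] 617 [57,93,116,15])) (.leaf (.up 5 289 [51] 617 [87,94,140,165]))) (.node (.leaf (.up 5 177 [51] 617 [57,44,143])) (.leaf (.up 4 2341 [10] 0 [56,89,113]))))) (.node (.node (.node (.leaf (.up 6 585 [18] 530 [57,43,4])) (.leaf (.up 6 937 [9] 0 [57,91,240]))) (.node (.leaf (.up 5 1114 [5] 0 [])) (.leaf (.up 5 1911 [51] 617 [123,115])))) (.node (.node (.leaf (.up 5 1601 [18] 530 [88,90])) (.leaf (.up 4 2553 [5] 0 []))) (.leaf (.up 5 244 [9] 0 [88,110,91,246]))))) (.node (.node (.node (.node (.leaf (.up 6 831 [51] 617 [57,110,43,238])) (.leaf (.up 5 3033 [51] 617 [57,244]))) (.node (.leaf (.up 5 1098 [10] 0 [88,103,7])) (.leaf (.up 4 441 [51] 617 [88,55,116,219])))) (.node (.node (.leaf (.up 5 1659 [18] 530 [57,56,43,208])) (.leaf (.up 6 3066 [5] 0 []))) (.node (.leaf (.up 5 17 [9] 0 [88,55,104,211])) (.leaf (.up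 4 2553 [18] 530 [88,93,103,25]))))) (.node (.node (.node (.leaf (.up 6 2991 [10] 0 [88,43,177])) (.leaf (.up 5 3662 [51] 617 [87,56,155,1]))) (.node (.leaf (.up 4 3338 [51] 617 [57,56,44,111])) (.leaf (.up 5 2210 [51] 617 [56,104,132])))) (.node (.node (.leaf (.up 6 789 [5] 0 [])) (.leaf (.up 6 1351 [10] 0 [55,44,236]))) (.leaf (.up 6 2322 [5] 0 []))))))) (.node (.node (.node (.node (.node (.node (.leaf (.up 5 48 [5] 0 [])) (.leaf (.up 3 822 [18] 530 [88,93,43,206]))) (.node (.leaf (.up 3 281 [9] 0 [87,104,6])) (.leaf (.up 4 3351 [5] 0 [])))) (.node (.node (.leaf (.up 6 2665 [18] 530 [87,89,157])) (.leaf (.up 6 124 [18] 530 [87,91,106]))) (.node (.leaf (.up 6 1874 [5] 0 [])) (.leaf (.up 4 359 [18] 530 [57,93,42,108]))))) (.node (.node (.node (.leaf (.up 5 231 [5] 0 [])) (.leaf (.up 5 3588 [10] 0 [87,56,116,172]))) (.node (.leaf (.up 5 48 [51] 617 [87,94,89,60])) (.leaf (.up 5 1898 [9] 0 [93,90,61])))) (.node (.node (.leaf (.up 2 20 [10] 0 [88,110,123,120]))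 (.leaf (.up 5 2879 [9] 0 [88,110,90,239]))) (.leaf (.up 5 2147 [5] 0 []))))) (.node (.node (.node (.node (.leaf (.up 5 911 [18] 530 [88,55,176,131])) (.leaf (.up 5 2558 [5] 0 []))) (.node (.leaf (.up 5 1404 [51] 617 [87,93,43,165])) (.leaf (.up 4 3118 [18] 530 [55,103,193])))) (.node (.node (.leaf (.up 6 3220 [18] 530 [56,43,223])) (.leaf (.up 6 310 [51] 617 [110,103,6]))) (.node (.leaf (.up 5 3375 [51] 617 [93,222])) (.leaf (.up 5 1867 [18] 530 [110,44,180]))))) (.node (.node (.node (.leaf (.up 6 3305 [10] 0 [87,56,205])) (.leaf (.up 6 1672 [18] 530 [57,44,224]))) (.node (.leaf (.up 5 3272 [51] 617 [87,93,154])) (.leaf (.up 4 1136 [18] 530 [87,140,247])))) (.node (.node (.leaf (.up 5 1160 [18] 530 [88,110,139])) (.leaf (.up 6 2654 [5] 0 []))) (.leaf (.up 6 1753 [10] 0 [88,93,140,247])))))) (.node (.node (.node (.node (.node (.leaf (.up 6 3514 [18] 530 [88,94,116,205])) (.leaf (.up 6 2487 [5] 0 []))) (.node (.leaf (.up 6 1368 [5] 0 [])) (.leaf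 (.up 5 2879 [5] 0 [])))) (.node (.node (.leaf (.up 5 1515 [18] 530 [88,110,116,113])) (.leaf (.up 4 2992 [5] 0 []))) (.node (.leaf (.up 5 2143 [51] 617 [56,140,185])) (.leaf (.up 7 3752 [5] 0 []))))) (.node (.node (.node (.leaf (.up 3 2199 [10] 0 [110,42,27])) (.leaf (.up 5 3697 [10] 0 [110,44,225]))) (.node (.leaf (.up 4 3584 [9] 0 [87,94,90,225])) (.leaf (.up 6 3238 [9] 0 [88,55,43,132])))) (.node (.node (.leaf (.up 5 2802 [51] 617 [88,42,192])) (.leaf (.up 6 2835 [18] 530 [87,94,116,25]))) (.leaf (.up 5 1725 [18] 530 [88,110,1]))))) (.node (.node (.node (.node (.leaf (.up 4 192 [51] 617 [87,55,44,125])) (.leaf (.up 6 1328 [9] 0 [87,93,147]))) (.node (.leaf (.up 5 2104 [10] 0 [88,93,90,3])) (.leaf (.up 6 1606 [51] 617 [57,56,44,13])))) (.node (.node (.leaf (.up 5 2734 [9] 0 [87,44,168])) (.leaf (.up 6 1074 [9] 0 [88,55,116,27]))) (.leaf (.up 6 1219 [10] 0 [93,182])))) (.node (.node (.node (.leaf (.up 5 3495 [10] 0 [57,94,104,142])) (.leaf (.up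 6 2731 [9] 0 [88,56,176,37]))) (.node (.leaf (.up 6 1799 [5] 0 [])) (.leaf (.up 4 1791 [9] 0 [56,155,222])))) (.node (.node (.leaf (.up 4 185 [9] 0 [88,93,155,74])) (.leaf (.up 6 1267 [9] 0 [88,103,196]))) (.leaf (.up 6 907 [18] 530 [88,93,91,135])))))))

noncomputable def trio1_11101 : Tr TStep :=
  .node (.node (.node (.node (.node (.node (.node (.leaf (.up 2 811 [51] 617 [87,94,155,203])) (.leaf (.up 6 3234 [51] 617 [94,103,16]))) (.node (.leaf (.up 6 1271 [5] 0 [])) (.leaf (.up 4 1956 [18] 530 [94,172])))) (.node (.node (.leaf (.up 5 946 [51] 617 [140,212])) (.leaf (.up 6 3567 [9] 0 [57,42,73]))) (.node (.leaf (.up 7 1284 [5] 0 [])) (.leaf (.up 4 1237 [10] 0 [87,90,240]))))) (.node (.node (.node (.leaf (.up 6 1164 [9] 0 [56,91,219])) (.leaf (.up 5 2802 [18] 530 [33]))) (.node (.leaf (.up 5 1075 [5] 0 [])) (.leaf (.up 3 2199 [18] 530 [91,232])))) (.node (.node (.leaf (.up 4 1879 [10] 0 [88,94,116,193])) (.leaf (.up 6 3531 [51] 617 [57,56,89,190])))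 (.leaf (.up 6 2378 [9] 0 [88,56,43,1]))))) (.node (.node (.node (.node (.leaf (.up 4 799 [10] 0 [57,94,91,25])) (.leaf (.up 2 989 [9] 0 [55,104,149]))) (.node (.leaf (.up 5 3315 [18] 530 [88,56,187])) (.leaf (.up 6 713 [10] 0 [57,94,103])))) (.node (.node (.leaf (.up 3 3464 [10] 0 [88,110,104,243])) (.leaf (.up 6 2172 [10] 0 [88,55,103,234]))) (.node (.leaf (.up 6 792 [9] 0 [94,90,217])) (.leaf (.up 6 1700 [51] 617 [56,103,65]))))) (.node (.node (.node (.leaf (.up 5 910 [51] 617 [55,158])) (.leaf (.up 1 4 [18] 530 [57,43,235]))) (.node (.leaf (.up 6 2228 [51] 617 [87,110,103,74])) (.leaf (.up 5 3285 [5] 0 [])))) (.node (.node (.leaf (.up 6 1848 [10] 0 [57,93,42,161])) (.leaf (.up 5 1467 [51] 617 [57,93,155,131]))) (.leaf (.up 6 1782 [18] 530 [88,55,90,37])))))) (.node (.node (.node (.node (.node (.leaf (.up 6 599 [9] 0 [88,165])) (.leaf (.up 6 3794 [9] 0 [57,56,103,241]))) (.node (.leaf (.up 5 2887 [10] 0 [57,94,43,192])) (.leaf (.up 5 2268 [10]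 0 [87,94,104,73])))) (.node (.node (.leaf (.up 5 2308 [51] 617 [57,55,176,0])) (.leaf (.up 3 145 [9] 0 [57,55,123,186]))) (.node (.leaf (.up 6 391 [18] 530 [57,55,123,223])) (.leaf (.up 6 1195 [18] 530 [87,56,116,214]))))) (.node (.node (.node (.leaf (.up 6 838 [9] 0 [87,56,116,219])) (.leaf (.up 5 2733 [5] 0 []))) (.node (.leaf (.up 6 899 [9] 0 [88,55,69])) (.leaf (.up 4 1762 [9] 0 [88,56,42,111])))) (.node (.node (.leaf (.up 5 1045 [5] 0 [])) (.leaf (.up 5 2203 [9] 0 [57,43,11]))) (.leaf (.up 3 2199 [5] 0 []))))) (.node (.node (.node (.node (.leaf (.up 6 1651 [10] 0 [57,110,42,75])) (.leaf (.up 5 2026 [9] 0 [87,93,20]))) (.node (.leaf (.up 5 1446 [18] 530 [87,56,116,246])) (.leaf (.up 5 181 [51] 617 [88,55,0])))) (.node (.node (.leaf (.up 5 2787 [9] 0 [88,56,140,228])) (.leaf (.up 6 454 [51] 617 [87,110,103,143]))) (.leaf (.up 4 1728 [51] 617 [57,94,91,115])))) (.node (.node (.node (.leaf (.up 5 1954 [18] 530 [87,93,91,122])) (.leaf (.up 6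 2178 [5] 0 []))) (.node (.leaf (.up 6 1667 [51] 617 [87,93,42,99])) (.leaf (.up 4 3441 [5] 0 [57,93,176,59])))) (.node (.node (.leaf (.up 4 1199 [5] 0 [])) (.leaf (.up 5 1601 [9] 0 [88,94,43,27]))) (.leaf (.up 5 2512 [10] 0 [87,55,140,244]))))))) (.node (.node (.node (.node (.node (.node (.leaf (.up 5 808 [51] 617 [57,93,104,239])) (.leaf (.up 6 3320 [18] 530 [94,123,126]))) (.node (.leaf (.up 5 1041 [51] 617 [57,93,42,0])) (.leaf (.up 6 2891 [5] 0 [110,89,186])))) (.node (.node (.leaf (.up 6 453 [5] 0 [])) (.leaf (.up 5 495 [9] 0 [88,90,166]))) (.node (.leaf (.up 5 2571 [18] 530 [55,176,106])) (.leaf (.up 5 2601 [51] 617 [87,44,244]))))) (.node (.node (.node (.leaf (.up 2 3094 [9] 0 [88,110,216])) (.leaf (.up 6 1303 [9] 0 [57,94,90,59]))) (.node (.leaf (.up 5 2459 [9] 0 [87,110,42,235])) (.leaf (.up 5 3333 [5] 0 [57,44,195])))) (.node (.node (.leaf (.up 6 57 [18] 530 [56,104,108])) (.leaf (.up 4 2992 [10] 0 [87,123,142]))) (.leaf (.up 6 1556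 [51] 617 [88,55,103,118]))))) (.node (.node (.node (.node (.leaf (.up 6 900 [10] 0 [87,94,116,180])) (.leaf (.up 5 2214 [9] 0 [87,56,140,213]))) (.node (.leaf (.up 5 96 [51] 617 [57,56,155,106])) (.leaf (.up 4 2981 [5] 0 [])))) (.node (.node (.leaf (.up 5 2015 [10] 0 [57,110,176,125])) (.leaf (.up 5 2134 [18] 530 [87,155,186]))) (.node (.leaf (.up 5 1858 [18] 530 [57,55,140,135])) (.leaf (.up 6 1209 [18] 530 [88,93,43,165]))))) (.node (.node (.node (.leaf (.up 5 274 [51] 617 [87,93,43,23])) (.leaf (.up 5 3742 [51] 617 [87,94,43,245]))) (.node (.leaf (.up 6 1227 [51] 617 [94,116,76])) (.leaf (.up 6 3631 [5] 0 [])))) (.node (.node (.leaf (.up 5 2262 [9] 0 [88,93,42,36])) (.leaf (.up 5 3466 [18] 530 [57,110,104,222]))) (.leaf (.up 3 3213 [9] 0 [87,94,89,138])))))) (.node (.node (.node (.node (.node (.leaf (.up 6 94 [5] 0 [])) (.leaf (.up 2 3094 [10] 0 [88,56,104,241]))) (.node (.leaf (.up 4 715 [18] 530 [87,110,123,2])) (.leaf (.up 5 3030 [5] 0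 [87,55,140,199])))) (.node (.node (.leaf (.up 2 508 [5] 0 [])) (.leaf (.up 5 3407 [51] 617 [57,110,104,222]))) (.node (.leaf (.up 5 1376 [5] 0 [])) (.leaf (.up 5 2085 [9] 0 [94,176,4]))))) (.node (.node (.node (.leaf (.up 5 2184 [9] 0 [57,110,241])) (.leaf (.up 6 2763 [5] 0 []))) (.node (.leaf (.up 3 1152 [5] 0 [])) (.leaf (.up 6 2125 [10] 0 [87,176,144])))) (.node (.node (.leaf (.up 6 1416 [10] 0 [57,110,116,101])) (.leaf (.up 6 2665 [9] 0 [90,138]))) (.leaf (.up 4 1524 [51] 617 [57,89,76]))))) (.node (.node (.node (.node (.leaf (.up 5 2788 [9] 0 [116,18])) (.leaf (.up 5 1986 [9] 0 [57,55,90,107]))) (.node (.leaf (.up 5 2986 [10] 0 [56,176,183])) (.leaf (.up 5 3746 [10] 0 [88,56,140,230])))) (.node (.node (.leaf (.up 5 3133 [18] 530 [87,110,43,23])) (.leaf (.up 5 2002 [10] 0 [57,56,89,6]))) (.leaf (.up 4 294 [18] 530 [55,103,157])))) (.node (.node (.node (.leaf (.up 6 2277 [9] 0 [88,104,97])) (.leaf (.up 6 516 [18] 530 [87,116,4]))) (.node (.leaf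 (.up 5 3662 [9] 0 [88,94,123,156])) (.leaf (.up 6 605 [10] 0 [88,55,103,109])))) (.node (.node (.leaf (.up 6 1532 [10] 0 [87,93,176,122])) (.leaf (.up 5 370 [9] 0 [87,110,116,113]))) (.leaf (.up 5 2202 [18] 530 [87,56,90,170])))))))

noncomputable def trio1_1110 : Tr TStep := .node trio1_11100 trio1_11101

noncomputable def trio1_11110 : Tr TStep :=
  .node (.node (.node (.node (.node (.node (.node (.leaf (.root 4)) (.leaf (.up 7 2400 [5] 0 []))) (.node (.leaf (.up 6 2928 [18] 530 [87,56,176,163])) (.leaf (.up 4 2782 [5] 0 [])))) (.node (.node (.leaf (.up 2 10 [51] 617 [93,155,96])) (.leaf (.up 4 2235 [5] 0 []))) (.node (.leaf (.up 5 1750 [51] 617 [110,140,122])) (.leaf (.up 6 3463 [5] 0 []))))) (.node (.node (.node (.leaf (.up 4 107 [51] 617 [88,93,89,130])) (.leaf (.up 5 3104 [51] 617 [56,89,146]))) (.node (.leaf (.up 6 1572 [5] 0 [])) (.leaf (.up 5 1471 [51] 617 [87,94,140,196])))) (.node (.node (.leaf (.up 4 995 [51] 617 [93,117])) (.leaf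 (.up 6 1334 [9] 0 [93,155,147]))) (.leaf (.up 3 2121 [5] 0 []))))) (.node (.node (.node (.node (.leaf (.up 5 338 [18] 530 [88,43,65])) (.leaf (.up 5 3552 [9] 0 [87,93,123,175]))) (.node (.leaf (.up 4 3351 [9] 0 [87,94,43,60])) (.leaf (.up 5 1690 [51] 617 [88,55,176,8])))) (.node (.node (.leaf (.up 3 23 [51] 617 [88,55,176,164])) (.leaf (.up 4 2524 [18] 530 [88,56,90,206]))) (.node (.leaf (.up 6 1397 [5] 0 [])) (.leaf (.up 6 3770 [5] 0 []))))) (.node (.node (.node (.leaf (.up 2 476 [18] 530 [44,8])) (.leaf (.up 6 3166 [10] 0 [87,110,90]))) (.node (.leaf (.up 5 1172 [5] 0 [])) (.leaf (.up 6 2634 [51] 617 [94,116,226])))) (.node (.node (.leaf (.up 4 1112 [5] 0 [])) (.leaf (.up 5 3239 [51] 617 [57,107]))) (.leaf (.up 5 1632 [5] 0 [])))))) (.node (.node (.node (.node (.node (.leaf (.up 6 3157 [9] 0 [110,43,159])) (.leaf (.up 5 2164 [18] 530 [94,129]))) (.node (.leaf (.up 5 2958 [51] 617 [93,128])) (.leaf (.up 5 1898 [18] 530 [57,56,90,134])))) (.node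 (.node (.leaf (.up 6 472 [5] 0 [])) (.leaf (.up 6 3602 [51] 617 [88,43,144]))) (.node (.leaf (.up 4 2479 [18] 530 [87,55,103,4])) (.leaf (.up 5 3658 [9] 0 [57,94,44,149]))))) (.node (.node (.node (.leaf (.up 4 997 [18] 530 [93,44,117])) (.leaf (.up 5 2720 [18] 530 [88,55,90,203]))) (.node (.leaf (.up 3 2669 [10] 0 [55,44,169])) (.leaf (.up 4 3354 [5] 0 [57,94,176,245])))) (.node (.node (.leaf (.up 4 1586 [18] 530 [103,141])) (.leaf (.up 5 652 [51] 617 [57,103,107]))) (.leaf (.up 6 1664 [10] 0 [55,155,221]))))) (.node (.node (.node (.node (.leaf (.up 6 1145 [51] 617 [87,94,43,101])) (.leaf (.up 5 1730 [10] 0 [57,123,168]))) (.node (.leaf (.up 4 1888 [10] 0 [57,110,42,25])) (.leaf (.up 6 1229 [51] 617 [88,56,44,223])))) (.node (.node (.leaf (.up 4 1755 [18] 530 [88,91,219])) (.leaf (.up 6 2751 [10] 0 [87,56,176,106]))) (.node (.leaf (.up 6 2657 [18] 530 [87,94,91,188])) (.leaf (.up 5 1685 [9] 0 [87,176,184]))))) (.node (.node (.node (.leaf (.up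 5 1986 [18] 530 [88,93,43,246])) (.leaf (.up 6 2051 [51] 617 [57,94,90,77]))) (.node (.leaf (.up 4 1773 [5] 0 [])) (.leaf (.up 4 2992 [9] 0 [57,110,155,60])))) (.node (.node (.leaf (.up 5 795 [5] 0 [])) (.leaf (.up 6 1651 [51] 617 [57,55,104,141]))) (.leaf (.up 6 1969 [5] 0 [57,123,180]))))))) (.node (.node (.node (.node (.node (.node (.leaf (.up 6 2657 [9] 0 [57,90,135])) (.leaf (.up 6 1782 [5] 0 []))) (.node (.leaf (.up 2 1108 [10] 0 [93,44,133])) (.leaf (.up 5 3358 [5] 0 [])))) (.node (.node (.leaf (.up 5 2244 [10] 0 [88,93,116,120])) (.leaf (.up 5 2469 [10] 0 [93,104,246]))) (.node (.leaf (.up 5 847 [18] 530 [88,55,154])) (.leaf (.up 5 3333 [51] 617 [93,42,37]))))) (.node (.node (.node (.leaf (.up 5 1825 [9] 0 [110,91,36])) (.leaf (.up 6 2679 [9] 0 [110,103,99]))) (.node (.leaf (.up 6 1478 [10] 0 [87,56,191])) (.leaf (.up 4 3037 [10] 0 [88,94,44,223])))) (.node (.node (.leaf (.up 3 651 [51] 617 [87,55,176,129])) (.leaf (.up 5 2124 [9] 0 [88,93,89,145])))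 (.leaf (.up 5 2808 [10] 0 [57,56,176,125]))))) (.node (.node (.node (.node (.leaf (.up 6 1262 [18] 530 [110,176])) (.leaf (.up 6 2897 [9] 0 [87,94,89,189]))) (.node (.leaf (.up 3 527 [10] 0 [110,42,226])) (.leaf (.up 5 2157 [51] 617 [88,140,191])))) (.node (.node (.leaf (.up 5 2208 [51] 617 [57,55,104,107])) (.leaf (.up 3 3409 [18] 530 [88,43,202]))) (.node (.leaf (.up 5 2020 [5] 0 [])) (.leaf (.up 7 2146 [18] 530 [56,90,164]))))) (.node (.node (.node (.leaf (.up 5 48 [9] 0 [87,55,44,231])) (.leaf (.up 3 2280 [18] 530 [93,123,177]))) (.node (.leaf (.up 5 2896 [51] 617 [88,94,43,240])) (.leaf (.up 6 2698 [18] 530 [56,91,75])))) (.node (.node (.leaf (.up 7 3620 [10] 0 [87,55,44,118])) (.leaf (.up 5 2152 [51] 617 [87,93,182]))) (.leaf (.up 4 2297 [5] 0 [])))))) (.node (.node (.node (.node (.node (.leaf (.up 4 2735 [10] 0 [57,56,176,223])) (.leaf (.up 5 1514 [51] 617 [87,55,90,202]))) (.node (.leaf (.up 5 2898 [18] 530 [55,91,224])) (.leaf (.up 6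 871 [51] 617 [55,43,202])))) (.node (.node (.leaf (.up 5 774 [5] 0 [])) (.leaf (.up 5 3655 [9] 0 [57,93,103,37]))) (.node (.leaf (.up 6 449 [9] 0 [57,56,89,231])) (.leaf (.up 3 966 [51] 617 [87,93,90,174]))))) (.node (.node (.node (.leaf (.up 5 3417 [10] 0 [110,140,144])) (.leaf (.up 6 874 [18] 530 [57,56,91,71]))) (.node (.leaf (.up 5 1671 [5] 0 [])) (.leaf (.up 5 752 [18] 530 [87,93,176,165])))) (.node (.node (.leaf (.up 6 3585 [9] 0 [87,94,89,182])) (.leaf (.up 6 2094 [51] 617 [88,93,216]))) (.leaf (.up 5 1601 [5] 0 []))))) (.node (.node (.node (.node (.leaf (.up 6 186 [5] 0 [])) (.leaf (.up 5 1974 [51] 617 [57,116,76]))) (.node (.leaf (.up 5 3616 [10] 0 [57,93,116,207])) (.leaf (.up 5 3415 [5] 0 [88,56,145])))) (.node (.node (.leaf (.up 5 2169 [51] 617 [57,110,140,171])) (.leaf (.up 6 3120 [10] 0 [87,55,155,6]))) (.leaf (.up 2 2635 [51] 617 [57,94,116,194])))) (.node (.node (.node (.leaf (.up 4 2797 [18] 530 [57,43,187])) (.leaf (.up 6 210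 [51] 617 [88,55,161]))) (.node (.leaf (.up 6 2969 [9] 0 [94,104,145])) (.leaf (.up 5 1249 [51] 617 [57,55,123,240])))) (.node (.node (.leaf (.up 6 2222 [9] 0 [57,55,103,158])) (.leaf (.up 6 1157 [18] 530 [57,93,89,214]))) (.leaf (.up 4 637 [51] 617 [94,103,156])))))))

noncomputable def trio1_11111 : Tr TStep :=
  .node (.node (.node (.node (.node (.node (.node (.leaf (.up 6 3481 [9] 0 [87,55,176,13])) (.leaf (.up 6 1499 [18] 530 [57,56,44,175]))) (.node (.leaf (.up 4 1086 [51] 617 [57,110,155,219])) (.leaf (.up 6 1809 [10] 0 [88,140,178])))) (.node (.node (.leaf (.up 6 2934 [51] 617 [87,55,155,71])) (.leaf (.up 6 2731 [5] 0 [87,93,123,157]))) (.node (.leaf (.up 6 1018 [10] 0 [94,6])) (.leaf (.up 4 2970 [51] 617 [94,155,35]))))) (.node (.node (.node (.leaf (.up 6 363 [5] 0 [])) (.leaf (.up 6 449 [51] 617 [88,94,91,36]))) (.node (.leaf (.up 6 2549 [10] 0 [57,89,100])) (.leaf (.up 5 3528 [18] 530 [87,94,43,169])))) (.node (.node (.leaf (.up 3 3160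 [51] 617 [88,42,120])) (.leaf (.up 4 2735 [9] 0 [87,56,176,77]))) (.leaf (.up 4 844 [18] 530 [56,140,27]))))) (.node (.node (.node (.node (.leaf (.up 7 2449 [51] 617 [88,93,42,165])) (.leaf (.up 6 785 [51] 617 [87,140,129]))) (.node (.leaf (.up 5 1850 [18] 530 [88,176,36])) (.leaf (.up 6 3617 [51] 617 [103,212])))) (.node (.node (.leaf (.up 6 836 [5] 0 [])) (.leaf (.up 6 383 [9] 0 [57,226]))) (.node (.leaf (.up 4 1412 [5] 0 [])) (.leaf (.up 7 457 [51] 617 [56,43,221]))))) (.node (.node (.node (.leaf (.up 7 2502 [9] 0 [88,116,186])) (.leaf (.up 5 2802 [5] 0 []))) (.node (.leaf (.up 6 3110 [18] 530 [87,94,104,111])) (.leaf (.up 6 3326 [51] 617 [88,110,176,191])))) (.node (.node (.leaf (.up 3 822 [10] 0 [87,93,42,132])) (.leaf (.up 5 3249 [5] 0 []))) (.leaf (.up 5 2667 [18] 530 [88,93,43,137])))))) (.node (.node (.node (.node (.node (.leaf (.up 5 570 [10] 0 [87,55,90,25])) (.leaf (.up 4 3347 [51] 617 [57,94,103,109]))) (.node (.leaf (.up 4 1869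 [9] 0 [87,89,98])) (.leaf (.up 3 942 [10] 0 [56,176,27])))) (.node (.node (.leaf (.up 5 2152 [9] 0 [57,55,89,132])) (.leaf (.up 6 1135 [10] 0 [110,42,219]))) (.node (.leaf (.up 5 1020 [9] 0 [123,31])) (.leaf (.up 6 837 [10] 0 [88,110,89,207]))))) (.node (.node (.node (.leaf (.up 5 3451 [18] 530 [93,123,128])) (.leaf (.up 6 2731 [18] 530 [87,56,104,11]))) (.node (.leaf (.up 5 493 [10] 0 [87,116,7])) (.leaf (.up 6 3208 [5] 0 [])))) (.node (.node (.leaf (.up 6 386 [51] 617 [87,55,91,106])) (.leaf (.up 6 3163 [51] 617 [88,56,104,109]))) (.leaf (.up 6 3245 [18] 530 [87,55,116,246]))))) (.node (.node (.node (.node (.leaf (.up 2 1555 [18] 530 [55,140,36])) (.leaf (.up 5 3075 [18] 530 [87,94,176,219]))) (.node (.leaf (.up 5 1823 [51] 617 [57,110,103,65])) (.leaf (.up 5 3138 [10] 0 [87,56,140,159])))) (.node (.node (.leaf (.up 2 590 [5] 0 [])) (.leaf (.up 4 3710 [9] 0 [87,89,10]))) (.leaf (.up 5 3375 [18] 530 [88,42,246])))) (.node (.node (.node (.leaf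 (.up 6 2517 [51] 617 [87,55,103,3])) (.leaf (.up 6 3610 [9] 0 [56,104,150]))) (.node (.leaf (.up 6 2343 [18] 530 [56,207])) (.leaf (.up 5 3398 [5] 0 [])))) (.node (.node (.leaf (.up 2 1108 [18] 530 [88,110,140,202])) (.leaf (.up 5 2306 [51] 617 [88,90,149]))) (.leaf (.up 4 1707 [5] 0 []))))))) (.node (.node (.node (.node (.node (.node (.leaf (.up 5 3535 [10] 0 [87,93,116,163])) (.leaf (.up 3 3129 [10] 0 [88,110,90,193]))) (.node (.leaf (.up 6 3602 [10] 0 [57,56,42,102])) (.leaf (.up 5 2650 [18] 530 [88,94,8])))) (.node (.node (.leaf (.up 5 1088 [18] 530 [93,123,130])) (.leaf (.up 5 2882 [5] 0 [87,55,42,233]))) (.node (.leaf (.up 5 1867 [9] 0 [57,123,105])) (.leaf (.up 6 63 [9] 0 [57,110,104,245]))))) (.node (.node (.node (.leaf (.up 5 3495 [18] 530 [87,93,116,6])) (.leaf (.up 6 2008 [51] 617 [87,89,150]))) (.node (.leaf (.up 6 541 [9] 0 [87,55,43,69])) (.leaf (.up 4 2479 [9] 0 [87,93,42,121])))) (.node (.node (.leaf (.up 5 2578 [10] 0 [87,55,140,124]))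 (.leaf (.up 4 3649 [51] 617 [57,110,42,120]))) (.leaf (.up 6 1101 [9] 0 [89,6]))))) (.node (.node (.node (.node (.leaf (.up 6 611 [18] 530 [87,93,123,129])) (.leaf (.up 4 1773 [18] 530 [87,56,153]))) (.node (.leaf (.up 5 932 [9] 0 [93,44,23])) (.leaf (.up 5 3466 [5] 0 [])))) (.node (.node (.leaf (.up 5 565 [5] 0 [])) (.leaf (.up 5 3760 [51] 617 [88,94,155,139]))) (.node (.leaf (.up 6 368 [51] 617 [88,93,103,168])) (.leaf (.up 6 2283 [51] 617 [56,140,65]))))) (.node (.node (.node (.leaf (.up 5 1080 [9] 0 [57,110,42,159])) (.leaf (.up 5 493 [18] 530 [55,123,128]))) (.node (.leaf (.up 4 2931 [18] 530 [88,56,42,72])) (.leaf (.up 5 3312 [10] 0 [57,94,155,163])))) (.node (.node (.leaf (.up 6 729 [18] 530 [88,56,104,203])) (.leaf (.up 4 499 [10] 0 [57,116]))) (.leaf (.up 5 2315 [5] 0 [])))))) (.node (.node (.node (.node (.node (.leaf (.up 6 1357 [10] 0 [87,93,104,171])) (.leaf (.up 5 1858 [5] 0 []))) (.node (.leaf (.up 4 1237 [9] 0 [93,104,186])) (.leaf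 (.up 5 2469 [9] 0 [57,55,43,248])))) (.node (.node (.leaf (.up 5 796 [5] 0 [])) (.leaf (.up 6 1919 [18] 530 [88,55,104,183]))) (.node (.leaf (.up 5 1383 [5] 0 [])) (.leaf (.up 4 3736 [5] 0 [55,42,180]))))) (.node (.node (.node (.leaf (.up 5 557 [51] 617 [87,44,178])) (.leaf (.up 5 2770 [5] 0 []))) (.node (.leaf (.up 4 1689 [5] 0 [])) (.leaf (.up 6 1235 [18] 530 [88,55,155,60])))) (.node (.node (.leaf (.up 6 713 [9] 0 [93,91,183])) (.leaf (.up 2 2 [10] 0 [155,143]))) (.leaf (.up 5 2618 [51] 617 [87,140,69]))))) (.node (.node (.node (.node (.leaf (.up 6 838 [10] 0 [57,110,42,191])) (.leaf (.up 4 1377 [51] 617 [87,55,140,178]))) (.node (.leaf (.up 5 1544 [9] 0 [93,89,239])) (.leaf (.up 5 2181 [51] 617 [87,93,90,190])))) (.node (.node (.leaf (.up 6 237 [51] 617 [57,89,221])) (.leaf (.up 6 43 [9] 0 [176,134]))) (.leaf (.up 3 3283 [18] 530 [87,93,176,183])))) (.node (.node (.node (.leaf (.up 5 1544 [10] 0 [87,110,104,189])) (.leaf (.up 6 2133 [10]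 0 [93,44,132]))) (.node (.leaf (.up 5 3393 [10] 0 [88,155,150])) (.leaf (.up 5 565 [10] 0 [93,90,46])))) (.node (.node (.leaf (.up 6 838 [5] 0 [])) (.leaf (.up 5 3607 [18] 530 [94,104,76]))) (.leaf (.up 6 2043 [18] 530 [88,93,176,151])))))))

noncomputable def trio1_1111 : Tr TStep := .node trio1_11110 trio1_11111

noncomputable def trio1_111 : Tr TStep := .node trio1_1110 trio1_1111

noncomputable def trio1_11 : Tr TStep := .node trio1_110 trio1_111

noncomputable def trio1_1 : Tr TStep := .node trio1_10 trio1_11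

noncomputable def trio1_ : Tr TStep := .node trio1_0 trio1_1

noncomputable def vt1_0_0000 : Tr VStep :=
  .node (.node (.node (.node (.node (.node (.node (.leaf (.root 19)) (.leaf (.up 6 885 2))) (.node (.leaf (.up 6 258 0)) (.leaf (.up 6 986 1)))) (.node (.node (.leaf (.up 9 109 1)) (.leaf (.up 2 12 2))) (.node (.leaf (.up 10 1931 3)) (.leaf (.up 6 1630 0))))) (.node (.node (.node (.leaf (.up 6 1581 2)) (.leaf (.up 6 1043 1))) (.node (.leaf (.up 6 1850 0)) (.leaf (.up 5 612 0)))) (.node (.node (.leaf (.up 7 1082 0)) (.leaf (.up 6 1559 1))) (.node (.leaf (.up 8 1109 3)) (.leaf (.up 5 102 0)))))) (.node (.node (.node (.node (.leaf (.up 4 587 3)) (.leaf (.up 6 1235 1))) (.node (.leaf (.up 3 264 0)) (.leaf (.up 5 346 1)))) (.node (.node (.leaf (.up 5 749 1)) (.leaf (.up 8 1751 1))) (.node (.leaf (.up 6 1472 3)) (.leaf (.up 6 152 3))))) (.node (.node (.node (.leaf (.up 7 681 1)) (.leaf (.up 7 1229 3))) (.node (.leaf (.up 8 1824 1)) (.leaf (.up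 8 137 2)))) (.node (.node (.leaf (.up 6 1560 3)) (.leaf (.up 5 1175 1))) (.node (.leaf (.up 7 1316 1)) (.leaf (.up 8 108 0))))))) (.node (.node (.node (.node (.node (.leaf (.up 6 1767 3)) (.leaf (.up 8 959 3))) (.node (.leaf (.up 4 1512 1)) (.leaf (.up 5 1119 0)))) (.node (.node (.leaf (.up 5 362 3)) (.leaf (.up 8 1887 0))) (.node (.leaf (.up 7 771 0)) (.leaf (.up 7 1629 0))))) (.node (.node (.node (.leaf (.up 6 545 1)) (.leaf (.up 6 869 0))) (.node (.leaf (.up 6 1960 1)) (.leaf (.up 6 305 2)))) (.node (.node (.leaf (.up 7 1081 0)) (.leaf (.up 7 463 2))) (.node (.leaf (.up 3 690 3)) (.leaf (.up 5 406 1)))))) (.node (.node (.node (.node (.leaf (.up 6 737 1)) (.leaf (.up 7 1367 0))) (.node (.leaf (.up 7 1896 1)) (.leaf (.up 7 330 2)))) (.node (.node (.leaf (.up 6 705 2)) (.leaf (.up 6 1247 1))) (.node (.leaf (.up 7 1388 1)) (.leaf (.up 8 1623 0))))) (.node (.node (.node (.leaf (.up 5 1906 3)) (.leaf (.up 9 879 0))) (.node (.leaf (.up 6 1320 1))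 (.leaf (.up 8 556 3)))) (.node (.node (.leaf (.up 4 1075 0)) (.leaf (.up 8 1447 3))) (.node (.leaf (.up 7 1836 1)) (.leaf (.up 8 111 0)))))))) (.node (.node (.node (.node (.node (.node (.leaf (.up 8 171 2)) (.leaf (.up 6 1105 1))) (.node (.leaf (.up 9 1439 0)) (.leaf (.up 6 453 3)))) (.node (.node (.leaf (.up 8 978 2)) (.leaf (.up 5 167 2))) (.node (.leaf (.up 7 2022 1)) (.leaf (.up 7 707 0))))) (.node (.node (.node (.leaf (.up 7 1861 3)) (.leaf (.up 6 541 3))) (.node (.leaf (.up 7 1859 3)) (.leaf (.up 6 539 3)))) (.node (.node (.leaf (.up 5 167 0)) (.leaf (.up 5 1674 2))) (.node (.leaf (.up 7 1446 1)) (.leaf (.up 6 1293 2)))))) (.node (.node (.node (.node (.leaf (.up 3 1744 3)) (.leaf (.up 6 1416 2))) (.node (.leaf (.up 7 1429 0)) (.leaf (.up 6 1551 2)))) (.node (.node (.leaf (.up 8 349 3)) (.leaf (.up 7 971 0))) (.node (.leaf (.up 7 1943 0)) (.leaf (.up 8 348 1))))) (.node (.node (.node (.leaf (.up 8 687 0)) (.leaf (.up 6 86 3))) (.node (.leaf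 (.up 7 1314 1)) (.leaf (.up 2 34 2)))) (.node (.node (.leaf (.up 6 937 2)) (.leaf (.up 7 2011 3))) (.node (.leaf (.up 7 431 0)) (.leaf (.up 6 859 2))))))) (.node (.node (.node (.node (.node (.leaf (.up 5 611 1)) (.leaf (.up 7 448 0))) (.node (.leaf (.up 6 1218 2)) (.leaf (.up 7 1975 2)))) (.node (.node (.leaf (.up 8 1084 2)) (.leaf (.up 5 1117 1))) (.node (.leaf (.up 8 1527 3)) (.leaf (.up 8 468 1))))) (.node (.node (.node (.leaf (.up 6 418 3)) (.leaf (.up 6 541 2))) (.node (.leaf (.up 7 420 3)) (.leaf (.up 6 400 1)))) (.node (.node (.leaf (.up 7 551 1)) (.leaf (.up 7 887 3))) (.node (.leaf (.up 5 406 2)) (.leaf (.up 7 1272 0)))))) (.node (.node (.node (.node (.leaf (.up 8 227 1)) (.leaf (.up 7 1391 3))) (.node (.leaf (.up 7 660 2)) (.leaf (.up 5 1385 3)))) (.node (.node (.leaf (.up 7 743 1)) (.leaf (.up 6 738 3))) (.node (.leaf (.up 6 1940 0)) (.leaf (.up 6 852 1))))) (.node (.node (.node (.leaf (.up 7 1001 3)) (.leaf (.up 6 1099 2))) (.node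 (.leaf (.up 7 942 0)) (.leaf (.up 8 784 1)))) (.node (.node (.leaf (.up 5 167 1)) (.leaf (.up 7 316 3))) (.node (.leaf (.up 7 428 0)) (.leaf (.up 4 276 1))))))))

noncomputable def vt1_0_0001 : Tr VStep :=
  .node (.node (.node (.node (.node (.node (.node (.leaf (.up 6 625 2)) (.leaf (.up 7 1308 0))) (.node (.leaf (.up 6 320 0)) (.leaf (.up 7 1371 3)))) (.node (.node (.leaf (.up 2 34 1)) (.leaf (.up 7 1048 1))) (.node (.leaf (.up 6 834 0)) (.leaf (.up 9 401 1))))) (.node (.node (.node (.leaf (.up 5 102 1)) (.leaf (.up 7 1833 2))) (.node (.leaf (.up 5 1912 0)) (.leaf (.up 6 1198 2)))) (.node (.node (.leaf (.up 7 1829 2)) (.leaf (.up 5 294 0))) (.node (.leaf (.up 7 1104 3)) (.leaf (.up 2 977 1)))))) (.node (.node (.node (.node (.leaf (.up 7 590 3)) (.leaf (.up 7 1874 2))) (.node (.leaf (.up 6 1952 2)) (.leaf (.up 7 277 1)))) (.node (.node (.leaf (.up 8 1475 3)) (.leaf (.up 7 1812 0))) (.node (.leaf (.up 6 1477 3)) (.leaf (.up 5 157 3))))) (.node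 (.node (.node (.leaf (.up 6 1648 0)) (.leaf (.up 7 1756 1))) (.node (.leaf (.up 3 397 2)) (.leaf (.up 8 556 0)))) (.node (.node (.leaf (.up 8 226 1)) (.leaf (.up 4 300 0))) (.node (.leaf (.up 7 1392 0)) (.leaf (.up 5 835 3))))))) (.node (.node (.node (.node (.node (.leaf (.up 7 46 1)) (.leaf (.up 8 1311 0))) (.node (.leaf (.up 6 1560 2)) (.leaf (.up 6 413 1)))) (.node (.node (.leaf (.up 9 579 0)) (.leaf (.up 5 1821 0))) (.node (.leaf (.up 8 1955 1)) (.leaf (.up 7 1567 0))))) (.node (.node (.node (.leaf (.up 6 1340 3)) (.leaf (.up 7 100 3))) (.node (.leaf (.up 5 1915 0)) (.leaf (.up 6 98 3)))) (.node (.node (.leaf (.up 8 1147 0)) (.leaf (.up 7 293 0))) (.node (.leaf (.up 6 1507 1)) (.leaf (.up 5 39 0)))))) (.node (.node (.node (.node (.leaf (.up 7 686 1)) (.leaf (.up 6 188 2))) (.node (.leaf (.up 6 78 2)) (.leaf (.up 4 797 1)))) (.node (.node (.leaf (.up 7 176 2)) (.leaf (.up 6 965 2))) (.node (.leaf (.up 6 843 0)) (.leaf (.up 6 1557 0))))) (.node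 (.node (.node (.leaf (.up 9 1911 3)) (.leaf (.up 6 1681 2))) (.node (.leaf (.up 10 1905 0)) (.leaf (.up 7 559 0)))) (.node (.node (.leaf (.up 7 746 1)) (.leaf (.up 3 1744 1))) (.node (.leaf (.up 8 1306 2)) (.leaf (.up 7 1444 3)))))))) (.node (.node (.node (.node (.node (.node (.leaf (.up 4 36 1)) (.leaf (.up 6 454 3))) (.node (.leaf (.up 7 1501 0)) (.leaf (.up 5 407 1)))) (.node (.node (.leaf (.up 5 544 1)) (.leaf (.up 8 1611 3))) (.node (.leaf (.up 6 789 3)) (.leaf (.up 7 337 2))))) (.node (.node (.node (.leaf (.up 5 612 1)) (.leaf (.up 6 1630 1))) (.node (.leaf (.up 6 1862 3)) (.leaf (.up 7 983 1)))) (.node (.node (.leaf (.up 7 1934 2)) (.leaf (.up 7 1429 3))) (.node (.leaf (.up 7 1513 1)) (.leaf (.up 6 467 1)))))) (.node (.node (.node (.node (.leaf (.up 6 676 1)) (.leaf (.up 5 395 0))) (.node (.leaf (.up 6 1837 1)) (.leaf (.up 6 907 3)))) (.node (.node (.leaf (.up 7 160 1)) (.leaf (.up 7 1152 2))) (.node (.leaf (.up 7 1321 1)) (.leaf (.up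 7 651 0))))) (.node (.node (.node (.leaf (.up 5 749 0)) (.leaf (.up 6 1246 1))) (.node (.leaf (.up 5 294 2)) (.leaf (.up 5 595 2)))) (.node (.node (.leaf (.up 7 736 1)) (.leaf (.up 6 1754 1))) (.node (.leaf (.up 6 607 2)) (.leaf (.up 7 1203 0))))))) (.node (.node (.node (.node (.node (.leaf (.up 8 633 3)) (.leaf (.up 7 1558 1))) (.node (.leaf (.up 5 639 3)) (.leaf (.up 7 1478 2)))) (.node (.node (.leaf (.up 8 40 1)) (.leaf (.up 8 172 3))) (.node (.leaf (.up 8 1522 3)) (.leaf (.up 8 170 3))))) (.node (.node (.node (.leaf (.up 7 740 0)) (.leaf (.up 6 1279 3))) (.node (.leaf (.up 8 1509 1)) (.leaf (.up 4 1273 3)))) (.node (.node (.leaf (.up 5 230 0)) (.leaf (.up 4 882 3))) (.node (.leaf (.up 7 999 2)) (.leaf (.up 7 146 2)))))) (.node (.node (.node (.node (.leaf (.up 6 866 2)) (.leaf (.up 8 1386 3))) (.node (.leaf (.up 7 52 3)) (.leaf (.up 7 1388 3)))) (.node (.node (.leaf (.up 6 680 1)) (.leaf (.up 5 878 2))) (.node (.leaf (.up 7 2006 0)) (.leaf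 (.up 4 233 2))))) (.node (.node (.node (.leaf (.up 10 1359 2)) (.leaf (.up 6 1594 2))) (.node (.leaf (.up 9 1736 2)) (.leaf (.up 7 863 1)))) (.node (.node (.leaf (.up 7 236 0)) (.leaf (.up 6 1234 1))) (.node (.leaf (.up 7 1457 2)) (.leaf (.up 7 319 3))))))))

noncomputable def vt1_0_000 : Tr VStep := .node vt1_0_0000 vt1_0_0001

noncomputable def vt1_0_0010 : Tr VStep :=
  .node (.node (.node (.node (.node (.node (.node (.leaf (.up 8 121 1)) (.leaf (.up 4 725 0))) (.node (.leaf (.up 8 1520 1)) (.leaf (.up 5 1370 3)))) (.node (.node (.leaf (.up 7 1417 0)) (.leaf (.up 6 1917 2))) (.node (.leaf (.up 9 1935 2)) (.leaf (.up 7 727 3))))) (.node (.node (.node (.leaf (.up 6 986 3)) (.leaf (.up 8 553 2))) (.node (.leaf (.up 8 731 2)) (.leaf (.up 7 906 1)))) (.node (.node (.leaf (.up 6 1111 3)) (.leaf (.up 7 1775 0))) (.node (.leaf (.up 4 691 0)) (.leaf (.up 5 398 1)))))) (.node (.node (.node (.node (.leaf (.up 5 591 3)) (.leaf (.up 6 735 0))) (.node (.leaf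 (.up 7 585 3)) (.leaf (.up 7 842 1)))) (.node (.node (.leaf (.up 5 253 1)) (.leaf (.up 5 221 0))) (.node (.leaf (.up 6 1153 0)) (.leaf (.up 8 479 0))))) (.node (.node (.node (.leaf (.up 7 185 1)) (.leaf (.up 6 1151 2))) (.node (.leaf (.up 4 1165 2)) (.leaf (.up 6 266 1)))) (.node (.node (.leaf (.up 9 955 0)) (.leaf (.up 6 1798 2))) (.node (.leaf (.up 9 1844 1)) (.leaf (.up 6 834 3))))))) (.node (.node (.node (.node (.node (.leaf (.up 3 1928 0)) (.leaf (.up 8 1611 1))) (.node (.leaf (.up 5 1674 0)) (.leaf (.up 7 980 0)))) (.node (.node (.leaf (.up 7 366 3)) (.leaf (.up 6 1078 3))) (.node (.leaf (.up 6 1532 1)) (.leaf (.up 6 454 1))))) (.node (.node (.node (.leaf (.up 7 49 1)) (.leaf (.up 7 1035 1))) (.node (.leaf (.up 5 178 0)) (.leaf (.up 6 1600 2)))) (.node (.node (.leaf (.up 6 565 1)) (.leaf (.up 6 1551 1))) (.node (.leaf (.up 7 1980 1)) (.leaf (.up 8 1337 2)))))) (.node (.node (.node (.node (.leaf (.up 6 241 1)) (.leaf (.up 6 496 3))) (.node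 (.leaf (.up 4 1358 2)) (.leaf (.up 7 1595 2)))) (.node (.node (.leaf (.up 7 757 1)) (.leaf (.up 7 1733 2))) (.node (.leaf (.up 7 1916 1)) (.leaf (.up 8 1346 2))))) (.node (.node (.node (.leaf (.up 8 689 1)) (.leaf (.up 5 1675 1))) (.node (.leaf (.up 6 867 2)) (.leaf (.up 7 552 3)))) (.node (.node (.leaf (.up 6 181 1)) (.leaf (.up 10 1443 3))) (.node (.leaf (.up 5 253 3)) (.leaf (.up 7 262 1)))))))) (.node (.node (.node (.node (.node (.node (.leaf (.up 7 635 1)) (.leaf (.up 7 455 3))) (.node (.leaf (.up 5 1117 2)) (.leaf (.up 7 1866 0)))) (.node (.node (.leaf (.up 3 1187 2)) (.leaf (.up 7 2006 2))) (.node (.leaf (.up 7 1526 1)) (.leaf (.up 6 1105 2))))) (.node (.node (.node (.leaf (.up 6 503 2)) (.leaf (.up 7 1025 1))) (.node (.leaf (.up 6 1863 3)) (.leaf (.up 5 370 0)))) (.node (.node (.leaf (.up 6 654 2)) (.leaf (.up 7 626 0))) (.node (.leaf (.up 6 1582 0)) (.leaf (.up 5 636 2)))))) (.node (.node (.node (.node (.leaf (.up 7 1748 3)) (.leaf (.up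 7 1602 0))) (.node (.leaf (.up 6 1394 1)) (.leaf (.up 7 1856 0)))) (.node (.node (.leaf (.up 6 345 3)) (.leaf (.up 7 1088 0))) (.node (.leaf (.up 5 370 2)) (.leaf (.up 6 844 1))))) (.node (.node (.node (.leaf (.up 6 1290 3)) (.leaf (.up 6 122 0))) (.node (.leaf (.up 7 1062 0)) (.leaf (.up 6 1875 2)))) (.node (.node (.leaf (.up 7 1240 2)) (.leaf (.up 7 1157 1))) (.node (.leaf (.up 6 1334 1)) (.leaf (.up 7 268 1))))))) (.node (.node (.node (.node (.node (.leaf (.up 6 789 0)) (.leaf (.up 7 1097 1))) (.node (.leaf (.up 7 535 0)) (.leaf (.up 7 1865 0)))) (.node (.node (.leaf (.up 6 1525 3)) (.leaf (.up 7 1097 0))) (.node (.leaf (.up 6 21 0)) (.leaf (.up 8 171 3))))) (.node (.node (.node (.leaf (.up 7 422 3)) (.leaf (.up 7 1388 2))) (.node (.leaf (.up 6 1071 0)) (.leaf (.up 7 369 0)))) (.node (.node (.leaf (.up 7 1376 2)) (.leaf (.up 4 883 3))) (.node (.leaf (.up 4 1470 1)) (.leaf (.up 4 883 0)))))) (.node (.node (.node (.node (.leaf (.up 7 755 1))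 (.leaf (.up 7 1737 1))) (.node (.leaf (.up 6 541 0)) (.leaf (.up 7 832 1)))) (.node (.node (.leaf (.up 5 247 1)) (.leaf (.up 6 1646 2))) (.node (.leaf (.up 8 1406 1)) (.leaf (.up 6 324 1))))) (.node (.node (.node (.leaf (.up 6 1005 3)) (.leaf (.up 6 1161 1))) (.node (.leaf (.up 6 1003 3)) (.leaf (.up 6 189 2)))) (.node (.node (.leaf (.up 7 1829 0)) (.leaf (.up 7 635 0))) (.node (.leaf (.up 8 1854 1)) (.leaf (.up 8 318 3))))))))

noncomputable def vt1_0_0011 : Tr VStep :=
  .node (.node (.node (.node (.node (.node (.node (.leaf (.up 1 1 3)) (.leaf (.up 9 663 0))) (.node (.leaf (.up 5 7 3)) (.leaf (.up 8 1522 2)))) (.node (.node (.leaf (.up 6 1483 0)) (.leaf (.up 8 1544 1))) (.node (.leaf (.up 8 1534 2)) (.leaf (.up 3 722 3))))) (.node (.node (.node (.leaf (.up 6 630 1)) (.leaf (.up 7 1671 3))) (.node (.leaf (.up 7 985 3)) (.leaf (.up 6 965 1)))) (.node (.node (.leaf (.up 6 1106 3)) (.leaf (.up 6 266 3))) (.node (.leaf (.up 6 979 2)) (.leaf (.up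 7 1967 0)))))) (.node (.node (.node (.node (.leaf (.up 6 854 2)) (.leaf (.up 7 1810 3))) (.node (.leaf (.up 7 1729 0)) (.leaf (.up 6 773 1)))) (.node (.node (.leaf (.up 5 178 1)) (.leaf (.up 5 159 0))) (.node (.leaf (.up 5 1339 1)) (.leaf (.up 5 221 2))))) (.node (.node (.node (.leaf (.up 7 1403 2)) (.leaf (.up 8 1550 2))) (.node (.leaf (.up 7 249 0)) (.leaf (.up 7 325 1)))) (.node (.node (.leaf (.up 5 1538 2)) (.leaf (.up 9 1736 1))) (.node (.leaf (.up 5 1915 1)) (.leaf (.up 8 839 3))))))) (.node (.node (.node (.node (.node (.leaf (.up 8 1994 0)) (.leaf (.up 6 1540 1))) (.node (.leaf (.up 7 1975 1)) (.leaf (.up 7 909 1)))) (.node (.node (.leaf (.up 3 363 3)) (.leaf (.up 4 1075 3))) (.node (.leaf (.up 9 1226 0)) (.leaf (.up 6 357 2))))) (.node (.node (.node (.leaf (.up 7 1219 2)) (.leaf (.up 7 1092 1))) (.node (.leaf (.up 8 1527 1)) (.leaf (.up 5 102 3)))) (.node (.node (.leaf (.up 6 693 3)) (.leaf (.up 6 1600 1))) (.node (.leaf (.up 4 691 3))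 (.leaf (.up 6 1864 2)))))) (.node (.node (.node (.node (.leaf (.up 7 1208 2)) (.leaf (.up 6 670 0))) (.node (.leaf (.up 6 1335 1)) (.leaf (.up 7 269 1)))) (.node (.node (.leaf (.up 6 1985 2)) (.leaf (.up 6 1664 1))) (.node (.leaf (.up 6 806 3)) (.leaf (.up 7 1662 3))))) (.node (.node (.node (.leaf (.up 6 661 2)) (.leaf (.up 5 1190 0))) (.node (.leaf (.up 9 1911 1)) (.leaf (.up 7 1444 0)))) (.node (.node (.leaf (.up 9 250 1)) (.leaf (.up 7 1700 0))) (.node (.leaf (.up 10 760 0)) (.leaf (.up 6 1958 0)))))))) (.node (.node (.node (.node (.node (.node (.leaf (.up 6 852 0)) (.leaf (.up 7 450 3))) (.node (.leaf (.up 8 1981 1)) (.leaf (.up 8 903 1)))) (.node (.node (.leaf (.up 6 48 1)) (.leaf (.up 6 1034 1))) (.node (.leaf (.up 6 1465 1)) (.leaf (.up 6 1290 0))))) (.node (.node (.node (.leaf (.up 7 1388 0)) (.leaf (.up 8 243 2))) (.node (.leaf (.up 1 1 2)) (.leaf (.up 7 455 1)))) (.node (.node (.leaf (.up 6 255 2)) (.leaf (.up 7 560 0))) (.node (.leaf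 (.up 7 2041 1)) (.leaf (.up 7 1431 3)))))) (.node (.node (.node (.node (.leaf (.up 7 1021 2)) (.leaf (.up 6 136 2))) (.node (.leaf (.up 6 122 2)) (.leaf (.up 7 1794 0)))) (.node (.node (.leaf (.up 7 132 2)) (.leaf (.up 4 1009 2))) (.node (.leaf (.up 5 346 3)) (.leaf (.up 3 1280 0))))) (.node (.node (.node (.leaf (.up 7 756 1)) (.leaf (.up 7 1701 2))) (.node (.leaf (.up 6 1917 1)) (.leaf (.up 6 314 0)))) (.node (.node (.leaf (.up 8 642 3)) (.leaf (.up 9 1226 1))) (.node (.leaf (.up 8 1401 1)) (.leaf (.up 8 323 1))))))) (.node (.node (.node (.node (.node (.leaf (.up 8 581 2)) (.leaf (.up 7 1829 3))) (.node (.leaf (.up 5 1461 1)) (.leaf (.up 7 399 1)))) (.node (.node (.leaf (.up 6 568 1)) (.leaf (.up 5 1538 1))) (.node (.leaf (.up 7 699 2)) (.leaf (.up 6 174 3))))) (.node (.node (.node (.leaf (.up 5 636 1)) (.leaf (.up 5 1821 2))) (.node (.leaf (.up 7 2031 2)) (.leaf (.up 7 975 1)))) (.node (.node (.leaf (.up 6 1582 3)) (.leaf (.up 7 1124 2))) (.node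 (.leaf (.up 7 1576 3)) (.leaf (.up 6 2019 2)))))) (.node (.node (.node (.node (.leaf (.up 5 54 3)) (.leaf (.up 7 1894 2))) (.node (.leaf (.up 4 1845 1)) (.leaf (.up 7 1384 3)))) (.node (.node (.leaf (.up 7 351 0)) (.leaf (.up 7 1025 0))) (.node (.leaf (.up 8 93 0)) (.leaf (.up 6 1283 0))))) (.node (.node (.node (.leaf (.up 8 574 2)) (.leaf (.up 7 1712 3))) (.node (.leaf (.up 7 1397 1)) (.leaf (.up 8 716 2)))) (.node (.node (.leaf (.up 9 1125 3)) (.leaf (.up 5 317 3))) (.node (.leaf (.up 9 704 2)) (.leaf (.up 6 843 1))))))))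

noncomputable def vt1_0_001 : Tr VStep := .node vt1_0_0010 vt1_0_0011

noncomputable def vt1_0_00 : Tr VStep := .node vt1_0_000 vt1_0_001

noncomputable def vt1_0_0100 : Tr VStep :=
  .node (.node (.node (.node (.node (.node (.node (.leaf (.up 8 318 2)) (.leaf (.up 4 587 2))) (.node (.leaf (.up 9 697 2)) (.leaf (.up 4 1118 0)))) (.node (.node (.leaf (.up 5 877 1)) (.leaf (.up 7 1879 1))) (.node (.leaf (.up 7 448 2)) (.leaf (.up 6 693 2))))) (.node (.node (.node (.leaf (.up 6 1594 0)) (.leaf (.up 8 1811 1))) (.node (.leaf (.up 7 1696 1)) (.leaf (.up 7 614 0)))) (.node (.node (.leaf (.up 6 301 1)) (.leaf (.up 7 358 0))) (.node (.leaf (.up 5 1617 3)) (.leaf (.up 7 100 0)))))) (.node (.node (.node (.node (.leaf (.up 7 8 0)) (.leaf (.up 7 1366 0))) (.node (.leaf (.up 6 266 0)) (.leaf (.up 6 1297 3)))) (.node (.node (.leaf (.up 8 493 1)) (.leaf (.up 7 1876 0))) (.node (.leaf (.up 5 1942 2)) (.leaf (.up 2 668 3))))) (.node (.node (.node (.leaf (.up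 7 913 3)) (.leaf (.up 5 878 0))) (.node (.leaf (.up 8 919 3)) (.leaf (.up 7 26 1)))) (.node (.node (.leaf (.up 6 572 2)) (.leaf (.up 6 324 3))) (.node (.leaf (.up 6 1328 0)) (.leaf (.up 8 718 2))))))) (.node (.node (.node (.node (.node (.leaf (.up 1 1 0)) (.leaf (.up 8 443 3))) (.node (.leaf (.up 7 1367 2)) (.leaf (.up 3 722 1)))) (.node (.node (.leaf (.up 5 878 3)) (.leaf (.up 6 1885 0))) (.node (.leaf (.up 6 1260 1)) (.leaf (.up 7 1371 2))))) (.node (.node (.node (.leaf (.up 5 1593 0)) (.leaf (.up 7 871 0))) (.node (.leaf (.up 8 1192 1)) (.leaf (.up 5 611 3)))) (.node (.node (.leaf (.up 5 900 2)) (.leaf (.up 4 1512 3))) (.node (.leaf (.up 6 1708 1)) (.leaf (.up 8 103 0)))))) (.node (.node (.node (.node (.leaf (.up 5 134 2)) (.leaf (.up 8 1011 2))) (.node (.leaf (.up 7 1128 1)) (.leaf (.up 6 1111 0)))) (.node (.node (.leaf (.up 5 521 0)) (.leaf (.up 7 1879 0))) (.node (.leaf (.up 5 291 3)) (.leaf (.up 7 781 2))))) (.node (.node (.node (.leaf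 (.up 7 929 1)) (.leaf (.up 5 877 0))) (.node (.leaf (.up 5 1841 0)) (.leaf (.up 8 40 3)))) (.node (.node (.leaf (.up 7 763 3)) (.leaf (.up 8 1955 3))) (.node (.leaf (.up 7 1331 0)) (.leaf (.up 7 22 1)))))))) (.node (.node (.node (.node (.node (.node (.leaf (.up 9 405 2)) (.leaf (.up 7 736 2))) (.node (.leaf (.up 8 1689 3)) (.leaf (.up 6 728 1)))) (.node (.node (.leaf (.up 8 1693 0)) (.leaf (.up 7 409 2))) (.node (.leaf (.up 3 363 2)) (.leaf (.up 6 705 0))))) (.node (.node (.node (.leaf (.up 6 299 1)) (.leaf (.up 6 1297 1))) (.node (.leaf (.up 4 1351 3)) (.leaf (.up 6 152 1)))) (.node (.node (.leaf (.up 7 815 1)) (.leaf (.up 5 1972 2))) (.node (.leaf (.up 6 1862 2)) (.leaf (.up 2 668 1)))))) (.node (.node (.node (.node (.leaf (.up 7 491 1)) (.leaf (.up 5 1489 1))) (.node (.leaf (.up 6 1234 3)) (.leaf (.up 5 1841 2)))) (.node (.node (.leaf (.up 7 857 3)) (.leaf (.up 7 969 0))) (.node (.leaf (.up 7 863 3)) (.leaf (.up 6 715 0))))) (.node (.node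 (.node (.leaf (.up 8 1802 3)) (.leaf (.up 5 667 2))) (.node (.leaf (.up 2 617 2)) (.leaf (.up 7 284 2)))) (.node (.node (.leaf (.up 7 431 1)) (.leaf (.up 7 1429 1))) (.node (.leaf (.up 7 1062 1)) (.leaf (.up 7 613 2))))))) (.node (.node (.node (.node (.node (.leaf (.up 7 120 3)) (.leaf (.up 7 450 0))) (.node (.leaf (.up 6 1532 2)) (.leaf (.up 7 1318 3)))) (.node (.node (.leaf (.up 7 871 1)) (.leaf (.up 6 1885 1))) (.node (.leaf (.up 7 2035 3)) (.leaf (.up 8 1520 2))))) (.node (.node (.node (.leaf (.up 4 934 3)) (.leaf (.up 6 1790 3))) (.node (.leaf (.up 2 977 2)) (.leaf (.up 8 656 1)))) (.node (.node (.leaf (.up 7 295 1)) (.leaf (.up 7 1528 0))) (.node (.leaf (.up 6 1069 3)) (.leaf (.up 7 989 2)))))) (.node (.node (.node (.node (.leaf (.up 7 45 2)) (.leaf (.up 7 2009 1))) (.node (.leaf (.up 6 565 3)) (.leaf (.up 8 223 2)))) (.node (.node (.leaf (.up 4 1470 3)) (.leaf (.up 5 230 3))) (.node (.leaf (.up 3 1134 1)) (.leaf (.up 4 712 0))))) (.node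 (.node (.node (.leaf (.up 6 419 1)) (.leaf (.up 5 2032 0))) (.node (.leaf (.up 5 940 0)) (.leaf (.up 7 1203 3)))) (.node (.node (.leaf (.up 8 1401 2)) (.leaf (.up 7 1949 1))) (.node (.leaf (.up 6 1790 2)) (.leaf (.up 6 1419 2))))))))

noncomputable def vt1_0_0101 : Tr VStep :=
  .node (.node (.node (.node (.node (.node (.node (.leaf (.up 4 847 2)) (.leaf (.up 5 58 2))) (.node (.leaf (.up 7 200 2)) (.leaf (.up 8 1887 3)))) (.node (.node (.leaf (.up 5 54 2)) (.leaf (.up 5 835 2))) (.node (.leaf (.up 7 832 0)) (.leaf (.up 7 657 1))))) (.node (.node (.node (.leaf (.up 8 870 1)) (.leaf (.up 4 1884 1))) (.node (.leaf (.up 7 1775 1)) (.leaf (.up 4 725 1)))) (.node (.node (.leaf (.up 6 1618 3)) (.leaf (.up 8 292 0))) (.node (.leaf (.up 6 1400 0)) (.leaf (.up 8 38 0)))))) (.node (.node (.node (.node (.leaf (.up 4 934 1)) (.leaf (.up 8 1948 1))) (.node (.leaf (.up 7 1583 1)) (.leaf (.up 7 533 1)))) (.node (.node (.leaf (.up 6 418 1)) (.leaf (.up 7 1301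 2))) (.node (.leaf (.up 6 1985 3)) (.leaf (.up 6 17 1))))) (.node (.node (.node (.leaf (.up 7 820 2)) (.leaf (.up 8 1740 3))) (.node (.leaf (.up 6 179 2)) (.leaf (.up 7 558 0)))) (.node (.node (.leaf (.up 7 1049 3)) (.leaf (.up 8 302 0))) (.node (.leaf (.up 6 1643 1)) (.leaf (.up 7 593 1))))))) (.node (.node (.node (.node (.node (.leaf (.up 7 1254 3)) (.leaf (.up 6 446 3))) (.node (.leaf (.up 9 1830 2)) (.leaf (.up 6 440 3)))) (.node (.node (.leaf (.up 8 577 0)) (.leaf (.up 6 1296 1))) (.node (.leaf (.up 3 1187 1)) (.leaf (.up 7 153 1))))) (.node (.node (.node (.leaf (.up 7 366 1)) (.leaf (.up 8 1364 1))) (.node (.leaf (.up 6 1913 0)) (.leaf (.up 5 221 1)))) (.node (.node (.leaf (.up 4 874 1)) (.leaf (.up 7 295 0))) (.node (.leaf (.up 5 1763 1)) (.leaf (.up 8 37 0)))))) (.node (.node (.node (.node (.leaf (.up 7 73 0)) (.leaf (.up 7 386 2))) (.node (.leaf (.up 8 1063 1)) (.leaf (.up 8 1045 0)))) (.node (.node (.leaf (.up 4 587 0)) (.leaf (.up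 7 1936 1))) (.node (.leaf (.up 3 841 0)) (.leaf (.up 6 1559 0))))) (.node (.node (.node (.leaf (.up 9 1649 0)) (.leaf (.up 7 1967 2))) (.node (.leaf (.up 6 1885 2)) (.leaf (.up 7 45 3)))) (.node (.node (.leaf (.up 8 1955 2)) (.leaf (.up 6 301 0))) (.node (.leaf (.up 9 1060 2)) (.leaf (.up 6 1952 3)))))))) (.node (.node (.node (.node (.node (.node (.leaf (.up 6 1690 3)) (.leaf (.up 7 962 3))) (.node (.leaf (.up 8 99 2)) (.leaf (.up 9 663 1)))) (.node (.node (.leaf (.up 5 157 2)) (.leaf (.up 7 897 0))) (.node (.leaf (.up 7 1193 1)) (.leaf (.up 6 147 1))))) (.node (.node (.node (.leaf (.up 4 1481 2)) (.leaf (.up 7 1374 1))) (.node (.leaf (.up 7 999 0)) (.leaf (.up 5 1339 2)))) (.node (.node (.leaf (.up 7 1712 2)) (.leaf (.up 4 1882 1))) (.node (.leaf (.up 4 485 0)) (.leaf (.up 7 1943 3)))))) (.node (.node (.node (.node (.leaf (.up 7 420 1)) (.leaf (.up 7 393 0))) (.node (.leaf (.up 6 1069 1)) (.leaf (.up 7 139 0)))) (.node (.node (.leaf (.up 4 928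 1)) (.leaf (.up 4 1470 2))) (.node (.leaf (.up 4 2007 0)) (.leaf (.up 3 649 0))))) (.node (.node (.node (.leaf (.up 6 996 1)) (.leaf (.up 8 1969 0))) (.node (.leaf (.up 5 24 2)) (.leaf (.up 5 877 2)))) (.node (.node (.leaf (.up 5 480 1)) (.leaf (.up 7 915 2))) (.node (.leaf (.up 5 865 2)) (.leaf (.up 8 83 1))))))) (.node (.node (.node (.node (.node (.leaf (.up 4 300 1)) (.leaf (.up 6 1919 2))) (.node (.leaf (.up 9 123 3)) (.leaf (.up 5 159 1)))) (.node (.node (.leaf (.up 5 2032 3)) (.leaf (.up 6 898 0))) (.node (.leaf (.up 7 1268 2)) (.leaf (.up 5 667 1))))) (.node (.node (.node (.leaf (.up 6 931 3)) (.leaf (.up 6 1787 3))) (.node (.leaf (.up 6 996 0)) (.leaf (.up 4 725 2)))) (.node (.node (.leaf (.up 8 1070 3)) (.leaf (.up 7 555 2))) (.node (.leaf (.up 8 486 0)) (.leaf (.up 7 1208 0)))))) (.node (.node (.node (.node (.leaf (.up 5 940 1)) (.leaf (.up 5 1942 1))) (.node (.leaf (.up 7 560 3)) (.leaf (.up 6 136 0)))) (.node (.node (.leaf (.up 7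 293 2)) (.leaf (.up 6 1426 1))) (.node (.leaf (.up 7 1469 3)) (.leaf (.up 7 27 1))))) (.node (.node (.node (.leaf (.up 8 488 3)) (.leaf (.up 7 1200 3))) (.node (.leaf (.up 9 2038 2)) (.leaf (.up 6 95 1)))) (.node (.node (.leaf (.up 9 1000 1)) (.leaf (.up 6 829 3))) (.node (.leaf (.up 9 1633 1)) (.leaf (.up 6 827 3))))))))

noncomputable def vt1_0_010 : Tr VStep := .node vt1_0_0100 vt1_0_0101

noncomputable def vt1_0_0110 : Tr VStep :=
  .node (.node (.node (.node (.node (.node (.node (.leaf (.up 7 512 3)) (.leaf (.up 7 1859 1))) (.node (.leaf (.up 5 1675 0)) (.leaf (.up 7 714 1)))) (.node (.node (.leaf (.up 6 381 1)) (.leaf (.up 4 1351 1))) (.node (.leaf (.up 6 1419 3)) (.leaf (.up 5 211 3))))) (.node (.node (.node (.leaf (.up 4 433 0)) (.leaf (.up 6 1283 1))) (.node (.leaf (.up 6 179 0)) (.leaf (.up 7 1152 3)))) (.node (.node (.leaf (.up 6 829 1)) (.leaf (.up 7 1773 0))) (.node (.leaf (.up 8 1716 1)) (.leaf (.up 6 654 1)))))) (.node (.node (.node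 (.node (.leaf (.up 7 1923 0)) (.leaf (.up 7 1299 3))) (.node (.leaf (.up 5 926 2)) (.leaf (.up 5 74 1)))) (.node (.node (.leaf (.up 7 1021 1)) (.leaf (.up 6 670 3))) (.node (.leaf (.up 8 1652 1)) (.leaf (.up 5 477 0))))) (.node (.node (.node (.leaf (.up 7 953 1)) (.leaf (.up 7 1345 2))) (.node (.leaf (.up 7 185 0)) (.leaf (.up 6 1739 3)))) (.node (.node (.leaf (.up 5 1357 2)) (.leaf (.up 6 320 3))) (.node (.leaf (.up 7 699 0)) (.leaf (.up 8 1471 2))))))) (.node (.node (.node (.node (.node (.leaf (.up 7 369 1)) (.leaf (.up 6 447 3))) (.node (.leaf (.up 7 1272 1)) (.leaf (.up 8 194 1)))) (.node (.node (.leaf (.up 4 874 3)) (.leaf (.up 6 1871 1))) (.node (.leaf (.up 5 1162 0)) (.leaf (.up 8 1588 3))))) (.node (.node (.node (.leaf (.up 8 434 0)) (.leaf (.up 4 1273 2))) (.node (.leaf (.up 5 1720 1)) (.leaf (.up 8 615 3)))) (.node (.node (.leaf (.up 6 944 0)) (.leaf (.up 6 1920 2))) (.node (.leaf (.up 3 690 0)) (.leaf (.up 5 134 1)))))) (.node (.node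 (.node (.node (.leaf (.up 4 1009 1)) (.leaf (.up 7 734 0))) (.node (.leaf (.up 6 1706 3)) (.leaf (.up 7 1797 2)))) (.node (.node (.leaf (.up 6 501 1)) (.leaf (.up 6 1145 3))) (.node (.leaf (.up 7 295 3)) (.leaf (.up 6 478 0))))) (.node (.node (.node (.leaf (.up 4 433 1)) (.leaf (.up 6 1419 1))) (.node (.leaf (.up 7 1396 3)) (.leaf (.up 9 2 1)))) (.node (.node (.leaf (.up 7 949 1)) (.leaf (.up 7 470 2))) (.node (.leaf (.up 8 292 2)) (.leaf (.up 6 518 1)))))))) (.node (.node (.node (.node (.node (.node (.leaf (.up 6 1691 3)) (.leaf (.up 7 1345 1))) (.node (.leaf (.up 6 1266 1)) (.leaf (.up 6 1864 0)))) (.node (.node (.leaf (.up 6 895 1)) (.leaf (.up 7 1861 1))) (.node (.leaf (.up 8 20 0)) (.leaf (.up 7 1391 2))))) (.node (.node (.node (.leaf (.up 5 1324 0)) (.leaf (.up 7 1793 1))) (.node (.leaf (.up 8 1070 0)) (.leaf (.up 6 648 1)))) (.node (.node (.leaf (.up 4 712 3)) (.leaf (.up 7 1936 3))) (.node (.leaf (.up 7 1206 1)) (.leaf (.up 4 882 0))))))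 (.node (.node (.node (.node (.leaf (.up 5 178 2)) (.leaf (.up 6 1600 0))) (.node (.leaf (.up 8 1238 3)) (.leaf (.up 3 1858 0)))) (.node (.node (.leaf (.up 7 284 0)) (.leaf (.up 6 1477 1))) (.node (.leaf (.up 5 1142 1)) (.leaf (.up 7 76 1))))) (.node (.node (.node (.leaf (.up 7 1318 0)) (.leaf (.up 7 120 0))) (.node (.leaf (.up 8 1074 1)) (.leaf (.up 7 8 1)))) (.node (.node (.leaf (.up 6 131 3)) (.leaf (.up 7 1925 1))) (.node (.leaf (.up 7 1590 1)) (.leaf (.up 6 524 1))))))) (.node (.node (.node (.node (.node (.leaf (.up 4 883 1)) (.leaf (.up 5 639 2))) (.node (.leaf (.up 6 122 3)) (.leaf (.up 6 1867 0)))) (.node (.node (.leaf (.up 6 627 2)) (.leaf (.up 5 1357 1))) (.node (.leaf (.up 6 2039 3)) (.leaf (.up 7 1353 0))))) (.node (.node (.node (.leaf (.up 6 1327 0)) (.leaf (.up 6 1106 2))) (.node (.leaf (.up 6 1069 0)) (.leaf (.up 7 128 1)))) (.node (.node (.leaf (.up 4 1118 2)) (.leaf (.up 6 627 0))) (.node (.leaf (.up 6 1065 3)) (.leaf (.up 7 369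 3)))))) (.node (.node (.node (.node (.leaf (.up 4 797 0)) (.leaf (.up 4 1481 1))) (.node (.leaf (.up 5 561 3)) (.leaf (.up 5 64 1)))) (.node (.node (.leaf (.up 7 1015 1)) (.leaf (.up 7 1997 1))) (.node (.leaf (.up 7 1662 1)) (.leaf (.up 7 1239 2))))) (.node (.node (.node (.leaf (.up 7 369 2)) (.leaf (.up 8 1201 3))) (.node (.leaf (.up 6 1594 1)) (.leaf (.up 7 512 1)))) (.node (.node (.leaf (.up 7 520 2)) (.leaf (.up 6 381 2))) (.node (.leaf (.up 7 1086 1)) (.leaf (.up 8 891 0))))))))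

noncomputable def vt1_0_0111 : Tr VStep :=
  .node (.node (.node (.node (.node (.node (.node (.leaf (.up 7 1086 2)) (.leaf (.up 4 1804 1))) (.node (.leaf (.up 7 1737 0)) (.leaf (.up 7 645 1)))) (.node (.node (.leaf (.up 4 1481 0)) (.leaf (.up 8 1288 1))) (.node (.leaf (.up 7 1422 3)) (.leaf (.up 8 214 3))))) (.node (.node (.node (.leaf (.up 7 531 2)) (.leaf (.up 6 1356 1))) (.node (.leaf (.up 5 477 3)) (.leaf (.up 6 737 2)))) (.node (.node (.leaf (.up 4 882 1)) (.leaf (.up 6 1864 1))) (.node (.leaf (.up 5 749 2)) (.leaf (.up 6 705 1)))))) (.node (.node (.node (.node (.leaf (.up 5 438 1)) (.leaf (.up 7 285 2))) (.node (.leaf (.up 6 1087 1)) (.leaf (.up 6 1296 3)))) (.node (.node (.leaf (.up 7 946 1)) (.leaf (.up 3 1928 1))) (.node (.leaf (.up 7 1595 1)) (.leaf (.up 6 513 1))))) (.node (.node (.node (.leaf (.up 7 1093 2)) (.leaf (.up 9 1736 3))) (.node (.leaf (.up 7 251 0)) (.leaf (.up 8 1207 2)))) (.node (.node (.leaf (.up 7 1852 2)) (.leaf (.up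 5 1480 1))) (.node (.leaf (.up 8 1147 1)) (.leaf (.up 7 1959 0))))))) (.node (.node (.node (.node (.node (.leaf (.up 6 1992 0)) (.leaf (.up 7 1284 1))) (.node (.leaf (.up 6 1252 3)) (.leaf (.up 5 141 1)))) (.node (.node (.leaf (.up 7 169 2)) (.leaf (.up 7 1792 1))) (.node (.leaf (.up 7 1715 1)) (.leaf (.up 3 649 1))))) (.node (.node (.node (.leaf (.up 5 894 1)) (.leaf (.up 5 612 3))) (.node (.leaf (.up 6 1850 3)) (.leaf (.up 7 1452 0)))) (.node (.node (.leaf (.up 7 1010 0)) (.leaf (.up 6 1708 0))) (.node (.leaf (.up 6 1283 2)) (.leaf (.up 6 1654 2)))))) (.node (.node (.node (.node (.leaf (.up 8 1414 2)) (.leaf (.up 2 668 0))) (.node (.leaf (.up 8 1591 1)) (.leaf (.up 5 926 0)))) (.node (.node (.leaf (.up 6 1472 0)) (.leaf (.up 7 1408 1))) (.node (.leaf (.up 4 1075 1)) (.leaf (.up 6 1146 3))))) (.node (.node (.node (.leaf (.up 9 510 1)) (.leaf (.up 7 47 3))) (.node (.leaf (.up 9 1143 1)) (.leaf (.up 7 1446 0)))) (.node (.node (.leaf (.up 8 1016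 0)) (.leaf (.up 8 935 2))) (.node (.leaf (.up 8 764 3)) (.leaf (.up 7 585 1)))))))) (.node (.node (.node (.node (.node (.node (.leaf (.up 6 854 0)) (.leaf (.up 8 1544 0))) (.node (.leaf (.up 7 1810 2)) (.leaf (.up 8 960 3)))) (.node (.node (.leaf (.up 7 340 0)) (.leaf (.up 6 1034 0))) (.node (.leaf (.up 5 1131 2)) (.leaf (.up 8 643 1))))) (.node (.node (.node (.leaf (.up 8 1390 0)) (.leaf (.up 5 24 3))) (.node (.leaf (.up 5 1789 1)) (.leaf (.up 7 30 3)))) (.node (.node (.leaf (.up 8 717 3)) (.leaf (.up 7 1941 3))) (.node (.leaf (.up 4 1273 1)) (.leaf (.up 8 307 2)))))) (.node (.node (.node (.node (.leaf (.up 5 948 1)) (.leaf (.up 3 397 3))) (.node (.leaf (.up 6 1235 3)) (.leaf (.up 5 561 2)))) (.node (.node (.leaf (.up 8 432 1)) (.leaf (.up 6 719 2))) (.node (.leaf (.up 6 573 2)) (.leaf (.up 8 1282 0))))) (.node (.node (.node (.leaf (.up 8 500 1)) (.leaf (.up 5 58 0))) (.node (.leaf (.up 6 1805 3)) (.leaf (.up 7 597 3)))) (.node (.node (.leaf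 (.up 5 134 3)) (.leaf (.up 6 568 0))) (.node (.leaf (.up 7 1040 2)) (.leaf (.up 7 1496 3))))))) (.node (.node (.node (.node (.node (.leaf (.up 8 828 1)) (.leaf (.up 6 1798 1))) (.node (.leaf (.up 7 127 3)) (.leaf (.up 6 655 1)))) (.node (.node (.leaf (.up 7 343 0)) (.leaf (.up 7 887 2))) (.node (.leaf (.up 6 901 2)) (.leaf (.up 7 1291 0))))) (.node (.node (.node (.leaf (.up 7 1366 2)) (.leaf (.up 5 1571 2))) (.node (.leaf (.up 6 1269 1)) (.leaf (.up 6 305 0)))) (.node (.node (.leaf (.up 5 1903 0)) (.leaf (.up 3 1858 1))) (.node (.leaf (.up 7 1068 3)) (.leaf (.up 6 715 1)))))) (.node (.node (.node (.node (.leaf (.up 7 863 0)) (.leaf (.up 7 1624 2))) (.node (.leaf (.up 6 1077 1)) (.leaf (.up 6 15 1)))) (.node (.node (.leaf (.up 8 952 1)) (.leaf (.up 7 1313 2))) (.node (.leaf (.up 4 1491 2)) (.leaf (.up 8 1281 0))))) (.node (.node (.node (.leaf (.up 10 492 3)) (.leaf (.up 7 57 0))) (.node (.leaf (.up 9 135 2)) (.leaf (.up 5 591 1)))) (.node (.node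 (.leaf (.up 8 504 1)) (.leaf (.up 7 1474 1))) (.node (.leaf (.up 9 1137 1)) (.leaf (.up 7 139 2))))))))

noncomputable def vt1_0_011 : Tr VStep := .node vt1_0_0110 vt1_0_0111

noncomputable def vt1_0_01 : Tr VStep := .node vt1_0_010 vt1_0_011

noncomputable def vt1_0_0 : Tr VStep := .node vt1_0_00 vt1_0_01

noncomputable def vt1_0_1000 : Tr VStep :=
  .node (.node (.node (.node (.node (.node (.node (.leaf (.root 228)) (.leaf (.up 6 372 1))) (.node (.leaf (.up 5 10 3)) (.leaf (.up 8 1150 0)))) (.node (.node (.leaf (.up 4 485 2)) (.leaf (.up 7 880 1))) (.node (.leaf (.up 7 802 0)) (.leaf (.up 6 735 3))))) (.node (.node (.node (.leaf (.up 8 1201 2)) (.leaf (.up 5 1674 3))) (.node (.leaf (.up 7 980 3)) (.leaf (.up 6 582 0)))) (.node (.node (.leaf (.up 5 1119 3)) (.leaf (.up 8 1213 2))) (.node (.leaf (.up 6 131 1)) (.leaf (.up 5 257 3)))))) (.node (.node (.node (.node (.leaf (.up 7 583 3)) (.leaf (.up 8 1823 3))) (.node (.leaf (.up 7 1869 2)) (.leaf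 (.up 8 1080 2)))) (.node (.node (.leaf (.up 8 1971 2)) (.leaf (.up 6 496 1))) (.node (.leaf (.up 8 1076 2)) (.leaf (.up 6 1654 0))))) (.node (.node (.node (.leaf (.up 7 409 3)) (.leaf (.up 8 436 1))) (.node (.leaf (.up 5 7 1)) (.leaf (.up 6 1085 1)))) (.node (.node (.leaf (.up 8 1556 3)) (.leaf (.up 6 944 1))) (.node (.leaf (.up 6 1296 0)) (.leaf (.up 5 1593 1))))))) (.node (.node (.node (.node (.node (.leaf (.up 6 1862 1)) (.leaf (.up 8 1407 0))) (.node (.leaf (.up 5 291 0)) (.leaf (.up 7 949 3)))) (.node (.node (.leaf (.up 7 1547 2)) (.leaf (.up 6 1917 0))) (.node (.leaf (.up 7 352 3)) (.leaf (.up 7 1265 1))))) (.node (.node (.node (.leaf (.up 5 1286 1)) (.leaf (.up 7 316 1))) (.node (.leaf (.up 6 216 2)) (.leaf (.up 6 1205 1)))) (.node (.node (.leaf (.up 7 1794 1)) (.leaf (.up 7 325 0))) (.node (.leaf (.up 6 1305 0)) (.leaf (.up 7 2022 3)))))) (.node (.node (.node (.node (.leaf (.up 7 1478 1)) (.leaf (.up 7 1397 0))) (.node (.leaf (.up 5 1190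 3)) (.leaf (.up 8 982 2)))) (.node (.node (.leaf (.up 8 813 3)) (.leaf (.up 8 1016 1))) (.node (.leaf (.up 4 587 1)) (.leaf (.up 9 175 2))))) (.node (.node (.node (.leaf (.up 7 1926 1)) (.leaf (.up 8 956 1))) (.node (.leaf (.up 5 1912 3)) (.leaf (.up 5 544 3)))) (.node (.node (.leaf (.up 6 1648 2)) (.leaf (.up 6 440 1))) (.node (.leaf (.up 7 245 3)) (.leaf (.up 7 1073 1)))))))) (.node (.node (.node (.node (.node (.node (.leaf (.up 5 1215 0)) (.leaf (.up 7 481 0))) (.node (.leaf (.up 6 1169 3)) (.leaf (.up 7 1791 1)))) (.node (.node (.leaf (.up 8 1725 0)) (.leaf (.up 5 370 1))) (.node (.leaf (.up 7 796 3)) (.leaf (.up 6 737 0))))) (.node (.node (.node (.leaf (.up 7 1865 3)) (.leaf (.up 5 1903 2))) (.node (.leaf (.up 6 901 0)) (.leaf (.up 5 1215 1)))) (.node (.node (.leaf (.up 8 133 0)) (.leaf (.up 8 1046 2))) (.node (.leaf (.up 6 1252 2)) (.leaf (.up 5 1434 3)))))) (.node (.node (.node (.node (.leaf (.up 6 1205 0)) (.leaf (.up 5 900 3))) (.node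 (.leaf (.up 6 1754 3)) (.leaf (.up 4 233 0)))) (.node (.node (.leaf (.up 6 1992 1)) (.leaf (.up 7 1010 1))) (.node (.leaf (.up 7 343 3)) (.leaf (.up 7 747 0))))) (.node (.node (.node (.leaf (.up 7 653 0)) (.leaf (.up 7 950 1))) (.node (.leaf (.up 7 1284 3)) (.leaf (.up 7 1599 1)))) (.node (.node (.leaf (.up 6 655 3)) (.leaf (.up 4 576 2))) (.node (.leaf (.up 1 1 1)) (.leaf (.up 6 1235 0))))))) (.node (.node (.node (.node (.node (.leaf (.up 6 1348 1)) (.leaf (.up 6 1708 2))) (.node (.leaf (.up 4 1470 0)) (.leaf (.up 4 1838 3)))) (.node (.node (.leaf (.up 5 1533 3)) (.leaf (.up 8 992 0))) (.node (.leaf (.up 7 1980 0)) (.leaf (.up 4 1779 1))))) (.node (.node (.node (.leaf (.up 8 1796 1)) (.leaf (.up 7 830 1))) (.node (.leaf (.up 7 653 1)) (.leaf (.up 6 1752 0)))) (.node (.node (.leaf (.up 3 1280 1)) (.leaf (.up 6 314 1))) (.node (.leaf (.up 7 388 0)) (.leaf (.up 7 1203 1)))))) (.node (.node (.node (.node (.leaf (.up 7 1206 0)) (.leaf (.up 8 488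 0))) (.node (.leaf (.up 5 589 1)) (.leaf (.up 8 1655 1)))) (.node (.node (.leaf (.up 6 1472 1)) (.leaf (.up 8 899 2))) (.node (.leaf (.up 7 73 1)) (.leaf (.up 9 4 2))))) (.node (.node (.node (.leaf (.up 5 1442 2)) (.leaf (.up 6 446 1))) (.node (.leaf (.up 7 995 3)) (.leaf (.up 7 1079 1)))) (.node (.node (.leaf (.up 6 1920 1)) (.leaf (.up 7 1454 2))) (.node (.leaf (.up 3 1134 3)) (.leaf (.up 6 1577 2))))))))

noncomputable def vt1_0_1001 : Tr VStep :=
  .node (.node (.node (.node (.node (.node (.node (.leaf (.up 7 237 2)) (.leaf (.up 7 315 1))) (.node (.leaf (.up 4 874 2)) (.leaf (.up 7 1367 3)))) (.node (.node (.leaf (.up 6 1924 3)) (.leaf (.up 7 732 3))) (.node (.leaf (.up 8 1922 3)) (.leaf (.up 6 730 3))))) (.node (.node (.node (.leaf (.up 7 1857 1)) (.leaf (.up 5 1461 2))) (.node (.leaf (.up 2 977 3)) (.leaf (.up 8 1586 2)))) (.node (.node (.leaf (.up 6 1465 2)) (.leaf (.up 6 258 3))) (.node (.leaf (.up 7 1598 2)) (.leaf (.up 8 1355 2))))))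 (.node (.node (.node (.node (.leaf (.up 6 1921 1)) (.leaf (.up 6 1486 2))) (.node (.leaf (.up 6 1340 2)) (.leaf (.up 6 1078 0)))) (.node (.node (.leaf (.up 7 616 0)) (.leaf (.up 6 447 1))) (.node (.leaf (.up 2 12 1)) (.leaf (.up 6 1078 1))))) (.node (.node (.node (.leaf (.up 6 1618 0)) (.leaf (.up 7 995 2))) (.node (.leaf (.up 8 410 3)) (.leaf (.up 6 1218 3)))) (.node (.node (.leaf (.up 7 1104 0)) (.leaf (.up 3 841 3))) (.node (.leaf (.up 6 1559 3)) (.leaf (.up 2 12 0))))))) (.node (.node (.node (.node (.node (.leaf (.up 7 1801 1)) (.leaf (.up 5 1142 2))) (.node (.leaf (.up 7 640 1)) (.leaf (.up 5 1722 1)))) (.node (.node (.leaf (.up 6 1293 1)) (.leaf (.up 6 1083 3))) (.node (.leaf (.up 6 867 0)) (.leaf (.up 6 1085 3))))) (.node (.node (.node (.leaf (.up 6 1328 3)) (.leaf (.up 6 773 0))) (.node (.leaf (.up 6 1334 3)) (.leaf (.up 8 519 0)))) (.node (.node (.leaf (.up 7 1869 1)) (.leaf (.up 6 290 2))) (.node (.leaf (.up 5 708 1)) (.leaf (.up 6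 2019 3)))))) (.node (.node (.node (.node (.leaf (.up 7 1417 1)) (.leaf (.up 5 544 2))) (.node (.leaf (.up 1 0 1)) (.leaf (.up 6 1077 0)))) (.node (.node (.leaf (.up 8 556 2)) (.leaf (.up 4 1845 0))) (.node (.leaf (.up 8 814 3)) (.leaf (.up 6 1654 3))))) (.node (.node (.node (.leaf (.up 3 1993 1)) (.leaf (.up 7 1037 2))) (.node (.leaf (.up 4 576 1)) (.leaf (.up 7 1658 1)))) (.node (.node (.leaf (.up 7 1025 2)) (.leaf (.up 6 503 1))) (.node (.leaf (.up 6 68 1)) (.leaf (.up 6 15 0)))))))) (.node (.node (.node (.node (.node (.node (.leaf (.up 7 1170 3)) (.leaf (.up 6 419 0))) (.node (.leaf (.up 7 1535 0)) (.leaf (.up 6 460 3)))) (.node (.node (.leaf (.up 6 1287 1)) (.leaf (.up 5 74 2))) (.node (.leaf (.up 8 2045 0)) (.leaf (.up 8 675 0))))) (.node (.node (.node (.leaf (.up 6 1868 3)) (.leaf (.up 6 532 3))) (.node (.leaf (.up 7 1866 3)) (.leaf (.up 7 1264 1)))) (.node (.node (.leaf (.up 6 1863 1)) (.leaf (.up 8 893 1))) (.node (.leaf (.up 6 453 0))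 (.leaf (.up 7 1780 1)))))) (.node (.node (.node (.node (.leaf (.up 7 1753 3)) (.leaf (.up 7 897 3))) (.node (.leaf (.up 5 10 1)) (.leaf (.up 8 171 0)))) (.node (.node (.leaf (.up 5 1385 2)) (.leaf (.up 9 957 1))) (.node (.leaf (.up 6 2039 0)) (.leaf (.up 6 1034 3))))) (.node (.node (.node (.leaf (.up 6 719 0)) (.leaf (.up 6 1017 1))) (.node (.leaf (.up 8 1281 3)) (.leaf (.up 6 1648 1)))) (.node (.node (.leaf (.up 7 1479 1)) (.leaf (.up 7 509 1))) (.node (.leaf (.up 6 78 1)) (.leaf (.up 6 1169 0))))))) (.node (.node (.node (.node (.node (.leaf (.up 6 1960 2)) (.leaf (.up 6 1837 3))) (.node (.leaf (.up 6 627 3)) (.leaf (.up 4 1882 2)))) (.node (.node (.leaf (.up 7 1528 3)) (.leaf (.up 7 160 3))) (.node (.leaf (.up 7 646 1)) (.leaf (.up 7 672 0))))) (.node (.node (.node (.leaf (.up 6 1867 1)) (.leaf (.up 7 1944 0))) (.node (.leaf (.up 8 429 3)) (.leaf (.up 6 1690 0)))) (.node (.node (.leaf (.up 8 196 0)) (.leaf (.up 5 894 3))) (.node (.leaf (.up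 6 454 0)) (.leaf (.up 7 1176 0)))))) (.node (.node (.node (.node (.leaf (.up 7 1268 0)) (.leaf (.up 5 426 0))) (.node (.leaf (.up 7 1526 0)) (.leaf (.up 7 1376 3)))) (.node (.node (.leaf (.up 7 1423 1)) (.leaf (.up 7 747 3))) (.node (.leaf (.up 8 6 1)) (.leaf (.up 5 749 3))))) (.node (.node (.node (.leaf (.up 6 1483 1)) (.leaf (.up 3 1938 0))) (.node (.leaf (.up 8 66 1)) (.leaf (.up 7 1680 0)))) (.node (.node (.leaf (.up 7 1133 3)) (.leaf (.up 6 1424 0))) (.node (.leaf (.up 5 1131 3)) (.leaf (.up 6 1112 2))))))))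

noncomputable def vt1_0_100 : Tr VStep := .node vt1_0_1000 vt1_0_1001

noncomputable def vt1_0_1010 : Tr VStep :=
  .node (.node (.node (.node (.node (.node (.node (.leaf (.up 7 8 3)) (.leaf (.up 8 1360 3))) (.node (.leaf (.up 7 727 1)) (.leaf (.up 7 1773 1)))) (.node (.node (.leaf (.up 5 1370 1)) (.leaf (.up 7 245 0))) (.node (.leaf (.up 5 211 1)) (.leaf (.up 6 503 0))))) (.node (.node (.node (.leaf (.up 7 1310 1)) (.leaf (.up 6 181 2))) (.node (.leaf (.up 6 147 0)) (.leaf (.up 7 1197 1)))) (.node (.node (.leaf (.up 7 1818 1)) (.leaf (.up 6 972 2))) (.node (.leaf (.up 5 1117 3)) (.leaf (.up 6 261 3)))))) (.node (.node (.node (.node (.leaf (.up 7 1502 1)) (.leaf (.up 6 1819 3))) (.node (.leaf (.up 7 1697 0)) (.leaf (.up 3 841 2)))) (.node (.node (.leaf (.up 6 1486 3)) (.leaf (.up 6 255 0))) (.node (.leaf (.up 3 1187 0)) (.leaf (.up 6 48 2))))) (.node (.node (.node (.leaf (.up 6 413 3)) (.leaf (.up 5 1763 2))) (.node (.leaf (.up 7 535 1)) (.leaf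 (.up 6 1581 1)))) (.node (.node (.leaf (.up 5 1434 1)) (.leaf (.up 5 1434 2))) (.node (.leaf (.up 5 667 0)) (.leaf (.up 6 1065 1))))))) (.node (.node (.node (.node (.node (.leaf (.up 7 1775 3)) (.leaf (.up 7 364 1))) (.node (.leaf (.up 7 1704 0)) (.leaf (.up 8 1253 1)))) (.node (.node (.leaf (.up 6 354 3)) (.leaf (.up 7 1082 3))) (.node (.leaf (.up 8 731 1)) (.leaf (.up 6 1761 1))))) (.node (.node (.node (.leaf (.up 8 1070 2)) (.leaf (.up 8 105 3))) (.node (.leaf (.up 6 1335 3)) (.leaf (.up 6 1486 0)))) (.node (.node (.leaf (.up 7 1879 2)) (.leaf (.up 8 2020 3))) (.node (.leaf (.up 5 658 0)) (.leaf (.up 8 1185 1)))))) (.node (.node (.node (.node (.leaf (.up 6 1952 0)) (.leaf (.up 8 1824 2))) (.node (.leaf (.up 6 1698 0)) (.leaf (.up 10 506 3)))) (.node (.node (.leaf (.up 5 1442 0)) (.leaf (.up 8 1113 2))) (.node (.leaf (.up 5 91 1)) (.leaf (.up 8 1655 3))))) (.node (.node (.node (.leaf (.up 8 1914 3)) (.leaf (.up 7 428 1))) (.node (.leaf (.up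 5 154 0)) (.leaf (.up 6 548 3)))) (.node (.node (.leaf (.up 3 1938 1)) (.leaf (.up 7 936 1))) (.node (.leaf (.up 6 241 3)) (.leaf (.up 7 1449 3)))))))) (.node (.node (.node (.node (.node (.node (.leaf (.up 5 1372 1)) (.leaf (.up 7 459 3))) (.node (.leaf (.up 6 213 1)) (.leaf (.up 5 1460 2)))) (.node (.node (.leaf (.up 6 798 3)) (.leaf (.up 6 866 1))) (.node (.leaf (.up 5 1464 2)) (.leaf (.up 6 1600 3))))) (.node (.node (.node (.leaf (.up 7 1820 1)) (.leaf (.up 6 806 1))) (.node (.leaf (.up 5 1038 0)) (.leaf (.up 7 921 2)))) (.node (.node (.leaf (.up 8 192 3)) (.leaf (.up 6 290 1))) (.node (.leaf (.up 8 145 1)) (.leaf (.up 6 224 2)))))) (.node (.node (.node (.node (.leaf (.up 6 1752 3)) (.leaf (.up 7 101 2))) (.node (.leaf (.up 6 572 0)) (.leaf (.up 8 1647 1)))) (.node (.node (.leaf (.up 7 316 0)) (.leaf (.up 7 1037 3))) (.node (.leaf (.up 7 81 1)) (.leaf (.up 5 1131 1))))) (.node (.node (.node (.leaf (.up 5 1286 0)) (.leaf (.up 6 94 3))) (.node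 (.leaf (.up 3 1280 3)) (.leaf (.up 5 346 0)))) (.node (.node (.leaf (.up 7 651 3)) (.leaf (.up 7 602 0))) (.node (.leaf (.up 7 653 3)) (.leaf (.up 7 1579 1))))))) (.node (.node (.node (.node (.node (.leaf (.up 6 680 2)) (.leaf (.up 5 477 2))) (.node (.leaf (.up 5 303 2)) (.leaf (.up 6 1767 1)))) (.node (.node (.leaf (.up 7 465 2)) (.leaf (.up 5 362 1))) (.node (.leaf (.up 7 1535 3)) (.leaf (.up 3 1251 1))))) (.node (.node (.node (.leaf (.up 5 426 3)) (.leaf (.up 5 2032 2))) (.node (.leaf (.up 5 157 1)) (.leaf (.up 7 1268 3)))) (.node (.node (.leaf (.up 6 1805 0)) (.leaf (.up 4 810 1))) (.node (.leaf (.up 6 1551 0)) (.leaf (.up 8 1699 1)))))) (.node (.node (.node (.node (.leaf (.up 6 829 0)) (.leaf (.up 9 494 1))) (.node (.leaf (.up 6 1913 2)) (.leaf (.up 8 1127 1)))) (.node (.node (.leaf (.up 7 319 0)) (.leaf (.up 6 1266 2))) (.node (.leaf (.up 5 1972 3)) (.leaf (.up 8 1379 0))))) (.node (.node (.node (.leaf (.up 6 1940 1)) (.leaf (.up 5 91 0)))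 (.node (.leaf (.up 6 541 1)) (.leaf (.up 6 345 0)))) (.node (.node (.leaf (.up 5 426 2)) (.leaf (.up 5 426 1))) (.node (.leaf (.up 8 1541 0)) (.leaf (.up 6 859 0))))))))

noncomputable def vt1_0_1011 : Tr VStep :=
  .node (.node (.node (.node (.node (.node (.node (.leaf (.up 7 1809 1)) (.leaf (.up 6 811 1))) (.node (.leaf (.up 7 664 1)) (.leaf (.up 6 1698 1)))) (.node (.node (.leaf (.up 6 1920 3)) (.leaf (.up 5 303 1))) (.node (.leaf (.up 6 1259 0)) (.leaf (.up 5 1190 1))))) (.node (.node (.node (.leaf (.up 4 433 2)) (.leaf (.up 3 363 1))) (.node (.leaf (.up 6 216 1)) (.leaf (.up 6 1250 1)))) (.node (.node (.leaf (.up 2 977 0)) (.leaf (.up 5 445 2))) (.node (.leaf (.up 6 1112 3)) (.leaf (.up 10 256 3)))))) (.node (.node (.node (.node (.leaf (.up 6 582 3)) (.leaf (.up 8 427 1))) (.node (.leaf (.up 4 576 3)) (.leaf (.up 8 1816 3)))) (.node (.node (.leaf (.up 4 691 2)) (.leaf (.up 4 943 1))) (.node (.leaf (.up 7 308 2)) (.leaf (.up 6 447 0)))))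 (.node (.node (.node (.leaf (.up 7 2001 1)) (.leaf (.up 6 1003 1))) (.node (.leaf (.up 7 600 1)) (.leaf (.up 7 1813 2)))) (.node (.node (.leaf (.up 6 1182 2)) (.leaf (.up 7 495 1))) (.node (.leaf (.up 8 1555 3)) (.leaf (.up 6 843 3))))))) (.node (.node (.node (.node (.node (.leaf (.up 6 1305 1)) (.leaf (.up 5 291 1))) (.node (.leaf (.up 8 1772 3)) (.leaf (.up 5 948 0)))) (.node (.node (.leaf (.up 5 1821 1)) (.leaf (.up 6 1087 3))) (.node (.leaf (.up 7 1256 0)) (.leaf (.up 5 438 0))))) (.node (.node (.node (.leaf (.up 7 464 0)) (.leaf (.up 6 867 1))) (.node (.leaf (.up 7 1330 3)) (.leaf (.up 7 1420 0)))) (.node (.node (.leaf (.up 7 1318 2)) (.leaf (.up 7 1676 0))) (.node (.leaf (.up 7 212 1)) (.leaf (.up 7 1934 0)))))) (.node (.node (.node (.node (.leaf (.up 8 1185 3)) (.leaf (.up 6 931 1))) (.node (.leaf (.up 9 1760 0)) (.leaf (.up 7 511 3)))) (.node (.node (.leaf (.up 8 1437 1)) (.leaf (.up 7 1576 2))) (.node (.leaf (.up 4 810 3)) (.leaf (.up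 7 444 0))))) (.node (.node (.node (.leaf (.up 6 474 0)) (.leaf (.up 7 551 3))) (.node (.leaf (.up 4 80 1)) (.leaf (.up 6 545 3)))) (.node (.node (.leaf (.up 7 242 3)) (.leaf (.up 7 999 1))) (.node (.leaf (.up 5 247 2)) (.leaf (.up 6 1924 0)))))))) (.node (.node (.node (.node (.node (.node (.leaf (.up 7 1847 2)) (.leaf (.up 7 297 1))) (.node (.leaf (.up 5 154 1)) (.leaf (.up 7 1184 1)))) (.node (.node (.leaf (.up 6 372 0)) (.leaf (.up 6 1603 3))) (.node (.leaf (.up 3 1993 2)) (.leaf (.up 4 1605 3))))) (.node (.node (.node (.leaf (.up 4 1358 0)) (.leaf (.up 9 16 0))) (.node (.leaf (.up 6 730 1)) (.leaf (.up 7 534 3)))) (.node (.node (.leaf (.up 5 611 2)) (.leaf (.up 7 278 2))) (.node (.leaf (.up 7 1614 0)) (.leaf (.up 6 1252 1)))))) (.node (.node (.node (.node (.leaf (.up 7 1757 3)) (.leaf (.up 4 1570 0))) (.node (.leaf (.up 7 1755 3)) (.leaf (.up 6 1568 1)))) (.node (.node (.leaf (.up 7 1431 1)) (.leaf (.up 8 1032 3))) (.node (.leaf (.up 6 124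 0)) (.leaf (.up 5 1038 3))))) (.node (.node (.node (.leaf (.up 4 1491 1)) (.leaf (.up 5 91 3))) (.node (.leaf (.up 8 90 1)) (.leaf (.up 6 280 0)))) (.node (.node (.leaf (.up 4 2007 1)) (.leaf (.up 6 1005 1))) (.node (.leaf (.up 6 648 3)) (.leaf (.up 7 2000 3))))))) (.node (.node (.node (.node (.node (.leaf (.up 6 625 3)) (.leaf (.up 5 940 2))) (.node (.leaf (.up 5 658 1)) (.leaf (.up 7 1833 0)))) (.node (.node (.leaf (.up 4 928 2)) (.leaf (.up 6 213 2))) (.node (.leaf (.up 5 39 2)) (.leaf (.up 6 162 3))))) (.node (.node (.node (.leaf (.up 5 1357 0)) (.leaf (.up 7 1271 3))) (.node (.leaf (.up 8 1103 0)) (.leaf (.up 7 1256 1)))) (.node (.node (.leaf (.up 4 1570 3)) (.leaf (.up 6 869 1))) (.node (.leaf (.up 8 1572 3)) (.leaf (.up 7 787 0)))))) (.node (.node (.node (.node (.leaf (.up 5 58 3)) (.leaf (.up 7 1530 2))) (.node (.leaf (.up 8 1288 2)) (.leaf (.up 8 1380 3)))) (.node (.node (.leaf (.up 5 1951 1)) (.leaf (.up 6 933 1))) (.node (.leaf (.up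 7 534 1)) (.leaf (.up 5 745 3))))) (.node (.node (.node (.leaf (.up 4 1351 0)) (.leaf (.up 7 983 2))) (.node (.leaf (.up 7 594 1)) (.leaf (.up 4 80 2)))) (.node (.node (.leaf (.up 6 1129 3)) (.leaf (.up 4 485 1))) (.node (.leaf (.up 6 86 1)) (.leaf (.up 7 809 2))))))))

noncomputable def vt1_0_101 : Tr VStep := .node vt1_0_1010 vt1_0_1011

noncomputable def vt1_0_10 : Tr VStep := .node vt1_0_100 vt1_0_101

noncomputable def vt1_0_1100 : Tr VStep :=
  .node (.node (.node (.node (.node (.node (.node (.leaf (.up 7 520 3)) (.leaf (.up 7 628 1))) (.node (.leaf (.up 6 290 0)) (.leaf (.up 8 2045 1)))) (.node (.node (.leaf (.up 7 1413 3)) (.leaf (.up 5 221 3))) (.node (.leaf (.up 6 860 2)) (.leaf (.up 7 1662 0))))) (.node (.node (.node (.leaf (.up 5 1038 1)) (.leaf (.up 7 1166 3))) (.node (.leaf (.up 7 464 3)) (.leaf (.up 7 1469 1)))) (.node (.node (.leaf (.up 8 1050 0)) (.leaf (.up 6 324 0))) (.node (.leaf (.up 7 1629 3)) (.leaf (.up 6 773 3)))))) (.node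 (.node (.node (.node (.leaf (.up 8 42 0)) (.leaf (.up 7 1307 3))) (.node (.leaf (.up 8 69 3)) (.leaf (.up 5 1286 2)))) (.node (.node (.leaf (.up 7 552 0)) (.leaf (.up 7 1528 2))) (.node (.leaf (.up 4 810 0)) (.leaf (.up 6 1913 1))))) (.node (.node (.node (.leaf (.up 7 985 2)) (.leaf (.up 6 844 0))) (.node (.leaf (.up 6 94 2)) (.leaf (.up 6 811 2)))) (.node (.node (.leaf (.up 5 1162 1)) (.leaf (.up 7 176 1))) (.node (.leaf (.up 8 1298 0)) (.leaf (.up 7 76 0))))))) (.node (.node (.node (.node (.node (.leaf (.up 8 1100 2)) (.leaf (.up 6 124 1))) (.node (.leaf (.up 7 463 1)) (.leaf (.up 4 433 3)))) (.node (.node (.leaf (.up 4 1845 2)) (.leaf (.up 6 1594 3))) (.node (.leaf (.up 7 971 1)) (.leaf (.up 7 2033 1))))) (.node (.node (.node (.leaf (.up 5 1841 3)) (.leaf (.up 2 617 3))) (.node (.leaf (.up 7 1847 3)) (.leaf (.up 7 659 2)))) (.node (.node (.leaf (.up 5 1026 1)) (.leaf (.up 9 56 1))) (.node (.leaf (.up 5 395 1)) (.leaf (.up 7 1457 1)))))) (.node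 (.node (.node (.node (.leaf (.up 7 1734 1)) (.leaf (.up 8 764 1))) (.node (.leaf (.up 4 847 1)) (.leaf (.up 9 1909 1)))) (.node (.node (.leaf (.up 6 1218 1)) (.leaf (.up 7 534 2))) (.node (.leaf (.up 5 303 3)) (.leaf (.up 8 1655 0))))) (.node (.node (.node (.leaf (.up 7 1158 1)) (.leaf (.up 2 34 3))) (.node (.leaf (.up 7 271 1)) (.leaf (.up 4 36 3)))) (.node (.node (.leaf (.up 6 1043 0)) (.leaf (.up 5 333 0))) (.node (.leaf (.up 6 1297 0)) (.leaf (.up 5 1841 1)))))))) (.node (.node (.node (.node (.node (.node (.leaf (.up 8 1683 3)) (.leaf (.up 5 118 1))) (.node (.leaf (.up 6 453 1)) (.leaf (.up 7 1535 1)))) (.node (.node (.leaf (.up 8 1727 0)) (.leaf (.up 6 773 2))) (.node (.leaf (.up 6 280 3)) (.leaf (.up 7 1088 3))))) (.node (.node (.node (.leaf (.up 5 1357 3)) (.leaf (.up 5 1617 2))) (.node (.leaf (.up 6 901 1)) (.leaf (.up 7 1753 0)))) (.node (.node (.leaf (.up 7 1629 2)) (.leaf (.up 6 1320 2))) (.node (.leaf (.up 6 385 1)) (.leaf (.up 7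 1243 0)))))) (.node (.node (.node (.node (.leaf (.up 7 1240 3)) (.leaf (.up 7 758 1))) (.node (.leaf (.up 4 837 1)) (.leaf (.up 6 1919 1)))) (.node (.node (.leaf (.up 8 1717 0)) (.leaf (.up 6 1003 0))) (.node (.leaf (.up 7 1975 0)) (.leaf (.up 5 745 0))))) (.node (.node (.node (.leaf (.up 4 882 2)) (.leaf (.up 5 7 2))) (.node (.leaf (.up 6 261 1)) (.leaf (.up 7 600 3)))) (.node (.node (.leaf (.up 5 141 0)) (.leaf (.up 3 690 1))) (.node (.leaf (.up 5 141 3)) (.leaf (.up 7 249 2))))))) (.node (.node (.node (.node (.node (.leaf (.up 6 1214 0)) (.leaf (.up 3 1938 2))) (.node (.leaf (.up 8 1468 0)) (.leaf (.up 6 2039 1)))) (.node (.node (.leaf (.up 7 1088 1)) (.leaf (.up 6 122 1))) (.node (.leaf (.up 7 1049 2)) (.leaf (.up 7 736 0))))) (.node (.node (.node (.leaf (.up 5 1028 1)) (.leaf (.up 6 447 2))) (.node (.leaf (.up 3 397 1)) (.leaf (.up 6 568 2)))) (.node (.node (.leaf (.up 7 1536 1)) (.leaf (.up 8 710 2))) (.node (.leaf (.up 7 390 0)) (.leaf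 (.up 7 1240 0)))))) (.node (.node (.node (.node (.leaf (.up 7 1220 1)) (.leaf (.up 9 490 0))) (.node (.leaf (.up 5 333 1)) (.leaf (.up 9 579 2)))) (.node (.node (.leaf (.up 8 1458 3)) (.leaf (.up 9 1000 0))) (.node (.leaf (.up 3 841 1)) (.leaf (.up 6 314 2))))) (.node (.node (.node (.leaf (.up 7 481 3)) (.leaf (.up 7 702 1))) (.node (.leaf (.up 6 910 0)) (.leaf (.up 3 1744 0)))) (.node (.node (.leaf (.up 7 1152 1)) (.leaf (.up 7 820 3))) (.node (.leaf (.up 7 396 0)) (.leaf (.up 6 1234 0))))))))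

noncomputable def vt1_0_1101 : Tr VStep :=
  .node (.node (.node (.node (.node (.node (.node (.leaf (.up 6 98 0)) (.leaf (.up 6 1877 3))) (.node (.leaf (.up 7 352 0)) (.leaf (.up 6 1875 3)))) (.node (.node (.leaf (.up 7 682 2)) (.leaf (.up 6 216 3))) (.node (.leaf (.up 6 866 0)) (.leaf (.up 7 1462 1))))) (.node (.node (.node (.leaf (.up 6 467 3)) (.leaf (.up 9 123 1))) (.node (.leaf (.up 6 1145 2)) (.leaf (.up 4 1165 3)))) (.node (.node (.leaf (.up 4 1605 1)) (.leaf (.up 5 639 1))) (.node (.leaf (.up 5 1370 0)) (.leaf (.up 9 2038 1)))))) (.node (.node (.node (.node (.leaf (.up 6 1153 1)) (.leaf (.up 5 187 1))) (.node (.leaf (.up 3 264 1)) (.leaf (.up 7 1330 1)))) (.node (.node (.leaf (.up 8 1669 1)) (.leaf (.up 7 659 3))) (.node (.leaf (.up 5 1915 2)) (.leaf (.up 5 1038 2))))) (.node (.node (.node (.leaf (.up 7 1616 0)) (.leaf (.up 7 763 1))) (.node (.leaf (.up 5 926 3)) (.leaf (.up 5 1906 1)))) (.node (.node (.leaf (.up 6 1106 0)) (.leaf (.up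 5 333 3))) (.node (.leaf (.up 6 332 1)) (.leaf (.up 8 547 2))))))) (.node (.node (.node (.node (.node (.leaf (.up 8 97 0)) (.leaf (.up 7 51 1))) (.node (.leaf (.up 6 1260 3)) (.leaf (.up 6 1085 0)))) (.node (.node (.leaf (.up 5 611 0)) (.leaf (.up 5 1585 2))) (.node (.leaf (.up 5 865 0)) (.leaf (.up 5 1593 3))))) (.node (.node (.node (.leaf (.up 7 1609 1)) (.leaf (.up 6 627 1))) (.node (.leaf (.up 8 919 2)) (.leaf (.up 7 2042 1)))) (.node (.node (.leaf (.up 7 185 3)) (.leaf (.up 6 261 0))) (.node (.leaf (.up 9 191 3)) (.leaf (.up 5 7 0)))))) (.node (.node (.node (.node (.leaf (.up 7 1697 3)) (.leaf (.up 4 691 1))) (.node (.leaf (.up 9 361 0)) (.leaf (.up 5 1023 3)))) (.node (.node (.leaf (.up 2 617 0)) (.leaf (.up 7 1847 0))) (.node (.leaf (.up 8 149 2)) (.leaf (.up 7 1589 0))))) (.node (.node (.node (.leaf (.up 6 1606 2)) (.leaf (.up 5 39 3))) (.node (.leaf (.up 6 320 1)) (.leaf (.up 7 33 3)))) (.node (.node (.leaf (.up 6 1105 0)) (.leaf (.up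 7 271 0))) (.node (.leaf (.up 5 1720 2)) (.leaf (.up 7 1964 3)))))))) (.node (.node (.node (.node (.node (.node (.leaf (.up 6 1279 0)) (.leaf (.up 7 57 1))) (.node (.leaf (.up 5 1533 0)) (.leaf (.up 6 163 0)))) (.node (.node (.leaf (.up 5 1789 0)) (.leaf (.up 6 573 1))) (.node (.leaf (.up 6 910 1)) (.leaf (.up 5 1972 1))))) (.node (.node (.node (.leaf (.up 6 1877 2)) (.leaf (.up 8 633 1))) (.node (.leaf (.up 4 1358 3)) (.leaf (.up 5 2032 1)))) (.node (.node (.leaf (.up 7 197 0)) (.leaf (.up 6 125 1))) (.node (.leaf (.up 6 1963 2)) (.leaf (.up 6 1246 2)))))) (.node (.node (.node (.node (.leaf (.up 4 1838 2)) (.leaf (.up 8 389 3))) (.node (.leaf (.up 7 1193 2)) (.leaf (.up 7 169 0)))) (.node (.node (.leaf (.up 6 1159 1)) (.leaf (.up 6 937 0))) (.node (.leaf (.up 5 270 1)) (.leaf (.up 8 1332 1))))) (.node (.node (.node (.leaf (.up 7 1219 1)) (.leaf (.up 6 630 2))) (.node (.leaf (.up 7 330 1)) (.leaf (.up 6 1681 0)))) (.node (.node (.leaf (.up 7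 1735 1)) (.leaf (.up 7 271 2))) (.node (.leaf (.up 6 136 3)) (.leaf (.up 6 1171 0))))))) (.node (.node (.node (.node (.node (.leaf (.up 7 1547 1)) (.leaf (.up 5 561 1))) (.node (.leaf (.up 6 1297 2)) (.leaf (.up 6 1327 3)))) (.node (.node (.leaf (.up 6 1790 0)) (.leaf (.up 4 928 0))) (.node (.leaf (.up 5 1640 2)) (.leaf (.up 7 1309 2))))) (.node (.node (.node (.leaf (.up 4 943 3)) (.leaf (.up 8 113 1))) (.node (.leaf (.up 6 937 3)) (.leaf (.up 7 1528 1)))) (.node (.node (.leaf (.up 7 962 2)) (.leaf (.up 7 183 2))) (.node (.leaf (.up 8 966 1)) (.leaf (.up 7 2044 1)))))) (.node (.node (.node (.node (.leaf (.up 8 192 2)) (.leaf (.up 7 949 2))) (.node (.leaf (.up 6 572 3)) (.leaf (.up 8 170 0)))) (.node (.node (.leaf (.up 7 1679 1)) (.leaf (.up 6 938 0))) (.node (.leaf (.up 7 774 1)) (.leaf (.up 4 233 3))))) (.node (.node (.node (.leaf (.up 6 1739 1)) (.leaf (.up 6 1212 3))) (.node (.leaf (.up 6 834 1)) (.leaf (.up 5 1912 1)))) (.node (.node (.leaf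 (.up 7 1641 3)) (.leaf (.up 6 1761 2))) (.node (.leaf (.up 8 1555 2)) (.leaf (.up 7 1382 2))))))))

noncomputable def vt1_0_110 : Tr VStep := .node vt1_0_1100 vt1_0_1101

noncomputable def vt1_0_1110 : Tr VStep :=
  .node (.node (.node (.node (.node (.node (.node (.leaf (.up 4 1118 1)) (.leaf (.up 6 1958 2))) (.node (.leaf (.up 7 1876 2)) (.leaf (.up 7 1015 0)))) (.node (.node (.leaf (.up 7 1449 0)) (.leaf (.up 5 247 0))) (.node (.leaf (.up 6 1069 2)) (.leaf (.up 6 501 0))))) (.node (.node (.node (.leaf (.up 8 466 3)) (.leaf (.up 5 395 2))) (.node (.leaf (.up 8 919 1)) (.leaf (.up 6 524 2)))) (.node (.node (.leaf (.up 7 913 0)) (.leaf (.up 6 754 2))) (.node (.leaf (.up 7 659 0)) (.leaf (.up 7 1449 1)))))) (.node (.node (.node (.node (.leaf (.up 7 645 2)) (.leaf (.up 6 496 2))) (.node (.leaf (.up 6 258 2)) (.leaf (.up 6 1305 3)))) (.node (.node (.leaf (.up 8 1994 3)) (.leaf (.up 3 649 2))) (.node (.leaf (.up 7 635 2)) (.leaf (.up 5 1385 1)))))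 (.node (.node (.node (.leaf (.up 6 1182 1)) (.leaf (.up 7 1729 3))) (.node (.leaf (.up 7 155 0)) (.leaf (.up 6 1477 0)))) (.node (.node (.leaf (.up 6 1690 1)) (.leaf (.up 6 332 3))) (.node (.leaf (.up 7 787 1)) (.leaf (.up 7 330 3))))))) (.node (.node (.node (.node (.node (.leaf (.up 4 1622 1)) (.leaf (.up 7 758 0))) (.node (.leaf (.up 6 1706 0)) (.leaf (.up 7 975 2)))) (.node (.node (.leaf (.up 6 1106 1)) (.leaf (.up 7 1598 3))) (.node (.leaf (.up 8 1192 0)) (.leaf (.up 7 182 2))))) (.node (.node (.node (.leaf (.up 4 1845 3)) (.leaf (.up 9 44 1))) (.node (.leaf (.up 7 146 0)) (.leaf (.up 9 1445 1)))) (.node (.node (.leaf (.up 7 914 0)) (.leaf (.up 7 1308 2))) (.node (.leaf (.up 7 923 1)) (.leaf (.up 6 1691 2)))))) (.node (.node (.node (.node (.leaf (.up 7 1696 3)) (.leaf (.up 7 236 1))) (.node (.leaf (.up 7 1696 0)) (.leaf (.up 9 1381 1)))) (.node (.node (.leaf (.up 6 301 3)) (.leaf (.up 10 1141 3))) (.node (.leaf (.up 6 299 3)) (.leaf (.up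 9 1760 2))))) (.node (.node (.node (.leaf (.up 7 1686 1)) (.leaf (.up 7 1220 0))) (.node (.leaf (.up 6 152 0)) (.leaf (.up 5 948 2)))) (.node (.node (.leaf (.up 7 755 3)) (.leaf (.up 6 1963 3))) (.node (.leaf (.up 6 283 1)) (.leaf (.up 7 1313 1)))))))) (.node (.node (.node (.node (.node (.node (.leaf (.up 7 822 0)) (.leaf (.up 5 1640 0))) (.node (.leaf (.up 6 1681 3)) (.leaf (.up 5 1162 2)))) (.node (.node (.leaf (.up 6 282 3)) (.leaf (.up 6 98 1))) (.node (.leaf (.up 5 54 0)) (.leaf (.up 7 1384 0))))) (.node (.node (.node (.leaf (.up 7 597 2)) (.leaf (.up 4 80 0))) (.node (.leaf (.up 8 466 2)) (.leaf (.up 8 679 2)))) (.node (.node (.leaf (.up 4 300 2)) (.leaf (.up 6 601 2))) (.node (.leaf (.up 7 913 1)) (.leaf (.up 6 1963 1)))))) (.node (.node (.node (.node (.leaf (.up 7 558 2)) (.leaf (.up 5 230 1))) (.node (.leaf (.up 8 341 1)) (.leaf (.up 7 732 2)))) (.node (.node (.leaf (.up 6 1752 1)) (.leaf (.up 6 738 1))) (.node (.leaf (.up 8 720 2))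 (.leaf (.up 6 1551 3))))) (.node (.node (.node (.leaf (.up 7 1284 0)) (.leaf (.up 6 678 1))) (.node (.leaf (.up 6 1924 2)) (.leaf (.up 7 604 3)))) (.node (.node (.leaf (.up 6 1798 0)) (.leaf (.up 6 162 1))) (.node (.leaf (.up 6 1540 0)) (.leaf (.up 3 1928 2))))))) (.node (.node (.node (.node (.node (.leaf (.up 8 918 2)) (.leaf (.up 6 1643 0))) (.node (.leaf (.up 5 477 1)) (.leaf (.up 7 1897 0)))) (.node (.node (.leaf (.up 7 1616 1)) (.leaf (.up 5 922 2))) (.node (.leaf (.up 7 985 1)) (.leaf (.up 6 2019 1))))) (.node (.node (.node (.leaf (.up 6 1293 0)) (.leaf (.up 7 558 1))) (.node (.leaf (.up 7 936 3)) (.leaf (.up 7 337 0)))) (.node (.node (.leaf (.up 7 1040 1)) (.leaf (.up 7 593 0))) (.node (.leaf (.up 7 1549 0)) (.leaf (.up 6 381 3)))))) (.node (.node (.node (.node (.leaf (.up 6 1472 2)) (.leaf (.up 8 1717 2))) (.node (.leaf (.up 6 573 0)) (.leaf (.up 7 1330 2)))) (.node (.node (.leaf (.up 5 317 0)) (.leaf (.up 9 1123 0))) (.node (.leaf (.up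 6 345 1)) (.leaf (.up 8 1611 2))))) (.node (.node (.node (.leaf (.up 4 485 3)) (.leaf (.up 6 152 2))) (.node (.leaf (.up 7 285 1)) (.leaf (.up 7 347 0)))) (.node (.node (.leaf (.up 5 1640 3)) (.leaf (.up 7 682 1))) (.node (.leaf (.up 6 1646 3)) (.leaf (.up 5 102 2))))))))

noncomputable def vt1_0_1111 : Tr VStep :=
  .node (.node (.node (.node (.node (.node (.node (.leaf (.up 5 521 3)) (.leaf (.up 7 1495 2))) (.node (.leaf (.up 8 408 1)) (.leaf (.up 5 1442 1)))) (.node (.node (.leaf (.up 6 1557 1)) (.leaf (.up 6 181 0))) (.node (.leaf (.up 8 1257 0)) (.leaf (.up 6 1958 1))))) (.node (.node (.node (.leaf (.up 5 1617 1)) (.leaf (.up 10 619 1))) (.node (.leaf (.up 5 211 0)) (.leaf (.up 6 125 2)))) (.node (.node (.leaf (.up 6 979 0)) (.leaf (.up 6 131 2))) (.node (.leaf (.up 8 721 0)) (.leaf (.up 8 1510 1)))))) (.node (.node (.node (.node (.leaf (.up 6 2019 0)) (.leaf (.up 7 897 2))) (.node (.leaf (.up 4 883 2)) (.leaf (.up 7 1308 3)))) (.node (.node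 (.leaf (.up 7 909 2)) (.leaf (.up 9 175 1))) (.node (.leaf (.up 3 1251 0)) (.leaf (.up 5 445 0))))) (.node (.node (.node (.leaf (.up 7 1753 2)) (.leaf (.up 7 235 1))) (.node (.leaf (.up 5 922 3)) (.leaf (.up 7 1415 0)))) (.node (.node (.leaf (.up 6 1749 1)) (.leaf (.up 6 1749 2))) (.node (.leaf (.up 6 860 1)) (.leaf (.up 7 1925 0))))))) (.node (.node (.node (.node (.node (.leaf (.up 6 332 2)) (.leaf (.up 5 438 3))) (.node (.leaf (.up 6 715 2)) (.leaf (.up 6 446 2)))) (.node (.node (.leaf (.up 4 1512 0)) (.leaf (.up 5 39 1))) (.node (.leaf (.up 6 869 3)) (.leaf (.up 7 1454 1))))) (.node (.node (.node (.leaf (.up 8 466 0)) (.leaf (.up 7 616 3))) (.node (.leaf (.up 7 464 1)) (.leaf (.up 7 1422 0)))) (.node (.node (.leaf (.up 6 189 3)) (.leaf (.up 7 1678 0))) (.node (.leaf (.up 3 722 0)) (.leaf (.up 6 1507 3)))))) (.node (.node (.node (.node (.leaf (.up 7 1701 3)) (.leaf (.up 6 163 1))) (.node (.leaf (.up 8 1699 3)) (.leaf (.up 7 1322 1)))) (.node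 (.node (.leaf (.up 8 1693 1)) (.leaf (.up 6 188 0))) (.node (.leaf (.up 8 2020 2)) (.leaf (.up 4 1838 1))))) (.node (.node (.node (.leaf (.up 7 1753 1)) (.leaf (.up 7 1158 0))) (.node (.leaf (.up 7 218 0)) (.leaf (.up 6 453 2)))) (.node (.node (.leaf (.up 6 986 0)) (.leaf (.up 7 1966 3))) (.node (.leaf (.up 6 728 0)) (.leaf (.up 6 1960 3)))))))) (.node (.node (.node (.node (.node (.node (.leaf (.up 7 1682 3)) (.leaf (.up 7 970 3))) (.node (.leaf (.up 5 922 1)) (.leaf (.up 6 1952 1)))) (.node (.node (.leaf (.up 6 1047 1)) (.leaf (.up 7 1095 3))) (.node (.leaf (.up 7 281 3)) (.leaf (.up 7 1444 1))))) (.node (.node (.node (.leaf (.up 4 36 2)) (.leaf (.up 8 849 2))) (.node (.leaf (.up 6 474 1)) (.leaf (.up 8 214 2)))) (.node (.node (.leaf (.up 6 705 3)) (.leaf (.up 8 1945 3))) (.node (.leaf (.up 7 218 2)) (.leaf (.up 4 786 0)))))) (.node (.node (.node (.node (.leaf (.up 5 894 0)) (.leaf (.up 4 810 2))) (.node (.leaf (.up 5 636 0)) (.leaf (.up 8 1826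 0)))) (.node (.node (.leaf (.up 6 852 3)) (.leaf (.up 8 83 2))) (.node (.leaf (.up 6 798 1)) (.leaf (.up 7 980 2))))) (.node (.node (.node (.leaf (.up 7 1350 0)) (.leaf (.up 5 745 1))) (.node (.leaf (.up 5 858 1)) (.leaf (.up 6 601 3)))) (.node (.node (.leaf (.up 7 1291 2)) (.leaf (.up 7 237 1))) (.node (.leaf (.up 6 1606 0)) (.leaf (.up 7 792 0))))))) (.node (.node (.node (.node (.node (.leaf (.up 7 887 0)) (.leaf (.up 5 658 2))) (.node (.leaf (.up 7 629 0)) (.leaf (.up 6 1835 0)))) (.node (.node (.leaf (.up 6 670 2)) (.leaf (.up 7 491 2))) (.node (.leaf (.up 7 119 0)) (.leaf (.up 6 678 3))))) (.node (.node (.node (.leaf (.up 8 1627 1)) (.leaf (.up 4 1779 3))) (.node (.leaf (.up 8 941 3)) (.leaf (.up 7 1781 3)))) (.node (.node (.leaf (.up 5 1119 1)) (.leaf (.up 7 101 1))) (.node (.leaf (.up 7 470 1)) (.leaf (.up 7 376 3)))))) (.node (.node (.node (.node (.leaf (.up 6 1691 1)) (.leaf (.up 5 1571 0))) (.node (.leaf (.up 4 786 1)) (.leaf (.up 7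 1859 2)))) (.node (.node (.leaf (.up 8 1224 2)) (.leaf (.up 7 235 3))) (.node (.leaf (.up 5 1461 3)) (.leaf (.up 5 1324 1))))) (.node (.node (.node (.leaf (.up 5 480 3)) (.leaf (.up 5 745 2))) (.node (.leaf (.up 6 539 2)) (.leaf (.up 6 1214 3)))) (.node (.node (.leaf (.up 6 1863 0)) (.leaf (.up 6 400 2))) (.node (.leaf (.up 4 1605 0)) (.leaf (.up 7 535 2))))))))

noncomputable def vt1_0_111 : Tr VStep := .node vt1_0_1110 vt1_0_1111

noncomputable def vt1_0_11 : Tr VStep := .node vt1_0_110 vt1_0_111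

noncomputable def vt1_0_1 : Tr VStep := .node vt1_0_10 vt1_0_11

noncomputable def vt1_0_ : Tr VStep := .node vt1_0_0 vt1_0_1

noncomputable def vt1_1_0000 : Tr VStep :=
  .node (.node (.node (.node (.node (.node (.node (.leaf (.root 23)) (.leaf (.up 4 665 3))) (.node (.leaf (.up 3 83 5)) (.leaf (.up 3 905 5)))) (.node (.node (.leaf (.up 3 278 7)) (.leaf (.up 4 311 7))) (.node (.leaf (.up 3 169 6)) (.leaf (.up 4 1799 0))))) (.node (.node (.node (.leaf (.up 4 2021 6)) (.leaf (.up 4 100 5))) (.node (.leaf (.up 4 620 0)) (.leaf (.up 4 713 1)))) (.node (.node (.leaf (.up 4 275 7)) (.leaf (.up 3 480 0))) (.node (.leaf (.up 5 1305 3)) (.leaf (.up 4 163 6)))))) (.node (.node (.node (.node (.leaf (.up 2 1511 6)) (.leaf (.up 2 729 3))) (.node (.leaf (.up 3 1241 3)) (.leaf (.up 3 544 0)))) (.node (.node (.leaf (.up 4 1202 5)) (.leaf (.up 4 206 2))) (.node (.leaf (.up 3 573 7)) (.leaf (.up 4 540 7))))) (.node (.node (.node (.leaf (.up 4 1611 1)) (.leaf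 (.up 4 138 7))) (.node (.leaf (.up 4 556 0)) (.leaf (.up 4 1855 7)))) (.node (.node (.leaf (.up 5 1421 7)) (.leaf (.up 3 1088 6))) (.node (.leaf (.up 5 568 7)) (.leaf (.up 2 1106 4))))))) (.node (.node (.node (.node (.node (.leaf (.up 3 1721 3)) (.leaf (.up 5 425 5))) (.node (.leaf (.up 2 1106 0)) (.leaf (.up 5 937 5)))) (.node (.node (.leaf (.up 4 717 7)) (.leaf (.up 3 839 4))) (.node (.leaf (.up 4 1465 3)) (.leaf (.up 4 2020 2))))) (.node (.node (.node (.leaf (.up 4 2030 7)) (.leaf (.up 4 1999 7))) (.node (.leaf (.up 4 91 7)) (.leaf (.up 4 122 7)))) (.node (.node (.leaf (.up 3 924 5)) (.leaf (.up 3 825 3))) (.node (.leaf (.up 3 93 6)) (.leaf (.up 3 313 0)))))) (.node (.node (.node (.node (.leaf (.up 4 1815 1)) (.leaf (.up 4 852 7))) (.node (.leaf (.up 4 1680 5)) (.leaf (.up 3 1249 7)))) (.node (.node (.leaf (.up 4 1262 2)) (.leaf (.up 4 1204 6))) (.node (.leaf (.up 4 1529 3)) (.leaf (.up 4 535 6))))) (.node (.node (.node (.leaf (.up 3 1657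 3)) (.leaf (.up 5 1703 5))) (.node (.leaf (.up 3 1917 5)) (.leaf (.up 4 1191 5)))) (.node (.node (.leaf (.up 2 603 1)) (.leaf (.up 5 1701 5))) (.node (.leaf (.up 4 333 1)) (.leaf (.up 4 1189 5)))))))) (.node (.node (.node (.node (.node (.node (.leaf (.up 3 1500 7)) (.leaf (.up 4 1581 4))) (.node (.leaf (.up 4 814 1)) (.leaf (.up 4 137 3)))) (.node (.node (.leaf (.up 3 1500 4)) (.leaf (.up 1 8 1))) (.node (.leaf (.up 4 1486 6)) (.leaf (.up 3 1414 6))))) (.node (.node (.node (.leaf (.up 4 954 5)) (.leaf (.up 4 521 3))) (.node (.leaf (.up 4 620 7)) (.leaf (.up 3 9 3)))) (.node (.node (.leaf (.up 3 1249 2)) (.leaf (.up 3 77 0))) (.node (.leaf (.up 3 575 4)) (.leaf (.up 4 1774 0)))))) (.node (.node (.node (.node (.leaf (.up 3 322 7)) (.leaf (.up 4 355 7))) (.node (.leaf (.up 3 1783 7)) (.leaf (.up 4 1210 1)))) (.node (.node (.leaf (.up 1 1 0)) (.leaf (.up 4 1709 4))) (.node (.leaf (.up 2 1481 3)) (.leaf (.up 4 53 1))))) (.node (.node (.node (.leaf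 (.up 4 1052 4)) (.leaf (.up 4 138 6))) (.node (.leaf (.up 4 1633 6)) (.leaf (.up 3 398 4)))) (.node (.node (.leaf (.up 4 367 6)) (.leaf (.up 3 1088 7))) (.node (.leaf (.up 4 1353 1)) (.leaf (.up 4 1710 0))))))) (.node (.node (.node (.node (.node (.leaf (.up 3 1543 7)) (.leaf (.up 3 574 6))) (.node (.leaf (.up 4 1193 3)) (.leaf (.up 3 169 3)))) (.node (.node (.leaf (.up 4 1386 4)) (.leaf (.up 3 915 6))) (.node (.leaf (.up 4 117 5)) (.leaf (.up 3 1205 7))))) (.node (.node (.node (.leaf (.up 2 922 5)) (.leaf (.up 2 2011 4))) (.node (.leaf (.up 3 520 2)) (.leaf (.up 3 1436 2)))) (.node (.node (.leaf (.up 4 804 7)) (.leaf (.up 3 1591 0))) (.node (.leaf (.up 2 408 5)) (.leaf (.up 3 1200 7)))))) (.node (.node (.node (.node (.leaf (.up 4 796 0)) (.leaf (.up 4 852 0))) (.node (.leaf (.up 5 841 4)) (.leaf (.up 3 1527 0)))) (.node (.node (.leaf (.up 3 2025 3)) (.leaf (.up 5 1868 5))) (.node (.leaf (.up 3 905 4)) (.leaf (.up 4 43 7))))) (.node (.node (.node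 (.leaf (.up 4 668 7)) (.leaf (.up 3 1776 1))) (.node (.leaf (.up 4 521 4)) (.leaf (.up 2 1187 5)))) (.node (.node (.leaf (.up 4 1599 0)) (.leaf (.up 5 1697 5))) (.node (.leaf (.up 4 713 4)) (.leaf (.up 4 1185 5))))))))

noncomputable def vt1_1_0001 : Tr VStep :=
  .node (.node (.node (.node (.node (.node (.node (.leaf (.root 928)) (.leaf (.up 5 385 5))) (.node (.leaf (.up 2 1296 1)) (.leaf (.up 5 145 3)))) (.node (.node (.leaf (.up 4 1424 6)) (.leaf (.up 5 107 4))) (.node (.leaf (.up 4 1529 4)) (.leaf (.up 3 839 0))))) (.node (.node (.node (.leaf (.up 3 1218 7)) (.leaf (.up 4 1251 7))) (.node (.leaf (.up 3 1798 2)) (.leaf (.up 4 620 5)))) (.node (.node (.leaf (.up 2 603 2)) (.leaf (.up 4 785 3))) (.node (.leaf (.up 4 881 6)) (.leaf (.up 3 825 6)))))) (.node (.node (.node (.node (.leaf (.up 4 1325 1)) (.leaf (.up 5 936 2))) (.node (.leaf (.up 3 905 2)) (.leaf (.up 4 1632 0)))) (.node (.node (.leaf (.up 4 1748 2)) (.leaf (.up 4 1444 0))) (.node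 (.leaf (.up 3 353 2)) (.leaf (.up 3 315 6))))) (.node (.node (.node (.leaf (.up 4 1599 6)) (.leaf (.up 3 1679 5))) (.node (.leaf (.up 3 2025 7)) (.leaf (.up 3 839 1)))) (.node (.node (.leaf (.up 4 368 2)) (.leaf (.up 4 1677 5))) (.node (.leaf (.up 4 779 0)) (.leaf (.up 4 337 2))))))) (.node (.node (.node (.node (.node (.leaf (.up 2 1689 1)) (.leaf (.up 4 550 1))) (.node (.leaf (.up 3 169 7)) (.leaf (.up 4 177 3)))) (.node (.node (.leaf (.up 3 570 7)) (.leaf (.up 3 539 7))) (.node (.leaf (.up 4 1457 3)) (.leaf (.up 4 973 6))))) (.node (.node (.node (.leaf (.up 4 1225 6)) (.leaf (.up 5 997 1))) (.node (.leaf (.up 4 1202 2)) (.leaf (.up 3 2046 4)))) (.node (.node (.leaf (.up 3 575 7)) (.leaf (.up 4 1898 1))) (.node (.leaf (.up 4 1418 7)) (.leaf (.up 4 911 6)))))) (.node (.node (.node (.node (.leaf (.up 3 1176 5)) (.leaf (.up 3 93 4))) (.node (.leaf (.up 2 1688 5)) (.leaf (.up 3 539 1)))) (.node (.node (.leaf (.up 4 1894 6)) (.leaf (.up 5 1669 7)))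 (.node (.leaf (.up 3 725 2)) (.leaf (.up 5 1598 4))))) (.node (.node (.node (.leaf (.up 4 556 4)) (.leaf (.up 4 206 1))) (.node (.leaf (.up 2 22 0)) (.leaf (.up 4 1199 5)))) (.node (.node (.leaf (.up 5 1697 7)) (.leaf (.up 2 922 0))) (.node (.leaf (.up 5 276 7)) (.leaf (.up 3 463 6)))))))) (.node (.node (.node (.node (.node (.node (.leaf (.up 4 1323 7)) (.leaf (.up 4 274 6))) (.node (.leaf (.up 4 95 5)) (.leaf (.up 3 1969 6)))) (.node (.node (.leaf (.up 3 715 2)) (.leaf (.up 5 685 1))) (.node (.leaf (.up 3 229 4)) (.leaf (.up 4 1945 7))))) (.node (.node (.node (.leaf (.up 3 1537 3)) (.leaf (.up 2 336 6))) (.node (.leaf (.up 4 1979 6)) (.leaf (.up 1 1 3)))) (.node (.node (.leaf (.up 1 8 7)) (.leaf (.up 4 41 7))) (.node (.leaf (.up 5 421 4)) (.leaf (.up 4 1358 2)))))) (.node (.node (.node (.node (.leaf (.up 4 438 1)) (.leaf (.up 3 1527 4))) (.node (.leaf (.up 4 1536 7)) (.leaf (.up 3 193 3)))) (.node (.node (.leaf (.up 3 480 2)) (.leaf (.up 4 1202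 7))) (.node (.leaf (.up 3 1583 1)) (.leaf (.up 5 656 1))))) (.node (.node (.node (.leaf (.up 4 117 1)) (.leaf (.up 3 1226 1))) (.node (.leaf (.up 4 293 4)) (.leaf (.up 2 1163 5)))) (.node (.node (.leaf (.up 3 1029 0)) (.leaf (.up 4 1207 7))) (.node (.leaf (.up 4 1110 6)) (.leaf (.up 3 770 7))))))) (.node (.node (.node (.node (.node (.leaf (.up 3 1776 7)) (.leaf (.up 5 1876 0))) (.node (.leaf (.up 4 1871 6)) (.leaf (.up 4 1799 6)))) (.node (.node (.leaf (.up 3 1776 4)) (.leaf (.up 3 9 6))) (.node (.leaf (.up 3 83 4)) (.leaf (.up 4 1706 6))))) (.node (.node (.node (.leaf (.up 5 914 5)) (.leaf (.up 4 1748 7))) (.node (.leaf (.up 5 467 4)) (.leaf (.up 3 353 7)))) (.node (.node (.leaf (.up 3 575 0)) (.leaf (.up 5 631 0))) (.node (.leaf (.up 4 400 5)) (.leaf (.up 4 546 4)))))) (.node (.node (.node (.node (.leaf (.up 4 297 1)) (.leaf (.up 4 1430 1))) (.node (.leaf (.up 3 1249 3)) (.leaf (.up 4 1530 7)))) (.node (.node (.leaf (.up 3 596 2)) (.leaf (.up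 4 1472 2))) (.node (.leaf (.up 3 1176 0)) (.leaf (.up 4 1258 6))))) (.node (.node (.node (.leaf (.up 4 1840 4)) (.leaf (.up 4 1707 5))) (.node (.leaf (.up 4 1502 7)) (.leaf (.up 2 1285 6)))) (.node (.node (.leaf (.up 5 639 0)) (.leaf (.up 5 1705 5))) (.node (.leaf (.up 4 581 2)) (.leaf (.up 3 353 3))))))))

noncomputable def vt1_1_000 : Tr VStep := .node vt1_1_0000 vt1_1_0001

noncomputable def vt1_1_0010 : Tr VStep :=
  .node (.node (.node (.node (.node (.node (.node (.leaf (.up 4 62 1)) (.leaf (.up 5 1876 2))) (.node (.leaf (.up 3 744 0)) (.leaf (.up 5 157 3)))) (.node (.node (.leaf (.up 4 407 7)) (.leaf (.up 3 411 5))) (.node (.leaf (.up 3 1437 2)) (.leaf (.up 4 53 4))))) (.node (.node (.node (.leaf (.up 4 1204 7)) (.leaf (.up 4 116 5))) (.node (.leaf (.up 4 769 7)) (.leaf (.up 4 628 5)))) (.node (.node (.leaf (.up 4 852 6)) (.leaf (.up 4 796 6))) (.node (.leaf (.up 3 1527 6)) (.leaf (.up 3 630 5)))))) (.node (.node (.node (.node (.leaf (.up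 4 1319 4)) (.leaf (.up 4 1091 0))) (.node (.leaf (.up 3 1946 7)) (.leaf (.up 4 1979 7)))) (.node (.node (.leaf (.up 2 1511 4)) (.leaf (.up 4 1320 7))) (.node (.leaf (.up 3 1698 5)) (.leaf (.up 4 117 4))))) (.node (.node (.node (.leaf (.up 5 42 7)) (.leaf (.up 4 1878 4))) (.node (.leaf (.up 5 1951 7)) (.leaf (.up 3 93 3)))) (.node (.node (.leaf (.up 4 296 0)) (.leaf (.up 4 1325 7))) (.node (.leaf (.up 4 1871 5)) (.leaf (.up 4 2047 6))))))) (.node (.node (.node (.node (.node (.leaf (.up 4 1898 7)) (.leaf (.up 4 581 6))) (.node (.leaf (.up 3 223 7)) (.leaf (.up 4 1800 1)))) (.node (.node (.leaf (.up 4 1878 0)) (.leaf (.up 5 621 7))) (.node (.leaf (.up 3 1283 6)) (.leaf (.up 5 1355 6))))) (.node (.node (.node (.leaf (.up 4 1169 4)) (.leaf (.up 3 573 0))) (.node (.leaf (.up 3 398 5)) (.leaf (.up 3 596 5)))) (.node (.node (.leaf (.up 4 908 5)) (.leaf (.up 3 616 7))) (.node (.leaf (.up 4 1532 7)) (.leaf (.up 3 1289 6)))))) (.node (.node (.node (.node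 (.leaf (.up 3 77 6)) (.leaf (.up 4 5 6))) (.node (.leaf (.up 4 1774 6)) (.leaf (.up 4 1370 5)))) (.node (.node (.leaf (.up 3 480 6)) (.leaf (.up 4 1632 4))) (.node (.leaf (.up 4 359 7)) (.leaf (.up 4 509 0))))) (.node (.node (.node (.leaf (.up 4 1389 5)) (.leaf (.up 4 1719 5))) (.node (.leaf (.up 3 626 4)) (.leaf (.up 4 1207 5)))) (.node (.node (.leaf (.up 3 1917 3)) (.leaf (.up 4 1717 5))) (.node (.leaf (.up 3 1793 6)) (.leaf (.up 3 1205 5)))))))) (.node (.node (.node (.node (.node (.node (.leaf (.up 4 1189 1)) (.leaf (.up 4 1940 6))) (.node (.leaf (.up 3 1752 4)) (.leaf (.up 4 311 6)))) (.node (.node (.leaf (.up 4 581 5)) (.leaf (.up 4 90 7))) (.node (.leaf (.up 4 1998 7)) (.leaf (.up 4 1321 4))))) (.node (.node (.node (.leaf (.up 3 315 4)) (.leaf (.up 4 522 4))) (.node (.leaf (.up 4 2021 2)) (.leaf (.up 4 1193 4)))) (.node (.node (.leaf (.up 4 126 7)) (.leaf (.up 4 1659 6))) (.node (.leaf (.up 4 424 5)) (.leaf (.up 3 626 5)))))) (.node (.node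 (.node (.node (.leaf (.up 3 1436 6)) (.leaf (.up 3 1492 6))) (.node (.leaf (.up 2 1688 4)) (.leaf (.up 3 1623 7)))) (.node (.node (.leaf (.up 3 1591 2)) (.leaf (.up 4 1916 5))) (.node (.leaf (.up 3 848 7)) (.leaf (.up 4 881 7))))) (.node (.node (.node (.leaf (.up 4 1502 6)) (.leaf (.up 4 1430 6))) (.node (.leaf (.up 4 2008 4)) (.leaf (.up 3 77 3)))) (.node (.node (.leaf (.up 5 443 4)) (.leaf (.up 2 1681 5))) (.node (.leaf (.up 5 1816 4)) (.leaf (.up 3 1646 0))))))) (.node (.node (.node (.node (.node (.leaf (.up 3 1088 2)) (.leaf (.up 5 685 3))) (.node (.leaf (.up 3 1646 4)) (.leaf (.up 3 915 1)))) (.node (.node (.leaf (.up 4 928 7)) (.leaf (.up 3 1679 6))) (.node (.leaf (.up 4 100 6)) (.leaf (.up 4 16 0))))) (.node (.node (.node (.leaf (.up 4 1581 3)) (.leaf (.up 3 1698 7))) (.node (.leaf (.up 4 310 7)) (.leaf (.up 4 45 3)))) (.node (.node (.leaf (.up 4 333 4)) (.leaf (.up 2 1481 1))) (.node (.leaf (.up 3 1721 2)) (.leaf (.up 4 1247 4)))))) (.node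 (.node (.node (.node (.leaf (.up 3 1773 3)) (.leaf (.up 5 569 7))) (.node (.leaf (.up 3 905 6)) (.leaf (.up 4 1420 7)))) (.node (.node (.leaf (.up 3 77 4)) (.leaf (.up 4 535 2))) (.node (.leaf (.up 4 1774 4)) (.leaf (.up 4 620 6))))) (.node (.node (.node (.leaf (.up 5 541 7)) (.leaf (.up 3 572 7))) (.node (.leaf (.up 4 971 6)) (.leaf (.up 4 1203 5)))) (.node (.node (.leaf (.up 4 1387 5)) (.leaf (.up 2 1713 5))) (.node (.leaf (.up 4 1389 3)) (.leaf (.up 3 1524 1))))))))

noncomputable def vt1_1_0011 : Tr VStep :=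
  .node (.node (.node (.node (.node (.node (.node (.leaf (.up 4 1094 7)) (.leaf (.up 4 1754 2))) (.node (.leaf (.up 4 1704 0)) (.leaf (.up 4 367 2)))) (.node (.node (.leaf (.up 5 1941 3)) (.leaf (.up 5 403 5))) (.node (.leaf (.up 3 1583 6)) (.leaf (.up 3 915 5))))) (.node (.node (.node (.leaf (.up 4 856 1)) (.leaf (.up 4 124 5))) (.node (.leaf (.up 3 1772 0)) (.leaf (.up 3 636 5)))) (.node (.node (.leaf (.up 3 1917 4)) (.leaf (.up 3 324 7))) (.node (.leaf (.up 3 1301 3)) (.leaf (.up 4 1777 7)))))) (.node (.node (.node (.node (.leaf (.up 5 1749 3)) (.leaf (.up 3 725 3))) (.node (.leaf (.up 4 1488 2)) (.leaf (.up 4 1418 6)))) (.node (.node (.leaf (.up 4 1661 4)) (.leaf (.up 4 1503 7))) (.node (.leaf (.up 4 911 0)) (.leaf (.up 4 1007 4))))) (.node (.node (.node (.leaf (.up 4 1349 5)) (.leaf (.up 4 1695 5))) (.node (.leaf (.up 4 628 2)) (.leaf (.up 4 1183 5)))) (.node (.node (.leaf (.up 4 1276 1)) (.leaf (.up 4 1693 5))) (.node (.leaf (.up 4 414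 4)) (.leaf (.up 4 1181 5))))))) (.node (.node (.node (.node (.node (.leaf (.up 4 1611 4)) (.leaf (.up 4 479 6))) (.node (.leaf (.up 3 40 7)) (.leaf (.up 3 9 7)))) (.node (.node (.leaf (.up 5 699 7)) (.leaf (.up 4 1466 4))) (.node (.leaf (.up 2 1689 6)) (.leaf (.up 4 793 4))))) (.node (.node (.node (.leaf (.up 5 1944 7)) (.leaf (.up 4 1661 0))) (.node (.leaf (.up 4 45 7)) (.leaf (.up 4 53 3)))) (.node (.node (.leaf (.up 4 1974 2)) (.leaf (.up 4 48 6))) (.node (.leaf (.up 4 1755 6)) (.leaf (.up 4 1465 0)))))) (.node (.node (.node (.node (.leaf (.up 3 303 1)) (.leaf (.up 3 1657 0))) (.node (.leaf (.up 3 1206 7)) (.leaf (.up 4 1340 6)))) (.node (.node (.leaf (.up 3 825 2)) (.leaf (.up 4 1013 3))) (.node (.leaf (.up 3 1241 6)) (.leaf (.up 4 792 2))))) (.node (.node (.node (.leaf (.up 5 774 7)) (.leaf (.up 4 1146 4))) (.node (.leaf (.up 4 1203 7)) (.leaf (.up 2 729 4)))) (.node (.node (.leaf (.up 3 1909 3)) (.leaf (.up 3 1537 7))) (.node (.leaf (.up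 3 1179 6)) (.leaf (.up 4 1529 0)))))))) (.node (.node (.node (.node (.node (.node (.leaf (.up 4 1094 6)) (.leaf (.up 3 1419 7))) (.node (.leaf (.up 3 463 2)) (.leaf (.up 3 574 7)))) (.node (.node (.leaf (.up 4 589 5)) (.leaf (.up 4 16 4))) (.node (.leaf (.up 3 77 5)) (.leaf (.up 4 1203 2))))) (.node (.node (.node (.leaf (.up 4 1455 7)) (.leaf (.up 4 400 4))) (.node (.leaf (.up 3 538 7)) (.leaf (.up 4 5 3)))) (.node (.node (.leaf (.up 4 928 5)) (.leaf (.up 2 336 4))) (.node (.leaf (.up 2 1285 3)) (.leaf (.up 3 261 3)))))) (.node (.node (.node (.node (.leaf (.up 4 1542 6)) (.leaf (.up 4 1910 5))) (.node (.leaf (.up 4 740 2)) (.leaf (.up 5 1696 7)))) (.node (.node (.leaf (.up 5 1963 6)) (.leaf (.up 4 1225 0))) (.node (.leaf (.up 4 1710 5)) (.leaf (.up 4 1779 4))))) (.node (.node (.node (.leaf (.up 5 418 0)) (.leaf (.up 4 272 7))) (.node (.leaf (.up 3 2046 1)) (.leaf (.up 3 1179 5)))) (.node (.node (.leaf (.up 3 2025 6)) (.leaf (.up 2 1689 5))) (.node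 (.leaf (.up 4 1154 4)) (.leaf (.up 4 1998 1))))))) (.node (.node (.node (.node (.node (.leaf (.up 4 1695 1)) (.leaf (.up 3 544 1))) (.node (.leaf (.up 2 595 6)) (.leaf (.up 3 539 6)))) (.node (.node (.leaf (.up 4 1830 2)) (.leaf (.up 3 1301 6))) (.node (.leaf (.up 4 1022 6)) (.leaf (.up 4 1799 2))))) (.node (.node (.node (.leaf (.up 4 535 4)) (.leaf (.up 4 294 4))) (.node (.leaf (.up 3 315 0)) (.leaf (.up 3 480 7)))) (.node (.node (.leaf (.up 4 727 4)) (.leaf (.up 4 90 5))) (.node (.leaf (.up 5 384 5)) (.leaf (.up 4 1146 1)))))) (.node (.node (.node (.node (.leaf (.up 3 1460 1)) (.leaf (.up 3 1784 6))) (.node (.leaf (.up 2 336 2)) (.leaf (.up 3 229 3)))) (.node (.node (.leaf (.up 2 1993 7)) (.leaf (.up 4 2024 7))) (.node (.leaf (.up 4 557 1)) (.leaf (.up 3 93 7))))) (.node (.node (.node (.leaf (.up 4 2008 0)) (.leaf (.up 3 715 7))) (.node (.leaf (.up 4 1268 4)) (.leaf (.up 4 1211 5)))) (.node (.node (.leaf (.up 4 1893 3)) (.leaf (.up 3 1721 5)))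 (.node (.leaf (.up 4 1052 0)) (.leaf (.up 4 1108 0))))))))

noncomputable def vt1_1_001 : Tr VStep := .node vt1_1_0010 vt1_1_0011

noncomputable def vt1_1_00 : Tr VStep := .node vt1_1_000 vt1_1_001

noncomputable def vt1_1_0100 : Tr VStep :=
  .node (.node (.node (.node (.node (.node (.node (.leaf (.up 4 1034 2)) (.leaf (.up 4 668 4))) (.node (.leaf (.up 3 1752 7)) (.leaf (.up 4 1916 0)))) (.node (.node (.leaf (.up 4 1264 0)) (.leaf (.up 4 374 2))) (.node (.leaf (.up 2 595 0)) (.leaf (.up 3 538 1))))) (.node (.node (.node (.leaf (.up 5 360 7)) (.leaf (.up 3 1088 1))) (.node (.leaf (.up 4 190 5)) (.leaf (.up 4 1878 1)))) (.node (.node (.leaf (.up 4 45 4)) (.leaf (.up 4 796 4))) (.node (.leaf (.up 4 1894 1)) (.leaf (.up 4 359 2)))))) (.node (.node (.node (.node (.leaf (.up 3 1523 7)) (.leaf (.up 4 732 4))) (.node (.leaf (.up 3 582 7)) (.leaf (.up 4 219 3)))) (.node (.node (.leaf (.up 2 1481 2)) (.leaf (.up 3 1218 6))) (.node (.leaf (.up 3 531 0))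 (.leaf (.up 2 603 0))))) (.node (.node (.node (.leaf (.up 4 1526 7)) (.leaf (.up 2 603 3))) (.node (.leaf (.up 4 1840 0)) (.leaf (.up 4 91 3)))) (.node (.node (.leaf (.up 4 1224 6)) (.leaf (.up 4 1529 2))) (.node (.leaf (.up 4 1893 7)) (.leaf (.up 4 242 1))))))) (.node (.node (.node (.node (.node (.leaf (.up 4 1982 2)) (.leaf (.up 3 169 5))) (.node (.leaf (.up 3 1283 7)) (.leaf (.up 4 262 0)))) (.node (.node (.leaf (.up 4 881 5)) (.leaf (.up 3 1969 7))) (.node (.leaf (.up 3 223 6)) (.leaf (.up 5 4 7))))) (.node (.node (.node (.leaf (.up 4 91 4)) (.leaf (.up 2 2011 6))) (.node (.leaf (.up 3 1784 4)) (.leaf (.up 2 1481 4)))) (.node (.node (.leaf (.up 4 668 5)) (.leaf (.up 4 80 1))) (.node (.leaf (.up 4 32 7)) (.leaf (.up 1 1 7)))))) (.node (.node (.node (.node (.leaf (.up 4 1424 5)) (.leaf (.up 3 1591 1))) (.node (.leaf (.up 4 414 1)) (.leaf (.up 4 1225 4)))) (.node (.node (.leaf (.up 3 411 4)) (.leaf (.up 5 1608 5))) (.node (.leaf (.up 4 1938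 5)) (.leaf (.up 4 727 6))))) (.node (.node (.node (.leaf (.up 3 2025 0)) (.leaf (.up 3 1435 6))) (.node (.leaf (.up 2 408 7)) (.leaf (.up 4 824 6)))) (.node (.node (.leaf (.up 4 219 4)) (.leaf (.up 4 1957 5))) (.node (.leaf (.up 5 1403 3)) (.leaf (.up 4 1183 7)))))))) (.node (.node (.node (.node (.node (.node (.leaf (.up 4 512 6)) (.leaf (.up 4 651 3))) (.node (.leaf (.up 2 1689 0)) (.leaf (.up 4 1259 6)))) (.node (.node (.leaf (.up 3 470 2)) (.leaf (.up 3 1301 0))) (.node (.leaf (.up 3 530 7)) (.leaf (.up 4 563 7))))) (.node (.node (.node (.leaf (.up 4 1547 3)) (.leaf (.up 4 219 1))) (.node (.leaf (.up 3 1249 6)) (.leaf (.up 4 1193 6)))) (.node (.node (.leaf (.up 4 1007 6)) (.leaf (.up 4 1536 4))) (.node (.leaf (.up 4 535 7)) (.leaf (.up 3 1858 1)))))) (.node (.node (.node (.node (.leaf (.up 3 1460 5)) (.leaf (.up 1 8 6))) (.node (.leaf (.up 4 1763 6)) (.leaf (.up 2 1681 0)))) (.node (.node (.leaf (.up 3 313 7)) (.leaf (.up 4 1724 1))) (.node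 (.leaf (.up 4 1676 7)) (.leaf (.up 3 1798 6))))) (.node (.node (.node (.leaf (.up 3 1969 2)) (.leaf (.up 4 587 3))) (.node (.leaf (.up 4 786 4)) (.leaf (.up 4 1411 5)))) (.node (.node (.leaf (.up 4 1115 5)) (.leaf (.up 4 717 2))) (.node (.leaf (.up 4 214 1)) (.leaf (.up 4 1409 5))))))) (.node (.node (.node (.node (.node (.leaf (.up 4 1336 1)) (.leaf (.up 5 891 7))) (.node (.leaf (.up 4 1195 3)) (.leaf (.up 5 685 5)))) (.node (.node (.leaf (.up 4 1660 7)) (.leaf (.up 4 1526 2))) (.node (.leaf (.up 4 457 7)) (.leaf (.up 5 341 4))))) (.node (.node (.node (.leaf (.up 4 1275 1)) (.leaf (.up 3 894 7))) (.node (.leaf (.up 4 155 2)) (.leaf (.up 4 1227 7)))) (.node (.node (.leaf (.up 3 1657 7)) (.leaf (.up 3 322 5))) (.node (.leaf (.up 4 1472 0)) (.leaf (.up 2 1511 2)))))) (.node (.node (.node (.node (.leaf (.up 4 1771 3)) (.leaf (.up 4 2021 7))) (.node (.leaf (.up 2 1285 1)) (.leaf (.up 4 80 7)))) (.node (.node (.leaf (.up 3 738 7)) (.leaf (.up 4 275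 6))) (.node (.leaf (.up 4 548 4)) (.leaf (.up 4 1420 0))))) (.node (.node (.node (.leaf (.up 3 1029 2)) (.leaf (.up 5 1955 5))) (.node (.leaf (.up 3 944 2)) (.leaf (.up 5 1443 5)))) (.node (.node (.leaf (.up 3 1773 2)) (.leaf (.up 4 1953 5))) (.node (.leaf (.up 4 73 1)) (.leaf (.up 4 1441 5))))))))

noncomputable def vt1_1_0101 : Tr VStep :=
  .node (.node (.node (.node (.node (.node (.node (.leaf (.up 5 859 5)) (.leaf (.up 3 1205 6))) (.node (.leaf (.up 3 1583 7)) (.leaf (.up 4 1550 7)))) (.node (.node (.leaf (.up 3 176 0)) (.leaf (.up 3 915 3))) (.node (.leaf (.up 3 1427 3)) (.leaf (.up 4 1893 4))))) (.node (.node (.node (.leaf (.up 3 1215 6)) (.leaf (.up 3 531 3))) (.node (.leaf (.up 3 1492 4)) (.leaf (.up 3 1765 4)))) (.node (.node (.leaf (.up 4 1298 6)) (.leaf (.up 3 1176 7))) (.node (.leaf (.up 3 1623 0)) (.leaf (.up 3 380 1)))))) (.node (.node (.node (.node (.leaf (.up 4 1747 3)) (.leaf (.up 3 315 2))) (.node (.leaf (.up 4 689 7)) (.leaf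 (.up 4 2021 4)))) (.node (.node (.leaf (.up 4 1085 1)) (.leaf (.up 4 1632 5))) (.node (.leaf (.up 5 1491 3)) (.leaf (.up 4 1974 7))))) (.node (.node (.node (.leaf (.up 4 267 2)) (.leaf (.up 2 595 3))) (.node (.leaf (.up 4 1107 3)) (.leaf (.up 3 1752 1)))) (.node (.node (.leaf (.up 4 1874 6)) (.leaf (.up 3 6 7))) (.node (.leaf (.up 3 1623 5)) (.leaf (.up 4 1971 7))))))) (.node (.node (.node (.node (.node (.leaf (.up 4 1099 6)) (.leaf (.up 5 608 7))) (.node (.leaf (.up 3 1524 7)) (.leaf (.up 4 1199 1)))) (.node (.node (.leaf (.up 4 1738 0)) (.leaf (.up 4 163 5))) (.node (.leaf (.up 4 837 6)) (.leaf (.up 4 675 5))))) (.node (.node (.node (.leaf (.up 4 580 7)) (.leaf (.up 4 563 3))) (.node (.leaf (.up 5 150 5)) (.leaf (.up 3 738 6)))) (.node (.node (.leaf (.up 4 1444 6)) (.leaf (.up 4 48 4))) (.node (.leaf (.up 4 1225 2)) (.leaf (.up 5 846 5)))))) (.node (.node (.node (.node (.leaf (.up 4 1759 7)) (.leaf (.up 4 1790 7))) (.node (.leaf (.up 4 1358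 0)) (.leaf (.up 4 1924 1)))) (.node (.node (.leaf (.up 3 1958 6)) (.leaf (.up 3 103 2))) (.node (.leaf (.up 3 1523 3)) (.leaf (.up 3 1088 5))))) (.node (.node (.node (.leaf (.up 4 1754 7)) (.leaf (.up 3 176 4))) (.node (.leaf (.up 4 1314 4)) (.leaf (.up 4 1455 5)))) (.node (.node (.leaf (.up 4 2020 6)) (.leaf (.up 5 883 3))) (.node (.leaf (.up 5 327 6)) (.leaf (.up 4 1128 7)))))))) (.node (.node (.node (.node (.node (.node (.leaf (.up 4 1794 1)) (.leaf (.up 5 87 7))) (.node (.leaf (.up 2 729 0)) (.leaf (.up 5 645 5)))) (.node (.node (.leaf (.up 4 1923 3)) (.leaf (.up 4 899 3))) (.node (.leaf (.up 4 1982 0)) (.leaf (.up 4 1756 6))))) (.node (.node (.node (.leaf (.up 4 472 6)) (.leaf (.up 4 400 6))) (.node (.leaf (.up 4 1990 7)) (.leaf (.up 3 725 0)))) (.node (.node (.leaf (.up 4 117 6)) (.leaf (.up 4 771 3))) (.node (.leaf (.up 1 8 4)) (.leaf (.up 2 1511 1)))))) (.node (.node (.node (.node (.leaf (.up 3 1731 3)) (.leaf (.up 4 1225 7))) (.node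 (.leaf (.up 4 1855 1)) (.leaf (.up 5 892 7)))) (.node (.node (.leaf (.up 5 883 2)) (.leaf (.up 3 575 6))) (.node (.leaf (.up 3 2046 0)) (.leaf (.up 4 1974 0))))) (.node (.node (.node (.leaf (.up 4 1599 2)) (.leaf (.up 4 1931 5))) (.node (.leaf (.up 4 856 7)) (.leaf (.up 3 1419 5)))) (.node (.node (.leaf (.up 4 1107 5)) (.leaf (.up 4 337 0))) (.node (.leaf (.up 4 1347 3)) (.leaf (.up 5 1270 2))))))) (.node (.node (.node (.node (.node (.leaf (.up 4 512 0)) (.leaf (.up 4 1680 2))) (.node (.leaf (.up 2 1187 0)) (.leaf (.up 4 163 3)))) (.node (.node (.leaf (.up 4 786 1)) (.leaf (.up 4 201 6))) (.node (.leaf (.up 4 318 7)) (.leaf (.up 4 1211 1))))) (.node (.node (.node (.leaf (.up 4 658 5)) (.leaf (.up 3 905 7))) (.node (.leaf (.up 4 126 4)) (.leaf (.up 4 1199 0)))) (.node (.node (.leaf (.up 5 656 5)) (.leaf (.up 3 1646 1))) (.node (.leaf (.up 3 315 7)) (.leaf (.up 4 911 4)))))) (.node (.node (.node (.node (.leaf (.up 3 1436 5)) (.leaf (.up 3 9 1)))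 (.node (.leaf (.up 4 1952 1)) (.leaf (.up 4 1094 5)))) (.node (.node (.leaf (.up 5 199 2)) (.leaf (.up 4 1903 0))) (.node (.leaf (.up 4 1440 7)) (.leaf (.up 4 1409 7))))) (.node (.node (.node (.leaf (.up 3 1419 2)) (.leaf (.up 4 1815 7))) (.node (.leaf (.up 3 574 2)) (.leaf (.up 4 732 1)))) (.node (.node (.leaf (.up 5 528 7)) (.leaf (.up 3 715 6))) (.node (.leaf (.up 4 214 2)) (.leaf (.up 3 1858 2))))))))

noncomputable def vt1_1_010 : Tr VStep := .node vt1_1_0100 vt1_1_0101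

noncomputable def vt1_1_0110 : Tr VStep :=
  .node (.node (.node (.node (.node (.node (.node (.leaf (.up 2 595 2)) (.leaf (.up 4 563 6))) (.node (.leaf (.up 4 1719 1)) (.leaf (.up 3 520 1)))) (.node (.node (.leaf (.up 3 1226 7)) (.leaf (.up 4 1259 7))) (.node (.leaf (.up 4 1397 6)) (.leaf (.up 2 408 4))))) (.node (.node (.node (.leaf (.up 3 1527 2)) (.leaf (.up 4 372 5))) (.node (.leaf (.up 4 1055 3)) (.leaf (.up 4 971 1)))) (.node (.node (.leaf (.up 5 684 5)) (.leaf (.up 2 1106 1))) (.node (.leaf (.up 4 727 0)) (.leaf (.up 4 1407 6)))))) (.node (.node (.node (.node (.leaf (.up 3 59 6)) (.leaf (.up 3 1772 2))) (.node (.leaf (.up 2 1688 6)) (.leaf (.up 3 223 3)))) (.node (.node (.leaf (.up 4 84 7)) (.leaf (.up 4 117 7))) (.node (.leaf (.up 2 1954 5)) (.leaf (.up 3 1984 7))))) (.node (.node (.node (.leaf (.up 4 1482 4)) (.leaf (.up 4 607 3))) (.node (.leaf (.up 4 1754 6)) (.leaf (.up 4 95 3)))) (.node (.node (.leaf (.up 4 1290 4)) (.leaf (.up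 4 928 2))) (.node (.leaf (.up 4 2020 7)) (.leaf (.up 3 351 3))))))) (.node (.node (.node (.node (.node (.leaf (.up 4 717 6)) (.leaf (.up 4 534 7))) (.node (.leaf (.up 3 1215 3)) (.leaf (.up 5 1443 7)))) (.node (.node (.leaf (.up 3 1983 3)) (.leaf (.up 3 1179 2))) (.node (.leaf (.up 3 353 5)) (.leaf (.up 3 1419 6))))) (.node (.node (.node (.leaf (.up 4 1599 3)) (.leaf (.up 3 531 7))) (.node (.leaf (.up 4 502 2)) (.leaf (.up 4 852 1)))) (.node (.node (.leaf (.up 4 652 5)) (.leaf (.up 3 582 0))) (.node (.leaf (.up 4 1409 6)) (.leaf (.up 2 1481 6)))))) (.node (.node (.node (.node (.leaf (.up 4 1557 1)) (.leaf (.up 5 1672 7))) (.node (.leaf (.up 3 1283 1)) (.leaf (.up 5 1114 5)))) (.node (.node (.leaf (.up 4 911 7)) (.leaf (.up 4 1023 3))) (.node (.leaf (.up 4 1937 2)) (.leaf (.up 3 1249 0))))) (.node (.node (.node (.leaf (.up 5 1708 7)) (.leaf (.up 4 1677 7))) (.node (.leaf (.up 4 281 7)) (.leaf (.up 4 312 7)))) (.node (.node (.leaf (.up 4 857 1))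 (.leaf (.up 4 1677 4))) (.node (.leaf (.up 4 53 2)) (.leaf (.up 4 1461 5)))))))) (.node (.node (.node (.node (.node (.node (.leaf (.up 1 0 7)) (.leaf (.up 5 33 7))) (.node (.leaf (.up 3 1909 4)) (.leaf (.up 4 1940 7)))) (.node (.node (.leaf (.up 2 1713 6)) (.leaf (.up 4 911 3))) (.node (.leaf (.up 4 659 7)) (.leaf (.up 3 399 3))))) (.node (.node (.node (.leaf (.up 4 5 7)) (.leaf (.up 4 1094 1))) (.node (.leaf (.up 4 1007 1)) (.leaf (.up 3 738 2)))) (.node (.node (.leaf (.up 4 1779 6)) (.leaf (.up 3 1983 2))) (.node (.leaf (.up 4 80 6)) (.leaf (.up 5 271 3)))))) (.node (.node (.node (.node (.leaf (.up 4 1182 7)) (.leaf (.up 3 1215 7))) (.node (.leaf (.up 4 1023 6)) (.leaf (.up 4 778 7)))) (.node (.node (.leaf (.up 4 1999 3)) (.leaf (.up 4 1660 5))) (.node (.leaf (.up 3 1958 5)) (.leaf (.up 3 538 6))))) (.node (.node (.node (.leaf (.up 3 1179 7)) (.leaf (.up 4 1660 2))) (.node (.leaf (.up 4 814 7)) (.leaf (.up 3 1427 5)))) (.node (.node (.leaf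 (.up 2 22 4)) (.leaf (.up 4 1937 5))) (.node (.leaf (.up 3 1205 2)) (.leaf (.up 4 1577 7))))))) (.node (.node (.node (.node (.node (.leaf (.up 4 1747 2)) (.leaf (.up 4 1736 0))) (.node (.leaf (.up 4 1199 3)) (.leaf (.up 5 107 0)))) (.node (.node (.leaf (.up 3 1543 6)) (.leaf (.up 4 1756 7))) (.node (.leaf (.up 4 1596 1)) (.leaf (.up 5 361 7))))) (.node (.node (.node (.leaf (.up 3 1583 3)) (.leaf (.up 2 336 5))) (.node (.leaf (.up 3 103 0)) (.leaf (.up 3 848 5)))) (.node (.node (.leaf (.up 3 1784 7)) (.leaf (.up 4 1753 7))) (.node (.leaf (.up 4 333 7)) (.leaf (.up 3 303 3)))))) (.node (.node (.node (.node (.leaf (.up 4 1775 3)) (.leaf (.up 4 620 2))) (.node (.leaf (.up 2 408 1)) (.leaf (.up 4 1202 4)))) (.node (.node (.leaf (.up 3 480 4)) (.leaf (.up 4 1007 0))) (.node (.leaf (.up 4 1519 3)) (.leaf (.up 3 1527 7))))) (.node (.node (.node (.leaf (.up 4 845 1)) (.leaf (.up 4 1971 5))) (.node (.leaf (.up 3 1731 4)) (.leaf (.up 4 835 6)))) (.node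 (.node (.leaf (.up 3 1029 6)) (.leaf (.up 3 1969 5))) (.node (.leaf (.up 3 1793 2)) (.leaf (.up 4 1457 5))))))))

noncomputable def vt1_1_0111 : Tr VStep :=
  .node (.node (.node (.node (.node (.node (.node (.leaf (.up 4 481 6)) (.leaf (.up 5 314 7))) (.node (.leaf (.up 3 1858 6)) (.leaf (.up 3 1679 7)))) (.node (.node (.leaf (.up 4 1085 7)) (.leaf (.up 4 1052 7))) (.node (.leaf (.up 4 1747 0)) (.leaf (.up 4 514 4))))) (.node (.node (.node (.leaf (.up 4 286 7)) (.leaf (.up 2 319 7))) (.node (.leaf (.up 4 1047 3)) (.leaf (.up 4 1674 7)))) (.node (.node (.leaf (.up 2 1681 2)) (.leaf (.up 3 1783 1))) (.node (.leaf (.up 4 1709 6)) (.leaf (.up 3 1765 6)))))) (.node (.node (.node (.node (.leaf (.up 4 929 6)) (.leaf (.up 4 1444 7))) (.node (.leaf (.up 5 1012 0)) (.leaf (.up 5 529 7)))) (.node (.node (.leaf (.up 4 163 7)) (.leaf (.up 3 1249 4))) (.node (.leaf (.up 4 1199 6)) (.leaf (.up 3 575 2))))) (.node (.node (.node (.leaf (.up 3 1623 3)) (.leaf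 (.up 4 1441 7))) (.node (.leaf (.up 3 944 0)) (.leaf (.up 4 532 7)))) (.node (.node (.leaf (.up 4 1680 4)) (.leaf (.up 3 1500 1))) (.node (.leaf (.up 5 1261 6)) (.leaf (.up 3 1437 5))))))) (.node (.node (.node (.node (.node (.leaf (.up 4 343 6)) (.leaf (.up 4 177 5))) (.node (.leaf (.up 4 1486 0)) (.leaf (.up 3 1414 0)))) (.node (.node (.leaf (.up 4 250 6)) (.leaf (.up 3 1301 2))) (.node (.leaf (.up 3 83 7)) (.leaf (.up 5 114 7))))) (.node (.node (.node (.leaf (.up 3 1591 3)) (.leaf (.up 4 740 7))) (.node (.leaf (.up 4 1418 0)) (.leaf (.up 3 2046 6)))) (.node (.node (.leaf (.up 4 727 1)) (.leaf (.up 4 1640 1))) (.node (.leaf (.up 5 86 7)) (.leaf (.up 4 311 3)))))) (.node (.node (.node (.node (.leaf (.up 3 1958 4)) (.leaf (.up 3 1618 5))) (.node (.leaf (.up 3 1460 6)) (.leaf (.up 2 1106 5)))) (.node (.node (.leaf (.up 4 888 7)) (.leaf (.up 4 857 7))) (.node (.leaf (.up 3 1527 3)) (.leaf (.up 4 503 3))))) (.node (.node (.node (.leaf (.up 5 1766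 4)) (.leaf (.up 3 1983 5))) (.node (.leaf (.up 4 1482 0)) (.leaf (.up 3 463 7)))) (.node (.node (.leaf (.up 4 1550 0)) (.leaf (.up 4 688 6))) (.node (.leaf (.up 4 1224 7)) (.leaf (.up 3 229 0)))))))) (.node (.node (.node (.node (.node (.node (.leaf (.up 4 1210 0)) (.leaf (.up 4 214 7))) (.node (.leaf (.up 3 1858 7)) (.leaf (.up 4 1224 2)))) (.node (.node (.leaf (.up 3 1537 2)) (.leaf (.up 5 405 0))) (.node (.leaf (.up 4 333 5)) (.leaf (.up 4 581 7))))) (.node (.node (.node (.leaf (.up 3 1543 3)) (.leaf (.up 3 1206 0))) (.node (.leaf (.up 4 1031 3)) (.leaf (.up 4 559 6)))) (.node (.node (.leaf (.up 3 1492 7)) (.leaf (.up 4 620 1))) (.node (.leaf (.up 4 970 6)) (.leaf (.up 4 576 7)))))) (.node (.node (.node (.node (.leaf (.up 5 1274 0)) (.leaf (.up 4 1202 0))) (.node (.leaf (.up 4 1199 4)) (.leaf (.up 4 45 6)))) (.node (.node (.leaf (.up 4 1991 3)) (.leaf (.up 4 509 4))) (.node (.leaf (.up 5 1837 1)) (.leaf (.up 4 1755 7))))) (.node (.node (.node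 (.leaf (.up 4 1132 7)) (.leaf (.up 5 1947 5))) (.node (.leaf (.up 4 1519 4)) (.leaf (.up 3 1435 5)))) (.node (.node (.leaf (.up 4 908 4)) (.leaf (.up 3 839 3))) (.node (.leaf (.up 4 1774 1)) (.leaf (.up 4 1758 7))))))) (.node (.node (.node (.node (.node (.leaf (.up 3 812 7)) (.leaf (.up 3 1983 1))) (.node (.leaf (.up 2 22 1)) (.leaf (.up 4 1916 2)))) (.node (.node (.leaf (.up 3 1437 6)) (.leaf (.up 4 267 4))) (.node (.leaf (.up 4 512 2)) (.leaf (.up 4 414 7))))) (.node (.node (.node (.leaf (.up 3 1575 3)) (.leaf (.up 4 1660 1))) (.node (.leaf (.up 5 1305 4)) (.leaf (.up 4 856 5)))) (.node (.node (.leaf (.up 4 1551 7)) (.leaf (.up 4 1582 7))) (.node (.leaf (.up 4 1444 2)) (.leaf (.up 3 295 3)))))) (.node (.node (.node (.node (.leaf (.up 3 1970 7)) (.leaf (.up 4 712 0))) (.node (.leaf (.up 4 7 7)) (.leaf (.up 4 1110 5)))) (.node (.node (.leaf (.up 3 2013 6)) (.leaf (.up 4 266 2))) (.node (.leaf (.up 2 1511 3)) (.leaf (.up 4 310 6))))) (.node (.node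 (.node (.leaf (.up 5 1975 7)) (.leaf (.up 4 203 4))) (.node (.leaf (.up 4 1633 5)) (.leaf (.up 3 103 3)))) (.node (.node (.leaf (.up 4 1383 1)) (.leaf (.up 4 688 7))) (.node (.leaf (.up 3 1679 2)) (.leaf (.up 2 1285 7))))))))

noncomputable def vt1_1_011 : Tr VStep := .node vt1_1_0110 vt1_1_0111

noncomputable def vt1_1_01 : Tr VStep := .node vt1_1_010 vt1_1_011

noncomputable def vt1_1_0 : Tr VStep := .node vt1_1_00 vt1_1_01

noncomputable def vt1_1_1000 : Tr VStep :=
  .node (.node (.node (.node (.node (.node (.node (.leaf (.root 99)) (.leaf (.up 4 1209 2))) (.node (.leaf (.up 3 1176 2)) (.leaf (.up 2 603 4)))) (.node (.node (.leaf (.up 3 725 6)) (.leaf (.up 4 1599 5))) (.node (.leaf (.up 3 1186 7)) (.leaf (.up 2 408 3))))) (.node (.node (.node (.leaf (.up 4 1034 5)) (.leaf (.up 4 1557 7))) (.node (.leaf (.up 4 1433 6)) (.leaf (.up 4 1488 5)))) (.node (.node (.leaf (.up 4 786 7)) (.leaf (.up 3 399 1))) (.node (.leaf (.up 4 1191 7)) (.leaf (.up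 4 138 0)))))) (.node (.node (.node (.node (.leaf (.up 3 1752 3)) (.leaf (.up 4 368 6))) (.node (.leaf (.up 4 65 1)) (.leaf (.up 3 539 4)))) (.node (.node (.leaf (.up 4 2008 1)) (.leaf (.up 4 1581 0))) (.node (.leaf (.up 4 262 5)) (.leaf (.up 4 732 5))))) (.node (.node (.node (.leaf (.up 2 1954 2)) (.leaf (.up 4 651 7))) (.node (.leaf (.up 4 1509 0)) (.leaf (.up 4 1937 6)))) (.node (.node (.leaf (.up 4 747 5)) (.leaf (.up 4 1336 4))) (.node (.leaf (.up 4 1293 1)) (.leaf (.up 4 1596 6))))))) (.node (.node (.node (.node (.node (.leaf (.up 4 1336 0)) (.leaf (.up 5 1565 5))) (.node (.leaf (.up 4 1389 6)) (.leaf (.up 4 1053 5)))) (.node (.node (.leaf (.up 3 1983 4)) (.leaf (.up 3 1166 4))) (.node (.leaf (.up 4 1913 7)) (.leaf (.up 4 557 4))))) (.node (.node (.node (.leaf (.up 4 1519 7)) (.leaf (.up 3 169 2))) (.node (.leaf (.up 4 136 2)) (.leaf (.up 4 635 7)))) (.node (.node (.leaf (.up 4 1455 1)) (.leaf (.up 3 83 0))) (.node (.leaf (.up 3 1721 1))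 (.leaf (.up 3 1776 0)))))) (.node (.node (.node (.node (.leaf (.up 3 1784 3)) (.leaf (.up 4 1328 0))) (.node (.leaf (.up 4 1031 2)) (.leaf (.up 3 915 0)))) (.node (.node (.leaf (.up 2 1106 7)) (.leaf (.up 5 107 6))) (.node (.leaf (.up 4 294 5)) (.leaf (.up 4 1736 6))))) (.node (.node (.node (.leaf (.up 4 713 5)) (.leaf (.up 2 336 7))) (.node (.leaf (.up 4 1732 7)) (.leaf (.up 3 1765 7)))) (.node (.node (.leaf (.up 3 715 5)) (.leaf (.up 4 888 3))) (.node (.leaf (.up 3 1784 0)) (.leaf (.up 4 813 4)))))))) (.node (.node (.node (.node (.node (.node (.leaf (.up 3 2013 7)) (.leaf (.up 3 1623 6))) (.node (.leaf (.up 4 104 7)) (.leaf (.up 4 73 7)))) (.node (.node (.leaf (.up 3 1970 6)) (.leaf (.up 3 1984 0))) (.node (.leaf (.up 3 1206 4)) (.leaf (.up 3 392 3))))) (.node (.node (.node (.leaf (.up 4 2008 7)) (.leaf (.up 3 520 3))) (.node (.leaf (.up 4 1550 5)) (.leaf (.up 1 8 3)))) (.node (.node (.leaf (.up 4 1800 3)) (.leaf (.up 4 100 4))) (.node (.leaf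 (.up 4 1526 4)) (.leaf (.up 3 295 0)))))) (.node (.node (.node (.node (.leaf (.up 4 835 7)) (.leaf (.up 4 712 3))) (.node (.leaf (.up 4 1224 3)) (.leaf (.up 4 1799 4)))) (.node (.node (.leaf (.up 3 770 5)) (.leaf (.up 4 356 4))) (.node (.leaf (.up 5 258 5)) (.leaf (.up 4 793 6))))) (.node (.node (.node (.leaf (.up 3 838 7)) (.leaf (.up 4 1794 2))) (.node (.leaf (.up 5 1305 1)) (.leaf (.up 4 758 6)))) (.node (.node (.leaf (.up 4 1632 7)) (.leaf (.up 4 1601 7))) (.node (.leaf (.up 3 303 0)) (.leaf (.up 4 359 0))))))) (.node (.node (.node (.node (.node (.leaf (.up 4 1475 5)) (.leaf (.up 4 338 4))) (.node (.leaf (.up 5 1216 4)) (.leaf (.up 4 66 6)))) (.node (.node (.leaf (.up 4 675 4)) (.leaf (.up 4 257 7))) (.node (.leaf (.up 4 993 1)) (.leaf (.up 4 424 3))))) (.node (.node (.node (.leaf (.up 3 9 2)) (.leaf (.up 4 2036 5))) (.node (.leaf (.up 3 626 0)) (.leaf (.up 1 0 6)))) (.node (.node (.leaf (.up 4 293 7)) (.leaf (.up 3 1419 1))) (.node (.leaf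 (.up 4 1680 7)) (.leaf (.up 2 1713 7)))))) (.node (.node (.node (.node (.leaf (.up 4 1237 0)) (.leaf (.up 3 744 3))) (.node (.leaf (.up 3 630 0)) (.leaf (.up 3 1969 4)))) (.node (.node (.leaf (.up 3 1646 2)) (.leaf (.up 5 248 5))) (.node (.leaf (.up 3 1088 4)) (.leaf (.up 4 554 7))))) (.node (.node (.node (.leaf (.up 4 1680 1)) (.leaf (.up 3 1206 2))) (.node (.leaf (.up 3 520 6)) (.leaf (.up 3 313 1)))) (.node (.node (.leaf (.up 4 502 0)) (.leaf (.up 4 1358 6))) (.node (.leaf (.up 4 526 7)) (.leaf (.up 4 559 7))))))))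

noncomputable def vt1_1_1001 : Tr VStep :=
  .node (.node (.node (.node (.node (.node (.node (.leaf (.up 2 729 1)) (.leaf (.up 4 1767 7))) (.node (.leaf (.up 3 463 1)) (.leaf (.up 4 338 7)))) (.node (.node (.leaf (.up 5 1171 4)) (.leaf (.up 2 1954 4))) (.node (.leaf (.up 3 2046 2)) (.leaf (.up 3 1166 0))))) (.node (.node (.node (.leaf (.up 3 1731 7)) (.leaf (.up 4 2008 5))) (.node (.leaf (.up 3 944 4)) (.leaf (.up 4 343 7)))) (.node (.node (.leaf (.up 4 1808 3)) (.leaf (.up 5 617 0))) (.node (.leaf (.up 2 1296 3)) (.leaf (.up 3 1226 0)))))) (.node (.node (.node (.node (.leaf (.up 3 1858 0)) (.leaf (.up 4 214 5))) (.node (.leaf (.up 4 688 4)) (.leaf (.up 5 385 4)))) (.node (.node (.leaf (.up 4 1235 4)) (.leaf (.up 3 839 6))) (.node (.leaf (.up 4 203 7)) (.leaf (.up 5 234 7))))) (.node (.node (.node (.leaf (.up 3 1798 0)) (.leaf (.up 3 636 7))) (.node (.leaf (.up 3 1512 7)) (.leaf (.up 2 1481 7)))) (.node (.node (.leaf (.up 3 1427 4)) (.leaf (.up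 1 1 1))) (.node (.leaf (.up 3 1218 0)) (.leaf (.up 1 1 4))))))) (.node (.node (.node (.node (.node (.leaf (.up 3 582 1)) (.leaf (.up 4 688 3))) (.node (.leaf (.up 2 336 1)) (.leaf (.up 3 176 3)))) (.node (.node (.leaf (.up 3 59 7)) (.leaf (.up 3 630 1))) (.node (.leaf (.up 4 1934 7)) (.leaf (.up 4 1967 7))))) (.node (.node (.node (.leaf (.up 2 22 6)) (.leaf (.up 3 295 2))) (.node (.leaf (.up 4 1717 6)) (.leaf (.up 4 652 7)))) (.node (.node (.leaf (.up 4 62 7)) (.leaf (.up 4 2042 5))) (.node (.leaf (.up 4 1052 1)) (.leaf (.up 4 1146 2)))))) (.node (.node (.node (.node (.leaf (.up 3 812 5)) (.leaf (.up 4 368 0))) (.node (.leaf (.up 4 635 1)) (.leaf (.up 4 1732 1)))) (.node (.node (.leaf (.up 4 1189 7)) (.leaf (.up 4 1047 0))) (.node (.leaf (.up 5 784 7)) (.leaf (.up 4 587 1))))) (.node (.node (.node (.leaf (.up 3 380 0)) (.leaf (.up 4 1748 4))) (.node (.leaf (.up 3 193 5)) (.leaf (.up 4 1799 1)))) (.node (.node (.leaf (.up 5 1184 7)) (.leaf (.up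 4 1107 0))) (.node (.leaf (.up 5 789 7)) (.leaf (.up 2 1296 6)))))))) (.node (.node (.node (.node (.node (.node (.leaf (.up 5 1602 1)) (.leaf (.up 3 1485 6))) (.node (.leaf (.up 4 546 2)) (.leaf (.up 4 1245 4)))) (.node (.node (.leaf (.up 3 399 4)) (.leaf (.up 4 557 7))) (.node (.leaf (.up 3 2025 5)) (.leaf (.up 4 1053 4))))) (.node (.node (.node (.leaf (.up 4 1771 0)) (.leaf (.up 4 512 3))) (.node (.leaf (.up 3 1414 2)) (.leaf (.up 1 0 0)))) (.node (.node (.leaf (.up 4 219 2)) (.leaf (.up 3 1969 1))) (.node (.leaf (.up 4 713 6)) (.leaf (.up 3 1437 7)))))) (.node (.node (.node (.node (.leaf (.up 4 948 7)) (.leaf (.up 3 574 4))) (.node (.leaf (.up 5 1216 3)) (.leaf (.up 4 1693 2)))) (.node (.node (.leaf (.up 3 463 4)) (.leaf (.up 5 1715 7))) (.node (.leaf (.up 3 295 7)) (.leaf (.up 4 262 7))))) (.node (.node (.node (.leaf (.up 4 1927 6)) (.leaf (.up 2 319 5))) (.node (.leaf (.up 1 8 0)) (.leaf (.up 3 313 2)))) (.node (.node (.leaf (.up 5 1687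 7)) (.leaf (.up 4 1718 7))) (.node (.leaf (.up 4 1580 4)) (.leaf (.up 3 193 6))))))) (.node (.node (.node (.node (.node (.leaf (.up 4 1265 7)) (.leaf (.up 4 712 4))) (.node (.leaf (.up 4 836 7)) (.leaf (.up 4 1131 4)))) (.node (.node (.leaf (.up 2 1481 5)) (.leaf (.up 3 520 4))) (.node (.leaf (.up 2 1993 5)) (.leaf (.up 4 857 0))))) (.node (.node (.node (.leaf (.up 4 1268 7)) (.leaf (.up 3 544 3))) (.node (.leaf (.up 5 833 7)) (.leaf (.up 2 922 6)))) (.node (.node (.leaf (.up 4 1526 0)) (.leaf (.up 3 2046 5))) (.node (.leaf (.up 4 1754 4)) (.leaf (.up 4 1606 7)))))) (.node (.node (.node (.node (.leaf (.up 4 111 7)) (.leaf (.up 4 668 2))) (.node (.leaf (.up 4 296 5)) (.leaf (.up 2 408 6)))) (.node (.node (.leaf (.up 4 1758 6)) (.leaf (.up 4 584 4))) (.node (.leaf (.up 5 298 5)) (.leaf (.up 3 480 3))))) (.node (.node (.node (.leaf (.up 4 1632 3)) (.leaf (.up 4 1336 2))) (.node (.leaf (.up 5 2015 7)) (.leaf (.up 3 924 1)))) (.node (.node (.leaf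 (.up 5 57 4)) (.leaf (.up 3 1029 1))) (.node (.leaf (.up 4 63 6)) (.leaf (.up 5 797 5))))))))

noncomputable def vt1_1_100 : Tr VStep := .node vt1_1_1000 vt1_1_1001

noncomputable def vt1_1_1010 : Tr VStep :=
  .node (.node (.node (.node (.node (.node (.node (.leaf (.up 3 1249 1)) (.leaf (.up 2 1681 7))) (.node (.leaf (.up 3 261 7)) (.leaf (.up 4 840 1)))) (.node (.node (.leaf (.up 2 1993 6)) (.leaf (.up 1 8 2))) (.node (.leaf (.up 3 1436 3)) (.leaf (.up 4 1991 1))))) (.node (.node (.node (.leaf (.up 4 1717 7)) (.leaf (.up 3 223 4))) (.node (.leaf (.up 4 1052 3)) (.leaf (.up 4 1472 5)))) (.node (.node (.leaf (.up 3 915 7)) (.leaf (.up 4 796 3))) (.node (.leaf (.up 4 296 6)) (.leaf (.up 4 1031 7)))))) (.node (.node (.node (.node (.leaf (.up 4 1756 3)) (.leaf (.up 4 479 4))) (.node (.leaf (.up 3 1435 7)) (.leaf (.up 4 1916 4)))) (.node (.node (.leaf (.up 4 837 1)) (.leaf (.up 3 1773 0))) (.node (.leaf (.up 3 1500 3)) (.leaf (.up 4 476 3))))) (.node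 (.node (.node (.leaf (.up 4 555 7)) (.leaf (.up 4 522 7))) (.node (.leaf (.up 4 1293 4)) (.leaf (.up 4 1596 4)))) (.node (.node (.leaf (.up 4 1761 0)) (.leaf (.up 4 289 5))) (.node (.leaf (.up 3 1485 4)) (.leaf (.up 5 153 7))))))) (.node (.node (.node (.node (.node (.leaf (.up 4 1724 3)) (.leaf (.up 3 193 1))) (.node (.leaf (.up 4 1211 4)) (.leaf (.up 4 1761 2)))) (.node (.node (.leaf (.up 3 77 7)) (.leaf (.up 4 1551 5))) (.node (.leaf (.up 4 1596 0)) (.leaf (.up 4 2009 7))))) (.node (.node (.node (.leaf (.up 4 1680 6)) (.leaf (.up 3 1776 2))) (.node (.leaf (.up 4 1084 3)) (.leaf (.up 4 1738 4)))) (.node (.node (.leaf (.up 4 219 0)) (.leaf (.up 3 1909 6))) (.node (.leaf (.up 4 414 6)) (.leaf (.up 3 470 6)))))) (.node (.node (.node (.node (.leaf (.up 5 1170 6)) (.leaf (.up 5 361 4))) (.node (.leaf (.up 4 1275 4)) (.leaf (.up 4 1482 2)))) (.node (.node (.leaf (.up 3 223 0)) (.leaf (.up 4 1893 1))) (.node (.leaf (.up 3 924 6)) (.leaf (.up 3 839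 7))))) (.node (.node (.node (.leaf (.up 2 729 5)) (.leaf (.up 3 553 1))) (.node (.leaf (.up 4 1148 3)) (.leaf (.up 2 319 1)))) (.node (.node (.leaf (.up 4 1916 3)) (.leaf (.up 3 1271 7))) (.node (.leaf (.up 4 219 5)) (.leaf (.up 3 380 3)))))))) (.node (.node (.node (.node (.node (.node (.leaf (.up 3 1523 5)) (.leaf (.up 3 1492 2))) (.node (.leaf (.up 4 876 1)) (.leaf (.up 3 1512 6)))) (.node (.node (.leaf (.up 4 1864 0)) (.leaf (.up 2 603 7))) (.node (.leaf (.up 4 1487 7)) (.leaf (.up 4 137 2))))) (.node (.node (.node (.leaf (.up 5 619 0)) (.leaf (.up 4 1475 4))) (.node (.leaf (.up 4 1224 0)) (.leaf (.up 5 205 7)))) (.node (.node (.leaf (.up 4 1052 5)) (.leaf (.up 3 1283 4))) (.node (.leaf (.up 4 1482 7)) (.leaf (.up 4 1031 6)))))) (.node (.node (.node (.node (.leaf (.up 5 784 5)) (.leaf (.up 4 2030 1))) (.node (.leaf (.up 4 272 5)) (.leaf (.up 4 1110 7)))) (.node (.node (.leaf (.up 4 786 5)) (.leaf (.up 4 1047 2))) (.node (.leaf (.up 4 1224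 1)) (.leaf (.up 4 368 7))))) (.node (.node (.node (.leaf (.up 4 658 1)) (.leaf (.up 3 295 5))) (.node (.leaf (.up 2 1954 6)) (.leaf (.up 4 1107 7)))) (.node (.node (.leaf (.up 4 1761 7)) (.leaf (.up 4 293 5))) (.node (.leaf (.up 4 1551 6)) (.leaf (.up 4 423 0))))))) (.node (.node (.node (.node (.node (.leaf (.up 3 229 1)) (.leaf (.up 4 1190 7))) (.node (.leaf (.up 4 1601 2)) (.leaf (.up 5 787 7)))) (.node (.node (.leaf (.up 4 796 2)) (.leaf (.up 4 1547 5))) (.node (.leaf (.up 4 1916 1)) (.leaf (.up 4 2009 0))))) (.node (.node (.node (.leaf (.up 4 1580 3)) (.leaf (.up 2 1187 7))) (.node (.leaf (.up 5 1598 5)) (.leaf (.up 3 1679 1)))) (.node (.node (.leaf (.up 4 374 0)) (.leaf (.up 3 530 6))) (.node (.leaf (.up 4 1596 5)) (.leaf (.up 4 512 1)))))) (.node (.node (.node (.node (.leaf (.up 3 1772 3)) (.leaf (.up 4 56 7))) (.node (.leaf (.up 4 1878 6)) (.leaf (.up 5 1933 7)))) (.node (.node (.leaf (.up 4 1924 4)) (.leaf (.up 3 1205 4))) (.node (.leaf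 (.up 3 295 4)) (.leaf (.up 2 22 2))))) (.node (.node (.node (.leaf (.up 4 525 1)) (.leaf (.up 4 620 3))) (.node (.leaf (.up 4 718 2)) (.leaf (.up 4 1444 1)))) (.node (.node (.leaf (.up 4 1732 4)) (.leaf (.up 3 261 5))) (.node (.leaf (.up 3 1721 6)) (.leaf (.up 3 2013 0))))))))

noncomputable def vt1_1_1011 : Tr VStep :=
  .node (.node (.node (.node (.node (.node (.node (.leaf (.up 5 1274 2)) (.leaf (.up 4 517 4))) (.node (.leaf (.up 3 353 0)) (.leaf (.up 4 1190 4)))) (.node (.node (.leaf (.up 3 715 1)) (.leaf (.up 3 1575 5))) (.node (.leaf (.up 4 1879 4)) (.leaf (.up 5 1269 7))))) (.node (.node (.node (.leaf (.up 4 116 4)) (.leaf (.up 3 1226 2))) (.node (.leaf (.up 4 293 0)) (.leaf (.up 3 470 7)))) (.node (.node (.leaf (.up 4 438 2)) (.leaf (.up 4 837 7))) (.node (.leaf (.up 5 1233 7)) (.leaf (.up 4 1264 7)))))) (.node (.node (.node (.node (.leaf (.up 2 729 7)) (.leaf (.up 4 581 4))) (.node (.leaf (.up 3 1657 1)) (.leaf (.up 5 341 6)))) (.node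 (.node (.leaf (.up 3 480 1)) (.leaf (.up 5 685 0))) (.node (.leaf (.up 3 1492 3)) (.leaf (.up 5 107 7))))) (.node (.node (.node (.leaf (.up 4 52 4)) (.leaf (.up 3 596 3))) (.node (.leaf (.up 3 351 6)) (.leaf (.up 4 773 1)))) (.node (.node (.leaf (.up 4 2042 7)) (.leaf (.up 2 2011 7))) (.node (.leaf (.up 3 1623 4)) (.leaf (.up 4 110 7))))))) (.node (.node (.node (.node (.node (.leaf (.up 3 1436 7)) (.leaf (.up 4 1469 7))) (.node (.leaf (.up 3 553 7)) (.leaf (.up 3 520 7)))) (.node (.node (.leaf (.up 3 322 4)) (.leaf (.up 3 1543 5))) (.node (.leaf (.up 3 531 2)) (.leaf (.up 4 1031 5))))) (.node (.node (.node (.leaf (.up 4 1433 7)) (.leaf (.up 4 1011 4))) (.node (.leaf (.up 4 556 7)) (.leaf (.up 3 1512 5)))) (.node (.node (.leaf (.up 3 1179 0)) (.leaf (.up 4 158 7))) (.node (.leaf (.up 4 1332 3)) (.leaf (.up 4 1424 4)))))) (.node (.node (.node (.node (.leaf (.up 4 1800 6)) (.leaf (.up 5 291 7))) (.node (.leaf (.up 4 1719 7)) (.leaf (.up 4 1686 7))))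 (.node (.node (.leaf (.up 4 383 1)) (.leaf (.up 3 1773 6))) (.node (.leaf (.up 3 6 6)) (.leaf (.up 3 944 7))))) (.node (.node (.node (.leaf (.up 5 263 7)) (.leaf (.up 4 1794 6))) (.node (.leaf (.up 4 209 5)) (.leaf (.up 2 1296 4)))) (.node (.node (.leaf (.up 4 297 2)) (.leaf (.up 5 883 4))) (.node (.leaf (.up 4 632 0)) (.leaf (.up 4 1488 4)))))))) (.node (.node (.node (.node (.node (.node (.leaf (.up 4 735 1)) (.leaf (.up 3 1575 0))) (.node (.leaf (.up 4 651 4)) (.leaf (.up 4 1007 2)))) (.node (.node (.leaf (.up 4 1529 5)) (.leaf (.up 3 380 6))) (.node (.leaf (.up 4 1336 7)) (.leaf (.up 4 1059 5))))) (.node (.node (.node (.leaf (.up 4 219 6)) (.leaf (.up 3 1935 7))) (.node (.leaf (.up 4 136 0)) (.leaf (.up 3 1205 1)))) (.node (.node (.leaf (.up 4 374 6)) (.leaf (.up 2 1689 4))) (.node (.leaf (.up 4 1519 0)) (.leaf (.up 4 1486 5)))))) (.node (.node (.node (.node (.leaf (.up 2 729 6)) (.leaf (.up 5 788 7))) (.node (.leaf (.up 3 715 4)) (.leaf (.up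 4 1185 7)))) (.node (.node (.leaf (.up 4 525 2)) (.leaf (.up 4 1945 4))) (.node (.leaf (.up 5 422 7)) (.leaf (.up 4 556 2))))) (.node (.node (.node (.leaf (.up 4 1320 4)) (.leaf (.up 3 303 5))) (.node (.leaf (.up 4 1157 7)) (.leaf (.up 4 1188 7)))) (.node (.node (.leaf (.up 3 1512 4)) (.leaf (.up 3 894 6))) (.node (.leaf (.up 4 1455 0)) (.leaf (.up 2 1511 0))))))) (.node (.node (.node (.node (.node (.leaf (.up 3 1499 5)) (.leaf (.up 3 93 0))) (.node (.leaf (.up 2 2011 5)) (.leaf (.up 4 1732 6)))) (.node (.node (.leaf (.up 4 658 2)) (.leaf (.up 4 1903 4))) (.node (.leaf (.up 4 1763 7)) (.leaf (.up 5 691 2))))) (.node (.node (.node (.leaf (.up 4 899 1)) (.leaf (.up 4 1108 7))) (.node (.leaf (.up 5 107 2)) (.leaf (.up 4 993 7)))) (.node (.node (.leaf (.up 4 1804 1)) (.leaf (.up 3 1583 4))) (.node (.leaf (.up 4 1588 5)) (.leaf (.up 4 1303 2)))))) (.node (.node (.node (.node (.leaf (.up 4 824 5)) (.leaf (.up 3 1492 1))) (.node (.leaf (.up 4 312 5))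 (.leaf (.up 3 738 5)))) (.node (.node (.leaf (.up 4 2020 3)) (.leaf (.up 4 1581 2))) (.node (.leaf (.up 5 314 5)) (.leaf (.up 2 408 2))))) (.node (.node (.node (.leaf (.up 3 725 5)) (.leaf (.up 4 1047 1))) (.node (.leaf (.up 3 1166 6)) (.leaf (.up 3 1793 1)))) (.node (.node (.leaf (.up 3 1485 7)) (.leaf (.up 4 152 1))) (.node (.leaf (.up 4 632 7)) (.leaf (.up 4 1596 2))))))))

noncomputable def vt1_1_101 : Tr VStep := .node vt1_1_1010 vt1_1_1011

noncomputable def vt1_1_10 : Tr VStep := .node vt1_1_100 vt1_1_101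

noncomputable def vt1_1_1100 : Tr VStep :=
  .node (.node (.node (.node (.node (.node (.node (.leaf (.up 4 876 7)) (.leaf (.up 4 845 7))) (.node (.leaf (.up 3 1241 7)) (.leaf (.up 4 415 2)))) (.node (.node (.leaf (.up 3 825 0)) (.leaf (.up 2 922 3))) (.node (.leaf (.up 3 1206 6)) (.leaf (.up 5 1278 6))))) (.node (.node (.node (.leaf (.up 4 1290 5)) (.leaf (.up 3 538 3))) (.node (.leaf (.up 5 1244 7)) (.leaf (.up 3 905 1)))) (.node (.node (.leaf (.up 4 2020 4)) (.leaf (.up 3 1646 7))) (.node (.leaf (.up 3 839 2)) (.leaf (.up 3 630 4)))))) (.node (.node (.node (.node (.leaf (.up 4 1754 3)) (.leaf (.up 3 1301 4))) (.node (.leaf (.up 4 1502 1)) (.leaf (.up 3 353 1)))) (.node (.node (.leaf (.up 5 518 5)) (.leaf (.up 3 2025 2))) (.node (.leaf (.up 3 6 5)) (.leaf (.up 5 474 3))))) (.node (.node (.node (.leaf (.up 5 1803 1)) (.leaf (.up 4 498 6))) (.node (.leaf (.up 4 66 7)) (.leaf (.up 2 1296 2)))) (.node (.node (.leaf (.up 4 900 1)) (.leaf (.up 3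 77 2))) (.node (.leaf (.up 4 1370 3)) (.leaf (.up 4 1349 7))))))) (.node (.node (.node (.node (.node (.leaf (.up 4 183 7)) (.leaf (.up 3 838 6))) (.node (.leaf (.up 4 1794 7)) (.leaf (.up 3 725 1)))) (.node (.node (.leaf (.up 4 675 6)) (.leaf (.up 4 1456 7))) (.node (.leaf (.up 4 177 4)) (.leaf (.up 4 517 7))))) (.node (.node (.node (.leaf (.up 3 1215 1)) (.leaf (.up 1 0 1))) (.node (.leaf (.up 3 539 2)) (.leaf (.up 4 1830 7)))) (.node (.node (.leaf (.up 4 1320 5)) (.leaf (.up 4 1461 7))) (.node (.leaf (.up 4 806 1)) (.leaf (.up 4 1945 1)))))) (.node (.node (.node (.node (.leaf (.up 3 1623 1)) (.leaf (.up 3 744 1))) (.node (.leaf (.up 3 924 7)) (.leaf (.up 3 1679 0)))) (.node (.node (.leaf (.up 3 1618 4)) (.leaf (.up 5 302 7))) (.node (.leaf (.up 4 928 0)) (.leaf (.up 5 1020 5))))) (.node (.node (.node (.leaf (.up 4 1940 1)) (.leaf (.up 3 324 6))) (.node (.leaf (.up 4 1146 3)) (.leaf (.up 3 531 5)))) (.node (.node (.leaf (.up 4 266 7)) (.leaf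 (.up 4 299 7))) (.node (.leaf (.up 4 459 5)) (.leaf (.up 4 1202 1)))))))) (.node (.node (.node (.node (.node (.node (.leaf (.up 4 1759 6)) (.leaf (.up 4 650 3))) (.node (.leaf (.up 2 336 0)) (.leaf (.up 4 138 3)))) (.node (.node (.leaf (.up 3 1249 5)) (.leaf (.up 4 137 4))) (.node (.leaf (.up 4 1418 3)) (.leaf (.up 4 1091 2))))) (.node (.node (.node (.leaf (.up 4 1693 6)) (.leaf (.up 4 1748 5))) (.node (.leaf (.up 3 1179 4)) (.leaf (.up 4 1297 7)))) (.node (.node (.leaf (.up 4 1840 6)) (.leaf (.up 2 1106 2))) (.node (.leaf (.up 2 22 7)) (.leaf (.up 4 1898 4)))))) (.node (.node (.node (.node (.leaf (.up 2 595 1)) (.leaf (.up 3 9 4))) (.node (.leaf (.up 1 0 5)) (.leaf (.up 4 628 6)))) (.node (.node (.leaf (.up 4 514 5)) (.leaf (.up 4 668 0))) (.node (.leaf (.up 4 1482 1)) (.leaf (.up 4 1087 0))))) (.node (.node (.node (.leaf (.up 4 632 4)) (.leaf (.up 3 1983 0))) (.node (.leaf (.up 4 1456 2)) (.leaf (.up 3 399 7)))) (.node (.node (.leaf (.up 4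 1007 5)) (.leaf (.up 4 1336 6))) (.node (.leaf (.up 4 495 5)) (.leaf (.up 4 1193 7))))))) (.node (.node (.node (.node (.node (.leaf (.up 4 1706 3)) (.leaf (.up 5 1368 1))) (.node (.leaf (.up 3 1731 5)) (.leaf (.up 5 1305 5)))) (.node (.node (.leaf (.up 4 1149 7)) (.leaf (.up 4 1190 0))) (.node (.leaf (.up 4 359 6)) (.leaf (.up 3 303 6))))) (.node (.node (.node (.leaf (.up 4 1326 5)) (.leaf (.up 3 1179 1))) (.node (.leaf (.up 4 1771 7)) (.leaf (.up 4 1830 0)))) (.node (.node (.leaf (.up 4 1195 1)) (.leaf (.up 4 1998 6))) (.node (.leaf (.up 4 293 6)) (.leaf (.up 3 770 1)))))) (.node (.node (.node (.node (.leaf (.up 3 544 5)) (.leaf (.up 5 385 0))) (.node (.leaf (.up 4 1898 0)) (.leaf (.up 4 1564 4)))) (.node (.node (.leaf (.up 4 546 5)) (.leaf (.up 5 1484 6))) (.node (.leaf (.up 4 1878 7)) (.leaf (.up 4 581 0))))) (.node (.node (.node (.leaf (.up 4 1472 7)) (.leaf (.up 4 511 4))) (.node (.leaf (.up 4 712 6)) (.leaf (.up 3 596 7)))) (.node (.node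 (.leaf (.up 4 1898 3)) (.leaf (.up 2 319 4))) (.node (.leaf (.up 3 463 5)) (.leaf (.up 4 813 6))))))))

noncomputable def vt1_1_1101 : Tr VStep :=
  .node (.node (.node (.node (.node (.node (.node (.leaf (.up 4 48 2)) (.leaf (.up 4 658 3))) (.node (.leaf (.up 4 1775 5)) (.leaf (.up 3 1737 6)))) (.node (.node (.leaf (.up 3 399 6)) (.leaf (.up 4 1551 4))) (.node (.leaf (.up 3 1773 5)) (.leaf (.up 4 297 7))))) (.node (.node (.node (.leaf (.up 4 1940 2)) (.leaf (.up 1 0 2))) (.node (.leaf (.up 3 1731 6)) (.leaf (.up 4 1034 7)))) (.node (.node (.leaf (.up 4 522 1)) (.leaf (.up 2 1689 7))) (.node (.leaf (.up 4 414 0)) (.leaf (.up 3 470 0)))))) (.node (.node (.node (.node (.leaf (.up 5 606 0)) (.leaf (.up 3 1679 4))) (.node (.leaf (.up 3 176 7)) (.leaf (.up 3 1205 0)))) (.node (.node (.leaf (.up 4 226 1)) (.leaf (.up 4 514 7))) (.node (.leaf (.up 4 1430 7)) (.leaf (.up 5 1463 7))))) (.node (.node (.node (.leaf (.up 3 538 0)) (.leaf (.up 3 59 5))) (.node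 (.leaf (.up 2 1106 3)) (.leaf (.up 4 1182 2)))) (.node (.node (.leaf (.up 3 1623 2)) (.leaf (.up 4 519 7))) (.node (.leaf (.up 3 1427 7)) (.leaf (.up 4 1458 7))))))) (.node (.node (.node (.node (.node (.leaf (.up 3 64 7)) (.leaf (.up 3 1657 4))) (.node (.leaf (.up 3 1591 6)) (.leaf (.up 3 1301 5)))) (.node (.node (.leaf (.up 3 313 6)) (.leaf (.up 3 2025 1))) (.node (.leaf (.up 3 1946 6)) (.leaf (.up 4 2024 0))))) (.node (.node (.node (.leaf (.up 4 214 6)) (.leaf (.up 3 1784 5))) (.node (.leaf (.up 5 917 2)) (.leaf (.up 3 715 0)))) (.node (.node (.leaf (.up 4 1224 4)) (.leaf (.up 4 1346 7))) (.node (.leaf (.up 4 2020 0)) (.leaf (.up 4 759 7)))))) (.node (.node (.node (.node (.leaf (.up 4 556 5)) (.leaf (.up 3 77 1))) (.node (.leaf (.up 4 2020 1)) (.leaf (.up 4 242 3)))) (.node (.node (.leaf (.up 5 558 5)) (.leaf (.up 3 1218 1))) (.node (.leaf (.up 5 46 5)) (.leaf (.up 4 90 4))))) (.node (.node (.node (.leaf (.up 5 1243 7)) (.leaf (.up 3 626 3)))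 (.node (.leaf (.up 3 1575 1)) (.leaf (.up 3 539 5)))) (.node (.node (.leaf (.up 4 827 6)) (.leaf (.up 4 476 7))) (.node (.leaf (.up 4 555 4)) (.leaf (.up 4 1488 6)))))))) (.node (.node (.node (.node (.node (.node (.leaf (.up 4 1349 6)) (.leaf (.up 4 1293 6))) (.node (.leaf (.up 2 1296 0)) (.leaf (.up 5 1507 7)))) (.node (.node (.leaf (.up 4 1748 0)) (.leaf (.up 4 632 2))) (.node (.leaf (.up 4 587 6)) (.leaf (.up 3 1485 2))))) (.node (.node (.node (.leaf (.up 3 626 7)) (.leaf (.up 2 595 7))) (.node (.leaf (.up 3 1793 4)) (.leaf (.up 4 1004 6)))) (.node (.node (.leaf (.up 2 1681 1)) (.leaf (.up 2 595 4))) (.node (.leaf (.up 4 521 6)) (.leaf (.up 4 1264 4)))))) (.node (.node (.node (.node (.leaf (.up 3 520 5)) (.leaf (.up 3 915 4))) (.node (.leaf (.up 1 8 5)) (.leaf (.up 4 1328 4)))) (.node (.node (.leaf (.up 4 522 5)) (.leaf (.up 4 1756 0))) (.node (.leaf (.up 4 1146 7)) (.leaf (.up 4 1115 7))))) (.node (.node (.node (.leaf (.up 3 1772 7)) (.leaf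 (.up 4 1418 1))) (.node (.leaf (.up 4 345 7)) (.leaf (.up 3 575 5)))) (.node (.node (.leaf (.up 3 1858 3)) (.leaf (.up 2 1688 0))) (.node (.leaf (.up 4 73 6)) (.leaf (.up 1 1 6))))))) (.node (.node (.node (.node (.node (.leaf (.up 2 1481 0)) (.leaf (.up 4 1409 0))) (.node (.leaf (.up 3 848 6)) (.leaf (.up 4 792 6)))) (.node (.node (.leaf (.up 2 1954 3)) (.leaf (.up 4 1195 7))) (.node (.leaf (.up 3 1737 5)) (.leaf (.up 3 1657 2))))) (.node (.node (.node (.leaf (.up 4 1457 6)) (.leaf (.up 3 392 7))) (.node (.leaf (.up 4 786 6)) (.leaf (.up 4 1320 1)))) (.node (.node (.leaf (.up 4 1052 6)) (.leaf (.up 4 1640 2))) (.node (.leaf (.up 4 1314 3)) (.leaf (.up 3 1537 0)))))) (.node (.node (.node (.node (.leaf (.up 4 105 1)) (.leaf (.up 3 738 3))) (.node (.leaf (.up 3 40 5)) (.leaf (.up 3 1414 4)))) (.node (.node (.leaf (.up 4 554 5)) (.leaf (.up 4 53 7))) (.node (.leaf (.up 4 1953 7)) (.leaf (.up 5 1920 7))))) (.node (.node (.node (.leaf (.up 3 1485 0))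 (.leaf (.up 3 1301 1))) (.node (.leaf (.up 4 338 6)) (.leaf (.up 4 675 7)))) (.node (.node (.leaf (.up 4 17 7)) (.leaf (.up 4 226 0))) (.node (.leaf (.up 4 1956 7)) (.leaf (.up 4 652 1))))))))

noncomputable def vt1_1_110 : Tr VStep := .node vt1_1_1100 vt1_1_1101

noncomputable def vt1_1_1110 : Tr VStep :=
  .node (.node (.node (.node (.node (.node (.node (.leaf (.up 3 1271 5)) (.leaf (.up 3 1772 6))) (.node (.leaf (.up 3 616 1)) (.leaf (.up 2 1681 4)))) (.node (.node (.leaf (.up 4 1801 6)) (.leaf (.up 4 242 4))) (.node (.leaf (.up 4 1370 0)) (.leaf (.up 3 351 7))))) (.node (.node (.node (.leaf (.up 4 1754 0)) (.leaf (.up 4 1710 6))) (.node (.leaf (.up 5 2038 2)) (.leaf (.up 4 1148 7)))) (.node (.node (.leaf (.up 5 1742 7)) (.leaf (.up 4 1013 0))) (.node (.leaf (.up 5 1816 5)) (.leaf (.up 3 1218 5)))))) (.node (.node (.node (.node (.leaf (.up 4 532 5)) (.leaf (.up 4 856 2))) (.node (.leaf (.up 5 20 5)) (.leaf (.up 4 53 0)))) (.node (.node (.leaf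 (.up 4 1754 1)) (.leaf (.up 4 628 7))) (.node (.leaf (.up 2 22 5)) (.leaf (.up 5 1473 7))))) (.node (.node (.node (.leaf (.up 4 1190 6)) (.leaf (.up 4 1879 7))) (.node (.leaf (.up 4 517 6)) (.leaf (.up 4 226 7)))) (.node (.node (.leaf (.up 4 592 7)) (.leaf (.up 4 498 4))) (.node (.leaf (.up 4 1509 7)) (.leaf (.up 3 176 1))))))) (.node (.node (.node (.node (.node (.leaf (.up 4 1107 2)) (.leaf (.up 5 23 7))) (.node (.leaf (.up 4 177 6)) (.leaf (.up 2 1954 7)))) (.node (.node (.leaf (.up 2 1296 7)) (.leaf (.up 3 303 2))) (.node (.leaf (.up 5 1749 5)) (.leaf (.up 4 1767 4))))) (.node (.node (.node (.leaf (.up 4 1015 2)) (.leaf (.up 3 574 3))) (.node (.leaf (.up 4 1110 4)) (.leaf (.up 4 1959 7)))) (.node (.node (.leaf (.up 3 1301 7)) (.leaf (.up 4 1332 7))) (.node (.leaf (.up 4 1979 1)) (.leaf (.up 3 812 0)))))) (.node (.node (.node (.node (.leaf (.up 2 1106 6)) (.leaf (.up 5 494 5))) (.node (.leaf (.up 3 1543 0)) (.leaf (.up 5 1615 0)))) (.node (.node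 (.leaf (.up 3 2046 3)) (.leaf (.up 3 1419 0))) (.node (.leaf (.up 4 1430 4)) (.leaf (.up 4 1457 2))))) (.node (.node (.node (.leaf (.up 4 777 1)) (.leaf (.up 4 1974 1))) (.node (.leaf (.up 4 792 7)) (.leaf (.up 3 825 7)))) (.node (.node (.leaf (.up 4 1469 6)) (.leaf (.up 1 1 5))) (.node (.leaf (.up 4 1409 2)) (.leaf (.up 4 513 5)))))))) (.node (.node (.node (.node (.node (.node (.leaf (.up 4 513 7)) (.leaf (.up 3 544 7))) (.node (.leaf (.up 3 1460 7)) (.leaf (.up 4 1320 6)))) (.node (.node (.leaf (.up 3 596 0)) (.leaf (.up 3 1798 7))) (.node (.leaf (.up 3 636 1)) (.leaf (.up 3 538 2))))) (.node (.node (.node (.leaf (.up 4 1550 3)) (.leaf (.up 4 1732 5))) (.node (.leaf (.up 4 1457 7)) (.leaf (.up 4 1878 2)))) (.node (.node (.leaf (.up 3 169 1)) (.leaf (.up 5 600 0))) (.node (.leaf (.up 4 1203 0)) (.leaf (.up 4 182 7)))))) (.node (.node (.node (.node (.leaf (.up 4 1695 7)) (.leaf (.up 4 459 6))) (.node (.leaf (.up 4 16 5)) (.leaf (.up 2 408 0))))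 (.node (.node (.leaf (.up 3 530 5)) (.leaf (.up 4 1790 1))) (.node (.leaf (.up 4 343 1)) (.leaf (.up 3 1512 1))))) (.node (.node (.node (.leaf (.up 4 1690 7)) (.leaf (.up 4 1919 0))) (.node (.leaf (.up 3 303 7)) (.leaf (.up 4 476 0)))) (.node (.node (.leaf (.up 4 1023 5)) (.leaf (.up 4 1262 4))) (.node (.leaf (.up 3 380 4)) (.leaf (.up 4 1211 0))))))) (.node (.node (.node (.node (.node (.leaf (.up 4 885 6)) (.leaf (.up 4 1801 5))) (.node (.leaf (.up 4 1747 5)) (.leaf (.up 2 1954 0)))) (.node (.node (.leaf (.up 3 399 2)) (.leaf (.up 4 1245 7))) (.node (.leaf (.up 4 1147 6)) (.leaf (.up 4 872 7))))) (.node (.node (.node (.leaf (.up 3 2025 4)) (.leaf (.up 3 6 1))) (.node (.leaf (.up 4 1967 1)) (.leaf (.up 3 1500 6)))) (.node (.node (.leaf (.up 4 1579 2)) (.leaf (.up 4 814 3))) (.node (.leaf (.up 4 414 2)) (.leaf (.up 4 877 7)))))) (.node (.node (.node (.node (.leaf (.up 4 1774 3)) (.leaf (.up 4 2008 2))) (.node (.leaf (.up 4 753 7)) (.leaf (.up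 5 891 4)))) (.node (.node (.leaf (.up 4 2030 3)) (.leaf (.up 4 1633 1))) (.node (.leaf (.up 4 138 4)) (.leaf (.up 5 2038 7))))) (.node (.node (.node (.leaf (.up 3 1646 3)) (.leaf (.up 2 319 6))) (.node (.leaf (.up 3 93 2)) (.leaf (.up 2 1993 2)))) (.node (.node (.leaf (.up 3 103 7)) (.leaf (.up 2 1954 1))) (.node (.leaf (.up 3 1657 6)) (.leaf (.up 4 1204 1))))))))

noncomputable def vt1_1_1111 : Tr VStep :=
  .node (.node (.node (.node (.node (.node (.node (.leaf (.up 4 1279 5)) (.leaf (.up 4 827 7))) (.node (.leaf (.up 4 1199 7)) (.leaf (.up 3 1166 7)))) (.node (.node (.leaf (.up 4 1596 7)) (.leaf (.up 4 872 4))) (.node (.leaf (.up 4 1430 3)) (.leaf (.up 4 632 6))))) (.node (.node (.node (.leaf (.up 4 1298 5)) (.leaf (.up 3 744 4))) (.node (.leaf (.up 5 270 1)) (.leaf (.up 2 1163 7)))) (.node (.node (.leaf (.up 2 1296 5)) (.leaf (.up 4 1738 5))) (.node (.leaf (.up 3 626 6)) (.leaf (.up 2 1163 4)))))) (.node (.node (.node (.node (.leaf (.up 4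 540 5)) (.leaf (.up 4 1957 7))) (.node (.leaf (.up 4 1085 0)) (.leaf (.up 4 16 7)))) (.node (.node (.leaf (.up 4 1747 6)) (.leaf (.up 3 1969 0))) (.node (.leaf (.up 4 1303 7)) (.leaf (.up 3 1419 4))))) (.node (.node (.node (.leaf (.up 5 1921 7)) (.leaf (.up 4 658 0))) (.node (.leaf (.up 4 1110 3)) (.leaf (.up 4 21 7)))) (.node (.node (.leaf (.up 2 1681 6)) (.leaf (.up 3 616 4))) (.node (.leaf (.up 4 2042 4)) (.leaf (.up 3 553 5))))))) (.node (.node (.node (.node (.node (.leaf (.up 3 193 7)) (.leaf (.up 4 1472 6))) (.node (.leaf (.up 3 1206 3)) (.leaf (.up 2 1285 5)))) (.node (.node (.leaf (.up 2 1511 7)) (.leaf (.up 4 1799 5))) (.node (.leaf (.up 4 1245 1)) (.leaf (.up 4 438 3))))) (.node (.node (.node (.leaf (.up 4 1482 6)) (.leaf (.up 3 229 7))) (.node (.leaf (.up 5 1484 2)) (.leaf (.up 4 1326 1)))) (.node (.node (.leaf (.up 4 1328 5)) (.leaf (.up 3 463 0))) (.node (.leaf (.up 4 1840 5)) (.leaf (.up 3 176 2)))))) (.node (.node (.node (.node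 (.leaf (.up 3 572 5)) (.leaf (.up 4 758 3))) (.node (.leaf (.up 5 60 5)) (.leaf (.up 4 1990 1)))) (.node (.node (.leaf (.up 3 574 5)) (.leaf (.up 4 1581 6))) (.node (.leaf (.up 4 62 5)) (.leaf (.up 3 1773 7))))) (.node (.node (.node (.leaf (.up 3 303 4)) (.leaf (.up 3 630 3))) (.node (.leaf (.up 4 297 6)) (.leaf (.up 3 353 6)))) (.node (.node (.leaf (.up 3 380 7)) (.leaf (.up 3 9 5))) (.node (.leaf (.up 3 1737 7)) (.leaf (.up 4 1149 4)))))))) (.node (.node (.node (.node (.node (.node (.leaf (.up 4 758 7)) (.leaf (.up 3 1737 2))) (.node (.leaf (.up 4 1110 1)) (.leaf (.up 3 380 2)))) (.node (.node (.leaf (.up 4 1349 4)) (.leaf (.up 5 2033 7))) (.node (.leaf (.up 3 1414 3)) (.leaf (.up 5 916 2))))) (.node (.node (.node (.leaf (.up 4 1542 3)) (.leaf (.up 3 83 6))) (.node (.leaf (.up 4 1814 5)) (.leaf (.up 3 1500 0)))) (.node (.node (.leaf (.up 3 1029 4)) (.leaf (.up 4 2036 7))) (.node (.leaf (.up 5 96 7)) (.leaf (.up 4 65 7)))))) (.node (.node (.node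 (.node (.leaf (.up 3 630 2)) (.leaf (.up 5 710 3))) (.node (.leaf (.up 3 1917 1)) (.leaf (.up 5 87 4)))) (.node (.node (.leaf (.up 2 1285 4)) (.leaf (.up 4 1564 0))) (.node (.leaf (.up 4 1275 7)) (.leaf (.up 5 191 0))))) (.node (.node (.node (.leaf (.up 2 603 6)) (.leaf (.up 3 531 6))) (.node (.leaf (.up 3 1492 0)) (.leaf (.up 3 1436 0)))) (.node (.node (.leaf (.up 3 295 1)) (.leaf (.up 3 838 3))) (.node (.leaf (.up 4 503 5)) (.leaf (.up 4 1247 7))))))) (.node (.node (.node (.node (.node (.leaf (.up 3 1289 0)) (.leaf (.up 3 1793 5))) (.node (.leaf (.up 2 1688 7)) (.leaf (.up 3 1721 7)))) (.node (.node (.leaf (.up 1 1 2)) (.leaf (.up 4 266 6))) (.node (.leaf (.up 3 848 4)) (.leaf (.up 3 1283 5))))) (.node (.node (.node (.leaf (.up 4 296 7)) (.leaf (.up 2 729 2))) (.node (.leaf (.up 4 1693 7)) (.leaf (.up 4 1724 7)))) (.node (.node (.leaf (.up 4 1830 3)) (.leaf (.up 4 1580 1))) (.node (.leaf (.up 4 16 2)) (.leaf (.up 2 922 7)))))) (.node (.node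 (.node (.node (.leaf (.up 4 1268 1)) (.leaf (.up 5 1602 4))) (.node (.leaf (.up 4 56 5)) (.leaf (.up 5 551 7)))) (.node (.node (.leaf (.up 3 570 5)) (.leaf (.up 3 480 5))) (.node (.leaf (.up 4 1441 6)) (.leaf (.up 3 1793 7))))) (.node (.node (.node (.leaf (.up 4 1293 0)) (.leaf (.up 3 392 1))) (.node (.leaf (.up 4 515 7)) (.leaf (.up 4 546 7)))) (.node (.node (.leaf (.up 3 1166 2)) (.leaf (.up 4 177 7))) (.node (.leaf (.up 3 1737 0)) (.leaf (.up 3 353 4))))))))

noncomputable def vt1_1_111 : Tr VStep := .node vt1_1_1110 vt1_1_1111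

noncomputable def vt1_1_11 : Tr VStep := .node vt1_1_110 vt1_1_111

noncomputable def vt1_1_1 : Tr VStep := .node vt1_1_10 vt1_1_11

noncomputable def vt1_1_ : Tr VStep := .node vt1_1_0 vt1_1_1

noncomputable def vt1_2_0000 : Tr VStep :=
  .node (.node (.node (.node (.node (.node (.node (.leaf (.root 59)) (.leaf (.up 5 419 5))) (.node (.leaf (.up 6 830 4)) (.leaf (.up 6 549 4)))) (.node (.node (.leaf (.up 2 786 0)) (.leaf (.up 6 1424 4))) (.node (.leaf (.up 2 1437 5)) (.leaf (.up 7 594 3))))) (.node (.node (.node (.leaf (.up 7 829 4)) (.leaf (.up 7 513 5))) (.node (.leaf (.up 5 721 4)) (.leaf (.up 5 1102 5)))) (.node (.node (.leaf (.up 4 112 5)) (.leaf (.up 5 13 3))) (.node (.leaf (.up 7 1160 4)) (.leaf (.up 6 1427 4)))))) (.node (.node (.node (.node (.leaf (.up 6 1535 5)) (.leaf (.up 5 1712 5))) (.node (.leaf (.up 5 1612 4)) (.leaf (.up 2 255 5)))) (.node (.node (.leaf (.up 5 1217 5)) (.leaf (.up 3 1934 5))) (.node (.leaf (.up 7 651 3)) (.leaf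 (.up 5 449 5))))) (.node (.node (.node (.leaf (.up 4 722 0)) (.leaf (.up 7 446 3))) (.node (.leaf (.up 4 1955 4)) (.leaf (.up 7 1720 4)))) (.node (.node (.leaf (.up 4 978 0)) (.leaf (.up 6 269 4))) (.node (.leaf (.up 5 506 4)) (.leaf (.up 6 225 4))))))) (.node (.node (.node (.node (.node (.leaf (.up 8 1652 3)) (.leaf (.up 6 1907 5))) (.node (.leaf (.up 3 1638 3)) (.leaf (.up 4 316 5)))) (.node (.node (.leaf (.up 6 511 3)) (.leaf (.up 5 1613 5))) (.node (.leaf (.up 6 845 5)) (.leaf (.up 4 2 5))))) (.node (.node (.node (.leaf (.up 6 1258 4)) (.leaf (.up 6 728 3))) (.node (.leaf (.up 6 1286 4)) (.leaf (.up 5 670 5)))) (.node (.node (.leaf (.up 6 1696 5)) (.leaf (.up 6 1363 3))) (.node (.leaf (.up 5 863 4)) (.leaf (.up 6 580 4)))))) (.node (.node (.node (.node (.leaf (.up 7 76 3)) (.leaf (.up 8 1709 3))) (.node (.leaf (.up 5 1376 5)) (.leaf (.up 5 1727 3)))) (.node (.node (.leaf (.up 7 529 5)) (.leaf (.up 4 294 3))) (.node (.leaf (.up 4 1118 5))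 (.leaf (.up 5 1809 5))))) (.node (.node (.node (.leaf (.up 6 1657 1)) (.leaf (.up 6 962 5))) (.node (.leaf (.up 2 531 3)) (.leaf (.up 6 1421 5)))) (.node (.node (.leaf (.up 6 435 5)) (.leaf (.up 5 764 5))) (.node (.leaf (.up 6 1581 4)) (.leaf (.up 4 1203 5)))))))) (.node (.node (.node (.node (.node (.node (.leaf (.up 6 296 3)) (.leaf (.up 6 1795 4))) (.node (.leaf (.up 4 314 3)) (.leaf (.up 6 1657 5)))) (.node (.node (.leaf (.up 7 583 5)) (.leaf (.up 6 264 5))) (.node (.leaf (.up 6 429 4)) (.leaf (.up 6 1863 5))))) (.node (.node (.node (.leaf (.up 6 869 3)) (.leaf (.up 4 1412 3))) (.node (.leaf (.up 6 887 3)) (.leaf (.up 7 1499 5)))) (.node (.node (.leaf (.up 5 485 5)) (.leaf (.up 5 527 3))) (.node (.leaf (.up 6 1962 5)) (.leaf (.up 6 541 3)))))) (.node (.node (.node (.node (.leaf (.up 7 1130 5)) (.leaf (.up 6 497 3))) (.node (.leaf (.up 6 549 5)) (.leaf (.up 7 925 4)))) (.node (.node (.leaf (.up 5 1331 4)) (.leaf (.up 7 1563 5))) (.node (.leaf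 (.up 6 795 5)) (.leaf (.up 7 1640 3))))) (.node (.node (.node (.leaf (.up 5 645 4)) (.leaf (.up 5 1159 5))) (.node (.leaf (.up 4 1359 3)) (.leaf (.up 6 712 5)))) (.node (.node (.leaf (.up 5 1782 5)) (.leaf (.up 7 1465 5))) (.node (.leaf (.up 3 708 3)) (.leaf (.up 4 589 2))))))) (.node (.node (.node (.node (.node (.leaf (.up 5 463 4)) (.leaf (.up 6 212 4))) (.node (.leaf (.up 6 1124 3)) (.leaf (.up 3 312 4)))) (.node (.node (.leaf (.up 5 1942 4)) (.leaf (.up 6 1308 3))) (.node (.leaf (.up 6 728 5)) (.leaf (.up 5 1294 3))))) (.node (.node (.node (.leaf (.up 7 1547 5)) (.leaf (.up 5 1348 5))) (.node (.leaf (.up 6 460 4)) (.leaf (.up 4 215 4)))) (.node (.node (.leaf (.up 6 1657 4)) (.leaf (.up 7 1146 5))) (.node (.leaf (.up 5 1941 4)) (.leaf (.up 5 1859 3)))))) (.node (.node (.node (.node (.leaf (.up 3 590 3)) (.leaf (.up 5 1446 4))) (.node (.leaf (.up 5 1361 4)) (.leaf (.up 4 1978 5)))) (.node (.node (.leaf (.up 6 1477 3)) (.leaf (.up 5 203 5)))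 (.node (.leaf (.up 5 1495 3)) (.leaf (.up 2 531 4))))) (.node (.node (.node (.leaf (.up 5 1362 4)) (.leaf (.up 6 1097 4))) (.node (.leaf (.up 6 1214 4)) (.leaf (.up 5 1445 4)))) (.node (.node (.leaf (.up 6 779 4)) (.leaf (.up 5 528 4))) (.node (.leaf (.up 6 1641 5)) (.leaf (.up 5 1020 4))))))))

noncomputable def vt1_2_0001 : Tr VStep :=
  .node (.node (.node (.node (.node (.node (.node (.leaf (.up 3 709 3)) (.leaf (.up 6 1060 3))) (.node (.leaf (.up 4 727 3)) (.leaf (.up 7 1078 3)))) (.node (.node (.leaf (.up 5 1358 3)) (.leaf (.up 5 720 5))) (.node (.leaf (.up 4 282 0)) (.leaf (.up 5 957 3))))) (.node (.node (.node (.leaf (.up 7 159 4)) (.leaf (.up 6 1641 3))) (.node (.leaf (.up 4 371 4)) (.leaf (.up 6 1659 3)))) (.node (.node (.leaf (.up 4 1734 4)) (.leaf (.up 6 370 5))) (.node (.leaf (.up 5 1809 3)) (.leaf (.up 7 496 3)))))) (.node (.node (.node (.node (.leaf (.up 7 1970 5)) (.leaf (.up 5 540 3))) (.node (.leaf (.up 6 1263 3)) (.leaf (.up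 6 1269 4)))) (.node (.node (.leaf (.up 7 1676 5)) (.leaf (.up 5 1431 3))) (.node (.leaf (.up 6 195 5)) (.leaf (.up 8 908 5))))) (.node (.node (.node (.leaf (.up 5 1517 4)) (.leaf (.up 5 1887 5))) (.node (.leaf (.up 5 1698 3)) (.leaf (.up 7 67 3)))) (.node (.node (.leaf (.up 7 948 4)) (.leaf (.up 5 1633 5))) (.node (.leaf (.up 5 865 5)) (.leaf (.up 4 597 2))))))) (.node (.node (.node (.node (.node (.leaf (.up 5 1649 5)) (.leaf (.up 6 1980 4))) (.node (.leaf (.up 6 1867 4)) (.leaf (.up 5 360 3)))) (.node (.node (.leaf (.up 5 1871 5)) (.leaf (.up 5 485 4))) (.node (.leaf (.up 2 274 4)) (.leaf (.up 7 591 5))))) (.node (.node (.node (.leaf (.up 6 1491 5)) (.leaf (.up 6 823 3))) (.node (.leaf (.up 7 1700 4)) (.leaf (.up 5 1983 4)))) (.node (.node (.leaf (.up 7 605 3)) (.leaf (.up 4 10 4))) (.node (.leaf (.up 6 253 4)) (.leaf (.up 6 1198 3)))))) (.node (.node (.node (.node (.leaf (.up 5 419 3)) (.leaf (.up 7 557 5))) (.node (.leaf (.up 7 1837 5)) (.leaf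 (.up 6 1122 5)))) (.node (.node (.leaf (.up 4 92 5)) (.leaf (.up 7 787 5))) (.node (.leaf (.up 7 1555 5)) (.leaf (.up 6 1372 5))))) (.node (.node (.node (.leaf (.up 5 704 5)) (.leaf (.up 7 801 4))) (.node (.leaf (.up 3 1167 5)) (.leaf (.up 7 1984 5)))) (.node (.node (.leaf (.up 5 1125 3)) (.leaf (.up 5 1400 4))) (.node (.leaf (.up 3 1457 5)) (.leaf (.up 7 1172 4)))))))) (.node (.node (.node (.node (.node (.node (.leaf (.up 7 308 5)) (.leaf (.up 4 1185 4))) (.node (.leaf (.up 3 1110 4)) (.leaf (.up 5 1357 4)))) (.node (.node (.leaf (.up 4 10 5)) (.leaf (.up 6 429 3))) (.node (.leaf (.up 5 527 4)) (.leaf (.up 3 447 3))))) (.node (.node (.node (.leaf (.up 8 662 5)) (.leaf (.up 5 473 5))) (.node (.leaf (.up 6 1241 5)) (.leaf (.up 1 1 1)))) (.node (.node (.leaf (.up 6 524 4)) (.leaf (.up 6 791 4))) (.node (.leaf (.up 7 1299 3)) (.leaf (.up 6 1704 5)))))) (.node (.node (.node (.node (.leaf (.up 6 200 4)) (.leaf (.up 4 467 4))) (.node (.leaf (.up 4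 292 4)) (.leaf (.up 4 12 3)))) (.node (.node (.leaf (.up 5 372 3)) (.leaf (.up 3 1110 5))) (.node (.leaf (.up 3 1917 4)) (.leaf (.up 3 1638 4))))) (.node (.node (.node (.leaf (.up 6 295 4)) (.leaf (.up 7 595 3))) (.node (.leaf (.up 5 203 4)) (.leaf (.up 6 464 4)))) (.node (.node (.leaf (.up 5 1211 5)) (.leaf (.up 6 1637 4))) (.node (.leaf (.up 7 811 3)) (.leaf (.up 6 443 5))))))) (.node (.node (.node (.node (.node (.leaf (.up 3 1697 1)) (.leaf (.up 7 886 4))) (.node (.leaf (.up 3 1419 3)) (.leaf (.up 6 740 5)))) (.node (.node (.leaf (.up 2 530 3)) (.leaf (.up 5 1429 5))) (.node (.leaf (.up 7 1496 4)) (.leaf (.up 7 1249 3))))) (.node (.node (.node (.leaf (.up 5 898 4)) (.leaf (.up 5 1801 5))) (.node (.leaf (.up 6 521 5)) (.leaf (.up 6 295 3)))) (.node (.node (.leaf (.up 4 95 3)) (.leaf (.up 5 1591 5))) (.node (.leaf (.up 6 823 5)) (.leaf (.up 5 1708 3)))))) (.node (.node (.node (.node (.leaf (.up 6 929 3)) (.leaf (.up 3 737 1))) (.node (.leaf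 (.up 7 1720 5)) (.leaf (.up 5 1362 3)))) (.node (.node (.leaf (.up 7 326 4)) (.leaf (.up 4 715 3))) (.node (.leaf (.up 7 1926 5)) (.leaf (.up 6 729 3))))) (.node (.node (.node (.leaf (.up 4 492 3)) (.leaf (.up 5 26 5))) (.node (.leaf (.up 5 234 0)) (.leaf (.up 4 1543 4)))) (.node (.node (.leaf (.up 4 169 4)) (.leaf (.up 4 292 5))) (.node (.leaf (.up 5 1653 3)) (.leaf (.up 7 148 3))))))))

noncomputable def vt1_2_000 : Tr VStep := .node vt1_2_0000 vt1_2_0001

noncomputable def vt1_2_0010 : Tr VStep :=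
  .node (.node (.node (.node (.node (.node (.node (.leaf (.up 2 1689 5)) (.leaf (.up 7 1912 4))) (.node (.leaf (.up 3 1935 4)) (.leaf (.up 6 1684 4)))) (.node (.node (.leaf (.up 7 1959 5)) (.leaf (.up 6 289 4))) (.node (.leaf (.up 2 1689 2)) (.leaf (.up 5 679 5))))) (.node (.node (.node (.leaf (.up 7 1932 4)) (.leaf (.up 4 1687 4))) (.node (.leaf (.up 6 884 5)) (.leaf (.up 5 59 5)))) (.node (.node (.leaf (.up 7 469 4)) (.leaf (.up 3 1866 5))) (.node (.leaf (.up 6 57 4)) (.leaf (.up 6 261 5)))))) (.node (.node (.node (.node (.leaf (.up 6 785 4)) (.leaf (.up 3 709 5))) (.node (.leaf (.up 5 765 4)) (.leaf (.up 3 1162 5)))) (.node (.node (.leaf (.up 6 1352 4)) (.leaf (.up 4 1019 5))) (.node (.leaf (.up 6 1787 5)) (.leaf (.up 5 1460 5))))) (.node (.node (.node (.leaf (.up 4 766 4)) (.leaf (.up 6 997 4))) (.node (.leaf (.up 2 786 4)) (.leaf (.up 6 1329 3)))) (.node (.node (.leaf (.up 4 1191 4)) (.leaf (.up 7 1468 4))) (.node (.leaf (.up 4 1355 4))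 (.leaf (.up 7 698 3))))))) (.node (.node (.node (.node (.node (.leaf (.up 6 745 3)) (.leaf (.up 5 774 5))) (.node (.leaf (.up 6 763 3)) (.leaf (.up 5 1353 5)))) (.node (.node (.leaf (.up 3 1378 3)) (.leaf (.up 4 568 5))) (.node (.leaf (.up 6 1392 3)) (.leaf (.up 5 1143 5))))) (.node (.node (.node (.leaf (.up 6 91 4)) (.leaf (.up 6 320 4))) (.node (.leaf (.up 7 1444 5)) (.leaf (.up 6 1623 3)))) (.node (.node (.leaf (.up 6 1839 3)) (.leaf (.up 6 1817 4))) (.node (.leaf (.up 6 2030 4)) (.leaf (.up 6 2005 5)))))) (.node (.node (.node (.node (.leaf (.up 6 1882 5)) (.leaf (.up 5 1045 5))) (.node (.leaf (.up 7 277 5)) (.leaf (.up 6 546 3)))) (.node (.node (.leaf (.up 7 1273 2)) (.leaf (.up 7 1467 3))) (.node (.leaf (.up 7 840 3)) (.leaf (.up 8 868 5))))) (.node (.node (.node (.leaf (.up 6 1321 4)) (.leaf (.up 4 1975 5))) (.node (.leaf (.up 5 1221 4)) (.leaf (.up 5 504 5)))) (.node (.node (.leaf (.up 3 1145 2)) (.leaf (.up 6 1673 5))) (.node (.leaf (.up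 6 261 3)) (.leaf (.up 6 198 5)))))))) (.node (.node (.node (.node (.node (.node (.leaf (.up 6 1804 5)) (.leaf (.up 6 1091 5))) (.node (.leaf (.up 5 323 5)) (.leaf (.up 6 524 5)))) (.node (.node (.leaf (.up 4 1161 2)) (.leaf (.up 7 1405 5))) (.node (.leaf (.up 6 125 5)) (.leaf (.up 6 1229 3))))) (.node (.node (.node (.leaf (.up 6 1198 5)) (.leaf (.up 6 281 3))) (.node (.leaf (.up 3 737 5)) (.leaf (.up 5 945 4)))) (.node (.node (.leaf (.up 6 1424 5)) (.leaf (.up 5 1759 5))) (.node (.leaf (.up 6 97 3)) (.leaf (.up 6 1512 4)))))) (.node (.node (.node (.node (.leaf (.up 8 31 5)) (.leaf (.up 7 1388 3))) (.node (.leaf (.up 5 1591 4)) (.leaf (.up 6 1311 5)))) (.node (.node (.leaf (.up 6 289 5)) (.leaf (.up 7 153 4))) (.node (.leaf (.up 5 1902 5)) (.leaf (.up 7 373 4))))) (.node (.node (.node (.leaf (.up 5 448 3)) (.leaf (.up 2 242 5))) (.node (.leaf (.up 5 1522 5)) (.leaf (.up 7 1725 5)))) (.node (.node (.leaf (.up 5 1611 3)) (.leaf (.up 6 460 5))) (.node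 (.leaf (.up 3 1228 5)) (.leaf (.up 5 1923 5))))))) (.node (.node (.node (.node (.node (.leaf (.up 8 476 5)) (.leaf (.up 5 1125 4))) (.node (.leaf (.up 5 1170 4)) (.leaf (.up 6 1560 3)))) (.node (.node (.leaf (.up 6 1888 3)) (.leaf (.up 4 572 4))) (.node (.leaf (.up 4 715 4)) (.leaf (.up 4 976 4))))) (.node (.node (.node (.leaf (.up 5 1169 4)) (.leaf (.up 6 305 5))) (.node (.leaf (.up 7 1405 4)) (.leaf (.up 7 1126 4)))) (.node (.node (.leaf (.up 6 712 4)) (.leaf (.up 4 979 4))) (.node (.leaf (.up 6 1343 3)) (.leaf (.up 3 1600 5)))))) (.node (.node (.node (.node (.leaf (.up 4 12 4)) (.leaf (.up 3 1638 0))) (.node (.leaf (.up 6 1729 3)) (.leaf (.up 7 975 5)))) (.node (.node (.leaf (.up 4 2033 5)) (.leaf (.up 5 1870 4))) (.node (.leaf (.up 5 1517 1)) (.leaf (.up 5 1698 4))))) (.node (.node (.node (.leaf (.up 6 1385 2)) (.leaf (.up 5 248 4))) (.node (.leaf (.up 6 15 4)) (.leaf (.up 5 276 4)))) (.node (.node (.leaf (.up 4 1978 4)) (.leaf (.up 3 1697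 4))) (.node (.leaf (.up 5 1622 4)) (.leaf (.up 6 1869 4))))))))

noncomputable def vt1_2_0011 : Tr VStep :=
  .node (.node (.node (.node (.node (.node (.node (.leaf (.up 3 1236 5)) (.leaf (.up 5 185 3))) (.node (.leaf (.up 5 1610 3)) (.leaf (.up 6 468 5)))) (.node (.node (.leaf (.up 4 467 3)) (.leaf (.up 5 1842 3))) (.node (.leaf (.up 5 449 3)) (.leaf (.up 5 234 5))))) (.node (.node (.node (.leaf (.up 5 1045 3)) (.leaf (.up 6 1333 4))) (.node (.leaf (.up 4 1474 4)) (.leaf (.up 6 1241 4)))) (.node (.node (.leaf (.up 6 631 4)) (.leaf (.up 6 1287 5))) (.node (.leaf (.up 7 923 4)) (.leaf (.up 6 1389 3)))))) (.node (.node (.node (.node (.leaf (.up 6 967 5)) (.leaf (.up 8 136 5))) (.node (.leaf (.up 7 351 4)) (.leaf (.up 4 1683 3)))) (.node (.node (.leaf (.up 5 1770 4)) (.leaf (.up 4 2033 4))) (.node (.leaf (.up 7 1206 5)) (.leaf (.up 5 280 3))))) (.node (.node (.node (.leaf (.up 5 348 4)) (.leaf (.up 2 810 5))) (.node (.leaf (.up 7 575 3)) (.leaf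 (.up 5 1381 5)))) (.node (.node (.leaf (.up 5 1446 3)) (.leaf (.up 5 839 3))) (.node (.leaf (.up 5 1460 3)) (.leaf (.up 5 1115 5))))))) (.node (.node (.node (.node (.node (.leaf (.up 3 1457 2)) (.leaf (.up 7 781 4))) (.node (.leaf (.up 5 1099 5)) (.leaf (.up 3 737 4)))) (.node (.node (.leaf (.up 5 826 5)) (.leaf (.up 5 620 3))) (.node (.leaf (.up 6 1443 4)) (.leaf (.up 6 1208 4))))) (.node (.node (.node (.leaf (.up 6 1017 4)) (.leaf (.up 6 1962 3))) (.node (.leaf (.up 7 345 3)) (.leaf (.up 4 782 4)))) (.node (.node (.leaf (.up 7 1440 4)) (.leaf (.up 5 1211 4))) (.node (.leaf (.up 6 1751 5)) (.leaf (.up 6 51 3)))))) (.node (.node (.node (.node (.leaf (.up 7 1303 5)) (.leaf (.up 5 1624 5))) (.node (.leaf (.up 4 856 5)) (.leaf (.up 7 23 5)))) (.node (.node (.leaf (.up 7 1065 5)) (.leaf (.up 6 1894 5))) (.node (.leaf (.up 5 679 3)) (.leaf (.up 7 297 5))))) (.node (.node (.node (.leaf (.up 4 1717 5)) (.leaf (.up 7 1936 4))) (.node (.leaf (.up 3 250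 5)) (.leaf (.up 5 384 3)))) (.node (.node (.leaf (.up 3 1931 5)) (.leaf (.up 7 1561 3))) (.node (.leaf (.up 5 452 5)) (.leaf (.up 5 37 4)))))))) (.node (.node (.node (.node (.node (.node (.leaf (.up 7 267 4)) (.leaf (.up 5 645 1))) (.node (.leaf (.up 4 782 5)) (.leaf (.up 6 508 4)))) (.node (.node (.leaf (.up 3 1874 4)) (.leaf (.up 5 1609 4))) (.node (.leaf (.up 7 560 5)) (.leaf (.up 5 1957 4))))) (.node (.node (.node (.leaf (.up 7 228 4)) (.leaf (.up 6 511 4))) (.node (.leaf (.up 6 264 4)) (.leaf (.up 6 19 4)))) (.node (.node (.leaf (.up 6 2013 5)) (.leaf (.up 1 1 2))) (.node (.leaf (.up 8 402 5)) (.leaf (.up 5 733 5)))))) (.node (.node (.node (.node (.leaf (.up 3 1145 4)) (.leaf (.up 3 1378 4))) (.node (.leaf (.up 5 1429 4)) (.leaf (.up 3 1874 5)))) (.node (.node (.leaf (.up 4 544 4)) (.leaf (.up 5 776 3))) (.node (.leaf (.up 6 972 4)) (.leaf (.up 4 727 4))))) (.node (.node (.node (.leaf (.up 7 1430 4)) (.leaf (.up 7 1165 4))) (.node (.leaf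 (.up 5 1983 5)) (.leaf (.up 5 1377 4)))) (.node (.node (.leaf (.up 7 975 4)) (.leaf (.up 6 724 4))) (.node (.leaf (.up 6 547 4)) (.leaf (.up 7 343 3))))))) (.node (.node (.node (.node (.node (.leaf (.up 6 1756 4)) (.leaf (.up 8 1991 4))) (.node (.leaf (.up 3 1953 2)) (.leaf (.up 5 1681 5)))) (.node (.node (.leaf (.up 3 1679 3)) (.leaf (.up 7 480 5))) (.node (.leaf (.up 3 1697 2)) (.leaf (.up 7 114 4))))) (.node (.node (.node (.leaf (.up 6 51 5)) (.leaf (.up 5 1448 3))) (.node (.leaf (.up 4 859 3)) (.leaf (.up 5 1331 5)))) (.node (.node (.leaf (.up 6 269 5)) (.leaf (.up 6 547 3))) (.node (.leaf (.up 5 134 4)) (.leaf (.up 5 1037 5)))))) (.node (.node (.node (.node (.leaf (.up 6 942 4)) (.leaf (.up 6 477 3))) (.node (.leaf (.up 7 578 4)) (.leaf (.up 4 993 2)))) (.node (.node (.leaf (.up 7 1468 5)) (.leaf (.up 5 1622 3))) (.node (.leaf (.up 6 165 3)) (.leaf (.up 3 737 2))))) (.node (.node (.node (.leaf (.up 5 1393 3)) (.leaf (.up 6 1135 5))) (.node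 (.leaf (.up 4 941 4)) (.leaf (.up 4 544 5)))) (.node (.node (.leaf (.up 5 1048 4)) (.leaf (.up 5 1361 5))) (.node (.leaf (.up 4 744 3)) (.leaf (.up 5 798 5))))))))

noncomputable def vt1_2_001 : Tr VStep := .node vt1_2_0010 vt1_2_0011

noncomputable def vt1_2_00 : Tr VStep := .node vt1_2_000 vt1_2_001

noncomputable def vt1_2_0100 : Tr VStep :=
  .node (.node (.node (.node (.node (.node (.node (.leaf (.up 3 808 3)) (.leaf (.up 7 996 5))) (.node (.leaf (.up 5 826 3)) (.leaf (.up 6 904 4)))) (.node (.node (.leaf (.up 6 1318 4)) (.leaf (.up 6 730 5))) (.node (.leaf (.up 6 2010 5)) (.leaf (.up 6 1489 4))))) (.node (.node (.node (.leaf (.up 6 357 3)) (.leaf (.up 6 70 5))) (.node (.leaf (.up 6 375 3)) (.leaf (.up 5 1942 3)))) (.node (.node (.leaf (.up 6 567 5)) (.leaf (.up 6 15 3))) (.node (.leaf (.up 4 1144 5)) (.leaf (.up 5 1086 4)))))) (.node (.node (.node (.node (.leaf (.up 6 1976 5)) (.leaf (.up 7 1009 3))) (.node (.leaf (.up 6 503 5)) (.leaf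 (.up 7 1786 4)))) (.node (.node (.leaf (.up 7 1670 5)) (.leaf (.up 7 1146 3))) (.node (.leaf (.up 5 440 4)) (.leaf (.up 6 902 5))))) (.node (.node (.node (.leaf (.up 5 1885 3)) (.leaf (.up 6 1877 5))) (.node (.leaf (.up 4 597 5)) (.leaf (.up 4 282 5)))) (.node (.node (.leaf (.up 4 214 3)) (.leaf (.up 3 1643 5))) (.node (.leaf (.up 5 875 5)) (.leaf (.up 6 332 4))))))) (.node (.node (.node (.node (.node (.leaf (.up 6 1659 5)) (.leaf (.up 3 1459 4))) (.node (.leaf (.up 5 1348 4)) (.leaf (.up 5 1119 4)))) (.node (.node (.leaf (.up 7 1861 5)) (.leaf (.up 5 1002 4))) (.node (.leaf (.up 5 797 4)) (.leaf (.up 6 1806 3))))) (.node (.node (.node (.leaf (.up 6 1351 4)) (.leaf (.up 4 1116 4))) (.node (.leaf (.up 7 1065 3)) (.leaf (.up 4 217 5)))) (.node (.node (.leaf (.up 5 798 4)) (.leaf (.up 5 1361 3))) (.node (.leaf (.up 7 754 4)) (.leaf (.up 7 1001 4)))))) (.node (.node (.node (.node (.leaf (.up 5 360 5)) (.leaf (.up 5 551 5))) (.node (.leaf (.up 4 92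 3)) (.leaf (.up 5 301 4)))) (.node (.node (.leaf (.up 5 1923 4)) (.leaf (.up 2 1688 4))) (.node (.leaf (.up 7 2007 3)) (.leaf (.up 6 1366 5))))) (.node (.node (.node (.leaf (.up 5 53 4)) (.leaf (.up 4 302 4))) (.node (.leaf (.up 5 473 4)) (.leaf (.up 6 194 4)))) (.node (.node (.leaf (.up 6 1012 5)) (.leaf (.up 5 1911 4))) (.node (.leaf (.up 7 1920 4)) (.leaf (.up 5 1691 4)))))))) (.node (.node (.node (.node (.node (.node (.leaf (.up 7 318 5)) (.leaf (.up 5 1710 4))) (.node (.leaf (.up 1 0 0)) (.leaf (.up 5 1086 5)))) (.node (.node (.leaf (.up 1 0 5)) (.leaf (.up 7 247 4))) (.node (.leaf (.up 1 0 4)) (.leaf (.up 6 82 3))))) (.node (.node (.node (.leaf (.up 6 1626 4)) (.leaf (.up 4 467 5))) (.node (.leaf (.up 7 1974 4)) (.leaf (.up 6 1428 3)))) (.node (.node (.leaf (.up 7 3 4)) (.leaf (.up 5 280 4))) (.node (.leaf (.up 5 1517 5)) (.leaf (.up 5 1698 5)))))) (.node (.node (.node (.node (.leaf (.up 5 711 4)) (.leaf (.up 3 1378 5))) (.node (.leaf (.up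 6 98 5)) (.leaf (.up 5 813 5)))) (.node (.node (.leaf (.up 7 1182 4)) (.leaf (.up 4 1116 5))) (.node (.leaf (.up 5 348 5)) (.leaf (.up 2 531 5))))) (.node (.node (.node (.leaf (.up 3 808 4)) (.leaf (.up 7 563 4))) (.node (.leaf (.up 3 708 4)) (.leaf (.up 7 940 3)))) (.node (.node (.leaf (.up 5 1393 4)) (.leaf (.up 7 1130 4))) (.node (.leaf (.up 3 1181 4)) (.leaf (.up 6 1414 4))))))) (.node (.node (.node (.node (.node (.leaf (.up 3 1707 1)) (.leaf (.up 4 1185 5))) (.node (.leaf (.up 7 1126 3)) (.leaf (.up 6 750 5)))) (.node (.node (.leaf (.up 5 1023 3)) (.leaf (.up 5 1439 5))) (.node (.leaf (.up 6 1005 3)) (.leaf (.up 4 976 5))))) (.node (.node (.node (.leaf (.up 7 397 4)) (.leaf (.up 6 1795 5))) (.node (.leaf (.up 6 97 4)) (.leaf (.up 6 332 5)))) (.node (.node (.leaf (.up 6 2004 4)) (.leaf (.up 7 1743 4))) (.node (.leaf (.up 7 829 5)) (.leaf (.up 6 1857 3)))))) (.node (.node (.node (.node (.leaf (.up 6 253 5)) (.leaf (.up 6 1197 3))) (.node (.leaf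 (.up 7 606 3)) (.leaf (.up 8 1511 4)))) (.node (.node (.leaf (.up 5 451 5)) (.leaf (.up 5 652 5))) (.node (.leaf (.up 7 1775 2)) (.leaf (.up 5 820 3))))) (.node (.node (.node (.leaf (.up 1 1 3)) (.leaf (.up 7 16 5))) (.node (.leaf (.up 6 19 3)) (.leaf (.up 7 1631 5)))) (.node (.node (.leaf (.up 6 609 5)) (.leaf (.up 4 302 5))) (.node (.leaf (.up 6 842 4)) (.leaf (.up 4 377 3))))))))

noncomputable def vt1_2_0101 : Tr VStep :=
  .node (.node (.node (.node (.node (.node (.node (.leaf (.up 3 221 4)) (.leaf (.up 5 454 4))) (.node (.leaf (.up 6 305 4)) (.leaf (.up 4 42 4)))) (.node (.node (.leaf (.up 5 1356 3)) (.leaf (.up 4 941 3))) (.node (.leaf (.up 4 1687 2)) (.leaf (.up 6 959 3))))) (.node (.node (.node (.leaf (.up 6 306 4)) (.leaf (.up 2 531 1))) (.node (.leaf (.up 8 1803 5)) (.leaf (.up 4 1092 5)))) (.node (.node (.leaf (.up 6 1793 3)) (.leaf (.up 5 821 5))) (.node (.leaf (.up 7 1671 4)) (.leaf (.up 6 1948 4)))))) (.node (.node (.node (.node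 (.leaf (.up 5 1455 4)) (.leaf (.up 5 542 3))) (.node (.leaf (.up 6 1091 4)) (.leaf (.up 4 1368 4)))) (.node (.node (.leaf (.up 4 1014 4)) (.leaf (.up 3 749 4))) (.node (.leaf (.up 5 538 4)) (.leaf (.up 2 459 5))))) (.node (.node (.node (.leaf (.up 6 1088 4)) (.leaf (.up 5 1371 4))) (.node (.leaf (.up 6 1696 3)) (.leaf (.up 7 65 3)))) (.node (.node (.leaf (.up 7 537 4)) (.leaf (.up 7 1062 5))) (.node (.leaf (.up 4 294 5)) (.leaf (.up 6 750 4))))))) (.node (.node (.node (.node (.node (.leaf (.up 3 1715 1)) (.leaf (.up 7 1913 5))) (.node (.leaf (.up 3 1931 3)) (.leaf (.up 7 2045 4)))) (.node (.node (.leaf (.up 6 1288 5)) (.leaf (.up 8 1779 3))) (.node (.leaf (.up 1 0 3)) (.leaf (.up 4 8 5))))) (.node (.node (.node (.leaf (.up 7 1940 5)) (.leaf (.up 5 821 3))) (.node (.leaf (.up 5 1801 4)) (.leaf (.up 4 660 5)))) (.node (.node (.leaf (.up 5 1706 5)) (.leaf (.up 6 1214 3))) (.node (.leaf (.up 4 589 3)) (.leaf (.up 5 938 5)))))) (.node (.node (.node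 (.node (.leaf (.up 7 805 5)) (.leaf (.up 6 1856 3))) (.node (.leaf (.up 6 435 3)) (.leaf (.up 3 1874 3)))) (.node (.node (.leaf (.up 7 539 5)) (.leaf (.up 5 203 3))) (.node (.leaf (.up 7 1485 4)) (.leaf (.up 4 217 3))))) (.node (.node (.node (.leaf (.up 4 919 4)) (.leaf (.up 5 652 4))) (.node (.leaf (.up 5 1022 3)) (.leaf (.up 4 1415 5)))) (.node (.node (.leaf (.up 5 1127 3)) (.leaf (.up 7 646 3))) (.node (.leaf (.up 4 1058 4)) (.leaf (.up 4 1209 5)))))))) (.node (.node (.node (.node (.node (.node (.leaf (.up 4 1415 2)) (.leaf (.up 6 1572 3))) (.node (.leaf (.up 4 215 3)) (.leaf (.up 6 1590 3)))) (.node (.node (.leaf (.up 3 590 4)) (.leaf (.up 6 431 3))) (.node (.leaf (.up 5 1884 3)) (.leaf (.up 6 1869 5))))) (.node (.node (.node (.leaf (.up 5 1528 4)) (.leaf (.up 6 1129 3))) (.node (.leaf (.up 7 1044 4)) (.leaf (.up 5 1147 3)))) (.node (.node (.leaf (.up 6 1283 3)) (.leaf (.up 7 698 4))) (.node (.leaf (.up 4 589 4)) (.leaf (.up 6 854 4))))))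 (.node (.node (.node (.node (.leaf (.up 6 357 4)) (.leaf (.up 6 126 4))) (.node (.leaf (.up 7 1775 3)) (.leaf (.up 5 14 3)))) (.node (.node (.leaf (.up 6 1374 5)) (.leaf (.up 8 1575 4))) (.node (.leaf (.up 6 785 5)) (.leaf (.up 5 1925 3))))) (.node (.node (.node (.leaf (.up 6 1603 1)) (.leaf (.up 6 593 3))) (.node (.leaf (.up 5 1186 3)) (.leaf (.up 5 706 5)))) (.node (.node (.leaf (.up 5 1788 5)) (.leaf (.up 3 1459 5))) (.node (.leaf (.up 7 179 5)) (.leaf (.up 5 1020 5))))))) (.node (.node (.node (.node (.node (.leaf (.up 6 1443 5)) (.leaf (.up 5 890 3))) (.node (.leaf (.up 6 556 4)) (.leaf (.up 6 823 4)))) (.node (.node (.leaf (.up 3 1181 5)) (.leaf (.up 7 1154 4))) (.node (.leaf (.up 4 722 5)) (.leaf (.up 4 1390 4))))) (.node (.node (.node (.leaf (.up 8 2006 3)) (.leaf (.up 5 820 4))) (.node (.leaf (.up 6 78 5)) (.leaf (.up 6 293 3)))) (.node (.node (.leaf (.up 7 1142 4)) (.leaf (.up 6 1724 3))) (.node (.leaf (.up 7 368 5)) (.leaf (.up 3 1153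 4)))))) (.node (.node (.node (.node (.leaf (.up 7 688 5)) (.leaf (.up 6 511 5))) (.node (.leaf (.up 5 1279 5)) (.leaf (.up 6 1968 5)))) (.node (.node (.leaf (.up 7 1064 3)) (.leaf (.up 6 193 5))) (.node (.leaf (.up 4 1473 5)) (.leaf (.up 7 1678 5))))) (.node (.node (.node (.leaf (.up 2 274 5)) (.leaf (.up 7 605 5))) (.node (.leaf (.up 5 1885 5)) (.leaf (.up 6 1962 4)))) (.node (.node (.leaf (.up 4 44 5)) (.leaf (.up 8 31 4))) (.node (.leaf (.up 4 1635 5)) (.leaf (.up 5 499 4))))))))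

noncomputable def vt1_2_010 : Tr VStep := .node vt1_2_0100 vt1_2_0101

noncomputable def vt1_2_0110 : Tr VStep :=
  .node (.node (.node (.node (.node (.node (.node (.leaf (.up 6 1246 5)) (.leaf (.up 5 1937 5))) (.node (.leaf (.up 6 1570 4)) (.leaf (.up 6 478 5)))) (.node (.node (.leaf (.up 6 62 3)) (.leaf (.up 5 1759 3))) (.node (.leaf (.up 4 44 3)) (.leaf (.up 7 224 5))))) (.node (.node (.node (.leaf (.up 4 1916 5)) (.leaf (.up 5 1850 4))) (.node (.leaf (.up 6 307 5)) (.leaf (.up 6 779 3)))) (.node (.node (.leaf (.up 6 627 3)) (.leaf (.up 5 1170 3))) (.node (.leaf (.up 5 13 5)) (.leaf (.up 6 834 5)))))) (.node (.node (.node (.node (.leaf (.up 5 700 4)) (.leaf (.up 7 130 5))) (.node (.leaf (.up 7 1410 5)) (.leaf (.up 7 1918 3)))) (.node (.node (.leaf (.up 6 755 5)) (.leaf (.up 7 231 3))) (.node (.leaf (.up 6 1212 5)) (.leaf (.up 6 1042 4))))) (.node (.node (.node (.leaf (.up 5 111 5)) (.leaf (.up 7 1313 3))) (.node (.leaf (.up 4 978 3)) (.leaf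 (.up 3 1391 5)))) (.node (.node (.leaf (.up 4 337 5)) (.leaf (.up 5 542 5))) (.node (.leaf (.up 5 1375 1)) (.leaf (.up 6 1105 5))))))) (.node (.node (.node (.node (.node (.leaf (.up 5 25 4)) (.leaf (.up 6 1034 3))) (.node (.leaf (.up 7 1089 5)) (.leaf (.up 5 238 4)))) (.node (.node (.leaf (.up 3 1600 4)) (.leaf (.up 5 1883 4))) (.node (.leaf (.up 6 1407 5)) (.leaf (.up 3 1719 4))))) (.node (.node (.node (.leaf (.up 7 502 4)) (.leaf (.up 7 237 4))) (.node (.leaf (.up 5 26 4)) (.leaf (.up 6 1621 3)))) (.node (.node (.leaf (.up 7 1837 3)) (.leaf (.up 4 989 5))) (.node (.leaf (.up 6 1603 4)) (.leaf (.up 4 1880 4)))))) (.node (.node (.node (.node (.leaf (.up 7 1235 3)) (.leaf (.up 6 1618 5))) (.node (.leaf (.up 5 1159 4)) (.leaf (.up 2 1436 4)))) (.node (.node (.leaf (.up 4 856 3)) (.leaf (.up 5 553 4))) (.node (.leaf (.up 5 620 5)) (.leaf (.up 5 291 5))))) (.node (.node (.node (.leaf (.up 5 1156 4)) (.leaf (.up 5 1439 4))) (.node (.leaf (.up 6 240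 5)) (.leaf (.up 5 109 3)))) (.node (.node (.leaf (.up 5 733 4)) (.leaf (.up 6 966 4))) (.node (.leaf (.up 5 500 0)) (.leaf (.up 4 554 4)))))))) (.node (.node (.node (.node (.node (.node (.leaf (.up 3 772 4)) (.leaf (.up 6 543 4))) (.node (.leaf (.up 3 1931 2)) (.leaf (.up 7 836 3)))) (.node (.node (.leaf (.up 3 1163 2)) (.leaf (.up 5 1850 5))) (.node (.leaf (.up 7 570 5)) (.leaf (.up 7 1450 4))))) (.node (.node (.node (.leaf (.up 5 1769 5)) (.leaf (.up 5 1446 5))) (.node (.leaf (.up 7 775 4)) (.leaf (.up 5 540 4)))) (.node (.node (.leaf (.up 7 2007 5)) (.leaf (.up 6 1176 5))) (.node (.leaf (.up 6 1374 4)) (.leaf (.up 4 727 5)))))) (.node (.node (.node (.node (.leaf (.up 5 600 5)) (.leaf (.up 2 459 2))) (.node (.leaf (.up 7 925 3)) (.leaf (.up 4 1880 5)))) (.node (.node (.leaf (.up 6 870 5)) (.leaf (.up 5 41 5))) (.node (.leaf (.up 5 451 4)) (.leaf (.up 3 1638 5))))) (.node (.node (.node (.leaf (.up 3 708 0)) (.leaf (.up 6 1666 4))) (.node (.leaf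 (.up 5 1653 4)) (.leaf (.up 5 1902 4)))) (.node (.node (.leaf (.up 5 448 4)) (.leaf (.up 7 168 3))) (.node (.leaf (.up 4 44 4)) (.leaf (.up 7 311 4))))))) (.node (.node (.node (.node (.node (.leaf (.up 6 233 3)) (.leaf (.up 6 212 5))) (.node (.leaf (.up 6 1343 4)) (.leaf (.up 5 1691 5)))) (.node (.node (.leaf (.up 7 1890 3)) (.leaf (.up 6 490 5))) (.node (.leaf (.up 3 1904 3)) (.leaf (.up 4 683 2))))) (.node (.node (.node (.leaf (.up 6 57 5)) (.leaf (.up 6 1093 3))) (.node (.leaf (.up 6 1232 4)) (.leaf (.up 5 1483 4)))) (.node (.node (.leaf (.up 6 869 4)) (.leaf (.up 7 974 3))) (.node (.leaf (.up 6 649 4)) (.leaf (.up 6 914 4)))))) (.node (.node (.node (.node (.leaf (.up 7 1160 5)) (.leaf (.up 6 48 3))) (.node (.leaf (.up 5 711 5)) (.leaf (.up 5 392 5)))) (.node (.node (.leaf (.up 7 346 3)) (.leaf (.up 8 1979 3))) (.node (.leaf (.up 6 1017 5)) (.leaf (.up 7 1961 3))))) (.node (.node (.node (.leaf (.up 5 1834 5)) (.leaf (.up 5 1125 5))) (.node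 (.leaf (.up 6 357 5)) (.leaf (.up 4 554 5)))) (.node (.node (.leaf (.up 6 791 3)) (.leaf (.up 5 1371 5))) (.node (.leaf (.up 3 773 3)) (.leaf (.up 7 788 5))))))))

noncomputable def vt1_2_0111 : Tr VStep :=
  .node (.node (.node (.node (.node (.node (.node (.leaf (.up 4 1683 5)) (.leaf (.up 6 1399 4))) (.node (.leaf (.up 6 1408 4)) (.leaf (.up 4 169 3)))) (.node (.node (.leaf (.up 7 1965 5)) (.leaf (.up 4 814 4))) (.node (.leaf (.up 3 985 4)) (.leaf (.up 5 706 4))))) (.node (.node (.node (.leaf (.up 6 1329 5)) (.leaf (.up 6 1176 4))) (.node (.leaf (.up 6 1135 4)) (.leaf (.up 6 1396 4)))) (.node (.node (.leaf (.up 7 1039 5)) (.leaf (.up 6 1856 5))) (.node (.leaf (.up 6 576 5)) (.leaf (.up 2 531 2)))))) (.node (.node (.node (.node (.leaf (.up 5 286 4)) (.leaf (.up 4 719 5))) (.node (.leaf (.up 2 242 4)) (.leaf (.up 4 489 4)))) (.node (.node (.leaf (.up 6 1863 4)) (.leaf (.up 4 1628 4))) (.node (.leaf (.up 3 1707 4)) (.leaf (.up 4 282 3))))) (.node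 (.node (.node (.leaf (.up 6 1363 2)) (.leaf (.up 6 490 4))) (.node (.leaf (.up 7 573 3)) (.leaf (.up 7 1826 5)))) (.node (.node (.leaf (.up 6 1704 4)) (.leaf (.up 7 837 3))) (.node (.leaf (.up 6 1860 4)) (.leaf (.up 7 1631 4))))))) (.node (.node (.node (.node (.node (.leaf (.up 3 772 3)) (.leaf (.up 6 780 5))) (.node (.leaf (.up 6 599 4)) (.leaf (.up 8 844 4)))) (.node (.node (.leaf (.up 3 1167 3)) (.leaf (.up 7 1273 4))) (.node (.leaf (.up 3 1181 3)) (.leaf (.up 7 1149 5))))) (.node (.node (.node (.leaf (.up 4 329 3)) (.leaf (.up 5 174 5))) (.node (.leaf (.up 7 1454 5)) (.leaf (.up 4 1978 3)))) (.node (.node (.leaf (.up 5 1037 4)) (.leaf (.up 6 400 5))) (.node (.leaf (.up 5 1168 5)) (.leaf (.up 7 2015 5)))))) (.node (.node (.node (.node (.leaf (.up 7 1737 4)) (.leaf (.up 4 989 3))) (.node (.leaf (.up 7 1829 4)) (.leaf (.up 7 975 3)))) (.node (.node (.leaf (.up 6 695 3)) (.leaf (.up 3 1110 3))) (.node (.leaf (.up 7 33 5)) (.leaf (.up 4 1092 3)))))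 (.node (.node (.node (.leaf (.up 4 1830 4)) (.leaf (.up 4 371 2))) (.node (.leaf (.up 5 1143 1)) (.leaf (.up 7 386 3)))) (.node (.node (.leaf (.up 3 250 3)) (.leaf (.up 6 1667 5))) (.node (.leaf (.up 5 147 4)) (.leaf (.up 5 392 4)))))))) (.node (.node (.node (.node (.node (.node (.leaf (.up 5 1112 3)) (.leaf (.up 6 1097 5))) (.node (.leaf (.up 4 329 5)) (.leaf (.up 4 683 3)))) (.node (.node (.leaf (.up 4 979 3)) (.leaf (.up 6 1399 5))) (.node (.leaf (.up 4 1415 1)) (.leaf (.up 6 1312 3))))) (.node (.node (.node (.leaf (.up 4 329 4)) (.leaf (.up 6 2027 5))) (.node (.leaf (.up 4 1543 3)) (.leaf (.up 6 230 3)))) (.node (.node (.leaf (.up 7 1808 4)) (.leaf (.up 7 1919 3))) (.node (.leaf (.up 5 1788 4)) (.leaf (.up 6 2023 4)))))) (.node (.node (.node (.node (.leaf (.up 6 608 3)) (.leaf (.up 3 1153 3))) (.node (.leaf (.up 6 1626 5)) (.leaf (.up 7 1171 3)))) (.node (.node (.leaf (.up 6 299 5)) (.leaf (.up 5 778 3))) (.node (.leaf (.up 6 609 4)) (.leaf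 (.up 5 890 4))))) (.node (.node (.node (.leaf (.up 8 45 3)) (.leaf (.up 5 248 5))) (.node (.leaf (.up 5 1495 4)) (.leaf (.up 3 1719 5)))) (.node (.node (.leaf (.up 5 610 4)) (.leaf (.up 5 454 5))) (.node (.leaf (.up 4 1972 3)) (.leaf (.up 6 341 3))))))) (.node (.node (.node (.node (.node (.leaf (.up 5 1905 4)) (.leaf (.up 4 1642 4))) (.node (.leaf (.up 4 1693 4)) (.leaf (.up 7 1238 5)))) (.node (.node (.leaf (.up 6 296 4)) (.leaf (.up 6 51 4))) (.node (.leaf (.up 5 196 4)) (.leaf (.up 5 675 2))))) (.node (.node (.node (.leaf (.up 7 843 3)) (.leaf (.up 5 1925 4))) (.node (.leaf (.up 6 1906 4)) (.leaf (.up 6 1464 3)))) (.node (.node (.leaf (.up 6 842 5)) (.leaf (.up 6 545 3))) (.node (.leaf (.up 6 299 4)) (.leaf (.up 5 1610 5)))))) (.node (.node (.node (.node (.leaf (.up 5 1733 5)) (.leaf (.up 6 1418 5))) (.node (.leaf (.up 7 1836 3)) (.leaf (.up 6 965 5)))) (.node (.node (.leaf (.up 5 2043 5)) (.leaf (.up 7 1204 5))) (.node (.leaf (.up 7 436 5))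 (.leaf (.up 6 763 5))))) (.node (.node (.node (.leaf (.up 4 1383 5)) (.leaf (.up 5 759 4))) (.node (.leaf (.up 3 808 5)) (.leaf (.up 6 795 4)))) (.node (.node (.leaf (.up 5 1123 2)) (.leaf (.up 6 1198 4))) (.node (.leaf (.up 4 534 5)) (.leaf (.up 7 345 5))))))))

noncomputable def vt1_2_011 : Tr VStep := .node vt1_2_0110 vt1_2_0111

noncomputable def vt1_2_01 : Tr VStep := .node vt1_2_010 vt1_2_011

noncomputable def vt1_2_0 : Tr VStep := .node vt1_2_00 vt1_2_01

noncomputable def vt1_2_1000 : Tr VStep :=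
  .node (.node (.node (.node (.node (.node (.node (.leaf (.root 103)) (.leaf (.up 6 1739 5))) (.node (.leaf (.up 6 971 5)) (.leaf (.up 8 456 4)))) (.node (.node (.leaf (.up 6 1210 5)) (.leaf (.up 6 1661 4))) (.node (.leaf (.up 5 1674 4)) (.leaf (.up 5 1937 4))))) (.node (.node (.node (.leaf (.up 6 208 4)) (.leaf (.up 2 459 4))) (.node (.leaf (.up 4 316 4)) (.leaf (.up 7 39 4)))) (.node (.node (.leaf (.up 4 1816 1)) (.leaf (.up 6 981 3))) (.node (.leaf (.up 6 1318 3)) (.leaf (.up 4 536 5)))))) (.node (.node (.node (.node (.leaf (.up 6 1101 4)) (.leaf (.up 6 1366 4))) (.node (.leaf (.up 7 1752 3)) (.leaf (.up 6 1210 4)))) (.node (.node (.leaf (.up 6 532 4)) (.leaf (.up 6 783 4))) (.node (.leaf (.up 6 1016 4)) (.leaf (.up 5 1705 5))))) (.node (.node (.node (.leaf (.up 5 1159 3)) (.leaf (.up 4 1209 4))) (.node (.leaf (.up 5 1102 4)) (.leaf (.up 5 1365 4)))) (.node (.node (.leaf (.up 4 979 0)) (.leaf (.up 3 736 4))) (.node (.leaf (.up 4 1604 5)) (.leaf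 (.up 6 780 4))))))) (.node (.node (.node (.node (.node (.leaf (.up 6 1452 3)) (.leaf (.up 6 845 3))) (.node (.leaf (.up 5 1307 5)) (.leaf (.up 5 863 3)))) (.node (.node (.leaf (.up 5 551 3)) (.leaf (.up 6 293 5))) (.node (.leaf (.up 6 1061 5)) (.leaf (.up 3 1236 3))))) (.node (.node (.node (.leaf (.up 6 246 5)) (.leaf (.up 3 256 3))) (.node (.leaf (.up 7 1771 4)) (.leaf (.up 2 274 3)))) (.node (.node (.leaf (.up 7 350 4)) (.leaf (.up 7 69 4))) (.node (.leaf (.up 5 1927 5)) (.leaf (.up 2 1689 3)))))) (.node (.node (.node (.node (.leaf (.up 5 922 4)) (.leaf (.up 5 641 4))) (.node (.leaf (.up 5 520 5)) (.leaf (.up 4 1383 3)))) (.node (.node (.leaf (.up 7 1475 4)) (.leaf (.up 4 766 3))) (.node (.leaf (.up 4 822 5)) (.leaf (.up 4 1395 0))))) (.node (.node (.node (.leaf (.up 5 473 3)) (.leaf (.up 6 1194 5))) (.node (.leaf (.up 2 459 3)) (.leaf (.up 5 1834 3)))) (.node (.node (.leaf (.up 6 1618 3)) (.leaf (.up 6 1428 5))) (.node (.leaf (.up 3 1600 3))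 (.leaf (.up 7 1243 4)))))))) (.node (.node (.node (.node (.node (.node (.leaf (.up 5 1525 4)) (.leaf (.up 5 1262 4))) (.node (.leaf (.up 6 738 3)) (.leaf (.up 7 1282 4)))) (.node (.node (.leaf (.up 7 940 4)) (.leaf (.up 5 922 3))) (.node (.leaf (.up 5 864 5)) (.leaf (.up 4 859 4))))) (.node (.node (.node (.leaf (.up 6 189 3)) (.leaf (.up 4 1628 3))) (.node (.leaf (.up 5 175 3)) (.leaf (.up 4 8 1)))) (.node (.node (.leaf (.up 5 1846 3)) (.leaf (.up 4 856 4))) (.node (.leaf (.up 6 194 5)) (.leaf (.up 4 453 3)))))) (.node (.node (.node (.node (.leaf (.up 6 1224 3)) (.leaf (.up 5 553 3))) (.node (.leaf (.up 5 1357 5)) (.leaf (.up 4 112 4)))) (.node (.node (.leaf (.up 3 1228 2)) (.leaf (.up 4 371 5))) (.node (.leaf (.up 5 1842 4)) (.leaf (.up 8 1852 5))))) (.node (.node (.node (.leaf (.up 5 360 4)) (.leaf (.up 6 115 4))) (.node (.leaf (.up 4 1687 3)) (.leaf (.up 7 1440 5)))) (.node (.node (.leaf (.up 7 1841 4)) (.leaf (.up 5 721 5))) (.node (.leaf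 (.up 4 284 3)) (.leaf (.up 7 1182 5))))))) (.node (.node (.node (.node (.node (.leaf (.up 6 705 5)) (.leaf (.up 7 825 4))) (.node (.leaf (.up 6 1980 3)) (.leaf (.up 7 1985 5)))) (.node (.node (.leaf (.up 5 37 3)) (.leaf (.up 5 1376 4))) (.node (.leaf (.up 5 1431 4)) (.leaf (.up 6 1750 3))))) (.node (.node (.node (.leaf (.up 5 1507 3)) (.leaf (.up 6 556 5))) (.node (.leaf (.up 6 545 4)) (.leaf (.up 5 826 4)))) (.node (.node (.leaf (.up 6 1428 4)) (.leaf (.up 2 786 5))) (.node (.leaf (.up 4 1144 4)) (.leaf (.up 5 1373 5)))))) (.node (.node (.node (.node (.leaf (.up 8 1490 5)) (.leaf (.up 4 1693 5))) (.node (.leaf (.up 6 1724 4)) (.leaf (.up 4 210 5)))) (.node (.node (.leaf (.up 7 265 4)) (.leaf (.up 4 1955 5))) (.node (.leaf (.up 5 675 5)) (.leaf (.up 4 492 5))))) (.node (.node (.node (.leaf (.up 5 1648 5)) (.leaf (.up 6 1343 5))) (.node (.leaf (.up 7 63 5)) (.leaf (.up 6 880 5)))) (.node (.node (.leaf (.up 5 1870 5)) (.leaf (.up 7 689 3))) (.node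 (.leaf (.up 6 266 4)) (.leaf (.up 3 590 5))))))))

noncomputable def vt1_2_1001 : Tr VStep :=
  .node (.node (.node (.node (.node (.node (.node (.leaf (.up 6 1993 5)) (.leaf (.up 6 1158 5))) (.node (.leaf (.up 5 1168 1)) (.leaf (.up 6 2030 3)))) (.node (.node (.leaf (.up 6 1686 3)) (.leaf (.up 6 1464 5))) (.node (.leaf (.up 6 1668 3)) (.leaf (.up 4 1015 5))))) (.node (.node (.node (.leaf (.up 7 1131 5)) (.leaf (.up 3 1457 3))) (.node (.leaf (.up 5 670 4)) (.leaf (.up 5 363 5)))) (.node (.node (.leaf (.up 5 1365 5)) (.leaf (.up 7 1072 4))) (.node (.leaf (.up 6 794 5)) (.leaf (.up 6 85 5)))))) (.node (.node (.node (.node (.leaf (.up 7 218 5)) (.leaf (.up 5 452 3))) (.node (.leaf (.up 5 1685 5)) (.leaf (.up 4 1498 5)))) (.node (.node (.leaf (.up 3 1236 2)) (.leaf (.up 4 683 5))) (.node (.leaf (.up 7 90 4)) (.leaf (.up 5 1252 5))))) (.node (.node (.node (.leaf (.up 7 1536 4)) (.leaf (.up 6 1819 4))) (.node (.leaf (.up 6 2028 4)) (.leaf (.up 6 1656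 5)))) (.node (.node (.leaf (.up 7 739 3)) (.leaf (.up 7 265 5))) (.node (.leaf (.up 7 437 4)) (.leaf (.up 5 174 4))))))) (.node (.node (.node (.node (.node (.leaf (.up 4 1354 4)) (.leaf (.up 6 1105 4))) (.node (.leaf (.up 4 1878 5)) (.leaf (.up 7 1049 5)))) (.node (.node (.leaf (.up 6 968 3)) (.leaf (.up 5 520 4))) (.node (.leaf (.up 7 767 4)) (.leaf (.up 7 996 4))))) (.node (.node (.node (.leaf (.up 3 1189 4)) (.leaf (.up 5 500 5))) (.node (.leaf (.up 5 1353 4)) (.leaf (.up 4 1106 4)))) (.node (.node (.leaf (.up 5 764 4)) (.leaf (.up 7 202 5))) (.node (.leaf (.up 6 407 3)) (.leaf (.up 6 523 4)))))) (.node (.node (.node (.node (.leaf (.up 4 56 4)) (.leaf (.up 5 291 4))) (.node (.leaf (.up 6 468 4)) (.leaf (.up 5 207 4)))) (.node (.node (.leaf (.up 5 1633 4)) (.leaf (.up 5 1147 5))) (.node (.leaf (.up 5 1933 4)) (.leaf (.up 6 1686 4))))) (.node (.node (.node (.leaf (.up 5 1448 5)) (.leaf (.up 5 1767 5))) (.node (.leaf (.up 5 59 4)) (.leaf (.up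 4 112 1)))) (.node (.node (.leaf (.up 3 1934 4)) (.leaf (.up 5 1685 4))) (.node (.leaf (.up 6 729 5)) (.leaf (.up 7 1913 4)))))))) (.node (.node (.node (.node (.node (.node (.leaf (.up 4 1628 5)) (.leaf (.up 6 1868 4))) (.node (.leaf (.up 6 19 5)) (.leaf (.up 6 1696 4)))) (.node (.node (.leaf (.up 5 14 4)) (.leaf (.up 7 277 4))) (.node (.leaf (.up 5 301 5)) (.leaf (.up 5 610 5))))) (.node (.node (.node (.leaf (.up 6 1976 4)) (.leaf (.up 6 1713 5))) (.node (.leaf (.up 5 945 5)) (.leaf (.up 1 0 1)))) (.node (.node (.leaf (.up 7 1753 3)) (.leaf (.up 3 1935 5))) (.node (.leaf (.up 5 13 4)) (.leaf (.up 3 1419 0)))))) (.node (.node (.node (.node (.leaf (.up 7 805 4)) (.leaf (.up 5 574 4))) (.node (.leaf (.up 6 1333 3)) (.leaf (.up 4 978 4)))) (.node (.node (.leaf (.up 6 1404 4)) (.leaf (.up 5 1127 4))) (.node (.leaf (.up 5 1168 4)) (.leaf (.up 3 1419 4))))) (.node (.node (.node (.leaf (.up 3 749 5)) (.leaf (.up 5 977 4))) (.node (.leaf (.up 5 1186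 5)) (.leaf (.up 6 2029 5)))) (.node (.node (.leaf (.up 4 979 5)) (.leaf (.up 7 1536 3))) (.node (.leaf (.up 2 1436 5)) (.leaf (.up 5 1747 5))))))) (.node (.node (.node (.node (.node (.leaf (.up 5 384 4)) (.leaf (.up 7 160 3))) (.node (.leaf (.up 7 1731 5)) (.leaf (.up 6 375 4)))) (.node (.node (.leaf (.up 6 2009 4)) (.leaf (.up 5 1730 4))) (.node (.leaf (.up 6 472 3)) (.leaf (.up 7 1202 5))))) (.node (.node (.node (.leaf (.up 4 814 5)) (.leaf (.up 3 749 3))) (.node (.leaf (.up 5 1377 5)) (.leaf (.up 7 767 3)))) (.node (.node (.leaf (.up 5 528 5)) (.leaf (.up 6 1382 3))) (.node (.leaf (.up 5 1119 5)) (.leaf (.up 6 1396 3)))))) (.node (.node (.node (.node (.leaf (.up 6 1951 5)) (.leaf (.up 2 1688 3))) (.node (.leaf (.up 6 464 5)) (.leaf (.up 5 1674 3)))) (.node (.node (.leaf (.up 3 1697 5)) (.leaf (.up 6 944 4))) (.node (.leaf (.up 5 2016 3)) (.leaf (.up 6 929 5))))) (.node (.node (.node (.leaf (.up 6 564 3)) (.leaf (.up 6 1906 5))) (.node (.leaf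 (.up 7 1265 4)) (.leaf (.up 7 1223 3)))) (.node (.node (.leaf (.up 6 1283 5)) (.leaf (.up 5 1612 5))) (.node (.leaf (.up 5 1453 3)) (.leaf (.up 7 3 5))))))))

noncomputable def vt1_2_100 : Tr VStep := .node vt1_2_1000 vt1_2_1001

noncomputable def vt1_2_1010 : Tr VStep :=
  .node (.node (.node (.node (.node (.node (.node (.leaf (.up 6 497 5)) (.leaf (.up 7 702 5))) (.node (.leaf (.up 6 1122 4)) (.leaf (.up 7 668 3)))) (.node (.node (.leaf (.up 5 207 5)) (.leaf (.up 8 896 5))) (.node (.leaf (.up 2 1688 2)) (.leaf (.up 5 1487 5))))) (.node (.node (.node (.leaf (.up 6 1121 4)) (.leaf (.up 4 284 5))) (.node (.leaf (.up 4 1584 3)) (.leaf (.up 6 209 3)))) (.node (.node (.leaf (.up 4 568 4)) (.leaf (.up 7 803 4))) (.node (.leaf (.up 4 980 4)) (.leaf (.up 4 719 4)))))) (.node (.node (.node (.node (.leaf (.up 6 252 4)) (.leaf (.up 5 1453 5))) (.node (.leaf (.up 7 173 5)) (.leaf (.up 7 1188 3)))) (.node (.node (.leaf (.up 7 1500 3)) (.leaf (.up 6 1879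 0))) (.node (.leaf (.up 6 1865 4)) (.leaf (.up 6 1618 4))))) (.node (.node (.node (.leaf (.up 4 1344 5)) (.leaf (.up 4 8 4))) (.node (.leaf (.up 2 255 4)) (.leaf (.up 4 484 4)))) (.node (.node (.leaf (.up 3 1866 4)) (.leaf (.up 5 1617 4))) (.node (.leaf (.up 5 1923 3)) (.leaf (.up 5 1981 4))))))) (.node (.node (.node (.node (.node (.leaf (.up 4 1825 5)) (.leaf (.up 5 2000 3))) (.node (.leaf (.up 5 291 3)) (.leaf (.up 6 545 5)))) (.node (.node (.leaf (.up 5 1567 5)) (.leaf (.up 5 1307 4))) (.node (.leaf (.up 6 1704 3)) (.leaf (.up 6 799 5))))) (.node (.node (.node (.leaf (.up 5 1155 5)) (.leaf (.up 2 1437 3))) (.node (.leaf (.up 8 878 3)) (.leaf (.up 6 387 5)))) (.node (.node (.leaf (.up 7 1519 4)) (.leaf (.up 4 534 3))) (.node (.leaf (.up 7 1010 5)) (.leaf (.up 4 516 3)))))) (.node (.node (.node (.node (.leaf (.up 4 50 5)) (.leaf (.up 4 1584 4))) (.node (.leaf (.up 6 1819 3)) (.leaf (.up 5 506 3)))) (.node (.node (.leaf (.up 5 268 5)) (.leaf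 (.up 4 1635 3))) (.node (.leaf (.up 5 158 4)) (.leaf (.up 5 389 4))))) (.node (.node (.node (.leaf (.up 5 1400 2)) (.leaf (.up 7 2015 4))) (.node (.leaf (.up 6 1366 3)) (.leaf (.up 7 1587 4)))) (.node (.node (.leaf (.up 4 719 3)) (.leaf (.up 7 1070 3))) (.node (.leaf (.up 5 733 3)) (.leaf (.up 8 1966 5)))))))) (.node (.node (.node (.node (.node (.node (.leaf (.up 6 519 0)) (.leaf (.up 4 95 4))) (.node (.leaf (.up 7 168 4)) (.leaf (.up 5 158 3)))) (.node (.node (.leaf (.up 6 486 3)) (.leaf (.up 7 1542 4))) (.node (.leaf (.up 5 500 3)) (.leaf (.up 5 2026 4))))) (.node (.node (.node (.leaf (.up 6 1288 2)) (.leaf (.up 6 705 3))) (.node (.leaf (.up 5 1074 3)) (.leaf (.up 4 92 4)))) (.node (.node (.leaf (.up 6 939 3)) (.leaf (.up 4 1354 3))) (.node (.leaf (.up 6 953 3)) (.leaf (.up 4 1368 3)))))) (.node (.node (.node (.node (.leaf (.up 5 1911 5)) (.leaf (.up 8 1080 5))) (.node (.leaf (.up 3 312 5)) (.leaf (.up 5 1217 4)))) (.node (.node (.leaf (.up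 5 1609 5)) (.leaf (.up 4 319 3))) (.node (.leaf (.up 6 1996 3)) (.leaf (.up 5 301 3))))) (.node (.node (.node (.leaf (.up 4 536 3)) (.leaf (.up 7 1273 3))) (.node (.leaf (.up 7 522 3)) (.leaf (.up 7 469 5)))) (.node (.node (.leaf (.up 6 1427 3)) (.leaf (.up 7 1700 5))) (.node (.leaf (.up 5 620 4)) (.leaf (.up 5 864 3))))))) (.node (.node (.node (.node (.node (.leaf (.up 4 1683 4)) (.leaf (.up 8 1490 3))) (.node (.leaf (.up 7 801 3)) (.leaf (.up 7 1636 4)))) (.node (.node (.leaf (.up 6 1208 3)) (.leaf (.up 5 1221 5))) (.node (.leaf (.up 4 294 4)) (.leaf (.up 7 61 4))))) (.node (.node (.node (.leaf (.up 4 1916 4)) (.leaf (.up 5 1625 5))) (.node (.leaf (.up 6 857 5)) (.leaf (.up 3 1931 4)))) (.node (.node (.leaf (.up 6 293 4)) (.leaf (.up 6 1895 5))) (.node (.leaf (.up 5 1767 3)) (.leaf (.up 6 296 5)))))) (.node (.node (.node (.node (.leaf (.up 4 993 4)) (.leaf (.up 4 744 5))) (.node (.leaf (.up 7 525 4)) (.leaf (.up 4 1191 5)))) (.node (.node (.leaf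 (.up 6 1464 4)) (.leaf (.up 5 982 5))) (.node (.leaf (.up 6 1750 5)) (.leaf (.up 4 1433 5))))) (.node (.node (.node (.leaf (.up 7 517 5)) (.leaf (.up 5 330 5))) (.node (.leaf (.up 6 1098 5)) (.leaf (.up 6 1797 5)))) (.node (.node (.leaf (.up 7 827 5)) (.leaf (.up 4 1580 3))) (.node (.leaf (.up 6 1396 5)) (.leaf (.up 7 1184 4))))))))

noncomputable def vt1_2_1011 : Tr VStep :=
  .node (.node (.node (.node (.node (.node (.node (.leaf (.up 4 1580 4)) (.leaf (.up 4 243 5))) (.node (.leaf (.up 6 1426 3)) (.leaf (.up 6 1724 5)))) (.node (.node (.leaf (.up 5 117 4)) (.leaf (.up 6 1258 3))) (.node (.leaf (.up 6 1229 5)) (.leaf (.up 6 1922 5))))) (.node (.node (.node (.leaf (.up 6 30 5)) (.leaf (.up 6 849 5))) (.node (.leaf (.up 5 1617 5)) (.leaf (.up 5 1844 4)))) (.node (.node (.leaf (.up 6 70 3)) (.leaf (.up 5 1703 3))) (.node (.leaf (.up 7 1903 5)) (.leaf (.up 4 1717 3)))))) (.node (.node (.node (.node (.leaf (.up 7 862 4)) (.leaf (.up 5 2016 5)))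 (.node (.leaf (.up 3 736 5)) (.leaf (.up 4 1355 3)))) (.node (.node (.leaf (.up 5 1425 5)) (.leaf (.up 4 1758 5))) (.node (.leaf (.up 5 990 5)) (.leaf (.up 5 704 3))))) (.node (.node (.node (.leaf (.up 7 1805 5)) (.leaf (.up 5 938 4))) (.node (.leaf (.up 7 487 3)) (.leaf (.up 7 525 5)))) (.node (.node (.leaf (.up 7 1662 3)) (.leaf (.up 6 1404 5))) (.node (.leaf (.up 7 1284 4)) (.leaf (.up 6 819 5))))))) (.node (.node (.node (.node (.node (.leaf (.up 7 507 4)) (.leaf (.up 7 224 4))) (.node (.leaf (.up 6 204 3)) (.leaf (.up 5 268 4)))) (.node (.node (.leaf (.up 4 1106 5)) (.leaf (.up 7 1821 5))) (.node (.leaf (.up 4 319 0)) (.leaf (.up 6 1877 4))))) (.node (.node (.node (.leaf (.up 6 659 3)) (.leaf (.up 5 1727 0))) (.node (.leaf (.up 5 641 3)) (.leaf (.up 7 974 5)))) (.node (.node (.leaf (.up 5 1613 4)) (.leaf (.up 4 1878 4))) (.node (.leaf (.up 3 1953 4)) (.leaf (.up 6 1003 3)))))) (.node (.node (.node (.node (.leaf (.up 4 1161 4)) (.leaf (.up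 6 1426 4))) (.node (.leaf (.up 5 1381 4)) (.leaf (.up 7 1919 5)))) (.node (.node (.leaf (.up 5 720 4)) (.leaf (.up 5 14 5))) (.node (.leaf (.up 4 828 4)) (.leaf (.up 5 551 4))))) (.node (.node (.node (.leaf (.up 6 477 5)) (.leaf (.up 7 1149 4))) (.node (.leaf (.up 2 255 0)) (.leaf (.up 5 600 3)))) (.node (.node (.leaf (.up 5 1023 0)) (.leaf (.up 4 1473 3))) (.node (.leaf (.up 5 1708 5)) (.leaf (.up 5 1507 5)))))))) (.node (.node (.node (.node (.node (.node (.leaf (.up 5 553 5)) (.leaf (.up 5 358 5))) (.node (.leaf (.up 5 778 4)) (.leaf (.up 7 529 4)))) (.node (.node (.leaf (.up 6 791 5)) (.leaf (.up 7 88 5))) (.node (.leaf (.up 4 1368 5)) (.leaf (.up 6 1096 4))))) (.node (.node (.node (.leaf (.up 5 1487 3)) (.leaf (.up 2 530 4))) (.node (.leaf (.up 7 1501 3)) (.leaf (.up 3 1163 5)))) (.node (.node (.leaf (.up 5 181 5)) (.leaf (.up 1 0 2))) (.node (.leaf (.up 6 1212 4)) (.leaf (.up 7 1447 4)))))) (.node (.node (.node (.node (.leaf (.up 7 1940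 4)) (.leaf (.up 3 1679 4))) (.node (.leaf (.up 6 1656 4)) (.leaf (.up 5 1103 0)))) (.node (.node (.leaf (.up 8 1585 3)) (.leaf (.up 4 214 4))) (.node (.leaf (.up 7 33 4)) (.leaf (.up 4 314 4))))) (.node (.node (.node (.leaf (.up 2 1688 5)) (.leaf (.up 5 1495 5))) (.node (.leaf (.up 4 215 5)) (.leaf (.up 7 1676 4)))) (.node (.node (.leaf (.up 5 1958 5)) (.leaf (.up 6 1257 5))) (.node (.leaf (.up 3 1600 2)) (.leaf (.up 5 213 4))))))) (.node (.node (.node (.node (.node (.leaf (.up 6 732 3)) (.leaf (.up 7 1974 5))) (.node (.leaf (.up 6 1245 4)) (.leaf (.up 6 1478 4)))) (.node (.node (.leaf (.up 7 1367 3)) (.leaf (.up 6 627 4))) (.node (.leaf (.up 6 904 5)) (.leaf (.up 7 927 4))))) (.node (.node (.node (.leaf (.up 5 1883 5)) (.leaf (.up 5 1648 3))) (.node (.leaf (.up 5 276 5)) (.leaf (.up 6 1634 3)))) (.node (.node (.leaf (.up 6 1637 5)) (.leaf (.up 7 507 3))) (.node (.leaf (.up 4 42 5)) (.leaf (.up 4 489 3)))))) (.node (.node (.node (.node (.leaf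 (.up 5 1252 3)) (.leaf (.up 6 165 5))) (.node (.leaf (.up 5 1445 5)) (.leaf (.up 5 1770 5)))) (.node (.node (.leaf (.up 6 724 5)) (.leaf (.up 6 1793 4))) (.node (.leaf (.up 7 1179 5)) (.leaf (.up 2 1436 3))))) (.node (.node (.node (.leaf (.up 5 1705 3)) (.leaf (.up 7 775 5))) (.node (.leaf (.up 4 1543 5)) (.leaf (.up 5 864 2)))) (.node (.node (.leaf (.up 8 290 3)) (.leaf (.up 7 1987 3))) (.node (.leaf (.up 6 304 3)) (.leaf (.up 6 608 2))))))))

noncomputable def vt1_2_101 : Tr VStep := .node vt1_2_1010 vt1_2_1011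

noncomputable def vt1_2_10 : Tr VStep := .node vt1_2_100 vt1_2_101

noncomputable def vt1_2_1100 : Tr VStep :=
  .node (.node (.node (.node (.node (.node (.node (.leaf (.up 6 240 3)) (.leaf (.up 6 393 4))) (.node (.leaf (.up 6 382 4)) (.leaf (.up 5 101 4)))) (.node (.node (.leaf (.up 6 1789 5)) (.leaf (.up 5 2000 4))) (.node (.leaf (.up 7 1897 3)) (.leaf (.up 5 392 3))))) (.node (.node (.node (.leaf (.up 6 1121 5)) (.leaf (.up 4 1116 3))) (.node (.leaf (.up 6 687 3)) (.leaf (.up 5 1102 3)))) (.node (.node (.leaf (.up 5 1375 5)) (.leaf (.up 5 983 3))) (.node (.leaf (.up 5 1316 3)) (.leaf (.up 4 95 5)))))) (.node (.node (.node (.node (.leaf (.up 6 208 5)) (.leaf (.up 5 1275 4))) (.node (.leaf (.up 6 1754 3)) (.leaf (.up 5 59 3)))) (.node (.node (.leaf (.up 4 494 5)) (.leaf (.up 8 1954 3))) (.node (.leaf (.up 3 1953 5)) (.leaf (.up 4 846 4))))) (.node (.node (.node (.leaf (.up 5 1157 3)) (.leaf (.up 7 61 5))) (.node (.leaf (.up 5 1507 4)) (.leaf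 (.up 6 630 3)))) (.node (.node (.leaf (.up 4 782 3)) (.leaf (.up 6 845 4))) (.node (.leaf (.up 7 1027 5)) (.leaf (.up 6 1868 5))))))) (.node (.node (.node (.node (.node (.leaf (.up 7 1454 3)) (.leaf (.up 6 604 5))) (.node (.leaf (.up 5 1705 4)) (.leaf (.up 7 1970 4)))) (.node (.node (.leaf (.up 4 284 4)) (.leaf (.up 7 1220 3))) (.node (.leaf (.up 6 567 3)) (.leaf (.up 6 491 4))))) (.node (.node (.node (.leaf (.up 5 1706 4)) (.leaf (.up 6 1969 4))) (.node (.leaf (.up 4 2033 3)) (.leaf (.up 6 1969 5)))) (.node (.node (.leaf (.up 4 243 4)) (.leaf (.up 5 192 5))) (.node (.leaf (.up 7 287 4)) (.leaf (.up 3 1679 5)))))) (.node (.node (.node (.node (.leaf (.up 6 567 4)) (.leaf (.up 4 1359 5))) (.node (.leaf (.up 7 900 3)) (.leaf (.up 3 768 5)))) (.node (.node (.leaf (.up 5 1134 4)) (.leaf (.up 5 1137 5))) (.node (.leaf (.up 7 1039 3)) (.leaf (.up 4 766 2))))) (.node (.node (.node (.leaf (.up 6 1442 5)) (.leaf (.up 5 1850 3))) (.node (.leaf (.up 6 1005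 5)) (.leaf (.up 7 162 5)))) (.node (.node (.leaf (.up 7 1409 4)) (.leaf (.up 4 2003 5))) (.node (.leaf (.up 6 723 5)) (.leaf (.up 6 163 3)))))))) (.node (.node (.node (.node (.node (.node (.leaf (.up 5 1622 5)) (.leaf (.up 8 1305 5))) (.node (.leaf (.up 1 1 0)) (.leaf (.up 6 854 5)))) (.node (.node (.leaf (.up 6 769 0)) (.leaf (.up 6 794 4))) (.node (.leaf (.up 6 295 5)) (.leaf (.up 7 758 4))))) (.node (.node (.node (.leaf (.up 4 1524 5)) (.leaf (.up 6 1723 5))) (.node (.leaf (.up 5 1115 4)) (.leaf (.up 3 1153 0)))) (.node (.node (.leaf (.up 5 1844 3)) (.leaf (.up 5 1925 5))) (.node (.leaf (.up 4 1830 3)) (.leaf (.up 6 793 4)))))) (.node (.node (.node (.node (.leaf (.up 6 1226 3)) (.leaf (.up 7 555 3))) (.node (.leaf (.up 6 198 4)) (.leaf (.up 6 477 4)))) (.node (.node (.leaf (.up 6 1907 4)) (.leaf (.up 5 820 5))) (.node (.leaf (.up 7 1695 4)) (.leaf (.up 7 1924 4))))) (.node (.node (.node (.leaf (.up 5 197 4)) (.leaf (.up 6 478 4))) (.node (.leaf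 (.up 5 1685 3)) (.leaf (.up 4 50 4)))) (.node (.node (.leaf (.up 3 985 5)) (.leaf (.up 5 1927 4))) (.node (.leaf (.up 3 1904 4)) (.leaf (.up 3 1643 4))))))) (.node (.node (.node (.node (.node (.leaf (.up 5 134 5)) (.leaf (.up 4 660 4))) (.node (.leaf (.up 6 1194 1)) (.leaf (.up 6 1414 5)))) (.node (.node (.leaf (.up 5 440 5)) (.leaf (.up 4 1734 3))) (.node (.leaf (.up 5 53 3)) (.leaf (.up 6 1208 5))))) (.node (.node (.node (.leaf (.up 6 608 4)) (.leaf (.up 3 768 3))) (.node (.leaf (.up 7 1387 5)) (.leaf (.up 2 786 3)))) (.node (.node (.leaf (.up 5 538 5)) (.leaf (.up 2 810 1))) (.node (.leaf (.up 8 632 3)) (.leaf (.up 7 1230 4)))))) (.node (.node (.node (.node (.leaf (.up 5 1941 5)) (.leaf (.up 4 494 2))) (.node (.leaf (.up 5 1809 4)) (.leaf (.up 5 1546 4)))) (.node (.node (.leaf (.up 3 1707 5)) (.leaf (.up 3 447 4))) (.node (.leaf (.up 7 228 5)) (.leaf (.up 5 236 3))))) (.node (.node (.node (.leaf (.up 3 985 3)) (.leaf (.up 6 1336 3))) (.node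 (.leaf (.up 5 1902 2)) (.leaf (.up 7 311 5)))) (.node (.node (.leaf (.up 4 1106 3)) (.leaf (.up 8 80 4))) (.node (.leaf (.up 6 1088 3)) (.leaf (.up 7 9 5))))))))

noncomputable def vt1_2_1101 : Tr VStep :=
  .node (.node (.node (.node (.node (.node (.node (.leaf (.up 7 1422 5)) (.leaf (.up 6 1729 5))) (.node (.leaf (.up 5 961 5)) (.leaf (.up 6 2028 3)))) (.node (.node (.leaf (.up 6 1200 5)) (.leaf (.up 5 2047 5))) (.node (.leaf (.up 5 1157 4)) (.leaf (.up 7 432 5))))) (.node (.node (.node (.leaf (.up 4 1580 5)) (.leaf (.up 2 530 1))) (.node (.leaf (.up 6 819 4)) (.leaf (.up 7 552 4)))) (.node (.node (.leaf (.up 6 1241 3)) (.leaf (.up 2 1437 4))) (.node (.leaf (.up 6 1386 4)) (.leaf (.up 2 530 5)))))) (.node (.node (.node (.node (.leaf (.up 7 1831 3)) (.leaf (.up 4 1881 4))) (.node (.leaf (.up 8 1966 4)) (.leaf (.up 4 1717 4)))) (.node (.node (.leaf (.up 6 27 4)) (.leaf (.up 3 256 4))) (.node (.leaf (.up 6 503 4)) (.leaf (.up 5 236 4))))) (.node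 (.node (.node (.leaf (.up 4 319 5)) (.leaf (.up 6 1718 4))) (.node (.leaf (.up 3 1904 5)) (.leaf (.up 5 1087 5)))) (.node (.node (.leaf (.up 1 1 5)) (.leaf (.up 4 846 5))) (.node (.leaf (.up 5 1614 5)) (.leaf (.up 6 1042 3))))))) (.node (.node (.node (.node (.node (.leaf (.up 7 862 5)) (.leaf (.up 6 1532 4))) (.node (.leaf (.up 6 1297 5)) (.leaf (.up 7 690 3)))) (.node (.node (.leaf (.up 5 970 3)) (.leaf (.up 7 303 5))) (.node (.leaf (.up 6 850 4)) (.leaf (.up 6 585 4))))) (.node (.node (.node (.leaf (.up 6 252 5)) (.leaf (.up 7 237 3))) (.node (.leaf (.up 3 1715 5)) (.leaf (.up 2 255 3)))) (.node (.node (.leaf (.up 5 450 5)) (.leaf (.up 6 1894 3))) (.node (.leaf (.up 5 1933 5)) (.leaf (.up 6 1908 3)))))) (.node (.node (.node (.node (.leaf (.up 6 1101 5)) (.leaf (.up 6 1176 3))) (.node (.leaf (.up 6 514 5)) (.leaf (.up 2 242 1)))) (.node (.node (.leaf (.up 4 1395 5)) (.leaf (.up 6 1751 4))) (.node (.leaf (.up 4 828 5)) (.leaf (.up 6 769 3)))))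 (.node (.node (.node (.leaf (.up 7 2031 5)) (.leaf (.up 7 1184 5))) (.node (.leaf (.up 6 38 3)) (.leaf (.up 6 751 5)))) (.node (.node (.leaf (.up 5 1983 3)) (.leaf (.up 7 350 3))) (.node (.leaf (.up 5 158 5)) (.leaf (.up 5 977 5)))))))) (.node (.node (.node (.node (.node (.node (.leaf (.up 5 797 3)) (.leaf (.up 6 1532 3))) (.node (.leaf (.up 6 596 5)) (.leaf (.up 6 283 5)))) (.node (.node (.leaf (.up 5 419 4)) (.leaf (.up 4 1642 5))) (.node (.leaf (.up 5 1156 3)) (.leaf (.up 5 37 5))))) (.node (.node (.node (.leaf (.up 6 336 3)) (.leaf (.up 6 1270 5))) (.node (.leaf (.up 7 502 5)) (.leaf (.up 4 1955 3)))) (.node (.node (.leaf (.up 6 1030 2)) (.leaf (.up 6 1480 5))) (.node (.leaf (.up 6 200 5)) (.leaf (.up 6 187 4)))))) (.node (.node (.node (.node (.leaf (.up 5 776 5)) (.leaf (.up 4 71 5))) (.node (.leaf (.up 6 1351 5)) (.leaf (.up 5 982 3)))) (.node (.node (.leaf (.up 7 566 5)) (.leaf (.up 4 377 5))) (.node (.leaf (.up 3 1145 5)) (.leaf (.up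 4 1117 3))))) (.node (.node (.node (.leaf (.up 7 871 4)) (.leaf (.up 6 997 5))) (.node (.leaf (.up 7 651 4)) (.leaf (.up 7 912 4)))) (.node (.node (.leaf (.up 7 227 3)) (.leaf (.up 6 1061 4))) (.node (.leaf (.up 6 241 3)) (.leaf (.up 7 1552 3))))))) (.node (.node (.node (.node (.node (.leaf (.up 4 715 5)) (.leaf (.up 7 162 3))) (.node (.leaf (.up 5 449 4)) (.leaf (.up 7 218 4)))) (.node (.node (.leaf (.up 7 1013 5)) (.leaf (.up 7 1903 4))) (.node (.leaf (.up 6 474 3)) (.leaf (.up 6 1667 4))))) (.node (.node (.node (.leaf (.up 5 450 4)) (.leaf (.up 4 217 4))) (.node (.leaf (.up 4 46 4)) (.leaf (.up 5 765 3)))) (.node (.node (.leaf (.up 5 901 3)) (.leaf (.up 6 1664 4))) (.node (.leaf (.up 4 919 3)) (.leaf (.up 7 1367 5)))))) (.node (.node (.node (.node (.leaf (.up 5 1375 4)) (.leaf (.up 4 1092 4))) (.node (.leaf (.up 4 1203 4)) (.leaf (.up 5 1448 4)))) (.node (.node (.leaf (.up 5 774 4)) (.leaf (.up 6 541 4))) (.node (.leaf (.up 6 746 4)) (.leaf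 (.up 6 486 5))))) (.node (.node (.node (.leaf (.up 6 745 0)) (.leaf (.up 4 1239 3))) (.node (.leaf (.up 5 53 5)) (.leaf (.up 5 890 5)))) (.node (.node (.leaf (.up 6 1860 5)) (.leaf (.up 7 860 3))) (.node (.leaf (.up 3 773 4)) (.leaf (.up 4 846 3))))))))

noncomputable def vt1_2_110 : Tr VStep := .node vt1_2_1100 vt1_2_1101

noncomputable def vt1_2_1110 : Tr VStep :=
  .node (.node (.node (.node (.node (.node (.node (.leaf (.up 7 1133 3)) (.leaf (.up 5 652 3))) (.node (.leaf (.up 5 1487 4)) (.leaf (.up 3 1236 4)))) (.node (.node (.leaf (.up 5 648 5)) (.leaf (.up 5 865 4))) (.node (.leaf (.up 6 1012 3)) (.leaf (.up 6 653 4))))) (.node (.node (.node (.leaf (.up 5 1568 3)) (.leaf (.up 4 859 5))) (.node (.leaf (.up 6 1627 5)) (.leaf (.up 6 211 3)))) (.node (.node (.leaf (.up 6 427 3)) (.leaf (.up 3 1866 3))) (.node (.leaf (.up 6 441 3)) (.leaf (.up 4 1880 3)))))) (.node (.node (.node (.node (.leaf (.up 3 1189 5)) (.leaf (.up 5 2026 5))) (.node (.leaf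 (.up 6 746 5)) (.leaf (.up 8 422 4)))) (.node (.node (.leaf (.up 6 1502 3)) (.leaf (.up 5 990 1))) (.node (.leaf (.up 4 980 5)) (.leaf (.up 5 2047 4))))) (.node (.node (.node (.leaf (.up 7 1799 5)) (.leaf (.up 6 1096 5))) (.node (.leaf (.up 4 10 3)) (.leaf (.up 6 519 5)))) (.node (.node (.leaf (.up 5 1767 4)) (.leaf (.up 6 370 3))) (.node (.leaf (.up 5 1921 3)) (.leaf (.up 7 825 5))))))) (.node (.node (.node (.node (.node (.leaf (.up 6 307 3)) (.leaf (.up 6 751 4))) (.node (.leaf (.up 4 536 4)) (.leaf (.up 7 1984 3)))) (.node (.node (.leaf (.up 5 1453 4)) (.leaf (.up 7 1206 4))) (.node (.leaf (.up 5 1706 3)) (.leaf (.up 6 344 5))))) (.node (.node (.node (.leaf (.up 7 539 4)) (.leaf (.up 3 1419 5))) (.node (.leaf (.up 4 1015 4)) (.leaf (.up 4 748 4)))) (.node (.node (.leaf (.up 6 1082 2)) (.leaf (.up 6 1205 5))) (.node (.leaf (.up 7 1454 4)) (.leaf (.up 6 1205 4)))))) (.node (.node (.node (.node (.leaf (.up 7 1670 4)) (.leaf (.up 4 314 5))) (.node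 (.leaf (.up 5 1898 4)) (.leaf (.up 5 1909 5)))) (.node (.node (.leaf (.up 7 843 5)) (.leaf (.up 3 4 5))) (.node (.leaf (.up 6 307 4)) (.leaf (.up 5 1611 5))))) (.node (.node (.node (.leaf (.up 6 471 5)) (.leaf (.up 7 664 5))) (.node (.leaf (.up 7 1669 4)) (.leaf (.up 4 1239 5)))) (.node (.node (.leaf (.up 6 233 5)) (.leaf (.up 7 934 5))) (.node (.leaf (.up 7 1702 5)) (.leaf (.up 5 1086 3)))))))) (.node (.node (.node (.node (.node (.node (.leaf (.up 6 547 5)) (.leaf (.up 7 498 4))) (.node (.leaf (.up 6 1132 5)) (.leaf (.up 6 30 4)))) (.node (.node (.leaf (.up 3 1162 2)) (.leaf (.up 6 82 5))) (.node (.leaf (.up 5 1362 5)) (.leaf (.up 8 1565 5))))) (.node (.node (.node (.leaf (.up 4 1058 3)) (.leaf (.up 6 29 4))) (.node (.leaf (.up 5 234 4)) (.leaf (.up 3 1153 5)))) (.node (.node (.leaf (.up 5 1887 4)) (.leaf (.up 4 1604 4))) (.node (.leaf (.up 3 1715 4)) (.leaf (.up 7 1960 4)))))) (.node (.node (.node (.node (.leaf (.up 7 1435 4)) (.leaf (.up 6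 1718 3))) (.node (.leaf (.up 5 1143 4)) (.leaf (.up 5 970 2)))) (.node (.node (.leaf (.up 6 962 4)) (.leaf (.up 6 729 4))) (.node (.leaf (.up 7 558 4)) (.leaf (.up 5 821 4))))) (.node (.node (.node (.leaf (.up 3 709 0)) (.leaf (.up 3 1391 4))) (.node (.leaf (.up 3 221 5)) (.leaf (.up 5 1155 4)))) (.node (.node (.leaf (.up 5 1425 3)) (.leaf (.up 4 822 4))) (.node (.leaf (.up 4 453 0)) (.leaf (.up 6 730 4))))))) (.node (.node (.node (.node (.node (.leaf (.up 5 1710 1)) (.leaf (.up 6 1980 5))) (.node (.leaf (.up 5 700 5)) (.leaf (.up 4 1474 3)))) (.node (.node (.leaf (.up 6 1210 3)) (.leaf (.up 6 1666 5))) (.node (.leaf (.up 5 898 5)) (.leaf (.up 6 400 4))))) (.node (.node (.node (.leaf (.up 8 1745 4)) (.leaf (.up 7 1054 5))) (.node (.leaf (.up 5 286 5)) (.leaf (.up 2 810 2)))) (.node (.node (.leaf (.up 7 1647 5)) (.leaf (.up 4 814 1))) (.node (.leaf (.up 8 356 4)) (.leaf (.up 3 4 3)))))) (.node (.node (.node (.node (.leaf (.up 7 992 5)) (.leaf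 (.up 4 1000 3))) (.node (.leaf (.up 5 1455 5)) (.leaf (.up 5 1125 0)))) (.node (.node (.leaf (.up 5 1045 4)) (.leaf (.up 5 1294 4))) (.node (.leaf (.up 5 1169 5)) (.leaf (.up 4 494 1))))) (.node (.node (.node (.leaf (.up 6 1860 3)) (.leaf (.up 7 781 5))) (.node (.leaf (.up 4 1878 3)) (.leaf (.up 6 852 4)))) (.node (.node (.leaf (.up 5 207 3)) (.leaf (.up 7 563 5))) (.node (.leaf (.up 3 221 3)) (.leaf (.up 6 1596 3))))))))

noncomputable def vt1_2_1111 : Tr VStep :=
  .node (.node (.node (.node (.node (.node (.node (.leaf (.up 5 1921 4)) (.leaf (.up 6 1690 4))) (.node (.leaf (.up 4 1972 5)) (.leaf (.up 5 1275 5)))) (.node (.node (.leaf (.up 5 197 5)) (.leaf (.up 6 195 4))) (.node (.leaf (.up 5 1674 5)) (.leaf (.up 6 1477 5))))) (.node (.node (.node (.leaf (.up 6 1999 3)) (.leaf (.up 2 274 2))) (.node (.leaf (.up 6 1922 4)) (.leaf (.up 2 1689 4)))) (.node (.node (.leaf (.up 6 55 4)) (.leaf (.up 6 300 4))) (.node (.leaf (.up 6 1320 5)) (.leaf (.up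 2 530 2)))))) (.node (.node (.node (.node (.leaf (.up 6 755 4)) (.leaf (.up 4 1000 4))) (.node (.leaf (.up 6 799 4)) (.leaf (.up 4 516 4)))) (.node (.node (.leaf (.up 6 1194 4)) (.leaf (.up 3 1457 4))) (.node (.leaf (.up 7 1059 3)) (.leaf (.up 4 1117 4))))) (.node (.node (.node (.leaf (.up 4 1354 5)) (.leaf (.up 6 519 4))) (.node (.leaf (.up 3 1874 2)) (.leaf (.up 6 74 5)))) (.node (.node (.leaf (.up 4 1106 2)) (.leaf (.up 4 1118 4))) (.node (.leaf (.up 6 571 5)) (.leaf (.up 5 372 5))))))) (.node (.node (.node (.node (.node (.leaf (.up 6 86 4)) (.leaf (.up 6 333 4))) (.node (.leaf (.up 7 206 3)) (.leaf (.up 7 555 5)))) (.node (.node (.leaf (.up 6 1551 4)) (.leaf (.up 7 1812 4))) (.node (.leaf (.up 7 90 5)) (.leaf (.up 5 1784 4))))) (.node (.node (.node (.leaf (.up 4 1161 5)) (.leaf (.up 6 1136 3))) (.node (.leaf (.up 5 710 5)) (.leaf (.up 6 393 5)))) (.node (.node (.leaf (.up 5 1463 5)) (.leaf (.up 4 822 1))) (.node (.leaf (.up 6 1016 5)) (.leaf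 (.up 7 1001 3)))))) (.node (.node (.node (.node (.leaf (.up 4 56 5)) (.leaf (.up 5 1087 4))) (.node (.leaf (.up 5 1782 3)) (.leaf (.up 6 1491 4)))) (.node (.node (.leaf (.up 7 262 5)) (.leaf (.up 2 242 2))) (.node (.leaf (.up 6 1865 5)) (.leaf (.up 6 1948 3))))) (.node (.node (.node (.leaf (.up 5 922 5)) (.leaf (.up 5 213 5))) (.node (.leaf (.up 5 1211 3)) (.leaf (.up 6 1690 5)))) (.node (.node (.leaf (.up 6 802 3)) (.leaf (.up 6 491 5))) (.node (.leaf (.up 7 816 3)) (.leaf (.up 6 1489 3)))))))) (.node (.node (.node (.node (.node (.node (.leaf (.up 7 1920 3)) (.leaf (.up 7 801 5))) (.node (.leaf (.up 5 679 4)) (.leaf (.up 4 371 3)))) (.node (.node (.leaf (.up 6 336 5)) (.leaf (.up 5 1770 3))) (.node (.leaf (.up 5 25 3)) (.leaf (.up 5 1784 3))))) (.node (.node (.node (.leaf (.up 6 972 5)) (.leaf (.up 6 959 4))) (.node (.leaf (.up 6 1503 3)) (.leaf (.up 6 1740 5)))) (.node (.node (.leaf (.up 7 754 5)) (.leaf (.up 4 1191 3))) (.node (.leaf (.up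 6 1297 4)) (.leaf (.up 5 2034 5)))))) (.node (.node (.node (.node (.leaf (.up 3 1917 5)) (.leaf (.up 4 1881 3))) (.node (.leaf (.up 6 306 5)) (.leaf (.up 6 637 5)))) (.node (.node (.leaf (.up 6 1603 5)) (.leaf (.up 4 210 3))) (.node (.leaf (.up 4 12 5)) (.leaf (.up 4 835 5))))) (.node (.node (.node (.leaf (.up 7 1013 3)) (.leaf (.up 7 1936 5))) (.node (.leaf (.up 7 656 5)) (.leaf (.up 4 1825 4)))) (.node (.node (.leaf (.up 7 1505 5)) (.leaf (.up 5 1710 5))) (.node (.leaf (.up 6 1132 3)) (.leaf (.up 6 225 5))))))) (.node (.node (.node (.node (.node (.leaf (.up 6 734 3)) (.leaf (.up 4 1415 4))) (.node (.leaf (.up 6 1392 4)) (.leaf (.up 7 1131 4)))) (.node (.node (.leaf (.up 3 709 4)) (.leaf (.up 5 990 4))) (.node (.leaf (.up 5 463 5)) (.leaf (.up 6 640 5))))) (.node (.node (.node (.leaf (.up 4 1395 4)) (.leaf (.up 7 1619 5))) (.node (.leaf (.up 7 129 3)) (.leaf (.up 4 1412 4)))) (.node (.node (.leaf (.up 2 810 4)) (.leaf (.up 6 1901 5))) (.node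 (.leaf (.up 5 710 4)) (.leaf (.up 4 989 4)))))) (.node (.node (.node (.node (.leaf (.up 4 494 4)) (.leaf (.up 6 738 5))) (.node (.leaf (.up 4 2 4)) (.leaf (.up 6 281 4)))) (.node (.node (.leaf (.up 4 1975 4)) (.leaf (.up 5 1708 4))) (.node (.leaf (.up 6 1627 4)) (.leaf (.up 6 1856 4))))) (.node (.node (.node (.leaf (.up 1 1 4)) (.leaf (.up 4 282 4))) (.node (.leaf (.up 6 1088 5)) (.leaf (.up 6 246 4)))) (.node (.node (.leaf (.up 5 1624 4)) (.leaf (.up 5 1859 4))) (.node (.leaf (.up 4 1972 4)) (.leaf (.up 4 2003 3))))))))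

noncomputable def vt1_2_111 : Tr VStep := .node vt1_2_1110 vt1_2_1111

noncomputable def vt1_2_11 : Tr VStep := .node vt1_2_110 vt1_2_111

noncomputable def vt1_2_1 : Tr VStep := .node vt1_2_10 vt1_2_11

noncomputable def vt1_2_ : Tr VStep := .node vt1_2_0 vt1_2_1

noncomputable def vt1_3_0000 : Tr VStep :=
  .node (.node (.node (.node (.node (.node (.node (.leaf (.root 20)) (.leaf (.up 4 1542 5))) (.node (.leaf (.up 5 790 2)) (.leaf (.up 3 587 3)))) (.node (.node (.leaf (.up 5 962 3)) (.leaf (.up 5 1884 1))) (.node (.leaf (.up 5 238 3)) (.leaf (.up 5 1008 2))))) (.node (.node (.node (.leaf (.up 5 1529 3)) (.leaf (.up 5 700 3))) (.node (.leaf (.up 5 1055 2)) (.leaf (.up 5 1759 0)))) (.node (.node (.leaf (.up 5 549 5)) (.leaf (.up 5 1884 3))) (.node (.leaf (.up 5 821 3)) (.leaf (.up 4 102 1)))))) (.node (.node (.node (.node (.leaf (.up 5 1884 4)) (.leaf (.up 5 1307 5))) (.node (.leaf (.up 4 55 3)) (.leaf (.up 6 1700 0)))) (.node (.node (.leaf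 (.up 5 1787 3)) (.leaf (.up 5 1878 1))) (.node (.leaf (.up 6 1495 3)) (.leaf (.up 5 1591 5))))) (.node (.node (.node (.leaf (.up 6 1695 4)) (.leaf (.up 5 876 1))) (.node (.leaf (.up 4 532 5)) (.leaf (.up 5 1193 2)))) (.node (.node (.leaf (.up 6 1072 1)) (.leaf (.up 5 366 1))) (.node (.leaf (.up 4 133 0)) (.leaf (.up 5 108 1))))))) (.node (.node (.node (.node (.node (.leaf (.up 4 669 5)) (.leaf (.up 5 1373 1))) (.node (.leaf (.up 3 1744 2)) (.leaf (.up 5 431 2)))) (.node (.node (.leaf (.up 6 28 3)) (.leaf (.up 5 1496 5))) (.node (.leaf (.up 6 1808 0)) (.leaf (.up 5 788 5))))) (.node (.node (.node (.leaf (.up 5 2030 4)) (.leaf (.up 5 862 5))) (.node (.leaf (.up 5 1291 3)) (.leaf (.up 4 1702 2)))) (.node (.node (.leaf (.up 5 698 0)) (.leaf (.up 5 275 4))) (.node (.leaf (.up 5 317 0)) (.leaf (.up 3 584 0)))))) (.node (.node (.node (.node (.leaf (.up 5 197 3)) (.leaf (.up 3 2039 4))) (.node (.leaf (.up 5 1868 5)) (.leaf (.up 2 330 0)))) (.node (.node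 (.leaf (.up 4 1120 5)) (.leaf (.up 5 1733 5))) (.node (.leaf (.up 6 1664 2)) (.leaf (.up 5 563 0))))) (.node (.node (.node (.leaf (.up 6 798 3)) (.leaf (.up 5 1588 4))) (.node (.leaf (.up 5 50 3)) (.leaf (.up 5 367 2)))) (.node (.node (.leaf (.up 4 671 2)) (.leaf (.up 6 1443 5))) (.node (.leaf (.up 4 393 2)) (.leaf (.up 5 879 5)))))))) (.node (.node (.node (.node (.node (.node (.leaf (.up 6 959 4)) (.leaf (.up 5 1337 4))) (.node (.leaf (.up 3 1117 5)) (.leaf (.up 5 193 1)))) (.node (.node (.leaf (.up 5 873 3)) (.leaf (.up 5 1647 2))) (.node (.leaf (.up 5 445 5)) (.leaf (.up 5 792 5))))) (.node (.node (.node (.leaf (.up 6 503 5)) (.leaf (.up 4 535 3))) (.node (.leaf (.up 5 935 1)) (.leaf (.up 5 1438 5)))) (.node (.node (.leaf (.up 6 167 1)) (.leaf (.up 3 2039 3))) (.node (.leaf (.up 4 731 5)) (.leaf (.up 4 126 5)))))) (.node (.node (.node (.node (.leaf (.up 5 396 5)) (.leaf (.up 4 1416 0))) (.node (.leaf (.up 4 156 3)) (.leaf (.up 6 1551 0))))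 (.node (.node (.leaf (.up 5 1176 4)) (.leaf (.up 5 1777 0))) (.node (.leaf (.up 4 1404 3)) (.leaf (.up 5 569 3))))) (.node (.node (.node (.leaf (.up 5 687 1)) (.leaf (.up 4 2033 1))) (.node (.leaf (.up 4 60 4)) (.leaf (.up 2 34 0)))) (.node (.node (.leaf (.up 4 1419 3)) (.leaf (.up 4 989 4))) (.node (.leaf (.up 5 431 1)) (.leaf (.up 3 1465 2))))))) (.node (.node (.node (.node (.node (.leaf (.up 5 1367 3)) (.leaf (.up 5 788 4))) (.node (.leaf (.up 4 1218 0)) (.leaf (.up 5 1975 0)))) (.node (.node (.leaf (.up 5 1692 1)) (.leaf (.up 3 1002 5))) (.node (.leaf (.up 5 1923 5)) (.leaf (.up 3 191 2))))) (.node (.node (.node (.leaf (.up 4 1094 2)) (.leaf (.up 3 1388 5))) (.node (.leaf (.up 6 751 0)) (.leaf (.up 4 410 0)))) (.node (.node (.leaf (.up 3 529 0)) (.leaf (.up 5 1065 3))) (.node (.leaf (.up 5 422 1)) (.leaf (.up 3 1974 2)))))) (.node (.node (.node (.node (.leaf (.up 4 110 3)) (.leaf (.up 5 1835 3))) (.node (.leaf (.up 4 1430 1)) (.leaf (.up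 5 987 5)))) (.node (.node (.leaf (.up 5 1686 1)) (.leaf (.up 4 1120 2))) (.node (.leaf (.up 5 1961 4)) (.leaf (.up 6 664 0))))) (.node (.node (.node (.leaf (.up 4 781 4)) (.leaf (.up 4 2034 1))) (.node (.leaf (.up 6 536 5)) (.leaf (.up 6 189 5)))) (.node (.node (.leaf (.up 5 1621 3)) (.leaf (.up 5 873 2))) (.node (.leaf (.up 4 1642 4)) (.leaf (.up 4 236 4))))))))

noncomputable def vt1_3_0001 : Tr VStep :=
  .node (.node (.node (.node (.node (.node (.node (.leaf (.up 5 1272 2)) (.leaf (.up 5 812 4))) (.node (.leaf (.up 5 1093 5)) (.leaf (.up 6 1584 4)))) (.node (.node (.leaf (.up 5 576 1)) (.leaf (.up 5 1484 5))) (.node (.leaf (.up 5 564 3)) (.leaf (.up 4 1393 3))))) (.node (.node (.node (.leaf (.up 4 1827 3)) (.leaf (.up 4 102 3))) (.node (.leaf (.up 4 1912 1)) (.leaf (.up 5 1414 5)))) (.node (.node (.leaf (.up 5 1128 2)) (.leaf (.up 3 1706 5))) (.node (.leaf (.up 5 495 3)) (.leaf (.up 1 1 2)))))) (.node (.node (.node (.node (.leaf (.up 5 817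 2)) (.leaf (.up 5 817 5))) (.node (.leaf (.up 2 330 1)) (.leaf (.up 5 1880 2)))) (.node (.node (.leaf (.up 5 1192 2)) (.leaf (.up 6 868 3))) (.node (.leaf (.up 5 1805 3)) (.leaf (.up 5 193 2))))) (.node (.node (.node (.leaf (.up 5 821 4)) (.leaf (.up 5 1459 4))) (.node (.leaf (.up 5 1577 4)) (.leaf (.up 4 175 4)))) (.node (.node (.leaf (.up 4 1810 5)) (.leaf (.up 3 191 3))) (.node (.leaf (.up 3 756 0)) (.leaf (.up 5 385 0))))))) (.node (.node (.node (.node (.node (.leaf (.up 5 1439 0)) (.leaf (.up 5 1311 1))) (.node (.leaf (.up 6 635 5)) (.leaf (.up 5 1367 2)))) (.node (.node (.leaf (.up 5 579 1)) (.leaf (.up 5 1010 5))) (.node (.leaf (.up 5 833 1)) (.leaf (.up 4 102 4))))) (.node (.node (.node (.leaf (.up 5 1591 2)) (.leaf (.up 4 1218 4))) (.node (.leaf (.up 5 1915 1)) (.leaf (.up 5 549 1)))) (.node (.node (.leaf (.up 6 430 2)) (.leaf (.up 6 1624 3))) (.node (.leaf (.up 4 1827 4)) (.leaf (.up 4 39 1)))))) (.node (.node (.node (.node (.leaf (.up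 5 75 1)) (.leaf (.up 4 1301 1))) (.node (.leaf (.up 5 358 5)) (.leaf (.up 4 1654 3)))) (.node (.node (.leaf (.up 5 366 2)) (.leaf (.up 5 550 4))) (.node (.leaf (.up 4 843 1)) (.leaf (.up 4 1557 1))))) (.node (.node (.node (.leaf (.up 5 1651 1)) (.leaf (.up 5 1641 5))) (.node (.leaf (.up 6 512 5)) (.leaf (.up 5 559 1)))) (.node (.node (.leaf (.up 2 1693 0)) (.leaf (.up 5 997 4))) (.node (.leaf (.up 4 1393 2)) (.leaf (.up 5 77 3)))))))) (.node (.node (.node (.node (.node (.node (.leaf (.up 4 1107 3)) (.leaf (.up 3 1566 5))) (.node (.leaf (.up 5 631 5)) (.leaf (.up 6 1423 4)))) (.node (.node (.leaf (.up 6 1512 2)) (.leaf (.up 4 899 1))) (.node (.leaf (.up 4 671 3)) (.leaf (.up 5 1330 5))))) (.node (.node (.node (.leaf (.up 2 1928 3)) (.leaf (.up 4 1400 5))) (.node (.leaf (.up 5 997 1)) (.leaf (.up 5 1100 4)))) (.node (.node (.leaf (.up 6 1934 0)) (.leaf (.up 3 152 5))) (.node (.leaf (.up 5 1265 5)) (.leaf (.up 5 1079 4)))))) (.node (.node (.node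 (.node (.leaf (.up 4 362 3)) (.leaf (.up 6 1583 3))) (.node (.leaf (.up 4 362 5)) (.leaf (.up 5 975 5)))) (.node (.node (.leaf (.up 6 1162 3)) (.leaf (.up 5 975 3))) (.node (.leaf (.up 6 1162 5)) (.leaf (.up 4 1799 0))))) (.node (.node (.node (.leaf (.up 5 138 4)) (.leaf (.up 5 468 0))) (.node (.leaf (.up 4 1430 4)) (.leaf (.up 6 784 4)))) (.node (.node (.leaf (.up 5 239 1)) (.leaf (.up 4 1655 4))) (.node (.leaf (.up 6 2028 5)) (.leaf (.up 6 321 2))))))) (.node (.node (.node (.node (.node (.leaf (.up 5 1975 2)) (.leaf (.up 5 32 5))) (.node (.leaf (.up 6 1502 1)) (.leaf (.up 5 1772 5)))) (.node (.node (.leaf (.up 6 1613 0)) (.leaf (.up 5 1733 4))) (.node (.leaf (.up 6 2012 1)) (.leaf (.up 4 1727 0))))) (.node (.node (.node (.leaf (.up 5 483 5)) (.leaf (.up 5 108 0))) (.node (.leaf (.up 5 936 2)) (.leaf (.up 5 63 3)))) (.node (.node (.leaf (.up 6 230 1)) (.leaf (.up 4 1779 3))) (.node (.leaf (.up 6 1180 4)) (.leaf (.up 5 846 2)))))) (.node (.node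 (.node (.node (.leaf (.up 4 126 2)) (.leaf (.up 5 482 4))) (.node (.leaf (.up 5 1876 5)) (.leaf (.up 5 912 0)))) (.node (.node (.leaf (.up 5 1876 3)) (.leaf (.up 3 878 0))) (.node (.leaf (.up 4 2006 1)) (.leaf (.up 3 17 5))))) (.node (.node (.node (.leaf (.up 4 1359 0)) (.leaf (.up 4 1968 1))) (.node (.leaf (.up 5 1736 0)) (.leaf (.up 4 1469 0)))) (.node (.node (.leaf (.up 4 236 1)) (.leaf (.up 5 1458 1))) (.node (.leaf (.up 5 466 5)) (.leaf (.up 4 1200 1))))))))

noncomputable def vt1_3_000 : Tr VStep := .node vt1_3_0000 vt1_3_0001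

noncomputable def vt1_3_0010 : Tr VStep :=
  .node (.node (.node (.node (.node (.node (.node (.leaf (.up 5 504 3)) (.leaf (.up 2 725 1))) (.node (.leaf (.up 5 85 5)) (.leaf (.up 5 1923 0)))) (.node (.node (.leaf (.up 4 1048 3)) (.leaf (.up 4 1045 4))) (.node (.leaf (.up 6 1461 5)) (.leaf (.up 4 113 3))))) (.node (.node (.node (.leaf (.up 4 811 4)) (.leaf (.up 6 1261 1))) (.node (.leaf (.up 4 731 0)) (.leaf (.up 5 1259 2)))) (.node (.node (.leaf (.up 5 549 0)) (.leaf (.up 5 698 5))) (.node (.leaf (.up 5 418 0)) (.leaf (.up 4 1142 5)))))) (.node (.node (.node (.node (.leaf (.up 5 1217 3)) (.leaf (.up 5 818 4))) (.node (.leaf (.up 6 2029 3)) (.leaf (.up 4 989 1)))) (.node (.node (.leaf (.up 5 289 3)) (.leaf (.up 5 705 5))) (.node (.leaf (.up 5 525 3)) (.leaf (.up 5 1621 4))))) (.node (.node (.node (.leaf (.up 4 1802 0)) (.leaf (.up 4 95 3))) (.node (.leaf (.up 3 1117 2)) (.leaf (.up 5 2040 0)))) (.node (.node (.leaf (.up 5 1036 4)) (.leaf (.up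 5 1471 3))) (.node (.leaf (.up 6 272 4)) (.leaf (.up 5 1153 0))))))) (.node (.node (.node (.node (.node (.leaf (.up 2 1928 1)) (.leaf (.up 3 1002 0))) (.node (.leaf (.up 5 1674 1)) (.leaf (.up 4 1230 5)))) (.node (.node (.leaf (.up 4 1214 4)) (.leaf (.up 5 147 0))) (.node (.leaf (.up 5 418 4)) (.leaf (.up 5 943 3))))) (.node (.node (.node (.leaf (.up 4 432 1)) (.leaf (.up 5 1479 0))) (.node (.leaf (.up 5 1618 2)) (.leaf (.up 5 1692 4)))) (.node (.node (.leaf (.up 5 733 2)) (.leaf (.up 4 1019 4))) (.node (.leaf (.up 5 237 5)) (.leaf (.up 3 584 5)))))) (.node (.node (.node (.node (.leaf (.up 4 954 5)) (.leaf (.up 5 1311 4))) (.node (.leaf (.up 5 1075 3)) (.leaf (.up 6 3 4)))) (.node (.node (.leaf (.up 5 541 2)) (.leaf (.up 5 1733 0))) (.node (.leaf (.up 5 150 5)) (.leaf (.up 5 120 4))))) (.node (.node (.node (.leaf (.up 5 1220 3)) (.leaf (.up 5 1522 2))) (.node (.leaf (.up 6 1552 5)) (.leaf (.up 6 173 3)))) (.node (.node (.leaf (.up 5 1300 2))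 (.leaf (.up 5 1766 1))) (.node (.leaf (.up 5 698 1)) (.leaf (.up 5 1357 3)))))))) (.node (.node (.node (.node (.node (.node (.leaf (.up 5 790 1)) (.leaf (.up 5 1661 2))) (.node (.leaf (.up 3 1117 0)) (.leaf (.up 4 1218 5)))) (.node (.node (.leaf (.up 5 300 4)) (.leaf (.up 4 2006 0))) (.node (.leaf (.up 4 1951 3)) (.leaf (.up 5 290 5))))) (.node (.node (.node (.leaf (.up 5 648 3)) (.leaf (.up 5 112 1))) (.node (.leaf (.up 4 1416 4)) (.leaf (.up 4 1956 5)))) (.node (.node (.leaf (.up 5 239 4)) (.leaf (.up 5 1160 5))) (.node (.leaf (.up 5 644 2)) (.leaf (.up 5 885 4)))))) (.node (.node (.node (.node (.leaf (.up 5 1130 3)) (.leaf (.up 5 275 5))) (.node (.leaf (.up 5 542 1)) (.leaf (.up 5 382 0)))) (.node (.node (.leaf (.up 5 286 1)) (.leaf (.up 6 1267 5))) (.node (.leaf (.up 5 876 4)) (.leaf (.up 4 1514 4))))) (.node (.node (.node (.leaf (.up 6 208 5)) (.leaf (.up 4 244 3))) (.node (.leaf (.up 5 1062 0)) (.leaf (.up 5 1451 2)))) (.node (.node (.leaf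 (.up 4 1328 5)) (.leaf (.up 5 1300 3))) (.node (.leaf (.up 5 687 4)) (.leaf (.up 5 1065 4))))))) (.node (.node (.node (.node (.node (.leaf (.up 5 1685 5)) (.leaf (.up 4 1480 3))) (.node (.leaf (.up 4 535 1)) (.leaf (.up 4 764 5)))) (.node (.node (.leaf (.up 5 885 5)) (.leaf (.up 5 464 5))) (.node (.leaf (.up 3 1465 5)) (.leaf (.up 5 1355 1))))) (.node (.node (.node (.leaf (.up 4 1721 4)) (.leaf (.up 3 1388 0))) (.node (.leaf (.up 5 219 2)) (.leaf (.up 4 410 5)))) (.node (.node (.leaf (.up 5 19 5)) (.leaf (.up 4 1557 0))) (.node (.leaf (.up 5 1759 5)) (.leaf (.up 5 61 2)))))) (.node (.node (.node (.node (.leaf (.up 4 1416 5)) (.leaf (.up 5 1696 4))) (.node (.leaf (.up 5 1176 3)) (.leaf (.up 4 989 3)))) (.node (.node (.leaf (.up 5 93 4)) (.leaf (.up 5 717 5))) (.node (.leaf (.up 5 1692 0)) (.leaf (.up 3 1025 5))))) (.node (.node (.node (.leaf (.up 3 485 4)) (.leaf (.up 5 1099 5))) (.node (.leaf (.up 2 34 5)) (.leaf (.up 5 639 4)))) (.node (.node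 (.leaf (.up 5 414 4)) (.leaf (.up 5 1250 2))) (.node (.leaf (.up 6 139 2)) (.leaf (.up 6 1895 5))))))))

noncomputable def vt1_3_0011 : Tr VStep :=
  .node (.node (.node (.node (.node (.node (.node (.leaf (.up 6 1280 0)) (.leaf (.up 4 534 5))) (.node (.leaf (.up 5 1663 5)) (.leaf (.up 5 1242 5)))) (.node (.node (.leaf (.up 6 1363 5)) (.leaf (.up 6 2038 5))) (.node (.leaf (.up 5 549 4)) (.leaf (.up 5 407 1))))) (.node (.node (.node (.leaf (.up 5 1665 4)) (.leaf (.up 4 773 2))) (.node (.leaf (.up 5 981 3)) (.leaf (.up 5 1980 5)))) (.node (.node (.leaf (.up 4 1011 1)) (.leaf (.up 5 1168 5))) (.node (.leaf (.up 6 753 1)) (.leaf (.up 6 1376 4)))))) (.node (.node (.node (.node (.leaf (.up 4 30 4)) (.leaf (.up 4 669 1))) (.node (.leaf (.up 5 1335 3)) (.leaf (.up 5 1991 5)))) (.node (.node (.leaf (.up 4 1019 3)) (.leaf (.up 4 858 0))) (.node (.leaf (.up 5 936 0)) (.leaf (.up 4 551 5))))) (.node (.node (.node (.leaf (.up 6 200 5)) (.leaf (.up 5 1550 0)))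 (.node (.leaf (.up 5 1217 4)) (.leaf (.up 6 1447 1)))) (.node (.node (.leaf (.up 5 1017 1)) (.leaf (.up 4 1399 0))) (.node (.leaf (.up 5 1413 0)) (.leaf (.up 6 572 4))))))) (.node (.node (.node (.node (.node (.leaf (.up 4 1994 1)) (.leaf (.up 5 660 1))) (.node (.leaf (.up 5 1736 1)) (.leaf (.up 5 918 1)))) (.node (.node (.leaf (.up 4 1480 1)) (.leaf (.up 5 150 1))) (.node (.leaf (.up 4 528 0)) (.leaf (.up 5 1796 5))))) (.node (.node (.node (.leaf (.up 6 807 3)) (.leaf (.up 3 1974 0))) (.node (.leaf (.up 5 240 1)) (.leaf (.up 6 822 4)))) (.node (.node (.leaf (.up 5 1735 3)) (.leaf (.up 5 686 5))) (.node (.leaf (.up 5 1735 5)) (.leaf (.up 5 686 3)))))) (.node (.node (.node (.node (.leaf (.up 4 1424 5)) (.leaf (.up 5 670 1))) (.node (.leaf (.up 6 618 2)) (.leaf (.up 4 1301 2)))) (.node (.node (.leaf (.up 5 112 5)) (.leaf (.up 2 725 5))) (.node (.leaf (.up 4 1094 0)) (.leaf (.up 5 1100 3))))) (.node (.node (.node (.leaf (.up 3 1566 3)) (.leaf (.up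 4 1107 5))) (.node (.leaf (.up 3 274 0)) (.leaf (.up 4 671 5)))) (.node (.node (.leaf (.up 5 790 5)) (.leaf (.up 5 665 0))) (.node (.leaf (.up 5 663 4)) (.leaf (.up 5 286 0)))))))) (.node (.node (.node (.node (.node (.node (.leaf (.up 5 1665 5)) (.leaf (.up 4 1060 5))) (.node (.leaf (.up 5 77 5)) (.leaf (.up 5 1369 0)))) (.node (.node (.leaf (.up 5 1641 3)) (.leaf (.up 5 300 3))) (.node (.leaf (.up 4 410 4)) (.leaf (.up 5 1800 5))))) (.node (.node (.node (.leaf (.up 3 1388 1)) (.leaf (.up 5 50 1))) (.node (.leaf (.up 1 1 0)) (.leaf (.up 4 398 5)))) (.node (.node (.leaf (.up 5 1458 3)) (.leaf (.up 5 906 0))) (.node (.leaf (.up 5 89 4)) (.leaf (.up 3 1134 5)))))) (.node (.node (.node (.node (.leaf (.up 5 929 4)) (.leaf (.up 3 501 3))) (.node (.leaf (.up 5 848 5)) (.leaf (.up 3 501 5)))) (.node (.node (.leaf (.up 5 848 3)) (.leaf (.up 2 725 2))) (.node (.leaf (.up 5 1724 2)) (.leaf (.up 4 1045 5))))) (.node (.node (.node (.leaf (.up 5 1488 0)) (.leaf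 (.up 5 581 2))) (.node (.leaf (.up 5 1918 4)) (.leaf (.up 5 258 3)))) (.node (.node (.leaf (.up 5 537 4)) (.leaf (.up 5 570 1))) (.node (.leaf (.up 4 1638 1)) (.leaf (.up 5 1250 3))))))) (.node (.node (.node (.node (.node (.leaf (.up 3 191 5)) (.leaf (.up 4 1810 3))) (.node (.leaf (.up 5 1651 5)) (.leaf (.up 2 330 4)))) (.node (.node (.leaf (.up 6 683 4)) (.leaf (.up 6 585 0))) (.node (.leaf (.up 5 1975 4)) (.leaf (.up 5 462 0))))) (.node (.node (.node (.leaf (.up 4 1391 1)) (.leaf (.up 5 1225 3))) (.node (.leaf (.up 4 1301 5)) (.leaf (.up 4 2021 3)))) (.node (.node (.leaf (.up 5 1809 0)) (.leaf (.up 5 1518 4))) (.node (.leaf (.up 4 954 2)) (.leaf (.up 4 1221 2)))))) (.node (.node (.node (.node (.leaf (.up 6 930 5)) (.leaf (.up 5 263 5))) (.node (.leaf (.up 6 1251 2)) (.leaf (.up 5 263 3)))) (.node (.node (.leaf (.up 5 108 2)) (.leaf (.up 3 1025 1))) (.node (.leaf (.up 5 93 1)) (.leaf (.up 5 1645 4))))) (.node (.node (.node (.leaf (.up 5 1381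 1)) (.leaf (.up 5 1923 2))) (.node (.leaf (.up 3 1002 2)) (.leaf (.up 5 1173 2)))) (.node (.node (.leaf (.up 5 327 0)) (.leaf (.up 5 569 1))) (.node (.leaf (.up 5 704 0)) (.leaf (.up 5 1966 4))))))))

noncomputable def vt1_3_001 : Tr VStep := .node vt1_3_0010 vt1_3_0011

noncomputable def vt1_3_00 : Tr VStep := .node vt1_3_000 vt1_3_001

noncomputable def vt1_3_0100 : Tr VStep :=
  .node (.node (.node (.node (.node (.node (.node (.leaf (.up 5 1975 3)) (.leaf (.up 3 587 0))) (.node (.leaf (.up 6 1562 5)) (.leaf (.up 4 1215 5)))) (.node (.node (.leaf (.up 4 1334 5)) (.leaf (.up 4 1298 3))) (.node (.leaf (.up 6 1018 5)) (.leaf (.up 4 1628 1))))) (.node (.node (.node (.leaf (.up 5 1811 0)) (.leaf (.up 5 277 5))) (.node (.leaf (.up 4 110 4)) (.leaf (.up 6 614 1)))) (.node (.node (.leaf (.up 5 1130 0)) (.leaf (.up 5 358 1))) (.node (.leaf (.up 4 156 5)) (.leaf (.up 5 1176 0)))))) (.node (.node (.node (.node (.leaf (.up 5 971 5)) (.leaf (.up 5 366 5)))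 (.node (.leaf (.up 5 1777 4)) (.leaf (.up 5 1767 3)))) (.node (.node (.leaf (.up 5 918 4)) (.leaf (.up 4 162 2))) (.node (.leaf (.up 5 1674 4)) (.leaf (.up 6 1251 0))))) (.node (.node (.node (.leaf (.up 6 1584 1)) (.leaf (.up 3 878 1))) (.node (.leaf (.up 5 1633 5)) (.leaf (.up 5 1220 5)))) (.node (.node (.leaf (.up 5 1357 5)) (.leaf (.up 5 1008 3))) (.node (.leaf (.up 4 1328 1)) (.leaf (.up 4 110 1))))))) (.node (.node (.node (.node (.node (.leaf (.up 1 1 1)) (.leaf (.up 5 812 3))) (.node (.leaf (.up 3 36 5)) (.leaf (.up 1 0 3)))) (.node (.node (.leaf (.up 4 743 4)) (.leaf (.up 6 1121 4))) (.node (.leaf (.up 6 1476 5)) (.leaf (.up 5 1889 5))))) (.node (.node (.node (.leaf (.up 3 253 0)) (.leaf (.up 4 247 3))) (.node (.leaf (.up 5 1603 4)) (.leaf (.up 5 299 2)))) (.node (.node (.leaf (.up 4 110 5)) (.leaf (.up 5 1444 2))) (.node (.leaf (.up 5 382 3)) (.leaf (.up 6 190 4)))))) (.node (.node (.node (.node (.leaf (.up 5 1525 5)) (.leaf (.up 4 1557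 3))) (.node (.leaf (.up 5 825 5)) (.leaf (.up 5 116 0)))) (.node (.node (.leaf (.up 4 1200 3)) (.leaf (.up 5 1013 3))) (.node (.leaf (.up 4 1948 3)) (.leaf (.up 4 781 0))))) (.node (.node (.node (.leaf (.up 5 1587 1)) (.leaf (.up 4 1078 5))) (.node (.leaf (.up 4 95 5)) (.leaf (.up 5 762 5)))) (.node (.node (.leaf (.up 4 1298 2)) (.leaf (.up 5 367 1))) (.node (.leaf (.up 5 1621 0)) (.leaf (.up 6 109 1)))))))) (.node (.node (.node (.node (.node (.node (.leaf (.up 5 1806 4)) (.leaf (.up 5 89 3))) (.node (.leaf (.up 6 1437 1)) (.leaf (.up 5 885 3)))) (.node (.node (.leaf (.up 2 1693 1)) (.leaf (.up 3 1465 3))) (.node (.leaf (.up 4 1419 2)) (.leaf (.up 3 756 2))))) (.node (.node (.node (.leaf (.up 5 679 1)) (.leaf (.up 5 75 4))) (.node (.leaf (.up 5 846 5)) (.leaf (.up 5 1787 1)))) (.node (.node (.leaf (.up 5 1217 0)) (.leaf (.up 6 48 4))) (.node (.leaf (.up 5 642 2)) (.leaf (.up 4 1273 1)))))) (.node (.node (.node (.node (.leaf (.up 5 549 3)) (.leaf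 (.up 5 1884 5))) (.node (.leaf (.up 5 821 5)) (.leaf (.up 4 968 4)))) (.node (.node (.leaf (.up 6 340 2)) (.leaf (.up 5 700 5))) (.node (.leaf (.up 6 1749 5)) (.leaf (.up 6 1341 2))))) (.node (.node (.node (.leaf (.up 5 401 4)) (.leaf (.up 5 1082 5))) (.node (.leaf (.up 5 1165 4)) (.leaf (.up 5 1777 1)))) (.node (.node (.leaf (.up 4 175 1)) (.leaf (.up 5 290 2))) (.node (.leaf (.up 5 1459 5)) (.leaf (.up 5 1814 5))))))) (.node (.node (.node (.node (.node (.leaf (.up 4 1218 2)) (.leaf (.up 5 639 5))) (.node (.leaf (.up 5 1438 1)) (.leaf (.up 7 1203 5)))) (.node (.node (.leaf (.up 5 290 3)) (.leaf (.up 4 1951 5))) (.node (.leaf (.up 4 1948 1)) (.leaf (.up 5 1355 3))))) (.node (.node (.node (.leaf (.up 5 971 2)) (.leaf (.up 4 1204 2))) (.node (.leaf (.up 5 1392 5)) (.leaf (.up 5 164 0)))) (.node (.node (.leaf (.up 4 1628 5)) (.leaf (.up 4 1273 5))) (.node (.leaf (.up 5 469 3)) (.leaf (.up 4 989 0)))))) (.node (.node (.node (.node (.leaf (.up 5 1663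 4)) (.leaf (.up 5 456 1))) (.node (.leaf (.up 5 1291 5)) (.leaf (.up 5 202 1)))) (.node (.node (.leaf (.up 5 1684 1)) (.leaf (.up 5 862 3))) (.node (.leaf (.up 5 792 4)) (.leaf (.up 5 1438 4))))) (.node (.node (.node (.leaf (.up 4 544 3)) (.leaf (.up 5 1381 3))) (.node (.leaf (.up 5 1645 5)) (.leaf (.up 5 1609 3)))) (.node (.node (.leaf (.up 5 1345 5)) (.leaf (.up 4 133 3))) (.node (.leaf (.up 4 731 4)) (.leaf (.up 3 1117 4))))))))

noncomputable def vt1_3_0101 : Tr VStep :=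
  .node (.node (.node (.node (.node (.node (.node (.leaf (.up 5 885 2)) (.leaf (.up 5 1113 5))) (.node (.leaf (.up 6 322 1)) (.leaf (.up 5 1052 1)))) (.node (.node (.leaf (.up 5 352 4)) (.leaf (.up 5 441 5))) (.node (.leaf (.up 5 929 3)) (.leaf (.up 3 1566 1))))) (.node (.node (.node (.leaf (.up 4 1434 5)) (.leaf (.up 5 499 3))) (.node (.leaf (.up 4 1434 3)) (.leaf (.up 4 1424 0)))) (.node (.node (.leaf (.up 5 997 2)) (.leaf (.up 5 292 1))) (.node (.leaf (.up 4 1400 1)) (.leaf (.up 5 825 4)))))) (.node (.node (.node (.node (.leaf (.up 6 1305 0)) (.leaf (.up 5 193 4))) (.node (.leaf (.up 5 888 3)) (.leaf (.up 6 1046 1)))) (.node (.node (.leaf (.up 1 1 5)) (.leaf (.up 4 1114 2))) (.node (.leaf (.up 5 51 2)) (.leaf (.up 5 1556 1))))) (.node (.node (.node (.leaf (.up 4 820 0)) (.leaf (.up 5 812 1))) (.node (.leaf (.up 5 75 5)) (.leaf (.up 6 2012 2)))) (.node (.node (.leaf (.up 5 77 0)) (.leaf (.up 6 302 1))) (.node (.leaf (.up 5 1451 5)) (.leaf (.up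 3 191 0))))))) (.node (.node (.node (.node (.node (.leaf (.up 6 67 1)) (.leaf (.up 4 432 4))) (.node (.leaf (.up 5 1439 3)) (.leaf (.up 4 1107 0)))) (.node (.node (.leaf (.up 6 851 3)) (.leaf (.up 5 1621 2))) (.node (.leaf (.up 5 1006 5)) (.leaf (.up 5 1347 2))))) (.node (.node (.node (.leaf (.up 5 1781 4)) (.leaf (.up 3 805 1))) (.node (.leaf (.up 5 1604 3)) (.leaf (.up 2 1491 2)))) (.node (.node (.leaf (.up 3 501 0)) (.leaf (.up 6 640 0))) (.node (.leaf (.up 5 136 5)) (.leaf (.up 5 263 0)))))) (.node (.node (.node (.node (.leaf (.up 5 906 3)) (.leaf (.up 4 1541 2))) (.node (.leaf (.up 5 1299 5)) (.leaf (.up 3 1974 5)))) (.node (.node (.leaf (.up 3 587 1)) (.leaf (.up 6 1178 5))) (.node (.leaf (.up 5 521 0)) (.leaf (.up 5 650 2))))) (.node (.node (.node (.leaf (.up 5 1242 0)) (.leaf (.up 5 1839 4))) (.node (.leaf (.up 5 1381 2)) (.leaf (.up 5 1232 5)))) (.node (.node (.leaf (.up 5 1369 5)) (.leaf (.up 3 756 3))) (.node (.leaf (.up 2 1693 3))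 (.leaf (.up 3 584 4)))))))) (.node (.node (.node (.node (.node (.node (.leaf (.up 4 206 5)) (.leaf (.up 6 1058 4))) (.node (.leaf (.up 5 1538 5)) (.leaf (.up 5 790 0)))) (.node (.node (.leaf (.up 5 1759 1)) (.leaf (.up 5 1113 4))) (.node (.leaf (.up 6 1987 4)) (.leaf (.up 5 327 5))))) (.node (.node (.node (.leaf (.up 5 936 5)) (.leaf (.up 5 1724 0))) (.node (.leaf (.up 5 483 2)) (.leaf (.up 3 253 4)))) (.node (.node (.leaf (.up 3 1388 2)) (.leaf (.up 3 1465 1))) (.node (.leaf (.up 3 485 1)) (.leaf (.up 6 545 5)))))) (.node (.node (.node (.node (.leaf (.up 5 1458 0)) (.leaf (.up 3 894 4))) (.node (.leaf (.up 5 1311 5)) (.leaf (.up 4 1628 2)))) (.node (.node (.leaf (.up 5 1311 3)) (.leaf (.up 4 773 4))) (.node (.leaf (.up 3 2007 1)) (.leaf (.up 5 374 3))))) (.node (.node (.node (.leaf (.up 5 181 5)) (.leaf (.up 4 528 5))) (.node (.leaf (.up 5 1005 1)) (.leaf (.up 6 877 0)))) (.node (.node (.leaf (.up 5 237 1)) (.leaf (.up 5 385 3))) (.node (.leaf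 (.up 5 495 1)) (.leaf (.up 6 1201 1))))))) (.node (.node (.node (.node (.node (.leaf (.up 5 1161 4)) (.leaf (.up 4 1109 5))) (.node (.leaf (.up 4 60 5)) (.leaf (.up 4 1107 2)))) (.node (.node (.leaf (.up 6 784 5)) (.leaf (.up 5 898 1))) (.node (.leaf (.up 5 2014 1)) (.leaf (.up 5 1921 0))))) (.node (.node (.node (.leaf (.up 4 551 0)) (.leaf (.up 5 76 2))) (.node (.leaf (.up 4 1061 2)) (.leaf (.up 2 725 0)))) (.node (.node (.leaf (.up 5 350 0)) (.leaf (.up 6 723 5))) (.node (.leaf (.up 3 1722 5)) (.leaf (.up 5 1055 5)))))) (.node (.node (.node (.node (.leaf (.up 5 1236 1)) (.leaf (.up 6 1363 4))) (.node (.leaf (.up 5 13 3)) (.leaf (.up 4 922 2)))) (.node (.node (.leaf (.up 5 13 5)) (.leaf (.up 5 592 0))) (.node (.leaf (.up 5 1729 5)) (.leaf (.up 5 650 1))))) (.node (.node (.node (.leaf (.up 3 1137 0)) (.leaf (.up 5 1168 4))) (.node (.leaf (.up 4 1802 4)) (.leaf (.up 5 738 5)))) (.node (.node (.leaf (.up 5 238 1)) (.leaf (.up 5 1259 4))) (.node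 (.leaf (.up 5 1141 2)) (.leaf (.up 5 1794 5))))))))

noncomputable def vt1_3_010 : Tr VStep := .node vt1_3_0100 vt1_3_0101

noncomputable def vt1_3_0110 : Tr VStep :=
  .node (.node (.node (.node (.node (.node (.node (.leaf (.up 4 1929 1)) (.leaf (.up 5 1832 3))) (.node (.leaf (.up 4 1480 0)) (.leaf (.up 3 1028 3)))) (.node (.node (.leaf (.up 2 1570 4)) (.leaf (.up 5 164 4))) (.node (.leaf (.up 5 1161 1)) (.leaf (.up 5 1464 4))))) (.node (.node (.node (.leaf (.up 6 394 5)) (.leaf (.up 5 112 2))) (.node (.leaf (.up 5 997 0)) (.leaf (.up 5 1024 4)))) (.node (.node (.leaf (.up 5 150 2)) (.leaf (.up 4 110 0))) (.node (.leaf (.up 4 156 0)) (.leaf (.up 6 2031 1)))))) (.node (.node (.node (.node (.leaf (.up 5 1923 1)) (.leaf (.up 3 529 3))) (.node (.leaf (.up 5 1665 1)) (.leaf (.up 4 671 4)))) (.node (.node (.leaf (.up 5 382 4)) (.leaf (.up 4 2033 3))) (.node (.leaf (.up 5 733 5)) (.leaf (.up 5 120 5))))) (.node (.node (.node (.leaf (.up 5 1679 3))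 (.leaf (.up 5 50 5))) (.node (.leaf (.up 5 1459 0)) (.leaf (.up 6 1199 2)))) (.node (.node (.leaf (.up 5 1357 0)) (.leaf (.up 5 32 2))) (.node (.leaf (.up 5 1441 4)) (.leaf (.up 4 2021 1))))))) (.node (.node (.node (.node (.node (.leaf (.up 5 116 4)) (.leaf (.up 4 1655 5))) (.node (.leaf (.up 4 159 3)) (.leaf (.up 4 982 1)))) (.node (.node (.leaf (.up 4 1416 1)) (.leaf (.up 6 919 5))) (.node (.leaf (.up 5 1299 4)) (.leaf (.up 5 570 3))))) (.node (.node (.node (.leaf (.up 5 434 1)) (.leaf (.up 4 1273 0))) (.node (.leaf (.up 5 176 1)) (.leaf (.up 3 1025 3)))) (.node (.node (.leaf (.up 4 1416 3)) (.leaf (.up 5 1920 0))) (.node (.leaf (.up 5 1176 5)) (.leaf (.up 5 1597 5)))))) (.node (.node (.node (.node (.leaf (.up 3 2039 0)) (.leaf (.up 6 463 3))) (.node (.leaf (.up 5 259 5)) (.leaf (.up 3 1632 2)))) (.node (.node (.leaf (.up 4 1424 2)) (.leaf (.up 5 138 5))) (.node (.leaf (.up 6 1251 5)) (.leaf (.up 5 1606 5))))) (.node (.node (.node (.leaf (.up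 5 1193 5)) (.leaf (.up 4 532 3))) (.node (.leaf (.up 5 605 0)) (.leaf (.up 4 1393 4)))) (.node (.node (.leaf (.up 4 954 1)) (.leaf (.up 6 22 4))) (.node (.leaf (.up 5 399 2)) (.leaf (.up 6 1290 4)))))))) (.node (.node (.node (.node (.node (.node (.leaf (.up 5 788 1)) (.leaf (.up 5 1923 3))) (.node (.leaf (.up 3 1002 3)) (.leaf (.up 5 183 5)))) (.node (.node (.leaf (.up 6 1437 0)) (.leaf (.up 5 1641 2))) (.node (.leaf (.up 4 2034 5)) (.leaf (.up 4 1391 0))))) (.node (.node (.node (.leaf (.up 4 1061 4)) (.leaf (.up 5 956 0))) (.node (.leaf (.up 5 846 0)) (.leaf (.up 4 1908 3)))) (.node (.node (.leaf (.up 5 600 5)) (.leaf (.up 3 253 5))) (.node (.leaf (.up 4 55 0)) (.leaf (.up 5 660 3)))))) (.node (.node (.node (.node (.leaf (.up 5 698 4)) (.leaf (.up 5 698 3))) (.node (.leaf (.up 5 821 0)) (.leaf (.up 6 406 3)))) (.node (.node (.leaf (.up 5 1759 2)) (.leaf (.up 6 1095 4))) (.node (.leaf (.up 4 30 1)) (.leaf (.up 4 1142 3))))) (.node (.node (.node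 (.leaf (.up 5 1572 3)) (.leaf (.up 4 1536 5))) (.node (.leaf (.up 4 1060 1)) (.leaf (.up 4 589 3)))) (.node (.node (.leaf (.up 6 1828 1)) (.leaf (.up 5 1153 3))) (.node (.leaf (.up 3 1566 4)) (.leaf (.up 3 152 4))))))) (.node (.node (.node (.node (.node (.leaf (.up 5 792 3)) (.leaf (.up 3 1117 3))) (.node (.leaf (.up 4 95 2)) (.leaf (.up 5 504 0)))) (.node (.node (.leaf (.up 5 1232 2)) (.leaf (.up 3 262 0))) (.node (.leaf (.up 5 1990 2)) (.leaf (.up 5 873 5))))) (.node (.node (.node (.leaf (.up 6 1831 0)) (.leaf (.up 4 113 1))) (.node (.leaf (.up 5 1878 2)) (.leaf (.up 4 1194 3)))) (.node (.node (.leaf (.up 5 627 4)) (.leaf (.up 5 1835 0))) (.node (.leaf (.up 6 1551 3)) (.leaf (.up 2 330 3)))))) (.node (.node (.node (.node (.leaf (.up 5 1884 0)) (.leaf (.up 3 529 4))) (.node (.leaf (.up 6 1841 5)) (.leaf (.up 3 584 3)))) (.node (.node (.leaf (.up 4 1061 0)) (.leaf (.up 6 618 4))) (.node (.leaf (.up 5 237 3)) (.leaf (.up 5 116 5))))) (.node (.node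 (.node (.leaf (.up 6 1317 1)) (.leaf (.up 6 703 3))) (.node (.leaf (.up 4 159 2)) (.leaf (.up 5 1742 4)))) (.node (.node (.leaf (.up 5 1915 5)) (.leaf (.up 5 937 4))) (.node (.leaf (.up 5 399 0)) (.leaf (.up 5 786 5))))))))

noncomputable def vt1_3_0111 : Tr VStep :=
  .node (.node (.node (.node (.node (.node (.node (.leaf (.up 4 1011 4)) (.leaf (.up 5 1522 3))) (.node (.leaf (.up 6 1977 0)) (.leaf (.up 4 175 5)))) (.node (.node (.leaf (.up 5 294 5)) (.leaf (.up 4 899 5))) (.node (.leaf (.up 4 2026 5)) (.leaf (.up 4 1359 5))))) (.node (.node (.node (.leaf (.up 4 1952 5)) (.leaf (.up 5 1160 2))) (.node (.leaf (.up 5 576 3)) (.leaf (.up 4 426 4)))) (.node (.node (.leaf (.up 3 1134 2)) (.leaf (.up 6 785 2))) (.node (.leaf (.up 4 1912 2)) (.leaf (.up 5 1577 5)))))) (.node (.node (.node (.node (.leaf (.up 6 1199 4)) (.leaf (.up 4 671 1))) (.node (.leaf (.up 5 495 0)) (.leaf (.up 6 999 3)))) (.node (.node (.leaf (.up 5 1236 4)) (.leaf (.up 6 594 4)))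 (.node (.leaf (.up 4 1271 5)) (.leaf (.up 5 1618 5))))) (.node (.node (.node (.leaf (.up 3 1388 4)) (.leaf (.up 3 1002 4))) (.node (.leaf (.up 5 1986 0)) (.leaf (.up 4 60 3)))) (.node (.node (.leaf (.up 4 1019 1)) (.leaf (.up 6 1701 1))) (.node (.leaf (.up 5 665 3)) (.leaf (.up 5 1677 4))))))) (.node (.node (.node (.node (.node (.leaf (.up 6 1502 4)) (.leaf (.up 5 93 5))) (.node (.leaf (.up 5 1076 5)) (.leaf (.up 5 1604 4)))) (.node (.node (.leaf (.up 5 1161 3)) (.leaf (.up 4 1469 5))) (.node (.leaf (.up 5 468 5)) (.leaf (.up 4 881 5))))) (.node (.node (.node (.leaf (.up 5 414 5)) (.leaf (.up 6 334 2))) (.node (.leaf (.up 4 257 4)) (.leaf (.up 5 600 2)))) (.node (.node (.leaf (.up 5 1010 1)) (.leaf (.up 6 23 3))) (.node (.leaf (.up 5 1150 3)) (.leaf (.up 4 1654 0)))))) (.node (.node (.node (.node (.leaf (.up 3 485 5)) (.leaf (.up 2 668 1))) (.node (.leaf (.up 5 1833 5)) (.leaf (.up 5 926 1)))) (.node (.node (.leaf (.up 4 432 3)) (.leaf (.up 5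 1781 3))) (.node (.leaf (.up 2 668 3)) (.leaf (.up 5 108 5))))) (.node (.node (.node (.leaf (.up 4 939 0)) (.leaf (.up 4 206 3))) (.node (.leaf (.up 5 44 0)) (.leaf (.up 4 857 0)))) (.node (.node (.leaf (.up 5 1891 5)) (.leaf (.up 4 1702 1))) (.node (.leaf (.up 4 1399 2)) (.leaf (.up 4 1956 1)))))))) (.node (.node (.node (.node (.node (.node (.leaf (.up 3 756 5)) (.leaf (.up 5 1369 3))) (.node (.leaf (.up 4 1810 0)) (.leaf (.up 2 1693 5)))) (.node (.node (.leaf (.up 4 55 4)) (.leaf (.up 6 1457 5))) (.node (.leaf (.up 5 1131 0)) (.leaf (.up 6 917 3))))) (.node (.node (.node (.leaf (.up 5 399 4)) (.leaf (.up 6 48 1))) (.node (.leaf (.up 4 747 3)) (.leaf (.up 6 306 1)))) (.node (.node (.leaf (.up 4 743 2)) (.leaf (.up 4 1432 2))) (.node (.leaf (.up 4 1803 3)) (.leaf (.up 5 1678 2)))))) (.node (.node (.node (.node (.leaf (.up 4 489 5)) (.leaf (.up 5 705 2))) (.node (.leaf (.up 6 324 0)) (.leaf (.up 6 1162 4)))) (.node (.node (.leaf (.up 4 551 2))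 (.leaf (.up 5 1024 1))) (.node (.leaf (.up 4 489 3)) (.leaf (.up 5 1265 4))))) (.node (.node (.node (.leaf (.up 4 695 2)) (.leaf (.up 4 1480 2))) (.node (.leaf (.up 5 975 4)) (.leaf (.up 5 1052 0)))) (.node (.node (.leaf (.up 5 286 3)) (.leaf (.up 5 1250 0))) (.node (.leaf (.up 6 948 4)) (.leaf (.up 4 1399 3))))))) (.node (.node (.node (.node (.node (.leaf (.up 5 891 0)) (.leaf (.up 4 206 2))) (.node (.leaf (.up 5 518 5)) (.leaf (.up 5 1451 3)))) (.node (.node (.leaf (.up 6 1562 4)) (.leaf (.up 4 156 4))) (.node (.leaf (.up 5 1806 3)) (.leaf (.up 5 1291 1))))) (.node (.node (.node (.leaf (.up 5 537 3)) (.leaf (.up 3 1372 3))) (.node (.leaf (.up 5 352 5)) (.leaf (.up 5 1444 0)))) (.node (.node (.leaf (.up 6 588 5)) (.leaf (.up 5 1370 0))) (.node (.leaf (.up 5 1645 1)) (.leaf (.up 5 912 3)))))) (.node (.node (.node (.node (.leaf (.up 3 2007 5)) (.leaf (.up 4 1799 2))) (.node (.leaf (.up 3 878 2)) (.leaf (.up 5 679 4)))) (.node (.node (.leaf (.up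 4 567 5)) (.leaf (.up 6 1313 0))) (.node (.leaf (.up 2 1491 0)) (.leaf (.up 4 1702 0))))) (.node (.node (.node (.leaf (.up 5 1383 1)) (.leaf (.up 5 1556 5))) (.node (.leaf (.up 4 1127 2)) (.leaf (.up 5 1010 0)))) (.node (.node (.leaf (.up 4 133 4)) (.leaf (.up 5 1413 3))) (.node (.leaf (.up 4 1639 1)) (.leaf (.up 5 1153 2))))))))

noncomputable def vt1_3_011 : Tr VStep := .node vt1_3_0110 vt1_3_0111

noncomputable def vt1_3_01 : Tr VStep := .node vt1_3_010 vt1_3_011

noncomputable def vt1_3_0 : Tr VStep := .node vt1_3_00 vt1_3_01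

noncomputable def vt1_3_1000 : Tr VStep :=
  .node (.node (.node (.node (.node (.node (.node (.leaf (.root 216)) (.leaf (.up 2 1928 5))) (.node (.leaf (.up 6 993 5)) (.leaf (.up 5 1150 1)))) (.node (.node (.leaf (.up 3 485 0)) (.leaf (.up 5 1918 1))) (.node (.leaf (.up 5 1970 4)) (.leaf (.up 5 1265 3))))) (.node (.node (.node (.leaf (.up 5 790 4)) (.leaf (.up 4 1424 4))) (.node (.leaf (.up 5 135 5)) (.leaf (.up 4 546 5)))) (.node (.node (.leaf (.up 4 939 5)) (.leaf (.up 6 1213 0))) (.node (.leaf (.up 5 1383 5)) (.leaf (.up 4 247 4)))))) (.node (.node (.node (.node (.leaf (.up 6 1226 0)) (.leaf (.up 5 1173 5))) (.node (.leaf (.up 5 855 2)) (.leaf (.up 5 1555 4)))) (.node (.node (.leaf (.up 5 1441 3)) (.leaf (.up 4 1908 1))) (.node (.leaf (.up 4 1230 2)) (.leaf (.up 4 1654 1))))) (.node (.node (.node (.leaf (.up 4 922 3)) (.leaf (.up 4 55 2))) (.node (.leaf (.up 4 922 5)) (.leaf (.up 4 2000 4)))) (.node (.node (.leaf (.up 5 1658 3)) (.leaf (.up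 4 747 0))) (.node (.leaf (.up 5 1658 5)) (.leaf (.up 5 531 3))))))) (.node (.node (.node (.node (.node (.leaf (.up 4 1702 3)) (.leaf (.up 4 638 4))) (.node (.leaf (.up 5 1781 0)) (.leaf (.up 5 1890 4)))) (.node (.node (.leaf (.up 4 1779 5)) (.leaf (.up 5 517 4))) (.node (.leaf (.up 5 415 4)) (.leaf (.up 5 1663 1))))) (.node (.node (.node (.leaf (.up 4 1351 2)) (.leaf (.up 5 720 5))) (.node (.leaf (.up 4 1721 5)) (.leaf (.up 5 581 1)))) (.node (.node (.leaf (.up 5 1429 5)) (.leaf (.up 4 1840 5))) (.node (.leaf (.up 4 857 5)) (.leaf (.up 6 1268 3)))))) (.node (.node (.node (.node (.leaf (.up 5 14 5)) (.leaf (.up 5 1242 3))) (.node (.leaf (.up 6 1730 5)) (.leaf (.up 4 1127 5)))) (.node (.node (.leaf (.up 5 1663 3)) (.leaf (.up 5 1369 4))) (.node (.leaf (.up 4 811 1)) (.leaf (.up 4 175 0))))) (.node (.node (.node (.leaf (.up 5 872 5)) (.leaf (.up 6 1660 0))) (.node (.leaf (.up 5 1915 4)) (.leaf (.up 5 1767 2)))) (.node (.node (.leaf (.up 5 1444 3))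 (.leaf (.up 6 1178 4))) (.node (.leaf (.up 5 1299 1)) (.leaf (.up 5 382 2)))))))) (.node (.node (.node (.node (.node (.node (.leaf (.up 2 1491 3)) (.leaf (.up 6 662 3))) (.node (.leaf (.up 2 1491 5)) (.leaf (.up 6 227 1)))) (.node (.node (.leaf (.up 5 1725 1)) (.leaf (.up 4 1114 5))) (.node (.leaf (.up 5 51 5)) (.leaf (.up 4 1114 3))))) (.node (.node (.node (.leaf (.up 6 647 1)) (.leaf (.up 5 375 2))) (.node (.leaf (.up 6 1461 4)) (.leaf (.up 6 1256 0)))) (.node (.node (.leaf (.up 4 133 1)) (.leaf (.up 5 1774 2))) (.node (.leaf (.up 5 196 3)) (.leaf (.up 5 1921 3)))))) (.node (.node (.node (.node (.leaf (.up 5 1736 2)) (.leaf (.up 5 679 5))) (.node (.leaf (.up 5 1742 5)) (.leaf (.up 5 1131 5)))) (.node (.node (.leaf (.up 6 1613 4)) (.leaf (.up 6 591 3))) (.node (.leaf (.up 5 1574 3)) (.leaf (.up 4 747 1))))) (.node (.node (.node (.leaf (.up 5 817 3)) (.leaf (.up 6 449 5))) (.node (.leaf (.up 5 727 2)) (.leaf (.up 5 1135 4)))) (.node (.node (.leaf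 (.up 6 1934 4)) (.leaf (.up 5 1057 5))) (.node (.leaf (.up 6 658 4)) (.leaf (.up 5 749 5))))))) (.node (.node (.node (.node (.node (.leaf (.up 6 1313 5)) (.leaf (.up 5 482 1))) (.node (.leaf (.up 5 1005 5)) (.leaf (.up 6 328 5)))) (.node (.node (.leaf (.up 5 193 5)) (.leaf (.up 5 1192 3))) (.node (.leaf (.up 4 544 4)) (.leaf (.up 5 1192 5))))) (.node (.node (.node (.leaf (.up 5 644 1)) (.leaf (.up 5 1250 5))) (.node (.leaf (.up 5 115 0)) (.leaf (.up 6 774 0)))) (.node (.node (.leaf (.up 5 935 5)) (.leaf (.up 5 258 5))) (.node (.leaf (.up 5 1857 2)) (.leaf (.up 5 1242 1)))))) (.node (.node (.node (.node (.leaf (.up 3 1596 5)) (.leaf (.up 2 1693 4))) (.node (.leaf (.up 5 1287 4)) (.leaf (.up 6 234 1)))) (.node (.node (.leaf (.up 5 1716 1)) (.leaf (.up 3 1002 1))) (.node (.leaf (.up 3 1974 1)) (.leaf (.up 5 701 3))))) (.node (.node (.node (.leaf (.up 5 1370 5)) (.leaf (.up 4 2000 1))) (.node (.leaf (.up 5 918 5)) (.leaf (.up 4 110 2)))) (.node (.node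 (.leaf (.up 5 186 5)) (.leaf (.up 6 1490 1))) (.node (.leaf (.up 3 1372 0)) (.leaf (.up 3 2039 2))))))))

noncomputable def vt1_3_1001 : Tr VStep :=
  .node (.node (.node (.node (.node (.node (.node (.leaf (.up 5 237 0)) (.leaf (.up 5 418 5))) (.node (.leaf (.up 4 102 2)) (.leaf (.up 5 971 3)))) (.node (.node (.leaf (.up 5 1767 5)) (.leaf (.up 5 918 2))) (.node (.leaf (.up 5 366 3)) (.leaf (.up 6 654 5))))) (.node (.node (.node (.leaf (.up 5 1724 4)) (.leaf (.up 4 708 5))) (.node (.leaf (.up 4 1351 0)) (.leaf (.up 6 1032 5)))) (.node (.node (.leaf (.up 3 1465 0)) (.leaf (.up 5 260 1))) (.node (.leaf (.up 5 987 4)) (.leaf (.up 3 488 5)))))) (.node (.node (.node (.node (.leaf (.up 5 26 5)) (.leaf (.up 6 1502 3))) (.node (.leaf (.up 5 1750 5)) (.leaf (.up 4 1078 1)))) (.node (.node (.leaf (.up 5 88 4)) (.leaf (.up 6 1846 1))) (.node (.leaf (.up 6 1348 4)) (.leaf (.up 4 1328 0))))) (.node (.node (.node (.leaf (.up 5 480 4)) (.leaf (.up 4 1541 3)))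 (.node (.leaf (.up 6 1456 5)) (.leaf (.up 5 100 0)))) (.node (.node (.leaf (.up 5 1692 5)) (.leaf (.up 5 997 3))) (.node (.leaf (.up 6 1159 4)) (.leaf (.up 6 201 3))))))) (.node (.node (.node (.node (.node (.leaf (.up 5 1337 5)) (.leaf (.up 4 1948 5))) (.node (.leaf (.up 5 1102 4)) (.leaf (.up 4 2033 0)))) (.node (.node (.leaf (.up 6 412 3)) (.leaf (.up 6 1967 4))) (.node (.leaf (.up 4 1557 5)) (.leaf (.up 4 1200 5))))) (.node (.node (.node (.leaf (.up 6 302 0)) (.leaf (.up 4 773 1))) (.node (.leaf (.up 4 1421 4)) (.leaf (.up 5 566 5)))) (.node (.node (.leaf (.up 5 1113 1)) (.leaf (.up 5 263 1))) (.node (.leaf (.up 4 1328 2)) (.leaf (.up 4 2006 5)))))) (.node (.node (.node (.node (.leaf (.up 5 1550 4)) (.leaf (.up 4 544 0))) (.node (.leaf (.up 5 363 1)) (.leaf (.up 4 589 5)))) (.node (.node (.leaf (.up 5 1766 2)) (.leaf (.up 5 409 2))) (.node (.leaf (.up 4 1929 3)) (.leaf (.up 5 1591 1))))) (.node (.node (.node (.leaf (.up 4 1912 0)) (.leaf (.up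 5 1499 3))) (.node (.leaf (.up 5 910 5)) (.leaf (.up 5 525 1)))) (.node (.node (.leaf (.up 3 1025 0)) (.leaf (.up 4 1908 0))) (.node (.leaf (.up 6 761 2)) (.leaf (.up 5 1414 2)))))))) (.node (.node (.node (.node (.node (.node (.leaf (.up 5 1529 2)) (.leaf (.up 5 76 3))) (.node (.leaf (.up 4 1061 3)) (.leaf (.up 5 180 0)))) (.node (.node (.leaf (.up 6 213 5)) (.leaf (.up 5 929 1))) (.node (.leaf (.up 5 374 2)) (.leaf (.up 6 1664 3))))) (.node (.node (.node (.leaf (.up 5 1619 5)) (.leaf (.up 5 1947 1))) (.node (.leaf (.up 4 159 5)) (.leaf (.up 5 187 3)))) (.node (.node (.leaf (.up 4 1400 4)) (.leaf (.up 4 1639 0))) (.node (.leaf (.up 5 1663 2)) (.leaf (.up 6 1371 3)))))) (.node (.node (.node (.node (.leaf (.up 4 1271 1)) (.leaf (.up 4 1359 2))) (.node (.leaf (.up 5 1525 1)) (.leaf (.up 5 6 4)))) (.node (.node (.leaf (.up 4 968 5)) (.leaf (.up 4 939 1))) (.node (.leaf (.up 3 2039 1)) (.leaf (.up 5 681 1))))) (.node (.node (.node (.leaf (.up 5 61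 0)) (.leaf (.up 6 2027 5))) (.node (.leaf (.up 4 954 0)) (.leaf (.up 6 336 2)))) (.node (.node (.leaf (.up 5 205 1)) (.leaf (.up 5 846 3))) (.node (.leaf (.up 5 1848 4)) (.leaf (.up 6 98 3))))))) (.node (.node (.node (.node (.node (.leaf (.up 5 1960 0)) (.leaf (.up 5 1131 4))) (.node (.leaf (.up 4 2033 4)) (.leaf (.up 4 162 1)))) (.node (.node (.leaf (.up 6 662 4)) (.leaf (.up 4 1956 0))) (.node (.leaf (.up 4 39 5)) (.leaf (.up 5 642 5))))) (.node (.node (.node (.leaf (.up 6 109 5)) (.leaf (.up 6 712 5))) (.node (.leaf (.up 6 1697 5)) (.leaf (.up 3 1028 5)))) (.node (.node (.leaf (.up 4 1421 5)) (.leaf (.up 2 1491 4))) (.node (.leaf (.up 5 1609 4)) (.leaf (.up 5 1176 1)))))) (.node (.node (.node (.node (.leaf (.up 5 510 0)) (.leaf (.up 4 426 1))) (.node (.leaf (.up 6 173 4)) (.leaf (.up 6 1151 5)))) (.node (.node (.leaf (.up 5 111 2)) (.leaf (.up 4 843 3))) (.node (.leaf (.up 6 826 5)) (.leaf (.up 5 415 5))))) (.node (.node (.node (.leaf (.up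 6 716 1)) (.leaf (.up 3 756 4))) (.node (.leaf (.up 5 366 4)) (.leaf (.up 4 1628 3)))) (.node (.node (.leaf (.up 4 206 1)) (.leaf (.up 4 1424 1))) (.node (.leaf (.up 4 1273 3)) (.leaf (.up 5 956 3))))))))

noncomputable def vt1_3_100 : Tr VStep := .node vt1_3_1000 vt1_3_1001

noncomputable def vt1_3_1010 : Tr VStep :=
  .node (.node (.node (.node (.node (.node (.node (.leaf (.up 5 1961 1)) (.leaf (.up 5 1458 5))) (.node (.leaf (.up 4 398 3)) (.leaf (.up 3 894 5)))) (.node (.node (.leaf (.up 5 759 5)) (.leaf (.up 6 1728 4))) (.node (.leaf (.up 3 1134 3)) (.leaf (.up 4 1638 0))))) (.node (.node (.node (.leaf (.up 3 1137 5)) (.leaf (.up 3 1596 3))) (.node (.leaf (.up 5 1250 4)) (.leaf (.up 5 818 0)))) (.node (.node (.leaf (.up 5 401 5)) (.leaf (.up 4 820 5))) (.node (.leaf (.up 6 1885 5)) (.leaf (.up 5 75 0)))))) (.node (.node (.node (.node (.leaf (.up 4 1994 2)) (.leaf (.up 4 206 0))) (.node (.leaf (.up 4 60 0)) (.leaf (.up 5 1010 3)))) (.node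 (.node (.leaf (.up 5 1441 1)) (.leaf (.up 5 1342 3))) (.node (.leaf (.up 5 518 4)) (.leaf (.up 5 1082 2))))) (.node (.node (.node (.leaf (.up 4 1430 0)) (.leaf (.up 3 36 4))) (.node (.leaf (.up 5 981 2)) (.leaf (.up 4 773 5)))) (.node (.node (.leaf (.up 6 921 1)) (.leaf (.up 4 95 4))) (.node (.leaf (.up 5 1100 2)) (.leaf (.up 5 1347 4))))))) (.node (.node (.node (.node (.node (.leaf (.up 5 1477 2)) (.leaf (.up 3 756 1))) (.node (.leaf (.up 4 2021 5)) (.leaf (.up 4 1301 3)))) (.node (.node (.leaf (.up 5 1225 5)) (.leaf (.up 5 237 4))) (.node (.leaf (.up 2 330 2)) (.leaf (.up 6 500 1))))) (.node (.node (.node (.leaf (.up 5 679 3)) (.leaf (.up 5 1459 2))) (.node (.leaf (.up 5 1961 0)) (.leaf (.up 5 1742 3)))) (.node (.node (.leaf (.up 5 912 1)) (.leaf (.up 5 1742 1))) (.node (.leaf (.up 5 1131 3)) (.leaf (.up 6 1074 4)))))) (.node (.node (.node (.node (.leaf (.up 4 1109 0)) (.leaf (.up 4 1994 4))) (.node (.leaf (.up 5 1104 4)) (.leaf (.up 5 44 3))))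 (.node (.node (.leaf (.up 5 1429 2)) (.leaf (.up 4 1393 5))) (.node (.leaf (.up 5 649 3)) (.leaf (.up 5 1484 3))))) (.node (.node (.node (.leaf (.up 6 632 0)) (.leaf (.up 5 219 3))) (.node (.leaf (.up 5 1202 3)) (.leaf (.up 5 789 4)))) (.node (.node (.leaf (.up 2 668 2)) (.leaf (.up 5 1339 3))) (.node (.leaf (.up 4 638 5)) (.leaf (.up 3 878 4)))))))) (.node (.node (.node (.node (.node (.node (.leaf (.up 4 820 1)) (.leaf (.up 3 501 2))) (.node (.leaf (.up 5 566 1)) (.leaf (.up 3 1632 3)))) (.node (.node (.leaf (.up 4 1221 5)) (.leaf (.up 3 1632 5))) (.node (.leaf (.up 4 1221 3)) (.leaf (.up 6 896 3))))) (.node (.node (.node (.leaf (.up 5 466 3)) (.leaf (.up 4 30 0))) (.node (.leaf (.up 4 236 0)) (.leaf (.up 4 1514 2)))) (.node (.node (.leaf (.up 5 1806 1)) (.leaf (.up 4 887 3))) (.node (.leaf (.up 5 367 5)) (.leaf (.up 5 91 3)))))) (.node (.node (.node (.node (.leaf (.up 4 1840 3)) (.leaf (.up 3 1632 1))) (.node (.leaf (.up 5 1052 3)) (.leaf (.up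 4 857 3)))) (.node (.node (.leaf (.up 5 720 3)) (.leaf (.up 5 547 4))) (.node (.leaf (.up 5 441 4)) (.leaf (.up 4 1721 3))))) (.node (.node (.node (.leaf (.up 5 350 5)) (.leaf (.up 4 1019 5))) (.node (.leaf (.up 1 1 4)) (.leaf (.up 5 1335 5)))) (.node (.node (.leaf (.up 4 1214 5)) (.leaf (.up 5 992 4))) (.node (.leaf (.up 4 551 3)) (.leaf (.up 5 1718 0))))))) (.node (.node (.node (.node (.node (.leaf (.up 6 1819 5)) (.leaf (.up 5 1641 1))) (.node (.leaf (.up 6 90 2)) (.leaf (.up 6 1470 3)))) (.node (.node (.leaf (.up 5 1079 3)) (.leaf (.up 5 1131 1))) (.node (.leaf (.up 4 55 1)) (.leaf (.up 5 94 3))))) (.node (.node (.node (.leaf (.up 4 1157 0)) (.leaf (.up 5 2032 0))) (.node (.leaf (.up 5 1794 0)) (.leaf (.up 5 44 2)))) (.node (.node (.leaf (.up 5 413 5)) (.leaf (.up 5 1161 0))) (.node (.leaf (.up 5 202 2)) (.leaf (.up 5 1806 0)))))) (.node (.node (.node (.node (.leaf (.up 4 1157 2)) (.leaf (.up 4 939 3))) (.node (.leaf (.up 5 1986 3)) (.leaf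 (.up 4 236 2)))) (.node (.node (.leaf (.up 5 648 4)) (.leaf (.up 5 1123 2))) (.node (.leaf (.up 4 546 3)) (.leaf (.up 3 274 4))))) (.node (.node (.node (.leaf (.up 6 723 0)) (.leaf (.up 5 112 3))) (.node (.leaf (.up 6 1580 4)) (.leaf (.up 4 2021 2)))) (.node (.node (.leaf (.up 2 725 3)) (.leaf (.up 4 1424 3))) (.node (.leaf (.up 4 1541 1)) (.leaf (.up 5 1724 3))))))))

noncomputable def vt1_3_1011 : Tr VStep :=
  .node (.node (.node (.node (.node (.node (.node (.leaf (.up 4 1948 0)) (.leaf (.up 6 900 2))) (.node (.leaf (.up 4 2033 5)) (.leaf (.up 6 1902 0)))) (.node (.node (.leaf (.up 4 1432 3)) (.leaf (.up 5 183 1))) (.node (.leaf (.up 3 529 5)) (.leaf (.up 4 1654 4))))) (.node (.node (.node (.leaf (.up 5 1010 2)) (.leaf (.up 4 708 0))) (.node (.leaf (.up 5 566 0)) (.leaf (.up 4 1994 3)))) (.node (.node (.leaf (.up 5 1131 2)) (.leaf (.up 3 262 3))) (.node (.leaf (.up 4 1391 3)) (.leaf (.up 5 570 0)))))) (.node (.node (.node (.node (.leaf (.up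 4 544 5)) (.leaf (.up 4 133 5))) (.node (.leaf (.up 3 2007 4)) (.leaf (.up 5 1609 5)))) (.node (.node (.leaf (.up 5 161 3)) (.leaf (.up 4 1078 4))) (.node (.leaf (.up 5 1981 2)) (.leaf (.up 5 937 5))))) (.node (.node (.node (.leaf (.up 4 1690 3)) (.leaf (.up 6 479 3))) (.node (.leaf (.up 4 1120 0)) (.leaf (.up 5 1413 1)))) (.node (.node (.leaf (.up 5 1190 5)) (.leaf (.up 5 1525 4))) (.node (.leaf (.up 5 1647 4)) (.leaf (.up 5 1811 3))))))) (.node (.node (.node (.node (.node (.leaf (.up 4 954 4)) (.leaf (.up 6 1251 3))) (.node (.leaf (.up 4 1702 4)) (.leaf (.up 5 32 4)))) (.node (.node (.leaf (.up 4 1514 1)) (.leaf (.up 4 126 0))) (.node (.leaf (.up 5 1458 2)) (.leaf (.up 5 1674 5))))) (.node (.node (.node (.leaf (.up 5 464 1)) (.leaf (.up 5 1848 3))) (.node (.leaf (.up 5 681 5)) (.leaf (.up 5 605 2)))) (.node (.node (.leaf (.up 6 1437 3)) (.leaf (.up 5 1619 0))) (.node (.leaf (.up 5 720 1)) (.leaf (.up 6 1934 1)))))) (.node (.node (.node (.node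 (.leaf (.up 5 1254 4)) (.leaf (.up 5 700 1))) (.node (.leaf (.up 5 1459 3)) (.leaf (.up 4 669 2)))) (.node (.node (.leaf (.up 5 1373 0)) (.leaf (.up 5 859 5))) (.node (.leaf (.up 5 1250 1)) (.leaf (.up 4 1799 4))))) (.node (.node (.node (.leaf (.up 4 1912 5)) (.leaf (.up 5 931 4))) (.node (.leaf (.up 4 747 2)) (.leaf (.up 4 1727 4)))) (.node (.node (.leaf (.up 5 164 3)) (.leaf (.up 5 61 5))) (.node (.leaf (.up 4 247 0)) (.leaf (.up 5 1777 5)))))))) (.node (.node (.node (.node (.node (.node (.leaf (.up 5 1847 0)) (.leaf (.up 6 1576 1))) (.node (.leaf (.up 4 820 4)) (.leaf (.up 5 1458 4)))) (.node (.node (.leaf (.up 5 1102 0)) (.leaf (.up 5 660 2))) (.node (.leaf (.up 6 1567 3)) (.leaf (.up 6 1481 4))))) (.node (.node (.node (.leaf (.up 5 1129 5)) (.leaf (.up 5 1101 3))) (.node (.leaf (.up 3 36 3)) (.leaf (.up 1 0 5)))) (.node (.node (.leaf (.up 4 393 5)) (.leaf (.up 5 812 5))) (.node (.leaf (.up 6 500 2)) (.leaf (.up 6 784 1)))))) (.node (.node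 (.node (.node (.leaf (.up 4 1514 3)) (.leaf (.up 2 1570 1))) (.node (.leaf (.up 4 638 1)) (.leaf (.up 5 466 2)))) (.node (.node (.leaf (.up 4 546 2)) (.leaf (.up 4 1929 4))) (.node (.leaf (.up 5 415 0)) (.leaf (.up 5 1123 3))))) (.node (.node (.node (.leaf (.up 4 1908 5)) (.leaf (.up 5 26 1))) (.node (.leaf (.up 4 1094 1)) (.leaf (.up 5 600 3)))) (.node (.node (.leaf (.up 5 660 5)) (.leaf (.up 6 1172 3))) (.node (.leaf (.up 3 253 3)) (.leaf (.up 5 854 4))))))) (.node (.node (.node (.node (.node (.leaf (.up 4 781 3)) (.leaf (.up 6 916 5))) (.node (.leaf (.up 5 631 1)) (.leaf (.up 4 989 2)))) (.node (.node (.leaf (.up 4 126 4)) (.leaf (.up 5 1065 1))) (.node (.leaf (.up 4 39 0)) (.leaf (.up 5 644 3))))) (.node (.node (.node (.leaf (.up 5 1357 1)) (.leaf (.up 5 1986 2))) (.node (.leaf (.up 4 939 2)) (.leaf (.up 4 1215 3)))) (.node (.node (.leaf (.up 4 1334 3)) (.leaf (.up 3 529 1))) (.node (.leaf (.up 6 1074 2)) (.leaf (.up 4 551 4)))))) (.node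 (.node (.node (.node (.leaf (.up 5 1679 0)) (.leaf (.up 5 1794 2))) (.node (.leaf (.up 5 581 4)) (.leaf (.up 4 1827 1)))) (.node (.node (.leaf (.up 6 980 3)) (.leaf (.up 5 155 2))) (.node (.leaf (.up 5 248 3)) (.leaf (.up 5 1981 3))))) (.node (.node (.node (.leaf (.up 2 330 5)) (.leaf (.up 6 25 1))) (.node (.leaf (.up 3 805 0)) (.leaf (.up 5 1315 5)))) (.node (.node (.leaf (.up 4 1194 5)) (.leaf (.up 5 1938 2))) (.node (.leaf (.up 4 1019 2)) (.leaf (.up 5 809 0))))))))

noncomputable def vt1_3_101 : Tr VStep := .node vt1_3_1010 vt1_3_1011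

noncomputable def vt1_3_10 : Tr VStep := .node vt1_3_100 vt1_3_101

noncomputable def vt1_3_1100 : Tr VStep :=
  .node (.node (.node (.node (.node (.node (.node (.leaf (.up 5 32 1)) (.leaf (.up 5 936 3))) (.node (.leaf (.up 5 290 1)) (.leaf (.up 5 848 0)))) (.node (.node (.leaf (.up 4 1948 2)) (.leaf (.up 6 1565 5))) (.node (.leaf (.up 6 628 5)) (.leaf (.up 5 1013 2))))) (.node (.node (.node (.leaf (.up 6 1423 0)) (.leaf (.up 5 289 4))) (.node (.leaf (.up 6 1818 1)) (.leaf (.up 5 863 3)))) (.node (.node (.leaf (.up 5 2014 5)) (.leaf (.up 4 2026 2))) (.node (.leaf (.up 3 274 5)) (.leaf (.up 4 1727 3)))))) (.node (.node (.node (.node (.leaf (.up 5 581 5)) (.leaf (.up 5 1665 0))) (.node (.leaf (.up 4 1060 4)) (.leaf (.up 4 1469 3)))) (.node (.node (.leaf (.up 5 1677 0)) (.leaf (.up 4 881 3))) (.node (.leaf (.up 6 1816 3)) (.leaf (.up 5 1663 0))))) (.node (.node (.node (.leaf (.up 5 197 2)) (.leaf (.up 5 1354 3))) (.node (.leaf (.up 5 94 0)) (.leaf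 (.up 4 1638 3)))) (.node (.node (.leaf (.up 5 1884 2)) (.leaf (.up 4 1542 4))) (.node (.leaf (.up 4 1298 1)) (.leaf (.up 5 821 2))))))) (.node (.node (.node (.node (.node (.leaf (.up 5 1100 0)) (.leaf (.up 5 1475 5))) (.node (.leaf (.up 4 426 5)) (.leaf (.up 4 858 3)))) (.node (.node (.leaf (.up 5 50 4)) (.leaf (.up 4 1430 3))) (.node (.leaf (.up 5 1326 4)) (.leaf (.up 3 1722 3))))) (.node (.node (.node (.leaf (.up 5 1024 5)) (.leaf (.up 6 1461 2))) (.node (.leaf (.up 5 486 0)) (.leaf (.up 4 528 4)))) (.node (.node (.leaf (.up 5 480 5)) (.leaf (.up 5 327 1))) (.node (.leaf (.up 4 671 0)) (.leaf (.up 5 69 1)))))) (.node (.node (.node (.node (.leaf (.up 6 538 0)) (.leaf (.up 4 1359 3))) (.node (.leaf (.up 4 695 5)) (.leaf (.up 5 1141 1)))) (.node (.node (.leaf (.up 4 2026 3)) (.leaf (.up 3 488 4))) (.node (.leaf (.up 5 809 1)) (.leaf (.up 4 1655 1))))) (.node (.node (.node (.leaf (.up 5 1750 4)) (.leaf (.up 5 1464 5))) (.node (.leaf (.up 4 1557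 2)) (.leaf (.up 4 362 2)))) (.node (.node (.leaf (.up 4 765 5)) (.leaf (.up 5 88 5))) (.node (.leaf (.up 5 1297 1)) (.leaf (.up 4 1779 2)))))))) (.node (.node (.node (.node (.node (.node (.leaf (.up 4 1094 3)) (.leaf (.up 5 499 2))) (.node (.leaf (.up 4 1434 2)) (.leaf (.up 4 1019 0)))) (.node (.node (.leaf (.up 4 1727 1)) (.leaf (.up 4 773 0))) (.node (.leaf (.up 4 1094 5)) (.leaf (.up 4 1404 2))))) (.node (.node (.node (.leaf (.up 4 1048 4)) (.leaf (.up 5 670 4))) (.node (.leaf (.up 5 704 5)) (.leaf (.up 5 101 5)))) (.node (.node (.leaf (.up 5 1123 4)) (.leaf (.up 5 355 2))) (.node (.leaf (.up 6 1824 5)) (.leaf (.up 5 1556 3)))))) (.node (.node (.node (.node (.leaf (.up 6 325 2)) (.leaf (.up 3 1025 4))) (.node (.leaf (.up 5 1947 4)) (.leaf (.up 4 30 5)))) (.node (.node (.leaf (.up 4 764 4)) (.leaf (.up 5 818 5))) (.node (.leaf (.up 5 1975 1)) (.leaf (.up 5 358 4))))) (.node (.node (.node (.leaf (.up 5 1809 5)) (.leaf (.up 5 307 2))) (.node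 (.leaf (.up 5 1370 2)) (.leaf (.up 5 549 2)))) (.node (.node (.leaf (.up 5 469 2)) (.leaf (.up 1 1 3))) (.node (.leaf (.up 5 1571 4)) (.leaf (.up 6 813 3))))))) (.node (.node (.node (.node (.node (.leaf (.up 4 1214 1)) (.leaf (.up 4 1009 5))) (.node (.leaf (.up 4 1204 3)) (.leaf (.up 4 1827 2)))) (.node (.node (.leaf (.up 4 1204 5)) (.leaf (.up 5 1291 4))) (.node (.leaf (.up 6 340 3)) (.leaf (.up 5 221 5))))) (.node (.node (.node (.leaf (.up 6 646 1)) (.leaf (.up 6 774 3))) (.node (.leaf (.up 5 1877 2)) (.leaf (.up 5 431 4)))) (.node (.node (.leaf (.up 5 132 1)) (.leaf (.up 4 1399 5))) (.node (.leaf (.up 5 286 5)) (.leaf (.up 5 468 4)))))) (.node (.node (.node (.node (.leaf (.up 4 1204 1)) (.leaf (.up 4 236 5))) (.node (.leaf (.up 4 1157 5)) (.leaf (.up 4 1840 4)))) (.node (.node (.leaf (.up 5 456 0)) (.leaf (.up 5 701 0))) (.node (.leaf (.up 6 461 4)) (.leaf (.up 5 960 5))))) (.node (.node (.node (.leaf (.up 5 906 2)) (.leaf (.up 5 906 5)))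 (.node (.leaf (.up 4 156 2)) (.leaf (.up 3 1134 0)))) (.node (.node (.leaf (.up 4 2021 0)) (.leaf (.up 4 1642 5))) (.node (.leaf (.up 3 1974 3)) (.leaf (.up 6 122 2))))))))

noncomputable def vt1_3_1101 : Tr VStep :=
  .node (.node (.node (.node (.node (.node (.node (.leaf (.up 5 1591 3)) (.leaf (.up 5 898 2))) (.node (.leaf (.up 5 352 1)) (.leaf (.up 5 289 0)))) (.node (.node (.leaf (.up 6 658 5)) (.leaf (.up 4 55 5))) (.node (.leaf (.up 5 866 1)) (.leaf (.up 3 1596 1))))) (.node (.node (.node (.leaf (.up 5 525 4)) (.leaf (.up 5 681 3))) (.node (.leaf (.up 5 1809 4)) (.leaf (.up 5 518 1)))) (.node (.node (.leaf (.up 6 500 5)) (.leaf (.up 3 262 1))) (.node (.leaf (.up 5 1370 1)) (.leaf (.up 5 1141 0)))))) (.node (.node (.node (.node (.leaf (.up 4 820 2)) (.leaf (.up 4 532 4))) (.node (.leaf (.up 2 34 2)) (.leaf (.up 5 1076 1)))) (.node (.node (.leaf (.up 5 1774 3)) (.leaf (.up 4 1929 0))) (.node (.leaf (.up 3 501 4)) (.leaf (.up 5 196 2)))))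 (.node (.node (.node (.leaf (.up 6 213 3)) (.leaf (.up 5 1936 3))) (.node (.leaf (.up 5 1835 2)) (.leaf (.up 6 524 1)))) (.node (.node (.leaf (.up 6 1333 3)) (.leaf (.up 5 76 5))) (.node (.leaf (.up 4 1061 5)) (.leaf (.up 5 547 0))))))) (.node (.node (.node (.node (.node (.leaf (.up 5 1513 3)) (.leaf (.up 5 1604 2))) (.node (.leaf (.up 5 1733 3)) (.leaf (.up 6 384 3)))) (.node (.node (.leaf (.up 4 1432 4)) (.leaf (.up 5 1868 3))) (.node (.leaf (.up 3 805 3)) (.leaf (.up 4 1120 3))))) (.node (.node (.node (.leaf (.up 6 554 5)) (.leaf (.up 5 375 3))) (.node (.leaf (.up 5 1254 5)) (.leaf (.up 5 517 1)))) (.node (.node (.leaf (.up 4 1994 5)) (.leaf (.up 4 1391 5))) (.node (.leaf (.up 3 262 5)) (.leaf (.up 5 931 5)))))) (.node (.node (.node (.node (.leaf (.up 6 208 3)) (.leaf (.up 4 244 5))) (.node (.leaf (.up 6 1020 3)) (.leaf (.up 5 1079 1)))) (.node (.node (.leaf (.up 4 708 4)) (.leaf (.up 5 1556 2))) (.node (.leaf (.up 6 1564 3)) (.leaf (.up 5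 345 3))))) (.node (.node (.node (.leaf (.up 5 1606 0)) (.leaf (.up 4 781 1))) (.node (.leaf (.up 3 1632 4)) (.leaf (.up 5 1890 3)))) (.node (.node (.leaf (.up 6 1105 1)) (.leaf (.up 6 271 1))) (.node (.leaf (.up 5 1479 3)) (.leaf (.up 5 13 1)))))))) (.node (.node (.node (.node (.node (.node (.leaf (.up 4 113 4)) (.leaf (.up 5 997 5))) (.node (.leaf (.up 5 354 2)) (.leaf (.up 6 394 0)))) (.node (.node (.leaf (.up 6 892 3)) (.leaf (.up 4 1541 5))) (.node (.leaf (.up 5 1787 2)) (.leaf (.up 5 912 4))))) (.node (.node (.node (.leaf (.up 4 1351 3)) (.leaf (.up 6 1844 4))) (.node (.leaf (.up 6 965 1)) (.leaf (.up 6 302 3)))) (.node (.node (.leaf (.up 5 1990 5)) (.leaf (.up 4 1379 5))) (.node (.leaf (.up 5 1237 4)) (.leaf (.up 4 1230 3)))))) (.node (.node (.node (.node (.leaf (.up 4 1469 2)) (.leaf (.up 5 427 1))) (.node (.leaf (.up 5 1193 0)) (.leaf (.up 5 1588 5)))) (.node (.node (.leaf (.up 5 1981 5)) (.leaf (.up 5 464 4))) (.node (.leaf (.up 4 2000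 0)) (.leaf (.up 6 683 1))))) (.node (.node (.node (.leaf (.up 4 126 3)) (.leaf (.up 5 1851 3))) (.node (.leaf (.up 3 2039 5)) (.leaf (.up 6 1396 4)))) (.node (.node (.leaf (.up 5 1685 4)) (.leaf (.up 4 731 3))) (.node (.leaf (.up 4 535 5)) (.leaf (.up 5 648 0))))))) (.node (.node (.node (.node (.node (.leaf (.up 4 1628 4)) (.leaf (.up 5 418 1))) (.node (.leaf (.up 5 1297 0)) (.leaf (.up 5 299 3)))) (.node (.node (.leaf (.up 4 162 3)) (.leaf (.up 4 1690 0))) (.node (.leaf (.up 5 910 3)) (.leaf (.up 4 1469 4))))) (.node (.node (.node (.leaf (.up 4 708 1)) (.leaf (.up 5 1725 5))) (.node (.leaf (.up 6 1461 3)) (.leaf (.up 4 113 5)))) (.node (.node (.leaf (.up 5 962 0)) (.leaf (.up 4 1432 1))) (.node (.leaf (.up 5 69 0)) (.leaf (.up 4 843 2)))))) (.node (.node (.node (.node (.leaf (.up 5 1123 5)) (.leaf (.up 5 1796 2))) (.node (.leaf (.up 5 687 5)) (.leaf (.up 5 50 0)))) (.node (.node (.leaf (.up 5 1435 3)) (.leaf (.up 6 806 5))) (.node (.leaf (.up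 4 1127 4)) (.leaf (.up 4 1514 5))))) (.node (.node (.node (.leaf (.up 5 1773 0)) (.leaf (.up 4 1432 0))) (.node (.leaf (.up 6 457 5)) (.leaf (.up 4 857 4)))) (.node (.node (.leaf (.up 6 1428 0)) (.leaf (.up 6 261 3))) (.node (.leaf (.up 3 1388 3)) (.leaf (.up 5 1168 1))))))))

noncomputable def vt1_3_110 : Tr VStep := .node vt1_3_1100 vt1_3_1101

noncomputable def vt1_3_1110 : Tr VStep :=
  .node (.node (.node (.node (.node (.node (.node (.leaf (.up 5 1164 4)) (.leaf (.up 6 241 2))) (.node (.leaf (.up 5 1176 2)) (.leaf (.up 4 1803 5)))) (.node (.node (.leaf (.up 4 1271 4)) (.leaf (.up 4 247 1))) (.node (.leaf (.up 6 1195 1)) (.leaf (.up 3 501 1))))) (.node (.node (.node (.leaf (.up 4 1359 4)) (.leaf (.up 5 1961 3))) (.node (.leaf (.up 5 1736 5)) (.leaf (.up 4 1157 3)))) (.node (.node (.leaf (.up 6 1332 4)) (.leaf (.up 5 1857 5))) (.node (.leaf (.up 6 659 1)) (.leaf (.up 4 887 2)))))) (.node (.node (.node (.node (.leaf (.up 5 1550 3)) (.leaf (.up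 5 1848 2))) (.node (.leaf (.up 5 1699 1)) (.leaf (.up 5 631 0)))) (.node (.node (.leaf (.up 4 939 4)) (.leaf (.up 3 253 1))) (.node (.leaf (.up 6 635 0)) (.leaf (.up 5 511 1))))) (.node (.node (.node (.leaf (.up 5 409 1)) (.leaf (.up 5 1173 4))) (.node (.leaf (.up 5 1839 0)) (.leaf (.up 4 1114 0)))) (.node (.node (.leaf (.up 5 1785 5)) (.leaf (.up 4 1116 5))) (.node (.leaf (.up 4 1908 4)) (.leaf (.up 4 1827 0))))))) (.node (.node (.node (.node (.node (.leaf (.up 3 1372 5)) (.leaf (.up 5 1335 2))) (.node (.leaf (.up 3 1706 1)) (.leaf (.up 5 975 0)))) (.node (.node (.leaf (.up 5 188 5)) (.leaf (.up 4 244 1))) (.node (.leaf (.up 5 1192 1)) (.leaf (.up 5 352 3))))) (.node (.node (.node (.leaf (.up 5 818 3)) (.leaf (.up 4 1230 1))) (.node (.leaf (.up 4 30 3)) (.leaf (.up 5 248 4)))) (.node (.node (.leaf (.up 5 1641 0)) (.leaf (.up 5 1439 4))) (.node (.leaf (.up 4 1541 4)) (.leaf (.up 6 1998 1)))))) (.node (.node (.node (.node (.leaf (.up 5 1488 3))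 (.leaf (.up 3 1566 0))) (.node (.leaf (.up 5 1772 0)) (.leaf (.up 3 488 2)))) (.node (.node (.leaf (.up 5 1414 4)) (.leaf (.up 4 1909 3))) (.node (.leaf (.up 5 1186 1)) (.leaf (.up 5 1113 3))))) (.node (.node (.node (.leaf (.up 4 410 1)) (.leaf (.up 5 1220 1))) (.node (.leaf (.up 3 152 1)) (.leaf (.up 4 1956 4)))) (.node (.node (.leaf (.up 5 1297 2)) (.leaf (.up 6 707 4))) (.node (.leaf (.up 5 345 4)) (.leaf (.up 5 205 0)))))))) (.node (.node (.node (.node (.node (.node (.leaf (.up 5 263 2)) (.leaf (.up 5 1640 1))) (.node (.leaf (.up 3 529 2)) (.leaf (.up 5 1193 4)))) (.node (.node (.leaf (.up 5 176 5)) (.leaf (.up 5 1130 1))) (.node (.leaf (.up 4 1416 2)) (.leaf (.up 5 759 2))))) (.node (.node (.node (.leaf (.up 5 1550 2)) (.leaf (.up 5 1794 3))) (.node (.leaf (.up 4 250 5)) (.leaf (.up 5 679 0)))) (.node (.node (.leaf (.up 4 982 5)) (.leaf (.up 5 13 4))) (.node (.leaf (.up 5 1550 1)) (.leaf (.up 5 848 1)))))) (.node (.node (.node (.node (.leaf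 (.up 5 1742 2)) (.leaf (.up 5 480 3))) (.node (.leaf (.up 5 1496 2)) (.leaf (.up 5 679 2)))) (.node (.node (.leaf (.up 6 20 4)) (.leaf (.up 4 1120 1))) (.node (.leaf (.up 4 60 1)) (.leaf (.up 5 910 4))))) (.node (.node (.node (.leaf (.up 5 1284 1)) (.leaf (.up 6 1934 5))) (.node (.leaf (.up 4 1200 4)) (.leaf (.up 5 566 4)))) (.node (.node (.leaf (.up 6 1798 1)) (.leaf (.up 5 289 2))) (.node (.leaf (.up 5 1543 5)) (.leaf (.up 2 1928 0))))))) (.node (.node (.node (.node (.node (.leaf (.up 3 878 5)) (.leaf (.up 4 1799 3))) (.node (.leaf (.up 3 878 3)) (.leaf (.up 4 1799 5)))) (.node (.node (.leaf (.up 5 239 0)) (.leaf (.up 4 922 0))) (.node (.leaf (.up 5 1145 4)) (.leaf (.up 4 743 5))))) (.node (.node (.node (.leaf (.up 4 968 2)) (.leaf (.up 5 1742 0))) (.node (.leaf (.up 3 1596 0)) (.leaf (.up 5 2032 3)))) (.node (.node (.leaf (.up 6 1512 5)) (.leaf (.up 6 593 1))) (.node (.leaf (.up 6 804 5)) (.leaf (.up 4 528 3)))))) (.node (.node (.node (.node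 (.leaf (.up 5 115 5)) (.leaf (.up 5 726 5))) (.node (.leaf (.up 4 1727 5)) (.leaf (.up 3 274 3)))) (.node (.node (.leaf (.up 4 1721 0)) (.leaf (.up 3 191 4))) (.node (.leaf (.up 3 805 4)) (.leaf (.up 5 248 2))))) (.node (.node (.node (.leaf (.up 3 1025 2)) (.leaf (.up 3 485 3))) (.node (.leaf (.up 4 669 4)) (.leaf (.up 6 1051 4)))) (.node (.node (.leaf (.up 5 1781 5)) (.leaf (.up 5 1104 5))) (.node (.leaf (.up 5 108 3)) (.leaf (.up 2 668 5))))))))

noncomputable def vt1_3_1111 : Tr VStep :=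
  .node (.node (.node (.node (.node (.node (.node (.leaf (.up 5 294 4)) (.leaf (.up 4 1952 4))) (.node (.leaf (.up 5 705 3)) (.leaf (.up 5 289 5)))) (.node (.node (.leaf (.up 5 1499 0)) (.leaf (.up 5 525 5))) (.node (.leaf (.up 4 1628 0)) (.leaf (.up 5 1217 5))))) (.node (.node (.node (.leaf (.up 5 566 3)) (.leaf (.up 6 1163 5))) (.node (.leaf (.up 5 1529 4)) (.leaf (.up 4 1421 1)))) (.node (.node (.leaf (.up 4 2006 3)) (.leaf (.up 5 363 5))) (.node (.leaf (.up 4 113 0)) (.leaf (.up 6 959 3)))))) (.node (.node (.node (.node (.leaf (.up 4 244 0)) (.leaf (.up 5 1264 5))) (.node (.leaf (.up 5 1961 2)) (.leaf (.up 5 6 0)))) (.node (.node (.leaf (.up 5 909 0)) (.leaf (.up 3 191 1))) (.node (.leaf (.up 5 1401 5)) (.leaf (.up 5 445 1))))) (.node (.node (.node (.leaf (.up 6 1977 4)) (.leaf (.up 4 1157 1))) (.node (.leaf (.up 5 1023 5)) (.leaf (.up 6 2015 2)))) (.node (.node (.leaf (.up 5 1986 4)) (.leaf (.up 5 848 2))) (.node (.leaf (.up 4 731 1)) (.leaf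 (.up 6 70 2))))))) (.node (.node (.node (.node (.node (.leaf (.up 4 2026 1)) (.leaf (.up 5 569 0))) (.node (.leaf (.up 4 535 4)) (.leaf (.up 5 729 2)))) (.node (.node (.leaf (.up 5 1686 5)) (.leaf (.up 5 150 3))) (.node (.leaf (.up 5 434 0)) (.leaf (.up 4 954 3))))) (.node (.node (.node (.leaf (.up 3 488 3)) (.leaf (.up 5 1164 1))) (.node (.leaf (.up 4 708 3)) (.leaf (.up 5 1145 5)))) (.node (.node (.leaf (.up 4 1048 0)) (.leaf (.up 5 1877 5))) (.node (.leaf (.up 4 1334 2)) (.leaf (.up 5 409 5)))))) (.node (.node (.node (.node (.leaf (.up 4 1802 3)) (.leaf (.up 4 1542 2))) (.node (.leaf (.up 5 1355 4)) (.leaf (.up 4 1026 5)))) (.node (.node (.leaf (.up 4 1419 5)) (.leaf (.up 3 1706 4))) (.node (.leaf (.up 4 1328 4)) (.leaf (.up 5 482 5))))) (.node (.node (.node (.leaf (.up 4 781 5)) (.leaf (.up 4 1810 4))) (.node (.leaf (.up 5 1160 4)) (.leaf (.up 5 537 2)))) (.node (.node (.leaf (.up 4 489 2)) (.leaf (.up 5 1686 2))) (.node (.leaf (.up 5 33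 5)) (.leaf (.up 5 644 5)))))))) (.node (.node (.node (.node (.node (.node (.leaf (.up 5 665 4)) (.leaf (.up 4 1404 0))) (.node (.leaf (.up 6 618 3)) (.leaf (.up 5 259 4)))) (.node (.node (.leaf (.up 4 1690 5)) (.leaf (.up 4 1541 0))) (.node (.leaf (.up 5 116 1)) (.leaf (.up 5 755 5))))) (.node (.node (.node (.leaf (.up 3 36 0)) (.leaf (.up 5 1496 3))) (.node (.leaf (.up 3 1744 5)) (.leaf (.up 5 1141 5)))) (.node (.node (.leaf (.up 4 1391 2)) (.leaf (.up 4 528 1))) (.node (.leaf (.up 5 1597 4)) (.leaf (.up 3 262 2)))))) (.node (.node (.node (.node (.leaf (.up 3 894 1)) (.leaf (.up 6 810 0))) (.node (.leaf (.up 6 1707 5)) (.leaf (.up 6 173 0)))) (.node (.node (.leaf (.up 5 415 3)) (.leaf (.up 5 720 2))) (.node (.leaf (.up 4 126 1)) (.leaf (.up 5 1572 4))))) (.node (.node (.node (.leaf (.up 4 1956 3)) (.leaf (.up 5 576 2))) (.node (.leaf (.up 5 1160 3)) (.leaf (.up 4 1948 4)))) (.node (.node (.leaf (.up 5 1291 0)) (.leaf (.up 6 1092 5))) (.node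 (.leaf (.up 4 432 2)) (.leaf (.up 5 1529 0))))))) (.node (.node (.node (.node (.node (.leaf (.up 4 1204 4)) (.leaf (.up 5 1577 1))) (.node (.leaf (.up 6 629 1)) (.leaf (.up 5 1777 3)))) (.node (.node (.leaf (.up 4 1912 3)) (.leaf (.up 5 61 3))) (.node (.leaf (.up 5 1640 5)) (.leaf (.up 5 1877 4))))) (.node (.node (.node (.leaf (.up 2 1570 5)) (.leaf (.up 3 17 1))) (.node (.leaf (.up 5 238 5)) (.leaf (.up 3 587 5)))) (.node (.node (.leaf (.up 5 962 5)) (.leaf (.up 4 2006 2))) (.node (.leaf (.up 5 1294 5)) (.leaf (.up 5 1686 4)))))) (.node (.node (.node (.node (.leaf (.up 5 1000 4)) (.leaf (.up 5 1571 1))) (.node (.leaf (.up 4 1078 0)) (.leaf (.up 4 968 3)))) (.node (.node (.leaf (.up 6 953 5)) (.leaf (.up 4 1301 4))) (.node (.leaf (.up 5 1679 4)) (.leaf (.up 4 2000 5))))) (.node (.node (.node (.leaf (.up 6 555 4)) (.leaf (.up 5 27 1))) (.node (.leaf (.up 4 1011 5)) (.leaf (.up 5 366 0)))) (.node (.node (.leaf (.up 4 410 3)) (.leaf (.up 5 1759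 3))) (.node (.leaf (.up 4 1142 2)) (.leaf (.up 4 535 0))))))))

noncomputable def vt1_3_111 : Tr VStep := .node vt1_3_1110 vt1_3_1111

noncomputable def vt1_3_11 : Tr VStep := .node vt1_3_110 vt1_3_111

noncomputable def vt1_3_1 : Tr VStep := .node vt1_3_10 vt1_3_11

noncomputable def vt1_3_ : Tr VStep := .node vt1_3_0 vt1_3_1

noncomputable def vt1_4_0000 : Tr VStep :=
  .node (.node (.node (.node (.node (.node (.node (.leaf (.root 22)) (.leaf (.up 5 28 2))) (.node (.leaf (.up 5 300 3)) (.leaf (.up 5 26 4)))) (.node (.node (.leaf (.up 5 123 1)) (.leaf (.up 4 1789 1))) (.node (.leaf (.up 5 1871 0)) (.leaf (.up 5 993 1))))) (.node (.node (.node (.leaf (.up 3 1231 0)) (.leaf (.up 6 479 2))) (.node (.leaf (.up 6 1672 3)) (.leaf (.up 4 601 1)))) (.node (.node (.leaf (.up 5 424 0)) (.leaf (.up 6 1535 4))) (.node (.leaf (.up 5 360 4)) (.leaf (.up 3 1859 0)))))) (.node (.node (.node (.node (.leaf (.up 3 1571 4)) (.leaf (.up 5 418 4))) (.node (.leaf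 (.up 5 1182 2)) (.leaf (.up 5 1222 1)))) (.node (.node (.leaf (.up 4 1831 1)) (.leaf (.up 4 1976 2))) (.node (.leaf (.up 5 1807 0)) (.leaf (.up 5 1198 2))))) (.node (.node (.node (.leaf (.up 4 1695 1)) (.leaf (.up 4 1410 3))) (.node (.leaf (.up 5 1443 3)) (.leaf (.up 2 1285 1)))) (.node (.node (.leaf (.up 6 208 4)) (.leaf (.up 6 1659 2))) (.node (.leaf (.up 5 966 4)) (.leaf (.up 4 1389 2))))))) (.node (.node (.node (.node (.node (.leaf (.up 5 753 0)) (.leaf (.up 7 131 2))) (.node (.leaf (.up 4 664 3)) (.leaf (.up 6 425 4)))) (.node (.node (.leaf (.up 6 1989 3)) (.leaf (.up 5 81 3))) (.node (.leaf (.up 5 112 3)) (.leaf (.up 6 1818 2))))) (.node (.node (.node (.leaf (.up 6 1535 2)) (.leaf (.up 5 320 2))) (.node (.leaf (.up 5 1769 2)) (.leaf (.up 5 195 4)))) (.node (.node (.leaf (.up 5 973 4)) (.leaf (.up 5 1487 2))) (.node (.leaf (.up 5 2004 3)) (.leaf (.up 4 64 3)))))) (.node (.node (.node (.node (.leaf (.up 4 1815 2)) (.leaf (.up 5 936 2))) (.node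 (.leaf (.up 4 1042 0)) (.leaf (.up 5 1114 0)))) (.node (.node (.leaf (.up 3 9 4)) (.leaf (.up 4 1831 2))) (.node (.leaf (.up 5 799 4)) (.leaf (.up 3 1231 3))))) (.node (.node (.node (.leaf (.up 3 1786 4)) (.leaf (.up 6 1590 3))) (.node (.leaf (.up 5 1454 1)) (.leaf (.up 5 387 3)))) (.node (.node (.leaf (.up 5 603 2)) (.leaf (.up 5 1246 3))) (.node (.leaf (.up 3 1493 1)) (.leaf (.up 5 1524 4)))))))) (.node (.node (.node (.node (.node (.node (.leaf (.up 6 56 2)) (.leaf (.up 6 1413 4))) (.node (.leaf (.up 6 1560 3)) (.leaf (.up 4 396 3)))) (.node (.node (.leaf (.up 4 837 3)) (.leaf (.up 1 8 2))) (.node (.leaf (.up 3 1752 1)) (.leaf (.up 5 266 4))))) (.node (.node (.node (.leaf (.up 3 636 1)) (.leaf (.up 5 1274 1))) (.node (.leaf (.up 4 444 3)) (.leaf (.up 5 486 1)))) (.node (.node (.leaf (.up 5 1271 4)) (.leaf (.up 5 885 3))) (.node (.leaf (.up 4 1819 1)) (.leaf (.up 5 96 4)))))) (.node (.node (.node (.node (.leaf (.up 5 646 3)) (.leaf (.up 6 613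 1))) (.node (.leaf (.up 4 965 0)) (.leaf (.up 6 679 3)))) (.node (.node (.leaf (.up 1 1 0)) (.leaf (.up 5 178 4))) (.node (.leaf (.up 4 2011 3)) (.leaf (.up 4 1794 1))))) (.node (.node (.node (.leaf (.up 5 720 2)) (.leaf (.up 6 934 1))) (.node (.leaf (.up 4 897 0)) (.leaf (.up 5 1722 1)))) (.node (.node (.leaf (.up 4 1625 4)) (.leaf (.up 4 989 1))) (.node (.leaf (.up 5 71 1)) (.leaf (.up 4 718 4))))))) (.node (.node (.node (.node (.node (.leaf (.up 6 1426 1)) (.leaf (.up 6 1078 4))) (.node (.leaf (.up 5 142 1)) (.leaf (.up 6 568 3)))) (.node (.node (.leaf (.up 5 1064 2)) (.leaf (.up 6 943 4))) (.node (.leaf (.up 6 1860 3)) (.leaf (.up 4 897 2))))) (.node (.node (.node (.leaf (.up 4 1469 3)) (.leaf (.up 3 553 3))) (.node (.leaf (.up 3 520 3)) (.leaf (.up 5 1610 4)))) (.node (.node (.leaf (.up 5 1877 3)) (.leaf (.up 4 1591 0))) (.node (.leaf (.up 4 1789 2)) (.leaf (.up 5 148 0)))))) (.node (.node (.node (.node (.leaf (.up 4 718 1)) (.leaf (.up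 3 1843 2))) (.node (.leaf (.up 6 2002 1)) (.leaf (.up 5 1061 2)))) (.node (.node (.leaf (.up 5 1664 4)) (.leaf (.up 4 1102 3))) (.node (.leaf (.up 5 1961 1)) (.leaf (.up 4 144 0))))) (.node (.node (.node (.leaf (.up 6 1686 3)) (.leaf (.up 4 784 0))) (.node (.leaf (.up 5 869 4)) (.leaf (.up 4 1719 3)))) (.node (.node (.leaf (.up 3 1728 2)) (.leaf (.up 6 1002 3))) (.node (.leaf (.up 5 971 3)) (.leaf (.up 6 1119 3))))))))

noncomputable def vt1_4_0001 : Tr VStep :=
  .node (.node (.node (.node (.node (.node (.node (.leaf (.root 571)) (.leaf (.up 6 133 4))) (.node (.leaf (.up 2 1296 2)) (.leaf (.up 6 915 4)))) (.node (.node (.leaf (.up 6 1489 1)) (.leaf (.up 5 855 1))) (.node (.leaf (.up 6 586 3)) (.leaf (.up 5 839 0))))) (.node (.node (.node (.leaf (.up 5 1646 4)) (.leaf (.up 4 199 0))) (.node (.leaf (.up 5 373 1)) (.leaf (.up 5 2035 1)))) (.node (.node (.leaf (.up 4 1042 1)) (.leaf (.up 5 1487 3))) (.node (.leaf (.up 5 1518 3)) (.leaf (.up 5 1376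 4)))))) (.node (.node (.node (.node (.leaf (.up 2 1450 4)) (.leaf (.up 4 1136 1))) (.node (.leaf (.up 5 2026 1)) (.leaf (.up 4 364 1)))) (.node (.node (.leaf (.up 5 1748 3)) (.leaf (.up 5 320 3))) (.node (.leaf (.up 6 353 3)) (.leaf (.up 5 279 1))))) (.node (.node (.node (.leaf (.up 5 1262 2)) (.leaf (.up 5 81 2))) (.node (.leaf (.up 5 2006 4)) (.leaf (.up 5 839 2)))) (.node (.node (.leaf (.up 6 857 4)) (.leaf (.up 5 1246 2))) (.node (.leaf (.up 4 79 4)) (.leaf (.up 5 1998 4))))))) (.node (.node (.node (.node (.node (.leaf (.up 2 1689 2)) (.leaf (.up 4 1785 0))) (.node (.leaf (.up 5 18 0)) (.leaf (.up 5 90 0)))) (.node (.node (.leaf (.up 4 534 2)) (.leaf (.up 3 1402 1))) (.node (.leaf (.up 6 256 2)) (.leaf (.up 5 1341 0))))) (.node (.node (.node (.leaf (.up 5 2013 4)) (.leaf (.up 6 92 4))) (.node (.leaf (.up 4 1202 3)) (.leaf (.up 6 243 2)))) (.node (.node (.leaf (.up 4 68 4)) (.leaf (.up 5 1209 1))) (.node (.leaf (.up 4 1626 3)) (.leaf (.up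 5 462 3)))))) (.node (.node (.node (.node (.leaf (.up 6 1049 4)) (.leaf (.up 5 1721 0))) (.node (.leaf (.up 5 1807 4)) (.leaf (.up 3 539 2)))) (.node (.node (.leaf (.up 4 918 0)) (.leaf (.up 4 990 0))) (.node (.leaf (.up 2 725 3)) (.leaf (.up 4 1815 4))))) (.node (.node (.node (.leaf (.up 5 1304 1)) (.leaf (.up 4 1976 3))) (.node (.leaf (.up 5 4 1)) (.leaf (.up 4 484 4)))) (.node (.node (.leaf (.up 6 978 0)) (.leaf (.up 6 1360 3))) (.node (.leaf (.up 6 127 1)) (.leaf (.up 4 1785 1)))))))) (.node (.node (.node (.node (.node (.node (.leaf (.up 5 1557 1)) (.leaf (.up 6 1975 3))) (.node (.leaf (.up 6 777 1)) (.leaf (.up 5 1306 4)))) (.node (.node (.leaf (.up 5 1646 1)) (.leaf (.up 4 405 4))) (.node (.leaf (.up 4 882 1)) (.leaf (.up 5 1524 1))))) (.node (.node (.node (.leaf (.up 5 231 4)) (.leaf (.up 2 336 1))) (.node (.leaf (.up 3 72 2)) (.leaf (.up 4 1136 4)))) (.node (.node (.leaf (.up 6 2001 2)) (.leaf (.up 4 763 3))) (.node (.leaf (.up 4 689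 1)) (.leaf (.up 4 1358 3)))))) (.node (.node (.node (.node (.leaf (.up 4 438 2)) (.leaf (.up 3 1289 2))) (.node (.leaf (.up 6 672 2)) (.leaf (.up 4 809 3)))) (.node (.node (.leaf (.up 6 480 3)) (.leaf (.up 5 827 4))) (.node (.leaf (.up 5 1621 3)) (.leaf (.up 5 656 2))))) (.node (.node (.node (.leaf (.up 5 585 4)) (.leaf (.up 5 1226 2))) (.node (.leaf (.up 4 867 2)) (.leaf (.up 2 1165 3)))) (.node (.node (.leaf (.up 5 1274 2)) (.leaf (.up 5 69 2))) (.node (.leaf (.up 5 1734 4)) (.leaf (.up 6 750 0))))))) (.node (.node (.node (.node (.node (.leaf (.up 5 62 4)) (.leaf (.up 6 1725 2))) (.node (.leaf (.up 5 276 2)) (.leaf (.up 6 930 1)))) (.node (.node (.leaf (.up 6 383 3)) (.leaf (.up 5 1771 3))) (.node (.leaf (.up 4 1435 2)) (.leaf (.up 6 1168 0))))) (.node (.node (.node (.leaf (.up 5 340 4)) (.leaf (.up 5 1917 1))) (.node (.leaf (.up 5 578 4)) (.leaf (.up 4 1475 4)))) (.node (.node (.leaf (.up 5 1870 2)) (.leaf (.up 4 1009 2))) (.node (.leaf (.up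 4 1112 2)) (.leaf (.up 3 538 1)))))) (.node (.node (.node (.node (.leaf (.up 5 1884 0)) (.leaf (.up 6 1832 3))) (.node (.leaf (.up 5 511 0)) (.leaf (.up 5 1543 4)))) (.node (.node (.leaf (.up 3 1289 4)) (.leaf (.up 5 281 2))) (.node (.leaf (.up 3 1176 0)) (.leaf (.up 5 629 3))))) (.node (.node (.node (.leaf (.up 6 1816 0)) (.leaf (.up 5 1872 0))) (.node (.leaf (.up 6 443 0)) (.leaf (.up 3 1859 2)))) (.node (.node (.leaf (.up 6 1756 1)) (.leaf (.up 4 567 0))) (.node (.leaf (.up 6 960 1)) (.leaf (.up 6 1350 1))))))))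

noncomputable def vt1_4_000 : Tr VStep := .node vt1_4_0000 vt1_4_0001

noncomputable def vt1_4_0010 : Tr VStep :=
  .node (.node (.node (.node (.node (.node (.node (.leaf (.up 4 1099 0)) (.leaf (.up 6 1153 2))) (.node (.leaf (.up 6 2036 1)) (.leaf (.up 6 672 0)))) (.node (.node (.leaf (.up 4 1183 4)) (.leaf (.up 3 14 2))) (.node (.leaf (.up 6 1929 4)) (.leaf (.up 1 8 4))))) (.node (.node (.node (.leaf (.up 5 811 1)) (.leaf (.up 3 1346 2))) (.node (.leaf (.up 4 1591 1)) (.leaf (.up 4 177 1)))) (.node (.node (.leaf (.up 4 1394 2)) (.leaf (.up 6 628 4))) (.node (.leaf (.up 5 569 3)) (.leaf (.up 5 1453 3)))))) (.node (.node (.node (.node (.leaf (.up 3 1460 1)) (.leaf (.up 7 1962 2))) (.node (.leaf (.up 5 3 2)) (.leaf (.up 4 1582 1)))) (.node (.node (.leaf (.up 4 259 3)) (.leaf (.up 6 841 1))) (.node (.leaf (.up 5 1999 0)) (.leaf (.up 5 51 2))))) (.node (.node (.node (.leaf (.up 4 194 4)) (.leaf (.up 3 1859 4))) (.node (.leaf (.up 7 363 1)) (.leaf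 (.up 5 1407 2)))) (.node (.node (.leaf (.up 4 1625 2)) (.leaf (.up 4 352 0))) (.node (.leaf (.up 5 272 1)) (.leaf (.up 4 496 2))))))) (.node (.node (.node (.node (.node (.leaf (.up 5 884 3)) (.leaf (.up 5 1054 2))) (.node (.leaf (.up 5 473 1)) (.leaf (.up 6 1800 2)))) (.node (.node (.leaf (.up 6 1214 1)) (.leaf (.up 6 568 1))) (.node (.leaf (.up 5 418 1)) (.leaf (.up 4 903 2))))) (.node (.node (.node (.leaf (.up 5 629 0)) (.leaf (.up 5 1118 4))) (.node (.leaf (.up 5 26 1)) (.leaf (.up 5 1182 0)))) (.node (.node (.leaf (.up 4 1405 1)) (.leaf (.up 6 338 2))) (.node (.leaf (.up 5 1872 4)) (.leaf (.up 5 1767 1)))))) (.node (.node (.node (.node (.leaf (.up 3 27 4)) (.leaf (.up 5 1946 4))) (.node (.leaf (.up 5 1234 0)) (.leaf (.up 5 1059 2)))) (.node (.node (.leaf (.up 4 1814 0)) (.leaf (.up 4 1315 3))) (.node (.leaf (.up 5 1790 1)) (.leaf (.up 4 789 4))))) (.node (.node (.node (.leaf (.up 5 602 1)) (.leaf (.up 5 1776 4))) (.node (.leaf (.up 5 1174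 0)) (.leaf (.up 5 1246 0)))) (.node (.node (.leaf (.up 3 1874 0)) (.leaf (.up 6 1818 0))) (.node (.leaf (.up 5 678 3)) (.leaf (.up 6 443 1)))))))) (.node (.node (.node (.node (.node (.node (.leaf (.up 4 343 1)) (.leaf (.up 5 26 2))) (.node (.leaf (.up 2 1689 4)) (.leaf (.up 6 2005 3)))) (.node (.node (.leaf (.up 4 534 4)) (.leaf (.up 6 1173 2))) (.node (.leaf (.up 6 256 4)) (.leaf (.up 5 1341 3))))) (.node (.node (.node (.leaf (.up 4 1253 4)) (.leaf (.up 5 1988 3))) (.node (.leaf (.up 5 2035 4)) (.leaf (.up 4 113 3)))) (.node (.node (.leaf (.up 5 197 0)) (.leaf (.up 5 1641 1))) (.node (.leaf (.up 5 1638 0)) (.leaf (.up 4 665 3)))))) (.node (.node (.node (.node (.leaf (.up 5 1825 4)) (.leaf (.up 5 1518 0))) (.node (.leaf (.up 3 1176 2)) (.leaf (.up 5 845 0)))) (.node (.node (.leaf (.up 4 1591 3)) (.leaf (.up 6 246 1))) (.node (.leaf (.up 4 23 2)) (.leaf (.up 6 1558 3))))) (.node (.node (.node (.leaf (.up 6 1992 1)) (.leaf (.up 2 1450 0))) (.node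 (.leaf (.up 4 1371 2)) (.leaf (.up 4 484 2)))) (.node (.node (.leaf (.up 5 706 2)) (.leaf (.up 5 1543 3))) (.node (.leaf (.up 6 687 1)) (.leaf (.up 4 1065 1))))))) (.node (.node (.node (.node (.node (.leaf (.up 6 1084 4)) (.leaf (.up 6 133 2))) (.node (.leaf (.up 6 1834 4)) (.leaf (.up 6 915 2)))) (.node (.node (.leaf (.up 5 1793 1)) (.leaf (.up 6 1715 0))) (.node (.leaf (.up 5 88 0)) (.leaf (.up 6 1842 4))))) (.node (.node (.node (.leaf (.up 5 1721 1)) (.leaf (.up 3 63 1))) (.node (.leaf (.up 5 1403 0)) (.leaf (.up 4 965 3)))) (.node (.node (.leaf (.up 5 268 3)) (.leaf (.up 2 1481 2))) (.node (.leaf (.up 4 990 1)) (.leaf (.up 5 301 3)))))) (.node (.node (.node (.node (.leaf (.up 5 988 0)) (.leaf (.up 5 255 3))) (.node (.leaf (.up 5 1407 0)) (.leaf (.up 4 1335 0)))) (.node (.node (.leaf (.up 5 1723 0)) (.leaf (.up 5 1674 4))) (.node (.leaf (.up 4 1345 1)) (.leaf (.up 4 1079 2))))) (.node (.node (.node (.leaf (.up 5 920 0)) (.leaf (.up 6 1883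 3))) (.node (.leaf (.up 5 1476 2)) (.leaf (.up 6 238 3)))) (.node (.node (.leaf (.up 6 605 2)) (.leaf (.up 4 1719 0))) (.node (.leaf (.up 6 1426 3)) (.leaf (.up 5 1524 2))))))))

noncomputable def vt1_4_0011 : Tr VStep :=
  .node (.node (.node (.node (.node (.node (.node (.leaf (.up 4 334 3)) (.leaf (.up 5 452 1))) (.node (.leaf (.up 5 397 2)) (.leaf (.up 6 1240 1)))) (.node (.node (.leaf (.up 4 1814 4)) (.leaf (.up 6 151 4))) (.node (.leaf (.up 6 549 1)) (.leaf (.up 2 1187 1))))) (.node (.node (.node (.leaf (.up 4 1770 3)) (.leaf (.up 5 2023 2))) (.node (.leaf (.up 6 351 3)) (.leaf (.up 4 1394 4)))) (.node (.node (.leaf (.up 3 1786 1)) (.leaf (.up 3 872 2))) (.node (.leaf (.up 5 998 1)) (.leaf (.up 5 1059 3)))))) (.node (.node (.node (.node (.leaf (.up 5 545 4)) (.leaf (.up 5 1295 2))) (.node (.leaf (.up 5 678 2)) (.leaf (.up 5 1561 2)))) (.node (.node (.leaf (.up 5 1464 4)) (.leaf (.up 5 569 4))) (.node (.leaf (.up 5 911 0)) (.leaf (.up 6 1023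 1))))) (.node (.node (.node (.leaf (.up 6 843 4)) (.leaf (.up 5 1226 4))) (.node (.leaf (.up 5 869 2)) (.leaf (.up 4 2012 4)))) (.node (.node (.leaf (.up 5 1234 4)) (.leaf (.up 6 189 3))) (.node (.leaf (.up 5 971 0)) (.leaf (.up 3 572 1))))))) (.node (.node (.node (.node (.node (.leaf (.up 5 1649 0)) (.leaf (.up 5 1723 2))) (.node (.leaf (.up 6 1359 3)) (.leaf (.up 5 757 1)))) (.node (.node (.leaf (.up 4 1701 4)) (.leaf (.up 7 292 4))) (.node (.leaf (.up 6 1459 4)) (.leaf (.up 5 51 3))))) (.node (.node (.node (.leaf (.up 5 1589 0)) (.leaf (.up 5 714 3))) (.node (.leaf (.up 4 150 0)) (.leaf (.up 5 1407 3)))) (.node (.node (.leaf (.up 5 1999 4)) (.leaf (.up 5 1617 1))) (.node (.leaf (.up 5 3 3)) (.leaf (.up 5 845 1)))))) (.node (.node (.node (.node (.leaf (.up 5 914 4)) (.leaf (.up 6 1605 3))) (.node (.leaf (.up 5 815 1)) (.leaf (.up 4 496 3)))) (.node (.node (.leaf (.up 3 825 3)) (.leaf (.up 4 206 1))) (.node (.leaf (.up 3 1821 4)) (.leaf (.up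 4 1469 0))))) (.node (.node (.node (.leaf (.up 7 760 4)) (.leaf (.up 4 481 3))) (.node (.leaf (.up 6 494 4)) (.leaf (.up 6 1620 3)))) (.node (.node (.leaf (.up 6 1181 3)) (.leaf (.up 6 777 3))) (.node (.leaf (.up 5 663 1)) (.leaf (.up 6 1041 1)))))))) (.node (.node (.node (.node (.node (.node (.leaf (.up 4 1542 4)) (.leaf (.up 6 635 1))) (.node (.leaf (.up 2 1296 4)) (.leaf (.up 5 1627 3)))) (.node (.node (.leaf (.up 6 1158 1)) (.leaf (.up 6 774 3))) (.node (.leaf (.up 5 410 1)) (.leaf (.up 6 1288 4))))) (.node (.node (.node (.leaf (.up 5 1900 4)) (.leaf (.up 5 237 4))) (.node (.leaf (.up 4 1146 4)) (.leaf (.up 5 511 3)))) (.node (.node (.leaf (.up 6 1349 1)) (.leaf (.up 5 2035 2))) (.node (.leaf (.up 5 90 2)) (.leaf (.up 4 1253 2)))))) (.node (.node (.node (.node (.leaf (.up 5 1361 3)) (.leaf (.up 4 809 4))) (.node (.leaf (.up 6 1725 1)) (.leaf (.up 3 59 1)))) (.node (.node (.leaf (.up 5 420 2)) (.leaf (.up 4 1200 4))) (.node (.leaf (.up 5 1734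 1)) (.leaf (.up 4 1549 2))))) (.node (.node (.node (.leaf (.up 5 1256 2)) (.leaf (.up 6 1252 1))) (.node (.leaf (.up 5 1344 3)) (.leaf (.up 5 341 4)))) (.node (.node (.leaf (.up 5 603 4)) (.leaf (.up 2 1165 0))) (.node (.leaf (.up 4 1797 1)) (.leaf (.up 3 558 0))))))) (.node (.node (.node (.node (.node (.leaf (.up 4 1695 2)) (.leaf (.up 5 602 3))) (.node (.leaf (.up 2 1187 4)) (.leaf (.up 5 802 4)))) (.node (.node (.leaf (.up 6 44 4)) (.leaf (.up 5 178 3))) (.node (.leaf (.up 6 826 4)) (.leaf (.up 5 1799 3))))) (.node (.node (.node (.leaf (.up 5 1759 4)) (.leaf (.up 5 2000 0))) (.node (.leaf (.up 2 1481 4)) (.leaf (.up 6 371 0)))) (.node (.node (.leaf (.up 3 872 1)) (.leaf (.up 4 1814 3))) (.node (.leaf (.up 5 592 4)) (.leaf (.up 4 1146 2)))))) (.node (.node (.node (.node (.leaf (.up 3 1460 2)) (.leaf (.up 5 2004 0))) (.node (.leaf (.up 2 336 3)) (.leaf (.up 4 396 4)))) (.node (.node (.leaf (.up 4 763 0)) (.leaf (.up 5 921 3))) (.node (.leaf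 (.up 4 557 2)) (.leaf (.up 5 1557 4))))) (.node (.node (.node (.leaf (.up 6 1137 4)) (.leaf (.up 6 1936 0))) (.node (.leaf (.up 6 1889 2)) (.leaf (.up 4 352 3)))) (.node (.node (.leaf (.up 6 937 3)) (.leaf (.up 5 1095 2))) (.node (.leaf (.up 5 296 1)) (.leaf (.up 4 1919 4))))))))

noncomputable def vt1_4_001 : Tr VStep := .node vt1_4_0010 vt1_4_0011

noncomputable def vt1_4_00 : Tr VStep := .node vt1_4_000 vt1_4_001

noncomputable def vt1_4_0100 : Tr VStep :=
  .node (.node (.node (.node (.node (.node (.node (.leaf (.up 6 1201 1)) (.leaf (.up 4 567 1))) (.node (.leaf (.up 6 22 4)) (.leaf (.up 6 1916 0)))) (.node (.node (.leaf (.up 5 1226 1)) (.leaf (.up 5 792 4))) (.node (.leaf (.up 4 343 3)) (.leaf (.up 3 538 2))))) (.node (.node (.node (.leaf (.up 4 1394 1)) (.leaf (.up 6 411 0))) (.node (.leaf (.up 5 110 1)) (.leaf (.up 4 1789 4)))) (.node (.node (.leaf (.up 3 1289 1)) (.leaf (.up 3 626 4))) (.node (.leaf (.up 3 1765 4)) (.leaf (.up 5 359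 3)))))) (.node (.node (.node (.node (.leaf (.up 4 471 0)) (.leaf (.up 6 1583 4))) (.node (.leaf (.up 4 257 2)) (.leaf (.up 4 119 1)))) (.node (.node (.leaf (.up 2 1481 3)) (.leaf (.up 2 1296 1))) (.node (.leaf (.up 3 531 0)) (.leaf (.up 5 12 1))))) (.node (.node (.node (.leaf (.up 3 558 1)) (.leaf (.up 6 475 0))) (.node (.leaf (.up 4 194 2)) (.leaf (.up 6 1107 4)))) (.node (.node (.leaf (.up 4 1885 4)) (.leaf (.up 6 220 4))) (.node (.leaf (.up 4 1099 4)) (.leaf (.up 4 463 1))))))) (.node (.node (.node (.node (.node (.leaf (.up 5 668 1)) (.leaf (.up 6 1050 1))) (.node (.leaf (.up 4 1920 1)) (.leaf (.up 6 1546 2)))) (.node (.node (.leaf (.up 6 650 0)) (.leaf (.up 5 706 0))) (.node (.leaf (.up 4 1065 0)) (.leaf (.up 4 445 4))))) (.node (.node (.node (.leaf (.up 5 26 3)) (.leaf (.up 4 1112 4))) (.node (.leaf (.up 5 266 0)) (.leaf (.up 3 59 3)))) (.node (.node (.leaf (.up 4 718 0)) (.leaf (.up 5 646 0))) (.node (.leaf (.up 5 1351 3)) (.leaf (.up 5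 1061 0)))))) (.node (.node (.node (.node (.leaf (.up 6 1173 3)) (.leaf (.up 4 1591 2))) (.node (.leaf (.up 5 779 4)) (.leaf (.up 4 1162 4)))) (.node (.node (.leaf (.up 5 714 0)) (.leaf (.up 5 5 4))) (.node (.leaf (.up 6 1297 2)) (.leaf (.up 4 1628 3))))) (.node (.node (.node (.leaf (.up 6 817 3)) (.leaf (.up 4 1189 3))) (.node (.leaf (.up 4 1156 3)) (.leaf (.up 4 784 3)))) (.node (.node (.leaf (.up 5 1988 2)) (.leaf (.up 5 710 0))) (.node (.leaf (.up 5 1234 2)) (.leaf (.up 7 1125 0)))))))) (.node (.node (.node (.node (.node (.node (.leaf (.up 4 1447 2)) (.leaf (.up 3 520 4))) (.node (.leaf (.up 2 1689 0)) (.leaf (.up 5 799 3)))) (.node (.node (.leaf (.up 5 470 3)) (.leaf (.up 5 499 1))) (.node (.leaf (.up 5 1635 3)) (.leaf (.up 6 1263 1))))) (.node (.node (.node (.leaf (.up 6 1741 1)) (.leaf (.up 6 75 1))) (.node (.leaf (.up 5 1757 0)) (.leaf (.up 5 973 2)))) (.node (.node (.leaf (.up 5 1650 3)) (.leaf (.up 5 1361 0))) (.node (.leaf (.up 4 1021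 2)) (.leaf (.up 6 1858 2)))))) (.node (.node (.node (.node (.leaf (.up 4 1831 4)) (.leaf (.up 5 1748 1))) (.node (.leaf (.up 4 1358 1)) (.leaf (.up 5 944 4)))) (.node (.node (.leaf (.up 5 515 2)) (.leaf (.up 5 1365 0))) (.node (.leaf (.up 5 936 4)) (.leaf (.up 2 1450 2))))) (.node (.node (.node (.leaf (.up 5 401 1)) (.leaf (.up 4 1815 1))) (.node (.leaf (.up 2 1165 1)) (.leaf (.up 6 1936 3)))) (.node (.node (.leaf (.up 6 960 2)) (.leaf (.up 4 1919 2))) (.node (.leaf (.up 5 706 4)) (.leaf (.up 5 1347 4))))))) (.node (.node (.node (.node (.node (.leaf (.up 6 138 3)) (.leaf (.up 6 955 4))) (.node (.leaf (.up 4 1582 2)) (.leaf (.up 7 173 4)))) (.node (.node (.leaf (.up 6 610 3)) (.leaf (.up 6 1288 2))) (.node (.leaf (.up 6 673 2)) (.leaf (.up 5 706 1))))) (.node (.node (.node (.leaf (.up 4 224 1)) (.leaf (.up 3 721 4))) (.node (.leaf (.up 6 1606 4)) (.leaf (.up 5 1807 3)))) (.node (.node (.leaf (.up 4 867 0)) (.leaf (.up 5 811 0))) (.node (.leaf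 (.up 5 627 3)) (.leaf (.up 4 1511 3)))))) (.node (.node (.node (.node (.leaf (.up 5 1684 4)) (.leaf (.up 5 684 2))) (.node (.leaf (.up 2 1285 2)) (.leaf (.up 4 1509 1)))) (.node (.node (.leaf (.up 5 668 2)) (.leaf (.up 3 1571 2))) (.node (.leaf (.up 3 539 4)) (.leaf (.up 4 1420 0))))) (.node (.node (.node (.leaf (.up 5 1980 1)) (.leaf (.up 5 913 3))) (.node (.leaf (.up 5 1256 4)) (.leaf (.up 6 1062 1)))) (.node (.node (.leaf (.up 5 1991 1)) (.leaf (.up 5 2022 4))) (.node (.leaf (.up 5 731 1)) (.leaf (.up 5 1740 3))))))))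

noncomputable def vt1_4_0101 : Tr VStep :=
  .node (.node (.node (.node (.node (.node (.node (.leaf (.up 4 283 1)) (.leaf (.up 5 1949 1))) (.node (.leaf (.up 5 884 0)) (.leaf (.up 5 1054 4)))) (.node (.node (.leaf (.up 4 352 1)) (.leaf (.up 5 2022 1))) (.node (.leaf (.up 6 1555 0)) (.leaf (.up 4 903 4))))) (.node (.node (.node (.leaf (.up 5 602 2)) (.leaf (.up 3 1460 3))) (.node (.leaf (.up 5 1476 1)) (.leaf (.up 4 834 1)))) (.node (.node (.leaf (.up 4 163 1)) (.leaf (.up 5 1884 3))) (.node (.leaf (.up 4 1475 2)) (.leaf (.up 3 825 1)))))) (.node (.node (.node (.node (.leaf (.up 5 178 2)) (.leaf (.up 5 1037 2))) (.node (.leaf (.up 5 859 1)) (.leaf (.up 4 1819 2)))) (.node (.node (.leaf (.up 5 1095 3)) (.leaf (.up 4 979 3))) (.node (.leaf (.up 6 800 1)) (.leaf (.up 5 1126 3))))) (.node (.node (.node (.leaf (.up 5 845 4)) (.leaf (.up 4 1695 3))) (.node (.leaf (.up 4 664 1)) (.leaf (.up 3 1752 2)))) (.node (.node (.leaf (.up 3 1236 4)) (.leaf (.up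 5 377 1))) (.node (.leaf (.up 5 1768 2)) (.leaf (.up 5 962 3))))))) (.node (.node (.node (.node (.node (.leaf (.up 6 774 2)) (.leaf (.up 5 420 3))) (.node (.leaf (.up 6 389 3)) (.leaf (.up 5 1453 4)))) (.node (.node (.leaf (.up 4 1738 0)) (.leaf (.up 5 1666 0))) (.node (.leaf (.up 4 877 3)) (.leaf (.up 5 1239 1))))) (.node (.node (.node (.leaf (.up 6 709 2)) (.leaf (.up 5 1658 2))) (.node (.leaf (.up 5 1569 3)) (.leaf (.up 5 1388 2)))) (.node (.node (.leaf (.up 5 1993 4)) (.leaf (.up 1 8 1))) (.node (.leaf (.up 5 1225 3)) (.leaf (.up 6 483 2)))))) (.node (.node (.node (.node (.leaf (.up 5 1307 3)) (.leaf (.up 5 1045 4))) (.node (.leaf (.up 4 1358 0)) (.leaf (.up 6 1795 4)))) (.node (.node (.leaf (.up 5 1674 0)) (.leaf (.up 6 103 3))) (.node (.leaf (.up 4 1819 4)) (.leaf (.up 5 779 2))))) (.node (.node (.node (.leaf (.up 6 425 1)) (.leaf (.up 5 1361 2))) (.node (.leaf (.up 6 1290 0)) (.leaf (.up 3 1346 0)))) (.node (.node (.leaf (.up 6 1742 0))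 (.leaf (.up 6 742 4))) (.node (.leaf (.up 5 1649 4)) (.leaf (.up 4 118 3)))))))) (.node (.node (.node (.node (.node (.node (.leaf (.up 4 1794 2)) (.leaf (.up 5 385 4))) (.node (.leaf (.up 2 729 0)) (.leaf (.up 5 663 4)))) (.node (.node (.leaf (.up 5 88 3)) (.leaf (.up 4 1996 3))) (.node (.leaf (.up 6 655 4)) (.leaf (.up 5 325 1))))) (.node (.node (.node (.leaf (.up 5 871 1)) (.leaf (.up 5 235 4))) (.node (.leaf (.up 6 669 0)) (.leaf (.up 2 725 0)))) (.node (.node (.leaf (.up 4 590 2)) (.leaf (.up 5 1906 4))) (.node (.leaf (.up 6 1536 1)) (.leaf (.up 4 1511 2)))))) (.node (.node (.node (.node (.leaf (.up 4 1065 2)) (.leaf (.up 4 150 2))) (.node (.leaf (.up 4 1976 4)) (.leaf (.up 3 721 0)))) (.node (.node (.leaf (.up 6 1411 1)) (.leaf (.up 5 773 1))) (.node (.leaf (.up 5 1222 3)) (.leaf (.up 5 1807 2))))) (.node (.node (.node (.leaf (.up 5 1476 4)) (.leaf (.up 5 341 2))) (.node (.leaf (.up 5 1788 2)) (.leaf (.up 5 661 0)))) (.node (.node (.leaf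 (.up 5 1239 3)) (.leaf (.up 3 1500 4))) (.node (.leaf (.up 5 627 2)) (.leaf (.up 4 1738 4))))))) (.node (.node (.node (.node (.node (.leaf (.up 5 260 3)) (.leaf (.up 5 802 2))) (.node (.leaf (.up 2 1187 0)) (.leaf (.up 6 1259 0)))) (.node (.node (.leaf (.up 6 1266 1)) (.leaf (.up 6 1963 4))) (.node (.leaf (.up 5 4 2)) (.leaf (.up 4 396 0))))) (.node (.node (.node (.leaf (.up 4 1630 2)) (.leaf (.up 6 308 3))) (.node (.leaf (.up 5 1487 4)) (.leaf (.up 4 590 4)))) (.node (.node (.leaf (.up 3 721 2)) (.leaf (.up 5 1646 2))) (.node (.leaf (.up 4 1021 3)) (.leaf (.up 5 1707 1)))))) (.node (.node (.node (.node (.leaf (.up 6 559 3)) (.leaf (.up 3 9 2))) (.node (.leaf (.up 5 1737 1)) (.leaf (.up 4 79 1)))) (.node (.node (.leaf (.up 4 199 3)) (.leaf (.up 2 1285 4))) (.node (.leaf (.up 5 815 2)) (.leaf (.up 6 460 0))))) (.node (.node (.node (.leaf (.up 4 534 1)) (.leaf (.up 4 1014 4))) (.node (.leaf (.up 5 1802 1)) (.leaf (.up 2 1450 3)))) (.node (.node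 (.leaf (.up 7 1006 4)) (.leaf (.up 6 1259 1))) (.node (.leaf (.up 7 248 4)) (.leaf (.up 5 392 0))))))))

noncomputable def vt1_4_010 : Tr VStep := .node vt1_4_0100 vt1_4_0101

noncomputable def vt1_4_0110 : Tr VStep :=
  .node (.node (.node (.node (.node (.node (.node (.leaf (.up 2 1163 4)) (.leaf (.up 5 287 0))) (.node (.leaf (.up 4 1719 2)) (.leaf (.up 3 520 2)))) (.node (.node (.leaf (.up 6 786 4)) (.leaf (.up 6 1171 4))) (.node (.leaf (.up 5 4 4)) (.leaf (.up 5 1464 1))))) (.node (.node (.node (.leaf (.up 5 1946 1)) (.leaf (.up 5 221 2))) (.node (.leaf (.up 4 1783 4)) (.leaf (.up 5 971 2)))) (.node (.node (.leaf (.up 5 237 2)) (.leaf (.up 5 359 1))) (.node (.leaf (.up 4 366 4)) (.leaf (.up 6 1860 2)))))) (.node (.node (.node (.node (.leaf (.up 4 261 1)) (.leaf (.up 5 565 2))) (.node (.leaf (.up 5 1331 4)) (.leaf (.up 5 2044 0)))) (.node (.node (.leaf (.up 4 1136 0)) (.leaf (.up 5 1722 2))) (.node (.leaf (.up 5 1061 3)) (.leaf (.up 5 1323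 4))))) (.node (.node (.node (.leaf (.up 5 1871 4)) (.leaf (.up 4 1014 2))) (.node (.leaf (.up 4 1498 1)) (.leaf (.up 4 1976 0)))) (.node (.node (.leaf (.up 5 966 2)) (.leaf (.up 6 1595 1))) (.node (.leaf (.up 4 897 3)) (.leaf (.up 5 1045 3))))))) (.node (.node (.node (.node (.node (.leaf (.up 6 1342 2)) (.leaf (.up 5 385 2))) (.node (.leaf (.up 4 1582 4)) (.leaf (.up 5 663 2)))) (.node (.node (.leaf (.up 5 433 2)) (.leaf (.up 6 1312 4))) (.node (.leaf (.up 5 1299 1)) (.leaf (.up 6 1590 4))))) (.node (.node (.node (.leaf (.up 5 1277 2)) (.leaf (.up 4 979 4))) (.node (.leaf (.up 4 458 0)) (.leaf (.up 4 557 1)))) (.node (.node (.leaf (.up 5 526 0)) (.leaf (.up 6 1866 1))) (.node (.leaf (.up 5 221 4)) (.leaf (.up 4 2011 2)))))) (.node (.node (.node (.node (.leaf (.up 5 1901 0)) (.leaf (.up 4 23 4))) (.node (.leaf (.up 5 462 0)) (.leaf (.up 4 444 2)))) (.node (.node (.leaf (.up 6 1875 1)) (.leaf (.up 5 578 0))) (.node (.leaf (.up 4 396 2)) (.leaf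 (.up 3 1176 4))))) (.node (.node (.node (.leaf (.up 5 1833 0)) (.leaf (.up 6 381 4))) (.node (.leaf (.up 5 394 0)) (.leaf (.up 5 450 0)))) (.node (.node (.leaf (.up 4 1920 3)) (.leaf (.up 5 518 0))) (.node (.leaf (.up 4 79 2)) (.leaf (.up 4 1189 0)))))))) (.node (.node (.node (.node (.node (.node (.leaf (.up 5 250 0)) (.leaf (.up 5 178 0))) (.node (.leaf (.up 3 722 3)) (.leaf (.up 5 1660 1)))) (.node (.node (.leaf (.up 4 1435 4)) (.leaf (.up 3 538 4))) (.node (.leaf (.up 5 830 0)) (.leaf (.up 3 540 2))))) (.node (.node (.node (.leaf (.up 3 872 4)) (.leaf (.up 4 675 1))) (.node (.leaf (.up 5 1007 2)) (.leaf (.up 5 1872 2)))) (.node (.node (.leaf (.up 5 1118 1)) (.leaf (.up 5 728 1))) (.node (.leaf (.up 3 322 1)) (.leaf (.up 5 10 3)))))) (.node (.node (.node (.node (.leaf (.up 5 529 2)) (.leaf (.up 6 1084 1))) (.node (.leaf (.up 5 1958 1)) (.leaf (.up 5 1464 2)))) (.node (.node (.leaf (.up 5 705 1)) (.leaf (.up 5 545 2))) (.node (.leaf (.up 5 1059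 4)) (.leaf (.up 6 347 1))))) (.node (.node (.node (.leaf (.up 6 454 4)) (.leaf (.up 4 182 0))) (.node (.leaf (.up 5 720 4)) (.leaf (.up 5 1361 4)))) (.node (.node (.leaf (.up 4 1885 2)) (.leaf (.up 6 994 2))) (.node (.leaf (.up 4 1099 2)) (.leaf (.up 4 882 0))))))) (.node (.node (.node (.node (.node (.leaf (.up 5 971 1)) (.leaf (.up 5 1306 2))) (.node (.leaf (.up 6 35 0)) (.leaf (.up 5 81 1)))) (.node (.node (.leaf (.up 5 944 1)) (.leaf (.up 4 405 2))) (.node (.leaf (.up 6 1708 1)) (.leaf (.up 6 1050 3))))) (.node (.node (.node (.leaf (.up 3 520 1)) (.leaf (.up 5 1676 0))) (.node (.leaf (.up 6 1812 1)) (.leaf (.up 5 1999 2)))) (.node (.node (.leaf (.up 3 1346 4)) (.leaf (.up 5 707 4))) (.node (.leaf (.up 5 1280 0)) (.leaf (.up 6 489 1)))))) (.node (.node (.node (.node (.leaf (.up 3 1728 0)) (.leaf (.up 5 1585 2))) (.node (.leaf (.up 5 521 4)) (.leaf (.up 5 1805 1)))) (.node (.node (.leaf (.up 5 1260 1)) (.leaf (.up 5 618 1))) (.node (.leaf (.up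 4 1303 2)) (.leaf (.up 5 529 4))))) (.node (.node (.node (.leaf (.up 5 1668 0)) (.leaf (.up 5 1740 0))) (.node (.leaf (.up 3 72 1)) (.leaf (.up 5 1250 4)))) (.node (.node (.leaf (.up 5 1986 2)) (.leaf (.up 6 937 1))) (.node (.leaf (.up 3 1236 2)) (.leaf (.up 6 1288 0))))))))

noncomputable def vt1_4_0111 : Tr VStep :=
  .node (.node (.node (.node (.node (.node (.node (.leaf (.up 2 1796 2)) (.leaf (.up 5 1097 3))) (.node (.leaf (.up 4 1042 2)) (.leaf (.up 4 105 1)))) (.node (.node (.leaf (.up 5 112 0)) (.leaf (.up 6 1818 4))) (.node (.leaf (.up 5 1664 3)) (.leaf (.up 5 276 3))))) (.node (.node (.node (.leaf (.up 4 1640 4)) (.leaf (.up 5 1307 0))) (.node (.leaf (.up 4 1406 4)) (.leaf (.up 4 1112 3)))) (.node (.node (.leaf (.up 5 497 4)) (.leaf (.up 4 1783 2))) (.node (.leaf (.up 6 743 4)) (.leaf (.up 5 1759 0)))))) (.node (.node (.node (.node (.leaf (.up 6 246 3)) (.leaf (.up 3 553 1))) (.node (.leaf (.up 3 1859 3)) (.leaf (.up 5 315 4)))) (.node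 (.node (.leaf (.up 3 1236 1)) (.leaf (.up 3 1460 4))) (.node (.leaf (.up 6 291 4)) (.leaf (.up 4 1698 4))))) (.node (.node (.node (.leaf (.up 3 1874 3)) (.leaf (.up 4 1371 0))) (.node (.leaf (.up 3 1786 2)) (.leaf (.up 5 81 4)))) (.node (.node (.leaf (.up 4 1303 1)) (.leaf (.up 3 1500 2))) (.node (.leaf (.up 5 629 2)) (.leaf (.up 4 1695 0))))))) (.node (.node (.node (.node (.node (.leaf (.up 4 1713 4)) (.leaf (.up 5 2045 3))) (.node (.leaf (.up 2 1165 2)) (.leaf (.up 3 72 3)))) (.node (.node (.leaf (.up 5 296 4)) (.leaf (.up 5 803 1))) (.node (.leaf (.up 6 185 1)) (.leaf (.up 5 1599 1))))) (.node (.node (.node (.leaf (.up 4 2011 4)) (.leaf (.up 4 865 0))) (.node (.leaf (.up 4 1358 2)) (.leaf (.up 5 497 2)))) (.node (.node (.leaf (.up 5 1317 3)) (.leaf (.up 4 1640 2))) (.node (.leaf (.up 5 378 1)) (.leaf (.up 4 1284 3)))))) (.node (.node (.node (.node (.leaf (.up 4 834 3)) (.leaf (.up 5 1238 3))) (.node (.leaf (.up 5 1958 2)) (.leaf (.up 4 867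 3)))) (.node (.node (.leaf (.up 3 63 2)) (.leaf (.up 7 1031 4))) (.node (.leaf (.up 4 144 4)) (.leaf (.up 6 1942 2))))) (.node (.node (.node (.leaf (.up 5 833 1)) (.leaf (.up 4 882 3))) (.node (.leaf (.up 5 1635 4)) (.leaf (.up 4 1410 0)))) (.node (.node (.leaf (.up 5 1550 0)) (.leaf (.up 4 1389 4))) (.node (.leaf (.up 6 443 3)) (.leaf (.up 5 1621 2)))))))) (.node (.node (.node (.node (.node (.node (.leaf (.up 6 76 1)) (.leaf (.up 4 1738 1))) (.node (.leaf (.up 6 860 3)) (.leaf (.up 5 982 1)))) (.node (.node (.leaf (.up 4 55 1)) (.leaf (.up 4 1713 1))) (.node (.leaf (.up 4 1284 4)) (.leaf (.up 6 645 4))))) (.node (.node (.node (.leaf (.up 5 845 3)) (.leaf (.up 4 1888 4))) (.node (.leaf (.up 6 1272 3)) (.leaf (.up 4 876 3)))) (.node (.node (.leaf (.up 6 421 3)) (.leaf (.up 5 1585 3))) (.node (.leaf (.up 5 1256 1)) (.leaf (.up 5 378 2)))))) (.node (.node (.node (.node (.leaf (.up 5 1274 0)) (.leaf (.up 4 1202 0))) (.node (.leaf (.up 4 119 3)) (.leaf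 (.up 3 1821 2)))) (.node (.node (.leaf (.up 6 1322 3)) (.leaf (.up 6 493 1))) (.node (.leaf (.up 6 631 1)) (.leaf (.up 5 914 2))))) (.node (.node (.node (.leaf (.up 6 102 3)) (.leaf (.up 4 1486 4))) (.node (.leaf (.up 5 2003 3)) (.leaf (.up 3 1752 4)))) (.node (.node (.leaf (.up 5 1528 2)) (.leaf (.up 5 46 1))) (.node (.leaf (.up 3 1728 4)) (.leaf (.up 6 593 2))))))) (.node (.node (.node (.node (.node (.leaf (.up 4 1885 3)) (.leaf (.up 5 231 1))) (.node (.leaf (.up 6 232 3)) (.leaf (.up 6 1531 1)))) (.node (.node (.leaf (.up 6 1953 4)) (.leaf (.up 5 545 3))) (.node (.leaf (.up 4 1207 4)) (.leaf (.up 6 332 0))))) (.node (.node (.node (.leaf (.up 5 707 2)) (.leaf (.up 5 1901 3))) (.node (.leaf (.up 5 1063 0)) (.leaf (.up 6 1135 0)))) (.node (.node (.leaf (.up 5 529 3)) (.leaf (.up 6 1413 3))) (.node (.leaf (.up 5 320 0)) (.leaf (.up 6 560 3)))))) (.node (.node (.node (.node (.leaf (.up 5 317 1)) (.leaf (.up 4 1303 4))) (.node (.leaf (.up 5 1059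 0)) (.leaf (.up 4 1111 3)))) (.node (.node (.leaf (.up 5 1295 4)) (.leaf (.up 3 27 2))) (.node (.leaf (.up 5 299 3)) (.leaf (.up 5 268 0))))) (.node (.node (.node (.leaf (.up 6 1020 4)) (.leaf (.up 6 1367 2))) (.node (.leaf (.up 6 1506 1)) (.leaf (.up 4 1011 3)))) (.node (.node (.leaf (.up 6 133 1)) (.leaf (.up 6 1539 1))) (.node (.leaf (.up 5 1649 2)) (.leaf (.up 4 283 3))))))))

noncomputable def vt1_4_011 : Tr VStep := .node vt1_4_0110 vt1_4_0111

noncomputable def vt1_4_01 : Tr VStep := .node vt1_4_010 vt1_4_011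

noncomputable def vt1_4_0 : Tr VStep := .node vt1_4_00 vt1_4_01

noncomputable def vt1_4_1000 : Tr VStep :=
  .node (.node (.node (.node (.node (.node (.node (.leaf (.root 250)) (.leaf (.up 5 1209 3))) (.node (.leaf (.up 3 1176 3)) (.leaf (.up 5 1662 4)))) (.node (.node (.leaf (.up 3 453 3)) (.leaf (.up 5 753 4))) (.node (.leaf (.up 5 1638 4)) (.leaf (.up 4 484 3))))) (.node (.node (.node (.leaf (.up 6 899 4)) (.leaf (.up 5 1280 2))) (.node (.leaf (.up 6 149 4)) (.leaf (.up 5 140 1)))) (.node (.node (.leaf (.up 4 877 1)) (.leaf (.up 6 923 4))) (.node (.leaf (.up 3 1804 4)) (.leaf (.up 4 665 2)))))) (.node (.node (.node (.node (.leaf (.up 3 6 3)) (.leaf (.up 5 2024 2))) (.node (.leaf (.up 4 65 2)) (.leaf (.up 5 39 3)))) (.node (.node (.leaf (.up 6 1522 1)) (.leaf (.up 3 1402 3))) (.node (.leaf (.up 4 1371 3)) (.leaf (.up 4 1640 1))))) (.node (.node (.node (.leaf (.up 5 301 4)) (.leaf (.up 6 1708 4))) (.node (.leaf (.up 4 23 3)) (.leaf (.up 5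 1341 2)))) (.node (.node (.leaf (.up 5 1073 1)) (.leaf (.up 5 1641 0))) (.node (.leaf (.up 5 301 1)) (.leaf (.up 5 434 2))))))) (.node (.node (.node (.node (.node (.leaf (.up 6 1272 1)) (.leaf (.up 5 1805 3))) (.node (.leaf (.up 4 484 1)) (.leaf (.up 4 979 0)))) (.node (.node (.leaf (.up 5 95 0)) (.leaf (.up 4 834 4))) (.node (.leaf (.up 5 1476 3)) (.leaf (.up 4 965 2))))) (.node (.node (.node (.leaf (.up 5 1339 1)) (.leaf (.up 5 1439 2))) (.node (.leaf (.up 5 39 1)) (.leaf (.up 6 1703 4)))) (.node (.node (.leaf (.up 3 1493 3)) (.leaf (.up 5 83 0))) (.node (.leaf (.up 5 1721 2)) (.leaf (.up 5 1524 3)))))) (.node (.node (.node (.node (.leaf (.up 5 968 2)) (.leaf (.up 6 1062 3))) (.node (.leaf (.up 5 1720 1)) (.leaf (.up 5 62 1)))) (.node (.node (.leaf (.up 5 31 0)) (.leaf (.up 6 1742 3))) (.node (.leaf (.up 3 1731 1)) (.leaf (.up 5 69 1))))) (.node (.node (.node (.leaf (.up 6 1046 3)) (.leaf (.up 4 898 3))) (.node (.leaf (.up 5 1915 1)) (.leaf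 (.up 4 1079 3)))) (.node (.node (.leaf (.up 3 540 1)) (.leaf (.up 5 19 0))) (.node (.leaf (.up 4 1784 0)) (.leaf (.up 5 301 2)))))))) (.node (.node (.node (.node (.node (.node (.leaf (.up 6 362 1)) (.leaf (.up 5 993 4))) (.node (.leaf (.up 4 2033 2)) (.leaf (.up 6 247 4)))) (.node (.node (.leaf (.up 5 1017 4)) (.leaf (.up 5 1239 2))) (.node (.leaf (.up 5 299 0)) (.leaf (.up 6 1744 3))))) (.node (.node (.node (.leaf (.up 6 1290 4)) (.leaf (.up 4 1065 3))) (.node (.leaf (.up 6 1461 1)) (.leaf (.up 6 819 1)))) (.node (.node (.leaf (.up 4 1996 0)) (.leaf (.up 6 1298 4))) (.node (.leaf (.up 4 1486 1)) (.leaf (.up 6 372 3)))))) (.node (.node (.node (.node (.leaf (.up 4 1996 2)) (.leaf (.up 5 176 1))) (.node (.leaf (.up 5 810 1)) (.leaf (.up 4 601 4)))) (.node (.node (.leaf (.up 4 343 4)) (.leaf (.up 4 203 1))) (.node (.leaf (.up 5 577 4)) (.leaf (.up 6 1258 2))))) (.node (.node (.node (.leaf (.up 4 150 3)) (.leaf (.up 4 1794 3))) (.node (.leaf (.up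 2 745 1)) (.leaf (.up 4 183 3)))) (.node (.node (.leaf (.up 6 1934 1)) (.leaf (.up 5 1980 4))) (.node (.leaf (.up 5 811 4)) (.leaf (.up 5 1321 2))))))) (.node (.node (.node (.node (.node (.leaf (.up 6 1173 0)) (.leaf (.up 4 199 2))) (.node (.leaf (.up 5 1733 4)) (.leaf (.up 4 1245 1)))) (.node (.node (.leaf (.up 6 498 0)) (.leaf (.up 3 721 3))) (.node (.leaf (.up 5 993 2)) (.leaf (.up 5 1757 4))))) (.node (.node (.node (.leaf (.up 3 9 3)) (.leaf (.up 5 260 2))) (.node (.leaf (.up 3 626 0)) (.leaf (.up 3 530 2)))) (.node (.node (.leaf (.up 4 438 0)) (.leaf (.up 6 1185 4))) (.node (.leaf (.up 5 546 2)) (.leaf (.up 4 1885 0)))))) (.node (.node (.node (.node (.leaf (.up 3 27 1)) (.leaf (.up 5 1693 1))) (.node (.leaf (.up 4 1131 4)) (.leaf (.up 4 897 1)))) (.node (.node (.leaf (.up 5 96 1)) (.leaf (.up 6 1893 4))) (.node (.leaf (.up 6 475 3)) (.leaf (.up 6 1139 4))))) (.node (.node (.node (.leaf (.up 5 802 3)) (.leaf (.up 6 559 2))) (.node (.leaf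 (.up 4 1220 1)) (.leaf (.up 5 578 1)))) (.node (.node (.leaf (.up 4 458 3)) (.leaf (.up 4 1630 3))) (.node (.leaf (.up 3 1215 1)) (.leaf (.up 3 1821 0))))))))

noncomputable def vt1_4_1001 : Tr VStep :=
  .node (.node (.node (.node (.node (.node (.node (.leaf (.up 2 729 2)) (.leaf (.up 4 1335 3))) (.node (.leaf (.up 4 1302 3)) (.leaf (.up 4 1253 1)))) (.node (.node (.leaf (.up 2 1796 1)) (.leaf (.up 2 745 2))) (.node (.leaf (.up 5 1344 2)) (.leaf (.up 5 511 2))))) (.node (.node (.node (.leaf (.up 5 1287 3)) (.leaf (.up 6 659 3))) (.node (.leaf (.up 5 12 2)) (.leaf (.up 6 1181 4)))) (.node (.node (.leaf (.up 5 545 0)) (.leaf (.up 4 65 1))) (.node (.leaf (.up 5 90 3)) (.leaf (.up 5 1998 3)))))) (.node (.node (.node (.node (.leaf (.up 5 392 3)) (.leaf (.up 4 1701 1))) (.node (.leaf (.up 4 481 0)) (.leaf (.up 5 1627 2)))) (.node (.node (.leaf (.up 4 1111 4)) (.leaf (.up 4 1758 1))) (.node (.leaf (.up 5 1857 4)) (.leaf (.up 5 192 4))))) (.node (.node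 (.node (.leaf (.up 6 676 4)) (.leaf (.up 4 1894 1))) (.node (.leaf (.up 5 434 4)) (.leaf (.up 4 1549 3)))) (.node (.node (.leaf (.up 4 1220 3)) (.leaf (.up 1 1 2))) (.node (.leaf (.up 6 1579 4)) (.leaf (.up 4 513 1))))))) (.node (.node (.node (.node (.node (.leaf (.up 4 376 0)) (.leaf (.up 3 1874 4))) (.node (.leaf (.up 2 336 2)) (.leaf (.up 6 310 3)))) (.node (.node (.leaf (.up 5 1737 2)) (.leaf (.up 4 203 4))) (.node (.leaf (.up 3 700 0)) (.leaf (.up 4 352 2))))) (.node (.node (.node (.leaf (.up 6 441 4)) (.leaf (.up 5 1850 2))) (.node (.leaf (.up 6 687 4)) (.leaf (.up 5 779 1)))) (.node (.node (.leaf (.up 5 1802 2)) (.leaf (.up 4 417 4))) (.node (.leaf (.up 5 1334 4)) (.leaf (.up 4 1146 3)))))) (.node (.node (.node (.node (.leaf (.up 3 572 3)) (.leaf (.up 5 1490 2))) (.node (.leaf (.up 5 1947 0)) (.leaf (.up 4 1770 4)))) (.node (.node (.leaf (.up 6 1119 0)) (.leaf (.up 6 613 4))) (.node (.leaf (.up 6 1889 3)) (.leaf (.up 6 371 4))))) (.node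 (.node (.node (.leaf (.up 4 791 4)) (.leaf (.up 5 1174 4))) (.node (.leaf (.up 1 1 4)) (.leaf (.up 4 1920 4)))) (.node (.node (.leaf (.up 5 1904 3)) (.leaf (.up 6 228 3))) (.node (.leaf (.up 5 1847 2)) (.leaf (.up 6 904 2)))))))) (.node (.node (.node (.node (.node (.node (.leaf (.up 5 1216 1)) (.leaf (.up 5 515 3))) (.node (.leaf (.up 5 546 3)) (.leaf (.up 4 68 0)))) (.node (.node (.leaf (.up 4 1919 3)) (.leaf (.up 4 2033 4))) (.node (.leaf (.up 5 870 4)) (.leaf (.up 4 1315 0))))) (.node (.node (.node (.leaf (.up 5 1921 2)) (.leaf (.up 4 1447 3))) (.node (.leaf (.up 3 72 0)) (.leaf (.up 1 0 0)))) (.node (.node (.leaf (.up 6 1400 1)) (.leaf (.up 5 1871 3))) (.node (.leaf (.up 4 100 1)) (.leaf (.up 5 250 3)))))) (.node (.node (.node (.node (.leaf (.up 5 1351 4)) (.leaf (.up 5 1306 1))) (.node (.leaf (.up 3 265 3)) (.leaf (.up 3 6 1)))) (.node (.node (.leaf (.up 5 486 2)) (.leaf (.up 6 1375 4))) (.node (.leaf (.up 5 993 3)) (.leaf (.up 6 125 1)))))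 (.node (.node (.node (.leaf (.up 5 607 1)) (.leaf (.up 5 1676 3))) (.node (.leaf (.up 1 8 0)) (.leaf (.up 3 453 1)))) (.node (.node (.leaf (.up 4 37 2)) (.leaf (.up 5 1077 4))) (.node (.leaf (.up 6 162 4)) (.leaf (.up 5 1827 4))))))) (.node (.node (.node (.node (.node (.leaf (.up 3 1571 3)) (.leaf (.up 4 1131 1))) (.node (.leaf (.up 4 2033 1)) (.leaf (.up 6 717 4)))) (.node (.node (.leaf (.up 5 594 2)) (.leaf (.up 5 1773 2))) (.node (.leaf (.up 2 725 4)) (.leaf (.up 5 268 1))))) (.node (.node (.node (.leaf (.up 5 1840 4)) (.leaf (.up 4 177 4))) (.node (.leaf (.up 6 1062 4)) (.leaf (.up 4 183 2)))) (.node (.node (.leaf (.up 5 913 2)) (.leaf (.up 6 1832 4))) (.node (.leaf (.up 6 1242 3)) (.leaf (.up 6 1086 4)))))) (.node (.node (.node (.node (.leaf (.up 6 1288 3)) (.leaf (.up 5 668 3))) (.node (.leaf (.up 6 1590 0)) (.leaf (.up 5 1321 3)))) (.node (.node (.leaf (.up 4 877 4)) (.leaf (.up 5 1260 4))) (.node (.leaf (.up 5 123 4)) (.leaf (.up 6 1744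 2))))) (.node (.node (.node (.leaf (.up 5 684 3)) (.leaf (.up 6 138 2))) (.node (.leaf (.up 4 366 1)) (.leaf (.up 3 265 4)))) (.node (.node (.leaf (.up 4 68 3)) (.leaf (.up 5 2000 3))) (.node (.leaf (.up 4 2033 3)) (.leaf (.up 6 1680 4))))))))

noncomputable def vt1_4_100 : Tr VStep := .node vt1_4_1000 vt1_4_1001

noncomputable def vt1_4_1010 : Tr VStep :=
  .node (.node (.node (.node (.node (.node (.node (.leaf (.up 4 898 0)) (.leaf (.up 5 1723 1))) (.node (.leaf (.up 5 1313 0)) (.leaf (.up 5 1365 3)))) (.node (.node (.leaf (.up 3 1765 0)) (.leaf (.up 1 8 3))) (.node (.leaf (.up 4 888 2)) (.leaf (.up 3 14 0))))) (.node (.node (.node (.leaf (.up 5 720 3)) (.leaf (.up 6 413 2))) (.node (.leaf (.up 5 1250 1)) (.leaf (.up 5 753 3)))) (.node (.node (.leaf (.up 5 913 4)) (.leaf (.up 5 1769 0))) (.node (.leaf (.up 5 1933 3)) (.leaf (.up 6 1798 4)))))) (.node (.node (.node (.node (.leaf (.up 4 1996 4)) (.leaf (.up 5 885 2))) (.node (.leaf (.up 5 637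 1)) (.leaf (.up 5 1321 0)))) (.node (.node (.leaf (.up 4 1701 0)) (.leaf (.up 5 2004 4))) (.node (.leaf (.up 3 6 0)) (.leaf (.up 5 1174 3))))) (.node (.node (.node (.leaf (.up 4 1698 1)) (.leaf (.up 6 295 4))) (.node (.leaf (.up 5 1317 0)) (.leaf (.up 4 1389 0)))) (.node (.node (.leaf (.up 2 319 4)) (.leaf (.up 5 95 1))) (.node (.leaf (.up 3 553 4)) (.leaf (.up 5 1347 1))))))) (.node (.node (.node (.node (.node (.leaf (.up 3 1728 3)) (.leaf (.up 4 150 1))) (.node (.leaf (.up 5 1896 2)) (.leaf (.up 5 983 2)))) (.node (.node (.leaf (.up 5 1064 3)) (.leaf (.up 4 1102 2))) (.node (.leaf (.up 6 94 4)) (.leaf (.up 5 2015 4))))) (.node (.node (.node (.leaf (.up 4 1469 2)) (.leaf (.up 3 570 4))) (.node (.leaf (.up 5 1709 4)) (.leaf (.up 3 532 2)))) (.node (.node (.leaf (.up 5 546 4)) (.leaf (.up 5 1443 4))) (.node (.leaf (.up 5 1081 3)) (.leaf (.up 6 1717 4)))))) (.node (.node (.node (.node (.leaf (.up 5 1464 0)) (.leaf (.up 6 1994 1))) (.node (.leaf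 (.up 5 795 0)) (.leaf (.up 6 744 4)))) (.node (.node (.leaf (.up 5 486 4)) (.leaf (.up 5 1969 1))) (.node (.leaf (.up 4 182 3)) (.leaf (.up 5 1826 3))))) (.node (.node (.node (.leaf (.up 6 1686 2)) (.leaf (.up 3 553 2))) (.node (.leaf (.up 5 1427 1)) (.leaf (.up 2 319 2)))) (.node (.node (.leaf (.up 5 140 4)) (.leaf (.up 3 1843 3))) (.node (.leaf (.up 7 1810 3)) (.leaf (.up 5 1051 4)))))))) (.node (.node (.node (.node (.node (.node (.leaf (.up 4 898 1)) (.leaf (.up 4 1284 1))) (.node (.leaf (.up 4 253 4)) (.leaf (.up 4 1220 0)))) (.node (.node (.leaf (.up 5 1017 1)) (.leaf (.up 4 1011 4))) (.node (.leaf (.up 3 1821 3)) (.leaf (.up 5 99 1))))) (.node (.node (.node (.leaf (.up 5 577 1)) (.leaf (.up 5 1280 4))) (.node (.leaf (.up 4 1885 1)) (.leaf (.up 5 1552 2)))) (.node (.node (.leaf (.up 3 570 1)) (.leaf (.up 4 665 4))) (.node (.leaf (.up 5 1550 4)) (.leaf (.up 6 487 0)))))) (.node (.node (.node (.node (.leaf (.up 5 325 4)) (.leaf (.up 6 1732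 4))) (.node (.leaf (.up 4 595 4)) (.leaf (.up 4 1156 0)))) (.node (.node (.leaf (.up 4 1189 1)) (.leaf (.up 4 865 2))) (.node (.leaf (.up 6 1482 4)) (.leaf (.up 4 119 2))))) (.node (.node (.node (.leaf (.up 4 1743 3)) (.leaf (.up 5 611 0))) (.node (.leaf (.up 1 1 1)) (.leaf (.up 5 1339 2)))) (.node (.node (.leaf (.up 5 1063 3)) (.leaf (.up 2 1796 0))) (.node (.leaf (.up 5 914 3)) (.leaf (.up 5 1788 1))))))) (.node (.node (.node (.node (.node (.leaf (.up 5 1455 1)) (.leaf (.up 4 809 1))) (.node (.leaf (.up 4 334 4)) (.leaf (.up 4 1743 4)))) (.node (.node (.leaf (.up 6 796 3)) (.leaf (.up 5 1160 3))) (.node (.leaf (.up 6 1916 2)) (.leaf (.up 6 342 4))))) (.node (.node (.node (.leaf (.up 6 1041 0)) (.leaf (.up 5 452 3))) (.node (.leaf (.up 6 560 2)) (.leaf (.up 5 1649 3)))) (.node (.node (.leaf (.up 5 1449 2)) (.leaf (.up 5 810 4))) (.node (.leaf (.up 5 1981 4)) (.leaf (.up 5 60 4)))))) (.node (.node (.node (.node (.leaf (.up 5 1045 0)) (.leaf (.up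 6 1911 4))) (.node (.leaf (.up 4 992 4)) (.leaf (.up 7 1127 2)))) (.node (.node (.leaf (.up 4 55 3)) (.leaf (.up 6 1038 1))) (.node (.leaf (.up 4 1111 2)) (.leaf (.up 6 232 2))))) (.node (.node (.node (.leaf (.up 5 1403 3)) (.leaf (.up 6 751 3))) (.node (.leaf (.up 4 283 2)) (.leaf (.up 6 1370 3)))) (.node (.node (.leaf (.up 5 1666 2)) (.leaf (.up 3 1485 1))) (.node (.leaf (.up 5 1299 4)) (.leaf (.up 5 299 2))))))))

noncomputable def vt1_4_1011 : Tr VStep :=
  .node (.node (.node (.node (.node (.node (.node (.leaf (.up 5 1274 3)) (.leaf (.up 4 1930 0))) (.node (.leaf (.up 6 139 1)) (.leaf (.up 3 636 4)))) (.node (.node (.leaf (.up 6 677 0)) (.leaf (.up 5 1779 4))) (.node (.leaf (.up 6 612 4)) (.leaf (.up 4 1102 0))))) (.node (.node (.node (.leaf (.up 5 1921 4)) (.leaf (.up 1 0 4))) (.node (.leaf (.up 5 1169 2)) (.leaf (.up 5 46 2)))) (.node (.node (.leaf (.up 4 438 3)) (.leaf (.up 6 1975 2))) (.node (.leaf (.up 6 1539 3)) (.leaf (.up 4 1167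 4)))))) (.node (.node (.node (.node (.leaf (.up 6 2001 3)) (.leaf (.up 5 69 3))) (.node (.leaf (.up 4 100 3)) (.leaf (.up 5 337 1)))) (.node (.node (.leaf (.up 4 688 1)) (.leaf (.up 6 1375 2))) (.node (.leaf (.up 4 758 2)) (.leaf (.up 5 1304 3))))) (.node (.node (.node (.leaf (.up 6 1196 2)) (.leaf (.up 5 1422 1))) (.node (.leaf (.up 5 1984 3)) (.leaf (.up 5 773 2)))) (.node (.node (.leaf (.up 6 35 2)) (.leaf (.up 2 745 0))) (.node (.leaf (.up 4 1320 3)) (.leaf (.up 3 700 3))))))) (.node (.node (.node (.node (.node (.leaf (.up 5 954 1)) (.leaf (.up 4 496 0))) (.node (.leaf (.up 3 1485 2)) (.leaf (.up 6 1903 3)))) (.node (.node (.leaf (.up 4 596 2)) (.leaf (.up 5 1351 1))) (.node (.leaf (.up 3 531 3)) (.leaf (.up 5 91 1))))) (.node (.node (.node (.leaf (.up 6 1816 2)) (.leaf (.up 5 435 4))) (.node (.leaf (.up 6 1038 2)) (.leaf (.up 4 203 3)))) (.node (.node (.leaf (.up 6 427 4)) (.leaf (.up 4 1156 1))) (.node (.leaf (.up 6 568 0)) (.leaf (.up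 6 1086 2)))))) (.node (.node (.node (.node (.leaf (.up 7 1125 3)) (.leaf (.up 4 1009 3))) (.node (.leaf (.up 6 1883 0)) (.leaf (.up 4 601 2)))) (.node (.node (.leaf (.up 4 1183 0)) (.leaf (.up 3 539 1))) (.node (.leaf (.up 3 572 0)) (.leaf (.up 4 1784 4))))) (.node (.node (.node (.leaf (.up 4 444 0)) (.leaf (.up 5 140 2))) (.node (.leaf (.up 4 57 1)) (.leaf (.up 4 992 3)))) (.node (.node (.leaf (.up 5 773 4)) (.leaf (.up 4 1156 4))) (.node (.leaf (.up 5 66 1)) (.leaf (.up 6 1732 1)))))))) (.node (.node (.node (.node (.node (.node (.leaf (.up 6 1576 1)) (.leaf (.up 5 174 1))) (.node (.leaf (.up 5 457 2)) (.leaf (.up 5 1007 3)))) (.node (.node (.leaf (.up 5 2043 4)) (.leaf (.up 5 213 1))) (.node (.leaf (.up 6 1350 2)) (.leaf (.up 2 1481 1))))) (.node (.node (.node (.leaf (.up 6 796 2)) (.leaf (.up 5 365 1))) (.node (.leaf (.up 5 10 2)) (.leaf (.up 4 1099 3)))) (.node (.node (.leaf (.up 5 1666 3)) (.leaf (.up 5 272 4))) (.node (.leaf (.up 7 1519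 0)) (.leaf (.up 4 1447 0)))))) (.node (.node (.node (.node (.leaf (.up 6 1583 0)) (.leaf (.up 6 2034 1))) (.node (.leaf (.up 5 1872 3)) (.leaf (.up 5 1627 4)))) (.node (.node (.leaf (.up 5 1365 4)) (.leaf (.up 5 452 2))) (.node (.leaf (.up 5 1464 3)) (.leaf (.up 3 722 2))))) (.node (.node (.node (.leaf (.up 4 183 1)) (.leaf (.up 3 1571 0))) (.node (.leaf (.up 5 176 4)) (.leaf (.up 4 813 1)))) (.node (.node (.leaf (.up 5 1087 4)) (.leaf (.up 5 1610 1))) (.node (.leaf (.up 3 540 3)) (.leaf (.up 4 1511 0))))))) (.node (.node (.node (.node (.node (.leaf (.up 5 5 1)) (.leaf (.up 6 2030 3))) (.node (.leaf (.up 5 711 4)) (.leaf (.up 5 91 3)))) (.node (.node (.leaf (.up 4 1743 2)) (.leaf (.up 4 1784 1))) (.node (.leaf (.up 6 977 0)) (.leaf (.up 5 921 0))))) (.node (.node (.node (.leaf (.up 5 81 0)) (.leaf (.up 5 1850 4))) (.node (.leaf (.up 6 1242 1)) (.leaf (.up 5 1722 0)))) (.node (.node (.leaf (.up 3 1804 2)) (.leaf (.up 3 1851 1))) (.node (.leaf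 (.up 6 1050 2)) (.leaf (.up 4 1303 3)))))) (.node (.node (.node (.node (.leaf (.up 5 895 4)) (.leaf (.up 6 479 1))) (.node (.leaf (.up 4 105 4)) (.leaf (.up 5 2024 4)))) (.node (.node (.leaf (.up 5 1826 1)) (.leaf (.up 3 1402 0))) (.node (.leaf (.up 5 913 0)) (.leaf (.up 4 113 4))))) (.node (.node (.node (.leaf (.up 3 1690 1)) (.leaf (.up 4 865 3))) (.node (.leaf (.up 4 259 4)) (.leaf (.up 3 1236 3)))) (.node (.node (.leaf (.up 4 1420 4)) (.leaf (.up 6 393 3))) (.node (.leaf (.up 3 1690 4)) (.leaf (.up 4 283 4))))))))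

noncomputable def vt1_4_101 : Tr VStep := .node vt1_4_1010 vt1_4_1011

noncomputable def vt1_4_10 : Tr VStep := .node vt1_4_100 vt1_4_101

noncomputable def vt1_4_1100 : Tr VStep :=
  .node (.node (.node (.node (.node (.node (.node (.leaf (.up 4 1630 0)) (.leaf (.up 6 1558 0))) (.node (.leaf (.up 4 888 1)) (.leaf (.up 5 499 4)))) (.node (.node (.leaf (.up 3 825 0)) (.leaf (.up 6 153 1))) (.node (.leaf (.up 6 634 2)) (.leaf (.up 5 1490 0))))) (.node (.node (.node (.leaf (.up 6 1038 4)) (.leaf (.up 5 911 4))) (.node (.leaf (.up 6 1816 4)) (.leaf (.up 6 1595 3)))) (.node (.node (.leaf (.up 4 2012 1)) (.leaf (.up 5 870 3))) (.node (.leaf (.up 5 839 3)) (.leaf (.up 6 1792 4)))))) (.node (.node (.node (.node (.leaf (.up 5 661 3)) (.leaf (.up 6 75 4))) (.node (.leaf (.up 6 1502 2)) (.leaf (.up 6 674 1)))) (.node (.node (.leaf (.up 5 83 4)) (.leaf (.up 4 1784 2))) (.node (.leaf (.up 4 837 4)) (.leaf (.up 2 729 1))))) (.node (.node (.node (.leaf (.up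 4 251 1)) (.leaf (.up 5 948 2))) (.node (.leaf (.up 4 1511 1)) (.leaf (.up 2 1296 3)))) (.node (.node (.leaf (.up 4 128 1)) (.leaf (.up 3 1851 2))) (.node (.leaf (.up 6 1436 1)) (.leaf (.up 5 1454 4))))))) (.node (.node (.node (.node (.node (.leaf (.up 5 1239 4)) (.leaf (.up 4 1743 1))) (.node (.leaf (.up 5 1365 1)) (.leaf (.up 2 725 2)))) (.node (.node (.leaf (.up 5 499 2)) (.leaf (.up 3 1231 4))) (.node (.leaf (.up 4 992 0)) (.leaf (.up 4 1626 2))))) (.node (.node (.node (.leaf (.up 3 1215 2)) (.leaf (.up 1 0 2))) (.node (.leaf (.up 3 539 3)) (.leaf (.up 5 1675 0)))) (.node (.node (.leaf (.up 5 1287 0)) (.leaf (.up 4 1167 2))) (.node (.leaf (.up 6 932 0)) (.leaf (.up 6 1715 4)))))) (.node (.node (.node (.node (.leaf (.up 4 100 0)) (.leaf (.up 6 403 1))) (.node (.leaf (.up 4 1345 2)) (.leaf (.up 4 1167 1)))) (.node (.node (.leaf (.up 5 728 2)) (.leaf (.up 6 1633 4))) (.node (.leaf (.up 3 626 1)) (.leaf (.up 7 1393 2))))) (.node (.node (.node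 (.leaf (.up 5 1940 2)) (.leaf (.up 5 811 2))) (.node (.leaf (.up 6 970 1)) (.leaf (.up 6 900 4)))) (.node (.node (.leaf (.up 5 1709 1)) (.leaf (.up 5 1295 0))) (.node (.leaf (.up 6 984 3)) (.leaf (.up 4 1335 1)))))))) (.node (.node (.node (.node (.node (.node (.leaf (.up 4 376 2)) (.leaf (.up 5 1979 0))) (.node (.leaf (.up 2 336 0)) (.leaf (.up 5 1745 2)))) (.node (.node (.leaf (.up 5 1122 3)) (.leaf (.up 4 1014 3))) (.node (.leaf (.up 4 1079 0)) (.leaf (.up 5 606 2))))) (.node (.node (.node (.leaf (.up 6 647 4)) (.leaf (.up 5 1722 3))) (.node (.leaf (.up 5 401 4)) (.leaf (.up 5 1552 4)))) (.node (.node (.leaf (.up 5 1310 4)) (.leaf (.up 4 664 0))) (.node (.leaf (.up 5 1826 2)) (.leaf (.up 6 393 4)))))) (.node (.node (.node (.node (.leaf (.up 4 595 2)) (.leaf (.up 5 565 3))) (.node (.leaf (.up 3 532 3)) (.leaf (.up 6 285 1)))) (.node (.node (.leaf (.up 5 724 0)) (.leaf (.up 4 1146 1))) (.node (.leaf (.up 6 2016 1)) (.leaf (.up 5 1896 3))))) (.node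 (.node (.node (.leaf (.up 5 912 2)) (.leaf (.up 6 1960 4))) (.node (.leaf (.up 5 1456 3)) (.leaf (.up 5 1081 2)))) (.node (.node (.leaf (.up 5 237 3)) (.leaf (.up 5 728 0))) (.node (.leaf (.up 3 1571 1)) (.leaf (.up 4 182 2))))))) (.node (.node (.node (.node (.node (.leaf (.up 4 1014 1)) (.leaf (.up 5 1392 1))) (.node (.leaf (.up 4 1770 1)) (.leaf (.up 5 1737 4)))) (.node (.node (.leaf (.up 5 2006 3)) (.leaf (.up 4 471 2))) (.node (.leaf (.up 5 1745 4)) (.leaf (.up 2 336 4))))) (.node (.node (.node (.leaf (.up 5 565 1)) (.leaf (.up 6 1205 4))) (.node (.leaf (.up 5 1833 1)) (.leaf (.up 5 1933 2)))) (.node (.node (.leaf (.up 4 590 1)) (.leaf (.up 5 20 2))) (.node (.leaf (.up 3 1874 1)) (.leaf (.up 5 770 2)))))) (.node (.node (.node (.node (.leaf (.up 5 1557 3)) (.leaf (.up 5 385 0))) (.node (.leaf (.up 4 438 1)) (.leaf (.up 5 1826 0)))) (.node (.node (.leaf (.up 5 1233 1)) (.leaf (.up 6 232 4))) (.node (.leaf (.up 5 1365 2)) (.leaf (.up 6 1022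 4))))) (.node (.node (.node (.leaf (.up 5 410 4)) (.leaf (.up 3 453 0))) (.node (.leaf (.up 6 1838 0)) (.leaf (.up 4 1894 0)))) (.node (.node (.leaf (.up 4 1920 2)) (.leaf (.up 4 386 4))) (.node (.leaf (.up 3 14 1)) (.leaf (.up 4 888 3))))))))

noncomputable def vt1_4_1101 : Tr VStep :=
  .node (.node (.node (.node (.node (.node (.node (.leaf (.up 5 1773 4)) (.leaf (.up 4 364 4))) (.node (.leaf (.up 6 1531 4)) (.leaf (.up 6 84 1)))) (.node (.node (.leaf (.up 5 728 3)) (.leaf (.up 5 1331 1))) (.node (.leaf (.up 4 1389 3)) (.leaf (.up 5 761 3))))) (.node (.node (.node (.leaf (.up 5 602 0)) (.leaf (.up 1 0 3))) (.node (.leaf (.up 5 1169 4)) (.leaf (.up 4 784 4)))) (.node (.node (.leaf (.up 6 630 1)) (.leaf (.up 5 1264 1))) (.node (.leaf (.up 6 1898 1)) (.leaf (.up 5 1443 2)))))) (.node (.node (.node (.node (.leaf (.up 5 795 3)) (.leaf (.up 3 532 1))) (.node (.leaf (.up 5 1198 3)) (.leaf (.up 6 1800 1)))) (.node (.node (.leaf (.up 5 499 3)) (.leaf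 (.up 6 1115 4))) (.node (.leaf (.up 5 410 0)) (.leaf (.up 6 1869 4))))) (.node (.node (.node (.leaf (.up 3 538 0)) (.leaf (.up 5 983 1))) (.node (.leaf (.up 5 1209 0)) (.leaf (.up 5 1182 3)))) (.node (.node (.leaf (.up 4 688 4)) (.leaf (.up 4 1329 4))) (.node (.leaf (.up 4 567 2)) (.leaf (.up 5 1575 4))))))) (.node (.node (.node (.node (.node (.leaf (.up 6 1507 1)) (.leaf (.up 5 870 2))) (.node (.leaf (.up 3 1231 2)) (.leaf (.up 5 112 2)))) (.node (.node (.leaf (.up 4 199 4)) (.leaf (.up 4 1784 3))) (.node (.leaf (.up 4 64 2)) (.leaf (.up 5 333 3))))) (.node (.node (.node (.leaf (.up 6 1562 2)) (.leaf (.up 5 678 1))) (.node (.leaf (.up 6 917 3)) (.leaf (.up 4 675 4)))) (.node (.node (.leaf (.up 5 661 2)) (.leaf (.up 6 733 1))) (.node (.leaf (.up 5 387 2)) (.leaf (.up 5 1769 3)))))) (.node (.node (.node (.node (.leaf (.up 6 1266 2)) (.leaf (.up 3 1851 3))) (.node (.leaf (.up 6 1818 3)) (.leaf (.up 5 359 4)))) (.node (.node (.leaf (.up 6 583 3))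 (.leaf (.up 6 1491 3))) (.node (.leaf (.up 6 383 4)) (.leaf (.up 5 2004 2))))) (.node (.node (.node (.leaf (.up 4 1329 2)) (.leaf (.up 5 795 4))) (.node (.leaf (.up 5 707 0)) (.leaf (.up 4 664 2)))) (.node (.node (.leaf (.up 6 1507 3)) (.leaf (.up 6 1281 2))) (.node (.leaf (.up 5 21 4)) (.leaf (.up 5 1940 4)))))))) (.node (.node (.node (.node (.node (.node (.leaf (.up 2 1796 3)) (.leaf (.up 4 144 3))) (.node (.leaf (.up 2 1296 0)) (.leaf (.up 4 1267 4)))) (.node (.node (.leaf (.up 3 1874 2)) (.leaf (.up 4 124 4))) (.node (.leaf (.up 4 1302 1)) (.leaf (.up 3 1485 3))))) (.node (.node (.node (.leaf (.up 5 434 1)) (.leaf (.up 6 1679 4))) (.node (.leaf (.up 5 1198 1)) (.leaf (.up 6 1433 4)))) (.node (.node (.leaf (.up 5 457 1)) (.leaf (.up 3 1500 3))) (.node (.leaf (.up 5 51 0)) (.leaf (.up 4 595 1)))))) (.node (.node (.node (.node (.leaf (.up 4 1011 0)) (.leaf (.up 5 1097 2))) (.node (.leaf (.up 4 992 2)) (.leaf (.up 4 1207 1)))) (.node (.node (.leaf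 (.up 5 1363 4)) (.leaf (.up 3 722 4))) (.node (.leaf (.up 4 55 0)) (.leaf (.up 5 452 4))))) (.node (.node (.node (.leaf (.up 5 1774 1)) (.leaf (.up 6 1055 3))) (.node (.leaf (.up 4 182 4)) (.leaf (.up 5 1372 0)))) (.node (.node (.leaf (.up 5 1081 4)) (.leaf (.up 4 1783 3))) (.node (.leaf (.up 6 1750 3)) (.leaf (.up 3 531 2))))))) (.node (.node (.node (.node (.node (.leaf (.up 2 1481 0)) (.leaf (.up 5 2045 2))) (.node (.leaf (.up 5 773 3)) (.leaf (.up 5 1344 4)))) (.node (.node (.leaf (.up 4 1997 2)) (.leaf (.up 4 882 2))) (.node (.leaf (.up 4 1549 0)) (.leaf (.up 2 729 4))))) (.node (.node (.node (.leaf (.up 6 189 4)) (.leaf (.up 5 281 1))) (.node (.leaf (.up 6 407 2)) (.leaf (.up 4 1320 2)))) (.node (.node (.leaf (.up 5 1828 4)) (.leaf (.up 4 1640 3))) (.node (.leaf (.up 5 1304 2)) (.leaf (.up 4 947 4)))))) (.node (.node (.node (.node (.leaf (.up 4 105 2)) (.leaf (.up 5 1238 2))) (.node (.leaf (.up 5 46 3)) (.leaf (.up 5 1984 2)))) (.node (.node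 (.leaf (.up 6 238 0)) (.leaf (.up 4 865 4))) (.node (.leaf (.up 5 710 3)) (.leaf (.up 4 119 4))))) (.node (.node (.node (.leaf (.up 3 531 4)) (.leaf (.up 5 1301 2))) (.node (.leaf (.up 3 700 2)) (.leaf (.up 5 1668 4)))) (.node (.node (.leaf (.up 5 1317 2)) (.leaf (.up 5 1347 3))) (.node (.leaf (.up 5 1545 0)) (.leaf (.up 4 758 3))))))))

noncomputable def vt1_4_110 : Tr VStep := .node vt1_4_1100 vt1_4_1101

noncomputable def vt1_4_1110 : Tr VStep :=
  .node (.node (.node (.node (.node (.node (.node (.leaf (.up 5 2023 3)) (.leaf (.up 6 1750 0))) (.node (.leaf (.up 5 82 3)) (.leaf (.up 4 1814 1)))) (.node (.node (.leaf (.up 5 1295 3)) (.leaf (.up 4 334 2))) (.node (.leaf (.up 5 1767 2)) (.leaf (.up 4 481 4))))) (.node (.node (.node (.leaf (.up 6 1359 1)) (.leaf (.up 5 1026 2))) (.node (.leaf (.up 5 83 1)) (.leaf (.up 6 1812 2)))) (.node (.node (.leaf (.up 7 1052 4)) (.leaf (.up 6 1013 0))) (.node (.leaf (.up 3 40 1)) (.leaf (.up 6 139 4)))))) (.node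 (.node (.node (.node (.leaf (.up 4 65 4)) (.leaf (.up 4 1770 2))) (.node (.leaf (.up 5 855 4)) (.leaf (.up 5 1238 4)))) (.node (.node (.leaf (.up 6 1754 2)) (.leaf (.up 4 1009 0))) (.node (.leaf (.up 4 1719 1)) (.leaf (.up 6 371 2))))) (.node (.node (.node (.leaf (.up 3 531 1)) (.leaf (.up 5 1833 2))) (.node (.leaf (.up 4 1245 3)) (.leaf (.up 4 113 0)))) (.node (.node (.leaf (.up 4 1021 0)) (.leaf (.up 5 1262 1))) (.node (.leaf (.up 5 1589 3)) (.leaf (.up 4 1302 0))))))) (.node (.node (.node (.node (.node (.leaf (.up 4 481 2)) (.leaf (.up 4 1245 4))) (.node (.leaf (.up 5 759 2)) (.leaf (.up 4 1551 0)))) (.node (.node (.leaf (.up 5 1723 3)) (.leaf (.up 5 1116 1))) (.node (.leaf (.up 5 2003 4)) (.leaf (.up 3 1690 3))))) (.node (.node (.node (.leaf (.up 6 34 2)) (.leaf (.up 6 232 0))) (.node (.leaf (.up 5 1662 1)) (.leaf (.up 5 982 3)))) (.node (.node (.leaf (.up 5 287 3)) (.leaf (.up 3 558 4))) (.node (.leaf (.up 5 1721 4)) (.leaf (.up 7 312 4))))))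 (.node (.node (.node (.node (.leaf (.up 5 714 2)) (.leaf (.up 6 1651 4))) (.node (.leaf (.up 5 1543 0)) (.leaf (.up 6 1381 4)))) (.node (.node (.leaf (.up 4 1475 0)) (.leaf (.up 6 762 2))) (.node (.leaf (.up 4 1405 4)) (.leaf (.up 6 1564 1))))) (.node (.node (.node (.leaf (.up 4 224 0)) (.leaf (.up 5 1817 4))) (.node (.leaf (.up 5 31 2)) (.leaf (.up 4 253 3)))) (.node (.node (.leaf (.up 5 1793 4)) (.leaf (.up 3 825 2))) (.node (.leaf (.up 6 345 1)) (.leaf (.up 4 876 0)))))))) (.node (.node (.node (.node (.node (.node (.leaf (.up 3 1843 0)) (.leaf (.up 5 1915 0))) (.node (.leaf (.up 4 1894 3)) (.leaf (.up 6 242 3)))) (.node (.node (.leaf (.up 4 596 0)) (.leaf (.up 3 540 0))) (.node (.leaf (.up 3 636 2)) (.leaf (.up 3 538 3))))) (.node (.node (.node (.leaf (.up 5 1776 1)) (.leaf (.up 4 118 1))) (.node (.leaf (.up 4 194 3)) (.leaf (.up 5 911 2)))) (.node (.node (.leaf (.up 5 661 4)) (.leaf (.up 6 13 1))) (.node (.leaf (.up 5 387 4)) (.leaf (.up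 6 1792 2)))))) (.node (.node (.node (.node (.leaf (.up 6 1736 4)) (.leaf (.up 3 1851 0))) (.node (.leaf (.up 5 464 0)) (.leaf (.up 5 359 2)))) (.node (.node (.leaf (.up 3 532 0)) (.leaf (.up 5 1668 3))) (.node (.leaf (.up 4 343 2)) (.leaf (.up 6 1279 0))))) (.node (.node (.node (.leaf (.up 5 1805 2)) (.leaf (.up 4 1919 0))) (.node (.leaf (.up 4 1200 1)) (.leaf (.up 6 476 0)))) (.node (.node (.leaf (.up 3 59 4)) (.leaf (.up 6 1978 4))) (.node (.leaf (.up 4 813 4)) (.leaf (.up 5 589 1))))))) (.node (.node (.node (.node (.node (.leaf (.up 3 1402 2)) (.leaf (.up 3 453 2))) (.node (.leaf (.up 3 1731 4)) (.leaf (.up 3 322 4)))) (.node (.node (.leaf (.up 6 357 1)) (.leaf (.up 3 1485 4))) (.node (.leaf (.up 6 1145 1)) (.leaf (.up 4 1628 2))))) (.node (.node (.node (.leaf (.up 3 1215 4)) (.leaf (.up 3 6 2))) (.node (.leaf (.up 5 1961 4)) (.leaf (.up 3 40 4)))) (.node (.node (.leaf (.up 6 806 4)) (.leaf (.up 7 1568 1))) (.node (.leaf (.up 6 800 2)) (.leaf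 (.up 5 1969 4)))))) (.node (.node (.node (.node (.leaf (.up 3 265 0)) (.leaf (.up 5 250 4))) (.node (.leaf (.up 5 1351 2)) (.leaf (.up 6 1496 1)))) (.node (.node (.leaf (.up 6 676 3)) (.leaf (.up 6 1062 0))) (.node (.leaf (.up 6 1297 3)) (.leaf (.up 5 1443 1))))) (.node (.node (.node (.leaf (.up 5 1921 1)) (.leaf (.up 4 813 2))) (.node (.leaf (.up 4 1156 2)) (.leaf (.up 3 59 2)))) (.node (.node (.leaf (.up 5 1280 3)) (.leaf (.up 5 1545 4))) (.node (.leaf (.up 6 742 1)) (.leaf (.up 4 1204 2))))))))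

noncomputable def vt1_4_1111 : Tr VStep :=
  .node (.node (.node (.node (.node (.node (.node (.leaf (.up 5 1641 3)) (.leaf (.up 5 1767 4))) (.node (.leaf (.up 6 1082 1)) (.leaf (.up 3 700 1)))) (.node (.node (.leaf (.up 6 1153 3)) (.leaf (.up 4 2011 1))) (.node (.leaf (.up 6 820 3)) (.leaf (.up 4 253 2))))) (.node (.node (.node (.leaf (.up 5 12 4)) (.leaf (.up 3 722 0))) (.node (.leaf (.up 5 1081 0)) (.leaf (.up 5 895 1)))) (.node (.node (.leaf (.up 5 2045 0)) (.leaf (.up 5 20 4))) (.node (.leaf (.up 4 1410 1)) (.leaf (.up 5 770 4)))))) (.node (.node (.node (.node (.leaf (.up 3 1346 3)) (.leaf (.up 5 1097 4))) (.node (.leaf (.up 5 870 1)) (.leaf (.up 6 1504 1)))) (.node (.node (.leaf (.up 6 1537 1)) (.leaf (.up 5 192 2))) (.node (.leaf (.up 5 31 3)) (.leaf (.up 4 1435 1))))) (.node (.node (.node (.leaf (.up 6 674 4)) (.leaf (.up 2 319 1))) (.node (.leaf (.up 5 1363 3)) (.leaf (.up 3 1690 2)))) (.node (.node (.leaf (.up 3 14 3)) (.leaf (.up 4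 259 2))) (.node (.leaf (.up 5 1979 3)) (.leaf (.up 4 1112 1))))))) (.node (.node (.node (.node (.node (.leaf (.up 5 213 4)) (.leaf (.up 5 2043 2))) (.node (.leaf (.up 5 535 1)) (.leaf (.up 5 1169 1)))) (.node (.node (.leaf (.up 5 1904 1)) (.leaf (.up 5 884 2))) (.node (.leaf (.up 4 1245 2)) (.leaf (.up 6 1258 1))))) (.node (.node (.node (.leaf (.up 6 1736 1)) (.leaf (.up 5 1517 3))) (.node (.leaf (.up 5 401 2)) (.leaf (.up 4 1320 4)))) (.node (.node (.leaf (.up 6 1715 1)) (.leaf (.up 4 1797 3))) (.node (.leaf (.up 5 1310 2)) (.leaf (.up 4 689 4)))))) (.node (.node (.node (.node (.leaf (.up 6 635 4)) (.leaf (.up 5 1745 1))) (.node (.leaf (.up 5 365 4)) (.leaf (.up 5 973 1)))) (.node (.node (.leaf (.up 5 387 0)) (.leaf (.up 5 906 3))) (.node (.leaf (.up 6 939 3)) (.leaf (.up 5 1896 0))))) (.node (.node (.node (.leaf (.up 6 785 4)) (.leaf (.up 5 1734 3))) (.node (.leaf (.up 5 1160 1)) (.leaf (.up 5 526 1)))) (.node (.node (.leaf (.up 4 1315 2))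 (.leaf (.up 6 777 4))) (.node (.leaf (.up 4 1267 1)) (.leaf (.up 5 31 4)))))))) (.node (.node (.node (.node (.node (.node (.leaf (.up 4 665 1)) (.leaf (.up 5 110 4))) (.node (.leaf (.up 5 1768 3)) (.leaf (.up 4 888 4)))) (.node (.node (.leaf (.up 4 118 4)) (.leaf (.up 4 1628 0))) (.node (.leaf (.up 4 183 0)) (.leaf (.up 4 376 1))))) (.node (.node (.node (.leaf (.up 4 1785 3)) (.leaf (.up 3 572 2))) (.node (.leaf (.up 5 1429 2)) (.leaf (.up 3 530 4)))) (.node (.node (.leaf (.up 6 1041 3)) (.leaf (.up 4 1447 1))) (.node (.leaf (.up 6 932 3)) (.leaf (.up 6 1445 2)))))) (.node (.node (.node (.node (.leaf (.up 4 1131 2)) (.leaf (.up 5 835 1))) (.node (.leaf (.up 4 1475 3)) (.leaf (.up 5 962 2)))) (.node (.node (.leaf (.up 5 728 4)) (.leaf (.up 5 1802 3))) (.node (.leaf (.up 5 462 4)) (.leaf (.up 6 1869 2))))) (.node (.node (.node (.leaf (.up 5 1490 3)) (.leaf (.up 5 279 2))) (.node (.leaf (.up 6 282 1)) (.leaf (.up 4 513 2)))) (.node (.node (.leaf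 (.up 5 1850 3)) (.leaf (.up 4 763 1))) (.node (.leaf (.up 6 143 3)) (.leaf (.up 4 251 0))))))) (.node (.node (.node (.node (.node (.leaf (.up 2 745 3)) (.leaf (.up 4 1405 3))) (.node (.leaf (.up 5 1225 2)) (.leaf (.up 4 118 2)))) (.node (.node (.leaf (.up 1 1 3)) (.leaf (.up 5 1604 4))) (.node (.leaf (.up 5 70 2)) (.leaf (.up 5 1877 1))))) (.node (.node (.node (.leaf (.up 6 1564 2)) (.leaf (.up 2 729 3))) (.node (.leaf (.up 6 1290 2)) (.leaf (.up 5 1388 3)))) (.node (.node (.leaf (.up 6 659 2)) (.leaf (.up 5 906 1))) (.node (.leaf (.up 6 389 2)) (.leaf (.up 6 1686 1)))))) (.node (.node (.node (.node (.leaf (.up 5 450 3)) (.leaf (.up 6 75 2))) (.node (.leaf (.up 6 1002 0)) (.leaf (.up 6 483 3)))) (.node (.node (.leaf (.up 5 46 0)) (.leaf (.up 4 1220 2))) (.node (.leaf (.up 4 877 2)) (.leaf (.up 3 9 1))))) (.node (.node (.node (.leaf (.up 4 555 1)) (.leaf (.up 5 392 2))) (.node (.leaf (.up 5 1569 2)) (.leaf (.up 5 998 0)))) (.node (.node (.leaf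 (.up 4 513 4)) (.leaf (.up 5 1287 2))) (.node (.leaf (.up 5 279 4)) (.leaf (.up 4 458 1))))))))

noncomputable def vt1_4_111 : Tr VStep := .node vt1_4_1110 vt1_4_1111

noncomputable def vt1_4_11 : Tr VStep := .node vt1_4_110 vt1_4_111

noncomputable def vt1_4_1 : Tr VStep := .node vt1_4_10 vt1_4_11

noncomputable def vt1_4_ : Tr VStep := .node vt1_4_0 vt1_4_1

noncomputable def roots1 : List Root := [⟨0,[⟨[10],11152199042298060958389361026656404611538978,0,11152199042298060958389361026656404611538978,[110,140,241]⟩,⟨[51],14511078810083938771384075211385188023011111,617,11151811283840434260073641086818772239517479,[88,55,103,146]⟩,⟨[9],11151549259152299599999446172586798465933980,0,11151549259152299599999446172586798465933980,[57,56,89,33]⟩,⟨[5],11152190985263823847931674234978491437170700,0,11152190985263823847931674234978491437170700,[0]⟩],vt1_0_⟩,⟨1,[⟨[5,18],17482443138812427542876854149299186611374025,1689,11150468855147604614750379454208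843732600777,[57,56,104,236]⟩,⟨[5,51,5],17614630580304778924899845650107665173050591,1187,11151987867742315626803435105763523301078239,[110,116,186]⟩,⟨[18,18,5],20348742625582665303555455889289189899449780,1163,11152951941911224266921220498053085753062836,[88,94,43,3]⟩,⟨[18,5,18,5],20347524578578220720156430733046345719881729,1689,11151733894906779683522195341810241573494785,[]⟩,⟨[9,5,9,10,5],11151459129910108509908407185843991527217097,0,11151459129910108509908407185843991527217097,[87,110,43,117]⟩,⟨[5,10,51,5,10,51],14391171517310157143761815318595832114055092,595,11151683384222822971590489055845398740993972,[88,93,104,173]⟩,⟨[10,51,18,10,51,10],21816279363841916110238308939422009744164063,1713,11150468855072020911442295244080666924287199,[87,55,104,233]⟩,⟨[10,9,18,18,51,9,51],16986940261596638186882239392691943890080257,22,11150417104168701661558438126022255527186945,[87,43,72]⟩],vt1_1_⟩,⟨4,[⟨[5,18,5,18],14037328366396337853691612012831636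006641665,530,11151733894906779683522195341810241573494785,[]⟩,⟨[18,5,18,5],20347524578578220720156430733046345719881729,1689,11151733894906779683522195341810241573494785,[]⟩,⟨[10,5,18,5,18,10],18975506075152996835472104315881456291291137,1437,11151733894906779683522195341810241573494785,[]⟩,⟨[51,5,51,18,18,18],15562772851055586242208618918716313601844184,810,11152713375760223755723284006400597581374424,[88,94,155]⟩,⟨[5,10,9,5,51,9],15081690833250683577198207988271643266569197,786,11150748930580002447269304523219856887829485,[88,56,176,168]⟩,⟨[18,9,51,9,18,10,18],15223998346810209636650988152100302302246760,274,11151498979500418105921320850356900347541352,[88,94,89,105]⟩],vt1_2_⟩,⟨7,[⟨[9],11151549259152299599999446172586798465933980,0,11151549259152299599999446172586798465933980,[88,116,242]⟩,⟨[10],11152199042298060958389361026656404611538978,0,11152199042298060958389361026656404611538978,[88,90,209]⟩,⟨[51,51],11152923644313013836395118741877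947752830856,0,11152923644313013836395118741877947752830856,[87,55,44,75]⟩,⟨[51,9,51],19700739613247685326142747753905382103798618,1570,11152846556193711123942777615219364632023898,[87,110,123,10]⟩,⟨[5,9,5],11152592834498294361994497471830407829459669,0,11152592834498294361994497471830407829459669,[55,90,198]⟩,⟨[18,9,51,18],17613915763962380611007161662057641174061454,1693,11151273051399917312910751117713499302089102,[93,123,129]⟩],vt1_3_⟩,⟨15,[⟨[5,18],17482443138812427542876854149299186611374025,1689,11150468855147604614750379454208843732600777,[57,93,116,9]⟩,⟨[5,9,5],11152592834498294361994497471830407829459669,0,11152592834498294361994497471830407829459669,[88,93,116,220]⟩,⟨[5,51,5],17614630580304778924899845650107665173050591,1187,11151987867742315626803435105763523301078239,[87,56,90,205]⟩,⟨[18,18,5],20348742625582665303555455889289189899449780,1163,11152951941911224266921220498053085753062836,[110,42,136]⟩,⟨[51,10,51,10],17495789622175270524702760934532958056404580,1165,11152926302768977565745458252004798594864740,[110,44,224]⟩],vt1_4_⟩]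

noncomputable def sel1_000 : Tr (ℕ × ℕ × ℕ) :=
  .node (.node (.node (.node (.node (.node (.node (.leaf (11152190985263823847931674234978491437170700,5,0)) (.leaf (21170626782533350805621715036688016450053433,382,4))) (.node (.leaf (20722140826767379820444663170296015952609789,140,8)) (.leaf (11150585874185770897955156958133201711820944,766,767)))) (.node (.node (.leaf (11237773638912659466717013539473447752320995,44,8)) (.leaf (11153022293692754649458909194411894002717944,572,552))) (.leaf (11974929012076088353350964740563683943806824,219,0)))) (.node (.node (.node (.leaf (18867007839997081437768493621400817452982304,26,3)) (.leaf (11153040887290674056903677653641295058216548,539,552))) (.leaf (15103858758844019673967764463320119218554368,175,1))) (.node (.node (.leaf (19786069312215525985733261188465958913086691,78,1)) (.leaf (11152893128495874478020737341089426344928551,664,552))) (.leaf (17000400719641404595193351021692218100434494,271,3)))))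 (.node (.node (.node (.node (.leaf (21816511999260642428173164828519259564851713,16,3)) (.leaf (11152767137416778493780353258736802002108534,532,1))) (.leaf (20842007149740884809796533701393733329462274,156,4))) (.node (.node (.leaf (17826251652602835573534120694869303252070840,59,0)) (.leaf (11150688212409768126650599909909955058782669,612,1))) (.leaf (18614892221996936239678499894390726402883766,240,8)))) (.node (.node (.node (.leaf (15365096996728503492759830049982810481148187,35,1)) (.leaf (11150379885789181908387280869326407330173808,562,1))) (.leaf (19911557686671407140758045553456490686869648,196,4))) (.node (.node (.leaf (11755358947814826852352155837534095955272200,103,4)) (.leaf (14512004827955939180621950121443734734828385,2,711))) (.leaf (15784783294893664494773332117769620082628456,310,1)))))) (.node (.node (.node (.node (.node (.leaf (22235836420827123990519677885613089658368288,9,4)) (.leaf (11151179612026137241477342952441106632099571,6,8)))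 (.leaf (11950727986124181188739910735896091637597479,146,3))) (.node (.node (.leaf (16036721690312642681477613707703507730642117,50,4)) (.leaf (11150701330790381311965456713113852453819497,592,8))) (.leaf (15582531903593736253919487636590590924242949,230,8)))) (.node (.node (.node (.leaf (21190847900647214304221546981043362947428943,30,4)) (.leaf (11150383521668044905778622640641009872873404,555,1))) (.leaf (18636760616513897305708324728170086390775968,188,1))) (.node (.node (.leaf (12304716788569689519244008476751601320212090,88,1)) (.leaf (11151158173660175720185677137177723162718209,718,718))) (.leaf (16339829515851456771366003701467572446946289,288,8))))) (.node (.node (.node (.node (.leaf (21753150359178353975538409724670178825619427,22,3)) (.leaf (11151844311180414909767281690184339213045821,520,552))) (.leaf (12533770679162489882804080551165463515883053,166,3))) (.node (.node (.leaf (14945892766726325827946636326083366702315452,67,1))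 (.leaf (11152690876214843628129208763317938135790764,636,1))) (.leaf (12900496819817400653940848436640770539127866,254,1)))) (.node (.node (.node (.leaf (17935932932722348999813908567374183855059612,39,8)) (.leaf (11150405015469829166825520016174415653343717,567,552))) (.leaf (11457816614840464162204126627275320679645302,209,0))) (.node (.node (.leaf (13225416261860575174754081221821469133177352,122,4)) (.leaf (11152147516603879608561992481315081319892733,8,521))) (.leaf (16362951361632234005278116786796741663430086,338,8))))))) (.node (.node (.node (.node (.node (.node (.leaf (11151542341099731063180404767886961011068929,2,7)) (.leaf (11152951314574831901006660116115750675128354,519,0))) (.node (.leaf (20734880348090307714805333640331922939097457,143,4)) (.leaf (11150383316206594887968949435446599507517441,765,775)))) (.node (.node (.leaf (16714997479333511448677933504460140057724199,46,3)) (.leaf (11152842717091607961818956614635591215923446,578,1)))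 (.leaf (16857699326169106986575434648138535176540885,222,3)))) (.node (.node (.node (.leaf (14544870240831942045536974915934335197034369,28,4)) (.leaf (11151785652483191256264370705442797675737352,552,8))) (.leaf (13585212683568733605675566703668695727456388,181,0))) (.node (.node (.leaf (16781406797180633148720135135499217166464151,83,1)) (.leaf (17484466160557007078369641364151356073924567,8,549))) (.leaf (21436758095090022774159486528232722699703908,278,8))))) (.node (.node (.node (.node (.leaf (21338467912923617703726871752019663551648753,19,1)) (.leaf (11151786038279585406555368360766085488260561,548,551))) (.leaf (20700144757309474761738312532238900674475576,162,1))) (.node (.node (.leaf (20766058514627996478354581096443182549369216,62,4)) (.leaf (11150457752974356516044165119642431020664378,622,8))) (.leaf (14969298350396757277593098746564090048131523,249,8)))) (.node (.node (.node (.leaf (13592138370451040465386603192148292215198644,37,1))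 (.leaf (11152352033618532751807307233323157506651943,565,8))) (.leaf (16410101263528505968584321815411377082385834,205,1))) (.node (.node (.leaf (16002115230350206207685227590816073041135146,111,4)) (.leaf (11150415518507192967311076835994486934872065,735,743))) (.leaf (13895566459001320185108571814958965997815644,321,8)))))) (.node (.node (.node (.node (.node (.leaf (17493364075950222570806828431852122399994176,4,8)) (.leaf (11151158178296846713197150447981914596835392,526,1))) (.leaf (14630307546233511791961232042599354375541361,150,4))) (.node (.node (.leaf (22030638260573954758240427479286990836335911,54,3)) (.leaf (11152125934109071193558626361732047577350735,599,1))) (.leaf (12797168411549390563829483978419891271197358,235,0)))) (.node (.node (.node (.leaf (21785894029687439384665633917270074510095022,32,4)) (.leaf (11150883111198784684979431289372449375781489,558,552))) (.leaf (17352029454063182110228464501283420560753024,191,8))) (.node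 (.node (.leaf (18055337525465139078344523489921157658682478,96,4)) (.leaf (11150415135250805155268683765806055849721857,724,718))) (.leaf (14412149311781244120035882176166506377376246,296,4))))) (.node (.node (.node (.node (.leaf (17690246681556403500278678623838395842781431,24,3)) (.leaf (11150373970495819898859928139772264863503361,528,552))) (.leaf (19306345991609107845572112589890414120956086,171,8))) (.node (.node (.leaf (13962178034994217717811058617461248305559126,73,0)) (.leaf (11152529034887087595467146185766350807872805,652,552))) (.leaf (16628868279105674202585433698162962962355495,262,3)))) (.node (.node (.node (.leaf (19030871574238404324392117826447059409126324,41,3)) (.leaf (11151522821229519810404502899982646496638149,570,1))) (.leaf (13623333873509966979164506228977070617215120,212,4))) (.node (.node (.leaf (20074587466266349875455124219648562523854398,136,0)) (.leaf (11368344841385614333089393672627530672898184,711,549))) (.leaf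 (12435342624896298641897692969999510347026512,358,0)))))))

noncomputable def sel1_001 : Tr (ℕ × ℕ × ℕ) :=
  .node (.node (.node (.node (.node (.node (.node (.leaf (14511078810083938771384075211385188023011111,51,0)) (.leaf (13279856249948227434115596553177911970800546,391,0))) (.node (.leaf (21805616038529099374224387798893513411444918,142,8)) (.leaf (11151856101548413419659029505486757724963546,97,771)))) (.node (.node (.leaf (14156376684195399982233011369231424700876636,45,3)) (.leaf (11150985512686971511494493316024952620639213,575,1))) (.leaf (21413302160354710391441836240541886305173576,221,0)))) (.node (.node (.node (.leaf (14858873673426719021297357137807602845226142,27,4)) (.leaf (11152474164286609514131205075907176721331041,544,552))) (.leaf (18195669173917279945262576348613986033602632,177,3))) (.node (.node (.leaf (12081481520311684333342892285500653681512516,80,0)) (.leaf (13127243094399881356575056171193917158457846,4,2))) (.leaf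 (14302990387144434227551135457010631299940418,275,8))))) (.node (.node (.node (.node (.leaf (13711420544689840181438145835535409353041467,18,1)) (.leaf (15355659369997362304724864796593164160291686,3,2))) (.leaf (18648103928180555448135213964245883394060801,159,8))) (.node (.node (.leaf (16465482676644324002688000568798391153149620,61,1)) (.leaf (11151755001574819156857291455669200236418980,618,552))) (.leaf (16153916938675332080764214494119996086583368,243,3)))) (.node (.node (.node (.leaf (11865357906030440289282799853094156122961199,36,0)) (.leaf (11150385202701160369356553505115059526984862,564,0))) (.leaf (13214815539229976239700422921018589182514286,201,4))) (.node (.node (.leaf (19351158234346689649068643319993216505745792,107,4)) (.leaf (11151683223302043716230230415702509424214017,681,739))) (.leaf (17923594889307982911571232472984988170536159,317,8)))))) (.node (.node (.node (.node (.node (.leaf (18032888261455169163804366031441503220319844,13,4))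 (.leaf (11151529338953788379869537249043542681565020,523,8))) (.leaf (20020728916872402217488824370341056816280159,148,1))) (.node (.node (.leaf (13344517290823062522017681415408488582599640,52,4)) (.leaf (11151336546086029313249389820508555164816467,596,1))) (.leaf (13929111975415798008239129318677472524322484,232,3)))) (.node (.node (.node (.leaf (19341490249530574673041581911288099966468343,31,4)) (.leaf (11152662036891224084120275563992628505396778,557,8))) (.leaf (16911363787534706991649283575632619057418312,189,4))) (.node (.node (.leaf (21103732151098428468795851069832807484244036,91,0)) (.leaf (11152491471768648258459342859060264172519425,721,8))) (.leaf (15322691983478719181187414896639245516738908,292,3))))) (.node (.node (.node (.node (.leaf (16068546844183876984162734353934471415828710,23,3)) (.leaf (11150384850896031455858097613017199715491864,524,552))) (.leaf (20128405206885165432041353178829381269410672,168,3))) (.node (.node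 (.leaf (20853170801857831318769432572227619579233372,69,4)) (.leaf (11151819211545076928707212888051894714499977,647,552))) (.leaf (12996385900138003307827933560647723225408977,257,4)))) (.node (.node (.node (.leaf (16770003584440165838357967469659172212303854,40,3)) (.leaf (11151575735705045815424618963160246087975207,569,0))) (.leaf (12295617449519949776378932328833698124600161,211,0))) (.node (.node (.leaf (22128387349659831873220707827686302811063388,130,4)) (.leaf (11151543654474728543885617693649335243251713,753,755))) (.leaf (12158001051858464546806225800783745121100802,347,1))))))) (.node (.node (.node (.node (.node (.node (.leaf (12665844157891071161244085433368452053877372,9,3)) (.leaf (11151049294907542231269348142145220711731483,0,8))) (.leaf (20423612733740627291488583853906789232781125,144,3))) (.node (.node (.leaf (19449630941271174673929010230582551118206296,48,4)) (.leaf (11150542745734826648394672628887727541621722,580,1)))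 (.leaf (15235125416887039860088755030333350242952485,228,8)))) (.node (.node (.node (.leaf (12851760764249769343801541279787803688423875,29,4)) (.leaf (11152352083277077547111715529613632335278582,554,1))) (.leaf (19428603154643752143882326515956670932455457,184,4))) (.node (.node (.leaf (22213714523010593631589766338146784059667566,85,4)) (.leaf (11152352384430278227921406578457778647459711,709,715))) (.leaf (20635098984053187736609177867798598453531382,284,8))))) (.node (.node (.node (.node (.leaf (18628302883135436363417741686514926538494638,21,1)) (.leaf (11152750905593263656097259381889324017386442,518,552))) (.leaf (14664188428541955338851066057369467200201976,164,0))) (.node (.node (.leaf (11724647586056113961214388895491830661593020,65,0)) (.leaf (11151063810881347196825769549760232287400008,626,552))) (.leaf (22008001982087389460623139971966814781343664,252,8)))) (.node (.node (.node (.leaf (14325037025294008714850068090078596334355162,38,8))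 (.leaf (11151513675416785057925980712988974857506944,566,552))) (.leaf (15696590490720913214700467114706025496839431,207,8))) (.node (.node (.leaf (15334080881005164422121496297894124674741618,116,3)) (.leaf (22094530184762862256987902998032261346035242,711,551))) (.leaf (21181515914325555379374432514958765045391394,329,4)))))) (.node (.node (.node (.node (.node (.leaf (12633715736469176636823677732349196925731360,15,8)) (.leaf (11152497145370406979802359183550135281066781,529,1))) (.leaf (12070512152708849729924484262936336165314632,154,0))) (.node (.node (.leaf (21741271937425948691804220343632765599794122,58,0)) (.leaf (11150835616266998464929359408869872276075852,606,1))) (.leaf (13613190468935047998044026554905009333827303,237,0)))) (.node (.node (.node (.leaf (12566532575629309710529341091816026705912605,34,0)) (.leaf (11152470628059832211164784943367639707918553,560,1))) (.leaf (13151073430533621965035614520520977863811952,194,4))) (.node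 (.node (.leaf (18952579714935090083517954809150686812604329,100,3)) (.leaf (20478144231772347282512862909849693034385921,8,35))) (.leaf (13907419275304317415438705601211161580381242,307,0))))) (.node (.node (.node (.node (.leaf (12555070185967774181581043585795788262900232,25,3)) (.leaf (11150420794232026124127675969502558095339680,532,552))) (.leaf (16704631575314084824011396322223454919750351,173,3))) (.node (.node (.leaf (11602730640760338389573617471653472880030147,74,4)) (.leaf (11152654215278101038774526996107493886871035,657,8))) (.leaf (18262779244065559577079705254418597015908388,266,0)))) (.node (.node (.node (.leaf (17559226068538938166997820728920327002800160,43,0)) (.leaf (11150417793666714796907819111926122308183990,571,552))) (.leaf (16683239308275952926125026561332777384666832,216,8))) (.node (.node (.leaf (17267264884971940841090936201447247352231282,137,3)) (.leaf (11150415135879558833810195949040801983561729,763,0))) (.leaf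 (14750963246277865297635137881382549966189230,363,3)))))))

noncomputable def sel1_00 : Tr (ℕ × ℕ × ℕ) := .node sel1_000 sel1_001

noncomputable def sel1_010 : Tr (ℕ × ℕ × ℕ) :=
  .node (.node (.node (.node (.node (.node (.node (.leaf (11152199042298060958389361026656404611538978,10,0)) (.leaf (11591535478190433460883426053013727102157558,388,8))) (.node (.leaf (12987245301623690782067427381115635503986407,141,8)) (.leaf (14035999603416940337014372132944724740876196,1,737)))) (.node (.node (.leaf (13939861779637061478740863719762200521402081,45,0)) (.leaf (11152175037621477805571207643217677445563408,574,1))) (.leaf (21557530049852908809475086771114799287763446,219,3)))) (.node (.node (.node (.leaf (13357522895379339821581853629047386647955258,27,0)) (.leaf (11152035630980187532427479491568805648830833,542,552))) (.leaf (14996167004208441780715267142069150429733794,176,4))) (.node (.node (.leaf (12644604781937571376359948980295146351867752,79,3))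 (.leaf (11150457732299230590847990998221963429790223,679,8))) (.leaf (14882261750036397441912427607847501394870432,272,3))))) (.node (.node (.node (.node (.leaf (21654945581890194856389306756027890788410141,17,8)) (.leaf (11150463369378003425824225484989364142920267,536,0))) (.leaf (17635494017940714217744840106994303363179083,159,0))) (.node (.node (.leaf (15927735177406343874970539076851710948758982,60,4)) (.leaf (11152726975016365237800253584917935570024161,613,552))) (.leaf (14675045339167898589964426626298955223450102,241,1)))) (.node (.node (.node (.leaf (15419838787105149060329739324501232274276700,35,3)) (.leaf (11150723850429782633445015211981122371224879,562,552))) (.leaf (11962297128054787918922242030777825462186989,198,1))) (.node (.node (.leaf (18272432199714800626940252042691934526898816,107,8)) (.leaf (13018730256576443035477791446848984982254433,736,737))) (.leaf (20712453588451464879050020356924436278498270,311,4)))))) (.node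 (.node (.node (.node (.node (.leaf (19372798161561765985442725373587495772018276,11,4)) (.leaf (11152407849534033203438286751391061476348751,521,8))) (.leaf (11809804335157135580069656372220974713455087,147,4))) (.node (.node (.leaf (22150706119294096477672575997319290728043974,51,4)) (.leaf (11150463125992650098607447417851812957128314,593,1))) (.leaf (19084536302378286129921554151164941460697528,232,0)))) (.node (.node (.node (.leaf (12315741767677702579201058476475424023656393,31,1)) (.leaf (11152035776458562998435814319476990750368483,555,552))) (.leaf (21039966111364167380832471270185019156084025,189,0))) (.node (.node (.leaf (14060063686187505557604812291653412162140008,90,3)) (.leaf (11151684589199034884706271527914669149474817,720,8))) (.leaf (12446678364340278136654613658874079347250432,291,8))))) (.node (.node (.node (.node (.leaf (20972598263061219041839016232995833325208482,23,0)) (.leaf (11152389624244362920694119163297774455951853,522,552)))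 (.leaf (12762641376060847802261857576745517063152980,168,1))) (.node (.node (.leaf (20293028724331479071204658499028399207483316,68,8)) (.leaf (11150584289367488355638687733275901615440820,646,1))) (.leaf (17847220030085823878200851096016340968752762,255,4)))) (.node (.node (.node (.leaf (15561588991100278899147643110025872009549354,39,4)) (.leaf (11151260913442034455645363071814864789610985,568,1))) (.leaf (21060179594756191032000595968108822141329995,209,3))) (.node (.node (.leaf (16252464428735718379726985356507419680810967,125,4)) (.leaf (11151157289351949003567668747685563380948993,740,8))) (.leaf (12105633344415640278132596868857709047105407,342,4))))))) (.node (.node (.node (.node (.node (.node (.leaf (14037862838524822152900361217535258630861683,3,3)) (.leaf (11151218455387160498660685850867805239469776,520,1))) (.leaf (17156658696282625993231329410162209969551075,144,1))) (.node (.node (.leaf (15708906000615259821042239070688964350289209,47,0))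 (.leaf (11150386406277894928468161174963346886133483,579,1))) (.leaf (21048847783714846639293101483858311481721334,224,1)))) (.node (.node (.node (.leaf (22095631248759656758698626601529078322033002,29,8)) (.leaf (11151811374057544152406566956089162078365108,553,8))) (.leaf (11380218723103149313241259670160725388583044,181,3))) (.node (.node (.leaf (19643911247723503811168615322629280976879628,85,8)) (.leaf (19030955226768191333294744350083929842927125,8,713))) (.leaf (12180753575596830047086940494795501351670055,280,8))))) (.node (.node (.node (.node (.leaf (17134239372048044804543198161500969558263355,20,1)) (.leaf (11151138406070982272286201231673625568870920,1,552))) (.leaf (19330737241015414811512578229060335949669746,163,1))) (.node (.node (.leaf (14292322394242278307655264244860817319789572,63,4)) (.leaf (11151343478642237284226629772400700643344641,624,1))) (.leaf (16597395222331978155451073107846041313859117,251,0)))) (.node (.node (.node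 (.leaf (20756368399339731423351282993394300926985548,37,4)) (.leaf (11152442433582059426678211681824080556548340,566,1))) (.leaf (14400962457634843349385450799737753198266281,206,8))) (.node (.node (.leaf (17245182667579658383470182381583147644531795,114,1)) (.leaf (17825673349433594753365456425880291153392105,4,730))) (.leaf (22083747400978601023192508482710063821169135,328,8)))))) (.node (.node (.node (.node (.node (.leaf (14255712586827521863243456145508778033608552,15,0)) (.leaf (11150985716130226414966381259318383369609504,527,1))) (.leaf (15637916073312172661085326906649196175398820,153,0))) (.node (.node (.leaf (18380693820596978041007714860871718003020366,55,4)) (.leaf (11152136698683215521043190551165810937328679,602,552))) (.leaf (19568381917508282603742414574863890962403585,235,3)))) (.node (.node (.node (.leaf (18283579520407034689334708487533428988384868,33,3)) (.leaf (11151027909469132604200500669175276828099584,559,1))) (.leaf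 (17700298225736060165902281110235791192674422,193,0))) (.node (.node (.leaf (22105883502393121053730068923089685710254720,97,4)) (.leaf (21687206084505166294221641237061070512240393,548,1))) (.leaf (16607632588915135857232469844438076776714701,301,3))))) (.node (.node (.node (.node (.leaf (18985214652682643335690224668007443235001375,25,1)) (.leaf (11151683844065630499890559714202241214777059,530,552))) (.leaf (17836840410352907754178366672126219426329705,172,8))) (.node (.node (.leaf (13116511086635147048512045181082078509228315,73,4)) (.leaf (11150460467536652919246559291978573161313073,653,552))) (.leaf (17913826665597623344773751215261340171108511,265,8)))) (.node (.node (.node (.leaf (12578589699371571379863010628062731080581152,42,8)) (.leaf (11151903932338696088818187849197099065131648,571,0))) (.leaf (17144834829394768930856070239573879648552316,214,1))) (.node (.node (.leaf (21872451988295538009402321064279384835227680,137,1)) (.leaf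 (13938456522722639240406555726142148401632112,711,761))) (.leaf (19556889481451513600500949389004783541841944,360,8)))))))

noncomputable def sel1_011 : Tr (ℕ × ℕ × ℕ) :=
  .node (.node (.node (.node (.node (.node (.node (.leaf (11152592834498294361994497471830407829459669,5,0)) (.leaf (11152994364371984623321889412932162407057218,1,0))) (.node (.leaf (16275699333996266443906556865557798442005958,142,4)) (.leaf (11151683301147175370169778775600805737144321,726,773)))) (.node (.node (.leaf (15430464170071838011974412463093952873394496,46,0)) (.leaf (11150420834082120469611426323258376715257575,576,8))) (.leaf (15659603544741966045075423775598434442944515,222,0)))) (.node (.node (.node (.leaf (16475353561021833940685506585871858191746153,28,1)) (.leaf (11150951301643144803499129013700159276890071,552,0))) (.leaf (17724080912394005245509895032717491347968905,180,0))) (.node (.node (.leaf (15914993420822468311916323474819749937766647,81,4)) (.leaf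 (11152923644313013836395118741877947752830856,4,4))) (.leaf (18768569091696465755543761891703185163028102,276,8))))) (.node (.node (.node (.node (.leaf (15573072173203166747429255149732547291150184,18,3)) (.leaf (14036751517537852538307680985474783940768591,3,549))) (.leaf (12207845772411859424805324658253278252601423,161,1))) (.node (.node (.leaf (20983385148833846396742894749211217706275456,62,8)) (.leaf (11152175343759747953990271321004355513341485,620,1))) (.leaf (14892580501849549353804174489064155531383132,246,1)))) (.node (.node (.node (.leaf (16371971029286817608671306857428844867798481,36,4)) (.leaf (11150700001562385615257260914477862392522154,564,8))) (.leaf (21533913950504007673377985778812982946035408,204,8))) (.node (.node (.leaf (15016625360963874681745488627430974397551085,110,1)) (.leaf (11150700960448323629457471884227305480605697,8,741))) (.leaf (12930778422591285411543648248470560747634693,319,8)))))) (.node (.node (.node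 (.node (.node (.leaf (17614765988824180300831744304152432713709112,4,0)) (.leaf (11152300425518335622017350175657118643635548,525,0))) (.leaf (14178507386379494893011133419288690819131111,148,3))) (.node (.node (.leaf (18878178695143532518134180958291554177995341,53,8)) (.leaf (11151017414158865088258704902242201400431101,598,8))) (.leaf (13247482782938052585672202152857394413044096,234,0)))) (.node (.node (.node (.leaf (12908963131334271000155346637915050802692160,32,8)) (.leaf (11150694439912489966834275769905071077221720,558,1))) (.leaf (18552140634365027550134420613473197434840122,191,0))) (.node (.node (.leaf (14978080392993511686310189996415287273567263,93,4)) (.leaf (11151735217629274311165939117811629494226945,722,718))) (.leaf (13465916121504741841363759796991182091498744,294,4))))) (.node (.node (.node (.node (.leaf (20271529991659713502733647929406695806555590,24,0)) (.leaf (11152313439053970958890394816848485310656591,526,552))) (.leaf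 (18995936149268759755912719986779343588171842,170,3))) (.node (.node (.leaf (16057285598669596763426947100679317506895990,71,1)) (.leaf (11151432421790552875584267088171301643826467,649,1))) (.leaf (17275561920949137721246347020068141925466342,260,3)))) (.node (.node (.node (.leaf (21762323173645032520914294584321905087067287,41,0)) (.leaf (11152147206950567951289669767826539323953200,569,8))) (.leaf (20042170548335640036919463943090114080629547,211,8))) (.node (.node (.leaf (17979139669822068141885817990267963045318788,134,4)) (.leaf (11151158256087889589461664636619556487438337,756,744))) (.leaf (15796370530693985603449616641175777538715996,349,8))))))) (.node (.node (.node (.node (.node (.node (.leaf (18975348143137225206005777577277611774706816,10,8)) (.leaf (11151546363145557622803955465483876061124182,5,8))) (.leaf (19019147143765138711080477510771860422000960,146,0))) (.node (.node (.leaf (13601050651597295675476776603551284383089160,49,1))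 (.leaf (11152923457300554623608592466041022752462357,586,1))) (.leaf (15070817923507381011190019507505904312624132,229,1)))) (.node (.node (.node (.leaf (20259718532988096029762316642930131404113730,30,8)) (.leaf (11152661571765899734166791971736042482594847,554,552))) (.leaf (13819950430751956147727628800415733393100812,186,8))) (.node (.node (.leaf (20821953033412686657757628604768896261861593,87,4)) (.leaf (11150699672429192397288398212237552697491457,716,717))) (.leaf (11942297478621013677388109507128878984815350,285,0))))) (.node (.node (.node (.node (.leaf (12653760223961477210413932399683206684038598,22,1)) (.leaf (11152414705687184858090537777248742291076224,519,552))) (.leaf (21116508590783675440597755310658093053301225,164,4))) (.node (.node (.leaf (17505826833250193570339854898839601317691649,66,3)) (.leaf (11151450986488918763597169377508066442457247,631,1))) (.leaf (16143826338662362044585620843497700954481703,253,8)))) (.node (.node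 (.node (.leaf (19094265805395306806708309500455256301507440,38,4)) (.leaf (11151054920947757570188888777858608715386913,567,1))) (.leaf (20490225180056757245555777812993080431252000,208,8))) (.node (.node (.leaf (17966910468827333296983477264842692608721487,118,4)) (.leaf (17935413019333886193933199661628444613325809,550,749))) (.leaf (16265123627794575673118087261609024951500812,333,8)))))) (.node (.node (.node (.node (.node (.leaf (16400651901418750908324485464893406536959127,16,1)) (.leaf (11151203806510542490180589333371504326677489,531,0))) (.leaf (12872372041249869648261570797060739338540032,154,3))) (.node (.node (.leaf (18681831885610025552562812177049028685718172,58,3)) (.leaf (11150614782286569280786846280912580984206070,608,552))) (.leaf (16122105632658259905964716249574294250238835,238,1)))) (.node (.node (.node (.leaf (12786009000162279052785354879831823729856800,34,3)) (.leaf (11150548175820267215409586841688337426891610,561,8)))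 (.leaf (16377492642330050971278859169976527119034051,195,1))) (.node (.node (.leaf (19461339256195459330673633905148244644758024,101,4)) (.leaf (11151022981630788486429436811888652308243949,585,520))) (.leaf (18185347795428497089910293334586239920476828,309,8))))) (.node (.node (.node (.node (.leaf (21676742157774825596451410552485818782474306,26,1)) (.leaf (11151513132537630435732971966922464357958622,535,552))) (.leaf (14522653268926515822894332907421445851792675,174,4))) (.node (.node (.leaf (21665438431755767486940086479651162737058740,77,3)) (.leaf (11150714638580832023388582841906144371659739,662,1))) (.leaf (14870134974870630947025027023038002530994012,266,4)))) (.node (.node (.node (.leaf (20400714821087059899597944775998836809926266,43,3)) (.leaf (11150584329217765921026330111964928711184835,572,1))) (.leaf (20010406032678913596200451087847294799611306,218,1))) (.node (.node (.leaf (21881759654134782507197328357158605022029695,139,3))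 (.leaf (20509740877907105369133721962978032090353984,747,22))) (.leaf (22116835160570311800461510029754035301753180,372,8)))))))

noncomputable def sel1_01 : Tr (ℕ × ℕ × ℕ) := .node sel1_010 sel1_011

noncomputable def sel1_0 : Tr (ℕ × ℕ × ℕ) := .node sel1_00 sel1_01

noncomputable def sel1_100 : Tr (ℕ × ℕ × ℕ) :=
  .node (.node (.node (.node (.node (.node (.node (.leaf (11151549259152299599999446172586798465933980,9,0)) (.leaf (11625407167392717092345030317811112078774400,383,1))) (.node (.leaf (15720782604417235344784925062796686972028475,141,1)) (.leaf (11151158178223402200370550478943993584427009,768,616)))) (.node (.node (.leaf (13487632992055827764410553329222749971395742,44,4)) (.leaf (11151529542445958469886056274428369704298298,573,8))) (.leaf (17602338965613642851775633781751166661534240,219,8)))) (.node (.node (.node (.leaf (17626602968969256096855559975399793634882416,26,4)) (.leaf (11151633234904320605361378117537626884096811,541,552)))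 (.leaf (17711080607883092831152828501033712307216464,175,3))) (.node (.node (.leaf (20832041961462408612197169526648227807543863,78,4)) (.leaf (11152831759440608640342425581638340506588252,675,1))) (.leaf (18316189324444172047601735777349715669488433,272,1))))) (.node (.node (.node (.node (.leaf (19999116858064306100197109184180213976265879,17,1)) (.leaf (11152442518495251090108998068955038883045738,535,1))) (.leaf (17364848972384574372421018946592665352750914,158,0))) (.node (.node (.leaf (12919844897038291239727146538636224285909236,59,4)) (.leaf (11152120961892361898769342271970107230799720,613,8))) (.leaf (14640771165783640528826835891820399267054293,240,3)))) (.node (.node (.node (.leaf (11613398558976300558359334563084769365704768,35,8)) (.leaf (11151549593336422136636078956250605448937477,562,8))) (.leaf (17222448416021653230005633276626379892978240,197,4))) (.node (.node (.leaf (12093610592414877133157298188858817835214807,104,4)) (.leaf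 (14038008950015650192620104397108266536333607,2,550))) (.leaf (11886189441478479029059459417653863287197713,311,3)))))) (.node (.node (.node (.node (.node (.leaf (20745479525905304692792580802852580311785760,10,4)) (.leaf (11151576176750966611431521475909537208244169,519,8))) (.leaf (21523025118128548428274554478991921759532345,147,1))) (.node (.node (.leaf (16286834373611684257171228253763439548170742,51,1)) (.leaf (11150958009756437439200893201603194797020997,592,552))) (.leaf (19776524594898441611365327480428799234241972,230,4)))) (.node (.node (.node (.leaf (11250490540074139675541155268193255507145501,31,0)) (.leaf (11150765149336681085249804347709988985615022,555,8))) (.leaf (12772852505541423568290421031510937021129189,188,3))) (.node (.node (.leaf (14597067577789228724621810889309121550930487,89,4)) (.leaf (11150416891613429325150581521059540147376129,719,718))) (.leaf (16922191727808812069200448631313504246014519,290,8))))) (.node (.node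 (.node (.node (.leaf (14264978517356340387069955067704941206958582,22,4)) (.leaf (11151030569070514728174090106407497893532237,521,552))) (.leaf (11392106630027256497364476860764512297509971,168,0))) (.node (.node (.leaf (17946446839109669595672526158617449952462168,67,4)) (.leaf (11152767081917544291559904210446882306578305,641,1))) (.leaf (19677657598580171836522781248858453643092851,255,3)))) (.node (.node (.node (.leaf (20282945205298739914471339793346995974352962,39,3)) (.leaf (11150388867383578231091622206334516607612244,568,0))) (.leaf (13678376993553974839411869566968875999846987,209,8))) (.node (.node (.leaf (13204897059506118253380218743994934414606856,124,4)) (.leaf (11151157003602293108029573771310497215549441,751,752))) (.leaf (19230085173902647217419414751276304092696672,342,8))))))) (.node (.node (.node (.node (.node (.node (.leaf (15353713200953707778481204276954717209801587,3,8)) (.leaf (11152846780673485271319263692279215715854077,7,0)))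 (.leaf (17211292327821942079983468733979681902343365,144,0))) (.node (.node (.leaf (11843167663160582375424959335625367804737518,46,4)) (.leaf (11153021889884552329374741599395153898517568,578,8))) (.leaf (20411825837898660392022339107362633113145347,224,0)))) (.node (.node (.node (.leaf (11163378330728785960909318490902373603344782,29,1)) (.leaf (11151962459273125406848441367258052662219359,552,552))) (.leaf (15094006142186970444594203057538968068375393,181,1))) (.node (.node (.leaf (11270476617157045437350147861174234731503899,85,0)) (.leaf (19030091221343654244443093332727959818954261,711,712))) (.leaf (17019564193814978248905697267348649222881288,280,1))))) (.node (.node (.node (.node (.leaf (18965353272079636664003604397219686727614481,19,8)) (.leaf (11150500865976313884746282853194354236589279,0,552))) (.leaf (11537903968065590231106016118309043772040505,162,8))) (.node (.node (.leaf (13018055375114640064913355066770171068892937,63,0))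 (.leaf (11150529674496107543529265805791159076611967,622,552))) (.leaf (18745497667835801787755949086753689866343995,250,8)))) (.node (.node (.node (.leaf (21893306430679890248232544225403054936512122,37,3)) (.leaf (11151546474408601169859777176026625578442818,566,0))) (.leaf (22019595328225991114867604730923017355956285,206,1))) (.node (.node (.leaf (19242541369451174185157906540542804585588628,112,4)) (.leaf (18066533575535453627951374203134923871924593,731,15))) (.leaf (18304711293963568222352472978613258844858239,324,3)))))) (.node (.node (.node (.node (.node (.leaf (11369636772557448744599637288593731796456828,4,3)) (.leaf (11150404505931129673478661562422642067185681,527,0))) (.leaf (18541183325655431838079418774850749224517680,151,4))) (.node (.node (.leaf (19439030596495895298420772373344159687800814,54,4)) (.leaf (11153056623559329955047210260933821846136210,601,1))) (.leaf (12230135521391631904480384859840111138288903,235,8)))) (.node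 (.node (.node (.leaf (17572083663364980717698277685130162555799362,33,8)) (.leaf (11153005131468985507947526542025873147926452,559,0))) (.leaf (12284797542154471681948998880384827014603477,192,4))) (.node (.node (.leaf (20690404280113856198709993408295724520895051,97,0)) (.leaf (11151735503563945872924444851434111848570881,725,718))) (.leaf (13498342533721814891036425291197440356885219,300,8))))) (.node (.node (.node (.node (.leaf (13126913848273510972659043392654197127647364,24,4)) (.leaf (11151856057728046458679217933429042682000230,529,552))) (.leaf (13008730957236458376483409574967668743223267,172,1))) (.node (.node (.leaf (15203777694704991501133187782801497110102746,73,3)) (.leaf (11151609308739198847209321572635965416841711,653,8))) (.leaf (20952206590720785108127751881558312855143488,264,8)))) (.node (.node (.node (.leaf (11831261670732483625201351178915055472223525,41,4)) (.leaf (11151157415594736981495787157517588015470472,570,8)))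 (.leaf (18163799938961870391176533987198733498635245,213,1))) (.node (.node (.leaf (14277033862361382208922236091684977597847460,137,0)) (.leaf (11369715346309733507118682414384333337731208,8,760))) (.leaf (15686781973176224900709830182039444422874018,359,8)))))))

noncomputable def sel1_101 : Tr (ℕ × ℕ × ℕ) :=
  .node (.node (.node (.node (.node (.node (.node (.leaf (11151904394059100126217618415064862201701632,0,1)) (.leaf (20603259117269869103610726236454905560786532,412,8))) (.node (.leaf (13841929653185640027975084758114190956729045,142,3)) (.leaf (11151684568401087626441739567208189556117505,559,772)))) (.node (.node (.leaf (15991193950443814584665619957125513066915713,45,4)) (.leaf (11152993919990325416398246692673201711476744,575,8))) (.leaf (21315663795210681575936516247446560841241071,221,1)))) (.node (.node (.node (.leaf (15453657931994065235500303288339244436281057,28,0)) (.leaf (11151755339231790203050250451658761440362844,545,552)))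 (.leaf (22139451528016777289725331211885695225861101,178,4))) (.node (.node (.leaf (16901144984134947029881190231433246429188224,80,3)) (.leaf (15991962425396213943515635121222525383161704,548,708))) (.leaf (21083138254369143854197067238001933987395529,275,4))))) (.node (.node (.node (.node (.leaf (15344547410730941096304124826581139165603559,18,8)) (.leaf (17482662307967986362183804425403632287926231,10,10))) (.leaf (12413828028503700764697513276854076445999222,159,3))) (.node (.node (.leaf (12546603162040408403289580667782730036019279,62,0)) (.leaf (11152083355663893491959722426886727413810487,619,1))) (.leaf (16890297257362321959710185015831888218435720,244,1)))) (.node (.node (.node (.leaf (15441265798251535876963444015324106373533728,36,8)) (.leaf (11150687709397673747899171478583032265872090,564,1))) (.leaf (12860782271238936302680715263744746659820529,204,0))) (.node (.node (.leaf (15805525850622604222324321411273831359239172,108,4)) (.leaf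 (11150415760558772490414115699677615169208321,740,740))) (.leaf (13917151792375684763741121877340515440727686,317,3)))))) (.node (.node (.node (.node (.node (.leaf (13138521997636436499613509522591819090830970,14,4)) (.leaf (11151684993017442678505513582768178557248001,524,1))) (.leaf (12500783290954973386010337688899881280946895,148,8))) (.node (.node (.leaf (13573374579137704326374990473613319464551258,53,0)) (.leaf (11151328356086095141724424949863535125098640,597,1))) (.leaf (17124624098826344438967899574283676980671100,233,1)))) (.node (.node (.node (.leaf (20358388720185563837365798095392690849890587,32,1)) (.leaf (11152199348387118287559917832988402897766022,558,0))) (.leaf (22248424614343811562676042196314187788765143,190,4))) (.node (.node (.leaf (14618531833354009847332436925632077372743927,92,4)) (.leaf (11151685187582515376743164304051927971143681,721,718))) (.leaf (14652513581437097097072313797519327799092122,294,8))))) (.node (.node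 (.node (.node (.leaf (19700739613247685326142747753905382103798618,23,4)) (.leaf (11150723982459952543876515371258207724904768,525,552))) (.leaf (21326352125236672697472240723639245382202372,170,1))) (.node (.node (.leaf (16933591319147470376640437644549969260946394,70,4)) (.leaf (11151934730739154818011157118066486350610441,648,8))) (.leaf (21200963227658739614146683797165737225261184,259,8)))) (.node (.node (.node (.leaf (18326332672300111857069556862990877842161760,40,4)) (.leaf (11150553436694951201167397581623512674813705,569,1))) (.leaf (12218344021665642681918890834236190838060739,211,1))) (.node (.node (.leaf (21093886015208174110310890669693796171158490,131,4)) (.leaf (11151158174310164806475303134331572127277057,744,756))) (.leaf (16350129636684757170653075940316605732307008,347,3))))))) (.node (.node (.node (.node (.node (.node (.leaf (20348742625582665303555455889289189899449780,10,0)) (.leaf (11152389373138704552607912870286811964744708,1,8)))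 (.leaf (16486650106414532807312533000273769927332830,145,4))) (.node (.node (.leaf (14610195520311229955203611397591653590603364,49,0)) (.leaf (11151688917590123402126589280358734142390404,581,1))) (.leaf (16619367314107797396474393773831981861639024,228,3)))) (.node (.node (.node (.leaf (19656829653139373807743280753548737702141969,30,0)) (.leaf (11151138659222492481150095639830482034888886,554,8))) (.leaf (15551717774398336967868413833398059608510747,186,0))) (.node (.node (.leaf (20613050217714117029188001491801024579568256,86,4)) (.leaf (11152147158607683604939541020375962656483069,585,648))) (.leaf (20141921386565581549765571608775806466709375,284,3))))) (.node (.node (.node (.node (.leaf (11185618611100358424702925701205678994842144,21,8)) (.leaf (11150418299964517135409523384678045318284668,6,552))) (.leaf (14245557465374086462323594073441811925955000,164,8))) (.node (.node (.leaf (21402442368272527753174948186020800328405485,65,1)) (.leaf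 (11152497332897424916306858194961168339677252,628,1))) (.leaf (15310026954109084583707347837455005120473012,252,4)))) (.node (.node (.node (.leaf (17593538409602450395322098417842045051559968,38,3)) (.leaf (11150748997115412326676962531961837192397030,567,0))) (.leaf (18176118957593374171503665806847362520774504,208,0))) (.node (.node (.leaf (19668177758307871869010922045653908702171168,116,4)) (.leaf (11615360499403718623433132594262768990474304,550,748))) (.leaf (13476844843634426531366529959795385213912576,331,1)))))) (.node (.node (.node (.node (.node (.leaf (12883694341132609972918126572185299736695146,16,0)) (.leaf (11152713753023757583750892525347689277169674,530,1))) (.leaf (21305286512184426773804942131860050612523503,154,1))) (.node (.node (.leaf (14738634374533636971998559435969442227447734,58,8)) (.leaf (11151223855283396368089672156427554247427584,607,1))) (.leaf (18604763209790557101696262546958524151887854,237,1)))) (.node (.node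 (.node (.leaf (18529166400753800122817849556318953180534729,34,1)) (.leaf (11151962467334153097693424654148358414328444,560,8))) (.leaf (16496911751086191957072321099032501643445089,195,0))) (.node (.node (.leaf (16802464202718374106788295926335844391985742,100,4)) (.leaf (11152989147255728332184076008054738808488821,731,732))) (.leaf (21448562851697208737068416739553188599989955,307,3))))) (.node (.node (.node (.node (.leaf (11403169739118929687599321764447922308269803,25,4)) (.leaf (11150436471659257779801324272580889614292231,534,552))) (.leaf (18403161769206011398268287515966020126373300,173,4))) (.node (.node (.leaf (19932422966957915417768771546846872887292064,76,1)) (.leaf (11152576974106626997303220148652461438318142,658,552))) (.leaf (12426081186384936613026733614220940276176776,266,8)))) (.node (.node (.node (.leaf (17233941090026163587158560321483594242921396,43,1)) (.leaf (11152716339462378713412214770636793699775801,572,0))) (.leaf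 (15299185771721028204578877029364493853942750,216,3))) (.node (.node (.leaf (13698799482997400111382272252396667458450471,139,1)) (.leaf (11150699594638300917222098122801643924758529,764,723))) (.leaf (11526890100158249387670901237853125375293136,363,4)))))))

noncomputable def sel1_10 : Tr (ℕ × ℕ × ℕ) := .node sel1_100 sel1_101

noncomputable def sel1_110 : Tr (ℕ × ℕ × ℕ) :=
  .node (.node (.node (.node (.node (.node (.node (.leaf (17482520169357656976018651093094545144296576,18,0)) (.leaf (17253693084413924874005333204332371780415620,389,8))) (.node (.leaf (16878334164196461187700370226724243946479619,142,0)) (.leaf (15709211565379949452669416501540801983202264,770,738)))) (.node (.node (.leaf (19944114732826685870849706479315761156977769,45,1)) (.leaf (11151156038677524277625426114073137634374562,574,8))) (.leaf (16012423097153693509870649769510928849859735,220,4)))) (.node (.node (.node (.leaf (13949522524320072662883660918939859817605091,27,8))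 (.leaf (11151498998317727503603772335880664872142516,543,552))) (.leaf (14166805642154331962859444805610263547515904,177,0))) (.node (.node (.leaf (11876055869120655673468129218195850966164267,79,4)) (.leaf (11151126410854541830985283438435993297936621,681,0))) (.leaf (13333946022981475404475778622786997307064452,274,8))))) (.node (.node (.node (.node (.leaf (20477523076606560220860700410457513527411201,17,3)) (.leaf (11151342991354181708297158922657517144724023,537,1))) (.leaf (19008562520019318799899608647858462715037270,159,1))) (.node (.node (.leaf (17956062486041345476144444606552122224386081,61,0)) (.leaf (11152926363627567297414092880536828035408008,618,8))) (.leaf (20391736207564470728377589659696233015444480,243,0)))) (.node (.node (.node (.leaf (20511463878032550301307875480943547601433262,35,4)) (.leaf (11152716033507915583882840871393786269831200,563,8))) (.leaf (18659250785854517108762343141061066479736420,200,3))) (.node (.node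 (.leaf (20052486390569623299075712110280711575791125,107,3)) (.leaf (11150853891186051433524740678425489845925571,133,738))) (.leaf (19295834146679003002936065830578900076184920,313,4)))))) (.node (.node (.node (.node (.node (.leaf (16025082719529667358499244991024960332223836,12,4)) (.leaf (11150453896192108196181605821822444714161262,522,8))) (.leaf (14984004545086346284454875470313783803576960,148,0))) (.node (.node (.leaf (11174730013362384237837577149704350311462820,52,3)) (.leaf (11150386058368248142927456583978199970074754,595,1))) (.leaf (17375275220636732368984656779086292302108028,232,8)))) (.node (.node (.node (.leaf (11468021147407241892192106447889010855485728,31,3)) (.leaf (11151498681613399991547599827273476506842899,556,8))) (.leaf (15212833886093452463318326415119288979423601,189,3))) (.node (.node (.leaf (20963972746239791323570646502713567649035051,90,4)) (.leaf (11151543650521433323232279021782408055263233,720,718))) (.leaf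 (20150333606032756701354214589351657904087050,292,0))))) (.node (.node (.node (.node (.leaf (21774981040901042821681252641575916710912520,23,8)) (.leaf (11152935796561495318754621634985189295662651,523,552))) (.leaf (20064812666976628909108087251891345248728357,168,8))) (.node (.node (.leaf (11506950544064678302492472353524242363506905,69,3)) (.leaf (11152547842415878351503959014981438105293235,647,8))) (.leaf (16045336243653524063841052950824747243947264,257,3)))) (.node (.node (.node (.leaf (18889656390312930600415781852616140957705218,40,8)) (.leaf (11150373929295187020245788112404494958986097,568,8))) (.leaf (18044303566590839009034501452951884368438128,210,4))) (.node (.node (.leaf (11734863703336328778183123968261769437500760,128,4)) (.leaf (11152493289829083188085568187247079872270337,740,754))) (.leaf (15288971987807565176025760083875891760865754,343,8))))))) (.node (.node (.node (.node (.node (.node (.leaf (21686145283307435076890927381155035021837748,9,0))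 (.leaf (11150437033399160053918928802931776645300304,521,1))) (.leaf (18671105106544553992030518363872055105548447,144,8))) (.node (.node (.leaf (17901665167683743645555039031383561369403464,47,4)) (.leaf (11152750901100325184965325464568747294237112,579,8))) (.leaf (21795912711618641800639170357019535669535827,228,0)))) (.node (.node (.node (.leaf (11261016248398635132996335026569066987467549,29,3)) (.leaf (11151155897812700926750071674855284031905795,554,0))) (.leaf (15905906488598755156569468907662280828154098,183,4))) (.node (.node (.leaf (12513909430304669291523965274748021253665375,85,3)) (.leaf (13940581781139427149436911919037849705285115,711,714))) (.leaf (19221497415719648283484456729053654317671737,282,1))))) (.node (.node (.node (.node (.leaf (14047177864199294264015352953208128866895591,20,8)) (.leaf (11151203449860031181206768043582750104553443,5,552))) (.leaf (21997972881175452713994806475644950525617722,163,8))) (.node (.node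 (.leaf (13236305297602347066985669430544192938967560,64,4)) (.leaf (11152074099482993772127997367530911672836480,625,1))) (.leaf (18736926765667318130997042722243486747767768,251,3)))) (.node (.node (.node (.leaf (14025778962772093750220799997263041978069058,38,1)) (.leaf (11152030209018258386913192825365341967172506,566,8))) (.leaf (14379936014265098857279353700696418216875905,207,1))) (.node (.node (.leaf (15936419083927253800530601941612008301463354,115,4)) (.leaf (13973265242494563791936328236488686930395656,745,746))) (.leaf (21458021398611432122059636872101053093876529,328,3)))))) (.node (.node (.node (.node (.node (.leaf (12197484129964149040694178402447254848434862,15,1)) (.leaf (11152030529895096753996551943337081253262527,528,0))) (.leaf (19578656487424593452489913072583313635409952,153,1))) (.node (.node (.leaf (11853723419294459721406523680876574322324461,56,1)) (.leaf (11152996606784989931869378750979104386537364,605,1))) (.leaf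 (19361876681427582217812973698084360796768180,236,4)))) (.node (.node (.node (.leaf (16986980910455455606650135923546011354042959,33,4)) (.leaf (11151734381098967413658247462988812155651565,559,8))) (.leaf (13268380440432374409502484910254681420284491,193,3))) (.node (.node (.leaf (18518921974046535856543505490736841950189178,99,1)) (.leaf (11615010148218447665959590478730150675399586,709,730))) (.leaf (18295924005357146101070598095318694163526371,303,8))))) (.node (.node (.node (.node (.leaf (20625608302029490790318963513946658025047594,25,8)) (.leaf (11152592541567459893195293201152596368008152,531,552))) (.leaf (19591724672067996158653820749407489902002418,173,0))) (.node (.node (.leaf (19317362284102911410485073635248674030354720,74,0)) (.leaf (11151708640893243633846903553870346531643936,656,1))) (.leaf (13552128282467425944114029825408973694394829,265,4)))) (.node (.node (.node (.leaf (12170245845582728868930170159963511861097937,42,4))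 (.leaf (11151179572138163074138473879414084834943695,571,8))) (.leaf (20498780455103843642403359080509836177032177,216,0))) (.node (.node (.leaf (12523755542941669396778854904592085056258996,137,8)) (.leaf (11152721346585116679876690090567260934090764,745,762))) (.leaf (17009644482005826578875821383797576650564921,360,4)))))))

noncomputable def sel1_111 : Tr (ℕ × ℕ × ℕ) :=
  .node (.node (.node (.node (.node (.node (.node (.leaf (11150564477690266645007255244051343345194682,6,1)) (.leaf (11152268650332112648913084488402929595466979,518,1))) (.node (.leaf (13807955671318765559587301219909924988937075,143,1)) (.leaf (11151544033036317195365356508151689351536641,769,774)))) (.node (.node (.leaf (13366921690392795676282429814596036607321401,46,8)) (.leaf (11152721917078655427467578889739921887327939,577,1))) (.leaf (20031882014388957917653169282000519063978166,222,8)))) (.node (.node (.node (.leaf (15671188708106040347625128461283574479226716,28,3))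 (.leaf (11150468728312586056165536384494552585220672,552,1))) (.leaf (13258092548703896582489909833943014371201160,180,1))) (.node (.node (.leaf (13563435024219364998602398240718715189314591,82,4)) (.leaf (14512114202808013373838321566106963195523512,4,710))) (.leaf (19689000047708521008607815827453326000624499,276,4))))) (.node (.node (.node (.node (.leaf (19105795920164588284338717656790744906630148,19,0)) (.leaf (14036477578812648575872939289055840735069007,8,550))) (.leaf (11478026522431730273769554249719502050424563,161,3))) (.node (.node (.leaf (13831759689147338625786218089251766067148309,62,3)) (.leaf (11151054660141953649864258895797750687924698,621,1))) (.leaf (19710518563710727403042177629000760895218159,246,8)))) (.node (.node (.node (.leaf (18900500244697473909639894241336957994885152,37,0)) (.leaf (11152935982092399169403699400281366264845766,565,0))) (.leaf (21470112084686991571352466889374873115665374,204,3))) (.node (.node (.leaf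 (17342015391108020813883681458974804198821954,111,3)) (.leaf (11151735485686688128728114985752223050633217,740,742))) (.leaf (18394051314529601322065804757509691544008116,319,4)))))) (.node (.node (.node (.node (.node (.leaf (15083865855222835894609222180446518073352374,4,1)) (.leaf (11152313870578564096167826356926525132722574,526,0))) (.leaf (21424266211114942737225105428564299169399872,149,4))) (.node (.node (.leaf (18414009437826751246172521374005773509608309,53,3)) (.leaf (11150478999947155512088116407635164855746656,598,552))) (.leaf (19118043326004113544858657833884434003539116,234,8)))) (.node (.node (.node (.leaf (13972015438479024749301874623832404772843868,32,3)) (.leaf (11151458867106412221711812045460671172359027,558,8))) (.leaf (13688283986958298752040115815063452205711887,191,1))) (.node (.node (.leaf (21543980190241635706646996178121559338205791,96,3)) (.leaf (11152491772748898349728366835836723375702017,723,718))) (.leaf (16792963293165125565425477053159369797814243,296,3)))))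 (.node (.node (.node (.node (.leaf (15005676326026026237366502095900310471341359,24,1)) (.leaf (11150748910103731395920947705112443259114866,527,552))) (.leaf (17814839209330695369666341610402610194407926,171,1))) (.node (.node (.leaf (17583016472134066906077608663276298846033722,72,1)) (.leaf (11150377032669590901531943133676905587155534,652,8))) (.leaf (14316111505854504127620726125448344844289337,262,8)))) (.node (.node (.node (.leaf (21392982821855853430820819016234517029106231,41,1)) (.leaf (11152673695224852082070446033339029865496612,569,552))) (.leaf (11488563078859295265263431482974944941179447,211,3))) (.node (.node (.leaf (15224690356964200427001632051512068685186622,135,3)) (.leaf (11150383859105852742986243647463183234375681,757,744))) (.leaf (19808906690883222641604944783184535209664546,349,4))))))) (.node (.node (.node (.node (.node (.node (.leaf (11820474201790966715633724684156508650456698,3,4)) (.leaf (11151944129457470292517933684890006620599447,518,8)))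 (.leaf (16389288405696543467284756313412206459442489,146,8))) (.node (.node (.leaf (20368725801158471103520798054674766722560591,50,3)) (.leaf (11150661226823362434755057961278491301356197,591,1))) (.leaf (16132435334985221597744161786868788332814578,230,0)))) (.node (.node (.node (.leaf (14730028082588352972798525218251198367831652,30,3)) (.leaf (11150454309620286961417903771735850908477353,555,0))) (.leaf (18756386668140903524940384476698388549673567,186,3))) (.node (.node (.leaf (22161476849599615180980971350908954568079162,88,0)) (.leaf (11152493289876597320301428676606600773812225,8,718))) (.leaf (20162223384341801825806254319971009376669826,286,3))))) (.node (.node (.node (.node (.leaf (19208769941092099969512759455848310484906144,22,8)) (.leaf (11151542423205881128467539672517364021752693,7,552))) (.leaf (11746388425549814654724562398390069075940600,165,4))) (.node (.node (.leaf (18252003192708013646664547841133308613189874,66,4)) (.leaf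 (11151680565548067631008415077494956799042910,635,1))) (.leaf (12192396271514303588221020922005422583582725,253,4)))) (.node (.node (.node (.leaf (17474073935336449153716733065029659749532676,39,1)) (.leaf (11150388717473435323417789746323113421858736,567,8))) (.leaf (14956263452885053279317476341200970359619702,208,4))) (.node (.node (.leaf (19796478510378692328591545155197409494696884,119,4)) (.leaf (11151785817876642296723590670889667599024975,747,750))) (.leaf (17288951481832694763491190982496487342172105,334,3)))))) (.node (.node (.node (.node (.node (.leaf (20381264676309389476008876505714845052121885,16,8)) (.leaf (11150765064374929512283984952949946970252290,532,0))) (.leaf (16694694264827634106296091815604082415703827,155,3))) (.node (.node (.leaf (14532118762458285480333157184297794902376512,58,4)) (.leaf (11151995642208119421270656141702344559867886,611,1))) (.leaf (21903308769973213661464164829359869948186627,240,0)))) (.node (.node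 (.node (.leaf (18065235038888468569606684752091509800276215,34,4)) (.leaf (11152300049370508170382811191928308991222002,562,0))) (.leaf (15649719367383436776877558760337683514171959,195,3))) (.node (.node (.leaf (14390491246306171534096325616315861399831168,103,3)) (.leaf (11152492759820467163005035568743786650914817,733,734))) (.leaf (19720150697232060523885832812619654179653162,309,4))))) (.node (.node (.node (.node (.leaf (15774545937506284479832718856678508126188250,26,8)) (.leaf (11151944174476951989896749854847416269492471,537,552))) (.leaf (19924159235816234844198044978371856037515757,175,0))) (.node (.node (.leaf (14762067637678934472802171916968242507658533,77,4)) (.leaf (11152877031724182414734022510872220844815418,663,8))) (.leaf (16868518817636548366186252409385749370896544,271,0)))) (.node (.node (.node (.leaf (22225811306079076186668756650049876806141260,43,4)) (.leaf (11153040799620683075279768431238779173209656,572,8))) (.leaf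 (14189590213578918553541899857625345250604589,218,3))) (.node (.node (.leaf (11515665782577146751377678621667612436124800,140,1)) (.leaf (11724745858675351592309154541282616742105528,711,35))) (.leaf (21072628140085309878891112030976465283314403,378,0)))))))

noncomputable def sel1_11 : Tr (ℕ × ℕ × ℕ) := .node sel1_110 sel1_111

noncomputable def sel1_1 : Tr (ℕ × ℕ × ℕ) := .node sel1_10 sel1_11

noncomputable def sel1_ : Tr (ℕ × ℕ × ℕ) := .node sel1_0 sel1_1

noncomputable def orb1 : Orb := ⟨trio1_, roots1, sel1_, 777, 5, [(2048,[777,3,9,10,11,12,13,14,4,15,16,17,18,19,20,21,22,23,24,25,26,27,28,29,30,31,32,33,34,35,36,37,38,39,40,41,42,43,44,45,46,47,48,49,50,51,52,53,54,55,56,57,58,59,60,61,62,63,64,65,66,67,68,69,70,71,72,73,74,75,76,77,78,79,80,81,82,83,84,85,86,87,88,89,90,91,92,93,94,95,96,97,98,99,100,101,102,103,104,105,106,107,108,109,110,111,112,113,114,115,116,117,118,119,120,121,122,123,124,125,126,127,128,129,130,131,132,133,134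,135,136,137,138,139,140,141,142,143,144,145,146,147,148,149,150,151,152,153,154,155,156,157,158,159,160,161,162,163,164,165,166,167,168,169,170,171,172,173,174,175,176,177,178,179,180,181,182,183,184,185,186,187,188,189,190,191,192,193,194,195,196,197,198,199,200,201,202,203,204,205,206,207,208,209,210,211,212,213,214,215,216,217,218,219,220,221,222,223,224,225,226,227,228,229,230,231,232,233,234,235,236,237,238,239,240,241,242,243,244,245,246,247,248,249,250,251,252,253,254,255,256,257,258,259,260,261,262,263,264,265,266,267,268,269,270,271,272,273,274,275,276,277,278,279,280,281,282,283,284,285,286,287,288,289,290,291,292,293,294,295,296,297,298,299,300,301,302,303,304,305,306,307,308,309,310,311,312,313,314,315,316,317,318,319,320,321,322,323,324,325,326,327,328,329,330,331,332,333,334,335,336,337,338,339,340,341,342,343,344,345,346,347,348,349,350,351,352,353,354,355,356,357,358,359,360,361,362,363,364,365,366,367,368,369,370,371,372,373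,374,375,376,377,378,379,380,381,382,383,384,385,386,387,388,389,390,391,392,393,394,395,396,397,398,399,400,401,402,403,404,405,406,407,408,409,410,411,412,413,414,415,416,417,418,419,420,421,422,423,424,425,426,427,428,429,430,431,432,433,434,435,436,437,438,439,440,441,442,443,444,445,446,447,448,449,450,451,452,453,454,455,456,457,458,459,460,461,462,463,464,465,466,467,468,469,470,471,472,473,474,475,476,477,478,479,480,481,482,483,484,485,486,487,488,489,490,491,492,493,494,495,496,497,498,499,500,501,502,503,504,505,506,507,508,509,510,511,512,513,514,515,516,517]),(1,[777,0,1,5,518,6,519,7,520,521,522,523,524,525,526,527,528,529,530,531,532,533,534,535,536,537,538,539,540,541,542,543,544,545,546,547,552,553,554,555,556,557,558,559,560,561,562,563,564,565,566,567,568,569,570,571,572,573,574,575,576,577,578,579,580,581,582,583,584,585,586,587,588,589,590,591,592,593,594,595,596,597,598,599,600,601,602,603,604,605,606,607,608,609,610,611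,612,613,614,615,616,617,618,619,620,621,622,623,624,625,626,627,628,629,630,631,632,633,634,635,636,637,638,639,640,641,642,643,644,645,646,647,648,649,650,651,652,653,654,655,656,657,658,659,660,661,662,663,664,665,666,667,668,669,670,671,672,673,674,675,676,677,678,679,680,681,682,683,684,685,686,687,688,689,690,691,692,693,694,695,696,697,698,699,700,701,702,703,704,705,706,707]),(2,[777,8,718,719,720,721,722,723,724,725,726,727,728,729]),(4,[777,744,756,757,758,759]),(8,[777,765,775,776])], 15180⟩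

end Cfsg.Agent.Lib.J4Dce59.Data
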