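import Cfsg.Agent.Lib.J4Dce59.CoverRules

/-! # Generated data for the double coset enumeration (Orb2) -/

set_option autoImplicit false
set_option maxRecDepth 100000
set_option maxHeartbeats 0

namespace Cfsg.Agent.Lib.J4Dce59.Data

noncomputable def trio2_00000 : Tr TStep :=
  .node (.node (.node (.node (.node (.node (.node (.leaf (.root 0)) (.leaf (.up 3 176 [36] 0 [88,56,176,152]))) (.node (.leaf (.up 3 1947 [32] 0 [87,110,155,185])) (.leaf (.up 3 3541 [58] 276 [56,43,182])))) (.node (.node (.leaf (.up 5 3404 [191] 274 [55,104,18])) (.leaf (.up 5 1968 [191] 274 [87,110,104,241]))) (.node (.leaf (.up 1 5 [37] 0 [87,89,244])) (.leaf (.up 4 2600 [191] 274 [88,93,89,213]))))) (.node (.node (.node (.leaf (.up 3 422 [191] 274 [57,93,123,61])) (.leaf (.up 4 2431 [191] 274 [88,110,123,214]))) (.node (.leaf (.up 3 2426 [36] 0 [88,93,104,22])) (.leaf (.up 4 2553 [191] 274 [110,140,77])))) (.node (.node (.leaf (.up 4 2009 [191] 274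 [94,104,11])) (.leaf (.up 4 3681 [48] 530 [94,116,158]))) (.leaf (.up 3 1657 [191] 274 [87,55,104,136]))))) (.node (.node (.node (.node (.leaf (.up 4 3737 [35] 0 [88,55,43,22])) (.leaf (.up 4 298 [48] 530 [87,55,155,187]))) (.node (.leaf (.up 5 2146 [191] 274 [94,143])) (.leaf (.up 1 2 [28] 0 [87,116,33])))) (.node (.node (.leaf (.up 3 2795 [191] 274 [87,55,91,15])) (.leaf (.up 1 283 [191] 274 [57,104,137]))) (.node (.leaf (.up 4 2932 [191] 274 [57,93,116,230])) (.leaf (.up 4 548 [35] 0 [56,89,180]))))) (.node (.node (.node (.leaf (.up 4 1811 [191] 274 [57,110,44,179])) (.leaf (.up 4 2431 [32] 0 [88,56,198]))) (.node (.leaf (.up 4 1441 [32] 0 [57,94,91,196])) (.leaf (.up 3 56 [191] 274 [93,90,72])))) (.node (.node (.leaf (.up 4 118 [191] 274 [87,110,91,128])) (.leaf (.up 4 1783 [58] 276 [88,93,44,206]))) (.leaf (.up 3 709 [191] 274 [88,55,44,61])))))) (.node (.node (.node (.node (.node (.leaf (.up 4 3757 [52] 1163 [57,93,116,97]))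 (.leaf (.up 4 304 [191] 274 [110,43,164]))) (.node (.leaf (.up 3 690 [52] 1163 [88,55,137])) (.leaf (.up 3 709 [37] 0 [87,110,89,175])))) (.node (.node (.leaf (.up 5 1594 [191] 274 [87,55,90,145])) (.leaf (.up 3 2308 [28] 0 [87,56,90,118]))) (.node (.leaf (.up 4 3417 [52] 1163 [94,123,6])) (.leaf (.up 3 3160 [58] 276 [87,56,103,158]))))) (.node (.node (.node (.leaf (.up 4 1212 [32] 0 [110,103,75])) (.leaf (.up 2 254 [52] 1163 [57,94,91,222]))) (.node (.leaf (.up 4 1589 [32] 0 [88,208])) (.leaf (.up 4 974 [36] 0 [88,93,123,18])))) (.node (.node (.leaf (.up 5 2158 [191] 274 [57,55,90,142])) (.leaf (.up 5 1359 [58] 276 [94,155,203]))) (.leaf (.up 3 1950 [48] 530 [88,103,25]))))) (.node (.node (.node (.node (.leaf (.up 5 3319 [36] 0 [87,56,140,141])) (.leaf (.up 4 1595 [37] 0 [57,55,42,211]))) (.node (.leaf (.up 4 2510 [48] 530 [94,42,125])) (.leaf (.up 5 2128 [58] 276 [88,93,123,4])))) (.node (.node (.leaf (.up 3 1524 [32] 0 [87,56,42,6]))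 (.leaf (.up 4 857 [35] 0 [57,93,155,75]))) (.node (.leaf (.up 4 3332 [191] 274 [88,55,91,29])) (.leaf (.up 4 3374 [32] 0 [110,91,241]))))) (.node (.node (.node (.leaf (.up 3 1364 [48] 530 [87,94,44,134])) (.leaf (.up 4 2771 [35] 0 [87,93,103,178]))) (.node (.leaf (.up 4 2043 [191] 274 [93,123,59])) (.leaf (.up 4 2732 [36] 0 [87,110,42,181])))) (.node (.node (.leaf (.up 4 2736 [37] 0 [155,37])) (.leaf (.up 2 1603 [35] 0 [57,93,89,142]))) (.leaf (.up 4 2755 [35] 0 [88,56,116,212]))))))) (.node (.node (.node (.node (.node (.node (.leaf (.up 5 1231 [35] 0 [93,123,33])) (.leaf (.up 4 1593 [58] 276 [110,176,96]))) (.node (.leaf (.up 5 1344 [191] 274 [56,23])) (.leaf (.up 4 1037 [32] 0 [57,55,91,137])))) (.node (.node (.leaf (.up 4 3269 [36] 0 [88,110,103,22])) (.leaf (.up 4 2510 [58] 276 [87,56,123,217]))) (.node (.leaf (.up 4 339 [58] 276 [88,56,104,121])) (.leaf (.up 4 131 [191] 274 [93,155,6]))))) (.node (.node (.node (.leaf (.up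 5 1446 [191] 274 [88,55,104,114])) (.leaf (.up 3 710 [58] 276 [57,56,176,122]))) (.node (.leaf (.up 4 3625 [48] 530 [57,94,176,106])) (.leaf (.up 3 2215 [191] 274 [88,56,207])))) (.node (.node (.leaf (.up 3 3589 [36] 0 [87,55,123,211])) (.leaf (.up 6 2305 [58] 276 [88,55,104,197]))) (.leaf (.up 2 15 [48] 530 [57,116,170]))))) (.node (.node (.node (.node (.leaf (.up 2 136 [32] 0 [94,90,239])) (.leaf (.up 4 3374 [35] 0 [88,110,176,205]))) (.node (.leaf (.up 3 114 [52] 1163 [88,93,90,117])) (.leaf (.up 3 3079 [191] 274 [87,94,43,115])))) (.node (.node (.leaf (.up 3 1010 [58] 276 [88,94,123,215])) (.leaf (.up 4 3034 [52] 1163 [87,94,89,209]))) (.node (.leaf (.up 3 2032 [58] 276 [57,103,109])) (.leaf (.up 3 2480 [191] 274 [88,110,104,76]))))) (.node (.node (.node (.leaf (.up 4 1804 [48] 530 [87,55,103,187])) (.leaf (.up 4 3438 [32] 0 [56,44,146]))) (.node (.leaf (.up 4 3149 [191] 274 [88,110,90,126])) (.leaf (.up 3 3291 [52] 1163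 [88,56,92])))) (.node (.node (.leaf (.up 4 890 [58] 276 [87,93,44,181])) (.leaf (.up 4 1647 [58] 276 [88,43,198]))) (.leaf (.up 3 1078 [191] 274 [88,110,43,243])))))) (.node (.node (.node (.node (.node (.leaf (.up 3 3472 [36] 0 [87,55,176,0])) (.leaf (.up 4 432 [37] 0 [57,93,176,219]))) (.node (.leaf (.up 2 2810 [32] 0 [55,140,206])) (.leaf (.up 4 2499 [35] 0 [57,110,116,196])))) (.node (.node (.leaf (.up 3 3721 [36] 0 [57,56,44,35])) (.leaf (.up 5 1240 [58] 276 [87,110,140,139]))) (.node (.leaf (.up 4 2855 [48] 530 [110,140,174])) (.leaf (.up 4 776 [48] 530 [93,116,27]))))) (.node (.node (.node (.leaf (.up 4 3548 [58] 276 [87,94,44,164])) (.leaf (.up 3 2160 [52] 1163 [87,56,42,211]))) (.node (.leaf (.up 3 878 [191] 274 [57,55,140,245])) (.leaf (.up 5 2146 [58] 276 [88,56,104,125])))) (.node (.node (.leaf (.up 3 925 [36] 0 [57,116,130])) (.leaf (.up 3 2191 [58] 276 [56,176,239]))) (.leaf (.up 4 1346 [35] 0 [88,110,155,132])))))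 (.node (.node (.node (.node (.leaf (.up 3 1695 [37] 0 [88,93,155,157])) (.leaf (.up 4 1127 [52] 1163 [55,89,238]))) (.node (.leaf (.up 4 3095 [191] 274 [87,56,103,31])) (.leaf (.up 4 1595 [191] 274 [88,56,91,180])))) (.node (.node (.leaf (.up 5 1472 [37] 0 [88,93,116,137])) (.leaf (.up 4 2909 [58] 276 [87,94,44,147]))) (.leaf (.up 4 1853 [58] 276 [88,89,31])))) (.node (.node (.node (.leaf (.up 5 2265 [191] 274 [87,55,43,221])) (.leaf (.up 4 1910 [191] 274 [57,94,91,197]))) (.node (.leaf (.up 4 2155 [36] 0 [57,93,43,25])) (.leaf (.up 2 248 [58] 276 [123,77])))) (.node (.node (.leaf (.up 4 3757 [191] 274 [87,56,155,15])) (.leaf (.up 4 3029 [36] 0 [57,93,140,202]))) (.leaf (.up 4 3509 [52] 1163 [88,94,42,128])))))))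

noncomputable def trio2_00001 : Tr TStep :=
  .node (.node (.node (.node (.node (.node (.node (.leaf (.root 6)) (.leaf (.up 4 1279 [36] 0 [87,89,46]))) (.node (.leaf (.up 3 3291 [48] 530 [87,94,140,207])) (.leaf (.up 4 1183 [52] 1163 [88,104,92])))) (.node (.node (.leaf (.up 4 3001 [35] 0 [89])) (.leaf (.up 4 2427 [191] 274 [93,42,234]))) (.node (.leaf (.up 5 3184 [36] 0 [57,55,123,198])) (.leaf (.up 3 2408 [48] 530 [57,55,89,243]))))) (.node (.node (.node (.leaf (.up 4 3729 [191] 274 [57,93,104,205])) (.leaf (.up 2 2327 [36] 0 [87,55,104,144]))) (.node (.leaf (.up 3 3008 [191] 274 [57,94,42,197])) (.leaf (.up 4 1166 [48] 530 [55,90,165])))) (.node (.node (.leaf (.up 5 1291 [48] 530 [87,93,89,31])) (.leaf (.up 3 3037 [32] 0 [88,56,90,237]))) (.leaf (.up 4 1143 [36] 0 [57,110,176,239]))))) (.node (.node (.node (.node (.leaf (.up 2 1221 [191] 274 [57,94,89,69])) (.leaf (.up 5 1723 [48] 530 [57,94,104,34]))) (.node (.leaf (.up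 3 3117 [48] 530 [44,147])) (.leaf (.up 3 1640 [37] 0 [87,55,42,245])))) (.node (.node (.leaf (.up 5 2071 [58] 276 [87,94,89,148])) (.leaf (.up 5 2796 [58] 276 [57,56,44,128]))) (.node (.leaf (.up 3 572 [191] 274 [88,110,140,197])) (.leaf (.up 5 1512 [48] 530 [56,89,222]))))) (.node (.node (.node (.leaf (.up 3 2105 [28] 0 [57,110,43,61])) (.leaf (.up 4 1165 [37] 0 [56,123,219]))) (.node (.leaf (.up 1 5 [191] 274 [56,103,209])) (.leaf (.up 2 2439 [32] 0 [57,93,176,204])))) (.node (.node (.leaf (.up 5 3000 [191] 274 [56,42,203])) (.leaf (.up 3 3541 [191] 274 [87,116,207]))) (.leaf (.up 4 2279 [58] 276 [87,94,116,197])))))) (.node (.node (.node (.node (.node (.leaf (.up 4 298 [36] 0 [87,93,104,229])) (.leaf (.up 4 2718 [48] 530 [57,110,90,23]))) (.node (.leaf (.up 3 2641 [58] 276 [94,176,8])) (.leaf (.up 5 3025 [58] 276 [94,104,133])))) (.node (.node (.leaf (.up 3 540 [191] 274 [87,93,44,25])) (.leaf (.up 3 3451 [32] 0 [57,110,176,33])))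 (.node (.leaf (.up 4 1177 [37] 0 [57,94,91,73])) (.leaf (.up 3 2250 [35] 0 [87,110,104,203]))))) (.node (.node (.node (.leaf (.up 4 1076 [58] 276 [88,94,90,102])) (.leaf (.up 4 17 [32] 0 [88,94,112]))) (.node (.leaf (.up 4 791 [35] 0 [87,94,90,153])) (.leaf (.up 3 2987 [36] 0 [57,91,0])))) (.node (.node (.leaf (.up 6 3289 [191] 274 [55,91,237])) (.leaf (.up 4 2519 [36] 0 [88,43,232]))) (.leaf (.up 5 1298 [52] 1163 [56,89,191]))))) (.node (.node (.node (.node (.leaf (.up 4 1851 [58] 276 [57,93,89,181])) (.leaf (.up 2 3533 [58] 276 [88,110,42,233]))) (.node (.leaf (.up 3 176 [191] 274 [57,56,42,169])) (.leaf (.up 3 2269 [52] 1163 [87,116,23])))) (.node (.node (.leaf (.up 3 2087 [48] 530 [88,55,116,242])) (.leaf (.up 5 3433 [58] 276 [57,94,123,127]))) (.node (.leaf (.up 4 1690 [58] 276 [55,43,109])) (.leaf (.up 3 3552 [37] 0 [57,110,103,101]))))) (.node (.node (.node (.leaf (.up 4 2718 [58] 276 [87,93,116,65])) (.leaf (.up 3 529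 [58] 276 [88,110,155,242]))) (.node (.leaf (.up 4 980 [191] 274 [88,94,43,212])) (.leaf (.up 5 3474 [58] 276 [57,93,104,130])))) (.node (.node (.leaf (.up 3 3537 [58] 276 [110,145])) (.leaf (.up 5 3498 [32] 0 [87,93,176,211]))) (.leaf (.up 4 669 [37] 0 [87,42,72]))))))) (.node (.node (.node (.node (.node (.node (.leaf (.up 4 3385 [191] 274 [93,104,109])) (.leaf (.up 3 1602 [48] 530 [93,103,130]))) (.node (.leaf (.up 4 2771 [48] 530 [87,103,31])) (.leaf (.up 4 2131 [191] 274 [123,188])))) (.node (.node (.leaf (.up 4 2084 [58] 276 [88,43,237])) (.leaf (.up 4 2154 [36] 0 [87,56,43,236]))) (.node (.leaf (.up 4 827 [35] 0 [88,104,185])) (.leaf (.up 2 3559 [28] 0 [87,176,203]))))) (.node (.node (.node (.leaf (.up 3 280 [58] 276 [88,93,131])) (.leaf (.up 5 1512 [32] 0 [87,93,155,65]))) (.node (.leaf (.up 4 978 [58] 276 [88,110,104,29])) (.leaf (.up 5 1630 [191] 274 [88,94,104,113])))) (.node (.node (.leaf (.up 2 2623 [32] 0 [87,110,155,188]))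 (.leaf (.up 5 2093 [36] 0 [87,104,187]))) (.leaf (.up 3 2828 [48] 530 [57,94,104,194]))))) (.node (.node (.node (.node (.leaf (.up 2 24 [191] 274 [57,185])) (.leaf (.up 4 2315 [35] 0 [94,89,165]))) (.node (.leaf (.up 2 145 [48] 530 [57,110,89,121])) (.leaf (.up 4 303 [191] 274 [87,110,176,225])))) (.node (.node (.leaf (.up 5 3210 [36] 0 [87,56,176,158])) (.leaf (.up 3 1366 [191] 274 [87,56,91,76]))) (.node (.leaf (.up 3 1247 [36] 0 [88,56,89,76])) (.leaf (.up 4 1835 [35] 0 [57,110,91,76]))))) (.node (.node (.node (.leaf (.up 3 1078 [58] 276 [57,93,140,25])) (.leaf (.up 2 1603 [37] 0 [87,123,219]))) (.node (.leaf (.up 5 1721 [32] 0 [88,93,155,189])) (.leaf (.up 4 2823 [48] 530 [88,93,103,59])))) (.node (.node (.leaf (.up 2 1759 [191] 274 [88,56,116,4])) (.leaf (.up 3 871 [32] 0 [88,110,42,165]))) (.leaf (.up 4 543 [28] 0 [94,155,98])))))) (.node (.node (.node (.node (.node (.leaf (.up 3 454 [191] 274 [94,42,218])) (.leaf (.up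 2 1726 [58] 276 [88,55,91,10]))) (.node (.leaf (.up 3 1973 [37] 0 [88,56,42,7])) (.leaf (.up 4 3206 [191] 274 [55,134])))) (.node (.node (.leaf (.up 2 2623 [28] 0 [93,43,59])) (.leaf (.up 3 1551 [48] 530 [88,93,42,152]))) (.node (.leaf (.up 5 459 [36] 0 [87,94,43,21])) (.leaf (.up 3 3008 [48] 530 [110,43,112]))))) (.node (.node (.node (.leaf (.up 3 2281 [52] 1163 [88,94,91,189])) (.leaf (.up 4 3737 [36] 0 [87,110,91,118]))) (.node (.leaf (.up 4 2877 [58] 276 [57,123,76])) (.leaf (.up 4 3701 [58] 276 [88,94,140,230])))) (.node (.node (.leaf (.up 3 3676 [58] 276 [93,43,143])) (.leaf (.up 4 1327 [37] 0 [87,94,44,221]))) (.leaf (.up 5 358 [36] 0 [123,134]))))) (.node (.node (.node (.node (.leaf (.up 5 3210 [191] 274 [93,104,168])) (.leaf (.up 4 3496 [36] 0 [94,91,124]))) (.node (.leaf (.up 3 2515 [37] 0 [57,110,176,201])) (.leaf (.up 2 1603 [52] 1163 [94,155,196])))) (.node (.node (.leaf (.up 6 1039 [191] 274 [116,96])) (.leaf (.up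 3 3788 [36] 0 [94,123,236]))) (.leaf (.up 4 239 [191] 274 [88,94,42,225])))) (.node (.node (.node (.leaf (.up 4 763 [37] 0 [57,55,90,9])) (.leaf (.up 4 350 [36] 0 [57,110,90,120]))) (.node (.leaf (.up 3 3633 [58] 276 [88,93,89,230])) (.leaf (.up 3 1340 [58] 276 [88,55,43,7])))) (.node (.node (.leaf (.up 3 3721 [52] 1163 [93,116,143])) (.leaf (.up 3 821 [48] 530 [87,123,191]))) (.leaf (.up 2 1420 [48] 530 [88,110,116,238])))))))

noncomputable def trio2_0000 : Tr TStep := .node trio2_00000 trio2_00001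

noncomputable def trio2_00010 : Tr TStep :=
  .node (.node (.node (.node (.node (.node (.node (.leaf (.up 4 1967 [32] 0 [55,104,192])) (.leaf (.up 4 1757 [191] 274 [56,89,112]))) (.node (.leaf (.up 4 967 [48] 530 [88,55,104,168])) (.leaf (.up 5 3372 [191] 274 [57,43,2])))) (.node (.node (.leaf (.up 5 1716 [35] 0 [57,110,42,125])) (.leaf (.up 5 1993 [191] 274 [87,90,118]))) (.node (.leaf (.up 4 2336 [35] 0 [88,94,155,205])) (.leaf (.up 4 2527 [32] 0 [55,176,23]))))) (.node (.node (.node (.leaf (.up 2 2451 [191] 274 [87,94,43,234])) (.leaf (.up 2 3068 [191] 274 [87,55,116,169]))) (.node (.leaf (.up 4 3095 [32] 0 [94,155,212])) (.leaf (.up 4 1722 [52] 1163 [87,55,44,245])))) (.node (.node (.leaf (.up 3 1317 [191] 274 [88,43,177])) (.leaf (.up 4 932 [32] 0 [91,60]))) (.leaf (.up 5 459 [191] 274 [88,56,104,15]))))) (.node (.node (.node (.node (.leaf (.up 1 16 [35] 0 [88,110,104,222])) (.leaf (.up 5 2983 [37] 0 [88,43,184]))) (.node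 (.leaf (.up 3 2433 [191] 274 [87,104,147])) (.leaf (.up 5 1965 [36] 0 [93,90,144])))) (.node (.node (.leaf (.up 2 794 [36] 0 [88,42])) (.leaf (.up 4 1125 [32] 0 [91,8]))) (.node (.leaf (.up 4 1762 [32] 0 [93,91,61])) (.leaf (.up 4 524 [37] 0 [88,140,139]))))) (.node (.node (.node (.leaf (.up 3 1652 [52] 1163 [88,56,43,0])) (.leaf (.up 4 309 [191] 274 [87,116,143]))) (.node (.leaf (.up 4 2015 [36] 0 [88,56,89,134])) (.leaf (.up 3 3037 [28] 0 [87,94,43,211])))) (.node (.node (.leaf (.up 4 194 [36] 0 [57,94,44,33])) (.leaf (.up 3 3543 [32] 0 [88,110,104,159]))) (.leaf (.up 4 600 [48] 530 [88,176,16])))))) (.node (.node (.node (.node (.node (.leaf (.up 2 654 [32] 0 [87,93,123,216])) (.leaf (.up 4 215 [37] 0 [87,56,103,69]))) (.node (.leaf (.up 3 2215 [58] 276 [87,123,243])) (.leaf (.up 3 349 [52] 1163 [56,90,75])))) (.node (.node (.leaf (.up 3 587 [58] 276 [87,94,162])) (.leaf (.up 2 1181 [36] 0 [88,44,204]))) (.node (.leaf (.up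 3 2645 [36] 0 [57,94,140,200])) (.leaf (.up 4 1422 [52] 1163 [57,110,42,198]))))) (.node (.node (.node (.leaf (.up 3 710 [37] 0 [110,155,206])) (.leaf (.up 4 1851 [37] 0 [87,55,176,148]))) (.node (.leaf (.up 5 1231 [58] 276 [88,56,140,139])) (.leaf (.up 3 1314 [191] 274 [88,55,89,241])))) (.node (.node (.leaf (.up 3 1621 [36] 0 [87,93,103,135])) (.leaf (.up 4 1053 [58] 276 [87,93,103,189]))) (.leaf (.up 4 2966 [48] 530 [88,176,243]))))) (.node (.node (.node (.node (.leaf (.up 4 2755 [191] 274 [57,55,43,213])) (.leaf (.up 5 3243 [191] 274 [93,44,246]))) (.node (.leaf (.up 3 349 [37] 0 [87,55,176,184])) (.leaf (.up 3 1514 [191] 274 [57,55,123,136])))) (.node (.node (.leaf (.up 2 2688 [35] 0 [55,90,124])) (.leaf (.up 4 867 [58] 276 [55,155,148]))) (.node (.leaf (.up 4 2238 [36] 0 [94,43,248])) (.leaf (.up 4 2998 [52] 1163 [91,153]))))) (.node (.node (.node (.leaf (.up 4 188 [58] 276 [87,42,247])) (.leaf (.up 3 3154 [36] 0 [57,93,42,239])))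 (.node (.leaf (.up 5 168 [191] 274 [57,94,155,134])) (.leaf (.up 4 1105 [191] 274 [110,173])))) (.node (.node (.leaf (.up 3 663 [191] 274 [57,94,176,162])) (.leaf (.up 4 779 [48] 530 [87,103,137]))) (.leaf (.up 3 587 [48] 530 [55,42,1]))))))) (.node (.node (.node (.node (.node (.node (.leaf (.up 4 3701 [52] 1163 [88,94,123,200])) (.leaf (.up 4 424 [58] 276 [88,55,106]))) (.node (.leaf (.up 3 1838 [48] 530 [57,56,128])) (.leaf (.up 3 3564 [32] 0 [55,155,225])))) (.node (.node (.leaf (.up 4 640 [32] 0 [57,93,104,243])) (.leaf (.up 3 3309 [58] 276 [56,123,8]))) (.node (.leaf (.up 5 1333 [58] 276 [88,56,123,4])) (.leaf (.up 4 3279 [36] 0 [56,91,165]))))) (.node (.node (.node (.leaf (.up 5 1760 [191] 274 [57,55,91,10])) (.leaf (.up 4 3534 [36] 0 [88,94,123,74]))) (.node (.leaf (.up 3 1247 [48] 530 [88,110,43,3])) (.leaf (.up 4 2085 [191] 274 [43,241])))) (.node (.node (.leaf (.up 4 1170 [35] 0 [57,110,89,122])) (.leaf (.up 5 1034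 [32] 0 [87,155,208]))) (.leaf (.up 4 603 [191] 274 [88,93,123,203]))))) (.node (.node (.node (.node (.leaf (.up 4 3206 [52] 1163 [88,93,116,164])) (.leaf (.up 4 1609 [58] 276 [110,116,239]))) (.node (.leaf (.up 5 2295 [191] 274 [93,140,243])) (.leaf (.up 4 2060 [191] 274 [88,110,89,182])))) (.node (.node (.leaf (.up 3 589 [35] 0 [87,93,103,157])) (.leaf (.up 5 473 [191] 274 [55,89,186]))) (.node (.leaf (.up 4 620 [37] 0 [57,94,176,187])) (.leaf (.up 5 245 [35] 0 [93,103,154]))))) (.node (.node (.node (.leaf (.up 3 1977 [32] 0 [88,55,116,191])) (.leaf (.up 3 3058 [191] 274 [110,42,34]))) (.node (.leaf (.up 4 425 [58] 276 [87,55,155,132])) (.leaf (.up 3 3732 [32] 0 [57,56,140,190])))) (.node (.node (.leaf (.up 4 920 [37] 0 [88,110,104,160])) (.leaf (.up 2 3468 [48] 530 [57,93,116,30]))) (.leaf (.up 5 1599 [58] 276 [57,93,116,159])))))) (.node (.node (.node (.node (.node (.leaf (.up 3 2032 [32] 0 [55,89,12])) (.leaf (.up 4 3426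 [191] 274 [87,89,117]))) (.node (.leaf (.up 4 2078 [58] 276 [57,110,103,163])) (.leaf (.up 5 1798 [58] 276 [88,94,96])))) (.node (.node (.leaf (.up 4 1815 [191] 274 [88,176,7])) (.leaf (.up 5 2046 [58] 276 [87,140,174]))) (.node (.leaf (.up 2 1463 [58] 276 [57,94,91,227])) (.leaf (.up 4 2061 [191] 274 [94,176,10]))))) (.node (.node (.node (.leaf (.up 4 1608 [191] 274 [55,176,4])) (.leaf (.up 2 2327 [48] 530 [57,93,44,158]))) (.node (.leaf (.up 5 61 [191] 274 [57,55,42,107])) (.leaf (.up 3 3044 [191] 274 [57,93,176,226])))) (.node (.node (.leaf (.up 2 1726 [191] 274 [87,56,176,150])) (.leaf (.up 3 1983 [58] 276 [87,94,155,6]))) (.leaf (.up 3 3633 [37] 0 [88,56,96]))))) (.node (.node (.node (.node (.leaf (.up 4 1419 [48] 530 [88,110,90,33])) (.leaf (.up 4 903 [48] 530 [110,11]))) (.node (.leaf (.up 3 3615 [48] 530 [88,110,89,4])) (.leaf (.up 5 246 [48] 530 [88,56,96])))) (.node (.node (.leaf (.up 5 664 [191] 274 [87,56,90,171]))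 (.leaf (.up 5 2744 [58] 276 [88,110,176,72]))) (.leaf (.up 4 3073 [32] 0 [88,110,44,101])))) (.node (.node (.node (.leaf (.up 4 3390 [58] 276 [87,110,89,98])) (.leaf (.up 4 3352 [191] 274 [88,110,59]))) (.node (.leaf (.up 4 2067 [191] 274 [57,94,44,99])) (.leaf (.up 2 733 [58] 276 [87,55,91,163])))) (.node (.node (.leaf (.up 4 1681 [32] 0 [56,140,16])) (.leaf (.up 3 1640 [32] 0 [88,93,43,235]))) (.leaf (.up 3 587 [191] 274 [87,110,44,114])))))))

noncomputable def trio2_00011 : Tr TStep :=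
  .node (.node (.node (.node (.node (.node (.node (.leaf (.up 1 2 [48] 530 [88,110,44,242])) (.leaf (.up 3 661 [36] 0 [88,56,42,6]))) (.node (.leaf (.up 1 2 [36] 0 [93,123,76])) (.leaf (.up 4 397 [37] 0 [57,93,42,178])))) (.node (.node (.leaf (.up 3 1390 [32] 0 [55,90,127])) (.leaf (.up 4 3118 [58] 276 [57,55,104,206]))) (.node (.leaf (.up 3 3564 [35] 0 [57,110,103,71])) (.leaf (.up 4 3122 [35] 0 [103,227]))))) (.node (.node (.node (.leaf (.up 2 737 [191] 274 [55,42,60])) (.leaf (.up 5 3634 [48] 530 [88,103,97]))) (.node (.leaf (.up 5 2423 [191] 274 [88,93,176,59])) (.leaf (.up 3 1029 [191] 274 [57,110,155,217])))) (.node (.node (.leaf (.up 3 3101 [32] 0 [88,56,104,35])) (.leaf (.up 4 1829 [191] 274 [57,56,218]))) (.leaf (.up 3 2685 [32] 0 [112]))))) (.node (.node (.node (.node (.leaf (.up 3 2147 [191] 274 [87,93,103,227])) (.leaf (.up 5 1461 [32] 0 [57,93,44,229]))) (.node (.leaf (.up 3 3008 [36] 0 [123,98])) (.leaf (.up 3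 3537 [35] 0 [87,56,90,21])))) (.node (.node (.leaf (.up 4 3034 [32] 0 [87,42,243])) (.leaf (.up 4 1002 [35] 0 [88,90,237]))) (.node (.leaf (.up 4 3429 [48] 530 [88,110,155,152])) (.leaf (.up 3 2368 [37] 0 [57,56,89,25]))))) (.node (.node (.node (.leaf (.up 3 3128 [52] 1163 [88,42,125])) (.leaf (.up 3 2173 [58] 276 [56,44,22]))) (.node (.leaf (.up 4 1260 [32] 0 [57,94,91,137])) (.leaf (.up 5 1907 [36] 0 [88,94,91,46])))) (.node (.node (.leaf (.up 3 1640 [191] 274 [87,104,233])) (.leaf (.up 3 2530 [52] 1163 [43,111]))) (.leaf (.up 3 1122 [37] 0 [57,55,104,160])))))) (.node (.node (.node (.node (.node (.leaf (.up 4 1755 [32] 0 [57,94,44,235])) (.leaf (.up 5 2834 [32] 0 [57,56,90,109]))) (.node (.leaf (.up 4 825 [52] 1163 [88,94,248])) (.leaf (.up 2 2363 [52] 1163 [88,93,103,225])))) (.node (.node (.leaf (.up 3 690 [48] 530 [88,94,44,239])) (.leaf (.up 3 3138 [37] 0 [87,110,123,61]))) (.node (.leaf (.up 4 1423 [191] 274 [55,116,131]))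 (.leaf (.up 5 2344 [36] 0 [88,93,123,9]))))) (.node (.node (.node (.leaf (.up 3 1005 [35] 0 [94,44,71])) (.leaf (.up 2 3793 [35] 0 [88,56,73]))) (.node (.leaf (.up 4 1679 [32] 0 [93,140,109])) (.leaf (.up 4 1376 [48] 530 [87,56,44,18])))) (.node (.node (.leaf (.up 5 1630 [35] 0 [88,93,44,232])) (.leaf (.up 3 3550 [35] 0 [57,56,44,6]))) (.leaf (.up 4 444 [191] 274 [88,55,116,21]))))) (.node (.node (.node (.node (.leaf (.up 4 3097 [191] 274 [56,123,125])) (.leaf (.up 4 543 [35] 0 [110,176,77]))) (.node (.leaf (.up 4 974 [35] 0 [55,155,196])) (.leaf (.up 5 1716 [36] 0 [88,56,90,34])))) (.node (.node (.leaf (.up 4 2771 [58] 276 [57,140,231])) (.leaf (.up 4 1861 [52] 1163 [56,104,111]))) (.leaf (.up 4 2589 [191] 274 [94,116,107])))) (.node (.node (.node (.leaf (.up 4 2572 [48] 530 [57,55,43,223])) (.leaf (.up 4 1833 [191] 274 [87,110,140,31]))) (.node (.leaf (.up 4 2332 [36] 0 [87,93,103,233])) (.leaf (.up 4 3534 [52] 1163 [87,55,103,20]))))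 (.node (.node (.leaf (.up 5 1185 [58] 276 [57,93,104,173])) (.leaf (.up 4 3496 [48] 530 [56,104,15]))) (.leaf (.up 2 24 [35] 0 [110,140,169]))))))) (.node (.node (.node (.node (.node (.node (.leaf (.up 2 248 [37] 0 [44,3])) (.leaf (.up 4 3310 [35] 0 [57,103,234]))) (.node (.leaf (.up 4 3595 [191] 274 [57,176,128])) (.leaf (.up 2 433 [36] 0 [57,140,190])))) (.node (.node (.leaf (.up 3 18 [52] 1163 [57,55,44,208])) (.leaf (.up 4 182 [191] 274 [93,155,190]))) (.node (.leaf (.up 4 194 [37] 0 [88,55,43,205])) (.leaf (.up 3 3101 [35] 0 [57,44,243]))))) (.node (.node (.node (.leaf (.up 4 181 [48] 530 [94,44,37])) (.leaf (.up 5 913 [191] 274 [87,104,142]))) (.node (.leaf (.up 3 3150 [35] 0 [88,56,43,8])) (.leaf (.up 4 1843 [191] 274 [57,56,104,76])))) (.node (.node (.leaf (.up 4 679 [191] 274 [87,55,101])) (.leaf (.up 5 1132 [191] 274 [87,110,44,196]))) (.leaf (.up 3 3721 [32] 0 [57,55,42,0]))))) (.node (.node (.node (.node (.leaf (.up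 4 1929 [36] 0 [93,91,216])) (.leaf (.up 5 2042 [36] 0 [56,103,226]))) (.node (.leaf (.up 2 3201 [35] 0 [88,55,176,9])) (.leaf (.up 4 1237 [191] 274 [55,138])))) (.node (.node (.leaf (.up 3 2215 [48] 530 [87,56,123,207])) (.leaf (.up 4 261 [48] 530 [57,176,7]))) (.node (.leaf (.up 4 3625 [32] 0 [93,104,22])) (.leaf (.up 4 105 [191] 274 [56,42,191]))))) (.node (.node (.node (.leaf (.up 4 3374 [58] 276 [88,110,91,193])) (.leaf (.up 4 2141 [35] 0 [88,55,90,220]))) (.node (.leaf (.up 4 2336 [36] 0 [87,93,116,143])) (.leaf (.up 2 3694 [36] 0 [57,110,89,152])))) (.node (.node (.leaf (.up 4 241 [58] 276 [57,55,91,171])) (.leaf (.up 4 2236 [58] 276 [88,56,42,108]))) (.leaf (.up 4 1849 [58] 276 [56,90,96])))))) (.node (.node (.node (.node (.node (.leaf (.up 5 3317 [58] 276 [57,56,91,59])) (.leaf (.up 4 1620 [52] 1163 [55,155,167]))) (.node (.leaf (.up 3 1090 [36] 0 [94,91,106])) (.leaf (.up 4 3781 [191] 274 [87,91,182])))) (.node (.node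 (.leaf (.up 4 2070 [191] 274 [88,116,216])) (.leaf (.up 4 842 [32] 0 [94,123,163]))) (.node (.leaf (.up 5 1707 [58] 276 [88,56,104,208])) (.leaf (.up 3 3567 [35] 0 [87,93,43,248]))))) (.node (.node (.node (.leaf (.up 4 2292 [191] 274 [57,93,90,247])) (.leaf (.up 3 985 [52] 1163 [87,118]))) (.node (.leaf (.up 3 1271 [191] 274 [87,94,43,221])) (.leaf (.up 1 5 [48] 530 [87,94,43,245])))) (.node (.node (.leaf (.up 5 1115 [191] 274 [57,93,43,138])) (.leaf (.up 4 1684 [36] 0 [110,42,106]))) (.leaf (.up 4 777 [191] 274 [87,56,146]))))) (.node (.node (.node (.node (.leaf (.up 1 16 [28] 0 [88,104,125])) (.leaf (.up 4 547 [32] 0 [88,94,43,230]))) (.node (.leaf (.up 2 2434 [191] 274 [57,55,155,207])) (.leaf (.up 3 895 [48] 530 [57,56,91,181])))) (.node (.node (.leaf (.up 4 3546 [35] 0 [116,112])) (.leaf (.up 3 1090 [191] 274 [57,55,155,129]))) (.leaf (.up 2 2867 [48] 530 [57,94,123,215])))) (.node (.node (.node (.leaf (.up 5 3205 [58]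 276 [56,43,37])) (.leaf (.up 4 1457 [191] 274 [57,104,136]))) (.node (.leaf (.up 4 1745 [36] 0 [93,44,205])) (.leaf (.up 4 2095 [37] 0 [87,56,44,122])))) (.node (.node (.leaf (.up 3 2756 [191] 274 [57,55,155,5])) (.leaf (.up 4 1279 [37] 0 [57,94,154]))) (.leaf (.up 3 2087 [191] 274 [88,55,90,175])))))))

noncomputable def trio2_0001 : Tr TStep := .node trio2_00010 trio2_00011

noncomputable def trio2_000 : Tr TStep := .node trio2_0000 trio2_0001

noncomputable def trio2_00100 : Tr TStep :=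
  .node (.node (.node (.node (.node (.node (.node (.leaf (.root 3)) (.leaf (.up 3 2177 [191] 274 [88,94,155,163]))) (.node (.leaf (.up 5 2780 [58] 276 [57,56,176,172])) (.leaf (.up 1 283 [37] 0 [87,110,42,244])))) (.node (.node (.leaf (.up 4 3428 [191] 274 [57,110,104,30])) (.leaf (.up 3 1602 [35] 0 [88,110,89,231]))) (.node (.leaf (.up 4 107 [191] 274 [56,176,4])) (.leaf (.up 4 680 [48] 530 [87,91,175]))))) (.node (.node (.node (.leaf (.up 5 228 [191] 274 [57,93,91,174])) (.leaf (.up 2 2634 [58] 276 [57,104,243]))) (.node (.leaf (.up 3 2320 [32] 0 [88,56,65])) (.leaf (.up 3 1961 [32] 0 [88,93,91,142])))) (.node (.node (.leaf (.up 3 3466 [35] 0 [88,93,104,174])) (.leaf (.up 4 2734 [35] 0 [93,44,124]))) (.leaf (.up 3 2250 [58] 276 [88,110,43,245]))))) (.node (.node (.node (.node (.leaf (.up 5 2301 [191] 274 [140,129])) (.leaf (.up 4 339 [32] 0 [88,94,155,179]))) (.node (.leaf (.up 4 1548 [35] 0 [110,89,146])) (.leaf (.up 4 397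 [191] 274 [88,110,91,114])))) (.node (.node (.leaf (.up 3 1103 [36] 0 [88,55,103,157])) (.leaf (.up 5 1110 [191] 274 [87,55,203]))) (.node (.leaf (.up 3 2008 [191] 274 [93,44,154])) (.leaf (.up 2 2261 [48] 530 [87,93,43,144]))))) (.node (.node (.node (.leaf (.up 5 2317 [191] 274 [87,110,42,0])) (.leaf (.up 4 556 [191] 274 [56,44,156]))) (.node (.leaf (.up 4 2843 [32] 0 [94,176,170])) (.leaf (.up 4 3578 [32] 0 [88,94,248])))) (.node (.node (.leaf (.up 3 3633 [48] 530 [110,116,154])) (.leaf (.up 2 794 [58] 276 [88,140,31]))) (.leaf (.up 4 800 [36] 0 [57,94,155,136])))))) (.node (.node (.node (.node (.node (.leaf (.up 4 2017 [32] 0 [57,56,42,129])) (.leaf (.up 4 1067 [32] 0 [87,55,104,240]))) (.node (.leaf (.up 2 2688 [37] 0 [93,123,160])) (.leaf (.up 4 1143 [58] 276 [57,93,123,36])))) (.node (.node (.leaf (.up 3 1839 [191] 274 [87,154])) (.leaf (.up 3 1355 [191] 274 [57,56,91,177]))) (.node (.leaf (.up 3 1640 [52] 1163 [88,56,89,2]))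 (.leaf (.up 2 2688 [36] 0 [88,140,75]))))) (.node (.node (.node (.leaf (.up 4 2630 [191] 274 [56,116,216])) (.leaf (.up 3 1247 [191] 274 [57,93,155,187]))) (.node (.leaf (.up 3 1838 [32] 0 [42,222])) (.leaf (.up 4 1320 [58] 276 [88,140,227])))) (.node (.node (.leaf (.up 4 640 [52] 1163 [57,94,15])) (.leaf (.up 3 2018 [48] 530 [87,110,44,130]))) (.leaf (.up 5 2063 [191] 274 [87,110,103,225]))))) (.node (.node (.node (.node (.leaf (.up 4 903 [37] 0 [88,140,216])) (.leaf (.up 3 3732 [191] 274 [88,94,43,165]))) (.node (.leaf (.up 3 878 [52] 1163 [56,42,168])) (.leaf (.up 4 1550 [191] 274 [87,89,208])))) (.node (.node (.leaf (.up 1 84 [37] 0 [87,93,44,46])) (.leaf (.up 2 2634 [191] 274 [57,56,104,159]))) (.node (.leaf (.up 5 3731 [36] 0 [94,44,9])) (.leaf (.up 4 1785 [191] 274 [57,94,42,248]))))) (.node (.node (.node (.leaf (.up 4 580 [58] 276 [110,103,211])) (.leaf (.up 5 2696 [48] 530 [88,94,90,16]))) (.node (.leaf (.up 4 1729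 [36] 0 [87,43,236])) (.leaf (.up 3 3312 [36] 0 [88,123,136])))) (.node (.node (.leaf (.up 4 178 [191] 274 [87,110,116,177])) (.leaf (.up 3 2323 [191] 274 [93,90,12]))) (.leaf (.up 5 2309 [191] 274 [88,55,91,96]))))))) (.node (.node (.node (.node (.node (.node (.leaf (.up 2 737 [52] 1163 [87,110,103,195])) (.leaf (.up 3 2795 [32] 0 [93,103,153]))) (.node (.leaf (.up 5 1713 [36] 0 [88,110,176,120])) (.leaf (.up 4 1296 [35] 0 [57,56,116,65])))) (.node (.node (.leaf (.up 3 2795 [36] 0 [57,110,123,227])) (.leaf (.up 4 1765 [35] 0 [110,155,146]))) (.node (.leaf (.up 5 449 [48] 530 [93,42,65])) (.leaf (.up 4 2183 [58] 276 [57,110,42,236]))))) (.node (.node (.node (.leaf (.up 5 3619 [52] 1163 [55,176,197])) (.leaf (.up 2 427 [191] 274 [87,55,116,230]))) (.node (.leaf (.up 3 1934 [52] 1163 [57,94,176,212])) (.leaf (.up 4 2017 [52] 1163 [88,110,155,245])))) (.node (.node (.leaf (.up 3 1340 [48] 530 [57,94,140,23])) (.leaf (.up 4 932 [37]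 0 [87,56,116,18]))) (.leaf (.up 3 635 [32] 0 [57,94,44,138]))))) (.node (.node (.node (.node (.leaf (.up 3 2323 [37] 0 [56,44,102])) (.leaf (.up 5 1733 [58] 276 [57,197]))) (.node (.leaf (.up 3 2441 [191] 274 [88,93,123,10])) (.leaf (.up 4 2745 [191] 274 [87,93,91,97])))) (.node (.node (.leaf (.up 5 3688 [32] 0 [57,110,104,179])) (.leaf (.up 2 1048 [37] 0 [56,140,207]))) (.node (.leaf (.up 4 1930 [191] 274 [94,155,108])) (.leaf (.up 3 271 [48] 530 [87,56,174]))))) (.node (.node (.node (.leaf (.up 3 1973 [36] 0 [87,110,44,134])) (.leaf (.up 4 2238 [37] 0 [88,110,176,208]))) (.node (.leaf (.up 4 1305 [191] 274 [88,94,140,132])) (.leaf (.up 2 1221 [32] 0 [87,93,140])))) (.node (.node (.leaf (.up 3 1340 [32] 0 [56,116,119])) (.leaf (.up 4 2589 [35] 0 [88,56,44,127]))) (.leaf (.up 4 1957 [48] 530 [93,103,162])))))) (.node (.node (.node (.node (.node (.leaf (.up 4 2350 [35] 0 [87,55,240])) (.leaf (.up 5 2986 [52] 1163 [87,155,119])))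 (.node (.leaf (.up 3 2988 [35] 0 [88,94,123,18])) (.leaf (.up 3 1314 [58] 276 [87,55,155,5])))) (.node (.node (.leaf (.up 4 1598 [32] 0 [57,176,141])) (.leaf (.up 2 3448 [58] 276 [57,56,89,61]))) (.node (.leaf (.up 1 7 [48] 530 [87,94,176,127])) (.leaf (.up 5 3064 [58] 276 [57,110,104,184]))))) (.node (.node (.node (.leaf (.up 4 29 [191] 274 [87,55,104,97])) (.leaf (.up 4 1430 [58] 276 [88,110,123,206]))) (.node (.leaf (.up 4 1400 [52] 1163 [87,94,116,187])) (.leaf (.up 3 2530 [36] 0 [110,42,235])))) (.node (.node (.leaf (.up 3 2381 [191] 274 [88,55,177])) (.leaf (.up 4 1887 [191] 274 [44,95]))) (.leaf (.up 2 2327 [35] 0 [110,140,157]))))) (.node (.node (.node (.node (.leaf (.up 4 2636 [32] 0 [88,93,91,183])) (.leaf (.up 1 84 [191] 274 [88,94,90,9]))) (.node (.leaf (.up 3 2631 [191] 274 [88,56,90,175])) (.leaf (.up 4 1929 [37] 0 [93,42,141])))) (.node (.node (.leaf (.up 3 1407 [36] 0 [55,90,10])) (.leaf (.up 6 2604 [191] 274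 [56,89,147]))) (.leaf (.up 4 3426 [52] 1163 [57,55,43,12])))) (.node (.node (.node (.leaf (.up 3 2215 [32] 0 [57,55,116,147])) (.leaf (.up 4 1573 [32] 0 [57,55,103,15]))) (.node (.leaf (.up 3 1013 [48] 530 [93,103,3])) (.leaf (.up 5 2888 [58] 276 [88,56,123,119])))) (.node (.node (.leaf (.up 5 1633 [58] 276 [87,56,104,96])) (.leaf (.up 2 1487 [48] 530 [88,93,155,147]))) (.leaf (.up 3 3633 [52] 1163 [94,91,203])))))))

noncomputable def trio2_00101 : Tr TStep :=
  .node (.node (.node (.node (.node (.node (.node (.leaf (.up 5 2903 [191] 274 [88,94,91,95])) (.leaf (.up 3 872 [58] 276 [57,93,42,101]))) (.node (.leaf (.up 5 1301 [35] 0 [55,44,126])) (.leaf (.up 4 3122 [36] 0 [57,94,103,133])))) (.node (.node (.leaf (.up 4 1279 [35] 0 [57,93,176,180])) (.leaf (.up 4 545 [48] 530 [87,55,44,154]))) (.node (.leaf (.up 2 1181 [32] 0 [93,123,192])) (.leaf (.up 4 3722 [58] 276 [57,93,123,65]))))) (.node (.node (.node (.leaf (.up 5 330 [58]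 276 [87,56,91,128])) (.leaf (.up 5 2696 [191] 274 [87,55,91,222]))) (.node (.leaf (.up 4 3122 [58] 276 [57,55,140,186])) (.leaf (.up 4 3127 [191] 274 [88,93,91,203])))) (.node (.node (.leaf (.up 4 2326 [191] 274 [55,90,178])) (.leaf (.up 4 31 [35] 0 [87,55,124]))) (.leaf (.up 4 2695 [191] 274 [57,89,246]))))) (.node (.node (.node (.node (.leaf (.up 4 3568 [32] 0 [93,90,220])) (.leaf (.up 4 397 [35] 0 [57,56,104,188]))) (.node (.leaf (.up 3 2795 [48] 530 [87,94,140,196])) (.leaf (.up 3 3552 [36] 0 [57,94,89,177])))) (.node (.node (.leaf (.up 4 3479 [191] 274 [57,94,91,187])) (.leaf (.up 3 495 [58] 276 [88,55,65]))) (.node (.leaf (.up 3 2645 [48] 530 [87,93,43,196])) (.leaf (.up 2 3793 [52] 1163 [57,94,43,212]))))) (.node (.node (.node (.leaf (.up 4 443 [191] 274 [55,104,192])) (.leaf (.up 4 600 [52] 1163 [56,44,233]))) (.node (.leaf (.up 4 1166 [35] 0 [57,93,90,206])) (.leaf (.up 4 1183 [37] 0 [43,157])))) (.node (.node (.leaf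 (.up 4 1631 [191] 274 [93,176,167])) (.leaf (.up 3 1449 [35] 0 [57,55,123,215]))) (.leaf (.up 2 333 [36] 0 [57,116,158])))))) (.node (.node (.node (.node (.node (.leaf (.root 7)) (.leaf (.up 2 1048 [35] 0 [88,55,43,20]))) (.node (.leaf (.up 4 499 [36] 0 [93,104,143])) (.leaf (.up 5 3515 [58] 276 [55,90,133])))) (.node (.node (.leaf (.up 6 2411 [37] 0 [55,90,117])) (.leaf (.up 3 3707 [32] 0 [55,123,1]))) (.node (.leaf (.up 3 1875 [191] 274 [57,94,123,105])) (.leaf (.up 2 427 [52] 1163 [88,110,104,115]))))) (.node (.node (.node (.leaf (.up 4 2873 [58] 276 [88,110,103,46])) (.leaf (.up 1 4 [48] 530 [87,110,123,229]))) (.node (.leaf (.up 2 149 [37] 0 [57,91,196])) (.leaf (.up 3 3564 [28] 0 [55,123,217])))) (.node (.node (.leaf (.up 3 946 [191] 274 [57,94,89,131])) (.leaf (.up 3 144 [36] 0 [87,55,116,33]))) (.leaf (.up 2 3533 [37] 0 [88,56,43,239]))))) (.node (.node (.node (.node (.leaf (.up 4 645 [32] 0 [57,56,176,135])) (.leaf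 (.up 4 1887 [58] 276 [176,127]))) (.node (.leaf (.up 5 441 [48] 530 [88,56,119])) (.leaf (.up 2 250 [48] 530 [88,56,123,206])))) (.node (.node (.leaf (.up 4 2299 [48] 530 [57,110,90,185])) (.leaf (.up 5 2804 [32] 0 [110,115]))) (.leaf (.up 4 2306 [58] 276 [87,110,91,238])))) (.node (.node (.node (.leaf (.up 5 286 [36] 0 [94,197])) (.leaf (.up 4 3012 [32] 0 [57,93,89,193]))) (.node (.leaf (.up 3 1875 [58] 276 [93,73])) (.leaf (.up 3 2147 [37] 0 [87,56,123,184])))) (.node (.node (.leaf (.up 3 3101 [37] 0 [56,176,165])) (.leaf (.up 4 1441 [191] 274 [88,123,241]))) (.leaf (.up 3 3564 [191] 274 [88,42,198]))))))) (.node (.node (.node (.node (.node (.node (.leaf (.up 4 3029 [52] 1163 [87,94,90,60])) (.leaf (.up 4 1722 [36] 0 [88,93,77]))) (.node (.leaf (.up 3 2281 [35] 0 [94,176,221])) (.leaf (.up 4 3489 [191] 274 [87,55,103,241])))) (.node (.node (.leaf (.up 3 2308 [48] 530 [87,93,89,204])) (.leaf (.up 2 2327 [32] 0 [123,2]))) (.node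 (.leaf (.up 4 476 [36] 0 [57,93,42,25])) (.leaf (.up 2 1048 [52] 1163 [87,94,207]))))) (.node (.node (.node (.leaf (.up 3 1897 [58] 276 [93,44,186])) (.leaf (.up 4 2636 [37] 0 [87,55,155,218]))) (.node (.leaf (.up 3 2612 [58] 276 [87,116,153])) (.leaf (.up 3 374 [191] 274 [88,56,140,236])))) (.node (.node (.leaf (.up 4 3285 [35] 0 [57,104,142])) (.leaf (.up 5 3210 [52] 1163 [87,93,140,194]))) (.leaf (.up 4 1489 [36] 0 [88,93,225]))))) (.node (.node (.node (.node (.leaf (.up 4 2847 [48] 530 [155,114])) (.leaf (.up 4 1849 [48] 530 [57,44,167]))) (.node (.leaf (.up 4 3782 [32] 0 [57,116,196])) (.leaf (.up 4 1308 [37] 0 [87,93,42,231])))) (.node (.node (.leaf (.up 4 1507 [37] 0 [88,103,220])) (.leaf (.up 3 1281 [52] 1163 [87,94,91,46]))) (.node (.leaf (.up 4 1489 [191] 274 [88,103,174])) (.leaf (.up 2 254 [37] 0 [87,201]))))) (.node (.node (.node (.leaf (.up 3 3037 [48] 530 [87,110,43,164])) (.leaf (.up 2 2439 [28] 0 [94,103,36])))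 (.node (.leaf (.up 5 1242 [58] 276 [87,93,123,184])) (.leaf (.up 5 2730 [58] 276 [87,56,104,2])))) (.node (.node (.leaf (.up 4 2998 [36] 0 [87,110,43,191])) (.leaf (.up 3 621 [35] 0 [57,110,104,130]))) (.leaf (.up 3 1013 [37] 0 [57,104,172])))))) (.node (.node (.node (.node (.node (.leaf (.up 4 595 [36] 0 [87,93,104,174])) (.leaf (.up 3 2543 [35] 0 [87,43,168]))) (.node (.leaf (.up 5 3657 [32] 0 [88,110,162])) (.leaf (.up 3 684 [48] 530 [55,103,9])))) (.node (.node (.leaf (.up 3 2632 [191] 274 [88,94,91,102])) (.leaf (.up 5 703 [58] 276 [93,42,168]))) (.node (.leaf (.up 2 149 [35] 0 [88,176,154])) (.leaf (.up 2 654 [48] 530 [87,93,176,10]))))) (.node (.node (.node (.leaf (.up 4 3681 [52] 1163 [57,94,116,226])) (.leaf (.up 4 3367 [191] 274 [94,12]))) (.node (.leaf (.up 5 3621 [32] 0 [87,43,34])) (.leaf (.up 5 1146 [48] 530 [55,122])))) (.node (.node (.leaf (.up 2 15 [191] 274 [94,103,105])) (.leaf (.up 3 85 [36] 0 [140,167])))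 (.leaf (.up 4 2292 [36] 0 [88,93,89,69]))))) (.node (.node (.node (.node (.leaf (.up 3 3398 [32] 0 [57,56,42,101])) (.leaf (.up 3 3492 [52] 1163 [55,123,202]))) (.node (.leaf (.up 3 897 [32] 0 [87,55,102])) (.leaf (.up 4 1369 [191] 274 [57,228])))) (.node (.node (.leaf (.up 1 2 [35] 0 [57,93,228])) (.leaf (.up 4 3012 [48] 530 [89,177]))) (.leaf (.up 4 531 [36] 0 [87,56,123,221])))) (.node (.node (.node (.leaf (.up 5 3331 [191] 274 [87,56,44,158])) (.leaf (.up 5 1291 [36] 0 [57,94,89,16]))) (.node (.leaf (.up 2 1181 [52] 1163 [88,93,44,95])) (.leaf (.up 4 1126 [191] 274 [94,104,207])))) (.node (.node (.leaf (.up 2 427 [58] 276 [57,93,89,164])) (.leaf (.up 5 1592 [32] 0 [88,94,155,179]))) (.leaf (.up 3 3721 [58] 276 [88,110,103,177])))))))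

noncomputable def trio2_0010 : Tr TStep := .node trio2_00100 trio2_00101

noncomputable def trio2_00110 : Tr TStep :=
  .node (.node (.node (.node (.node (.node (.node (.leaf (.up 4 3211 [58] 276 [88,110,44,25])) (.leaf (.up 3 114 [28] 0 [56,90,192]))) (.node (.leaf (.up 4 1797 [36] 0 [87,94,116,69])) (.leaf (.up 4 847 [191] 274 [103,156])))) (.node (.node (.leaf (.up 3 114 [36] 0 [94,140,18])) (.leaf (.up 3 3309 [36] 0 [88,94,103,105]))) (.node (.leaf (.up 3 3550 [37] 0 [87,104,35])) (.leaf (.up 3 663 [35] 0 [93,155,132]))))) (.node (.node (.node (.leaf (.up 2 756 [52] 1163 [88,110,104,184])) (.leaf (.up 4 3018 [37] 0 [87,110,104,145]))) (.node (.leaf (.up 4 1933 [191] 274 [88,110,90,212])) (.leaf (.up 3 3788 [48] 530 [110,103,162])))) (.node (.node (.leaf (.up 6 554 [191] 274 [57,110,176,167])) (.leaf (.up 2 1048 [36] 0 [87,123,213]))) (.leaf (.up 3 2685 [191] 274 [57,93,140,174]))))) (.node (.node (.node (.node (.leaf (.up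 3 3773 [191] 274 [88,110,123,177])) (.leaf (.up 4 1489 [48] 530 [87,56,42,207]))) (.node (.leaf (.up 4 1753 [58] 276 [88,110,21])) (.leaf (.up 4 2567 [191] 274 [87,91,99])))) (.node (.node (.leaf (.up 3 663 [52] 1163 [57,56,211])) (.leaf (.up 5 715 [48] 530 [57,56,104,126]))) (.node (.leaf (.up 3 944 [32] 0 [87,43,36])) (.leaf (.up 3 2323 [32] 0 [57,55,21]))))) (.node (.node (.node (.leaf (.up 5 459 [48] 530 [56,89,186])) (.leaf (.up 4 967 [32] 0 [88,176,236]))) (.node (.leaf (.up 1 1 [37] 0 [87,110,44,77])) (.leaf (.up 1 4 [28] 0 [88,55,90,197])))) (.node (.node (.leaf (.up 4 1722 [58] 276 [87,8])) (.leaf (.up 3 3716 [191] 274 [56,123,12]))) (.leaf (.up 4 182 [52] 1163 [57,55,151])))))) (.node (.node (.node (.node (.node (.leaf (.up 5 894 [191] 274 [140,29])) (.leaf (.up 2 1603 [32] 0 [57,55,104,213]))) (.node (.leaf (.up 3 2008 [37] 0 [88,91,0])) (.leaf (.up 5 3061 [191] 274 [57,93,89,199])))) (.node (.node (.leaf (.up 2 333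 [191] 274 [87,56,104,160])) (.leaf (.up 3 2515 [35] 0 [94,91,105]))) (.node (.leaf (.up 4 1117 [191] 274 [88,93,103,13])) (.leaf (.up 5 3369 [52] 1163 [93,134]))))) (.node (.node (.node (.leaf (.up 6 2656 [191] 274 [93,42,108])) (.leaf (.up 4 3735 [35] 0 [87,94,89,248]))) (.node (.leaf (.up 4 1818 [58] 276 [141])) (.leaf (.up 4 79 [58] 276 [57,55,44,111])))) (.node (.node (.leaf (.up 4 1166 [58] 276 [123,219])) (.leaf (.up 3 2173 [36] 0 [87,93,116,127]))) (.leaf (.up 3 1897 [36] 0 [87,94,90,220]))))) (.node (.node (.node (.node (.leaf (.up 3 3138 [58] 276 [55,103])) (.leaf (.up 3 944 [52] 1163 [88,56,42,100]))) (.node (.leaf (.up 3 1010 [36] 0 [88,94,140,102])) (.leaf (.up 2 1726 [52] 1163 [57,56,43,215])))) (.node (.node (.leaf (.up 3 1390 [58] 276 [56,140,46])) (.leaf (.up 3 2320 [35] 0 [88,110,89,199]))) (.node (.leaf (.up 4 990 [58] 276 [87,110,116,156])) (.leaf (.up 2 1463 [32] 0 [87,56,246]))))) (.node (.node (.node (.leaf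 (.up 4 2734 [37] 0 [56,43,177])) (.leaf (.up 4 1125 [58] 276 [110,33]))) (.node (.leaf (.up 2 2388 [28] 0 [88,55,89,27])) (.leaf (.up 5 839 [191] 274 [110,176,180])))) (.node (.node (.leaf (.up 4 401 [191] 274 [87,93,123,166])) (.leaf (.up 4 1849 [32] 0 [57,116,172]))) (.leaf (.up 2 1163 [37] 0 [104,143]))))))) (.node (.node (.node (.node (.node (.node (.leaf (.up 5 399 [58] 276 [57,94,91,128])) (.leaf (.up 4 261 [52] 1163 [93,176,100]))) (.node (.leaf (.up 5 552 [191] 274 [57,94,89,242])) (.leaf (.up 3 871 [36] 0 [57,55,44,225])))) (.node (.node (.leaf (.up 3 3552 [28] 0 [87,110,123,118])) (.leaf (.up 5 643 [52] 1163 [57,55,140,217]))) (.node (.leaf (.up 5 3372 [36] 0 [88,55,172])) (.leaf (.up 3 1961 [58] 276 [93,123,109]))))) (.node (.node (.node (.leaf (.up 2 2261 [37] 0 [57,55,176,16])) (.leaf (.up 4 3073 [36] 0 [55,140,195]))) (.node (.leaf (.up 5 1926 [32] 0 [57,110,155,134])) (.leaf (.up 4 194 [32] 0 [87,94,89,186]))))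 (.node (.node (.leaf (.up 3 3574 [32] 0 [87,110,44,36])) (.leaf (.up 5 1545 [58] 276 [87,93,43,211]))) (.leaf (.up 4 1088 [48] 530 [57,56,42,200]))))) (.node (.node (.node (.node (.leaf (.up 3 2645 [28] 0 [87,56,89,20])) (.leaf (.up 3 2320 [37] 0 [57,93,123,232]))) (.node (.leaf (.up 4 2332 [58] 276 [110,176,133])) (.leaf (.up 3 2573 [35] 0 [87,116,248])))) (.node (.node (.leaf (.up 2 2388 [35] 0 [57,110,90,106])) (.leaf (.up 3 3715 [28] 0 [94,104,13]))) (.node (.leaf (.up 3 985 [48] 530 [56,123,222])) (.leaf (.up 3 1556 [32] 0 [87,94,123,154]))))) (.node (.node (.node (.leaf (.up 3 1103 [58] 276 [93,90,194])) (.leaf (.up 3 268 [58] 276 [93,42,213]))) (.node (.leaf (.up 3 3322 [28] 0 [57,94,90,232])) (.leaf (.up 4 486 [37] 0 [56,42,108])))) (.node (.node (.leaf (.up 3 2160 [48] 530 [57,110,91,241])) (.leaf (.up 2 1181 [37] 0 [57,93,90,136]))) (.leaf (.up 5 1639 [52] 1163 [87,140,138])))))) (.node (.node (.node (.node (.node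 (.leaf (.up 3 991 [48] 530 [55,103,117])) (.leaf (.up 4 2126 [36] 0 [88,55,103,106]))) (.node (.leaf (.up 4 1729 [58] 276 [57,110,89,203])) (.leaf (.up 3 3543 [35] 0 [93,176,35])))) (.node (.node (.leaf (.up 3 2132 [58] 276 [57,94,44,247])) (.leaf (.up 5 449 [58] 276 [87,55,116,168]))) (.node (.leaf (.up 4 1505 [191] 274 [57,44,211])) (.leaf (.up 4 3568 [191] 274 [88,110,43,133]))))) (.node (.node (.node (.leaf (.up 4 1097 [58] 276 [87,56,89,9])) (.leaf (.up 2 248 [32] 0 [87,43,128]))) (.node (.leaf (.up 3 3154 [32] 0 [88,110,176,244])) (.leaf (.up 5 3210 [58] 276 [57,93,43,203])))) (.node (.node (.leaf (.up 4 2773 [191] 274 [55,43,208])) (.leaf (.up 3 2008 [58] 276 [87,55,217]))) (.leaf (.up 5 969 [58] 276 [57,110,43,220]))))) (.node (.node (.node (.node (.leaf (.up 6 2921 [191] 274 [110,104,71])) (.leaf (.up 2 1525 [58] 276 [93,103,236]))) (.node (.leaf (.up 3 710 [48] 530 [87,56,42,75])) (.leaf (.up 4 3352 [52] 1163 [55,42]))))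 (.node (.node (.leaf (.up 4 1002 [32] 0 [103,198])) (.leaf (.up 4 2904 [32] 0 [57,103,221]))) (.leaf (.up 3 2215 [36] 0 [57,55,97])))) (.node (.node (.node (.leaf (.up 4 805 [36] 0 [88,94,91,31])) (.leaf (.up 4 1593 [191] 274 [88,94,42,195]))) (.node (.leaf (.up 5 229 [52] 1163 [57,55,103,143])) (.leaf (.up 2 433 [58] 276 [87,56,116,97])))) (.node (.node (.leaf (.up 5 3247 [36] 0 [87,93,91,99])) (.leaf (.up 5 2442 [58] 276 [57,93,89,71]))) (.leaf (.up 3 1838 [52] 1163 [110,89,196])))))))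

noncomputable def trio2_00111 : Tr TStep :=
  .node (.node (.node (.node (.node (.node (.node (.leaf (.up 5 1651 [58] 276 [87,93,123,144])) (.leaf (.up 4 1796 [52] 1163 [88,93,155,241]))) (.node (.leaf (.up 4 2209 [58] 276 [87,94,104,169])) (.leaf (.up 3 795 [36] 0 [110,42,2])))) (.node (.node (.leaf (.up 2 737 [35] 0 [88,110,44,187])) (.leaf (.up 3 925 [191] 274 [93,89,243]))) (.node (.leaf (.up 4 2629 [37] 0 [87,56,123,231])) (.leaf (.up 5 3179 [48] 530 [88,93,176,168]))))) (.node (.node (.node (.leaf (.up 4 2058 [191] 274 [57,93,91,145])) (.leaf (.up 3 1556 [191] 274 [87,42,160]))) (.node (.leaf (.up 3 2202 [191] 274 [88,55,103,194])) (.leaf (.up 3 3309 [52] 1163 [103,156])))) (.node (.node (.leaf (.up 4 3269 [191] 274 [94,89,108])) (.leaf (.up 4 2825 [58] 276 [94,89,214]))) (.leaf (.up 4 2847 [58] 276 [88,110,116,243]))))) (.node (.node (.node (.node (.leaf (.up 4 3757 [32] 0 [57,55,89,195])) (.leaf (.up 3 871 [48] 530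 [88,110,104,27]))) (.node (.leaf (.up 2 2623 [52] 1163 [88,94,140,207])) (.leaf (.up 4 2974 [35] 0 [88,94,140,3])))) (.node (.node (.leaf (.up 4 1109 [36] 0 [93,89,213])) (.leaf (.up 4 1823 [191] 274 [57,43,218]))) (.node (.leaf (.up 4 689 [32] 0 [87,110,90,76])) (.leaf (.up 4 1804 [52] 1163 [88,93,176,137]))))) (.node (.node (.node (.leaf (.up 5 2679 [32] 0 [110,89,219])) (.leaf (.up 3 9 [32] 0 [1]))) (.node (.leaf (.up 4 1589 [37] 0 [87,94,140,169])) (.leaf (.up 3 85 [52] 1163 [87,110,123,191])))) (.node (.node (.leaf (.up 3 1897 [35] 0 [57,90,224])) (.leaf (.up 4 1787 [48] 530 [55,91,3]))) (.leaf (.up 4 1024 [52] 1163 [87,43,129])))))) (.node (.node (.node (.node (.node (.leaf (.up 3 3322 [58] 276 [57,55,43,143])) (.leaf (.up 2 1662 [58] 276 [88,93,103,3]))) (.node (.leaf (.up 5 2601 [36] 0 [110,91,219])) (.leaf (.up 4 3509 [36] 0 [88,55,91,3])))) (.node (.node (.leaf (.up 5 1521 [32] 0 [94,43,248])) (.leaf (.up 5 502 [48]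 530 [87,110,44,222]))) (.node (.leaf (.up 4 1548 [58] 276 [57,140,75])) (.leaf (.up 2 24 [32] 0 [57,151]))))) (.node (.node (.node (.leaf (.up 3 3492 [36] 0 [57,56,140,138])) (.leaf (.up 5 2395 [58] 276 [87,56,116,115]))) (.node (.leaf (.up 4 2658 [48] 530 [55,155,232])) (.leaf (.up 4 1933 [35] 0 [94,91,209])))) (.node (.node (.leaf (.up 5 1094 [191] 274 [87,110,176,101])) (.leaf (.up 1 283 [35] 0 [88,55,103,71]))) (.leaf (.up 4 152 [48] 530 [88,140,222]))))) (.node (.node (.node (.node (.leaf (.up 5 2493 [48] 530 [57,93,90,0])) (.leaf (.up 3 946 [58] 276 [94,91,98]))) (.node (.leaf (.up 4 442 [191] 274 [88,103,59])) (.leaf (.up 5 3084 [48] 530 [93,90,143])))) (.node (.node (.leaf (.up 3 2937 [52] 1163 [87,89,149])) (.leaf (.up 4 355 [52] 1163 [56,140,124]))) (.leaf (.up 4 2311 [52] 1163 [57,116,217])))) (.node (.node (.node (.leaf (.up 3 1499 [32] 0 [88,56,176,152])) (.leaf (.up 4 920 [35] 0 [55,155,169]))) (.node (.leaf (.up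 4 1620 [58] 276 [87,56,123,135])) (.leaf (.up 3 3550 [48] 530 [57,56,103,5])))) (.node (.node (.leaf (.up 2 1759 [52] 1163 [88,55,89,146])) (.leaf (.up 4 275 [191] 274 [87,55,91,188]))) (.leaf (.up 5 1512 [37] 0 [88,110,176,238]))))))) (.node (.node (.node (.node (.node (.node (.leaf (.up 4 1659 [36] 0 [87,93,103,200])) (.leaf (.up 3 3574 [191] 274 [87,94,140,11]))) (.node (.leaf (.up 4 2755 [58] 276 [87,56,103,151])) (.leaf (.up 4 1263 [36] 0 [94,89,117])))) (.node (.node (.leaf (.up 2 737 [32] 0 [87,93,91,13])) (.leaf (.up 5 2041 [191] 274 [57,110,44,179]))) (.node (.leaf (.up 4 1394 [37] 0 [104,1])) (.leaf (.up 4 428 [191] 274 [88,55,42,114]))))) (.node (.node (.node (.leaf (.up 3 878 [36] 0 [89,29])) (.leaf (.up 4 2239 [58] 276 [87,93,104,204]))) (.node (.leaf (.up 2 3200 [32] 0 [88,94,91,18])) (.leaf (.up 3 3543 [36] 0 [88,55,116,71])))) (.node (.node (.leaf (.up 3 2645 [191] 274 [57,55,103,97])) (.leaf (.up 4 1165 [36]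 0 [88,94,155,244]))) (.leaf (.up 4 1071 [37] 0 [87,93,140,192]))))) (.node (.node (.node (.node (.leaf (.up 3 871 [52] 1163 [57,93,42,221])) (.leaf (.up 3 345 [191] 274 [87,94,155,34]))) (.node (.leaf (.up 3 1029 [37] 0 [57,110,89,174])) (.leaf (.up 4 297 [52] 1163 [93,42,23])))) (.node (.node (.leaf (.up 3 3512 [191] 274 [57,94,155,98])) (.leaf (.up 4 181 [191] 274 [88,94,89,139]))) (.node (.leaf (.up 3 2173 [52] 1163 [57,93,140,173])) (.leaf (.up 4 1266 [191] 274 [87,44,237]))))) (.node (.node (.node (.leaf (.up 3 2530 [37] 0 [57,123,169])) (.leaf (.up 4 2413 [191] 274 [57,110,229]))) (.node (.leaf (.up 3 1389 [52] 1163 [94,104,150])) (.leaf (.up 4 548 [48] 530 [88,56,140,173])))) (.node (.node (.leaf (.up 4 2600 [35] 0 [87,94,148])) (.leaf (.up 3 72 [32] 0 [57,94,98]))) (.leaf (.up 5 3749 [191] 274 [43,23])))))) (.node (.node (.node (.node (.node (.leaf (.up 4 923 [191] 274 [57,56,89,170])) (.leaf (.up 4 1096 [48] 530 [57,55,155,173])))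 (.node (.leaf (.up 5 2440 [58] 276 [88,110,140,241])) (.leaf (.up 3 3689 [35] 0 [88,94,89,2])))) (.node (.node (.leaf (.up 3 3291 [58] 276 [93,89,229])) (.leaf (.up 4 305 [36] 0 [44,189]))) (.node (.leaf (.up 5 2041 [48] 530 [94,114])) (.leaf (.up 3 3557 [35] 0 [87,100]))))) (.node (.node (.node (.leaf (.up 4 1105 [36] 0 [110,42,95])) (.leaf (.up 5 496 [58] 276 [57,44,237]))) (.node (.leaf (.up 5 1231 [48] 530 [176])) (.leaf (.up 4 2640 [36] 0 [57,42,15])))) (.node (.node (.leaf (.up 3 2969 [48] 530 [57,56,116,9])) (.leaf (.up 3 2150 [58] 276 [87,56,89,246]))) (.leaf (.up 5 1083 [58] 276 [88,56,91,129]))))) (.node (.node (.node (.node (.leaf (.up 5 441 [191] 274 [87,94,140,2])) (.leaf (.up 5 2259 [52] 1163 [88,110,104,108]))) (.node (.leaf (.up 4 1067 [37] 0 [57,104,240])) (.leaf (.up 5 3120 [58] 276 [57,93,140,166])))) (.node (.node (.leaf (.up 5 2023 [191] 274 [55,44,1])) (.leaf (.up 5 3680 [32] 0 [88,93,103,97]))) (.leaf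 (.up 3 2631 [52] 1163 [87,56,91,30])))) (.node (.node (.node (.leaf (.up 2 2434 [36] 0 [87,93,140,191])) (.leaf (.up 6 1903 [36] 0 [57,55,43,25]))) (.node (.leaf (.up 3 3284 [52] 1163 [87,94,123,141])) (.leaf (.up 5 2174 [48] 530 [87,7])))) (.node (.node (.leaf (.up 4 2995 [35] 0 [88,55,89,233])) (.leaf (.up 1 283 [36] 0 [87,94,176,195]))) (.leaf (.up 2 24 [58] 276 [87,94,11])))))))

noncomputable def trio2_0011 : Tr TStep := .node trio2_00110 trio2_00111

noncomputable def trio2_001 : Tr TStep := .node trio2_0010 trio2_0011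

noncomputable def trio2_00 : Tr TStep := .node trio2_000 trio2_001

noncomputable def trio2_01000 : Tr TStep :=
  .node (.node (.node (.node (.node (.node (.node (.leaf (.root 2)) (.leaf (.up 3 2191 [36] 0 [57,94,42,76]))) (.node (.leaf (.up 5 3036 [36] 0 [57,55,42,133])) (.leaf (.up 3 1129 [37] 0 [94,91,190])))) (.node (.node (.leaf (.up 4 1796 [48] 530 [88,93,140,223])) (.leaf (.up 4 822 [58] 276 [94,219]))) (.node (.leaf (.up 3 2612 [191] 274 [57,55,123,200])) (.leaf (.up 2 2388 [36] 0 [93,103,221]))))) (.node (.node (.node (.leaf (.up 3 3322 [32] 0 [57,55,91,113])) (.leaf (.up 3 3715 [32] 0 [93,43,6]))) (.node (.leaf (.up 5 1591 [37] 0 [57,94,103])) (.leaf (.up 5 1880 [58] 276 [55,128])))) (.node (.node (.leaf (.up 2 1636 [36] 0 [55,160])) (.leaf (.up 3 813 [191] 274 [87,93,104,171]))) (.leaf (.up 3 3475 [52] 1163 [87,93,155,218]))))) (.node (.node (.node (.node (.leaf (.up 4 3415 [191] 274 [87,55,104,31])) (.leaf (.up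 3 3707 [58] 276 [56,42,18]))) (.node (.leaf (.up 4 2476 [191] 274 [88,90,241])) (.leaf (.up 4 3563 [37] 0 [88,55,91,126])))) (.node (.node (.leaf (.up 3 265 [32] 0 [88,94,155,127])) (.leaf (.up 3 349 [36] 0 [140,161]))) (.node (.leaf (.up 5 2879 [191] 274 [88,110,90,165])) (.leaf (.up 3 1269 [191] 274 [57,93,155,224]))))) (.node (.node (.node (.leaf (.up 5 3631 [58] 276 [88,55,155,221])) (.leaf (.up 1 283 [58] 276 [57,104,202]))) (.node (.leaf (.up 5 1727 [58] 276 [56,176,190])) (.leaf (.up 3 1179 [36] 0 [42,167])))) (.node (.node (.leaf (.up 4 484 [191] 274 [104,135])) (.leaf (.up 4 2874 [58] 276 [57,56,89,15]))) (.leaf (.up 5 2710 [32] 0 [57,56,155,126])))))) (.node (.node (.node (.node (.node (.leaf (.up 4 1676 [58] 276 [87,104,234])) (.leaf (.up 4 2400 [191] 274 [88,110,176,92]))) (.node (.leaf (.up 2 1221 [52] 1163 [87,89,36])) (.leaf (.up 2 756 [58] 276 [57,42,5])))) (.node (.node (.leaf (.up 3 1271 [28] 0 [57,56,123,1]))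 (.leaf (.up 4 3609 [191] 274 [57,93,44,160]))) (.node (.leaf (.up 2 2363 [191] 274 [93,44,247])) (.leaf (.up 4 920 [58] 276 [183]))))) (.node (.node (.node (.leaf (.up 4 3509 [32] 0 [88,55,135])) (.leaf (.up 4 2037 [48] 530 [56,176,77]))) (.node (.leaf (.up 3 2645 [37] 0 [87,56,91,108])) (.leaf (.up 4 769 [35] 0 [88,44,223])))) (.node (.node (.leaf (.up 5 502 [52] 1163 [88,94,123,73])) (.leaf (.up 5 165 [32] 0 [176,146]))) (.leaf (.up 3 18 [32] 0 [176,232]))))) (.node (.node (.node (.node (.leaf (.up 3 3309 [191] 274 [42,161])) (.leaf (.up 4 297 [36] 0 [94,155,6]))) (.node (.leaf (.up 1 2 [32] 0 [88,90,8])) (.leaf (.up 4 1187 [36] 0 [55,91,207])))) (.node (.node (.leaf (.up 3 345 [32] 0 [87,56,176])) (.leaf (.up 3 495 [48] 530 [56,116,236]))) (.node (.leaf (.up 4 763 [35] 0 [57,55,103,222])) (.leaf (.up 4 623 [191] 274 [44,69]))))) (.node (.node (.node (.leaf (.up 4 1669 [48] 530 [87,94,166])) (.leaf (.up 3 2682 [58] 276 [110,155,200])))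 (.node (.leaf (.up 3 1417 [58] 276 [94,90,35])) (.leaf (.up 4 3548 [32] 0 [57,93,123,21])))) (.node (.node (.leaf (.up 3 3451 [58] 276 [87,110,103,113])) (.leaf (.up 3 2573 [37] 0 [88,110,89,171]))) (.leaf (.up 3 3117 [37] 0 [87,55,42,205]))))))) (.node (.node (.node (.node (.node (.node (.leaf (.up 4 696 [35] 0 [87,93,116,229])) (.leaf (.up 3 621 [52] 1163 [88,44,237]))) (.node (.leaf (.up 5 1398 [37] 0 [88,123,8])) (.leaf (.up 3 1515 [36] 0 [88,55,155,173])))) (.node (.node (.leaf (.up 4 3287 [48] 530 [57,56,116,127])) (.leaf (.up 4 1161 [58] 276 [87,42,134]))) (.node (.leaf (.up 4 1400 [58] 276 [55,43,138])) (.leaf (.up 6 2229 [191] 274 [87,93,103,210]))))) (.node (.node (.node (.leaf (.up 2 15 [58] 276 [88,93,140,165])) (.leaf (.up 4 3465 [191] 274 [110,103,37]))) (.node (.leaf (.up 2 1048 [48] 530 [88,104,65])) (.leaf (.up 5 766 [58] 276 [88,56,116,188])))) (.node (.node (.leaf (.up 4 3142 [32] 0 [55,44,122])) (.leaf (.up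 4 1620 [37] 0 [87,110,123,171]))) (.leaf (.up 5 898 [48] 530 [94,42,174]))))) (.node (.node (.node (.node (.leaf (.up 3 85 [58] 276 [87,93,42,112])) (.leaf (.up 3 3114 [35] 0 [87,94,116,144]))) (.node (.leaf (.up 2 1463 [191] 274 [57,110,176,102])) (.leaf (.up 4 1885 [191] 274 [57,56,90,193])))) (.node (.node (.leaf (.up 4 828 [32] 0 [56,155,238])) (.leaf (.up 3 663 [48] 530 [57,44,119]))) (.node (.leaf (.up 5 2757 [52] 1163 [110,42,195])) (.leaf (.up 4 1053 [35] 0 [87,56,140,186]))))) (.node (.node (.node (.leaf (.up 2 3533 [48] 530 [57,110,104,29])) (.leaf (.up 4 2052 [58] 276 [88,56,44,35]))) (.node (.leaf (.up 4 2822 [191] 274 [94,43,92])) (.leaf (.up 1 84 [48] 530 [140,216])))) (.node (.node (.leaf (.up 4 98 [36] 0 [88,93,44,150])) (.leaf (.up 4 1761 [32] 0 [88,116,162]))) (.leaf (.up 3 572 [58] 276 [88,94,155,149])))))) (.node (.node (.node (.node (.node (.leaf (.up 3 1947 [35] 0 [88,55,155,23])) (.leaf (.up 4 3232 [32]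 0 [87,55,155,20]))) (.node (.leaf (.up 2 3201 [58] 276 [110,123,77])) (.leaf (.up 4 3051 [48] 530 [87,94,44,113])))) (.node (.node (.leaf (.up 5 1607 [32] 0 [88,93,44,194])) (.leaf (.up 3 3138 [191] 274 [87,55,103,129]))) (.node (.leaf (.up 4 1144 [58] 276 [87,55,103,131])) (.leaf (.up 5 775 [191] 274 [88,93,104,5]))))) (.node (.node (.node (.leaf (.up 5 2146 [35] 0 [87,93,91,135])) (.leaf (.up 6 625 [37] 0 [87,93,104,204]))) (.node (.leaf (.up 5 1965 [58] 276 [87,56,44,172])) (.leaf (.up 3 985 [35] 0 [57,56,104,185])))) (.node (.node (.leaf (.up 5 814 [191] 274 [43,115])) (.leaf (.up 2 2439 [48] 530 [87,93,43,187]))) (.leaf (.up 5 376 [32] 0 [88,56,162]))))) (.node (.node (.node (.node (.leaf (.up 3 3633 [35] 0 [55,103,135])) (.leaf (.up 4 231 [32] 0 [87,93,116,101]))) (.node (.leaf (.up 4 1096 [191] 274 [88,56,116,143])) (.leaf (.up 3 1515 [52] 1163 [57,93,155,222])))) (.node (.node (.leaf (.up 3 2105 [52] 1163 [88,104,231]))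 (.leaf (.up 4 906 [191] 274 [55,43,108]))) (.leaf (.up 3 18 [35] 0 [87,93,140,20])))) (.node (.node (.node (.leaf (.up 3 173 [32] 0 [55,123,205])) (.leaf (.up 2 3559 [32] 0 [87,110,43,74]))) (.node (.leaf (.up 5 1521 [35] 0 [43,138])) (.leaf (.up 3 1314 [52] 1163 [87,55,116,105])))) (.node (.node (.leaf (.up 5 927 [191] 274 [88,42,231])) (.leaf (.up 4 198 [32] 0 [56,104,231]))) (.leaf (.up 2 254 [58] 276 [57,110,127])))))))

noncomputable def trio2_01001 : Tr TStep :=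
  .node (.node (.node (.node (.node (.node (.node (.leaf (.up 2 250 [32] 0 [57,93,155,75])) (.leaf (.up 4 1959 [35] 0 [110,43,131]))) (.node (.leaf (.up 4 3709 [191] 274 [57,43,15])) (.leaf (.up 4 1096 [36] 0 [87,94,44,12])))) (.node (.node (.leaf (.up 3 3689 [32] 0 [57,55,90,207])) (.leaf (.up 5 3293 [191] 274 [88,140,33]))) (.node (.leaf (.up 3 1649 [52] 1163 [55,104,143])) (.leaf (.up 4 2933 [58] 276 [94,42,211]))))) (.node (.node (.node (.leaf (.up 3 3689 [36] 0 [87,90,59])) (.leaf (.up 4 2535 [36] 0 [56,243]))) (.node (.leaf (.up 4 484 [58] 276 [57,110,123,181])) (.leaf (.up 4 3432 [48] 530 [57,91,46])))) (.node (.node (.leaf (.up 4 1049 [58] 276 [87,89,224])) (.leaf (.up 4 3701 [36] 0 [87,93,140,243]))) (.leaf (.up 5 1723 [58] 276 [88,56,90,112]))))) (.node (.node (.node (.node (.leaf (.up 3 265 [191] 274 [88,56,176,195])) (.leaf (.up 4 2270 [191] 274 [94,116,233]))) (.node (.leaf (.up 3 2724 [191] 274 [57,94,155,144]))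 (.leaf (.up 3 3550 [191] 274 [87,55,43,71])))) (.node (.node (.leaf (.up 3 2177 [48] 530 [87,110,89,46])) (.leaf (.up 4 2336 [32] 0 [57,123,97]))) (.node (.leaf (.up 4 1712 [35] 0 [57,94,44,172])) (.leaf (.up 4 1273 [58] 276 [57,55,91,175]))))) (.node (.node (.node (.leaf (.up 5 904 [58] 276 [93,116,208])) (.leaf (.up 5 1906 [191] 274 [57,56,42,212]))) (.node (.leaf (.up 4 2285 [32] 0 [57,94,89,230])) (.leaf (.up 4 1929 [35] 0 [88,93,140,21])))) (.node (.node (.leaf (.up 5 209 [58] 276 [87,56,43,156])) (.leaf (.up 4 1608 [52] 1163 [88,110,89,243]))) (.leaf (.up 5 2449 [191] 274 [110,43,73])))))) (.node (.node (.node (.node (.node (.leaf (.up 3 342 [48] 530 [87,93,89,201])) (.leaf (.up 4 2551 [191] 274 [87,94,103,202]))) (.node (.leaf (.up 4 1213 [58] 276 [88,93,140,121])) (.leaf (.up 2 1662 [32] 0 [87,93,42,75])))) (.node (.node (.leaf (.up 4 1802 [37] 0 [88,110,123,144])) (.leaf (.up 4 170 [37] 0 [57,93,176,139]))) (.node (.leaf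 (.up 4 1147 [35] 0 [57,94,140,10])) (.leaf (.up 4 1296 [32] 0 [57,110,140,152]))))) (.node (.node (.node (.leaf (.up 3 2140 [32] 0 [93,140,197])) (.leaf (.up 3 2191 [37] 0 [57,94,91,126]))) (.node (.leaf (.up 4 3081 [58] 276 [88,56,44,218])) (.leaf (.up 4 2094 [58] 276 [87,56,44,225])))) (.node (.node (.leaf (.up 3 1551 [35] 0 [93,91,151])) (.leaf (.up 4 1495 [32] 0 [57,93,123,98]))) (.leaf (.up 4 1296 [36] 0 [56,176,65]))))) (.node (.node (.node (.node (.leaf (.up 4 1882 [48] 530 [87,110,155,0])) (.leaf (.up 4 1177 [52] 1163 [57,93,104,166]))) (.node (.leaf (.up 3 497 [58] 276 [93,104,219])) (.leaf (.up 3 1621 [58] 276 [87,56,89,229])))) (.node (.node (.leaf (.up 5 2240 [191] 274 [55,116,142])) (.leaf (.up 3 345 [35] 0 [87,110,44,160]))) (.node (.leaf (.up 5 703 [37] 0 [88,93,103,23])) (.leaf (.up 4 1165 [191] 274 [56,89,10]))))) (.node (.node (.node (.leaf (.up 4 608 [58] 276 [87,140,137])) (.leaf (.up 4 2992 [35] 0 [55,43,77])))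 (.node (.leaf (.up 4 2709 [52] 1163 [55,9])) (.leaf (.up 3 114 [35] 0 [94,210])))) (.node (.node (.leaf (.up 3 622 [35] 0 [57,55,91,235])) (.leaf (.up 5 45 [191] 274 [87,56,44,210]))) (.leaf (.up 5 1451 [28] 0 [88,55,89,186]))))))) (.node (.node (.node (.node (.node (.node (.leaf (.up 5 3278 [191] 274 [57,55,91,16])) (.leaf (.up 4 3034 [35] 0 [56,90,125]))) (.node (.leaf (.up 2 1525 [191] 274 [110,43,23])) (.leaf (.up 3 2573 [48] 530 [87,94,43,216])))) (.node (.node (.leaf (.up 4 3272 [37] 0 [88,176,171])) (.leaf (.up 3 663 [28] 0 [94,43,122]))) (.node (.leaf (.up 3 2408 [32] 0 [88,110,103,219])) (.leaf (.up 4 197 [58] 276 [57,56,170]))))) (.node (.node (.node (.leaf (.up 4 2755 [36] 0 [88,110,155,219])) (.leaf (.up 5 3022 [191] 274 [87,93,91,59]))) (.node (.leaf (.up 3 430 [35] 0 [88,110,155,228])) (.leaf (.up 4 181 [52] 1163 [87,56,176,178])))) (.node (.node (.leaf (.up 6 870 [191] 274 [88,93,103,21])) (.leaf (.up 5 380 [191]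 274 [94,140,165]))) (.leaf (.up 4 1718 [191] 274 [104,0]))))) (.node (.node (.node (.node (.leaf (.up 3 1271 [58] 276 [87,56,43])) (.leaf (.up 3 2323 [35] 0 [93,103,100]))) (.node (.leaf (.up 4 1002 [58] 276 [94,90,120])) (.leaf (.up 4 1608 [36] 0 [57,93,117])))) (.node (.node (.leaf (.up 2 3793 [32] 0 [55,44,30])) (.leaf (.up 4 2855 [58] 276 [87,55,104,101]))) (.node (.leaf (.up 4 1345 [52] 1163 [88,110,103,231])) (.leaf (.up 4 2336 [37] 0 [88,117]))))) (.node (.node (.node (.leaf (.up 3 2937 [48] 530 [87,94,43,126])) (.leaf (.up 4 3374 [52] 1163 [56,236]))) (.node (.leaf (.up 3 1079 [36] 0 [57,94,155,114])) (.leaf (.up 3 3078 [58] 276 [57,94,116,153])))) (.node (.node (.leaf (.up 2 433 [52] 1163 [104,211])) (.leaf (.up 3 1652 [32] 0 [57,56,116,107]))) (.leaf (.up 5 1034 [35] 0 [57,55,116,74])))))) (.node (.node (.node (.node (.node (.leaf (.up 2 3468 [32] 0 [57,55,90,215])) (.leaf (.up 3 2392 [36] 0 [57,110,176,159]))) (.node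 (.leaf (.up 5 209 [48] 530 [88,55,90,135])) (.leaf (.up 6 1666 [37] 0 [88,93,123,37])))) (.node (.node (.leaf (.up 5 1628 [58] 276 [87,56,9])) (.leaf (.up 3 1998 [48] 530 [94,34]))) (.node (.leaf (.up 4 2095 [48] 530 [57,93,123,146])) (.leaf (.up 5 1301 [52] 1163 [88,56,155,72]))))) (.node (.node (.node (.leaf (.up 5 3179 [58] 276 [57,55,91,244])) (.leaf (.up 3 2087 [37] 0 [57,94,123,191]))) (.node (.leaf (.up 3 1340 [36] 0 [116,143])) (.leaf (.up 3 3475 [28] 0 [87,90,73])))) (.node (.node (.leaf (.up 4 2904 [58] 276 [88,42,145])) (.leaf (.up 4 259 [191] 274 [57,55,116,218]))) (.leaf (.up 4 1105 [35] 0 [57,56,140,190]))))) (.node (.node (.node (.node (.leaf (.up 4 1708 [52] 1163 [87,110,89,0])) (.leaf (.up 4 181 [37] 0 [93,140,22]))) (.node (.leaf (.up 3 3475 [58] 276 [87,55,103,133])) (.leaf (.up 3 454 [32] 0 [57,104,37])))) (.node (.node (.leaf (.up 3 2756 [48] 530 [88,56,43,219])) (.leaf (.up 3 1875 [48] 530 [88,116,207])))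 (.leaf (.up 3 3615 [58] 276 [103,202])))) (.node (.node (.node (.leaf (.up 4 2110 [58] 276 [87,94,104,137])) (.leaf (.up 4 3211 [35] 0 [88,55,140,105]))) (.node (.leaf (.up 4 3038 [32] 0 [57,56,104,165])) (.leaf (.up 5 3325 [58] 276 [87,89,166])))) (.node (.node (.leaf (.up 2 654 [37] 0 [87,116,238])) (.leaf (.up 2 3694 [58] 276 [87,56,44,8]))) (.leaf (.up 5 2677 [191] 274 [57,94,123,221])))))))

noncomputable def trio2_0100 : Tr TStep := .node trio2_01000 trio2_01001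

noncomputable def trio2_01010 : Tr TStep :=
  .node (.node (.node (.node (.node (.node (.node (.leaf (.up 3 947 [191] 274 [88,94,42,175])) (.leaf (.up 3 587 [52] 1163 [88,110,140,241]))) (.node (.leaf (.up 4 1376 [36] 0 [87,93,89,157])) (.leaf (.up 5 3184 [48] 530 [87,110,155,227])))) (.node (.node (.leaf (.up 1 16 [32] 0 [88,55,104,108])) (.leaf (.up 4 499 [48] 530 [88,56,44,150]))) (.node (.leaf (.up 4 1327 [35] 0 [57,110,44,73])) (.leaf (.up 4 499 [58] 276 [87,55,103,223]))))) (.node (.node (.node (.leaf (.up 4 152 [32] 0 [1])) (.leaf (.up 5 2946 [191] 274 [88,55,140,210]))) (.node (.leaf (.up 4 2391 [48] 530 [110,90,240])) (.leaf (.up 3 265 [37] 0 [88,93,104,96])))) (.node (.node (.leaf (.up 5 1259 [191] 274 [57,92])) (.leaf (.up 3 2392 [48] 530 [88,90,208]))) (.leaf (.up 3 2215 [35] 0 [57,94,43,185]))))) (.node (.node (.node (.node (.leaf (.up 5 3084 [32] 0 [57,94,140,124])) (.leaf (.up 5 981 [191] 274 [87,110,44,128])))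 (.node (.leaf (.up 5 40 [58] 276 [57,56,104,0])) (.leaf (.up 4 1177 [32] 0 [88,55,43,196])))) (.node (.node (.leaf (.up 3 265 [58] 276 [57,55,44,248])) (.leaf (.up 4 1173 [191] 274 [57,56,43,108]))) (.node (.leaf (.up 3 3276 [52] 1163 [57,110,123,190])) (.leaf (.up 3 123 [52] 1163 [88,56,91,190]))))) (.node (.node (.node (.leaf (.up 3 2032 [52] 1163 [88,193])) (.leaf (.up 4 3055 [191] 274 [57,56,44,175]))) (.node (.leaf (.up 5 702 [52] 1163 [87,44,121])) (.leaf (.up 2 3559 [36] 0 [87,55,89,181])))) (.node (.node (.leaf (.up 3 1997 [58] 276 [57,42,216])) (.leaf (.up 3 2446 [48] 530 [57,56,140,188]))) (.leaf (.up 3 1556 [52] 1163 [93,123,16])))))) (.node (.node (.node (.node (.node (.leaf (.up 5 1233 [58] 276 [88,55,91,233])) (.leaf (.up 4 3789 [191] 274 [88,93,90,226]))) (.node (.leaf (.up 4 1187 [48] 530 [88,91,240])) (.leaf (.up 4 2762 [191] 274 [87,94,123,168])))) (.node (.node (.leaf (.up 4 1659 [28] 0 [57,110,176,182]))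 (.leaf (.up 1 1 [48] 530 [87,93,91,198]))) (.node (.leaf (.up 3 961 [36] 0 [93,91,239])) (.leaf (.up 5 3718 [191] 274 [88,110,235]))))) (.node (.node (.node (.leaf (.up 4 2499 [58] 276 [94,155,148])) (.leaf (.up 3 1449 [48] 530 [57,42]))) (.node (.leaf (.up 4 1787 [191] 274 [55,90,15])) (.leaf (.up 3 454 [35] 0 [88,56,89,208])))) (.node (.node (.leaf (.up 3 726 [48] 530 [87,55,104,33])) (.leaf (.up 6 3363 [191] 274 [56,90,207]))) (.leaf (.up 2 2634 [35] 0 [87,104,137]))))) (.node (.node (.node (.node (.leaf (.up 4 595 [58] 276 [88,93,140,211])) (.leaf (.up 2 1662 [191] 274 [87,93,44,245]))) (.node (.leaf (.up 4 1421 [191] 274 [103,130])) (.leaf (.up 5 3192 [58] 276 [56,104,161])))) (.node (.node (.leaf (.up 5 450 [58] 276 [87,93,91,15])) (.leaf (.up 3 1078 [32] 0 [57,116,236]))) (.node (.leaf (.up 4 2766 [191] 274 [57,56,140,189])) (.leaf (.up 4 298 [52] 1163 [88,56,90,181]))))) (.node (.node (.node (.leaf (.up 3 621 [191] 274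 [56,43,138])) (.leaf (.up 3 2256 [36] 0 [87,56,176,21]))) (.node (.leaf (.up 5 3372 [35] 0 [87,93,44,212])) (.leaf (.up 3 3537 [32] 0 [87,110,220])))) (.node (.node (.leaf (.up 3 2281 [48] 530 [94,43,172])) (.leaf (.up 3 3114 [58] 276 [87,140,244]))) (.leaf (.up 4 1345 [35] 0 [57,55,90,241]))))))) (.node (.node (.node (.node (.node (.node (.leaf (.up 6 1988 [36] 0 [57,93,155,181])) (.leaf (.up 4 2113 [191] 274 [57,94,176,175]))) (.node (.leaf (.up 4 2585 [48] 530 [94,116,118])) (.leaf (.up 2 250 [36] 0 [87,103,120])))) (.node (.node (.leaf (.up 5 1440 [32] 0 [57,110,123,214])) (.leaf (.up 2 381 [52] 1163 [87,110,104,0]))) (.node (.leaf (.up 2 2688 [48] 530 [87,103,198])) (.leaf (.up 5 474 [191] 274 [110,123,156]))))) (.node (.node (.node (.leaf (.up 3 690 [35] 0 [87,55,74])) (.leaf (.up 2 1525 [37] 0 [57,94,176,241]))) (.node (.leaf (.up 4 754 [36] 0 [55,178])) (.leaf (.up 5 3067 [191] 274 [110,44,159])))) (.node (.node (.leaf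 (.up 5 496 [48] 530 [57,91,191])) (.leaf (.up 4 420 [36] 0 [87,94,155,211]))) (.leaf (.up 4 2736 [35] 0 [57,155,203]))))) (.node (.node (.node (.node (.leaf (.up 3 3114 [191] 274 [87,55,116,183])) (.leaf (.up 4 3118 [32] 0 [87,116,151]))) (.node (.leaf (.up 3 587 [28] 0 [88,94,89,186])) (.leaf (.up 2 3 [48] 530 [88,93,42,174])))) (.node (.node (.leaf (.up 5 2837 [191] 274 [88,93,123,209])) (.leaf (.up 4 543 [191] 274 [88,42,72]))) (.node (.leaf (.up 5 3396 [191] 274 [88,110,103,225])) (.leaf (.up 4 1785 [52] 1163 [57,55,155,154]))))) (.node (.node (.node (.leaf (.up 2 794 [35] 0 [88,94,155,99])) (.leaf (.up 4 2060 [52] 1163 [57,159]))) (.node (.leaf (.up 4 420 [191] 274 [88,94,155,237])) (.leaf (.up 4 1031 [191] 274 [87,110,104,190])))) (.node (.node (.leaf (.up 5 1412 [58] 276 [93,176,211])) (.leaf (.up 4 1590 [58] 276 [57,55,103,198]))) (.leaf (.up 4 270 [35] 0 [57,55,42,8])))))) (.node (.node (.node (.node (.node (.leaf (.up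 4 962 [37] 0 [88,110,140,129])) (.leaf (.up 3 1973 [48] 530 [87,110,176]))) (.node (.leaf (.up 4 424 [191] 274 [55,104,196])) (.leaf (.up 4 1785 [48] 530 [88,56,89,156])))) (.node (.node (.leaf (.up 4 17 [58] 276 [88,93,116,130])) (.leaf (.up 4 2039 [37] 0 [87,93,123,72]))) (.node (.leaf (.up 3 3128 [37] 0 [57,94,140,34])) (.leaf (.up 4 3481 [58] 276 [88,93,90,97]))))) (.node (.node (.node (.leaf (.up 4 2818 [48] 530 [110,104,177])) (.leaf (.up 3 2530 [191] 274 [87,93,43,0]))) (.node (.leaf (.up 5 1393 [58] 276 [56,90,203])) (.leaf (.up 2 250 [58] 276 [88,93,140,158])))) (.node (.node (.leaf (.up 4 1943 [191] 274 [94,140,10])) (.leaf (.up 4 2755 [37] 0 [57,55,123,101]))) (.leaf (.up 3 406 [35] 0 [88,93,123,30]))))) (.node (.node (.node (.node (.leaf (.up 4 146 [35] 0 [110,155,8])) (.leaf (.up 4 1376 [52] 1163 [87,56,176,105]))) (.node (.leaf (.up 3 2985 [191] 274 [87,93,104,128])) (.leaf (.up 4 2126 [58] 276 [87,55,140,34]))))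 (.node (.node (.leaf (.up 5 1522 [191] 274 [87,56,116,195])) (.leaf (.up 4 1441 [35] 0 [87,93,91,127]))) (.leaf (.up 4 1109 [52] 1163 [87,94,103,216])))) (.node (.node (.node (.leaf (.up 3 3773 [32] 0 [94,89,108])) (.leaf (.up 4 1377 [191] 274 [87,93,232]))) (.node (.leaf (.up 2 1048 [58] 276 [57,110,72])) (.leaf (.up 4 1441 [37] 0 [88,56,44,77])))) (.node (.node (.leaf (.up 3 1029 [48] 530 [88,91,114])) (.leaf (.up 3 2724 [35] 0 [57,56,42,158]))) (.leaf (.up 3 3764 [58] 276 [93,42,118])))))))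

noncomputable def trio2_01011 : Tr TStep :=
  .node (.node (.node (.node (.node (.node (.node (.leaf (.up 5 2159 [58] 276 [57,93,44,205])) (.leaf (.up 4 1502 [48] 530 [87,43,186]))) (.node (.leaf (.up 4 1590 [36] 0 [87,93,104,229])) (.leaf (.up 4 791 [32] 0 [57,94,140,218])))) (.node (.node (.leaf (.up 3 3721 [35] 0 [110,44,196])) (.leaf (.up 5 886 [52] 1163 [57,94,90,133]))) (.node (.leaf (.up 6 1021 [191] 274 [57,110,89,223])) (.leaf (.up 6 171 [191] 274 [88,155,97]))))) (.node (.node (.node (.leaf (.up 4 3496 [52] 1163 [87,56,140,174])) (.leaf (.up 4 799 [32] 0 [93,155,215]))) (.node (.leaf (.up 4 2460 [52] 1163 [88,55,65])) (.leaf (.up 4 1024 [191] 274 [57,56,42,240])))) (.node (.node (.leaf (.up 1 84 [36] 0 [88,94,155,118])) (.leaf (.up 4 1523 [191] 274 [87,91,153]))) (.leaf (.up 3 1090 [58] 276 [87,56,104,4]))))) (.node (.node (.node (.node (.leaf (.up 3 1621 [32] 0 [57,93,188])) (.leaf (.up 2 3590 [48] 530 [57,55,103,239])))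 (.node (.leaf (.up 4 907 [58] 276 [57,93,140,228])) (.leaf (.up 3 2870 [191] 274 [57,110,103,182])))) (.node (.node (.leaf (.up 3 2433 [58] 276 [88,93,104,33])) (.leaf (.up 3 2132 [48] 530 [87,56,155,162]))) (.node (.leaf (.up 3 3676 [28] 0 [57,93,43,146])) (.leaf (.up 4 706 [191] 274 [88,110,104,132]))))) (.node (.node (.node (.leaf (.up 6 2792 [191] 274 [55,155,8])) (.leaf (.up 3 1010 [32] 0 [93,104,208]))) (.node (.leaf (.up 4 2732 [35] 0 [88,93,42,246])) (.leaf (.up 6 598 [191] 274 [57,6])))) (.node (.node (.leaf (.up 2 2451 [58] 276 [57,93,89,245])) (.leaf (.up 4 162 [35] 0 [56,104,98]))) (.leaf (.up 4 238 [36] 0 [57,110,43,5])))))) (.node (.node (.node (.node (.node (.leaf (.up 4 476 [191] 274 [110,176,234])) (.leaf (.up 5 1767 [32] 0 [88,110,44,102]))) (.node (.leaf (.up 4 1766 [52] 1163 [87,103,242])) (.leaf (.up 2 2867 [37] 0 [57,55,44,21])))) (.node (.node (.leaf (.up 4 1177 [58] 276 [57,93,91,23])) (.leaf (.up 5 2447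 [58] 276 [93,103,106]))) (.node (.leaf (.up 3 897 [36] 0 [87,55,90,222])) (.leaf (.up 4 238 [32] 0 [88,94,116,172]))))) (.node (.node (.node (.leaf (.up 4 3538 [48] 530 [88,93,44,10])) (.leaf (.up 4 159 [28] 0 [57,93,140,101]))) (.node (.leaf (.up 3 406 [36] 0 [88,55,89,22])) (.leaf (.up 4 178 [52] 1163 [88,110,91,33])))) (.node (.node (.leaf (.up 3 1602 [191] 274 [87,55,187])) (.leaf (.up 4 348 [32] 0 [87,93,91,34]))) (.leaf (.up 3 56 [58] 276 [87,110,42,117]))))) (.node (.node (.node (.node (.leaf (.up 4 1679 [35] 0 [93,91,6])) (.leaf (.up 4 3568 [52] 1163 [88,56,91,121]))) (.node (.leaf (.up 4 1136 [191] 274 [87,110,103,159])) (.leaf (.up 4 875 [58] 276 [88,44,5])))) (.node (.node (.leaf (.up 4 2591 [32] 0 [57,93,91,92])) (.leaf (.up 3 529 [52] 1163 [87,55,91,141]))) (.leaf (.up 4 2111 [58] 276 [110,176,5])))) (.node (.node (.node (.leaf (.up 4 261 [32] 0 [87,56,116,100])) (.leaf (.up 4 800 [35] 0 [110,42,184]))) (.node (.leaf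 (.up 5 2464 [191] 274 [88,94,90,216])) (.leaf (.up 3 985 [191] 274 [57,110,116,229])))) (.node (.node (.leaf (.up 5 2970 [37] 0 [94,89,111])) (.leaf (.up 3 871 [58] 276 [87,94,103,168]))) (.leaf (.up 4 2143 [191] 274 [87,110,155,210]))))))) (.node (.node (.node (.node (.node (.node (.leaf (.up 4 121 [28] 0 [88,140,72])) (.leaf (.up 4 1213 [52] 1163 [56,42,139]))) (.node (.leaf (.up 3 3571 [58] 276 [110,176,167])) (.leaf (.up 3 3291 [37] 0 [57,110,89,203])))) (.node (.node (.leaf (.up 3 1551 [52] 1163 [88,55,176,226])) (.leaf (.up 3 2277 [36] 0 [87,93,90,191]))) (.node (.leaf (.up 4 974 [58] 276 [110,42,6])) (.leaf (.up 3 18 [58] 276 [55,104,37]))))) (.node (.node (.node (.leaf (.up 1 0 [36] 0 [88,110,42,226])) (.leaf (.up 5 2520 [58] 276 [57,56,155,99]))) (.node (.leaf (.up 5 1242 [36] 0 [87,55,140,37])) (.leaf (.up 4 397 [36] 0 [56,104,221])))) (.node (.node (.leaf (.up 4 570 [36] 0 [87,93,89,245])) (.leaf (.up 3 878 [32] 0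 [57,94,123,22]))) (.leaf (.up 2 3533 [52] 1163 [94,90,158]))))) (.node (.node (.node (.node (.leaf (.up 4 2024 [32] 0 [57,94,140,207])) (.leaf (.up 4 971 [32] 0 [57,110,103,145]))) (.node (.leaf (.up 4 2350 [32] 0 [93,42,239])) (.leaf (.up 4 3338 [52] 1163 [57,123,158])))) (.node (.node (.leaf (.up 3 3564 [52] 1163 [57,93,90,152])) (.leaf (.up 4 259 [58] 276 [88,93,176,71]))) (.node (.leaf (.up 3 726 [58] 276 [57,55,103,148])) (.leaf (.up 5 286 [48] 530 [87,93,155,107]))))) (.node (.node (.node (.leaf (.up 3 349 [48] 530 [87,43,232])) (.leaf (.up 4 3417 [191] 274 [57,94,176,241]))) (.node (.leaf (.up 3 3199 [36] 0 [57,93,42,230])) (.leaf (.up 4 446 [191] 274 [139])))) (.node (.node (.leaf (.up 4 2342 [58] 276 [94,116,74])) (.leaf (.up 5 3319 [48] 530 [87,55,44,223]))) (.leaf (.up 4 1933 [32] 0 [87,94,89,8])))))) (.node (.node (.node (.node (.node (.leaf (.up 4 1099 [58] 276 [88,93,176,130])) (.leaf (.up 4 241 [191] 274 [55,89,98])))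 (.node (.leaf (.up 4 545 [32] 0 [57,56,43,8])) (.leaf (.up 4 1966 [37] 0 [88,94,43,95])))) (.node (.node (.leaf (.up 3 167 [52] 1163 [88,42,168])) (.leaf (.up 2 1181 [58] 276 [87,56,103,36]))) (.node (.leaf (.up 3 1302 [32] 0 [88,44,73])) (.leaf (.up 4 2658 [35] 0 [57,55,91,106]))))) (.node (.node (.node (.leaf (.up 5 1497 [58] 276 [88,93,123,220])) (.leaf (.up 2 654 [191] 274 [94,42,160]))) (.node (.leaf (.up 1 1 [28] 0 [88,110,188])) (.leaf (.up 4 779 [191] 274 [57,123,97])))) (.node (.node (.leaf (.up 3 2281 [58] 276 [88,110,103,33])) (.leaf (.up 4 1507 [35] 0 [57,114]))) (.leaf (.up 4 1161 [36] 0 [88,56,91,8]))))) (.node (.node (.node (.node (.leaf (.up 1 1 [35] 0 [57,155,179])) (.leaf (.up 4 275 [28] 0 [57,55,90,228]))) (.node (.leaf (.up 3 2008 [52] 1163 [57,93,42,115])) (.leaf (.up 2 3590 [32] 0 [56,89,190])))) (.node (.node (.leaf (.up 5 210 [191] 274 [87,56,103,20])) (.leaf (.up 1 5 [36] 0 [88,110,43,138]))) (.leaf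 (.up 4 1489 [52] 1163 [55,90,169])))) (.node (.node (.node (.leaf (.up 3 3381 [36] 0 [87,42,166])) (.leaf (.up 4 2509 [58] 276 [87,56,43,192]))) (.node (.leaf (.up 4 1172 [28] 0 [90,36])) (.leaf (.up 3 2988 [191] 274 [57,55,104,227])))) (.node (.node (.leaf (.up 4 3519 [58] 276 [87,93,104,74])) (.leaf (.up 3 1411 [58] 276 [88,110,116,241]))) (.leaf (.up 4 1105 [48] 530 [56,43,230])))))))

noncomputable def trio2_0101 : Tr TStep := .node trio2_01010 trio2_01011

noncomputable def trio2_010 : Tr TStep := .node trio2_0100 trio2_0101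

noncomputable def trio2_01100 : Tr TStep :=
  .node (.node (.node (.node (.node (.node (.node (.leaf (.up 4 298 [58] 276 [57,90,187])) (.leaf (.up 3 406 [32] 0 [87,55,91,92]))) (.node (.leaf (.up 4 1851 [36] 0 [88,103,248])) (.leaf (.up 2 254 [36] 0 [87,90,160])))) (.node (.node (.leaf (.up 3 176 [58] 276 [88,110,176,177])) (.leaf (.up 4 696 [36] 0 [88,110,91,240]))) (.node (.leaf (.up 4 1053 [36] 0 [57,42,148])) (.leaf (.up 1 1 [52] 1163 [55,103,226]))))) (.node (.node (.node (.leaf (.up 4 1604 [191] 274 [88,56,140,132])) (.leaf (.up 5 168 [36] 0 [87,110,91,175]))) (.node (.leaf (.up 4 1067 [191] 274 [88,94,240])) (.leaf (.up 3 1897 [28] 0 [88,94,89,226])))) (.node (.node (.leaf (.up 3 1079 [191] 274 [87,55,116,7])) (.leaf (.up 3 1875 [35] 0 [57,55,46]))) (.leaf (.up 4 1851 [52] 1163 [87,110,140,124]))))) (.node (.node (.node (.node (.leaf (.up 2 3533 [32] 0 [169])) (.leaf (.up 4 285 [191] 274 [93,140,216]))) (.node (.leaf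 (.up 3 710 [36] 0 [55,123,146])) (.leaf (.up 3 1947 [58] 276 [87,123,35])))) (.node (.node (.leaf (.up 4 1176 [191] 274 [57,94,43,105])) (.leaf (.up 4 1595 [36] 0 [88,110,116,200]))) (.node (.leaf (.up 3 3557 [52] 1163 [87,55,179])) (.leaf (.up 4 847 [36] 0 [87,94,103,171]))))) (.node (.node (.node (.leaf (.up 4 1125 [36] 0 [87,104,137])) (.leaf (.up 3 3475 [48] 530 [110,89,72]))) (.node (.leaf (.up 3 3434 [48] 530 [88,56,208])) (.leaf (.up 4 261 [35] 0 [57,44,240])))) (.node (.node (.leaf (.up 5 952 [48] 530 [93,150])) (.leaf (.up 4 696 [32] 0 [94,140,3]))) (.leaf (.up 4 1851 [48] 530 [93,44,3])))))) (.node (.node (.node (.node (.node (.leaf (.up 3 1649 [35] 0 [56,116,226])) (.leaf (.up 3 1998 [32] 0 [88,110,195]))) (.node (.leaf (.up 4 339 [36] 0 [87,56,44,221])) (.leaf (.up 3 2032 [191] 274 [88,104,175])))) (.node (.node (.leaf (.up 4 3534 [37] 0 [87,56,90,204])) (.leaf (.up 3 1892 [58] 276 [176,237]))) (.node (.leaf (.up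 4 2199 [37] 0 [87,55,90,203])) (.leaf (.up 4 1430 [36] 0 [87,110,123,9]))))) (.node (.node (.node (.leaf (.up 4 3403 [52] 1163 [57,94,116,223])) (.leaf (.up 5 3135 [191] 274 [88,110,176,214]))) (.node (.leaf (.up 4 613 [191] 274 [88,56,16])) (.leaf (.up 2 522 [58] 276 [57,93,103,13])))) (.node (.node (.leaf (.up 5 404 [52] 1163 [94,91,136])) (.leaf (.up 4 1548 [32] 0 [87,56,89,172]))) (.leaf (.up 4 493 [191] 274 [57,94,90,244]))))) (.node (.node (.node (.node (.leaf (.up 3 1602 [36] 0 [57,90,124])) (.leaf (.up 3 2870 [35] 0 [87,103,242]))) (.node (.leaf (.up 4 458 [58] 276 [110,187])) (.leaf (.up 4 164 [191] 274 [87,94,123,235])))) (.node (.node (.leaf (.up 2 1603 [191] 274 [57,94,140,159])) (.leaf (.up 4 1799 [35] 0 [94,89,138]))) (.node (.leaf (.up 3 709 [28] 0 [87,94,90,120])) (.leaf (.up 3 690 [58] 276 [57,110,155,204]))))) (.node (.node (.node (.leaf (.up 2 149 [52] 1163 [87,91,35])) (.leaf (.up 4 1009 [35] 0 [87,93,91,216])))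 (.node (.leaf (.up 4 1462 [37] 0 [56,116,162])) (.leaf (.up 4 3546 [52] 1163 [57,93,89,222])))) (.node (.node (.leaf (.up 5 3382 [58] 276 [88,93,140,238])) (.leaf (.up 5 2047 [48] 530 [110,116,69]))) (.leaf (.up 4 3010 [36] 0 [57,56,91,105]))))))) (.node (.node (.node (.node (.node (.node (.leaf (.up 3 1186 [52] 1163 [55,9])) (.leaf (.up 3 213 [191] 274 [87,89,27]))) (.node (.leaf (.up 4 3530 [48] 530 [87,55,75])) (.leaf (.up 5 1739 [48] 530 [88,110,176,27])))) (.node (.node (.leaf (.up 4 1252 [58] 276 [57,110,104,115])) (.leaf (.up 4 3789 [48] 530 [88,89,161]))) (.node (.leaf (.up 3 1934 [191] 274 [88,110,116,33])) (.leaf (.up 5 245 [52] 1163 [88,55,123,22]))))) (.node (.node (.node (.leaf (.up 5 957 [37] 0 [88,110,123,229])) (.leaf (.up 3 1078 [28] 0 [87,94,91,36]))) (.node (.leaf (.up 5 1908 [191] 274 [87,110,90,133])) (.leaf (.up 3 454 [48] 530 [90,143])))) (.node (.node (.leaf (.up 4 600 [36] 0 [87,94,103,18])) (.leaf (.up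 4 1183 [35] 0 [87,110,155,244]))) (.leaf (.up 4 2155 [58] 276 [88,55,91,5]))))) (.node (.node (.node (.node (.leaf (.up 4 1574 [58] 276 [87,110,91])) (.leaf (.up 5 2701 [36] 0 [89,165]))) (.node (.leaf (.up 3 2147 [32] 0 [88,93,90,220])) (.leaf (.up 5 896 [58] 276 [103,147])))) (.node (.node (.leaf (.up 3 726 [36] 0 [57,42,27])) (.leaf (.up 3 1366 [37] 0 [88,89,162]))) (.node (.leaf (.up 4 1513 [191] 274 [87,93,42,233])) (.leaf (.up 3 2756 [37] 0 [87,94,127]))))) (.node (.node (.node (.leaf (.up 2 1759 [48] 530 [88,94,150])) (.leaf (.up 2 3 [36] 0 [87,110,91,221]))) (.node (.leaf (.up 4 1489 [35] 0 [57,93,91,191])) (.leaf (.up 4 800 [32] 0 [55,104,215])))) (.node (.node (.leaf (.up 3 3434 [52] 1163 [88,110,104,181])) (.leaf (.up 4 3737 [32] 0 [55,176,186]))) (.leaf (.up 4 2909 [36] 0 [87,21])))))) (.node (.node (.node (.node (.node (.leaf (.up 5 748 [58] 276 [110,116,188])) (.leaf (.up 2 1221 [58] 276 [93,89,145]))) (.node (.leaf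 (.up 3 2543 [32] 0 [87,94,103,248])) (.leaf (.up 5 365 [58] 276 [161])))) (.node (.node (.leaf (.up 4 2725 [58] 276 [140,219])) (.leaf (.up 3 1838 [58] 276 [110,104,20]))) (.node (.leaf (.up 3 3154 [48] 530 [87,94,123,197])) (.leaf (.up 4 3402 [58] 276 [231]))))) (.node (.node (.node (.leaf (.up 4 1125 [48] 530 [56,42,231])) (.leaf (.up 4 2843 [36] 0 [87,56,89,138]))) (.node (.leaf (.up 4 1574 [32] 0 [87,140,184])) (.leaf (.up 5 3296 [32] 0 [57,110,155,215])))) (.node (.node (.leaf (.up 5 3243 [36] 0 [57,94,140,36])) (.leaf (.up 4 1305 [35] 0 [88,116,198]))) (.leaf (.up 4 742 [37] 0 [88,93,89,210]))))) (.node (.node (.node (.node (.leaf (.up 4 13 [52] 1163 [57,55,43,195])) (.leaf (.up 3 1245 [48] 530 [57,110,116,119]))) (.node (.leaf (.up 4 577 [191] 274 [88,94,184])) (.leaf (.up 4 121 [52] 1163 [87,56,123,224])))) (.node (.node (.leaf (.up 3 2215 [52] 1163 [57,55,140,31])) (.leaf (.up 4 1279 [52] 1163 [87,94,42,234]))) (.leaf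 (.up 3 1247 [37] 0 [88,94,104,187])))) (.node (.node (.node (.leaf (.up 3 2645 [35] 0 [104,12])) (.leaf (.up 3 661 [191] 274 [55,42,161]))) (.node (.leaf (.up 3 56 [36] 0 [94,43,20])) (.leaf (.up 4 2095 [32] 0 [93,42,145])))) (.node (.node (.leaf (.up 4 3232 [36] 0 [55,89,72])) (.leaf (.up 4 1659 [58] 276 [87,55,176,211]))) (.leaf (.up 3 1484 [35] 0 [88,55,43,234])))))))

noncomputable def trio2_01101 : Tr TStep :=
  .node (.node (.node (.node (.node (.node (.node (.leaf (.up 4 1669 [58] 276 [88,91,183])) (.leaf (.up 3 589 [58] 276 [87,55,116,200]))) (.node (.leaf (.up 5 266 [48] 530 [87,93,200])) (.leaf (.up 3 1524 [58] 276 [87,56,43,154])))) (.node (.node (.leaf (.up 3 123 [35] 0 [116,126])) (.leaf (.up 4 570 [58] 276 [88,103,190]))) (.node (.leaf (.up 4 1158 [37] 0 [87,93,123,97])) (.leaf (.up 4 3478 [32] 0 [87,94,103,151]))))) (.node (.node (.node (.leaf (.up 4 1917 [191] 274 [57,90,183])) (.leaf (.up 3 56 [32] 0 [87,94,42,241])))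 (.node (.leaf (.up 2 1525 [35] 0 [110,43,207])) (.leaf (.up 5 3542 [36] 0 [57,94,43,233])))) (.node (.node (.leaf (.up 3 2756 [52] 1163 [88,56,90,170])) (.leaf (.up 4 3530 [191] 274 [87,55,116,134]))) (.leaf (.up 4 3478 [48] 530 [88,56,42,139]))))) (.node (.node (.node (.node (.leaf (.up 5 3256 [58] 276 [110,245])) (.leaf (.up 4 2084 [191] 274 [88,94,90,61]))) (.node (.leaf (.up 4 2662 [191] 274 [55,90,29])) (.leaf (.up 5 1298 [37] 0 [55,150])))) (.node (.node (.leaf (.up 4 3017 [191] 274 [87,94,44,190])) (.leaf (.up 4 940 [191] 274 [87,94,90,122]))) (.node (.leaf (.up 3 2682 [52] 1163 [94,44,197])) (.leaf (.up 4 903 [52] 1163 [55,155,139]))))) (.node (.node (.node (.leaf (.up 2 1048 [28] 0 [87,176,228])) (.leaf (.up 4 1207 [52] 1163 [88,56,90,197]))) (.node (.leaf (.up 3 1950 [32] 0 [88,94,155,243])) (.leaf (.up 3 2573 [58] 276 [87,56,91,101])))) (.node (.node (.leaf (.up 5 649 [58] 276 [57,94,194])) (.leaf (.up 3 1364 [32]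 0 [55,44,5]))) (.leaf (.up 4 3050 [191] 274 [57,56,103,23])))))) (.node (.node (.node (.node (.node (.leaf (.up 4 499 [191] 274 [57,110,91,109])) (.leaf (.up 3 3543 [52] 1163 [110,89,141]))) (.node (.leaf (.up 4 1147 [32] 0 [57,55,123,73])) (.leaf (.up 3 3398 [37] 0 [57,43,138])))) (.node (.node (.leaf (.up 5 3372 [52] 1163 [57,56,116,23])) (.leaf (.up 4 2734 [191] 274 [55,103,159]))) (.node (.leaf (.up 4 3519 [36] 0 [88,56,116,69])) (.leaf (.up 5 3039 [32] 0 [87,55,155,102]))))) (.node (.node (.node (.leaf (.up 2 1487 [32] 0 [110,42,34])) (.leaf (.up 3 2055 [28] 0 [87,155,161]))) (.node (.leaf (.up 2 2634 [36] 0 [87,55,43,186])) (.leaf (.up 5 519 [58] 276 [57,56,155,31])))) (.node (.node (.leaf (.up 4 2960 [58] 276 [57,110,44,169])) (.leaf (.up 4 162 [37] 0 [93,89,3]))) (.leaf (.up 2 3694 [191] 274 [87,94,101]))))) (.node (.node (.node (.node (.leaf (.up 4 2335 [58] 276 [88,93,42,188])) (.leaf (.up 5 1543 [191] 274 [57,55,43,74])))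 (.node (.leaf (.up 5 1570 [191] 274 [87,94,116,242])) (.leaf (.up 5 2101 [58] 276 [87,44,114])))) (.node (.node (.leaf (.up 2 2867 [191] 274 [57,110,104,12])) (.leaf (.up 3 1961 [52] 1163 [87,110,43,163]))) (.leaf (.up 5 702 [36] 0 [57,155,173])))) (.node (.node (.node (.leaf (.up 3 2269 [32] 0 [57,56,90,174])) (.leaf (.up 4 1320 [28] 0 [110,140,156]))) (.node (.leaf (.up 4 3360 [58] 276 [57,56,116,106])) (.leaf (.up 4 1802 [32] 0 [88,94,104,170])))) (.node (.node (.leaf (.up 4 3478 [52] 1163 [94,103,240])) (.leaf (.up 4 1966 [52] 1163 [87,110,123]))) (.leaf (.up 5 2245 [58] 276 [88,55,155,37]))))))) (.node (.node (.node (.node (.node (.node (.leaf (.up 4 3287 [191] 274 [56,140,182])) (.leaf (.up 3 1897 [52] 1163 [93,116,215]))) (.node (.leaf (.up 2 2363 [32] 0 [88,94,42,241])) (.leaf (.up 4 3400 [35] 0 [57,56,168])))) (.node (.node (.leaf (.up 3 3381 [32] 0 [57,55,42,157])) (.leaf (.up 3 3284 [191] 274 [57,93,140,210]))) (.node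 (.leaf (.up 3 1029 [35] 0 [57,93,103,12])) (.leaf (.up 3 429 [191] 274 [88,110,140,129]))))) (.node (.node (.node (.leaf (.up 3 821 [58] 276 [88,93,117])) (.leaf (.up 4 1625 [28] 0 [93,90,0]))) (.node (.leaf (.up 5 2702 [191] 274 [88,56,104,76])) (.leaf (.up 4 978 [191] 274 [57,56,104,222])))) (.node (.node (.leaf (.up 3 622 [36] 0 [88,94,43,226])) (.leaf (.up 2 24 [28] 0 [57,94,42,213]))) (.leaf (.up 3 3101 [36] 0 [57,55,103,95]))))) (.node (.node (.node (.node (.leaf (.up 3 944 [58] 276 [110,91,208])) (.leaf (.up 4 575 [191] 274 [57,93,91,241]))) (.node (.leaf (.up 3 1179 [191] 274 [93,123,185])) (.leaf (.up 4 2709 [48] 530 [88,110,89,148])))) (.node (.node (.leaf (.up 4 1659 [35] 0 [87,110,104,161])) (.leaf (.up 5 1210 [37] 0 [103,118]))) (.node (.leaf (.up 3 3284 [36] 0 [88,103,102])) (.leaf (.up 5 3644 [58] 276 [93,91,209]))))) (.node (.node (.node (.leaf (.up 4 2238 [191] 274 [57,110,42,181])) (.leaf (.up 3 2408 [35] 0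 [87,110,116,172]))) (.node (.leaf (.up 3 114 [58] 276 [55,103,243])) (.leaf (.up 5 2902 [191] 274 [87,93,44,3])))) (.node (.node (.leaf (.up 3 3571 [191] 274 [88,55,44,136])) (.leaf (.up 3 1247 [58] 276 [88,93,176,175]))) (.leaf (.up 4 1595 [48] 530 [88,110,155,9])))))) (.node (.node (.node (.node (.node (.leaf (.up 3 21 [36] 0 [57,55,90,242])) (.leaf (.up 3 160 [32] 0 [87,56,103,246]))) (.node (.leaf (.up 5 681 [52] 1163 [87,110,155,241])) (.leaf (.up 4 2141 [58] 276 [87,110,91,164])))) (.node (.node (.leaf (.up 5 3212 [58] 276 [57,55,43,191])) (.leaf (.up 4 2510 [36] 0 [57,176,185]))) (.node (.leaf (.up 4 2048 [36] 0 [88,55,89,117])) (.leaf (.up 5 3184 [58] 276 [57,94,92]))))) (.node (.node (.node (.leaf (.up 2 1726 [48] 530 [57,55,91,243])) (.leaf (.up 4 1708 [58] 276 [87,94,91,21]))) (.node (.leaf (.up 4 1573 [36] 0 [57,56,116,217])) (.leaf (.up 2 136 [48] 530 [88,110,176,172])))) (.node (.node (.leaf (.up 4 1573 [58] 276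 [87,55,176,227])) (.leaf (.up 4 920 [52] 1163 [88,155,165]))) (.leaf (.up 3 1621 [48] 530 [87,110,90,35]))))) (.node (.node (.node (.node (.leaf (.up 4 3744 [58] 276 [94,140,210])) (.leaf (.up 5 563 [48] 530 [57,94,42,97]))) (.node (.leaf (.up 4 583 [58] 276 [57,94,44,198])) (.leaf (.up 6 1580 [191] 274 [93,90,210])))) (.node (.node (.leaf (.up 5 3036 [37] 0 [88,56,123,235])) (.leaf (.up 3 2412 [28] 0 [87,55,90,242]))) (.leaf (.up 4 3356 [191] 274 [57,93,123,182])))) (.node (.node (.node (.leaf (.up 4 920 [32] 0 [87,94,43,245])) (.leaf (.up 4 198 [48] 530 [87,55,176,154]))) (.node (.leaf (.up 4 2843 [52] 1163 [87,56,116,146])) (.leaf (.up 2 254 [35] 0 [88,93,91,242])))) (.node (.node (.leaf (.up 2 1726 [37] 0 [87,94,89,224])) (.leaf (.up 4 162 [52] 1163 [57,94,140,243]))) (.leaf (.up 4 1345 [37] 0 [88,91,174])))))))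

noncomputable def trio2_0110 : Tr TStep := .node trio2_01100 trio2_01101

noncomputable def trio2_01110 : Tr TStep :=
  .node (.node (.node (.node (.node (.node (.node (.leaf (.up 5 1543 [48] 530 [87,93,104,143])) (.leaf (.up 3 3150 [32] 0 [88,93,123,129]))) (.node (.leaf (.up 4 3445 [191] 274 [57,56,157])) (.leaf (.up 3 1511 [58] 276 [94,89,76])))) (.node (.node (.leaf (.up 4 1207 [36] 0 [93,123,223])) (.leaf (.up 5 2490 [32] 0 [88,91,15]))) (.node (.leaf (.up 3 1012 [52] 1163 [88,110,123,162])) (.leaf (.up 5 3268 [58] 276 [57,93,103,232]))))) (.node (.node (.node (.leaf (.up 3 3138 [52] 1163 [94,89,141])) (.leaf (.up 4 2994 [58] 276 [57,56,155,20]))) (.node (.leaf (.up 2 1759 [36] 0 [88,93,123,237])) (.leaf (.up 3 3044 [36] 0 [57,56,176,134])))) (.node (.node (.leaf (.up 2 1705 [191] 274 [57,93,43,74])) (.leaf (.up 4 2336 [191] 274 [88,55,43,150]))) (.leaf (.up 3 1973 [58] 276 [88,103,20]))))) (.node (.node (.node (.node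 (.leaf (.up 4 3509 [58] 276 [87,56,42,213])) (.leaf (.up 3 3567 [28] 0 [87,56,44,148]))) (.node (.leaf (.up 3 635 [191] 274 [94,155,221])) (.leaf (.up 4 1224 [191] 274 [57,93,91,165])))) (.node (.node (.leaf (.up 1 16 [36] 0 [55,42,100])) (.leaf (.up 4 3534 [48] 530 [57,110,42,30]))) (.node (.leaf (.up 4 447 [191] 274 [56,155,27])) (.leaf (.up 4 309 [52] 1163 [88,93,123,193]))))) (.node (.node (.node (.leaf (.up 4 1053 [52] 1163 [88,116,182])) (.leaf (.up 2 522 [52] 1163 [87,56,90,179]))) (.node (.leaf (.up 3 318 [36] 0 [87,93,90,99])) (.leaf (.up 4 915 [52] 1163 [88,93,103,135])))) (.node (.node (.leaf (.up 4 1454 [191] 274 [87,94,116,115])) (.leaf (.up 4 852 [36] 0 [87,56,155,222]))) (.leaf (.up 2 136 [58] 276 [87,55,42,164])))))) (.node (.node (.node (.node (.node (.leaf (.up 4 1161 [37] 0 [57,93,155,134])) (.leaf (.up 3 2281 [32] 0 [57,176,191]))) (.node (.leaf (.up 3 406 [48] 530 [95])) (.leaf (.up 2 3468 [36] 0 [87,56,104,146]))))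 (.node (.node (.leaf (.up 5 1459 [191] 274 [56,103,73])) (.leaf (.up 4 2372 [191] 274 [55,123,59]))) (.node (.leaf (.up 5 2741 [58] 276 [87,110,176,168])) (.leaf (.up 4 1877 [36] 0 [155,105]))))) (.node (.node (.node (.leaf (.up 4 974 [52] 1163 [87,91,192])) (.leaf (.up 4 1096 [35] 0 [88,55,103,71]))) (.node (.leaf (.up 3 1950 [36] 0 [88,155,247])) (.leaf (.up 4 1816 [32] 0 [57,93,140,36])))) (.node (.node (.leaf (.up 4 599 [191] 274 [88,103,21])) (.leaf (.up 4 1158 [58] 276 [124]))) (.leaf (.up 4 2591 [36] 0 [88,55,123,201]))))) (.node (.node (.node (.node (.leaf (.up 5 886 [48] 530 [56,91,143])) (.leaf (.up 3 1470 [37] 0 [88,55,89,165]))) (.node (.leaf (.up 4 3757 [48] 530 [57,110,123,185])) (.leaf (.up 4 901 [58] 276 [55,44,65])))) (.node (.node (.leaf (.up 3 2147 [36] 0 [57,55,155,109])) (.leaf (.up 3 3586 [58] 276 [87,55,123,163]))) (.node (.leaf (.up 4 1553 [191] 274 [87,89,229])) (.leaf (.up 4 1608 [48] 530 [88,56,116,198])))))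 (.node (.node (.node (.leaf (.up 4 2246 [191] 274 [87,56,42,5])) (.leaf (.up 3 3381 [191] 274 [94,160]))) (.node (.leaf (.up 3 2277 [48] 530 [57,110,176,133])) (.leaf (.up 3 3589 [58] 276 [110,43,169])))) (.node (.node (.leaf (.up 3 2573 [36] 0 [88,93,164])) (.leaf (.up 4 3010 [32] 0 [57,93,219]))) (.leaf (.up 2 1662 [37] 0 [87,56,176,15]))))))) (.node (.node (.node (.node (.node (.node (.leaf (.up 3 3671 [58] 276 [88,110,176,150])) (.leaf (.up 3 3707 [191] 274 [57,94,104,7]))) (.node (.leaf (.up 5 2562 [191] 274 [57,110,156])) (.leaf (.up 3 922 [191] 274 [88,94,123,131])))) (.node (.node (.leaf (.up 3 1524 [48] 530 [57,90,220])) (.leaf (.up 4 1881 [58] 276 [93,42,192]))) (.node (.leaf (.up 3 2308 [32] 0 [88,155,239])) (.leaf (.up 4 687 [191] 274 [88,110,42,158]))))) (.node (.node (.node (.leaf (.up 4 1346 [48] 530 [87,110,162])) (.leaf (.up 3 1997 [191] 274 [93,176,235]))) (.node (.leaf (.up 4 391 [58] 276 [87,94,131])) (.leaf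 (.up 3 1961 [191] 274 [88,55,103,153])))) (.node (.node (.leaf (.up 4 1008 [32] 0 [57,44,187])) (.leaf (.up 4 2326 [58] 276 [44,12]))) (.leaf (.up 2 24 [36] 0 [88,140,170]))))) (.node (.node (.node (.node (.leaf (.up 2 3201 [52] 1163 [87,94,176,171])) (.leaf (.up 4 842 [58] 276 [88,155,245]))) (.node (.leaf (.up 4 2892 [58] 276 [57,56,42,30])) (.leaf (.up 4 2252 [58] 276 [88,110,140,144])))) (.node (.node (.leaf (.up 3 2253 [58] 276 [87,93,123,171])) (.leaf (.up 3 271 [191] 274 [87,110,116,191]))) (.node (.leaf (.up 5 301 [58] 276 [93,42,21])) (.leaf (.up 4 1573 [48] 530 [55,103,71]))))) (.node (.node (.node (.leaf (.up 2 522 [191] 274 [87,55,42,194])) (.leaf (.up 5 3019 [191] 274 [87,55,176,231]))) (.node (.leaf (.up 3 3454 [58] 276 [57,43,74])) (.leaf (.up 4 1589 [191] 274 [57,56,104,95])))) (.node (.node (.leaf (.up 4 476 [35] 0 [56,44,168])) (.leaf (.up 3 1317 [32] 0 [87,94,44,118]))) (.leaf (.up 3 2685 [36] 0 [88,140,134]))))))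 (.node (.node (.node (.node (.node (.leaf (.up 3 1499 [48] 530 [88,55,103,128])) (.leaf (.up 4 847 [48] 530 [87,104,143]))) (.node (.leaf (.up 3 3788 [52] 1163 [57,56,101])) (.leaf (.up 3 300 [36] 0 [87,110,89,208])))) (.node (.node (.leaf (.up 2 3200 [48] 530 [88,94,140,242])) (.leaf (.up 4 188 [191] 274 [88,110,188]))) (.node (.leaf (.up 3 2937 [32] 0 [87,110,176,218])) (.leaf (.up 1 283 [28] 0 [57,110,186]))))) (.node (.node (.node (.leaf (.up 5 3084 [58] 276 [57,55,91,195])) (.leaf (.up 4 805 [58] 276 [88,56,104,120]))) (.node (.leaf (.up 2 2327 [191] 274 [87,55,90,239])) (.leaf (.up 3 2515 [52] 1163 [87,43,209])))) (.node (.node (.leaf (.up 2 3200 [36] 0 [88,216])) (.leaf (.up 5 1000 [191] 274 [88,44,148]))) (.leaf (.up 5 2304 [32] 0 [87,93,2]))))) (.node (.node (.node (.node (.leaf (.up 3 2756 [35] 0 [87,93,89,213])) (.leaf (.up 3 3044 [48] 530 [57,93,90,4]))) (.node (.leaf (.up 3 1784 [191] 274 [116,16])) (.leaf (.up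 3 1103 [48] 530 [87,56,91,1])))) (.node (.node (.leaf (.up 4 3647 [58] 276 [88,110,103,132])) (.leaf (.up 3 72 [52] 1163 [30]))) (.leaf (.up 4 194 [35] 0 [87,56,90,184])))) (.node (.node (.node (.leaf (.up 4 852 [32] 0 [88,93,91,118])) (.leaf (.up 4 2734 [36] 0 [87,56,140,152]))) (.node (.leaf (.up 4 2015 [32] 0 [57,110,155,213])) (.leaf (.up 4 543 [58] 276 [110,90,218])))) (.node (.node (.leaf (.up 4 2892 [35] 0 [57,55,140,207])) (.leaf (.up 5 3326 [32] 0 [88,55,44,182]))) (.leaf (.up 5 324 [58] 276 [176,144])))))))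

noncomputable def trio2_01111 : Tr TStep :=
  .node (.node (.node (.node (.node (.node (.node (.leaf (.up 3 3312 [58] 276 [88,93,176,198])) (.leaf (.up 3 871 [35] 0 [88,176,246]))) (.node (.leaf (.up 4 2909 [48] 530 [88,110,91,173])) (.leaf (.up 4 749 [32] 0 [88,56,103,136])))) (.node (.node (.leaf (.up 4 110 [58] 276 [88,93,123,154])) (.leaf (.up 3 3466 [48] 530 [56,91,191]))) (.node (.leaf (.up 3 1078 [52] 1163 [57,110,42,187])) (.leaf (.up 4 809 [58] 276 [88,94,140,194]))))) (.node (.node (.node (.leaf (.up 4 2614 [32] 0 [104,160])) (.leaf (.up 3 2727 [58] 276 [87,176,239]))) (.node (.leaf (.up 4 1593 [36] 0 [88,55,44,191])) (.leaf (.up 4 1495 [48] 530 [103,138])))) (.node (.node (.leaf (.up 4 155 [58] 276 [57,110,155,3])) (.leaf (.up 5 1398 [32] 0 [57,94,42,149]))) (.leaf (.up 3 1950 [52] 1163 [110,43,74]))))) (.node (.node (.node (.node (.leaf (.up 5 449 [36] 0 [93,42,118])) (.leaf (.up 4 2600 [52] 1163 [87,94,89,154])))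 (.node (.leaf (.up 5 1359 [36] 0 [87,110,44,237])) (.leaf (.up 3 3586 [37] 0 [87,56,116,3])))) (.node (.node (.leaf (.up 4 1589 [52] 1163 [88,110,89,241])) (.leaf (.up 3 1973 [191] 274 [88,110,42,220]))) (.node (.leaf (.up 3 1079 [48] 530 [57,42,215])) (.leaf (.up 2 1463 [28] 0 [87,110,103,211]))))) (.node (.node (.node (.leaf (.up 4 1209 [191] 274 [88,55,44])) (.leaf (.up 5 281 [36] 0 [88,56,140,160]))) (.node (.leaf (.up 5 1543 [52] 1163 [87,56,91,211])) (.leaf (.up 4 2940 [191] 274 [87,110,43,1])))) (.node (.node (.leaf (.up 5 2516 [58] 276 [87,56,133])) (.leaf (.up 3 2969 [191] 274 [88,55,43,181]))) (.leaf (.up 2 3468 [52] 1163 [88,94,176,182])))))) (.node (.node (.node (.node (.node (.leaf (.up 5 1521 [48] 530 [88,56,116,210])) (.leaf (.up 3 3689 [48] 530 [56,123,35]))) (.node (.leaf (.up 5 3542 [48] 530 [87,55,103,150])) (.leaf (.up 3 1845 [32] 0 [88,110,176,10])))) (.node (.node (.leaf (.up 4 1729 [48] 530 [87,110,44,247]))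 (.leaf (.up 4 1183 [32] 0 [88,44,203]))) (.node (.leaf (.up 4 696 [58] 276 [44,111])) (.leaf (.up 4 2686 [58] 276 [57,94,42,248]))))) (.node (.node (.node (.leaf (.up 3 1998 [191] 274 [87,55,155,126])) (.leaf (.up 3 2160 [58] 276 [87,110,42,141]))) (.node (.leaf (.up 4 2017 [58] 276 [123,202])) (.leaf (.up 4 2199 [35] 0 [57,55,90,133])))) (.node (.node (.leaf (.up 5 440 [52] 1163 [93,155,29])) (.leaf (.up 5 199 [48] 530 [87,94,42,72]))) (.leaf (.up 5 3348 [32] 0 [57,56,43,167]))))) (.node (.node (.node (.node (.leaf (.up 4 2410 [58] 276 [87,93,44,195])) (.leaf (.up 3 3291 [32] 0 [88,56,91,137]))) (.node (.leaf (.up 3 663 [58] 276 [88,94,44,132])) (.leaf (.up 4 110 [32] 0 [87,56,116,46])))) (.node (.node (.leaf (.up 3 280 [32] 0 [87,93,176,203])) (.leaf (.up 4 1755 [28] 0 [88,56,91,185]))) (.leaf (.up 4 2909 [191] 274 [57,93,155,73])))) (.node (.node (.node (.leaf (.up 5 1210 [36] 0 [56,103,15])) (.leaf (.up 5 1820 [58] 276 [56,91,112])))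 (.node (.leaf (.up 3 3633 [36] 0 [87,110,44,11])) (.leaf (.up 2 1420 [191] 274 [88,93,103,37])))) (.node (.node (.leaf (.up 3 3309 [32] 0 [93,103,95])) (.leaf (.up 3 3615 [191] 274 [87,94,43,101]))) (.leaf (.up 5 3644 [48] 530 [87,55,123,99]))))))) (.node (.node (.node (.node (.node (.node (.leaf (.up 5 2264 [191] 274 [88,55,90,36])) (.leaf (.up 3 878 [48] 530 [87,56,140,213]))) (.node (.leaf (.up 5 3036 [32] 0 [57,94,42,211])) (.leaf (.up 3 3632 [32] 0 [57,93,43,171])))) (.node (.node (.leaf (.up 5 2382 [48] 530 [56,90,205])) (.leaf (.up 4 2977 [35] 0 [88,55,233]))) (.node (.leaf (.up 3 1845 [58] 276 [87,93,90,4])) (.leaf (.up 4 3073 [35] 0 [87,93,91,61]))))) (.node (.node (.node (.leaf (.up 2 3793 [48] 530 [87,93,1])) (.leaf (.up 5 3212 [37] 0 [57,94,123,157]))) (.node (.leaf (.up 4 3750 [58] 276 [87,104,16])) (.leaf (.up 3 2685 [58] 276 [88,93,140,77])))) (.node (.node (.leaf (.up 5 3528 [58] 276 [87,43])) (.leaf (.up 3 479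 [36] 0 [57,116,196]))) (.leaf (.up 4 932 [36] 0 [88,110,44,59]))))) (.node (.node (.node (.node (.leaf (.up 3 2256 [58] 276 [87,56,116,243])) (.leaf (.up 3 3138 [35] 0 [87,55,104,27]))) (.node (.leaf (.up 3 2543 [28] 0 [91,119])) (.leaf (.up 4 194 [191] 274 [134])))) (.node (.node (.leaf (.up 4 3012 [58] 276 [87,93,21])) (.leaf (.up 3 1524 [191] 274 [87,155,233]))) (.node (.leaf (.up 1 4 [35] 0 [55,116,193])) (.leaf (.up 4 2126 [28] 0 [88,93,89,164]))))) (.node (.node (.node (.leaf (.up 3 3101 [58] 276 [88,110,123,177])) (.leaf (.up 3 3727 [35] 0 [56,123,33]))) (.node (.leaf (.up 2 433 [191] 274 [57,56,123,0])) (.leaf (.up 4 640 [191] 274 [88,56,91,131])))) (.node (.node (.leaf (.up 3 2308 [37] 0 [57,94,91,236])) (.leaf (.up 4 3301 [191] 274 [57,56,116,247]))) (.leaf (.up 4 1828 [191] 274 [87,140,198])))))) (.node (.node (.node (.node (.node (.leaf (.up 4 1002 [36] 0 [88,94,116,125])) (.leaf (.up 4 1376 [58] 276 [110,42,148])))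 (.node (.leaf (.up 4 298 [191] 274 [56,92])) (.leaf (.up 5 3195 [58] 276 [87,94,91,145])))) (.node (.node (.leaf (.up 4 790 [58] 276 [94,123,152])) (.leaf (.up 3 2250 [52] 1163 [88,93,42]))) (.node (.leaf (.up 1 1 [58] 276 [93,116,196])) (.leaf (.up 4 1972 [58] 276 [57,42,105]))))) (.node (.node (.node (.leaf (.up 2 2810 [35] 0 [87,93,140,231])) (.leaf (.up 5 222 [37] 0 [87,110,42,59]))) (.node (.leaf (.up 6 252 [36] 0 [93,123,124])) (.leaf (.up 2 1218 [36] 0 [93,90,133])))) (.node (.node (.leaf (.up 4 3478 [58] 276 [88,93,91,18])) (.leaf (.up 4 3748 [35] 0 [57,56,104,117]))) (.leaf (.up 4 1088 [191] 274 [57,55,155,191]))))) (.node (.node (.node (.node (.leaf (.up 1 4 [191] 274 [88,94,42,198])) (.leaf (.up 5 3675 [58] 276 [57,93,91,194]))) (.node (.leaf (.up 4 2137 [48] 530 [88,110,44,227])) (.leaf (.up 4 355 [48] 530 [94,90,183])))) (.node (.node (.leaf (.up 4 241 [52] 1163 [87,110,90,175])) (.leaf (.up 4 1207 [48] 530 [57,110,140,145])))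 (.leaf (.up 3 1695 [58] 276 [56,43,6])))) (.node (.node (.node (.leaf (.up 4 2853 [52] 1163 [87,93,123,237])) (.leaf (.up 4 3459 [191] 274 [57,56,44,185]))) (.node (.leaf (.up 5 3140 [35] 0 [93,90,109])) (.leaf (.up 5 2497 [191] 274 [87,110,106])))) (.node (.node (.leaf (.up 3 1389 [48] 530 [88,89,229])) (.leaf (.up 5 2701 [52] 1163 [93,104,107]))) (.leaf (.up 4 828 [36] 0 [94,140,219])))))))

noncomputable def trio2_0111 : Tr TStep := .node trio2_01110 trio2_01111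

noncomputable def trio2_011 : Tr TStep := .node trio2_0110 trio2_0111

noncomputable def trio2_01 : Tr TStep := .node trio2_010 trio2_011

noncomputable def trio2_0 : Tr TStep := .node trio2_00 trio2_01

noncomputable def trio2_10000 : Tr TStep :=
  .node (.node (.node (.node (.node (.node (.node (.leaf (.root 1)) (.leaf (.up 3 3564 [37] 0 [87,110,123,33]))) (.node (.leaf (.up 5 2174 [191] 274 [87,56,91,126])) (.leaf (.up 3 3454 [32] 0 [88,93,1])))) (.node (.node (.leaf (.up 3 1897 [32] 0 [57,91,215])) (.leaf (.up 3 1649 [36] 0 [56,91,23]))) (.node (.leaf (.up 3 114 [32] 0 [87,56,44,60])) (.leaf (.up 4 2037 [36] 0 [87,110,89,226]))))) (.node (.node (.node (.leaf (.up 5 1841 [191] 274 [87,55,103,105])) (.leaf (.up 5 3528 [35] 0 [88,56,44,208]))) (.node (.leaf (.up 2 3793 [37] 0 [87,89,197])) (.leaf (.up 4 2993 [191] 274 [94,155,35])))) (.node (.node (.leaf (.up 3 3160 [191] 274 [87,94,116,74])) (.leaf (.up 4 2832 [52] 1163 [57,42,16])))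 (.leaf (.up 4 2658 [32] 0 [87,94,44,60]))))) (.node (.node (.node (.node (.leaf (.up 6 2232 [191] 274 [94,42,204])) (.leaf (.up 2 1662 [35] 0 [88,43,179]))) (.node (.leaf (.up 4 1009 [37] 0 [91,132])) (.leaf (.up 1 84 [32] 0 [57,93,42,212])))) (.node (.node (.leaf (.up 5 130 [58] 276 [87,55,155])) (.leaf (.up 5 3650 [58] 276 [87,42,221]))) (.node (.leaf (.up 4 162 [191] 274 [57,93,12])) (.leaf (.up 4 305 [191] 274 [87,42,2]))))) (.node (.node (.node (.leaf (.up 4 2994 [191] 274 [57,55,116,129])) (.leaf (.up 2 3559 [35] 0 [87,55,176,8]))) (.node (.leaf (.up 4 1771 [36] 0 [56,123,170])) (.leaf (.up 3 3150 [28] 0 [55,140,120])))) (.node (.node (.leaf (.up 2 2327 [52] 1163 [87,116,207])) (.leaf (.up 4 1717 [32] 0 [87,90,144]))) (.leaf (.up 4 3546 [37] 0 [87,94,89,174])))))) (.node (.node (.node (.node (.node (.leaf (.up 4 2734 [52] 1163 [88,110,140,13])) (.leaf (.up 3 1897 [37] 0 [110,43,213]))) (.node (.leaf (.up 4 2995 [37] 0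 [116,220])) (.leaf (.up 3 2682 [191] 274 [87,56,42,46])))) (.node (.node (.leaf (.up 3 268 [32] 0 [88,56,90,156])) (.leaf (.up 4 226 [191] 274 [87,56,43,36]))) (.node (.leaf (.up 5 844 [191] 274 [88,110,176,213])) (.leaf (.up 3 349 [35] 0 [88,94,91,6]))))) (.node (.node (.node (.leaf (.up 4 799 [37] 0 [56,44,29])) (.leaf (.up 3 345 [36] 0 [87,55,30]))) (.node (.leaf (.up 3 265 [36] 0 [57,110,90,11])) (.leaf (.up 4 531 [48] 530 [87,93,155,4])))) (.node (.node (.leaf (.up 4 178 [37] 0 [88,110,140,241])) (.leaf (.up 4 2778 [191] 274 [94,155,141]))) (.leaf (.up 4 640 [58] 276 [87,110,90,36]))))) (.node (.node (.node (.node (.leaf (.up 4 2826 [58] 276 [94,43,72])) (.leaf (.up 4 420 [32] 0 [57,55,140,59]))) (.node (.leaf (.up 6 1068 [37] 0 [55,44,120])) (.leaf (.up 4 3012 [37] 0 [87,104,161])))) (.node (.node (.leaf (.up 5 1958 [32] 0 [88,55,43,167])) (.leaf (.up 3 2055 [32] 0 [88,110,176,239]))) (.node (.leaf (.up 3 189 [58] 276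 [94,155,218])) (.leaf (.up 5 376 [36] 0 [56,104,143]))))) (.node (.node (.node (.leaf (.up 4 2067 [35] 0 [88,94,176,153])) (.leaf (.up 4 2096 [58] 276 [57,94,43,12]))) (.node (.leaf (.up 4 805 [191] 274 [88,94,77])) (.leaf (.up 3 1281 [36] 0 [94,116,29])))) (.node (.node (.leaf (.up 2 2439 [58] 276 [57,94,171])) (.leaf (.up 4 1169 [52] 1163 [57,91,202]))) (.leaf (.up 6 2411 [32] 0 [87,93,90,172]))))))) (.node (.node (.node (.node (.node (.node (.leaf (.up 5 289 [48] 530 [87,110,123,245])) (.leaf (.up 5 2376 [36] 0 [88,56,89,74]))) (.node (.leaf (.up 3 2150 [48] 530 [88,110,123,240])) (.leaf (.up 3 1389 [58] 276 [87,93,116,227])))) (.node (.node (.leaf (.up 3 3560 [191] 274 [57,56,140,168])) (.leaf (.up 3 1940 [191] 274 [56,43,200]))) (.node (.leaf (.up 4 3779 [58] 276 [87,176,114])) (.leaf (.up 4 3211 [36] 0 [88,55,116,33]))))) (.node (.node (.node (.leaf (.up 4 339 [191] 274 [88,55,103,164])) (.leaf (.up 3 1556 [35] 0 [87,56,43,150])))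 (.node (.leaf (.up 3 2724 [32] 0 [88,94,92])) (.leaf (.up 4 2141 [28] 0 [57,55,140,227])))) (.node (.node (.leaf (.up 3 2381 [52] 1163 [55,42,4])) (.leaf (.up 5 2188 [191] 274 [87,55,89,171]))) (.leaf (.up 4 373 [191] 274 [87,93,43,27]))))) (.node (.node (.node (.node (.leaf (.up 4 2037 [58] 276 [123,230])) (.leaf (.up 3 3162 [191] 274 [88,56,136]))) (.node (.leaf (.up 4 3737 [37] 0 [87,43,142])) (.leaf (.up 5 2295 [36] 0 [88,94,104,75])))) (.node (.node (.leaf (.up 3 991 [36] 0 [57,93,89,77])) (.leaf (.up 2 254 [32] 0 [93,116,171]))) (.node (.leaf (.up 4 548 [37] 0 [87,94,42,4])) (.leaf (.up 5 3098 [58] 276 [94,89]))))) (.node (.node (.node (.leaf (.up 3 2446 [191] 274 [110,140,202])) (.leaf (.up 5 2047 [36] 0 [87,94,176,22]))) (.node (.leaf (.up 3 635 [58] 276 [87,55,44,69])) (.leaf (.up 3 2984 [35] 0 [87,94,90,207])))) (.node (.node (.leaf (.up 3 2721 [28] 0 [93,91,131])) (.leaf (.up 3 985 [58] 276 [87,94,103,147]))) (.leaf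 (.up 4 749 [52] 1163 [56,42,144])))))) (.node (.node (.node (.node (.node (.leaf (.up 3 1449 [58] 276 [88,94,43])) (.leaf (.up 3 872 [32] 0 [56,104,31]))) (.node (.leaf (.up 5 727 [191] 274 [57,94,200])) (.leaf (.up 4 1009 [32] 0 [88,94,103,157])))) (.node (.node (.leaf (.up 4 1177 [35] 0 [87,110,176,217])) (.leaf (.up 5 1795 [48] 530 [87,94,89,180]))) (.node (.leaf (.up 4 3081 [32] 0 [88,93,116,65])) (.leaf (.up 3 895 [191] 274 [57,93,44,132]))))) (.node (.node (.node (.leaf (.up 3 1997 [52] 1163 [88,94,104,179])) (.leaf (.up 3 3128 [191] 274 [55,123,188]))) (.node (.leaf (.up 3 1294 [52] 1163 [87,93,44,16])) (.leaf (.up 4 3453 [191] 274 [87,90,59])))) (.node (.node (.leaf (.up 4 2509 [37] 0 [93,42,74])) (.leaf (.up 3 3114 [36] 0 [57,55,89,206]))) (.leaf (.up 3 3138 [36] 0 [94,104,75]))))) (.node (.node (.node (.node (.leaf (.up 3 3557 [28] 0 [88,89,11])) (.leaf (.up 4 489 [191] 274 [88,55,89,189]))) (.node (.leaf (.up 4 3748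 [52] 1163 [88,94,43,128])) (.leaf (.up 4 2802 [191] 274 [87,110,91,132])))) (.node (.node (.leaf (.up 1 16 [37] 0 [57,94,104,184])) (.leaf (.up 3 3117 [35] 0 [88,56,42,141]))) (.leaf (.up 3 495 [191] 274 [110,176,96])))) (.node (.node (.node (.leaf (.up 4 310 [191] 274 [88,94,43,147])) (.leaf (.up 5 3090 [37] 0 [87,110,72]))) (.node (.leaf (.up 3 1364 [52] 1163 [55,104,246])) (.leaf (.up 4 2553 [48] 530 [56,116,212])))) (.node (.node (.leaf (.up 2 1163 [35] 0 [93,103,236])) (.leaf (.up 3 3636 [58] 276 [57,55,229]))) (.leaf (.up 3 1947 [37] 0 [87,94,44,246])))))))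

noncomputable def trio2_10001 : Tr TStep :=
  .node (.node (.node (.node (.node (.node (.node (.leaf (.up 3 1602 [52] 1163 [57,110,43,153])) (.leaf (.up 4 1127 [35] 0 [87,110,182]))) (.node (.leaf (.up 3 2150 [32] 0 [87,91,96])) (.leaf (.up 3 709 [58] 276 [87,93,44,195])))) (.node (.node (.leaf (.up 2 1487 [58] 276 [87,55,104,153])) (.leaf (.up 4 1745 [37] 0 [57,110,155,111]))) (.node (.leaf (.up 3 268 [48] 530 [57,94,176,213])) (.leaf (.up 5 2414 [191] 274 [87,110,90,36]))))) (.node (.node (.node (.leaf (.up 3 3117 [191] 274 [87,93,42,151])) (.leaf (.up 4 2726 [191] 274 [57,55,124]))) (.node (.leaf (.up 3 944 [37] 0 [88,140,145])) (.leaf (.up 5 91 [58] 276 [93,89,4])))) (.node (.node (.leaf (.up 4 339 [37] 0 [87,94,176,73])) (.leaf (.up 4 1755 [48] 530 [88,55,123,92]))) (.leaf (.up 4 921 [191] 274 [88,55,123,232]))))) (.node (.node (.node (.node (.leaf (.up 1 84 [35] 0 [110,176,156])) (.leaf (.up 4 827 [36] 0 [55,104,246])))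 (.node (.leaf (.up 3 2323 [58] 276 [88,94,155,218])) (.leaf (.up 3 813 [58] 276 [57,55,176,216])))) (.node (.node (.leaf (.up 3 1511 [52] 1163 [87,93,89,223])) (.leaf (.up 4 857 [36] 0 [110,43,179]))) (.node (.leaf (.up 3 189 [37] 0 [88,43,108])) (.leaf (.up 3 1383 [36] 0 [57,93,90,179]))))) (.node (.node (.node (.leaf (.up 3 589 [52] 1163 [94,140,218])) (.leaf (.up 4 275 [48] 530 [43,209]))) (.node (.leaf (.up 4 3547 [191] 274 [93,155,105])) (.leaf (.up 5 3319 [58] 276 [88,56,43,115])))) (.node (.node (.leaf (.up 4 2589 [36] 0 [87,93,103,4])) (.leaf (.up 3 430 [52] 1163 [93,91,144]))) (.leaf (.up 4 515 [191] 274 [57,94,176,5])))))) (.node (.node (.node (.node (.node (.leaf (.up 4 3429 [58] 276 [87,44,149])) (.leaf (.up 3 2340 [58] 276 [88,42,8]))) (.node (.leaf (.up 3 2573 [32] 0 [88,94,104,190])) (.leaf (.up 5 3503 [32] 0 [87,93,90,25])))) (.node (.node (.leaf (.up 2 522 [48] 530 [88,60])) (.leaf (.up 2 1163 [191] 274 [87,104,232])))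 (.node (.leaf (.up 5 40 [191] 274 [57,55,213])) (.leaf (.up 4 599 [28] 0 [88,56,91,153]))))) (.node (.node (.node (.leaf (.up 3 2044 [37] 0 [57,110,155,240])) (.leaf (.up 4 1507 [48] 530 [57,93,42,243]))) (.node (.leaf (.up 5 1473 [35] 0 [87,94,90,229])) (.leaf (.up 4 800 [58] 276 [55,89,246])))) (.node (.node (.leaf (.up 4 537 [35] 0 [43,69])) (.leaf (.up 4 17 [36] 0 [57,110,116,172]))) (.leaf (.up 5 3039 [58] 276 [93,104,143]))))) (.node (.node (.node (.node (.leaf (.up 4 2614 [58] 276 [55,44,75])) (.leaf (.up 5 1368 [191] 274 [57,55,89,77]))) (.node (.leaf (.up 4 1882 [191] 274 [57,56,42,191])) (.leaf (.up 5 3526 [32] 0 [87,176,31])))) (.node (.node (.leaf (.up 3 1364 [35] 0 [88,110,140,109])) (.leaf (.up 4 1158 [32] 0 [57,94,42,208]))) (.node (.leaf (.up 3 497 [191] 274 [87,55,90,0])) (.leaf (.up 1 1 [191] 274 [57,110,140,164]))))) (.node (.node (.node (.leaf (.up 4 3629 [28] 0 [87,91,3])) (.leaf (.up 4 3134 [191] 274 [88,140,248])))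 (.node (.leaf (.up 3 3492 [37] 0 [87,93,89,18])) (.leaf (.up 2 3559 [52] 1163 [87,110,43,112])))) (.node (.node (.leaf (.up 4 721 [191] 274 [88,123,181])) (.leaf (.up 4 2709 [191] 274 [88,56,90,165]))) (.leaf (.up 4 2410 [48] 530 [57,93,116,136]))))))) (.node (.node (.node (.node (.node (.node (.leaf (.up 3 944 [35] 0 [56,103,154])) (.leaf (.up 4 2675 [58] 276 [87,56,91,107]))) (.node (.leaf (.up 3 1866 [32] 0 [88,93,117])) (.leaf (.up 4 3065 [191] 274 [110,176,227])))) (.node (.node (.leaf (.up 4 2226 [58] 276 [93,43,114])) (.leaf (.up 4 2336 [52] 1163 [88,55,44,112]))) (.node (.leaf (.up 2 794 [28] 0 [57,104,180])) (.leaf (.up 2 1420 [58] 276 [88,94,104,2]))))) (.node (.node (.node (.leaf (.up 3 1340 [35] 0 [94,44,114])) (.leaf (.up 4 2771 [191] 274 [110,89,192]))) (.node (.leaf (.up 3 2250 [37] 0 [94,116,16])) (.leaf (.up 5 235 [58] 276 [87,42,148])))) (.node (.node (.leaf (.up 3 1186 [58] 276 [88,56,43,188])) (.leaf (.up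 4 1172 [191] 274 [87,110,103,175]))) (.leaf (.up 4 1127 [36] 0 [88,94,43,235]))))) (.node (.node (.node (.node (.leaf (.up 4 3073 [191] 274 [55,103,214])) (.leaf (.up 4 1507 [191] 274 [87,55,89,92]))) (.node (.leaf (.up 5 2950 [36] 0 [87,94,123,185])) (.leaf (.up 4 3714 [58] 276 [57,94,104,162])))) (.node (.node (.leaf (.up 3 3154 [191] 274 [88,56,42,215])) (.leaf (.up 5 191 [28] 0 [110,176,169]))) (.node (.leaf (.up 4 791 [58] 276 [57,55,89,184])) (.leaf (.up 4 732 [58] 276 [87,103,98]))))) (.node (.node (.node (.leaf (.up 1 1 [36] 0 [88,56,44,2])) (.leaf (.up 4 1792 [36] 0 [94,89,77]))) (.node (.leaf (.up 3 1389 [36] 0 [57,110,123,149])) (.leaf (.up 3 955 [35] 0 [94,176,179])))) (.node (.node (.leaf (.up 4 1136 [48] 530 [87,55,42,130])) (.leaf (.up 3 1366 [35] 0 [110,155,163]))) (.leaf (.up 4 2940 [28] 0 [88,90,209])))))) (.node (.node (.node (.node (.node (.leaf (.up 4 2463 [191] 274 [87,93,103,239])) (.leaf (.up 3 3788 [58]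 276 [88,55,116,164]))) (.node (.leaf (.up 5 281 [58] 276 [87,90,174])) (.leaf (.up 2 3076 [191] 274 [88,110,205])))) (.node (.node (.leaf (.up 5 2983 [191] 274 [88,56,89,125])) (.leaf (.up 4 1851 [35] 0 [94,44,156]))) (.node (.leaf (.up 2 522 [32] 0 [123,69])) (.leaf (.up 3 589 [191] 274 [87,55,104,212]))))) (.node (.node (.node (.leaf (.up 4 1170 [191] 274 [87,110,44,209])) (.leaf (.up 4 1184 [48] 530 [57,89,219]))) (.node (.leaf (.up 4 2254 [32] 0 [88,93,116,211])) (.leaf (.up 3 1998 [52] 1163 [88,56,0])))) (.node (.node (.leaf (.up 4 3463 [58] 276 [87,110,90,159])) (.leaf (.up 4 599 [48] 530 [57,93,89,115]))) (.leaf (.up 5 208 [191] 274 [88,56,140,248]))))) (.node (.node (.node (.node (.leaf (.up 3 1621 [191] 274 [87,56,155,21])) (.leaf (.up 4 1797 [58] 276 [87,56,155,187]))) (.node (.leaf (.up 4 600 [35] 0 [87,56,104,132])) (.leaf (.up 5 1093 [32] 0 [57,110,155,134])))) (.node (.node (.leaf (.up 3 3150 [36] 0 [87,94,89,9]))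 (.leaf (.up 4 1188 [52] 1163 [57,110,91,148]))) (.leaf (.up 4 1067 [52] 1163 [88,110,185])))) (.node (.node (.node (.leaf (.up 2 1420 [35] 0 [93,116,245])) (.leaf (.up 5 1793 [191] 274 [88,110,104,186]))) (.node (.leaf (.up 4 1127 [191] 274 [110,104,6])) (.leaf (.up 4 486 [36] 0 [57,110,90,35])))) (.node (.node (.leaf (.up 3 2645 [52] 1163 [55,123,3])) (.leaf (.up 4 2648 [35] 0 [57,55,89,65]))) (.leaf (.up 4 1771 [52] 1163 [87,55,90,164])))))))

noncomputable def trio2_1000 : Tr TStep := .node trio2_10000 trio2_10001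

noncomputable def trio2_10010 : Tr TStep :=
  .node (.node (.node (.node (.node (.node (.node (.leaf (.up 2 1218 [28] 0 [57,93,89,92])) (.leaf (.up 3 3700 [58] 276 [88,55,44,234]))) (.node (.leaf (.up 4 1848 [191] 274 [88,55,103,35])) (.leaf (.up 3 72 [191] 274 [88,55,103,198])))) (.node (.node (.leaf (.up 5 404 [32] 0 [88,110,155,247])) (.leaf (.up 3 3381 [48] 530 [93,176,248]))) (.node (.leaf (.up 4 1745 [32] 0 [57,94,90,108])) (.leaf (.up 6 1575 [58] 276 [57,110,119]))))) (.node (.node (.node (.leaf (.up 2 3793 [58] 276 [87,94,44,211])) (.leaf (.up 4 990 [191] 274 [87,56,90,15]))) (.node (.leaf (.up 4 1088 [58] 276 [87,42,199])) (.leaf (.up 4 1113 [191] 274 [87,56,123,228])))) (.node (.node (.leaf (.up 3 3387 [36] 0 [87,140,74])) (.leaf (.up 3 3387 [191] 274 [57,116,122]))) (.leaf (.up 5 2298 [191] 274 [88,56,89,99]))))) (.node (.node (.node (.node (.leaf (.up 4 580 [36] 0 [87,89,192])) (.leaf (.up 3 1695 [36] 0 [87,55,176,179])))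 (.node (.leaf (.up 3 349 [191] 274 [88,56,89,137])) (.leaf (.up 3 795 [48] 530 [57,110,43,163])))) (.node (.node (.leaf (.up 4 1507 [36] 0 [87,93,44,152])) (.leaf (.up 4 2718 [35] 0 [57,56,155,208]))) (.node (.leaf (.up 3 3632 [35] 0 [88,94,44,165])) (.leaf (.up 2 1221 [37] 0 [57,55,160]))))) (.node (.node (.node (.leaf (.up 3 523 [58] 276 [140,106])) (.leaf (.up 2 1662 [36] 0 [87,110,176,59]))) (.node (.leaf (.up 2 654 [58] 276 [87,55,155,134])) (.leaf (.up 3 2632 [48] 530 [87,56,103,168])))) (.node (.node (.leaf (.up 4 1877 [48] 530 [88,94,126])) (.leaf (.up 4 3282 [35] 0 [88,55,43,236]))) (.leaf (.up 3 2160 [191] 274 [57,55,90,25])))))) (.node (.node (.node (.node (.node (.leaf (.up 3 572 [48] 530 [57,93,155,215])) (.leaf (.up 3 176 [48] 530 [57,93,176,150]))) (.node (.leaf (.up 3 1695 [32] 0 [57,89,77])) (.leaf (.up 4 2227 [191] 274 [57,123,148])))) (.node (.node (.leaf (.up 4 397 [52] 1163 [44,30])) (.leaf (.up 5 1027 [36]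 0 [56,91,61]))) (.node (.leaf (.up 3 1281 [35] 0 [88,94,103,15])) (.leaf (.up 4 353 [191] 274 [87,94,100]))))) (.node (.node (.node (.leaf (.up 4 3116 [191] 274 [57,110,155,60])) (.leaf (.up 4 2750 [37] 0 [57,110,90,33]))) (.node (.leaf (.up 3 1515 [191] 274 [57,93,140,136])) (.leaf (.up 4 1769 [48] 530 [93,42,122])))) (.node (.node (.leaf (.up 4 3400 [32] 0 [88,110,116,36])) (.leaf (.up 3 1079 [58] 276 [123,228]))) (.leaf (.up 3 3742 [52] 1163 [57,93,42,228]))))) (.node (.node (.node (.node (.leaf (.up 3 454 [58] 276 [87,128])) (.leaf (.up 4 3554 [58] 276 [55,91,97]))) (.node (.leaf (.up 2 248 [191] 274 [57,110,91,31])) (.leaf (.up 4 2350 [58] 276 [88,56,90,138])))) (.node (.node (.leaf (.up 5 3675 [36] 0 [88,94,123,137])) (.leaf (.up 2 737 [48] 530 [57,93,91,244]))) (.node (.leaf (.up 4 2600 [58] 276 [88,93,43,220])) (.leaf (.up 4 2199 [48] 530 [88,43,132]))))) (.node (.node (.node (.leaf (.up 3 821 [36] 0 [88,94,123,231]))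 (.leaf (.up 2 737 [36] 0 [176,232]))) (.node (.leaf (.up 4 3029 [48] 530 [104,96])) (.leaf (.up 4 1235 [191] 274 [88,56,116,136])))) (.node (.node (.leaf (.up 4 974 [37] 0 [57,42,132])) (.leaf (.up 3 1961 [48] 530 [94,104,167]))) (.leaf (.up 4 847 [35] 0 [116,239]))))))) (.node (.node (.node (.node (.node (.node (.leaf (.up 5 552 [48] 530 [55,176,164])) (.leaf (.up 4 1771 [58] 276 [87,110,103,191]))) (.node (.leaf (.up 4 591 [32] 0 [56,44,199])) (.leaf (.up 4 2535 [191] 274 [57,56,25])))) (.node (.node (.leaf (.up 4 680 [37] 0 [87,94,44,153])) (.leaf (.up 4 2847 [32] 0 [57,94,155,25]))) (.node (.leaf (.up 5 2669 [58] 276 [94,155,18])) (.leaf (.up 3 1470 [52] 1163 [88,94,140,37]))))) (.node (.node (.node (.leaf (.up 3 1977 [58] 276 [87,94,123,243])) (.leaf (.up 4 791 [36] 0 [87,110,42,182]))) (.node (.leaf (.up 5 3067 [35] 0 [57,56,176,218])) (.leaf (.up 4 348 [191] 274 [56,91,154])))) (.node (.node (.leaf (.up 3 988 [191] 274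 [88,42,151])) (.leaf (.up 3 1977 [48] 530 [88,94,116,183]))) (.leaf (.up 3 1950 [58] 276 [57,93,123,156]))))) (.node (.node (.node (.node (.leaf (.up 3 661 [48] 530 [56,160])) (.leaf (.up 4 221 [32] 0 [55,90,99]))) (.node (.leaf (.up 5 1715 [58] 276 [88,56,43,114])) (.leaf (.up 3 3589 [52] 1163 [87,56,116,232])))) (.node (.node (.leaf (.up 4 3701 [48] 530 [55,103,125])) (.leaf (.up 5 3587 [32] 0 [93,176,236]))) (.node (.leaf (.up 1 5 [35] 0 [94,89,186])) (.leaf (.up 4 545 [58] 276 [94,103,126]))))) (.node (.node (.node (.leaf (.up 3 1407 [52] 1163 [88,93,176,156])) (.leaf (.up 5 552 [35] 0 [87,176,145]))) (.node (.leaf (.up 2 1463 [52] 1163 [87,93,203])) (.leaf (.up 2 1221 [35] 0 [93,42,162])))) (.node (.node (.leaf (.up 4 2992 [48] 530 [57,93,132])) (.leaf (.up 2 3 [58] 276 [87,90,99]))) (.leaf (.up 2 433 [32] 0 [55,209])))))) (.node (.node (.node (.node (.node (.leaf (.up 3 3589 [191] 274 [57,44,118])) (.leaf (.up 5 1300 [191]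 274 [110,89,12]))) (.node (.leaf (.up 2 2908 [191] 274 [87,93,155,136])) (.leaf (.up 5 1786 [191] 274 [88,56,43,132])))) (.node (.node (.leaf (.up 4 3051 [32] 0 [87,110,116,148])) (.leaf (.up 4 1166 [191] 274 [88,94,168]))) (.node (.leaf (.up 4 89 [36] 0 [93,44,180])) (.leaf (.up 2 1181 [28] 0 [88,140,99]))))) (.node (.node (.node (.leaf (.up 4 476 [58] 276 [116,69])) (.leaf (.up 5 1521 [58] 276 [87,94,176,96]))) (.node (.leaf (.up 4 2771 [36] 0 [57,116,101])) (.leaf (.up 4 397 [32] 0 [56,104,96])))) (.node (.node (.leaf (.up 4 3360 [191] 274 [57,56,176,187])) (.leaf (.up 5 2313 [58] 276 [93,44,240]))) (.leaf (.up 2 1487 [36] 0 [56,91,137]))))) (.node (.node (.node (.node (.leaf (.up 4 3737 [58] 276 [87,55,89,181])) (.leaf (.up 2 3793 [36] 0 [56,140,122]))) (.node (.leaf (.up 3 144 [191] 274 [88,93,104,193])) (.leaf (.up 3 1383 [191] 274 [88,140,97])))) (.node (.node (.leaf (.up 3 455 [32] 0 [88,110,42,238])) (.leaf (.up 3 607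 [36] 0 [88,93,103,188]))) (.leaf (.up 3 622 [52] 1163 [94,116,13])))) (.node (.node (.node (.leaf (.up 3 345 [58] 276 [57,56,116,11])) (.leaf (.up 4 2709 [35] 0 [88,93,43,230]))) (.node (.leaf (.up 3 345 [48] 530 [57,55,43,61])) (.leaf (.up 4 1828 [58] 276 [87,44,97])))) (.node (.node (.leaf (.up 4 578 [191] 274 [57,94,91,23])) (.leaf (.up 4 1920 [191] 274 [88,93,116,175]))) (.leaf (.up 4 3305 [52] 1163 [57,93,176,196])))))))

noncomputable def trio2_10011 : Tr TStep :=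
  .node (.node (.node (.node (.node (.node (.node (.leaf (.up 3 2347 [32] 0 [93,42,130])) (.leaf (.up 3 2682 [28] 0 [88,93,91,236]))) (.node (.leaf (.up 3 3160 [36] 0 [93,123,33])) (.leaf (.up 3 1005 [52] 1163 [90,65])))) (.node (.node (.leaf (.up 3 3715 [36] 0 [87,55,91,208])) (.leaf (.up 3 2685 [37] 0 [87,94,123,161]))) (.node (.leaf (.up 3 144 [48] 530 [44,96])) (.leaf (.up 3 2870 [52] 1163 [87,43,144]))))) (.node (.node (.node (.leaf (.up 4 1053 [32] 0 [88,90,141])) (.leaf (.up 3 3543 [191] 274 [87,123,137]))) (.node (.leaf (.up 3 1407 [48] 530 [88,94,140,107])) (.leaf (.up 4 2644 [35] 0 [43,36])))) (.node (.node (.leaf (.up 4 1220 [48] 530 [88,93,42,60])) (.leaf (.up 4 1274 [191] 274 [87,56,103,142]))) (.leaf (.up 3 2721 [191] 274 [88,91,75]))))) (.node (.node (.node (.node (.leaf (.up 4 1802 [58] 276 [57,93,44,187])) (.leaf (.up 4 1806 [52] 1163 [87,156]))) (.node (.leaf (.up 3 1845 [191] 274 [87,90,177])) (.leaf (.up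 4 1462 [32] 0 [88,94,185])))) (.node (.node (.leaf (.up 3 2177 [52] 1163 [87,93,44,46])) (.leaf (.up 4 1712 [48] 530 [87,89,72]))) (.node (.leaf (.up 4 1531 [36] 0 [88,110,116,7])) (.leaf (.up 3 3552 [191] 274 [88,56,116,4]))))) (.node (.node (.node (.leaf (.up 3 1515 [35] 0 [88,110,104,15])) (.leaf (.up 3 3632 [48] 530 [56,172]))) (.node (.leaf (.up 4 2210 [58] 276 [88,56,103,237])) (.leaf (.up 3 2381 [58] 276 [93,44,198])))) (.node (.node (.leaf (.up 3 3571 [48] 530 [93,123,36])) (.leaf (.up 2 433 [48] 530 [93,176,113]))) (.leaf (.up 5 2576 [32] 0 [87,110,90,185])))))) (.node (.node (.node (.node (.node (.leaf (.up 3 176 [35] 0 [57,93,176,114])) (.leaf (.up 3 3788 [32] 0 [57,89,135]))) (.node (.leaf (.up 3 3079 [36] 0 [89,118])) (.leaf (.up 4 1102 [191] 274 [57,55,104,130])))) (.node (.node (.leaf (.up 5 748 [48] 530 [88,55,89,182])) (.leaf (.up 4 2811 [191] 274 [57,94,91,148]))) (.node (.leaf (.up 3 3497 [32] 0 [87,93,44,13]))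 (.leaf (.up 3 2632 [32] 0 [57,94,116,235]))))) (.node (.node (.node (.leaf (.up 2 1218 [37] 0 [87,93,91,114])) (.leaf (.up 4 599 [58] 276 [87,94,89,36]))) (.node (.leaf (.up 3 3454 [35] 0 [57,55,176,137])) (.leaf (.up 3 3742 [58] 276 [87,93,90,105])))) (.node (.node (.leaf (.up 3 271 [36] 0 [57,128])) (.leaf (.up 4 1851 [191] 274 [87,104,220]))) (.leaf (.up 3 1652 [48] 530 [87,44,239]))))) (.node (.node (.node (.node (.leaf (.up 4 3696 [191] 274 [87,110,103,241])) (.leaf (.up 4 1009 [48] 530 [88,93,103,111]))) (.node (.leaf (.up 4 3568 [58] 276 [88,110,123,61])) (.leaf (.up 5 474 [52] 1163 [57,110,43,148])))) (.node (.node (.leaf (.up 5 3369 [36] 0 [57,89,230])) (.leaf (.up 4 2787 [58] 276 [56,123,177]))) (.leaf (.up 3 710 [35] 0 [88,55,90,221])))) (.node (.node (.node (.leaf (.up 4 1212 [58] 276 [110,42,152])) (.leaf (.up 2 2867 [36] 0 [57,55,140,108]))) (.node (.leaf (.up 4 2204 [191] 274 [55,91,244])) (.leaf (.up 3 3037 [36]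 0 [93,123,31])))) (.node (.node (.leaf (.up 2 1218 [32] 0 [110,104,237])) (.leaf (.up 3 955 [191] 274 [57,56,140,207]))) (.leaf (.up 3 1514 [35] 0 [87,55,91,162]))))))) (.node (.node (.node (.node (.node (.node (.leaf (.up 3 2253 [32] 0 [0])) (.leaf (.up 2 522 [36] 0 [57,110,140,102]))) (.node (.leaf (.up 5 837 [32] 0 [88,104,179])) (.leaf (.up 4 2020 [191] 274 [88,43,96])))) (.node (.node (.leaf (.up 4 1213 [32] 0 [87,56,43,0])) (.leaf (.up 4 476 [48] 530 [87,94,176,228]))) (.node (.leaf (.up 3 9 [35] 0 [88,94,155,105])) (.leaf (.up 4 2162 [32] 0 [87,110,90,175]))))) (.node (.node (.node (.leaf (.up 4 1022 [191] 274 [88,93,103,234])) (.leaf (.up 4 932 [191] 274 [87,93,116,134]))) (.node (.leaf (.up 4 2401 [35] 0 [88,110,42,189])) (.leaf (.up 3 1640 [35] 0 [57,93,91,113])))) (.node (.node (.leaf (.up 3 1294 [191] 274 [87,110,44,5])) (.leaf (.up 3 2044 [191] 274 [87,93,155,22]))) (.leaf (.up 3 3633 [191] 274 [55,43,129])))))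 (.node (.node (.node (.node (.leaf (.up 5 3572 [58] 276 [94,43,96])) (.leaf (.up 4 2510 [32] 0 [87,56,44,175]))) (.node (.leaf (.up 3 1012 [36] 0 [87,93,91,165])) (.leaf (.up 3 21 [58] 276 [87,55,90,108])))) (.node (.node (.leaf (.up 2 2451 [48] 530 [88,94,102])) (.leaf (.up 3 2724 [52] 1163 [57,110,43,0]))) (.node (.leaf (.up 4 1212 [36] 0 [93,123,154])) (.leaf (.up 4 355 [191] 274 [91,247]))))) (.node (.node (.node (.leaf (.up 4 3697 [58] 276 [87,56,116,231])) (.leaf (.up 5 320 [36] 0 [57,93,90,248]))) (.node (.leaf (.up 4 2998 [37] 0 [88,110,90,248])) (.leaf (.up 4 642 [32] 0 [88,156])))) (.node (.node (.leaf (.up 4 2162 [58] 276 [88,55,116,72])) (.leaf (.up 3 114 [48] 530 [88,94,43,69]))) (.leaf (.up 2 149 [48] 530 [57,56,140,144])))))) (.node (.node (.node (.node (.node (.leaf (.up 3 2392 [58] 276 [94,91,244])) (.leaf (.up 4 489 [36] 0 [94,89,152]))) (.node (.leaf (.up 4 3055 [48] 530 [87,56,89,229])) (.leaf (.up 3 1383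 [58] 276 [88,56,116,172])))) (.node (.node (.leaf (.up 5 972 [58] 276 [88,42,184])) (.leaf (.up 5 1301 [37] 0 [88,155,9]))) (.node (.leaf (.up 2 2451 [32] 0 [55,104,167])) (.leaf (.up 3 3349 [48] 530 [87,155,179]))))) (.node (.node (.node (.leaf (.up 3 3557 [37] 0 [88,104,237])) (.leaf (.up 4 3272 [48] 530 [110,248]))) (.node (.leaf (.up 5 90 [37] 0 [57,123,175])) (.leaf (.up 3 2368 [32] 0 [88,56,104,148])))) (.node (.node (.leaf (.up 4 3538 [36] 0 [88,104,216])) (.leaf (.up 2 1463 [35] 0 [42,3]))) (.leaf (.up 5 2893 [58] 276 [88,56,103,230]))))) (.node (.node (.node (.node (.leaf (.up 4 1188 [58] 276 [110,0])) (.leaf (.up 5 1543 [58] 276 [57,93,176,171]))) (.node (.leaf (.up 3 3732 [37] 0 [93,90,108])) (.leaf (.up 3 2202 [36] 0 [57,55,210])))) (.node (.node (.leaf (.up 3 589 [37] 0 [56,104,7])) (.leaf (.up 5 2887 [58] 276 [87,110,43,5]))) (.leaf (.up 3 2573 [191] 274 [57,93,91,132])))) (.node (.node (.node (.leaf (.up 3 1078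 [48] 530 [87,110,123,76])) (.leaf (.up 3 85 [32] 0 [93,43,171]))) (.node (.leaf (.up 3 3727 [191] 274 [87,56,89,217])) (.leaf (.up 5 1374 [191] 274 [56,90,72])))) (.node (.node (.leaf (.up 5 1965 [52] 1163 [57,110,91,209])) (.leaf (.up 3 985 [37] 0 [57,93,155,177]))) (.leaf (.up 4 3206 [36] 0 [87,55,89,65])))))))

noncomputable def trio2_1001 : Tr TStep := .node trio2_10010 trio2_10011

noncomputable def trio2_100 : Tr TStep := .node trio2_1000 trio2_1001

noncomputable def trio2_10100 : Tr TStep :=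
  .node (.node (.node (.node (.node (.node (.node (.leaf (.root 4)) (.leaf (.up 4 600 [32] 0 [87,136]))) (.node (.leaf (.up 2 1402 [191] 274 [88,56,91,181])) (.leaf (.up 3 3013 [58] 276 [87,93,43,129])))) (.node (.node (.leaf (.up 4 3432 [58] 276 [88,110,155,59])) (.leaf (.up 4 2121 [32] 0 [57,56,176,149]))) (.node (.leaf (.up 3 1389 [191] 274 [88,93,155,239])) (.leaf (.up 2 1048 [191] 274 [43,23]))))) (.node (.node (.node (.leaf (.up 3 85 [191] 274 [87,94,123,135])) (.leaf (.up 4 397 [58] 276 [87,93,248]))) (.node (.leaf (.up 3 3381 [37] 0 [87,155,120])) (.leaf (.up 3 2173 [48] 530 [87,94,103,159])))) (.node (.node (.leaf (.up 3 1079 [32] 0 [87,93,103,212])) (.leaf (.up 5 1341 [191] 274 [87,56,176,216]))) (.leaf (.up 3 2375 [191] 274 [87,93,90,206]))))) (.node (.node (.node (.node (.leaf (.up 3 593 [28] 0 [88,110,90,144])) (.leaf (.up 3 2937 [191] 274 [88,93,90,3]))) (.node (.leaf (.up 5 3369 [37] 0 [88,93,104])) (.leaf (.up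 4 1620 [35] 0 [87,55,176,118])))) (.node (.node (.leaf (.up 3 944 [36] 0 [57,116,210])) (.leaf (.up 6 1789 [191] 274 [88,55,155,189]))) (.node (.leaf (.up 3 21 [191] 274 [87,94,140,122])) (.leaf (.up 4 3232 [37] 0 [88,55,104,229]))))) (.node (.node (.node (.leaf (.up 4 1394 [58] 276 [87,110,155,208])) (.leaf (.up 4 1454 [32] 0 [88,94,123,217]))) (.node (.leaf (.up 3 2291 [191] 274 [57,55,90,230])) (.leaf (.up 3 2685 [52] 1163 [88,103,198])))) (.node (.node (.leaf (.up 3 3497 [36] 0 [57,94,90,154])) (.leaf (.up 5 674 [48] 530 [57,56,104,124]))) (.leaf (.up 4 2094 [35] 0 [57,93,91,164])))))) (.node (.node (.node (.node (.node (.leaf (.up 4 1910 [36] 0 [57,94,77])) (.leaf (.up 3 18 [191] 274 [87,110,159]))) (.node (.leaf (.up 4 1346 [191] 274 [87,110,89,235])) (.leaf (.up 3 3138 [32] 0 [57,93,42,157])))) (.node (.node (.leaf (.up 4 1252 [32] 0 [89,158])) (.leaf (.up 3 1652 [191] 274 [88,56,43,237]))) (.node (.leaf (.up 4 2818 [32]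 0 [87,94,90,158])) (.leaf (.up 6 3626 [32] 0 [88,55,123,143]))))) (.node (.node (.node (.leaf (.up 4 1332 [191] 274 [56,43,156])) (.leaf (.up 4 1816 [37] 0 [93,91,189]))) (.node (.leaf (.up 4 599 [36] 0 [88,93,103,185])) (.leaf (.up 3 3475 [35] 0 [57,42,95])))) (.node (.node (.leaf (.up 4 1659 [191] 274 [87,90,138])) (.leaf (.up 4 541 [37] 0 [88,93,43,204]))) (.leaf (.up 3 2147 [58] 276 [88,110,90,113]))))) (.node (.node (.node (.node (.leaf (.up 3 300 [191] 274 [57,90,221])) (.leaf (.up 4 2798 [191] 274 [55,91,6]))) (.node (.leaf (.up 1 2 [191] 274 [57,93,103,137])) (.leaf (.up 3 2160 [28] 0 [88,56,103,36])))) (.node (.node (.leaf (.up 2 1463 [36] 0 [88,56,43])) (.leaf (.up 4 974 [28] 0 [88,94,89,237]))) (.node (.leaf (.up 4 2367 [191] 274 [176,241])) (.leaf (.up 3 2984 [32] 0 [88,90,216]))))) (.node (.node (.node (.leaf (.up 4 3166 [58] 276 [87,55,103,122])) (.leaf (.up 4 198 [58] 276 [88,94,123,12]))) (.node (.leaf (.up 4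 1659 [48] 530 [87,94,140,21])) (.leaf (.up 4 2401 [36] 0 [88,131])))) (.node (.node (.leaf (.up 4 1348 [191] 274 [57,110,155,163])) (.leaf (.up 2 2363 [35] 0 [42,46]))) (.leaf (.up 3 1449 [37] 0 [176,186]))))))) (.node (.node (.node (.node (.node (.node (.leaf (.up 4 2226 [36] 0 [110,104,209])) (.leaf (.up 3 1961 [35] 0 [87,55,104,157]))) (.node (.leaf (.up 4 1745 [35] 0 [88,93,201])) (.leaf (.up 3 1208 [37] 0 [88,110,176,218])))) (.node (.node (.leaf (.up 5 1739 [35] 0 [57,56,104,100])) (.leaf (.up 4 1096 [58] 276 [87,55,103,170]))) (.node (.leaf (.up 3 3492 [191] 274 [57,110,140,126])) (.leaf (.up 4 763 [32] 0 [88,110,176,217]))))) (.node (.node (.node (.leaf (.up 5 667 [191] 274 [94,89,5])) (.leaf (.up 3 342 [191] 274 [88,94,140,207]))) (.node (.leaf (.up 2 2327 [58] 276 [57,56,176])) (.leaf (.up 4 2690 [191] 274 [44,147])))) (.node (.node (.leaf (.up 3 3550 [32] 0 [88,93,176,154])) (.leaf (.up 3 709 [32] 0 [57,116,107])))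 (.leaf (.up 3 709 [48] 530 [88,55,44,203]))))) (.node (.node (.node (.node (.leaf (.up 4 97 [191] 274 [87,110,155,170])) (.leaf (.up 4 1833 [52] 1163 [88,56,90,208]))) (.node (.leaf (.up 3 1484 [58] 276 [104,138])) (.leaf (.up 5 3485 [48] 530 [55,176,65])))) (.node (.node (.leaf (.up 3 2441 [32] 0 [88,155,76])) (.leaf (.up 3 710 [32] 0 [57,93,176,31]))) (.node (.leaf (.up 4 2391 [36] 0 [57,55,123,1])) (.leaf (.up 4 2024 [58] 276 [57,55,140,133]))))) (.node (.node (.node (.leaf (.up 1 7 [37] 0 [87,94,104,60])) (.leaf (.up 5 399 [48] 530 [116,137]))) (.node (.leaf (.up 4 298 [32] 0 [87,55,116,131])) (.leaf (.up 3 318 [35] 0 [87,55,155,99])))) (.node (.node (.leaf (.up 3 2277 [58] 276 [87,176,132])) (.leaf (.up 4 3546 [32] 0 [57,55,90,97]))) (.leaf (.up 3 2087 [32] 0 [88,55,25])))))) (.node (.node (.node (.node (.node (.leaf (.up 4 1329 [58] 276 [88,56,44,234])) (.leaf (.up 5 2415 [191] 274 [87,89,111]))) (.node (.leaf (.up 3 2573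 [52] 1163 [87,56,42,9])) (.leaf (.up 4 1305 [58] 276 [93,176,200])))) (.node (.node (.leaf (.up 3 2446 [58] 276 [57,110,89,203])) (.leaf (.up 5 1412 [48] 530 [87,110,43,212]))) (.node (.leaf (.up 3 3044 [28] 0 [87,94,42,205])) (.leaf (.up 4 2648 [52] 1163 [87,91,149]))))) (.node (.node (.node (.leaf (.up 4 1213 [35] 0 [57,155,98])) (.leaf (.up 4 2037 [37] 0 [88,110,103,165]))) (.node (.leaf (.up 3 895 [35] 0 [87,94,42,136])) (.leaf (.up 3 318 [58] 276 [56,104,30])))) (.node (.node (.leaf (.up 5 1719 [58] 276 [87,42,102])) (.leaf (.up 4 3789 [52] 1163 [88,55,170]))) (.leaf (.up 4 1561 [191] 274 [88,94,140,125]))))) (.node (.node (.node (.node (.leaf (.up 4 2067 [48] 530 [93,103,135])) (.leaf (.up 2 248 [35] 0 [87,93,44,33]))) (.node (.leaf (.up 3 2721 [58] 276 [57,93,44,3])) (.leaf (.up 3 3291 [191] 274 [88,56,90,150])))) (.node (.node (.leaf (.up 5 808 [58] 276 [93,176,173])) (.leaf (.up 1 7 [191] 274 [88,93,116,179]))) (.leaf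 (.up 3 2323 [48] 530 [87,104,181])))) (.node (.node (.node (.leaf (.up 4 2884 [191] 274 [57,90,226])) (.leaf (.up 4 971 [191] 274 [93,116,69]))) (.node (.leaf (.up 5 319 [32] 0 [107])) (.leaf (.up 2 2363 [58] 276 [110,91,152])))) (.node (.node (.leaf (.up 4 463 [191] 274 [87,55,91,112])) (.leaf (.up 3 21 [48] 530 [57,56,176,232]))) (.leaf (.up 5 473 [36] 0 [44,98])))))))

noncomputable def trio2_10101 : Tr TStep :=
  .node (.node (.node (.node (.node (.node (.node (.leaf (.up 2 733 [32] 0 [110,91,241])) (.leaf (.up 4 428 [37] 0 [57,56,42,161]))) (.node (.leaf (.up 3 2988 [52] 1163 [57,93,43,204])) (.leaf (.up 5 3096 [36] 0 [87,43,239])))) (.node (.node (.leaf (.up 5 3651 [58] 276 [87,110,91,106])) (.leaf (.up 5 1871 [58] 276 [57,110,89,197]))) (.node (.leaf (.up 3 3557 [48] 530 [87,176,126])) (.leaf (.up 4 740 [191] 274 [57,56,123,175]))))) (.node (.node (.node (.leaf (.up 4 1557 [191] 274 [159])) (.leaf (.up 4 923 [58] 276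 [93,89,95]))) (.node (.leaf (.up 4 2067 [58] 276 [56,42,137])) (.leaf (.up 2 3694 [32] 0 [110,91,3])))) (.node (.node (.leaf (.up 3 813 [35] 0 [110,116,200])) (.leaf (.up 4 3206 [48] 530 [93,116,247]))) (.leaf (.up 4 3663 [191] 274 [110,0]))))) (.node (.node (.node (.node (.leaf (.up 1 1 [32] 0 [87,55,116,130])) (.leaf (.up 4 2912 [191] 274 [94,91,221]))) (.node (.leaf (.up 3 587 [35] 0 [110,42,11])) (.leaf (.up 3 2969 [52] 1163 [87,93,140,144])))) (.node (.node (.leaf (.up 2 522 [37] 0 [87,89,106])) (.leaf (.up 3 2645 [32] 0 [87,103,193]))) (.node (.leaf (.up 4 2853 [35] 0 [55,44,247])) (.leaf (.up 4 1024 [36] 0 [87,91,178]))))) (.node (.node (.node (.leaf (.up 4 2028 [191] 274 [56,44,158])) (.leaf (.up 4 3664 [58] 276 [57,55,104,232]))) (.node (.leaf (.up 2 145 [36] 0 [87,56,91,76])) (.leaf (.up 5 1033 [36] 0 [56,90,159])))) (.node (.node (.leaf (.up 4 140 [48] 530 [94,90,169])) (.leaf (.up 5 3184 [35] 0 [87,94,155,31])))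 (.leaf (.up 4 776 [58] 276 [57,94,104,139])))))) (.node (.node (.node (.node (.node (.leaf (.up 2 3200 [35] 0 [88,56,43,200])) (.leaf (.up 3 1551 [36] 0 [87,89,190]))) (.node (.leaf (.up 3 3138 [48] 530 [88,56,145])) (.leaf (.up 4 751 [58] 276 [140,125])))) (.node (.node (.leaf (.up 3 1649 [58] 276 [94,43,122])) (.leaf (.up 2 3200 [58] 276 [57,55,104,3]))) (.node (.leaf (.up 2 1402 [37] 0 [57,55,44,60])) (.leaf (.up 4 1840 [191] 274 [57,89,92]))))) (.node (.node (.node (.leaf (.up 4 1772 [52] 1163 [57,55,42,107])) (.leaf (.up 4 2263 [191] 274 [57,56,181]))) (.node (.leaf (.up 4 742 [58] 276 [88,110,171])) (.leaf (.up 4 3461 [48] 530 [57,110,90,142])))) (.node (.node (.leaf (.up 4 2750 [32] 0 [57,123,186])) (.leaf (.up 5 1023 [58] 276 [88,176,132]))) (.leaf (.up 3 1281 [32] 0 [88,44,159]))))) (.node (.node (.node (.node (.leaf (.up 2 1487 [52] 1163 [55,90,173])) (.leaf (.up 1 7 [32] 0 [94,90,246]))) (.node (.leaf (.up 3 1845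 [37] 0 [87,94,89,129])) (.leaf (.up 3 1838 [191] 274 [94,90,177])))) (.node (.node (.leaf (.up 5 1819 [191] 274 [87,110,43,190])) (.leaf (.up 3 3676 [52] 1163 [116,201]))) (.leaf (.up 4 3429 [36] 0 [88,94,116,172])))) (.node (.node (.node (.leaf (.up 4 686 [191] 274 [57,116,191])) (.leaf (.up 5 1497 [32] 0 [88,55,123,0]))) (.node (.leaf (.up 5 3575 [58] 276 [87,110,42,27])) (.leaf (.up 2 1420 [36] 0 [88,42,59])))) (.node (.node (.leaf (.up 4 3538 [58] 276 [57,110,155,5])) (.leaf (.up 3 1090 [32] 0 [88,110,155,9]))) (.leaf (.up 4 2643 [191] 274 [57,56,42,46]))))))) (.node (.node (.node (.node (.node (.node (.leaf (.up 4 2564 [36] 0 [56,140])) (.leaf (.up 4 355 [37] 0 [94,43,138]))) (.node (.leaf (.up 4 181 [36] 0 [88,94,91,136])) (.leaf (.up 4 3012 [36] 0 [93,44,190])))) (.node (.node (.leaf (.up 4 595 [48] 530 [57,93,42,37])) (.leaf (.up 3 1845 [52] 1163 [87,110,116,59]))) (.node (.leaf (.up 3 1407 [191] 274 [87,56,140,198]))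 (.leaf (.up 4 1327 [36] 0 [87,110,103,196]))))) (.node (.node (.node (.leaf (.up 3 3079 [58] 276 [57,55,104,198])) (.leaf (.up 5 3184 [37] 0 [140,189]))) (.node (.leaf (.up 4 3244 [48] 530 [87,123,214])) (.leaf (.up 2 1662 [52] 1163 [87,55,89,96])))) (.node (.node (.leaf (.up 2 1163 [32] 0 [57,56,123,99])) (.leaf (.up 4 847 [52] 1163 [43,37]))) (.leaf (.up 2 149 [32] 0 [110,44,185]))))) (.node (.node (.node (.node (.leaf (.up 3 1281 [58] 276 [88,94,104,134])) (.leaf (.up 5 1115 [35] 0 [55,43,209]))) (.node (.leaf (.up 6 3626 [35] 0 [56,176,233])) (.leaf (.up 4 3750 [32] 0 [88,155,229])))) (.node (.node (.leaf (.up 4 3149 [32] 0 [57,94,91,138])) (.leaf (.up 4 1573 [37] 0 [87,123,149]))) (.node (.leaf (.up 3 1013 [36] 0 [57,93,89,117])) (.leaf (.up 3 497 [48] 530 [87,110,44,237]))))) (.node (.node (.node (.leaf (.up 3 1514 [52] 1163 [55,43,122])) (.leaf (.up 4 1783 [32] 0 [87,43,37]))) (.node (.leaf (.up 4 2843 [48] 530 [104,216]))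 (.leaf (.up 3 2215 [37] 0 [88,55,116,61])))) (.node (.node (.leaf (.up 5 703 [35] 0 [87,110,155,190])) (.leaf (.up 4 13 [58] 276 [55,103,115]))) (.leaf (.up 2 1402 [58] 276 [87,94,89,225])))))) (.node (.node (.node (.node (.node (.leaf (.up 3 1514 [58] 276 [87,94,123,167])) (.leaf (.up 4 1796 [191] 274 [57,94,155,65]))) (.node (.leaf (.up 5 1091 [191] 274 [57,44,113])) (.leaf (.up 4 1143 [28] 0 [88,110,155,225])))) (.node (.node (.leaf (.up 2 3 [191] 274 [110,43,143])) (.leaf (.up 4 543 [48] 530 [57,56,140,193]))) (.node (.leaf (.up 5 376 [48] 530 [87,218])) (.leaf (.up 3 1470 [58] 276 [104,171]))))) (.node (.node (.node (.leaf (.up 3 2160 [36] 0 [57,55,91,247])) (.leaf (.up 3 2543 [191] 274 [88,94,42,112]))) (.node (.leaf (.up 3 2870 [58] 276 [87,56,104,154])) (.leaf (.up 3 795 [58] 276 [123,159])))) (.node (.node (.leaf (.up 4 2736 [58] 276 [87,55,42,230])) (.leaf (.up 3 176 [37] 0 [176,203]))) (.leaf (.up 3 1090 [48] 530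 [88,94,44,128]))))) (.node (.node (.node (.node (.leaf (.up 4 484 [36] 0 [57,93,123,241])) (.leaf (.up 4 3338 [48] 530 [88,123,216]))) (.node (.leaf (.up 2 1603 [28] 0 [88,56,37])) (.leaf (.up 4 3245 [191] 274 [87,56,44,141])))) (.node (.node (.leaf (.up 4 2806 [58] 276 [87,110,155,216])) (.leaf (.up 4 1882 [36] 0 [57,110,103,18]))) (.leaf (.up 3 268 [36] 0 [57,93,155,120])))) (.node (.node (.node (.leaf (.up 3 3732 [36] 0 [57,55,104,100])) (.leaf (.up 4 1320 [36] 0 [57,56,176,198]))) (.node (.leaf (.up 1 7 [36] 0 [94,155,199])) (.leaf (.up 4 237 [191] 274 [57,94,91,191])))) (.node (.node (.leaf (.up 2 3590 [191] 274 [56,116,119])) (.leaf (.up 4 275 [52] 1163 [56,140,72]))) (.leaf (.up 3 2250 [32] 0 [87,56,103,207])))))))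

noncomputable def trio2_1010 : Tr TStep := .node trio2_10100 trio2_10101

noncomputable def trio2_10110 : Tr TStep :=
  .node (.node (.node (.node (.node (.node (.node (.leaf (.up 3 2150 [37] 0 [56,140,231])) (.leaf (.up 3 587 [32] 0 [93,89,36]))) (.node (.leaf (.up 3 2250 [48] 530 [57,56,89,177])) (.leaf (.up 3 2191 [48] 530 [94,116,8])))) (.node (.node (.leaf (.up 3 2105 [48] 530 [110,103,142])) (.leaf (.up 2 3200 [191] 274 [88,94,90,153]))) (.node (.leaf (.up 3 3715 [191] 274 [87,94,90,142])) (.leaf (.up 4 2040 [32] 0 [88,56,123,33]))))) (.node (.node (.node (.leaf (.up 3 2323 [28] 0 [57,44,166])) (.leaf (.up 4 534 [58] 276 [88,140,0]))) (.node (.leaf (.up 4 716 [191] 274 [88,94,44,121])) (.leaf (.up 5 2382 [36] 0 [56,43,223])))) (.node (.node (.leaf (.up 4 754 [32] 0 [87,110,155,182])) (.leaf (.up 3 3446 [35] 0 [57,89,11]))) (.leaf (.up 5 3369 [58] 276 [57,110,140,187]))))) (.node (.node (.node (.node (.leaf (.up 5 1613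 [191] 274 [57,90,182])) (.leaf (.up 4 2907 [191] 274 [110,103,239]))) (.node (.leaf (.up 3 622 [32] 0 [56,104,183])) (.leaf (.up 4 3438 [37] 0 [57,56,72])))) (.node (.node (.leaf (.up 3 3008 [52] 1163 [55,91,136])) (.leaf (.up 4 3232 [58] 276 [88,110,140,233]))) (.node (.leaf (.up 4 518 [35] 0 [88,56,140,209])) (.leaf (.up 3 3160 [35] 0 [110,91,230]))))) (.node (.node (.node (.leaf (.up 3 9 [191] 274 [55,44,119])) (.leaf (.up 5 1426 [191] 274 [57,94,44,130]))) (.node (.leaf (.up 3 3475 [36] 0 [88,90,212])) (.leaf (.up 5 2898 [191] 274 [88,110,176,244])))) (.node (.node (.leaf (.up 5 3036 [58] 276 [93,155])) (.leaf (.up 4 1757 [32] 0 [88,110,71]))) (.leaf (.up 3 813 [36] 0 [116,12])))))) (.node (.node (.node (.node (.node (.leaf (.up 3 1934 [48] 530 [110,123,230])) (.leaf (.up 5 61 [52] 1163 [87,94,140,218]))) (.node (.leaf (.up 4 2771 [52] 1163 [55,44,147])) (.leaf (.up 3 2645 [58] 276 [87,90,139])))) (.node (.node (.leaf (.up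 2 1218 [58] 276 [87,56,123,230])) (.leaf (.up 4 1757 [48] 530 [88,110,176,244]))) (.node (.leaf (.up 4 3137 [32] 0 [88,93,114])) (.leaf (.up 4 2183 [191] 274 [57,55,103,171]))))) (.node (.node (.node (.leaf (.up 1 0 [58] 276 [57,110,44,181])) (.leaf (.up 2 3468 [35] 0 [88,110,104,214]))) (.node (.leaf (.up 4 2427 [58] 276 [55,43,179])) (.leaf (.up 5 78 [58] 276 [176,36])))) (.node (.node (.leaf (.up 3 2140 [52] 1163 [87,110,44,111])) (.leaf (.up 4 3792 [191] 274 [87,93,103,35]))) (.leaf (.up 5 3084 [35] 0 [88,93,90,99]))))) (.node (.node (.node (.node (.leaf (.up 3 2446 [36] 0 [94,155,143])) (.leaf (.up 2 733 [36] 0 [56,89,209]))) (.node (.leaf (.up 4 541 [35] 0 [88,94,103,144])) (.leaf (.up 3 2984 [58] 276 [57,93,176,207])))) (.node (.node (.leaf (.up 5 289 [36] 0 [57,56,91,197])) (.leaf (.up 4 640 [37] 0 [93,176,243]))) (.node (.leaf (.up 4 57 [191] 274 [57,104,206])) (.leaf (.up 3 3475 [191] 274 [57,56,42,2]))))) (.node (.node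 (.node (.leaf (.up 3 1514 [36] 0 [57,94,89,5])) (.leaf (.up 3 1470 [36] 0 [88,55,89,161]))) (.node (.leaf (.up 5 1038 [58] 276 [57,110,155,34])) (.leaf (.up 1 16 [191] 274 [104,244])))) (.node (.node (.leaf (.up 5 128 [58] 276 [87,55,104,234])) (.leaf (.up 4 2499 [52] 1163 [88,110,89,69]))) (.leaf (.up 2 149 [58] 276 [110,90,124]))))))) (.node (.node (.node (.node (.node (.node (.leaf (.up 4 1187 [58] 276 [87,56,123,208])) (.leaf (.up 4 1745 [58] 276 [57,110,116,192]))) (.node (.leaf (.up 4 970 [32] 0 [88,155,97])) (.leaf (.up 2 149 [191] 274 [88,93,103,132])))) (.node (.node (.leaf (.up 5 2042 [191] 274 [87,56,89,194])) (.leaf (.up 4 2572 [28] 0 [110,91,20]))) (.node (.leaf (.up 4 3481 [48] 530 [88,93,116,113])) (.leaf (.up 3 3715 [58] 276 [55,123,158]))))) (.node (.node (.node (.leaf (.up 4 1851 [32] 0 [88,93,43,10])) (.leaf (.up 5 1083 [32] 0 [88,56,100]))) (.node (.leaf (.up 4 328 [58] 276 [57,110,104,220])) (.leaf (.up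 4 524 [35] 0 [57,56,44])))) (.node (.node (.leaf (.up 2 149 [28] 0 [88,93,43,106])) (.leaf (.up 4 241 [36] 0 [87,110,90,92]))) (.leaf (.up 4 2932 [52] 1163 [110,43,204]))))) (.node (.node (.node (.node (.leaf (.up 2 1163 [36] 0 [88,110,176,196])) (.leaf (.up 3 1556 [28] 0 [110,90,3]))) (.node (.leaf (.up 2 1420 [52] 1163 [57,93,103,163])) (.leaf (.up 3 1317 [37] 0 [57,94,91,178])))) (.node (.node (.leaf (.up 3 1449 [191] 274 [88,94,123,197])) (.leaf (.up 3 2412 [36] 0 [94,42,109]))) (.node (.leaf (.up 3 3552 [52] 1163 [57,44,117])) (.leaf (.up 3 265 [48] 530 [57,110,91,202]))))) (.node (.node (.node (.leaf (.up 2 3590 [36] 0 [57,93,42,184])) (.leaf (.up 4 628 [58] 276 [94,116,165]))) (.node (.leaf (.up 4 2226 [191] 274 [57,55,155,148])) (.leaf (.up 3 3671 [48] 530 [57,116])))) (.node (.node (.leaf (.up 3 1657 [36] 0 [88,56,123,178])) (.leaf (.up 4 499 [35] 0 [57,125]))) (.leaf (.up 4 170 [58] 276 [88,93,176,161])))))) (.node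 (.node (.node (.node (.node (.leaf (.up 5 1472 [58] 276 [88,56,176,100])) (.leaf (.up 3 3574 [36] 0 [93,103,46]))) (.node (.leaf (.up 4 707 [191] 274 [56,44,203])) (.leaf (.up 4 828 [37] 0 [55,89,209])))) (.node (.node (.leaf (.up 2 3590 [58] 276 [56,44,163])) (.leaf (.up 4 197 [32] 0 [57,55,123,71]))) (.node (.leaf (.up 5 1050 [58] 276 [88,56,104,153])) (.leaf (.up 3 479 [191] 274 [88,94,123,180]))))) (.node (.node (.node (.leaf (.up 4 640 [48] 530 [87,56,103])) (.leaf (.up 3 1383 [37] 0 [110,42,92]))) (.node (.leaf (.up 2 737 [58] 276 [110,89,115])) (.leaf (.up 4 1143 [52] 1163 [87,55,123,31])))) (.node (.node (.leaf (.up 3 961 [37] 0 [55,123,15])) (.leaf (.up 4 2621 [191] 274 [87,55,90,154]))) (.leaf (.up 4 172 [35] 0 [87,55,104,141]))))) (.node (.node (.node (.node (.leaf (.up 3 1364 [191] 274 [57,110,44,25])) (.leaf (.up 3 189 [52] 1163 [57,56,123,170]))) (.node (.leaf (.up 4 3782 [35] 0 [57,123,153])) (.leaf (.up 2 3200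 [52] 1163 [94,123,141])))) (.node (.node (.leaf (.up 3 1005 [58] 276 [110,155,148])) (.leaf (.up 4 3493 [32] 0 [88,90,114]))) (.leaf (.up 4 377 [52] 1163 [88,94,97])))) (.node (.node (.node (.leaf (.up 3 2828 [36] 0 [87,55,116,16])) (.leaf (.up 4 3257 [191] 274 [88,94,123,146]))) (.node (.leaf (.up 3 3150 [37] 0 [88,93,90,208])) (.leaf (.up 3 2988 [32] 0 [57,91,175])))) (.node (.node (.leaf (.up 2 1402 [48] 530 [57,140,115])) (.leaf (.up 4 2231 [191] 274 [88,93,123,9]))) (.leaf (.up 4 1264 [52] 1163 [110,140,65])))))))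

noncomputable def trio2_10111 : Tr TStep :=
  .node (.node (.node (.node (.node (.node (.node (.leaf (.up 3 3291 [28] 0 [93,116,2])) (.leaf (.up 4 2178 [191] 274 [57,55,42,237]))) (.node (.leaf (.up 3 1029 [36] 0 [94,42,6])) (.leaf (.up 2 1048 [32] 0 [57,94,90,65])))) (.node (.node (.leaf (.up 3 1866 [191] 274 [110,140,243])) (.leaf (.up 3 622 [28] 0 [94,90,156]))) (.node (.leaf (.up 3 2308 [191] 274 [87,55,89,217])) (.leaf (.up 5 1663 [32] 0 [88,89,211]))))) (.node (.node (.node (.leaf (.up 3 2828 [37] 0 [87,44,131])) (.leaf (.up 3 1149 [35] 0 [87,55,140,111]))) (.node (.leaf (.up 5 3195 [191] 274 [94,122])) (.leaf (.up 5 1453 [58] 276 [87,55,123,121])))) (.node (.node (.leaf (.up 4 3708 [191] 274 [88,94,117])) (.leaf (.up 3 189 [36] 0 [88,110,140,139]))) (.leaf (.up 5 1634 [191] 274 [87,110,42]))))) (.node (.node (.node (.node (.leaf (.up 3 1271 [35] 0 [57,55,123,119])) (.leaf (.up 4 2714 [191] 274 [176,97]))) (.node (.leaf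 (.up 1 2 [58] 276 [94,89,31])) (.leaf (.up 4 2410 [36] 0 [57,44,160])))) (.node (.node (.leaf (.up 3 3557 [36] 0 [88,55,91,101])) (.leaf (.up 3 1186 [35] 0 [87,116,69]))) (.node (.leaf (.up 5 2730 [35] 0 [94,89,65])) (.leaf (.up 4 261 [37] 0 [56,42,168]))))) (.node (.node (.node (.leaf (.up 5 376 [37] 0 [88,55,89,111])) (.leaf (.up 4 392 [58] 276 [88,56,44,165]))) (.node (.leaf (.up 3 3742 [36] 0 [87,93,123,156])) (.leaf (.up 4 3697 [35] 0 [56,44,107])))) (.node (.node (.leaf (.up 2 1525 [32] 0 [87,93,43,37])) (.leaf (.up 5 3022 [48] 530 [87,56,89,96]))) (.leaf (.up 3 1269 [52] 1163 [110,135])))))) (.node (.node (.node (.node (.node (.leaf (.up 3 2412 [48] 530 [88,140,216])) (.leaf (.up 3 1947 [48] 530 [87,93,176,202]))) (.node (.leaf (.up 3 1269 [36] 0 [110,89,179])) (.leaf (.up 4 653 [191] 274 [55,196])))) (.node (.node (.leaf (.up 4 1053 [37] 0 [87,56,104,152])) (.leaf (.up 5 3103 [58] 276 [57,94,44,197]))) (.node (.leaf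 (.up 4 3172 [191] 274 [88,56,103,157])) (.leaf (.up 4 3782 [37] 0 [56,155,143]))))) (.node (.node (.node (.leaf (.up 2 2388 [32] 0 [87,55,42,234])) (.leaf (.up 4 2740 [32] 0 [88,110,104,238]))) (.node (.leaf (.up 3 2177 [37] 0 [87,55,123,165])) (.leaf (.up 4 2036 [52] 1163 [88,110,155,214])))) (.node (.node (.leaf (.up 3 1649 [48] 530 [88,110,140,239])) (.leaf (.up 3 2756 [58] 276 [88,55,43,25]))) (.leaf (.up 3 9 [48] 530 [87,94,43,190]))))) (.node (.node (.node (.node (.leaf (.up 3 3742 [32] 0 [88,94,125])) (.leaf (.up 2 1603 [58] 276 [88,93,43,20]))) (.node (.leaf (.up 2 654 [52] 1163 [88,55,42,238])) (.leaf (.up 4 1668 [58] 276 [88,93,42,203])))) (.node (.node (.leaf (.up 1 7 [28] 0 [57,56,90,31])) (.leaf (.up 3 1977 [191] 274 [56,43,227]))) (.leaf (.up 3 690 [191] 274 [55,116,236])))) (.node (.node (.node (.leaf (.up 2 3201 [37] 0 [88,89,159])) (.leaf (.up 4 181 [58] 276 [87,110,123,145]))) (.node (.leaf (.up 5 2259 [32]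 0 [57,110,176,33])) (.leaf (.up 5 3486 [37] 0 [57,237])))) (.node (.node (.leaf (.up 4 3534 [35] 0 [57,55,116,33])) (.leaf (.up 2 1463 [48] 530 [90,34]))) (.leaf (.up 3 3586 [32] 0 [88,93,161]))))))) (.node (.node (.node (.node (.node (.node (.leaf (.up 4 2067 [36] 0 [57,104,147])) (.leaf (.up 3 3128 [36] 0 [88,155,25]))) (.node (.leaf (.up 5 3022 [28] 0 [87,56,104,133])) (.leaf (.up 4 2161 [191] 274 [87,93,140,179])))) (.node (.node (.leaf (.up 3 3497 [48] 530 [87,94,176,127])) (.leaf (.up 3 2147 [48] 530 [93,43,8]))) (.node (.leaf (.up 4 162 [58] 276 [57,110,155,206])) (.leaf (.up 4 1566 [37] 0 [55,90,131]))))) (.node (.node (.node (.leaf (.up 3 661 [35] 0 [87,155,197])) (.leaf (.up 4 1346 [52] 1163 [87,93,103,4]))) (.node (.leaf (.up 4 3127 [48] 530 [57,55,103,191])) (.leaf (.up 3 3303 [58] 276 [55,155,160])))) (.node (.node (.leaf (.up 4 3400 [37] 0 [88,176,201])) (.leaf (.up 3 3309 [48] 530 [87,110,104,200]))) (.leaf (.up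 3 2515 [36] 0 [87,55,91,207]))))) (.node (.node (.node (.node (.leaf (.up 2 1487 [191] 274 [87,103,153])) (.leaf (.up 4 484 [48] 530 [93,123,113]))) (.node (.leaf (.up 3 3398 [191] 274 [87,176,97])) (.leaf (.up 5 502 [35] 0 [57,110,116,29])))) (.node (.node (.leaf (.up 4 3478 [36] 0 [57,94,90,120])) (.leaf (.up 5 841 [191] 274 [90,244]))) (.node (.leaf (.up 5 3710 [36] 0 [110,140,202])) (.leaf (.up 2 2261 [58] 276 [88,155,217]))))) (.node (.node (.node (.leaf (.up 4 1541 [48] 530 [88,43,184])) (.leaf (.up 4 140 [32] 0 [87,110,89,188]))) (.node (.leaf (.up 4 51 [191] 274 [110,91,160])) (.leaf (.up 5 3371 [58] 276 [110,176,243])))) (.node (.node (.leaf (.up 4 98 [58] 276 [88,56,42,192])) (.leaf (.up 4 1637 [191] 274 [57,56,89,223]))) (.leaf (.up 4 1898 [58] 276 [110,140,187])))))) (.node (.node (.node (.node (.node (.leaf (.up 4 2959 [191] 274 [93,140,73])) (.leaf (.up 2 250 [37] 0 [88,94,155,126]))) (.node (.leaf (.up 2 3559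 [191] 274 [87,93,103,132])) (.leaf (.up 4 3351 [32] 0 [94,103,182])))) (.node (.node (.leaf (.up 3 429 [36] 0 [87,110,44,146])) (.leaf (.up 2 1402 [32] 0 [56,44,153]))) (.node (.leaf (.up 4 890 [191] 274 [87,55,91,219])) (.leaf (.up 3 1179 [58] 276 [57,110,90,4]))))) (.node (.node (.node (.leaf (.up 1 5 [58] 276 [57,110,44,210])) (.leaf (.up 3 2044 [36] 0 [57,104,223]))) (.node (.leaf (.up 4 1113 [48] 530 [87,56,90,34])) (.leaf (.up 3 1484 [32] 0 [88,176,95])))) (.node (.node (.leaf (.up 4 827 [52] 1163 [88,91,175])) (.leaf (.up 3 3008 [58] 276 [57,144]))) (.leaf (.up 3 342 [36] 0 [88,94,90,23]))))) (.node (.node (.node (.node (.leaf (.up 4 2572 [191] 274 [88,176,109])) (.leaf (.up 4 847 [28] 0 [57,55,90,5]))) (.node (.leaf (.up 5 2899 [191] 274 [88,93,116,200])) (.leaf (.up 4 3122 [32] 0 [88,110,155,192])))) (.node (.node (.leaf (.up 3 3276 [35] 0 [110,44,120])) (.leaf (.up 4 2221 [191] 274 [88,55,103,106]))) (.leaf (.up 5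 2615 [58] 276 [94,103,5])))) (.node (.node (.node (.leaf (.up 5 1453 [36] 0 [88,93,103,184])) (.leaf (.up 5 3040 [191] 274 [110,140,211]))) (.node (.leaf (.up 5 3637 [58] 276 [87,110,116,74])) (.leaf (.up 4 3285 [37] 0 [57,56,44,122])))) (.node (.node (.leaf (.up 5 3372 [48] 530 [88,93,44,136])) (.leaf (.up 4 822 [191] 274 [87,110,42,240]))) (.leaf (.up 5 2571 [32] 0 [110,116,126])))))))

noncomputable def trio2_1011 : Tr TStep := .node trio2_10110 trio2_10111

noncomputable def trio2_101 : Tr TStep := .node trio2_1010 trio2_1011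

noncomputable def trio2_10 : Tr TStep := .node trio2_100 trio2_101

noncomputable def trio2_11000 : Tr TStep :=
  .node (.node (.node (.node (.node (.node (.node (.leaf (.up 1 0 [32] 0 [90,77])) (.leaf (.up 3 1695 [48] 530 [87,55,90,161]))) (.node (.leaf (.up 4 3012 [35] 0 [93,89,105])) (.leaf (.up 4 3546 [36] 0 [88,93,89,11])))) (.node (.node (.leaf (.up 3 3284 [35] 0 [57,110,123,198])) (.leaf (.up 4 1766 [58] 276 [123,136]))) (.node (.leaf (.up 4 1625 [35] 0 [88,56,44,245])) (.leaf (.up 4 2017 [36] 0 [57,56,116,201]))))) (.node (.node (.node (.leaf (.up 3 878 [35] 0 [88,56,44,182])) (.leaf (.up 4 1279 [48] 530 [88,110,140,75]))) (.node (.leaf (.up 6 3174 [191] 274 [57,55,205])) (.leaf (.up 4 2998 [58] 276 [87,55,91,235])))) (.node (.node (.leaf (.up 4 1823 [52] 1163 [88,110,44,200])) (.leaf (.up 4 2292 [37] 0 [94,104,237]))) (.leaf (.up 4 2037 [52] 1163 [57,110,116,214]))))) (.node (.node (.node (.node (.leaf (.up 3 3615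 [32] 0 [87,94,42,165])) (.leaf (.up 4 1708 [48] 530 [93,140,109]))) (.node (.leaf (.up 2 1705 [32] 0 [88,123,27])) (.leaf (.up 4 3010 [58] 276 [88,110,43,105])))) (.node (.node (.leaf (.up 4 1105 [28] 0 [88,55,43,72])) (.leaf (.up 4 789 [32] 0 [57,55,108]))) (.node (.leaf (.up 4 3305 [37] 0 [110,42,9])) (.leaf (.up 2 1221 [48] 530 [87,55,173]))))) (.node (.node (.node (.leaf (.up 4 763 [191] 274 [57,94,176,73])) (.leaf (.up 4 2635 [191] 274 [88,93,42,98]))) (.node (.leaf (.up 2 2388 [48] 530 [88,56,140,190])) (.leaf (.up 3 268 [52] 1163 [87,110,89,182])))) (.node (.node (.leaf (.up 4 1246 [191] 274 [91,76])) (.leaf (.up 2 15 [52] 1163 [57,123,183]))) (.leaf (.up 5 2092 [32] 0 [56,89,106])))))) (.node (.node (.node (.node (.node (.leaf (.up 3 1013 [191] 274 [57,56,43,193])) (.leaf (.up 4 2675 [36] 0 [57,155,186]))) (.node (.leaf (.up 4 2341 [58] 276 [110,176,27])) (.leaf (.up 3 3391 [36] 0 [57,176,21])))) (.node (.node (.leaf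 (.up 3 495 [32] 0 [87,94,123,71])) (.leaf (.up 3 3303 [48] 530 [87,116,234]))) (.node (.leaf (.up 1 4 [58] 276 [87,110,44,238])) (.leaf (.up 4 1709 [191] 274 [235]))))) (.node (.node (.node (.leaf (.up 2 1487 [35] 0 [88,55,123,21])) (.leaf (.up 4 3045 [191] 274 [88,94,103,167]))) (.node (.leaf (.up 4 827 [58] 276 [87,93,91,239])) (.leaf (.up 5 438 [32] 0 [87,56,44,132])))) (.node (.node (.leaf (.up 4 2718 [52] 1163 [110,90,77])) (.leaf (.up 4 637 [191] 274 [55,103,74]))) (.leaf (.up 3 3560 [48] 530 [93,42,107]))))) (.node (.node (.node (.node (.leaf (.up 4 678 [32] 0 [57,110,123,200])) (.leaf (.up 5 2730 [48] 530 [55,176,207]))) (.node (.leaf (.up 5 2917 [58] 276 [88,56,176,124])) (.leaf (.up 3 813 [52] 1163 [56,123,102])))) (.node (.node (.leaf (.up 3 1551 [191] 274 [94,91,36])) (.leaf (.up 3 265 [52] 1163 [57,55,89,153]))) (.node (.leaf (.up 3 497 [36] 0 [88,55,91,193])) (.leaf (.up 3 3636 [48] 530 [57,94,116,248]))))) (.node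 (.node (.node (.leaf (.up 4 2843 [35] 0 [57,110,90,180])) (.leaf (.up 3 3454 [191] 274 [87,94,89,192]))) (.node (.leaf (.up 4 2874 [37] 0 [88,56,91,225])) (.leaf (.up 5 3133 [58] 276 [87,56,89,117])))) (.node (.node (.leaf (.up 3 323 [191] 274 [88,55,104,114])) (.leaf (.up 4 3211 [52] 1163 [110,42,197]))) (.leaf (.up 4 1972 [36] 0 [88,55,123,124]))))))) (.node (.node (.node (.node (.node (.node (.leaf (.up 4 1260 [35] 0 [88,56,176,11])) (.leaf (.up 5 3273 [48] 530 [88,110,44,179]))) (.node (.leaf (.up 5 730 [48] 530 [55,91,191])) (.leaf (.up 4 1400 [37] 0 [57,94,44,221])))) (.node (.node (.leaf (.up 3 2515 [58] 276 [57,110,89,164])) (.leaf (.up 4 963 [37] 0 [55,103,37]))) (.node (.leaf (.up 4 1203 [32] 0 [88,55,123,11])) (.leaf (.up 4 763 [48] 530 [88,93,90,75]))))) (.node (.node (.node (.leaf (.up 5 552 [28] 0 [88,56,104,190])) (.leaf (.up 4 270 [191] 274 [57,56,140,200]))) (.node (.leaf (.up 5 2694 [191] 274 [87,93,103,131]))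 (.leaf (.up 5 359 [32] 0 [93,89,75])))) (.node (.node (.leaf (.up 3 1366 [58] 276 [88,56,155,233])) (.leaf (.up 3 144 [52] 1163 [87,94,44,156]))) (.leaf (.up 5 715 [36] 0 [94,43,229]))))) (.node (.node (.node (.node (.leaf (.up 4 2135 [191] 274 [57,55,90,143])) (.leaf (.up 5 2187 [36] 0 [57,55,140,154]))) (.node (.leaf (.up 3 1947 [52] 1163 [55,89,127])) (.leaf (.up 5 3528 [191] 274 [57,56,155,245])))) (.node (.node (.leaf (.up 4 2644 [191] 274 [87,55,103,146])) (.leaf (.up 4 1753 [36] 0 [57,94,44,77]))) (.node (.leaf (.up 4 3338 [58] 276 [87,56,123,127])) (.leaf (.up 5 1481 [191] 274 [57,56,210]))))) (.node (.node (.node (.leaf (.up 3 2767 [58] 276 [57,56,103,27])) (.leaf (.up 3 3788 [37] 0 [116,205]))) (.node (.leaf (.up 3 2381 [48] 530 [94,91,204])) (.leaf (.up 5 496 [52] 1163 [88,94,116,229])))) (.node (.node (.leaf (.up 4 270 [37] 0 [55,116,190])) (.leaf (.up 4 1375 [191] 274 [57,94,44,174]))) (.leaf (.up 3 3689 [52] 1163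 [56,44,60])))))) (.node (.node (.node (.node (.node (.leaf (.up 4 518 [36] 0 [15])) (.leaf (.up 2 250 [52] 1163 [88,110,90,193]))) (.node (.leaf (.up 5 3558 [191] 274 [110,44,2])) (.leaf (.up 3 3117 [52] 1163 [57,56,90,215])))) (.node (.node (.leaf (.up 6 3176 [191] 274 [88,110,90,22])) (.leaf (.up 3 342 [58] 276 [57,55,43,1]))) (.node (.leaf (.up 3 813 [37] 0 [55,140,36])) (.leaf (.up 4 316 [191] 274 [57,93,91,177]))))) (.node (.node (.node (.leaf (.up 3 622 [191] 274 [88,93,116,34])) (.leaf (.up 4 868 [58] 276 [57,56,116,142]))) (.node (.leaf (.up 4 3521 [58] 276 [88,94,104,130])) (.leaf (.up 5 1175 [191] 274 [94,90,120])))) (.node (.node (.leaf (.up 3 1005 [36] 0 [87,55,90,182])) (.leaf (.up 4 903 [35] 0 [93,104,97]))) (.leaf (.up 4 3496 [58] 276 [87,93,89,160]))))) (.node (.node (.node (.node (.leaf (.up 4 2319 [32] 0 [87,147])) (.leaf (.up 4 2553 [28] 0 [57,56,155,35]))) (.node (.leaf (.up 5 464 [36] 0 [88,94,90,134]))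 (.leaf (.up 5 2981 [191] 274 [55,43,196])))) (.node (.node (.leaf (.up 4 857 [191] 274 [93,44,141])) (.leaf (.up 3 3707 [28] 0 [57,110,103,22]))) (.leaf (.up 5 785 [191] 274 [87,94,90,188])))) (.node (.node (.node (.leaf (.up 4 650 [32] 0 [94,103,245])) (.leaf (.up 4 3227 [58] 276 [87,89,219]))) (.node (.leaf (.up 3 268 [191] 274 [57,56,219])) (.leaf (.up 3 406 [52] 1163 [94,176,245])))) (.node (.node (.leaf (.up 3 593 [36] 0 [87,116,126])) (.leaf (.up 4 2372 [35] 0 [57,55,43,159]))) (.leaf (.up 5 3494 [191] 274 [57,91,163])))))))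

noncomputable def trio2_11001 : Tr TStep :=
  .node (.node (.node (.node (.node (.node (.node (.leaf (.up 5 91 [191] 274 [57,55,42,206])) (.leaf (.up 3 1029 [32] 0 [88,94,43,220]))) (.node (.leaf (.up 4 2718 [37] 0 [87,55,91,224])) (.leaf (.up 4 3403 [35] 0 [57,94,89,106])))) (.node (.node (.leaf (.up 3 1364 [58] 276 [87,93,44,223])) (.leaf (.up 3 3037 [35] 0 [57,55,116,59]))) (.node (.leaf (.up 3 1850 [32] 0 [88,55,103,151])) (.leaf (.up 4 644 [37] 0 [87,55,37]))))) (.node (.node (.node (.leaf (.up 3 1247 [32] 0 [88,55,123,134])) (.leaf (.up 2 3468 [58] 276 [57,110,90,191]))) (.node (.leaf (.up 4 31 [52] 1163 [87,93,91,240])) (.leaf (.up 5 517 [191] 274 [57,56,44,218])))) (.node (.node (.leaf (.up 4 706 [58] 276 [88,56,123,122])) (.leaf (.up 4 331 [32] 0 [110,103,149]))) (.leaf (.up 3 21 [37] 0 [88,94,43,77]))))) (.node (.node (.node (.node (.leaf (.up 4 1143 [35] 0 [57,94,176,113])) (.leaf (.up 4 1088 [37] 0 [57,110,104,159])))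 (.node (.leaf (.up 4 578 [58] 276 [87,110,101])) (.leaf (.up 5 229 [36] 0 [88,94,90,242])))) (.node (.node (.leaf (.up 4 1761 [48] 530 [87,55,42,157])) (.leaf (.up 4 154 [58] 276 [110,43,198]))) (.node (.leaf (.up 4 241 [35] 0 [56,176,207])) (.leaf (.up 4 1136 [35] 0 [87,56,91,200]))))) (.node (.node (.node (.leaf (.up 4 1765 [191] 274 [88,93,116,122])) (.leaf (.up 1 7 [35] 0 [87,55,44,222]))) (.node (.leaf (.up 4 1796 [37] 0 [57,42,187])) (.leaf (.up 2 756 [32] 0 [90,229])))) (.node (.node (.leaf (.up 3 878 [58] 276 [57,55,44,23])) (.leaf (.up 5 2448 [191] 274 [94,42,128]))) (.leaf (.up 4 2629 [191] 274 [88,43,21])))))) (.node (.node (.node (.node (.node (.leaf (.up 4 344 [191] 274 [87,93,43,225])) (.leaf (.up 3 2323 [52] 1163 [88,56,155,225]))) (.node (.leaf (.up 5 3090 [32] 0 [57,56,103,185])) (.leaf (.up 4 1507 [52] 1163 [87,94,104,215])))) (.node (.node (.leaf (.up 3 318 [32] 0 [57,91,136])) (.leaf (.up 3 3560 [36] 0 [88,93,109])))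 (.node (.leaf (.up 4 2315 [52] 1163 [57,110,89,98])) (.leaf (.up 4 1668 [35] 0 [55,90,179]))))) (.node (.node (.node (.leaf (.up 3 3492 [35] 0 [57,93,91,95])) (.leaf (.up 4 2956 [32] 0 [93,89,245]))) (.node (.leaf (.up 3 134 [37] 0 [57,94,89,96])) (.leaf (.up 4 3159 [48] 530 [94,103,101])))) (.node (.node (.leaf (.up 3 3284 [58] 276 [87,110,127])) (.leaf (.up 4 3305 [58] 276 [55,103,102]))) (.leaf (.up 2 1218 [52] 1163 [88,55,44,183]))))) (.node (.node (.node (.node (.leaf (.up 4 2329 [58] 276 [88,123,60])) (.leaf (.up 4 763 [58] 276 [88,56,103,106]))) (.node (.leaf (.up 3 3381 [35] 0 [87,93,140,96])) (.leaf (.up 4 1766 [35] 0 [94,176,196])))) (.node (.node (.leaf (.up 4 121 [58] 276 [87,110,103,152])) (.leaf (.up 3 1013 [58] 276 [57,56,176,146]))) (.leaf (.up 4 2236 [37] 0 [88,55,89,245])))) (.node (.node (.node (.leaf (.up 4 1694 [191] 274 [88,56,140,207])) (.leaf (.up 2 1181 [191] 274 [87,56,103,182]))) (.node (.leaf (.up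 4 1848 [28] 0 [88,94,90,15])) (.leaf (.up 6 291 [191] 274 [57,93,89,208])))) (.node (.node (.leaf (.up 5 1730 [36] 0 [94,42,190])) (.leaf (.up 4 152 [58] 276 [87,55,44,156]))) (.leaf (.up 4 2154 [52] 1163 [93,89,162]))))))) (.node (.node (.node (.node (.node (.node (.leaf (.up 3 3454 [48] 530 [57,94,155,175])) (.leaf (.up 4 3681 [35] 0 [94,176,209]))) (.node (.leaf (.up 3 684 [32] 0 [88,56,155,172])) (.leaf (.up 3 2150 [191] 274 [87,56,123])))) (.node (.node (.leaf (.up 4 805 [35] 0 [110,104,188])) (.leaf (.up 4 2877 [191] 274 [87,110,176,101]))) (.node (.leaf (.up 4 3241 [48] 530 [87,94,176,200])) (.leaf (.up 4 3127 [52] 1163 [88,55,176,73]))))) (.node (.node (.node (.leaf (.up 4 3122 [28] 0 [57,94,103,164])) (.leaf (.up 4 1553 [58] 276 [88,110,44,105]))) (.node (.leaf (.up 4 261 [191] 274 [87,55,176,9])) (.leaf (.up 4 595 [37] 0 [110,89,231])))) (.node (.node (.leaf (.up 4 269 [52] 1163 [87,56,89,175])) (.leaf (.up 1 7 [58]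 276 [57,94,158]))) (.leaf (.up 3 1014 [58] 276 [88,93,140,18]))))) (.node (.node (.node (.node (.leaf (.up 4 3737 [48] 530 [57,55,140,185])) (.leaf (.up 3 2530 [48] 530 [57,56,43,244]))) (.node (.leaf (.up 3 985 [36] 0 [94,43,34])) (.leaf (.up 5 2903 [58] 276 [55,42,212])))) (.node (.node (.leaf (.up 4 162 [48] 530 [57,55,44,144])) (.leaf (.up 5 498 [191] 274 [93,44,128]))) (.node (.leaf (.up 4 1816 [191] 274 [116,169])) (.leaf (.up 4 1670 [191] 274 [88,55,89,95]))))) (.node (.node (.node (.leaf (.up 3 479 [28] 0 [87,56,116,46])) (.leaf (.up 4 2043 [48] 530 [88,55,91,175]))) (.node (.leaf (.up 4 3272 [58] 276 [55,116,234])) (.leaf (.up 5 2671 [36] 0 [93,43,1])))) (.node (.node (.leaf (.up 2 815 [32] 0 [55,42,233])) (.leaf (.up 3 2828 [191] 274 [87,55,91,148]))) (.leaf (.up 4 3714 [48] 530 [87,93,217])))))) (.node (.node (.node (.node (.node (.leaf (.up 4 1772 [48] 530 [87,56,43,191])) (.leaf (.up 4 1394 [191] 274 [55,103,204])))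 (.node (.leaf (.up 4 3757 [35] 0 [57,93,44,230])) (.leaf (.up 4 2892 [191] 274 [43,148])))) (.node (.node (.leaf (.up 5 2508 [58] 276 [87,56,89,139])) (.leaf (.up 3 3550 [58] 276 [88,94,44,222]))) (.node (.leaf (.up 4 828 [48] 530 [88,110,116,185])) (.leaf (.up 4 172 [52] 1163 [88,56,155,210]))))) (.node (.node (.node (.leaf (.up 4 2199 [36] 0 [57,43,31])) (.leaf (.up 4 2585 [58] 276 [88,94,140,2]))) (.node (.leaf (.up 4 3701 [35] 0 [88,94,176,107])) (.leaf (.up 5 1500 [191] 274 [88,93,123,167])))) (.node (.node (.leaf (.up 4 121 [36] 0 [88,93,44,5])) (.leaf (.up 3 684 [191] 274 [57,55,116,232]))) (.leaf (.up 4 1573 [35] 0 [123,105]))))) (.node (.node (.node (.node (.leaf (.up 4 408 [191] 274 [87,104,200])) (.leaf (.up 2 3694 [48] 530 [57,104,180]))) (.node (.leaf (.up 3 3078 [35] 0 [57,56,155,245])) (.leaf (.up 4 2818 [37] 0 [88,89,9])))) (.node (.node (.leaf (.up 4 3484 [191] 274 [87,56,123,163])) (.leaf (.up 3 1271 [52] 1163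 [57,55,116,46]))) (.leaf (.up 5 1543 [36] 0 [87,94,116])))) (.node (.node (.node (.leaf (.up 3 726 [32] 0 [87,55,44,152])) (.leaf (.up 4 1024 [48] 530 [110,104,156]))) (.node (.leaf (.up 3 3398 [52] 1163 [57,93])) (.leaf (.up 2 3590 [37] 0 [90,148])))) (.node (.node (.leaf (.up 3 2177 [36] 0 [88,94,104,0])) (.leaf (.up 3 3715 [35] 0 [57,204]))) (.leaf (.up 4 2342 [191] 274 [88,55,104,15])))))))

noncomputable def trio2_1100 : Tr TStep := .node trio2_11000 trio2_11001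

noncomputable def trio2_11010 : Tr TStep :=
  .node (.node (.node (.node (.node (.node (.node (.leaf (.up 3 2340 [32] 0 [88,94,42,73])) (.leaf (.up 4 3625 [58] 276 [57,110,155,29]))) (.node (.leaf (.up 4 1253 [191] 274 [88,94,156])) (.leaf (.up 4 1896 [52] 1163 [88,93,204])))) (.node (.node (.leaf (.up 2 248 [52] 1163 [87,110,155,77])) (.leaf (.up 4 2110 [191] 274 [87,94,42,46]))) (.node (.leaf (.up 3 3543 [48] 530 [57,94,176,241])) (.leaf (.up 3 429 [37] 0 [57,94,116,241]))))) (.node (.node (.node (.leaf (.up 4 3496 [191] 274 [88,55,104,112])) (.leaf (.up 3 1947 [36] 0 [87,56,42,226]))) (.node (.leaf (.up 4 3534 [191] 274 [57,93,42,11])) (.leaf (.up 4 1537 [32] 0 [88,110,176,241])))) (.node (.node (.leaf (.up 3 2323 [36] 0 [88,43,201])) (.leaf (.up 4 3789 [35] 0 [88,94,116,98]))) (.leaf (.up 5 3619 [35] 0 [88,110,172]))))) (.node (.node (.node (.node (.leaf (.up 4 3112 [191] 274 [87,170])) (.leaf (.up 4 2401 [58] 276 [57,55,42,122])))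 (.node (.leaf (.up 1 16 [52] 1163 [57,94,91,234])) (.leaf (.up 3 1602 [37] 0 [87,55,90,92])))) (.node (.node (.leaf (.up 4 10 [32] 0 [94,91,240])) (.leaf (.up 5 3195 [48] 530 [123,153]))) (.node (.leaf (.up 5 3022 [36] 0 [88,123,134])) (.leaf (.up 4 3521 [32] 0 [55,89,181]))))) (.node (.node (.node (.leaf (.up 5 142 [48] 530 [56,43,203])) (.leaf (.up 3 1977 [52] 1163 [93,116,233]))) (.node (.leaf (.up 3 3742 [37] 0 [57,55,90,29])) (.leaf (.up 4 974 [48] 530 [56,89,137])))) (.node (.node (.leaf (.up 3 2256 [191] 274 [87,103,1])) (.leaf (.up 4 2771 [37] 0 [87,94,123,166]))) (.leaf (.up 3 813 [32] 0 [87,110,44,72])))))) (.node (.node (.node (.node (.node (.leaf (.up 5 2237 [52] 1163 [88,93,123,226])) (.leaf (.up 4 261 [36] 0 [88,123,149]))) (.node (.leaf (.up 3 2281 [37] 0 [87,56,90,149])) (.leaf (.up 5 2741 [36] 0 [88,90,144])))) (.node (.node (.leaf (.up 2 2363 [48] 530 [88,56,89,166])) (.leaf (.up 3 2724 [58] 276 [57,94,42,228])))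 (.node (.leaf (.up 5 2839 [58] 276 [110,43,35])) (.leaf (.up 3 1390 [37] 0 [87,56,43,224]))))) (.node (.node (.node (.leaf (.up 3 1997 [32] 0 [88,93,33])) (.leaf (.up 4 316 [48] 530 [88,56,42,233]))) (.node (.leaf (.up 2 427 [35] 0 [88,94,116,102])) (.leaf (.up 3 3732 [58] 276 [87,90,125])))) (.node (.node (.leaf (.up 3 2969 [32] 0 [93,140,231])) (.leaf (.up 5 3410 [191] 274 [88,93,59]))) (.leaf (.up 3 2441 [36] 0 [57,42,15]))))) (.node (.node (.node (.node (.leaf (.up 3 3557 [32] 0 [87,110,116,29])) (.leaf (.up 4 3226 [48] 530 [57,176,210]))) (.node (.leaf (.up 4 1929 [58] 276 [56,90,177])) (.leaf (.up 4 1351 [36] 0 [88,93,42,11])))) (.node (.node (.leaf (.up 4 2718 [32] 0 [55,117])) (.leaf (.up 5 3528 [32] 0 [88,55,91,108]))) (.node (.leaf (.up 4 1625 [191] 274 [88,94,91,136])) (.leaf (.up 3 1524 [37] 0 [57,93,25]))))) (.node (.node (.node (.leaf (.up 4 241 [32] 0 [88,56,103,172])) (.leaf (.up 3 3676 [37] 0 [88,110,155,172])))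 (.node (.leaf (.up 4 432 [191] 274 [87,42,113])) (.leaf (.up 5 2042 [52] 1163 [57,110,91,219])))) (.node (.node (.leaf (.up 3 9 [58] 276 [87,110,43,122])) (.leaf (.up 4 799 [58] 276 [57,91,169]))) (.leaf (.up 4 309 [35] 0 [123,16]))))))) (.node (.node (.node (.node (.node (.node (.leaf (.up 4 1264 [35] 0 [88,93,90,36])) (.leaf (.up 4 689 [58] 276 [87,94,104,219]))) (.node (.leaf (.up 3 690 [36] 0 [88,56,155,248])) (.leaf (.up 4 377 [191] 274 [88,155,196])))) (.node (.node (.leaf (.up 4 2709 [32] 0 [88,110,123])) (.leaf (.up 4 117 [58] 276 [88,56,104,226]))) (.node (.leaf (.up 5 1027 [58] 276 [87,55,42,7])) (.leaf (.up 3 3742 [48] 530 [88,110,140,184]))))) (.node (.node (.node (.leaf (.up 4 2614 [35] 0 [57,55,44,152])) (.leaf (.up 2 2261 [36] 0 [87,55,91,147]))) (.node (.leaf (.up 3 1961 [28] 0 [57,93,90,186])) (.leaf (.up 4 1929 [52] 1163 [57,140,215])))) (.node (.node (.leaf (.root 9)) (.leaf (.up 5 91 [36] 0 [87,56,155,182])))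 (.leaf (.up 3 3676 [191] 274 [87,55,44,153]))))) (.node (.node (.node (.node (.leaf (.up 5 3713 [58] 276 [87,93,91,179])) (.leaf (.up 4 2588 [58] 276 [57,93,91,6]))) (.node (.leaf (.up 4 2127 [191] 274 [57,55,155,131])) (.leaf (.up 4 1105 [52] 1163 [87,56,90,120])))) (.node (.node (.leaf (.up 5 3772 [58] 276 [87,94,103,204])) (.leaf (.up 3 3013 [36] 0 [87,55,155,210]))) (.node (.leaf (.up 4 1590 [48] 530 [87,89,100])) (.leaf (.up 5 3544 [191] 274 [110,89,146]))))) (.node (.node (.node (.leaf (.up 1 4 [52] 1163 [87,55,123,241])) (.leaf (.up 3 3451 [28] 0 [57,89,192]))) (.node (.leaf (.up 4 640 [36] 0 [57,116,102])) (.leaf (.up 3 268 [37] 0 [88,55,90,224])))) (.node (.node (.leaf (.up 4 804 [58] 276 [87,94,43,18])) (.leaf (.up 2 3559 [37] 0 [56,116,240]))) (.leaf (.up 4 2336 [28] 0 [87,94,176,213])))))) (.node (.node (.node (.node (.node (.leaf (.up 3 529 [35] 0 [57,93,104,20])) (.leaf (.up 3 1029 [52] 1163 [87,110,176,77])))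 (.node (.leaf (.up 4 740 [58] 276 [87,55,104,27])) (.leaf (.up 4 2067 [52] 1163 [56,155,129])))) (.node (.node (.leaf (.up 4 959 [191] 274 [57,55,103,143])) (.leaf (.up 3 2191 [191] 274 [110,91,204]))) (.node (.leaf (.up 3 3446 [58] 276 [88,94,176,162])) (.leaf (.up 4 2731 [58] 276 [57,43,60]))))) (.node (.node (.node (.leaf (.up 3 922 [52] 1163 [88,93,90,245])) (.leaf (.up 5 643 [191] 274 [88,56,89,115]))) (.node (.leaf (.up 4 2823 [32] 0 [87,116,220])) (.leaf (.up 4 2043 [58] 276 [88,110,116,71])))) (.node (.node (.leaf (.up 3 3150 [58] 276 [88,110,155,239])) (.leaf (.up 5 1101 [58] 276 [88,94,91,215]))) (.leaf (.up 4 2039 [32] 0 [57,123,175]))))) (.node (.node (.node (.node (.leaf (.up 4 98 [32] 0 [88,110,198])) (.leaf (.up 4 1589 [36] 0 [87,110,116,146]))) (.node (.leaf (.up 4 1807 [58] 276 [88,56,176,115])) (.leaf (.up 4 933 [191] 274 [88,56,42,223])))) (.node (.node (.leaf (.up 4 3697 [48] 530 [88,93,116,205])) (.leaf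 (.up 2 3200 [37] 0 [87,55,176,13]))) (.leaf (.up 3 265 [35] 0 [88,93,104,231])))) (.node (.node (.node (.leaf (.up 4 3701 [191] 274 [88,55,103,224])) (.leaf (.up 4 3244 [58] 276 [222]))) (.node (.leaf (.up 2 1603 [48] 530 [87,94,90,173])) (.leaf (.up 3 176 [32] 0 [104,154])))) (.node (.node (.leaf (.up 4 241 [37] 0 [140,92])) (.leaf (.up 3 1470 [35] 0 [87,110,155,108]))) (.leaf (.up 4 583 [35] 0 [88,110,42,163])))))))

noncomputable def trio2_11011 : Tr TStep :=
  .node (.node (.node (.node (.node (.node (.node (.leaf (.up 4 1400 [36] 0 [57,110,90,181])) (.leaf (.up 5 3036 [35] 0 [56,104,13]))) (.node (.leaf (.up 4 350 [58] 276 [88,56,43,245])) (.leaf (.up 5 340 [191] 274 [110,43,22])))) (.node (.node (.leaf (.up 4 1037 [58] 276 [56,90,109])) (.leaf (.up 4 1816 [36] 0 [88,55,176,157]))) (.node (.leaf (.up 4 2675 [48] 530 [94,155,247])) (.leaf (.up 3 2987 [32] 0 [57,157]))))) (.node (.node (.node (.leaf (.root 8)) (.leaf (.up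 5 755 [32] 0 [88,110,42,95]))) (.node (.leaf (.up 4 49 [58] 276 [94,123,23])) (.leaf (.up 3 123 [36] 0 [90,218])))) (.node (.node (.leaf (.up 2 427 [37] 0 [88,56,90,125])) (.leaf (.up 3 1005 [191] 274 [55,44,138]))) (.leaf (.up 4 1507 [32] 0 [110,91,172]))))) (.node (.node (.node (.node (.leaf (.up 3 2515 [48] 530 [88,110,44,27])) (.leaf (.up 4 1757 [35] 0 [57,55,116,206]))) (.node (.leaf (.up 2 3559 [58] 276 [123,1])) (.leaf (.up 3 345 [52] 1163 [55,43,187])))) (.node (.node (.leaf (.up 4 2084 [32] 0 [87,56,90,177])) (.leaf (.up 6 1675 [191] 274 [88,55,89,135]))) (.node (.leaf (.up 3 661 [58] 276 [123,139])) (.leaf (.up 4 1454 [35] 0 [57,123,132]))))) (.node (.node (.node (.leaf (.up 4 146 [48] 530 [44,130])) (.leaf (.up 4 146 [36] 0 [87,89,169]))) (.node (.leaf (.up 3 290 [32] 0 [57,56,43,154])) (.leaf (.up 5 1202 [48] 530 [57,110,155,59])))) (.node (.node (.leaf (.up 3 690 [28] 0 [88,44,139])) (.leaf (.up 5 989 [191] 274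 [87,110,103,98]))) (.leaf (.up 2 1218 [191] 274 [94,89,134])))))) (.node (.node (.node (.node (.node (.leaf (.up 4 1590 [32] 0 [88,123,77])) (.leaf (.up 5 1739 [36] 0 [88,94,176,222]))) (.node (.leaf (.up 4 355 [58] 276 [57,103,185])) (.leaf (.up 4 1462 [35] 0 [88,56,155,126])))) (.node (.node (.leaf (.up 3 72 [28] 0 [88,55,104,20])) (.leaf (.up 5 3247 [191] 274 [57,93,103,118]))) (.node (.leaf (.up 2 145 [37] 0 [55,42,120])) (.leaf (.up 4 1096 [52] 1163 [56,116,243]))))) (.node (.node (.node (.leaf (.up 3 2937 [36] 0 [140,205])) (.leaf (.up 4 2640 [191] 274 [110,90]))) (.node (.leaf (.up 4 792 [191] 274 [110,176,213])) (.leaf (.up 4 198 [28] 0 [57,125])))) (.node (.node (.leaf (.up 4 2109 [191] 274 [87,94,44,111])) (.leaf (.up 3 2044 [32] 0 [87,94,155,131]))) (.leaf (.up 3 572 [32] 0 [56,91,205]))))) (.node (.node (.node (.node (.leaf (.up 4 269 [36] 0 [87,94,43,233])) (.leaf (.up 4 2424 [35] 0 [42,198]))) (.node (.leaf (.up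 4 3137 [37] 0 [88,56,43,190])) (.leaf (.up 2 149 [36] 0 [88,90,202])))) (.node (.node (.leaf (.up 3 3707 [48] 530 [56,116,220])) (.leaf (.up 3 1383 [32] 0 [87,110,91,194]))) (.leaf (.up 3 2795 [58] 276 [56,91,220])))) (.node (.node (.node (.leaf (.up 5 459 [58] 276 [87,93,140,156])) (.leaf (.up 3 2032 [35] 0 [123,35]))) (.node (.leaf (.up 2 2261 [191] 274 [57,93,44,137])) (.leaf (.up 3 2937 [58] 276 [57,110,176,73])))) (.node (.node (.leaf (.up 4 3461 [58] 276 [123,124])) (.leaf (.up 3 1657 [48] 530 [87,94,89,113]))) (.leaf (.up 4 1686 [191] 274 [87,42,72]))))))) (.node (.node (.node (.node (.node (.node (.leaf (.up 4 1541 [58] 276 [87,93,155,171])) (.leaf (.up 6 2411 [35] 0 [57,110,103,183]))) (.node (.leaf (.up 4 3629 [191] 274 [87,110,89,4])) (.leaf (.up 5 3528 [48] 530 [88,94,90,185])))) (.node (.node (.leaf (.up 4 182 [37] 0 [88,91,209])) (.leaf (.up 2 3201 [28] 0 [87,94,155,238]))) (.node (.leaf (.up 3 2515 [32] 0 [88,140,92]))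 (.leaf (.up 4 1143 [48] 530 [87,110,43,3]))))) (.node (.node (.node (.leaf (.up 3 3466 [52] 1163 [110,104,233])) (.leaf (.up 1 2 [37] 0 [110,43,69]))) (.node (.leaf (.up 5 1210 [58] 276 [88,94,140,142])) (.leaf (.up 2 1759 [28] 0 [87,93,140,221])))) (.node (.node (.leaf (.up 3 622 [58] 276 [88,55,44,3])) (.leaf (.up 4 1502 [191] 274 [57,55,59]))) (.leaf (.up 3 1340 [191] 274 [57,94,116,2]))))) (.node (.node (.node (.node (.leaf (.up 5 703 [36] 0 [88,110,155,206])) (.leaf (.up 5 1393 [36] 0 [88,55,176,69]))) (.node (.leaf (.up 5 22 [36] 0 [57,90,144])) (.leaf (.up 2 733 [48] 530 [94,89,139])))) (.node (.node (.leaf (.up 3 495 [52] 1163 [88,110,116,206])) (.leaf (.up 4 225 [32] 0 [87,55,91,200]))) (.node (.leaf (.up 4 1684 [191] 274 [93,155,148])) (.leaf (.up 4 650 [52] 1163 [57,110,155,171]))))) (.node (.node (.node (.leaf (.up 3 2412 [58] 276 [57,94,91,75])) (.leaf (.up 5 1899 [191] 274 [87,55,116,241]))) (.node (.leaf (.up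 5 1115 [36] 0 [57,93,132])) (.leaf (.up 4 1586 [191] 274 [88,56,43,150])))) (.node (.node (.leaf (.up 2 136 [36] 0 [88,93,104,242])) (.leaf (.up 4 1771 [48] 530 [176,101]))) (.leaf (.up 4 1598 [191] 274 [110,90,96])))))) (.node (.node (.node (.node (.node (.leaf (.up 2 1221 [36] 0 [87,110,42,188])) (.leaf (.up 5 289 [58] 276 [57,110,42,236]))) (.node (.leaf (.up 3 3101 [191] 274 [87,94,123,196])) (.leaf (.up 4 2155 [32] 0 [57,56,116,157])))) (.node (.node (.leaf (.up 2 1218 [35] 0 [110,190])) (.leaf (.up 3 2647 [191] 274 [87,11]))) (.node (.leaf (.up 3 1013 [32] 0 [57,94,155,171])) (.leaf (.up 2 2363 [36] 0 [88,93,89,242]))))) (.node (.node (.node (.leaf (.up 4 1757 [36] 0 [88,110,116,162])) (.leaf (.up 3 635 [48] 530 [87,93,140,153]))) (.node (.leaf (.up 5 585 [58] 276 [88,56,192])) (.leaf (.up 2 248 [48] 530 [87,94,140,226])))) (.node (.node (.leaf (.up 3 429 [48] 530 [87,55,155,145])) (.leaf (.up 3 1484 [36] 0 [57,56,123,75])))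 (.leaf (.up 5 1250 [48] 530 [57,110,116,12]))))) (.node (.node (.node (.node (.leaf (.up 4 1966 [32] 0 [55,42,18])) (.leaf (.up 3 2281 [36] 0 [93,42,119]))) (.node (.leaf (.up 4 3065 [52] 1163 [88,93,90,205])) (.leaf (.up 4 3756 [191] 274 [87,93,90,202])))) (.node (.node (.leaf (.up 3 1029 [58] 276 [88,94,176,187])) (.leaf (.up 3 895 [37] 0 [57,110,104,16]))) (.leaf (.up 3 2685 [48] 530 [88,94,176,9])))) (.node (.node (.node (.leaf (.up 4 1910 [52] 1163 [87,140,8])) (.leaf (.up 4 1296 [58] 276 [142]))) (.node (.leaf (.up 3 1197 [191] 274 [88,94,176,31])) (.leaf (.up 4 2968 [191] 274 [87,110,42,215])))) (.node (.node (.leaf (.up 5 1844 [191] 274 [88,94,44,22])) (.leaf (.up 4 1024 [58] 276 [110,90,233]))) (.leaf (.up 3 1340 [52] 1163 [87,93,43,153])))))))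

noncomputable def trio2_1101 : Tr TStep := .node trio2_11010 trio2_11011

noncomputable def trio2_110 : Tr TStep := .node trio2_1100 trio2_1101

noncomputable def trio2_11100 : Tr TStep :=
  .node (.node (.node (.node (.node (.node (.node (.leaf (.root 5)) (.leaf (.up 2 427 [36] 0 [57,110,42,209]))) (.node (.leaf (.up 3 1551 [58] 276 [57,93,123,122])) (.leaf (.up 2 1402 [52] 1163 [110,90,34])))) (.node (.node (.leaf (.up 4 2254 [58] 276 [55,91])) (.leaf (.up 3 123 [58] 276 [123,112]))) (.node (.leaf (.up 4 1327 [58] 276 [57,94,140,186])) (.leaf (.up 4 1508 [36] 0 [110,43,1]))))) (.node (.node (.node (.leaf (.up 5 887 [37] 0 [57,110,42,242])) (.leaf (.up 3 3497 [37] 0 [88,90,75]))) (.node (.leaf (.up 3 2087 [52] 1163 [87,103,22])) (.leaf (.up 4 55 [191] 274 [93,91,72])))) (.node (.node (.leaf (.up 4 484 [52] 1163 [88,55,43,144])) (.leaf (.up 3 589 [32] 0 [57,55,104,173]))) (.leaf (.up 3 114 [191] 274 [56,123,202]))))) (.node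 (.node (.node (.node (.leaf (.up 4 2966 [191] 274 [87,55,116,36])) (.leaf (.up 3 3636 [35] 0 [57,93,116,219]))) (.node (.leaf (.up 5 1399 [191] 274 [110,155,157])) (.leaf (.up 4 1848 [48] 530 [56,43,65])))) (.node (.node (.leaf (.up 3 3199 [191] 274 [88,56,44,221])) (.leaf (.up 3 2530 [28] 0 [116,130]))) (.node (.leaf (.up 3 1556 [48] 530 [87,55,123,230])) (.leaf (.up 3 1010 [191] 274 [88,110,43,137]))))) (.node (.node (.node (.leaf (.up 3 3454 [37] 0 [87,56,43,151])) (.leaf (.up 1 16 [48] 530 [57,116,183]))) (.node (.leaf (.up 4 1794 [35] 0 [110,248])) (.leaf (.up 3 3312 [191] 274 [87,104,166])))) (.node (.node (.leaf (.up 3 3742 [191] 274 [87,93,42,27])) (.leaf (.up 5 2532 [52] 1163 [88,110,176,186]))) (.leaf (.up 4 2315 [36] 0 [57,110,42,72])))))) (.node (.node (.node (.node (.node (.leaf (.up 5 3753 [58] 276 [88,184])) (.leaf (.up 4 3417 [37] 0 [57,56,123,18]))) (.node (.leaf (.up 4 1804 [191] 274 [93,89,29])) (.leaf (.up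 5 835 [58] 276 [110,44,106])))) (.node (.node (.leaf (.up 3 1983 [191] 274 [57,110,36])) (.leaf (.up 2 1662 [48] 530 [88,55,123,187]))) (.node (.leaf (.up 4 3217 [191] 274 [123,37])) (.leaf (.up 4 990 [48] 530 [88,56,140,100]))))) (.node (.node (.node (.leaf (.up 3 1878 [32] 0 [94,89,233])) (.leaf (.up 2 3793 [191] 274 [57,110,90,201]))) (.node (.leaf (.up 3 1845 [48] 530 [57,110,155,145])) (.leaf (.up 3 1269 [48] 530 [87,56,44,210])))) (.node (.node (.leaf (.up 4 348 [48] 530 [57,94,123,12])) (.leaf (.up 4 3478 [37] 0 [87,94,116,101]))) (.leaf (.up 3 2308 [52] 1163 [87,55,176,229]))))) (.node (.node (.node (.node (.leaf (.up 4 269 [191] 274 [87,110,103,233])) (.leaf (.up 5 1526 [58] 276 [55,140,137]))) (.node (.leaf (.up 5 1030 [37] 0 [87,110,91,167])) (.leaf (.up 4 2585 [32] 0 [87,55,100])))) (.node (.node (.leaf (.up 2 145 [58] 276 [87,93,91,12])) (.leaf (.up 5 3084 [37] 0 [55,89,65]))) (.node (.leaf (.up 3 2392 [37] 0 [87,55,116,18]))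 (.leaf (.up 3 3303 [28] 0 [55,90,74]))))) (.node (.node (.node (.leaf (.up 2 654 [28] 0 [88,56,123,71])) (.leaf (.up 3 593 [32] 0 [87,56,44,117]))) (.node (.leaf (.up 3 189 [191] 274 [56,176,218])) (.leaf (.up 4 2279 [48] 530 [87,56,89,108])))) (.node (.node (.leaf (.up 3 2685 [35] 0 [56,42,168])) (.leaf (.up 4 1967 [58] 276 [110,103,16]))) (.leaf (.up 4 89 [48] 530 [88,140,178]))))))) (.node (.node (.node (.node (.node (.node (.leaf (.up 5 2565 [191] 274 [87,56,103,195])) (.leaf (.up 2 1181 [35] 0 [57,93,116,242]))) (.node (.leaf (.up 5 1630 [58] 276 [88,56,89,73])) (.leaf (.up 4 1785 [35] 0 [88,93,104,143])))) (.node (.node (.leaf (.up 3 2256 [48] 530 [88,55,43,150])) (.leaf (.up 4 77 [191] 274 [57,110,43,97]))) (.node (.leaf (.up 5 3528 [36] 0 [88,93,116,150])) (.leaf (.up 3 1845 [36] 0 [87,93,155,238]))))) (.node (.node (.node (.leaf (.up 5 1395 [36] 0 [87,94,176,133])) (.leaf (.up 4 1954 [191] 274 [55,103,59]))) (.node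 (.leaf (.up 5 886 [58] 276 [57,55,91,95])) (.leaf (.up 3 3154 [52] 1163 [88,56,140,30])))) (.node (.node (.leaf (.up 5 1359 [48] 530 [56,89,240])) (.leaf (.up 3 3472 [191] 274 [87,94,176,98]))) (.leaf (.up 4 2438 [35] 0 [94,43,36]))))) (.node (.node (.node (.node (.leaf (.up 2 15 [36] 0 [88,93,116,12])) (.leaf (.up 2 250 [191] 274 [87,94,43,185]))) (.node (.leaf (.up 4 1376 [37] 0 [57,94,91,30])) (.leaf (.up 5 1974 [191] 274 [88,94,104,174])))) (.node (.node (.leaf (.up 3 2632 [37] 0 [88,110,104,18])) (.leaf (.up 2 136 [191] 274 [87,56,176,139]))) (.node (.leaf (.up 3 523 [32] 0 [57,56,140,162])) (.leaf (.up 4 1096 [37] 0 [87,55,31]))))) (.node (.node (.node (.leaf (.up 4 2924 [191] 274 [88,56,123,76])) (.leaf (.up 5 957 [191] 274 [176,150]))) (.node (.leaf (.up 4 2315 [28] 0 [87,94,90,122])) (.leaf (.up 5 1500 [37] 0 [87,56,176,135])))) (.node (.node (.leaf (.up 4 799 [36] 0 [88,93,178])) (.leaf (.up 4 3244 [32] 0 [88,94,42,76])))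 (.leaf (.up 3 3150 [191] 274 [87,56,116,77])))))) (.node (.node (.node (.node (.node (.leaf (.up 3 2177 [32] 0 [88,55,90,236])) (.leaf (.up 3 709 [35] 0 [55,103]))) (.node (.leaf (.up 3 3492 [28] 0 [94,116,36])) (.leaf (.up 5 2687 [191] 274 [93,42,197])))) (.node (.node (.leaf (.up 5 998 [32] 0 [87,176,227])) (.leaf (.up 4 1400 [48] 530 [88,94,116,98]))) (.node (.leaf (.up 4 763 [36] 0 [57,90,77])) (.leaf (.up 5 1937 [58] 276 [55,44,143]))))) (.node (.node (.node (.leaf (.up 4 391 [191] 274 [88,94,90,2])) (.leaf (.up 4 355 [36] 0 [87,56,42,211]))) (.node (.leaf (.up 2 24 [52] 1163 [57,110,176,23])) (.leaf (.up 5 1512 [35] 0 [88,89,7])))) (.node (.node (.leaf (.up 2 1402 [36] 0 [123,3])) (.leaf (.up 6 109 [191] 274 [87,93,247]))) (.leaf (.up 5 1412 [36] 0 [57,94,90,143]))))) (.node (.node (.node (.node (.leaf (.up 3 944 [48] 530 [57,110,176,225])) (.leaf (.up 3 265 [28] 0 [88,93,44,9]))) (.node (.leaf (.up 5 3290 [191] 274 [55,140,232]))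 (.leaf (.up 2 427 [48] 530 [57,55,140,241])))) (.node (.node (.leaf (.up 3 897 [35] 0 [55,103,191])) (.leaf (.up 4 1796 [36] 0 [87,93,43,6]))) (.leaf (.up 4 3029 [191] 274 [87,56,4])))) (.node (.node (.node (.leaf (.up 5 214 [58] 276 [87,55,90,147])) (.leaf (.up 3 3079 [48] 530 [57,56,44,71]))) (.node (.leaf (.up 2 427 [32] 0 [87,56,43,161])) (.leaf (.up 1 4 [36] 0 [104,132])))) (.node (.node (.leaf (.up 4 298 [37] 0 [87,55,104,223])) (.leaf (.up 4 458 [32] 0 [94,42,4]))) (.leaf (.up 4 1766 [32] 0 [57,93,91,122])))))))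

noncomputable def trio2_11101 : Tr TStep :=
  .node (.node (.node (.node (.node (.node (.node (.leaf (.up 3 588 [32] 0 [87,155,119])) (.leaf (.up 4 2062 [191] 274 [55,44,9]))) (.node (.leaf (.up 4 1172 [58] 276 [87,176,16])) (.leaf (.up 3 479 [58] 276 [57,56,140,11])))) (.node (.node (.leaf (.up 4 2037 [35] 0 [55,176,101])) (.leaf (.up 3 3114 [52] 1163 [94,103,198]))) (.node (.leaf (.up 5 1380 [58] 276 [57,56,104,124])) (.leaf (.up 3 2381 [36] 0 [94,42,168]))))) (.node (.node (.node (.leaf (.up 4 1495 [36] 0 [93,155,29])) (.leaf (.up 1 4 [37] 0 [93,90,181]))) (.node (.leaf (.up 5 1291 [32] 0 [56,43,159])) (.leaf (.up 3 189 [35] 0 [88,93,104,239])))) (.node (.node (.leaf (.up 3 2173 [191] 274 [87,56,176,92])) (.leaf (.up 4 867 [191] 274 [57,55,123,7]))) (.leaf (.up 3 3138 [28] 0 [57,55,190]))))) (.node (.node (.node (.node (.leaf (.up 5 3195 [36] 0 [88,110,91,16])) (.leaf (.up 3 1973 [52] 1163 [87,56,43,156]))) (.node (.leaf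 (.up 4 348 [28] 0 [57,44,114])) (.leaf (.up 6 2331 [191] 274 [94,91,246])))) (.node (.node (.leaf (.up 2 1726 [32] 0 [87,55,42,100])) (.leaf (.up 5 1146 [58] 276 [57,55,123,121]))) (.node (.leaf (.up 3 2150 [36] 0 [55,141])) (.leaf (.up 3 406 [58] 276 [88,44,234]))))) (.node (.node (.node (.leaf (.up 5 2223 [191] 274 [167])) (.leaf (.up 4 1400 [35] 0 [57,104]))) (.node (.leaf (.up 3 2368 [36] 0 [188])) (.leaf (.up 3 3557 [58] 276 [110,104,215])))) (.node (.node (.leaf (.up 5 451 [36] 0 [87,56,103,117])) (.leaf (.up 4 3374 [36] 0 [110,103,36]))) (.leaf (.up 3 2124 [32] 0 [87,56,89,21])))))) (.node (.node (.node (.node (.node (.leaf (.up 4 749 [48] 530 [87,94,123,245])) (.leaf (.up 3 1317 [48] 530 [87,93,123,188]))) (.node (.leaf (.up 4 2499 [37] 0 [88,93,42,248])) (.leaf (.up 3 1997 [37] 0 [57,55,176,207])))) (.node (.node (.leaf (.up 3 2392 [32] 0 [88,56,155,148])) (.leaf (.up 2 2789 [58] 276 [91,195]))) (.node (.leaf (.up 5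 1483 [58] 276 [55,44,188])) (.leaf (.up 2 433 [35] 0 [87,110,91,125]))))) (.node (.node (.node (.leaf (.up 3 2412 [37] 0 [88,116,99])) (.leaf (.up 3 2412 [52] 1163 [88,56,123,35]))) (.node (.leaf (.up 5 3634 [36] 0 [88,56,116,134])) (.leaf (.up 3 985 [32] 0 [87,55,91,228])))) (.node (.node (.leaf (.up 3 429 [32] 0 [110,155,73])) (.leaf (.up 4 215 [58] 276 [87,43,27]))) (.leaf (.up 3 189 [48] 530 [57,94,103,131]))))) (.node (.node (.node (.node (.leaf (.up 3 2347 [191] 274 [87,89,203])) (.leaf (.up 3 3727 [32] 0 [110,155,201]))) (.node (.leaf (.up 4 2062 [52] 1163 [88,94,27])) (.leaf (.up 3 3454 [28] 0 [57,55,103,121])))) (.node (.node (.leaf (.up 4 2932 [28] 0 [57,94,176,96])) (.leaf (.up 5 2888 [191] 274 [87,56,193]))) (.leaf (.up 3 3497 [58] 276 [87,155,31])))) (.node (.node (.node (.leaf (.up 3 1090 [37] 0 [88,89,196])) (.leaf (.up 3 1998 [35] 0 [87,103,73]))) (.node (.leaf (.up 3 3557 [191] 274 [88,93,176,152])) (.leaf (.up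 2 1181 [48] 530 [87,56,43,157])))) (.node (.node (.leaf (.up 3 1186 [191] 274 [88,93,43,215])) (.leaf (.up 4 428 [36] 0 [57,93,104,8]))) (.leaf (.up 4 1877 [191] 274 [87,56,43,131]))))))) (.node (.node (.node (.node (.node (.node (.leaf (.up 3 495 [36] 0 [110,155,224])) (.leaf (.up 3 3044 [58] 276 [57,93,89,243]))) (.node (.leaf (.up 2 1487 [37] 0 [88,94,90,205])) (.leaf (.up 3 3492 [48] 530 [57,56,91,172])))) (.node (.node (.leaf (.up 4 3554 [191] 274 [88,56,103,148])) (.leaf (.up 4 1263 [191] 274 [43,217]))) (.node (.leaf (.up 4 3481 [191] 274 [57,93,44,234])) (.leaf (.up 4 3397 [52] 1163 [88,110,155,161]))))) (.node (.node (.node (.leaf (.up 4 1353 [32] 0 [57,42,74])) (.leaf (.up 4 348 [52] 1163 [87,44,217]))) (.node (.leaf (.up 3 1014 [52] 1163 [88,110,176,160])) (.leaf (.up 4 1454 [52] 1163 [56,98])))) (.node (.node (.leaf (.up 3 2412 [191] 274 [94,116,23])) (.leaf (.up 4 3400 [52] 1163 [87,43,239]))) (.leaf (.up 5 3369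 [48] 530 [57,103,136]))))) (.node (.node (.node (.node (.leaf (.up 3 1103 [191] 274 [94,42,144])) (.leaf (.up 3 9 [36] 0 [88,56,90,234]))) (.node (.leaf (.up 3 1499 [58] 276 [87,93,104,122])) (.leaf (.up 4 2026 [191] 274 [87,110,44,246])))) (.node (.node (.leaf (.up 4 49 [36] 0 [57,56,155,10])) (.leaf (.up 5 1677 [191] 274 [87,55,140,151]))) (.node (.leaf (.up 4 397 [48] 530 [88,94,176,130])) (.leaf (.up 5 1050 [32] 0 [87,56,91,144]))))) (.node (.node (.node (.leaf (.up 6 3235 [191] 274 [110,176,2])) (.leaf (.up 3 1511 [48] 530 [88,93,91]))) (.node (.leaf (.up 1 4 [32] 0 [61])) (.leaf (.up 3 2612 [32] 0 [56,89,16])))) (.node (.node (.leaf (.up 4 805 [48] 530 [87,93,103,239])) (.leaf (.up 4 1421 [58] 276 [103,46]))) (.leaf (.up 4 3781 [36] 0 [87,123,157])))))) (.node (.node (.node (.node (.node (.leaf (.up 3 2018 [36] 0 [57,94,176,106])) (.leaf (.up 3 2308 [58] 276 [87,56,90,11]))) (.node (.leaf (.up 3 2756 [32] 0 [87,55,42,99]))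 (.leaf (.up 4 1966 [191] 274 [87,56,123,27])))) (.node (.node (.leaf (.up 5 887 [32] 0 [56,103,98])) (.leaf (.up 4 2853 [191] 274 [88,110,104,229]))) (.node (.leaf (.up 4 1127 [32] 0 [57,94,103,151])) (.leaf (.up 4 3611 [191] 274 [57,56,221]))))) (.node (.node (.node (.leaf (.up 3 429 [58] 276 [57,55,42,59])) (.leaf (.up 4 1848 [36] 0 [55,89,205]))) (.node (.leaf (.up 4 443 [52] 1163 [88,93,163])) (.leaf (.up 4 2992 [52] 1163 [88,94,116,229])))) (.node (.node (.leaf (.up 4 1462 [191] 274 [88,123,152])) (.leaf (.up 4 2932 [35] 0 [94,155,197]))) (.leaf (.up 3 529 [36] 0 [57,140,232]))))) (.node (.node (.node (.node (.leaf (.up 3 988 [48] 530 [87,94,176,122])) (.leaf (.up 4 2315 [32] 0 [56,176,187]))) (.node (.leaf (.up 2 756 [36] 0 [57,103,137])) (.leaf (.up 4 2843 [58] 276 [87,93,91,136])))) (.node (.node (.leaf (.up 4 3295 [191] 274 [88,94,155,36])) (.leaf (.up 4 2043 [36] 0 [110,155,7]))) (.leaf (.up 3 3550 [52] 1163 [88,43,248]))))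 (.node (.node (.node (.leaf (.up 5 3197 [191] 274 [57,104,151])) (.leaf (.up 3 3707 [35] 0 [88,93,44,158]))) (.node (.leaf (.up 4 3744 [36] 0 [57,110,42,12])) (.leaf (.up 4 742 [48] 530 [88,94,90,108])))) (.node (.node (.leaf (.up 5 2065 [191] 274 [103,238])) (.leaf (.up 5 2869 [191] 274 [87,110,103,157]))) (.leaf (.up 3 1247 [52] 1163 [88,56,155,187])))))))

noncomputable def trio2_1110 : Tr TStep := .node trio2_11100 trio2_11101

noncomputable def trio2_11110 : Tr TStep :=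
  .node (.node (.node (.node (.node (.node (.node (.leaf (.up 1 5 [32] 0 [57,56,42,129])) (.leaf (.up 4 1279 [58] 276 [57,110,43,109]))) (.node (.leaf (.up 5 1774 [32] 0 [104,222])) (.leaf (.up 4 769 [36] 0 [57,94,43,106])))) (.node (.node (.leaf (.up 2 733 [37] 0 [87,94,89,224])) (.leaf (.up 3 663 [32] 0 [55,123,92]))) (.node (.leaf (.up 2 1463 [37] 0 [88,94,103,25])) (.leaf (.up 5 2654 [191] 274 [57,55,43,119]))))) (.node (.node (.node (.leaf (.up 2 1402 [35] 0 [88,140,207])) (.leaf (.up 3 2284 [191] 274 [94,43,29]))) (.node (.leaf (.up 4 2974 [32] 0 [87,42,27])) (.leaf (.up 4 2141 [36] 0 [110,42,217])))) (.node (.node (.leaf (.up 3 1649 [32] 0 [94,89,209])) (.leaf (.up 3 3788 [35] 0 [56,90,131]))) (.leaf (.up 3 406 [191] 274 [87,110,103,240]))))) (.node (.node (.node (.node (.leaf (.up 3 1269 [58] 276 [57,55,91,175])) (.leaf (.up 2 522 [28] 0 [116,181]))) (.node (.leaf (.up 4 31 [48] 530 [57,93,103,29])) (.leaf (.up 4 3623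 [191] 274 [56,171])))) (.node (.node (.leaf (.up 2 3 [32] 0 [87,44,20])) (.leaf (.up 4 541 [58] 276 [57,56,89,224]))) (.node (.leaf (.up 3 3589 [48] 530 [57,110,44,77])) (.leaf (.up 2 1726 [36] 0 [87,55,116,154]))))) (.node (.node (.node (.leaf (.up 4 2956 [58] 276 [55,44,238])) (.leaf (.up 4 852 [58] 276 [88,110,176]))) (.node (.leaf (.up 3 1078 [36] 0 [94,140,227])) (.leaf (.up 5 2955 [48] 530 [88,110,72])))) (.node (.node (.leaf (.up 5 40 [36] 0 [88,56,103,31])) (.leaf (.up 3 3013 [48] 530 [87,110,155,135]))) (.leaf (.up 4 3496 [35] 0 [57,94,91,61])))))) (.node (.node (.node (.node (.node (.leaf (.up 3 3589 [37] 0 [88,141])) (.leaf (.up 3 1652 [58] 276 [87,56,104,109]))) (.node (.leaf (.up 2 3468 [37] 0 [87,110,155,160])) (.leaf (.up 4 2658 [37] 0 [57,110,42,203])))) (.node (.node (.leaf (.up 3 123 [48] 530 [94,90,226])) (.leaf (.up 3 1524 [35] 0 [87,56,90,207]))) (.node (.leaf (.up 4 3001 [36] 0 [88,103])) (.leaf (.up 3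 1875 [32] 0 [56,42,192]))))) (.node (.node (.node (.leaf (.up 3 2368 [191] 274 [57,94,90,102])) (.leaf (.up 4 1755 [36] 0 [87,94,104,165]))) (.node (.leaf (.up 4 1669 [32] 0 [57,110,191])) (.leaf (.up 5 3062 [191] 274 [93,103,59])))) (.node (.node (.leaf (.up 3 189 [32] 0 [88,110,103,227])) (.leaf (.up 4 1097 [191] 274 [88,202]))) (.leaf (.up 4 241 [48] 530 [57,110,103,132]))))) (.node (.node (.node (.node (.leaf (.up 4 3546 [58] 276 [94,90,189])) (.leaf (.up 5 3344 [28] 0 [88,55,42,214]))) (.node (.leaf (.up 4 518 [191] 274 [56,90,156])) (.leaf (.up 3 1947 [191] 274 [57,55,140,202])))) (.node (.node (.leaf (.up 3 3727 [58] 276 [57,56,104,195])) (.leaf (.up 2 654 [35] 0 [93,44,27]))) (.node (.leaf (.up 4 3782 [52] 1163 [88,93,42,101])) (.leaf (.up 5 387 [36] 0 [87,55,104,211]))))) (.node (.node (.node (.leaf (.up 3 2682 [32] 0 [55,42,185])) (.leaf (.up 5 1716 [48] 530 [88,93,116,92]))) (.node (.leaf (.up 1 2 [52] 1163 [57,94,123,132]))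 (.leaf (.up 4 2129 [191] 274 [87,93,46])))) (.node (.node (.leaf (.up 4 501 [32] 0 [88,110,44,205])) (.leaf (.up 4 3748 [191] 274 [57,55,176,75]))) (.leaf (.up 5 2344 [191] 274 [176,4]))))))) (.node (.node (.node (.node (.node (.node (.leaf (.up 5 2670 [32] 0 [57,103,15])) (.leaf (.up 3 529 [191] 274 [88,94,123,121]))) (.node (.leaf (.up 3 1225 [32] 0 [57,94,116,227])) (.leaf (.up 5 1450 [52] 1163 [57,103,165])))) (.node (.node (.leaf (.up 4 1691 [191] 274 [88,94,44,10])) (.leaf (.up 3 1511 [36] 0 [87,93,90,222]))) (.node (.leaf (.up 2 1163 [48] 530 [88,56,43,240])) (.leaf (.up 4 1772 [32] 0 []))))) (.node (.node (.node (.leaf (.up 3 2032 [36] 0 [88,123,121])) (.leaf (.up 5 3450 [52] 1163 [57,56,103,226]))) (.node (.leaf (.up 3 871 [191] 274 [57,94,140,119])) (.leaf (.up 4 182 [28] 0 [87,110,103,182])))) (.node (.node (.leaf (.up 1 0 [48] 530 [57,93,43,166])) (.leaf (.up 5 1300 [35] 0 [57,91,237]))) (.leaf (.up 2 1759 [37] 0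 [57,56,90,127]))))) (.node (.node (.node (.node (.leaf (.up 5 2670 [58] 276 [57,93,123,170])) (.leaf (.up 4 2015 [58] 276 [90,190]))) (.node (.leaf (.up 4 1134 [32] 0 [87,217])) (.leaf (.up 4 2141 [32] 0 [88,55,89,5])))) (.node (.node (.leaf (.up 3 1314 [32] 0 [87,93,90,96])) (.leaf (.up 2 2623 [191] 274 [88,94,116,128]))) (.node (.leaf (.up 5 2980 [191] 274 [87,55,89,148])) (.leaf (.up 2 794 [37] 0 [57,56,155,153]))))) (.node (.node (.node (.leaf (.up 5 942 [58] 276 [110,91,164])) (.leaf (.up 3 2269 [191] 274 [57,93,104,219]))) (.node (.leaf (.up 4 162 [28] 0 [87,56,104,115])) (.leaf (.up 4 1755 [191] 274 [87,93,176,206])))) (.node (.node (.leaf (.up 4 1067 [35] 0 [94,123,202])) (.leaf (.up 5 798 [191] 274 [57,56,155,213]))) (.leaf (.up 3 1950 [191] 274 [88,110,123,77])))))) (.node (.node (.node (.node (.node (.leaf (.up 4 647 [58] 276 [110,168])) (.leaf (.up 4 2410 [35] 0 [57,93,140,25]))) (.node (.leaf (.up 4 486 [32] 0 [87,110,176,186]))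 (.leaf (.up 3 2124 [48] 530 [88,55,140,173])))) (.node (.node (.leaf (.up 3 2988 [48] 530 [57,93,176,168])) (.leaf (.up 4 640 [35] 0 [140,10]))) (.node (.leaf (.up 3 3291 [35] 0 [87,94,140,245])) (.leaf (.up 4 1351 [52] 1163 [87,110,90,125]))))) (.node (.node (.node (.leaf (.up 4 2512 [191] 274 [57,56,131])) (.leaf (.up 4 1127 [48] 530 [57,94,43,151]))) (.node (.leaf (.up 3 2870 [32] 0 [87,110,91,157])) (.leaf (.up 4 2350 [48] 530 [87,155,226])))) (.node (.node (.leaf (.up 5 674 [191] 274 [57,93,42,162])) (.leaf (.up 4 3390 [191] 274 [87,55,123,7]))) (.leaf (.up 5 3528 [37] 0 [57,110,90,202]))))) (.node (.node (.node (.node (.leaf (.up 3 3434 [36] 0 [88,94,159])) (.leaf (.up 4 1781 [48] 530 [88,104,215]))) (.node (.leaf (.up 3 9 [52] 1163 [140,163])) (.leaf (.up 4 2952 [191] 274 [87,123,121])))) (.node (.node (.leaf (.up 3 176 [52] 1163 [93,176,168])) (.leaf (.up 6 2473 [191] 274 [56,123,149]))) (.leaf (.up 4 119 [191] 274 [88,55,44,165]))))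 (.node (.node (.node (.leaf (.up 2 1662 [28] 0 [93,116,173])) (.leaf (.up 2 248 [36] 0 [87,56,116,159]))) (.node (.leaf (.up 4 2832 [191] 274 [57,43,159])) (.leaf (.up 2 254 [48] 530 [57,55,140,13])))) (.node (.node (.leaf (.up 5 91 [48] 530 [57,93,140,108])) (.leaf (.up 3 3434 [32] 0 [87,93,42,138]))) (.leaf (.up 4 2998 [35] 0 [88,93,202])))))))

noncomputable def trio2_11111 : Tr TStep :=
  .node (.node (.node (.node (.node (.node (.node (.leaf (.up 3 3434 [191] 274 [57,55,197])) (.leaf (.up 4 1879 [36] 0 [110,116,33]))) (.node (.leaf (.up 3 1897 [191] 274 [57,93,186])) (.leaf (.up 4 2843 [37] 0 [88,93,116,194])))) (.node (.node (.leaf (.up 3 1602 [32] 0 [57,94,176,199])) (.leaf (.up 3 2756 [36] 0 [88,56,43,96]))) (.node (.leaf (.up 4 1703 [48] 530 [57,104,154])) (.leaf (.up 2 24 [48] 530 [87,110,123,134]))))) (.node (.node (.node (.leaf (.up 4 46 [28] 0 [57,56,89,212])) (.leaf (.up 3 2521 [191] 274 [87,110,42,148]))) (.node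 (.leaf (.up 4 2553 [58] 276 [88,110,91,150])) (.leaf (.up 5 760 [32] 0 [57,56,123,219])))) (.node (.node (.leaf (.up 3 3636 [191] 274 [57,93,140,150])) (.leaf (.up 3 3550 [36] 0 [87,110,116,23]))) (.leaf (.up 3 3475 [32] 0 [88,93,213]))))) (.node (.node (.node (.node (.leaf (.up 3 1407 [58] 276 [88,110,155,163])) (.leaf (.up 3 2375 [52] 1163 [55,42,119]))) (.node (.leaf (.up 3 3013 [191] 274 [57,110,140,168])) (.leaf (.up 5 1034 [52] 1163 [88,94,116,29])))) (.node (.node (.leaf (.up 4 1320 [35] 0 [87,93,43,212])) (.leaf (.up 4 3429 [35] 0 [88,55,103,9]))) (.node (.leaf (.up 2 3468 [191] 274 [88,123,112])) (.leaf (.up 4 1297 [58] 276 [87,123,168]))))) (.node (.node (.node (.leaf (.up 4 2418 [191] 274 [57,110,140])) (.leaf (.up 3 2441 [48] 530 [42,112]))) (.node (.leaf (.up 4 1766 [36] 0 [56,27])) (.leaf (.up 5 3486 [32] 0 [88,94,44,10])))) (.node (.node (.leaf (.up 4 2845 [58] 276 [123,129])) (.leaf (.up 5 3425 [58] 276 [57,56,155,241])))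 (.leaf (.up 4 923 [52] 1163 [87,93,176,11])))))) (.node (.node (.node (.node (.node (.leaf (.up 5 1519 [32] 0 [57,110,104,172])) (.leaf (.up 3 3434 [37] 0 [88,176,158]))) (.node (.leaf (.up 4 201 [32] 0 [88,89,2])) (.leaf (.up 3 374 [58] 276 [87,155,76])))) (.node (.node (.leaf (.up 2 136 [37] 0 [87,94,43,239])) (.leaf (.up 4 110 [36] 0 [88,93,90,153]))) (.node (.leaf (.up 3 3398 [35] 0 [87,55,123,30])) (.leaf (.up 5 1713 [48] 530 [57,94,155,186]))))) (.node (.node (.node (.leaf (.up 4 1853 [48] 530 [57,94,123,182])) (.leaf (.up 3 2631 [36] 0 [57,93,140,95]))) (.node (.leaf (.up 3 1317 [36] 0 [88,56,103,100])) (.leaf (.up 4 1508 [58] 276 [57,94,176,136])))) (.node (.node (.leaf (.up 5 3098 [48] 530 [57,91,201])) (.leaf (.up 4 1796 [58] 276 [87,55,104,60]))) (.leaf (.up 3 813 [48] 530 [88,56,155,187]))))) (.node (.node (.node (.node (.leaf (.up 3 1208 [48] 530 [57,55,155,114])) (.leaf (.up 4 3563 [52] 1163 [87,110,116,131])))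 (.node (.leaf (.up 2 756 [191] 274 [56,89,205])) (.leaf (.up 3 271 [52] 1163 [57,110,91,114])))) (.node (.node (.leaf (.up 4 1169 [32] 0 [87,155,135])) (.leaf (.up 4 1929 [32] 0 [88,110,91,233]))) (.leaf (.up 1 16 [58] 276 [110,44,12])))) (.node (.node (.node (.leaf (.up 2 1420 [32] 0 [88,43,237])) (.leaf (.up 3 1695 [52] 1163 [87,140,229]))) (.node (.leaf (.up 4 1757 [37] 0 [87,56,90,60])) (.leaf (.up 5 1979 [58] 276 [94,44,20])))) (.node (.node (.leaf (.up 2 15 [37] 0 [88,91,130])) (.leaf (.up 4 2199 [191] 274 [57,110,176,37]))) (.leaf (.up 3 123 [37] 0 [87,93,103,222]))))))) (.node (.node (.node (.node (.node (.node (.leaf (.up 4 1266 [37] 0 [55,44,102])) (.leaf (.up 3 123 [28] 0 [93,90,153]))) (.node (.leaf (.up 5 2359 [191] 274 [57,93,155,69])) (.leaf (.up 4 1879 [58] 276 [87,94,42,20])))) (.node (.node (.leaf (.up 3 1225 [58] 276 [88,110,104,226])) (.leaf (.up 1 283 [32] 0 [87,110,89,75]))) (.node (.leaf (.up 4 920 [48]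 530 [57,55,176,153])) (.leaf (.up 3 3079 [32] 0 [57,123,199]))))) (.node (.node (.node (.leaf (.up 4 2154 [191] 274 [87,56,7])) (.leaf (.up 3 3276 [58] 276 [88,55,90,142]))) (.node (.leaf (.up 4 583 [52] 1163 [88,93,104,222])) (.leaf (.up 2 2388 [58] 276 [88,94,104,242])))) (.node (.node (.leaf (.up 4 2438 [191] 274 [87,110,140,1])) (.leaf (.up 4 3206 [35] 0 [88,176,107]))) (.leaf (.up 4 3484 [58] 276 [57,94,104,131]))))) (.node (.node (.node (.node (.leaf (.up 4 2974 [58] 276 [43,174])) (.leaf (.up 3 2937 [37] 0 [88,216]))) (.node (.leaf (.up 4 152 [37] 0 [88,93,89,130])) (.leaf (.up 5 3253 [36] 0 [57,155,127])))) (.node (.node (.leaf (.up 4 763 [52] 1163 [87,110,123,148])) (.leaf (.up 5 3597 [191] 274 [57,56,91,239]))) (.node (.leaf (.up 4 1620 [32] 0 [93,116,60])) (.leaf (.up 4 749 [58] 276 [57,89,133]))))) (.node (.node (.node (.leaf (.up 3 1103 [32] 0 [57,44,23])) (.leaf (.up 5 952 [36] 0 [88,93,104,164]))) (.node (.leaf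 (.up 5 2730 [37] 0 [88,90,201])) (.leaf (.up 3 1012 [191] 274 [88,93,155,136])))) (.node (.node (.leaf (.up 3 3552 [48] 530 [57,116,99])) (.leaf (.up 3 3391 [37] 0 [88,55,44,35]))) (.leaf (.up 2 2634 [52] 1163 [87,91,189])))))) (.node (.node (.node (.node (.node (.leaf (.up 4 3220 [191] 274 [56,123,114])) (.leaf (.up 4 3279 [35] 0 [57,94,89,188]))) (.node (.leaf (.up 4 1381 [191] 274 [57,94,89,72])) (.leaf (.up 2 1163 [58] 276 [88,110,140,96])))) (.node (.node (.leaf (.up 5 1291 [35] 0 [87,110,155,169])) (.leaf (.up 4 518 [28] 0 [87,110,89,0]))) (.node (.leaf (.up 4 2977 [191] 274 [57,56,89,112])) (.leaf (.up 5 2601 [48] 530 [88,176,2]))))) (.node (.node (.node (.leaf (.up 4 3568 [37] 0 [88,155,37])) (.leaf (.up 3 2008 [48] 530 [87,56,91,11]))) (.node (.leaf (.up 2 756 [37] 0 [57,110,116,111])) (.leaf (.up 4 1053 [48] 530 [56,103,238])))) (.node (.node (.leaf (.up 2 1603 [36] 0 [88,93,147])) (.leaf (.up 4 157 [48] 530 [57,55,116,202])))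 (.leaf (.up 5 464 [48] 530 [87,56,116,105]))))) (.node (.node (.node (.node (.leaf (.up 4 1024 [37] 0 [56,155,231])) (.leaf (.up 5 2371 [32] 0 [94,44,95]))) (.node (.leaf (.up 3 2132 [191] 274 [94,89])) (.leaf (.up 5 899 [32] 0 [87,55,121])))) (.node (.node (.leaf (.up 4 2909 [35] 0 [203])) (.leaf (.up 3 3475 [37] 0 [88,93,123,191]))) (.leaf (.up 4 181 [35] 0 [88,94,104,132])))) (.node (.node (.node (.leaf (.up 4 1207 [58] 276 [88,56,89,128])) (.leaf (.up 5 2903 [36] 0 [55,44,126]))) (.node (.leaf (.up 6 1923 [191] 274 [110,44,223])) (.leaf (.up 4 1608 [32] 0 [88,93,43,241])))) (.node (.node (.leaf (.up 4 3051 [58] 276 [88,55,23])) (.leaf (.up 3 144 [35] 0 [55,116,164]))) (.leaf (.up 4 541 [32] 0 [88,94,44,163])))))))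

noncomputable def trio2_1111 : Tr TStep := .node trio2_11110 trio2_11111

noncomputable def trio2_111 : Tr TStep := .node trio2_1110 trio2_1111

noncomputable def trio2_11 : Tr TStep := .node trio2_110 trio2_111

noncomputable def trio2_1 : Tr TStep := .node trio2_10 trio2_11

noncomputable def trio2_ : Tr TStep := .node trio2_0 trio2_1

noncomputable def vt2_0_0000 : Tr VStep :=
  .node (.node (.node (.node (.node (.node (.node (.leaf (.root 33)) (.leaf (.up 5 469 6))) (.node (.leaf (.up 3 1933 3)) (.leaf (.up 4 288 5)))) (.node (.node (.leaf (.up 2 1433 0)) (.leaf (.up 4 319 4))) (.node (.leaf (.up 2 1163 4)) (.leaf (.up 4 831 4))))) (.node (.node (.node (.leaf (.up 5 540 4)) (.leaf (.up 4 948 1))) (.node (.leaf (.up 4 242 3)) (.leaf (.up 3 678 6)))) (.node (.node (.leaf (.up 4 1091 0)) (.leaf (.up 3 1539 0))) (.node (.leaf (.up 5 998 6)) (.leaf (.up 3 1027 0)))))) (.node (.node (.node (.node (.leaf (.up 4 1247 5)) (.leaf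 (.up 1 96 5))) (.node (.leaf (.up 4 603 4)) (.leaf (.up 3 1535 5)))) (.node (.node (.leaf (.up 4 1247 1)) (.leaf (.up 3 1529 0))) (.node (.leaf (.up 3 1732 4)) (.leaf (.up 2 207 6))))) (.node (.node (.node (.leaf (.up 3 1500 2)) (.leaf (.up 4 2023 4))) (.node (.leaf (.up 3 1891 0)) (.leaf (.up 4 702 6)))) (.node (.node (.leaf (.up 4 1909 3)) (.leaf (.up 4 888 4))) (.node (.leaf (.up 4 1022 6)) (.leaf (.up 5 1401 2))))))) (.node (.node (.node (.node (.node (.leaf (.up 5 159 5)) (.leaf (.up 5 1844 0))) (.node (.leaf (.up 4 106 6)) (.leaf (.up 4 1332 0)))) (.node (.node (.leaf (.up 3 1547 4)) (.leaf (.up 5 447 4))) (.node (.leaf (.up 4 378 6)) (.leaf (.up 4 298 6))))) (.node (.node (.node (.leaf (.up 4 668 4)) (.leaf (.up 4 1714 2))) (.node (.leaf (.up 4 648 2)) (.leaf (.up 4 859 6)))) (.node (.node (.leaf (.up 3 1539 4)) (.leaf (.up 4 404 5))) (.node (.leaf (.up 3 1027 4)) (.leaf (.up 5 1035 5)))))) (.node (.node (.node (.node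 (.leaf (.root 256)) (.leaf (.up 5 255 5))) (.node (.leaf (.up 2 1364 0)) (.leaf (.up 4 1376 5)))) (.node (.node (.leaf (.up 3 459 2)) (.leaf (.up 3 1556 0))) (.node (.leaf (.up 3 1362 3)) (.leaf (.up 4 496 4))))) (.node (.node (.node (.leaf (.up 5 211 4)) (.leaf (.up 3 849 6))) (.node (.leaf (.up 4 1446 3)) (.leaf (.up 2 1383 4)))) (.node (.node (.leaf (.up 5 1440 3)) (.leaf (.up 4 1998 0))) (.node (.leaf (.up 5 515 6)) (.leaf (.up 3 1486 0)))))))) (.node (.node (.node (.node (.node (.node (.leaf (.up 3 405 6)) (.leaf (.up 4 1578 2))) (.node (.leaf (.up 1 2 1)) (.leaf (.up 4 1243 0)))) (.node (.node (.leaf (.up 2 1691 4)) (.leaf (.up 4 303 4))) (.node (.leaf (.up 2 1435 0)) (.leaf (.up 4 199 6))))) (.node (.node (.node (.leaf (.up 5 1968 5)) (.leaf (.up 4 156 3))) (.node (.leaf (.up 4 742 6)) (.leaf (.up 3 1809 3)))) (.node (.node (.leaf (.up 2 1661 3)) (.leaf (.up 3 1025 0))) (.node (.leaf (.up 3 1551 2)) (.leaf (.up 4 1537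 0)))))) (.node (.node (.node (.node (.leaf (.up 5 1356 2)) (.leaf (.up 3 2047 4))) (.node (.leaf (.up 5 587 4)) (.leaf (.up 3 1535 4)))) (.node (.node (.leaf (.up 5 1667 3)) (.leaf (.up 3 2043 0))) (.node (.leaf (.up 4 270 3)) (.leaf (.up 1 100 3))))) (.node (.node (.node (.leaf (.up 3 748 6)) (.leaf (.up 5 700 6))) (.node (.leaf (.up 3 506 3)) (.leaf (.up 5 1825 0)))) (.node (.node (.leaf (.up 4 1244 4)) (.leaf (.up 6 872 4))) (.node (.leaf (.up 4 1649 3)) (.leaf (.up 5 360 4))))))) (.node (.node (.node (.node (.node (.leaf (.up 4 644 4)) (.leaf (.up 3 56 6))) (.node (.leaf (.up 5 977 3)) (.leaf (.up 4 42 6)))) (.node (.node (.leaf (.up 4 1563 4)) (.leaf (.up 5 431 4))) (.node (.leaf (.up 4 1051 4)) (.leaf (.up 4 314 6))))) (.node (.node (.node (.leaf (.up 2 803 3)) (.leaf (.up 4 585 3))) (.node (.leaf (.up 3 664 2)) (.leaf (.up 3 1551 5)))) (.node (.node (.leaf (.up 3 537 6)) (.leaf (.up 4 585 6))) (.node (.leaf (.up 3 1043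 4)) (.leaf (.up 4 603 6)))))) (.node (.node (.node (.node (.leaf (.up 2 203 4)) (.leaf (.up 5 894 2))) (.node (.leaf (.up 3 715 4)) (.leaf (.up 4 1634 1)))) (.node (.node (.leaf (.up 3 475 2)) (.leaf (.up 3 763 5))) (.node (.leaf (.up 3 370 6)) (.leaf (.up 5 290 6))))) (.node (.node (.node (.leaf (.up 4 1476 2)) (.leaf (.up 4 1022 2))) (.node (.leaf (.up 4 1647 5)) (.leaf (.up 4 1399 4)))) (.node (.node (.leaf (.up 3 347 2)) (.leaf (.up 3 579 3))) (.node (.leaf (.up 3 1628 4)) (.leaf (.up 3 579 6))))))))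

noncomputable def vt2_0_0001 : Tr VStep :=
  .node (.node (.node (.node (.node (.node (.node (.leaf (.up 5 1175 5)) (.leaf (.up 4 1177 6))) (.node (.leaf (.up 4 1243 6)) (.leaf (.up 2 1163 6)))) (.node (.node (.leaf (.up 5 1215 2)) (.leaf (.up 4 1048 4))) (.node (.leaf (.up 4 1727 2)) (.leaf (.up 2 1435 6))))) (.node (.node (.node (.leaf (.up 4 182 3)) (.leaf (.up 4 2040 6))) (.node (.leaf (.up 3 1339 4)) (.leaf (.up 5 1617 3)))) (.node (.node (.leaf (.up 4 1853 3)) (.leaf (.up 4 1768 6))) (.node (.leaf (.up 2 803 1)) (.leaf (.up 4 863 0)))))) (.node (.node (.node (.node (.leaf (.root 264)) (.leaf (.up 4 421 0))) (.node (.leaf (.up 3 1219 6)) (.leaf (.up 5 360 5)))) (.node (.node (.leaf (.up 2 1473 6)) (.leaf (.up 4 2009 2))) (.node (.leaf (.up 4 995 2)) (.leaf (.up 5 1111 4))))) (.node (.node (.node (.leaf (.up 4 575 0)) (.leaf (.up 4 1629 3))) (.node (.leaf (.up 4 1788 5)) (.leaf (.up 3 579 5)))) (.node (.node (.leaf (.up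 4 319 0)) (.leaf (.up 4 470 3))) (.node (.leaf (.up 4 831 0)) (.leaf (.up 3 1369 2))))))) (.node (.node (.node (.node (.node (.leaf (.up 4 1332 6)) (.leaf (.up 4 1576 1))) (.node (.leaf (.up 4 407 5)) (.leaf (.up 3 519 4)))) (.node (.node (.leaf (.up 4 663 3)) (.leaf (.up 4 1021 3))) (.node (.leaf (.up 3 1800 5)) (.leaf (.up 4 1688 4))))) (.node (.node (.node (.leaf (.up 5 1827 5)) (.leaf (.up 2 434 0))) (.node (.leaf (.up 5 1467 4)) (.leaf (.up 3 1539 5)))) (.node (.node (.leaf (.up 4 242 0)) (.leaf (.up 4 525 2))) (.node (.leaf (.up 4 754 0)) (.leaf (.up 4 156 5)))))) (.node (.node (.node (.node (.leaf (.up 5 1532 4)) (.leaf (.up 2 1404 6))) (.node (.leaf (.up 5 1908 2)) (.leaf (.up 1 72 0)))) (.node (.node (.leaf (.up 4 355 4)) (.leaf (.up 2 1132 6))) (.node (.leaf (.up 5 667 3)) (.leaf (.up 3 1009 3))))) (.node (.node (.node (.leaf (.up 4 1506 3)) (.leaf (.up 5 1565 6))) (.node (.leaf (.up 3 978 0)) (.leaf (.up 3 1551 6))))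 (.node (.node (.leaf (.up 4 722 0)) (.leaf (.up 4 1759 4))) (.node (.leaf (.up 2 210 0)) (.leaf (.up 4 1247 4)))))))) (.node (.node (.node (.node (.node (.node (.leaf (.up 5 967 0)) (.leaf (.up 3 1161 6))) (.node (.leaf (.up 5 1741 3)) (.leaf (.up 3 903 0)))) (.node (.node (.leaf (.up 4 199 0)) (.leaf (.up 2 1433 6))) (.node (.leaf (.up 5 780 5)) (.leaf (.up 3 1544 4))))) (.node (.node (.node (.leaf (.up 3 176 2)) (.leaf (.up 5 159 4))) (.node (.leaf (.up 2 434 3)) (.leaf (.up 3 519 5)))) (.node (.node (.leaf (.up 4 285 0)) (.leaf (.up 5 263 5))) (.node (.leaf (.up 3 39 5)) (.leaf (.up 5 1770 6)))))) (.node (.node (.node (.node (.leaf (.up 2 1235 5)) (.leaf (.up 4 1169 6))) (.node (.leaf (.up 1 74 1)) (.leaf (.up 5 38 3)))) (.node (.node (.leaf (.up 2 588 5)) (.leaf (.up 5 167 0))) (.node (.leaf (.up 3 231 0)) (.leaf (.up 4 213 1))))) (.node (.node (.node (.leaf (.up 4 2040 5)) (.leaf (.up 4 720 4))) (.node (.leaf (.up 4 1970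 6)) (.leaf (.up 2 125 0)))) (.node (.node (.leaf (.up 4 1589 3)) (.leaf (.up 3 1760 6))) (.node (.leaf (.up 3 883 2)) (.leaf (.up 2 210 3))))))) (.node (.node (.node (.node (.node (.leaf (.up 2 147 5)) (.leaf (.up 5 767 3))) (.node (.leaf (.up 4 1048 3)) (.leaf (.up 4 1394 3)))) (.node (.node (.leaf (.up 4 1054 3)) (.leaf (.up 5 1396 3))) (.node (.leaf (.up 3 316 4)) (.leaf (.up 5 874 0))))) (.node (.node (.node (.leaf (.up 4 496 0)) (.leaf (.up 4 1408 3))) (.node (.leaf (.up 4 1451 4)) (.leaf (.up 3 664 5)))) (.node (.node (.leaf (.up 3 1063 2)) (.leaf (.up 3 176 0))) (.node (.leaf (.up 4 308 4)) (.leaf (.up 4 1815 6)))))) (.node (.node (.node (.node (.leaf (.up 4 1340 6)) (.leaf (.up 1 74 0))) (.node (.leaf (.up 4 921 3)) (.leaf (.up 2 1406 6)))) (.node (.node (.leaf (.up 5 371 4)) (.leaf (.up 2 757 3))) (.node (.leaf (.up 3 883 4)) (.leaf (.up 2 1473 2))))) (.node (.node (.node (.leaf (.up 4 875 3)) (.leaf (.up 3 400 0)))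 (.node (.leaf (.up 5 1615 6)) (.leaf (.up 4 912 0)))) (.node (.node (.leaf (.up 4 833 1)) (.leaf (.up 4 1418 3))) (.node (.leaf (.up 4 720 0)) (.leaf (.up 3 519 3))))))))

noncomputable def vt2_0_000 : Tr VStep := .node vt2_0_0000 vt2_0_0001

noncomputable def vt2_0_0010 : Tr VStep :=
  .node (.node (.node (.node (.node (.node (.node (.leaf (.up 3 1929 2)) (.leaf (.up 5 435 2))) (.node (.leaf (.up 3 272 5)) (.leaf (.up 5 1455 5)))) (.node (.node (.leaf (.up 1 2 3)) (.leaf (.up 4 1718 4))) (.node (.leaf (.up 2 147 6)) (.leaf (.up 4 1206 4))))) (.node (.node (.node (.leaf (.up 4 1801 2)) (.leaf (.up 4 307 2))) (.node (.leaf (.up 3 738 6)) (.leaf (.up 2 33 4)))) (.node (.node (.leaf (.up 5 315 5)) (.leaf (.up 3 162 1))) (.node (.leaf (.up 4 406 2)) (.leaf (.up 4 27 5)))))) (.node (.node (.node (.node (.leaf (.up 5 393 6)) (.leaf (.up 3 102 4))) (.node (.leaf (.up 4 213 2)) (.leaf (.up 3 459 6)))) (.node (.node (.leaf (.up 4 1923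 3)) (.leaf (.up 3 112 2))) (.node (.leaf (.up 4 1981 0)) (.leaf (.up 4 219 6))))) (.node (.node (.node (.leaf (.up 4 744 6)) (.leaf (.up 4 1988 5))) (.node (.leaf (.up 2 125 1)) (.leaf (.up 2 1661 1)))) (.node (.node (.leaf (.up 4 837 4)) (.leaf (.up 3 347 5))) (.node (.leaf (.up 3 123 5)) (.leaf (.up 3 1063 0))))))) (.node (.node (.node (.node (.node (.leaf (.up 4 1372 3)) (.leaf (.up 5 60 6))) (.node (.leaf (.up 4 1392 0)) (.leaf (.up 4 46 6)))) (.node (.node (.leaf (.up 4 310 1)) (.leaf (.up 5 1584 0))) (.node (.leaf (.up 4 898 4)) (.leaf (.up 4 318 6))))) (.node (.node (.node (.leaf (.up 4 1301 4)) (.leaf (.up 5 315 2))) (.node (.leaf (.up 4 1454 3)) (.leaf (.up 3 827 2)))) (.node (.node (.leaf (.up 4 394 4)) (.leaf (.up 5 1598 4))) (.node (.leaf (.up 4 549 3)) (.leaf (.up 5 132 5)))))) (.node (.node (.node (.node (.leaf (.root 199)) (.leaf (.up 5 1808 0))) (.node (.leaf (.up 2 1872 0)) (.leaf (.up 4 742 4)))) (.node (.node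 (.leaf (.up 3 1602 2)) (.leaf (.up 4 308 6))) (.node (.leaf (.up 2 975 5)) (.leaf (.up 5 945 3))))) (.node (.node (.node (.leaf (.up 4 605 2)) (.leaf (.up 4 837 6))) (.node (.leaf (.up 4 1370 4)) (.leaf (.up 3 708 5)))) (.node (.node (.leaf (.up 4 965 4)) (.leaf (.up 4 1137 4))) (.node (.leaf (.up 4 1418 0)) (.leaf (.up 4 1994 0)))))))) (.node (.node (.node (.node (.node (.node (.leaf (.up 3 256 3)) (.leaf (.up 4 1247 0))) (.node (.leaf (.up 2 1433 2)) (.leaf (.up 2 931 2)))) (.node (.node (.leaf (.up 3 774 2)) (.leaf (.up 4 193 6))) (.node (.leaf (.up 3 786 4)) (.leaf (.up 3 1852 2))))) (.node (.node (.node (.leaf (.up 4 831 5)) (.leaf (.up 4 1285 0))) (.node (.leaf (.up 4 754 6)) (.leaf (.up 2 803 2)))) (.node (.node (.leaf (.up 3 902 2)) (.leaf (.up 4 1468 2))) (.node (.leaf (.up 5 994 6)) (.leaf (.up 3 1029 0)))))) (.node (.node (.node (.node (.leaf (.up 5 1483 1)) (.leaf (.up 2 116 5))) (.node (.leaf (.up 4 1727 0)) (.leaf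 (.up 3 459 1)))) (.node (.node (.leaf (.up 4 137 6)) (.leaf (.up 1 96 2))) (.node (.leaf (.up 5 1995 5)) (.leaf (.up 2 203 6))))) (.node (.node (.node (.leaf (.up 4 1994 4)) (.leaf (.up 4 863 5))) (.node (.leaf (.up 4 1651 3)) (.leaf (.up 4 1817 3)))) (.node (.node (.leaf (.up 3 853 4)) (.leaf (.up 4 1249 4))) (.node (.leaf (.up 3 1018 6)) (.leaf (.up 4 938 6))))))) (.node (.node (.node (.node (.node (.leaf (.up 3 1937 2)) (.leaf (.up 5 44 6))) (.node (.leaf (.up 3 1906 0)) (.leaf (.up 5 1330 0)))) (.node (.node (.leaf (.up 3 1556 5)) (.leaf (.up 3 316 6))) (.node (.leaf (.up 4 270 2)) (.leaf (.up 4 302 6))))) (.node (.node (.node (.leaf (.up 3 1809 2)) (.leaf (.up 4 1768 0))) (.node (.leaf (.up 3 1297 2)) (.leaf (.up 4 863 6)))) (.node (.node (.leaf (.up 4 525 6)) (.leaf (.up 4 605 6))) (.node (.leaf (.up 3 922 4)) (.leaf (.up 4 1478 3)))))) (.node (.node (.node (.node (.leaf (.up 1 100 6)) (.leaf (.up 4 52 6))) (.node (.leaf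 (.up 3 118 6)) (.leaf (.up 4 1810 0)))) (.node (.node (.leaf (.up 3 715 5)) (.leaf (.up 4 1129 4))) (.node (.leaf (.up 3 1876 5)) (.leaf (.up 4 310 6))))) (.node (.node (.node (.leaf (.up 5 1866 4)) (.leaf (.up 3 853 6))) (.node (.leaf (.up 4 1190 3)) (.leaf (.up 4 1736 0)))) (.node (.node (.leaf (.up 4 1746 2)) (.leaf (.up 4 1992 0))) (.node (.leaf (.up 3 519 6)) (.leaf (.up 4 744 2))))))))

noncomputable def vt2_0_0011 : Tr VStep :=
  .node (.node (.node (.node (.node (.node (.node (.leaf (.up 5 64 3)) (.leaf (.up 3 385 0))) (.node (.leaf (.up 5 1231 6)) (.leaf (.up 4 1183 6)))) (.node (.node (.leaf (.up 4 193 0)) (.leaf (.up 3 641 0))) (.node (.leaf (.up 4 310 2)) (.leaf (.up 3 1423 6))))) (.node (.node (.node (.leaf (.up 3 1855 3)) (.leaf (.up 4 1932 5))) (.node (.leaf (.up 4 27 0)) (.leaf (.up 4 603 0)))) (.node (.node (.leaf (.up 4 180 3)) (.leaf (.up 4 859 0))) (.node (.leaf (.up 3 51 5)) (.leaf (.up 3 347 0)))))) (.node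 (.node (.node (.node (.leaf (.root 201)) (.leaf (.up 5 1231 2))) (.node (.leaf (.up 1 76 3)) (.leaf (.up 5 417 0)))) (.node (.node (.leaf (.up 1 74 3)) (.leaf (.up 4 288 3))) (.node (.leaf (.up 3 1479 6)) (.leaf (.up 4 888 5))))) (.node (.node (.node (.leaf (.up 4 765 4)) (.leaf (.up 4 468 3))) (.node (.leaf (.up 5 1974 6)) (.leaf (.up 3 123 0)))) (.node (.node (.leaf (.up 3 1845 3)) (.leaf (.up 4 470 4))) (.node (.leaf (.up 5 315 0)) (.leaf (.up 4 720 2))))))) (.node (.node (.node (.node (.node (.leaf (.up 4 661 3)) (.leaf (.up 4 1392 6))) (.node (.leaf (.up 3 1304 3)) (.leaf (.up 4 1138 3)))) (.node (.node (.leaf (.up 4 1560 5)) (.leaf (.up 5 785 4))) (.node (.leaf (.up 3 903 5)) (.leaf (.up 4 1138 6))))) (.node (.node (.node (.leaf (.up 5 1825 2)) (.leaf (.up 3 1926 4))) (.node (.leaf (.up 4 1619 6)) (.leaf (.up 3 1539 6)))) (.node (.node (.leaf (.up 4 1873 6)) (.leaf (.up 4 1412 2))) (.node (.leaf (.up 5 1859 6)) (.leaf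 (.up 3 281 4)))))) (.node (.node (.node (.node (.leaf (.up 4 765 2)) (.leaf (.up 1 76 0))) (.node (.leaf (.up 5 455 5)) (.leaf (.up 2 588 0)))) (.node (.node (.leaf (.up 4 1634 2)) (.leaf (.up 2 1144 6))) (.node (.leaf (.up 5 894 1)) (.leaf (.up 2 1144 3))))) (.node (.node (.node (.leaf (.up 4 1625 6)) (.leaf (.up 4 1545 6))) (.node (.leaf (.up 2 125 2)) (.leaf (.up 4 1563 6)))) (.node (.node (.leaf (.up 3 1762 2)) (.leaf (.up 4 662 0))) (.node (.leaf (.up 3 1139 5)) (.leaf (.up 5 204 5)))))))) (.node (.node (.node (.node (.node (.node (.leaf (.up 3 170 4)) (.leaf (.up 3 1181 6))) (.node (.leaf (.up 4 1923 1)) (.leaf (.up 4 1167 6)))) (.node (.node (.leaf (.up 4 1077 4)) (.leaf (.up 4 897 4))) (.node (.leaf (.up 4 1923 5)) (.leaf (.up 2 643 0))))) (.node (.node (.node (.leaf (.up 3 162 4)) (.leaf (.up 5 601 0))) (.node (.leaf (.up 3 537 0)) (.leaf (.up 4 89 0)))) (.node (.node (.leaf (.up 3 1085 4)) (.leaf (.up 5 345 0))) (.node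 (.leaf (.up 3 281 0)) (.leaf (.up 5 1790 6)))))) (.node (.node (.node (.node (.leaf (.up 3 328 3)) (.leaf (.up 4 1247 2))) (.node (.leaf (.up 2 1223 6)) (.leaf (.up 2 931 0)))) (.node (.node (.leaf (.up 2 1731 3)) (.leaf (.up 3 675 0))) (.node (.leaf (.up 3 334 3)) (.leaf (.up 4 2019 5))))) (.node (.node (.node (.leaf (.up 4 749 4)) (.leaf (.up 3 1369 4))) (.node (.leaf (.up 3 237 4)) (.leaf (.up 4 208 3)))) (.node (.node (.leaf (.up 4 1650 4)) (.leaf (.up 2 889 0))) (.node (.leaf (.up 4 1718 6)) (.leaf (.up 4 1766 6))))))) (.node (.node (.node (.node (.node (.leaf (.up 4 42 4)) (.leaf (.up 4 1376 6))) (.node (.leaf (.up 3 913 3)) (.leaf (.up 2 931 1)))) (.node (.node (.leaf (.up 2 643 5)) (.leaf (.up 3 1596 5))) (.node (.leaf (.up 3 1820 5)) (.leaf (.up 2 931 5))))) (.node (.node (.node (.leaf (.up 4 1012 0)) (.leaf (.up 3 904 5))) (.node (.leaf (.up 4 1262 3)) (.leaf (.up 4 1412 3)))) (.node (.node (.leaf (.up 5 1857 6)) (.leaf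 (.up 3 1809 6))) (.node (.leaf (.up 4 869 3)) (.leaf (.up 4 180 0)))))) (.node (.node (.node (.node (.leaf (.up 4 195 5)) (.leaf (.up 3 1400 6))) (.node (.leaf (.up 3 237 2)) (.leaf (.up 2 1751 2)))) (.node (.node (.leaf (.up 3 1628 5)) (.leaf (.up 1 72 2))) (.node (.leaf (.up 4 270 0)) (.leaf (.up 3 1146 6))))) (.node (.node (.node (.leaf (.up 3 1000 5)) (.leaf (.up 5 1111 2))) (.node (.leaf (.up 4 980 0)) (.leaf (.up 3 1547 6)))) (.node (.node (.leaf (.up 4 1399 5)) (.leaf (.up 4 1801 6))) (.node (.leaf (.up 5 1266 2)) (.leaf (.up 5 1111 5))))))))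

noncomputable def vt2_0_001 : Tr VStep := .node vt2_0_0010 vt2_0_0011

noncomputable def vt2_0_00 : Tr VStep := .node vt2_0_000 vt2_0_001

noncomputable def vt2_0_0100 : Tr VStep :=
  .node (.node (.node (.node (.node (.node (.node (.leaf (.root 97)) (.leaf (.up 4 636 3))) (.node (.leaf (.up 3 903 6)) (.leaf (.up 5 1225 0)))) (.node (.node (.leaf (.up 3 1929 0)) (.leaf (.up 4 310 5))) (.node (.leaf (.up 3 1161 4)) (.leaf (.up 5 1193 5))))) (.node (.node (.node (.leaf (.up 4 1129 3)) (.leaf (.up 4 1450 4))) (.node (.leaf (.up 5 1442 5)) (.leaf (.up 4 285 5)))) (.node (.node (.leaf (.up 4 1619 0)) (.leaf (.up 3 1043 0))) (.node (.leaf (.up 3 1107 0)) (.leaf (.up 3 39 2)))))) (.node (.node (.node (.node (.leaf (.up 4 89 4)) (.leaf (.up 3 1257 0))) (.node (.leaf (.up 5 1193 0)) (.leaf (.up 2 975 6)))) (.node (.node (.leaf (.up 5 796 3)) (.leaf (.up 2 1513 5))) (.node (.leaf (.up 4 1169 3)) (.leaf (.up 2 719 1))))) (.node (.node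 (.node (.leaf (.up 3 1000 3)) (.leaf (.up 5 1331 0))) (.node (.leaf (.up 4 593 4)) (.leaf (.up 5 174 6)))) (.node (.node (.leaf (.up 3 1139 0)) (.leaf (.up 5 1587 0))) (.node (.leaf (.up 4 833 2)) (.leaf (.up 4 378 4))))))) (.node (.node (.node (.node (.node (.leaf (.up 4 662 4)) (.leaf (.up 5 568 6))) (.node (.leaf (.up 5 522 2)) (.leaf (.up 4 554 6)))) (.node (.node (.leaf (.up 4 1545 4)) (.leaf (.up 4 808 6))) (.node (.leaf (.up 4 137 5)) (.leaf (.up 5 826 6))))) (.node (.node (.node (.leaf (.up 2 670 4)) (.leaf (.up 4 1712 2))) (.node (.leaf (.up 4 283 6)) (.leaf (.up 5 91 3)))) (.node (.node (.leaf (.up 3 25 6)) (.leaf (.up 4 73 6))) (.node (.leaf (.up 3 1025 4)) (.leaf (.up 5 91 6)))))) (.node (.node (.node (.node (.leaf (.up 3 1602 3)) (.leaf (.up 5 1796 0))) (.node (.leaf (.up 3 112 1)) (.leaf (.up 3 1389 4)))) (.node (.node (.leaf (.up 2 1094 4)) (.leaf (.up 4 163 3))) (.node (.leaf (.up 3 1110 5)) (.leaf (.up 5 802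 6))))) (.node (.node (.node (.leaf (.up 2 1182 0)) (.leaf (.up 4 87 3))) (.node (.leaf (.up 2 482 5)) (.leaf (.up 2 1373 5)))) (.node (.node (.leaf (.up 1 1 6)) (.leaf (.up 3 1018 4))) (.node (.leaf (.up 4 19 6)) (.leaf (.up 3 506 4)))))))) (.node (.node (.node (.node (.node (.node (.leaf (.up 3 518 4)) (.leaf (.up 4 1576 2))) (.node (.leaf (.up 2 1163 0)) (.leaf (.up 4 888 3)))) (.node (.node (.leaf (.up 3 1689 4)) (.leaf (.up 5 301 4))) (.node (.leaf (.up 2 1433 3)) (.leaf (.up 3 1267 3))))) (.node (.node (.node (.leaf (.up 4 526 4)) (.leaf (.up 3 1297 0))) (.node (.leaf (.up 3 1389 3)) (.leaf (.up 3 1809 0)))) (.node (.node (.leaf (.up 4 1037 2)) (.leaf (.up 3 1025 3))) (.node (.leaf (.up 4 1169 4)) (.leaf (.up 4 55 2)))))) (.node (.node (.node (.node (.leaf (.up 4 850 5)) (.leaf (.up 3 1771 0))) (.node (.leaf (.up 4 585 4)) (.leaf (.up 3 1259 0)))) (.node (.node (.leaf (.up 4 1229 1)) (.leaf (.up 2 733 6))) (.node (.leaf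 (.up 3 1750 4)) (.leaf (.up 2 719 6))))) (.node (.node (.node (.leaf (.up 1 65 4)) (.leaf (.up 4 1012 2))) (.node (.leaf (.up 3 748 3)) (.leaf (.up 3 902 3)))) (.node (.node (.leaf (.up 4 1766 5)) (.leaf (.up 5 874 4))) (.node (.leaf (.up 2 1383 3)) (.leaf (.up 4 1037 3))))))) (.node (.node (.node (.node (.node (.leaf (.up 4 1810 5)) (.leaf (.up 5 552 6))) (.node (.leaf (.up 4 199 3)) (.leaf (.up 4 429 3)))) (.node (.node (.leaf (.up 4 193 3)) (.leaf (.up 4 429 4))) (.node (.leaf (.up 4 1049 4)) (.leaf (.up 5 810 6))))) (.node (.node (.node (.leaf (.up 3 281 6)) (.leaf (.up 3 329 6))) (.node (.leaf (.up 4 142 4)) (.leaf (.up 3 347 6)))) (.node (.node (.leaf (.up 1 9 6)) (.leaf (.up 4 575 2))) (.node (.leaf (.up 3 51 3)) (.leaf (.up 3 902 5)))))) (.node (.node (.node (.node (.leaf (.up 2 203 3)) (.leaf (.up 3 1906 5))) (.node (.leaf (.up 4 1350 0)) (.leaf (.up 3 1405 4)))) (.node (.node (.leaf (.up 2 1094 0)) (.leaf (.up 3 237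 1))) (.node (.leaf (.up 3 985 2)) (.leaf (.up 2 482 4))))) (.node (.node (.node (.leaf (.up 3 257 6)) (.leaf (.up 4 1113 5))) (.node (.leaf (.up 3 57 3)) (.leaf (.up 5 1397 4)))) (.node (.node (.leaf (.up 5 345 2)) (.leaf (.up 1 65 6))) (.node (.leaf (.up 4 3 6)) (.leaf (.up 3 1752 3))))))))

noncomputable def vt2_0_0101 : Tr VStep :=
  .node (.node (.node (.node (.node (.node (.node (.leaf (.up 4 1247 3)) (.leaf (.up 3 405 0))) (.node (.leaf (.up 4 850 3)) (.leaf (.up 2 1691 6)))) (.node (.node (.leaf (.up 4 213 0)) (.leaf (.up 4 1050 4))) (.node (.leaf (.up 5 1241 3)) (.leaf (.up 4 1931 6))))) (.node (.node (.node (.leaf (.up 3 162 2)) (.leaf (.up 4 1688 2))) (.node (.leaf (.up 4 1450 6)) (.leaf (.up 4 1418 5)))) (.node (.node (.leaf (.up 3 271 0)) (.leaf (.up 3 519 2))) (.node (.leaf (.up 4 307 1)) (.leaf (.up 5 789 5)))))) (.node (.node (.node (.node (.leaf (.root 448)) (.leaf (.up 4 564 3))) (.node (.leaf (.up 2 1235 3))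 (.leaf (.up 4 437 0)))) (.node (.node (.leaf (.up 2 1473 5)) (.leaf (.up 5 382 5))) (.node (.leaf (.up 3 245 0)) (.leaf (.up 4 1249 5))))) (.node (.node (.node (.leaf (.up 5 1057 3)) (.leaf (.up 4 1355 3))) (.node (.leaf (.up 5 1458 6)) (.leaf (.up 3 710 3)))) (.node (.node (.leaf (.up 4 938 3)) (.leaf (.up 4 1629 4))) (.node (.leaf (.up 2 885 5)) (.leaf (.up 3 1117 4))))))) (.node (.node (.node (.node (.node (.leaf (.up 3 1546 3)) (.leaf (.up 5 1908 6))) (.node (.leaf (.up 3 641 5)) (.leaf (.up 3 237 3)))) (.node (.node (.leaf (.up 3 385 3)) (.leaf (.up 5 1178 4))) (.node (.leaf (.up 4 302 4)) (.leaf (.up 4 888 0))))) (.node (.node (.node (.leaf (.up 2 482 0)) (.leaf (.up 4 138 5))) (.node (.leaf (.up 4 426 5)) (.leaf (.up 4 1301 5)))) (.node (.node (.leaf (.up 3 738 0)) (.leaf (.up 3 162 0))) (.node (.leaf (.up 3 1845 5)) (.leaf (.up 3 25 3)))))) (.node (.node (.node (.node (.leaf (.up 3 1852 6)) (.leaf (.up 3 1900 6))) (.node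 (.leaf (.up 5 2046 4)) (.leaf (.up 1 74 4)))) (.node (.node (.leaf (.up 5 1374 5)) (.leaf (.up 2 481 5))) (.node (.leaf (.up 4 193 5)) (.leaf (.up 3 231 3))))) (.node (.node (.node (.leaf (.up 3 1117 6)) (.leaf (.up 4 1037 6))) (.node (.leaf (.up 4 377 3)) (.leaf (.up 4 19 3)))) (.node (.node (.leaf (.up 4 1653 5)) (.leaf (.up 6 1875 2))) (.node (.leaf (.up 4 873 2)) (.leaf (.up 5 130 0)))))))) (.node (.node (.node (.node (.node (.node (.leaf (.up 5 1825 4)) (.leaf (.up 3 1689 6))) (.node (.leaf (.up 5 562 2)) (.leaf (.up 4 661 4)))) (.node (.node (.leaf (.up 4 2009 6)) (.leaf (.up 3 1929 6))) (.node (.leaf (.up 5 446 4)) (.leaf (.up 3 1546 4))))) (.node (.node (.node (.leaf (.up 4 178 2)) (.leaf (.up 4 1091 3))) (.node (.leaf (.up 4 1466 6)) (.leaf (.up 5 974 3)))) (.node (.node (.leaf (.up 4 1710 5)) (.leaf (.up 5 968 3))) (.node (.leaf (.up 2 1327 3)) (.leaf (.up 5 1093 3)))))) (.node (.node (.node (.node (.leaf (.up 3 1390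 2)) (.leaf (.up 5 890 5))) (.node (.leaf (.up 2 1731 6)) (.leaf (.up 5 340 2)))) (.node (.node (.leaf (.up 3 1985 6)) (.leaf (.up 3 1937 6))) (.node (.leaf (.up 3 1009 2)) (.leaf (.up 4 1923 6))))) (.node (.node (.node (.leaf (.up 4 1262 5)) (.leaf (.up 4 722 4))) (.node (.leaf (.up 5 1442 6)) (.leaf (.up 2 210 4)))) (.node (.node (.leaf (.up 5 301 0)) (.leaf (.up 5 1264 6))) (.node (.leaf (.up 4 1202 6)) (.leaf (.up 3 849 5))))))) (.node (.node (.node (.node (.node (.leaf (.up 4 1953 4)) (.leaf (.up 5 1536 2))) (.node (.leaf (.up 5 1441 4)) (.leaf (.up 4 677 5)))) (.node (.node (.leaf (.up 3 1800 3)) (.leaf (.up 4 421 5))) (.node (.leaf (.up 4 133 3)) (.leaf (.up 4 378 0))))) (.node (.node (.node (.leaf (.up 5 1109 6)) (.leaf (.up 3 1029 6))) (.node (.leaf (.up 5 1449 4)) (.leaf (.up 3 1047 6)))) (.node (.node (.leaf (.up 5 119 3)) (.leaf (.up 3 1297 1))) (.node (.leaf (.up 4 310 4)) (.leaf (.up 3 1287 6)))))) (.node (.node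 (.node (.node (.leaf (.up 5 1882 5)) (.leaf (.up 2 1640 3))) (.node (.leaf (.up 5 1854 6)) (.leaf (.up 3 485 3)))) (.node (.node (.leaf (.up 3 1596 6)) (.leaf (.up 3 1644 6))) (.node (.leaf (.up 4 1582 6)) (.leaf (.up 3 1662 6))))) (.node (.node (.node (.leaf (.up 2 125 3)) (.leaf (.up 5 988 2))) (.node (.leaf (.up 3 2022 2)) (.leaf (.up 4 1039 6)))) (.node (.node (.leaf (.up 2 1373 6)) (.leaf (.up 4 1293 6))) (.node (.leaf (.up 2 889 2)) (.leaf (.up 4 1229 4))))))))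

noncomputable def vt2_0_010 : Tr VStep := .node vt2_0_0100 vt2_0_0101

noncomputable def vt2_0_0110 : Tr VStep :=
  .node (.node (.node (.node (.node (.node (.node (.leaf (.up 4 1931 2)) (.leaf (.up 4 1525 3))) (.node (.leaf (.up 2 1433 1)) (.leaf (.up 4 963 6)))) (.node (.node (.leaf (.up 3 256 4)) (.leaf (.up 5 1716 4))) (.node (.leaf (.up 2 643 6)) (.leaf (.up 5 38 5))))) (.node (.node (.node (.leaf (.up 4 1202 5)) (.leaf (.up 3 176 6))) (.node (.leaf (.up 4 242 6)) (.leaf (.up 2 817 2)))) (.node (.node (.leaf (.up 4 496 6)) (.leaf (.up 4 1559 0))) (.node (.leaf (.up 2 482 6)) (.leaf (.up 2 434 6)))))) (.node (.node (.node (.node (.leaf (.up 4 921 6)) (.leaf (.up 1 100 4))) (.node (.leaf (.up 4 907 6)) (.leaf (.up 3 1529 3)))) (.node (.node (.leaf (.up 5 847 4)) (.leaf (.up 3 1535 3))) (.node (.leaf (.up 5 667 6)) (.leaf (.up 3 715 6))))) (.node (.node (.node (.leaf (.up 3 2008 4)) (.leaf (.up 5 1291 3))) (.node (.leaf (.up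 2 1522 5)) (.leaf (.up 4 1335 0)))) (.node (.node (.leaf (.up 4 1736 2)) (.leaf (.up 3 1267 4))) (.node (.leaf (.up 3 506 6)) (.leaf (.up 4 1293 3))))))) (.node (.node (.node (.node (.node (.leaf (.up 4 1923 2)) (.leaf (.up 4 556 6))) (.node (.leaf (.up 5 455 3)) (.leaf (.up 5 574 6)))) (.node (.node (.leaf (.up 5 796 2)) (.leaf (.up 4 828 6))) (.node (.leaf (.up 5 894 6)) (.leaf (.up 4 814 6))))) (.node (.node (.node (.leaf (.up 4 285 6)) (.leaf (.up 3 675 4))) (.node (.leaf (.up 2 434 5)) (.leaf (.up 4 1293 5)))) (.node (.node (.leaf (.up 4 1978 0)) (.leaf (.up 3 1596 4))) (.node (.leaf (.up 3 1837 5)) (.leaf (.up 4 89 3)))))) (.node (.node (.node (.node (.leaf (.up 2 1872 4)) (.leaf (.up 3 1253 2))) (.node (.leaf (.up 3 1529 1)) (.leaf (.up 5 1792 0)))) (.node (.node (.leaf (.up 2 975 4)) (.leaf (.up 5 1536 0))) (.node (.leaf (.up 2 1088 2)) (.leaf (.up 4 1126 5))))) (.node (.node (.node (.leaf (.up 4 242 5)) (.leaf (.up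 4 341 6))) (.node (.leaf (.up 3 1389 5)) (.leaf (.up 3 748 4)))) (.node (.node (.leaf (.up 4 319 3)) (.leaf (.up 3 250 2))) (.node (.leaf (.up 4 1714 3)) (.leaf (.up 2 210 1)))))))) (.node (.node (.node (.node (.node (.node (.leaf (.up 2 1435 1)) (.leaf (.up 4 1981 5))) (.node (.leaf (.up 2 1435 2)) (.leaf (.up 5 1231 0)))) (.node (.node (.leaf (.up 3 272 4)) (.leaf (.up 4 1700 4))) (.node (.leaf (.up 1 2 5)) (.leaf (.up 5 1796 1))))) (.node (.node (.node (.leaf (.up 5 240 6)) (.leaf (.up 3 289 2))) (.node (.leaf (.up 3 226 6)) (.leaf (.up 3 51 4)))) (.node (.node (.leaf (.up 3 738 3)) (.leaf (.up 3 904 3))) (.node (.leaf (.up 4 809 5)) (.leaf (.up 3 1029 3)))))) (.node (.node (.node (.node (.leaf (.up 5 2013 5)) (.leaf (.up 2 116 4))) (.node (.leaf (.up 4 199 2)) (.leaf (.up 3 971 6)))) (.node (.node (.leaf (.up 4 863 4)) (.leaf (.up 3 1259 4))) (.node (.leaf (.up 4 651 6)) (.leaf (.up 3 1519 0))))) (.node (.node (.node (.leaf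 (.up 4 1270 5)) (.leaf (.up 4 73 5))) (.node (.leaf (.up 3 250 6)) (.leaf (.up 2 1661 2)))) (.node (.node (.leaf (.up 3 1752 2)) (.leaf (.up 3 1750 5))) (.node (.leaf (.up 4 1653 0)) (.leaf (.up 3 738 2))))))) (.node (.node (.node (.node (.node (.leaf (.up 4 195 3)) (.leaf (.up 4 699 4))) (.node (.leaf (.up 5 1378 0)) (.leaf (.up 5 558 6)))) (.node (.node (.leaf (.up 3 400 4)) (.leaf (.up 4 812 6))) (.node (.leaf (.up 4 1634 0)) (.leaf (.up 5 830 6))))) (.node (.node (.node (.leaf (.up 3 1287 4)) (.leaf (.up 3 1750 3))) (.node (.leaf (.up 4 49 3)) (.leaf (.up 3 347 3)))) (.node (.node (.leaf (.up 4 55 3)) (.leaf (.up 4 2040 0))) (.node (.leaf (.up 4 920 4)) (.leaf (.up 4 1801 5)))))) (.node (.node (.node (.node (.leaf (.up 2 719 2)) (.leaf (.up 4 1021 5))) (.node (.leaf (.up 2 733 5)) (.leaf (.up 4 421 3)))) (.node (.node (.leaf (.up 3 477 5)) (.leaf (.up 4 106 2))) (.node (.leaf (.up 4 1104 2)) (.leaf (.up 4 1582 3))))) (.node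 (.node (.node (.leaf (.up 4 1129 5)) (.leaf (.up 3 1752 0))) (.node (.leaf (.up 4 1688 0)) (.leaf (.up 3 1754 3)))) (.node (.node (.leaf (.up 5 1974 3)) (.leaf (.up 4 85 6))) (.node (.leaf (.up 6 471 4)) (.leaf (.up 3 2008 0))))))))

noncomputable def vt2_0_0111 : Tr VStep :=
  .node (.node (.node (.node (.node (.node (.node (.leaf (.up 5 1741 6)) (.leaf (.up 3 913 0))) (.node (.leaf (.up 3 1937 1)) (.leaf (.up 3 1679 6)))) (.node (.node (.leaf (.up 3 1063 4)) (.leaf (.up 3 1933 6))) (.node (.leaf (.up 4 270 1)) (.leaf (.up 5 403 4))))) (.node (.node (.node (.leaf (.up 3 11 0)) (.leaf (.up 4 1347 3))) (.node (.leaf (.up 4 1466 5)) (.leaf (.up 5 785 2)))) (.node (.node (.leaf (.up 4 1071 4)) (.leaf (.up 5 1260 6))) (.node (.leaf (.up 4 1071 3)) (.leaf (.up 5 1278 6)))))) (.node (.node (.node (.node (.leaf (.up 3 1009 0)) (.leaf (.up 4 1469 3))) (.node (.leaf (.up 4 247 2)) (.leaf (.up 5 945 0)))) (.node (.node (.leaf (.up 2 1640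 2)) (.leaf (.up 5 1941 6))) (.node (.leaf (.up 3 1128 2)) (.leaf (.up 5 988 4))))) (.node (.node (.node (.leaf (.up 5 767 4)) (.leaf (.up 4 1355 4))) (.node (.leaf (.up 4 1446 6)) (.leaf (.up 4 1359 3)))) (.node (.node (.leaf (.up 4 1768 2)) (.leaf (.up 2 210 2))) (.node (.leaf (.up 4 1206 6)) (.leaf (.up 3 708 3))))))) (.node (.node (.node (.node (.node (.leaf (.up 3 913 5)) (.leaf (.up 4 1932 4))) (.node (.leaf (.up 4 1550 3)) (.leaf (.up 3 1906 6)))) (.node (.node (.leaf (.up 3 1544 3)) (.leaf (.up 5 787 4))) (.node (.leaf (.up 3 316 2)) (.leaf (.up 4 380 0))))) (.node (.node (.node (.leaf (.up 4 1788 3)) (.leaf (.up 3 281 2))) (.node (.leaf (.up 4 1091 6)) (.leaf (.up 3 1043 6)))) (.node (.node (.leaf (.up 5 956 2)) (.leaf (.up 3 1297 6))) (.node (.leaf (.up 4 742 0)) (.leaf (.up 3 1926 2)))))) (.node (.node (.node (.node (.leaf (.up 4 28 0)) (.leaf (.up 3 1912 6))) (.node (.leaf (.up 5 2033 1)) (.leaf (.up 3 1733 2))))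 (.node (.node (.leaf (.up 4 1768 4)) (.leaf (.up 2 1640 6))) (.node (.leaf (.up 4 1578 6)) (.leaf (.up 3 602 2))))) (.node (.node (.node (.leaf (.up 4 639 2)) (.leaf (.up 3 902 0))) (.node (.leaf (.up 3 506 5)) (.leaf (.up 5 1035 6)))) (.node (.node (.leaf (.up 3 1760 2)) (.leaf (.up 5 1605 5))) (.node (.leaf (.up 4 1355 6)) (.leaf (.up 5 1307 6)))))))) (.node (.node (.node (.node (.node (.node (.leaf (.up 5 1941 5)) (.leaf (.up 3 1820 4))) (.node (.leaf (.up 5 522 5)) (.leaf (.up 4 1695 6)))) (.node (.node (.leaf (.up 4 1079 4)) (.leaf (.up 3 1949 6))) (.node (.leaf (.up 5 2015 6)) (.leaf (.up 2 147 0))))) (.node (.node (.node (.leaf (.up 4 521 0)) (.leaf (.up 1 1 5))) (.node (.leaf (.up 1 9 0)) (.leaf (.up 4 585 0)))) (.node (.node (.leaf (.up 4 1196 6)) (.leaf (.up 4 907 4))) (.node (.leaf (.up 3 678 3)) (.leaf (.up 3 329 0)))))) (.node (.node (.node (.node (.leaf (.up 3 499 0)) (.leaf (.up 4 2037 5))) (.node (.leaf (.up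 2 1751 6)) (.leaf (.up 5 435 0)))) (.node (.node (.leaf (.up 3 1656 2)) (.leaf (.up 4 460 4))) (.node (.leaf (.up 1 74 5)) (.leaf (.up 5 818 3))))) (.node (.node (.node (.leaf (.up 4 751 4)) (.leaf (.up 3 1117 2))) (.node (.leaf (.up 5 1462 6)) (.leaf (.up 4 1510 6)))) (.node (.node (.leaf (.up 4 809 0)) (.leaf (.up 4 194 2))) (.node (.leaf (.up 4 297 0)) (.leaf (.up 4 1270 6))))))) (.node (.node (.node (.node (.node (.leaf (.up 5 1802 3)) (.leaf (.up 5 1632 3))) (.node (.leaf (.up 4 661 5)) (.leaf (.up 4 1578 5)))) (.node (.node (.leaf (.up 3 405 5)) (.leaf (.up 5 491 3))) (.node (.leaf (.up 4 1804 3)) (.leaf (.up 4 1650 6))))) (.node (.node (.node (.leaf (.up 5 1057 5)) (.leaf (.up 4 1041 6))) (.node (.leaf (.up 3 1107 6)) (.leaf (.up 3 1027 6)))) (.node (.node (.leaf (.up 4 702 5)) (.leaf (.up 3 1684 3))) (.node (.leaf (.up 4 1727 4)) (.leaf (.up 3 281 3)))))) (.node (.node (.node (.node (.leaf (.up 4 751 2)) (.leaf (.up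 2 481 3))) (.node (.leaf (.up 5 103 4)) (.leaf (.up 2 757 5)))) (.node (.node (.leaf (.up 4 1576 6)) (.leaf (.up 1 74 2))) (.node (.leaf (.up 4 1272 4)) (.leaf (.up 2 1642 6))))) (.node (.node (.node (.leaf (.up 4 1113 6)) (.leaf (.up 4 1033 6))) (.node (.leaf (.up 3 121 3)) (.leaf (.up 4 1051 6)))) (.node (.node (.leaf (.up 4 1353 6)) (.leaf (.up 4 644 0))) (.node (.leaf (.up 3 1752 1)) (.leaf (.up 4 1688 3))))))))

noncomputable def vt2_0_011 : Tr VStep := .node vt2_0_0110 vt2_0_0111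

noncomputable def vt2_0_01 : Tr VStep := .node vt2_0_010 vt2_0_011

noncomputable def vt2_0_0 : Tr VStep := .node vt2_0_00 vt2_0_01

noncomputable def vt2_0_1000 : Tr VStep :=
  .node (.node (.node (.node (.node (.node (.node (.leaf (.root 932)) (.leaf (.up 2 33 5))) (.node (.leaf (.up 3 257 5)) (.leaf (.up 3 289 6)))) (.node (.node (.leaf (.up 2 1182 2)) (.leaf (.up 4 1343 4))) (.node (.leaf (.up 4 1950 5)) (.leaf (.up 3 1855 4))))) (.node (.node (.node (.leaf (.up 4 1804 0)) (.leaf (.up 5 1356 0))) (.node (.leaf (.up 2 528 6)) (.leaf (.up 5 576 6)))) (.node (.node (.leaf (.up 2 643 4)) (.leaf (.up 4 1335 4))) (.node (.leaf (.up 3 768 6)) (.leaf (.up 5 576 3)))))) (.node (.node (.node (.node (.leaf (.root 926)) (.leaf (.up 4 1718 0))) (.node (.leaf (.up 4 1782 0)) (.leaf (.up 4 1206 0)))) (.node (.node (.leaf (.up 4 1113 3)) (.leaf (.up 4 2040 2))) (.node (.leaf (.up 3 708 4)) (.leaf (.up 4 702 3))))) (.node (.node (.node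 (.leaf (.up 3 1107 4)) (.leaf (.up 3 1479 3))) (.node (.leaf (.up 4 1619 4)) (.leaf (.up 2 600 6)))) (.node (.node (.leaf (.up 4 1525 5)) (.leaf (.up 1 76 1))) (.node (.leaf (.up 4 1195 3)) (.leaf (.up 2 1473 3))))))) (.node (.node (.node (.node (.node (.leaf (.up 1 9 2)) (.leaf (.up 4 288 4))) (.node (.leaf (.up 4 521 2)) (.leaf (.up 5 97 3)))) (.node (.node (.leaf (.up 2 670 5)) (.leaf (.up 5 103 3))) (.node (.leaf (.up 3 11 4)) (.leaf (.up 4 460 6))))) (.node (.node (.node (.leaf (.up 4 137 2)) (.leaf (.up 2 147 3))) (.node (.leaf (.up 4 1005 6)) (.leaf (.up 3 1546 5)))) (.node (.node (.leaf (.up 4 1650 3)) (.leaf (.up 4 1816 3))) (.node (.leaf (.up 4 765 6)) (.leaf (.up 3 1975 4)))))) (.node (.node (.node (.node (.leaf (.up 4 1243 4)) (.leaf (.up 4 109 3))) (.node (.leaf (.up 5 148 6)) (.leaf (.up 4 2016 3)))) (.node (.node (.leaf (.up 4 1051 0)) (.leaf (.up 3 2022 3))) (.node (.leaf (.up 3 970 2)) (.leaf (.up 4 1115 0)))))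 (.node (.node (.node (.leaf (.up 2 1235 4)) (.leaf (.up 3 1267 1))) (.node (.leaf (.up 2 1642 5)) (.leaf (.up 5 359 4)))) (.node (.node (.leaf (.up 1 76 4)) (.leaf (.up 4 2040 4))) (.node (.leaf (.up 2 588 4)) (.leaf (.up 4 1392 2)))))))) (.node (.node (.node (.node (.node (.node (.leaf (.up 5 371 6)) (.leaf (.up 3 1684 0))) (.node (.leaf (.up 5 1367 3)) (.leaf (.up 3 1085 3)))) (.node (.node (.leaf (.up 5 2004 0)) (.leaf (.up 2 1327 4))) (.node (.leaf (.up 4 732 3)) (.leaf (.up 2 33 6))))) (.node (.node (.node (.leaf (.up 3 530 6)) (.leaf (.up 3 1937 5))) (.node (.leaf (.up 4 512 6)) (.leaf (.up 4 526 5)))) (.node (.node (.leaf (.up 4 770 6)) (.leaf (.up 4 850 6))) (.node (.leaf (.up 2 147 4)) (.leaf (.up 2 1831 4)))))) (.node (.node (.node (.node (.leaf (.up 4 1099 4)) (.leaf (.up 5 315 6))) (.node (.leaf (.up 3 325 5)) (.leaf (.up 4 297 6)))) (.node (.node (.leaf (.up 3 123 6)) (.leaf (.up 5 1786 5))) (.node (.leaf (.up 2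 1373 3)) (.leaf (.up 3 57 6))))) (.node (.node (.node (.leaf (.up 4 1091 4)) (.leaf (.up 3 1390 0))) (.node (.leaf (.up 5 209 1)) (.leaf (.up 3 503 2)))) (.node (.node (.leaf (.up 5 1070 0)) (.leaf (.up 4 1221 3))) (.node (.leaf (.up 4 850 2)) (.leaf (.up 3 1384 2))))))) (.node (.node (.node (.node (.node (.leaf (.up 3 1668 4)) (.leaf (.up 5 1401 0))) (.node (.leaf (.up 3 537 2)) (.leaf (.up 4 1768 3)))) (.node (.node (.leaf (.up 4 539 4)) (.leaf (.up 5 1455 4))) (.node (.leaf (.up 1 9 3)) (.leaf (.up 4 355 3))))) (.node (.node (.node (.leaf (.up 5 945 5)) (.leaf (.up 5 1562 3))) (.node (.leaf (.up 4 1021 6)) (.leaf (.up 4 407 3)))) (.node (.node (.leaf (.up 4 1507 0)) (.leaf (.up 4 1447 4))) (.node (.leaf (.up 4 19 4)) (.leaf (.up 4 1038 5)))))) (.node (.node (.node (.node (.leaf (.up 5 1093 5)) (.leaf (.up 3 250 5))) (.node (.leaf (.up 4 3 3)) (.leaf (.up 3 1369 0)))) (.node (.node (.leaf (.up 5 390 6)) (.leaf (.up 4 470 6)))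 (.node (.leaf (.up 4 1049 0)) (.leaf (.up 3 1762 3))))) (.node (.node (.node (.leaf (.up 3 1477 2)) (.leaf (.up 5 1667 0))) (.node (.leaf (.up 2 1731 0)) (.leaf (.up 5 375 4)))) (.node (.node (.leaf (.up 3 1987 0)) (.leaf (.up 5 1552 3))) (.node (.leaf (.up 2 757 6)) (.leaf (.up 4 1923 0))))))))

noncomputable def vt2_0_1001 : Tr VStep :=
  .node (.node (.node (.node (.node (.node (.node (.leaf (.root 1240)) (.leaf (.up 3 970 0))) (.node (.leaf (.up 3 1085 6)) (.leaf (.up 3 1405 3)))) (.node (.node (.leaf (.up 4 1686 5)) (.leaf (.up 4 644 2))) (.node (.leaf (.up 4 1325 6)) (.leaf (.up 3 1405 6))))) (.node (.node (.node (.leaf (.up 3 827 4)) (.leaf (.up 2 1691 1))) (.node (.leaf (.up 5 315 4)) (.leaf (.up 3 1679 4)))) (.node (.node (.leaf (.up 4 1469 5)) (.leaf (.up 3 272 0))) (.node (.leaf (.up 5 1251 3)) (.leaf (.up 2 528 4)))))) (.node (.node (.node (.node (.leaf (.up 3 1405 2)) (.leaf (.up 4 1736 4))) (.node (.leaf (.up 3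 329 5)) (.leaf (.up 3 1141 6)))) (.node (.node (.leaf (.up 2 482 2)) (.leaf (.up 3 2008 2))) (.node (.leaf (.up 4 2019 4)) (.leaf (.up 4 234 0))))) (.node (.node (.node (.leaf (.up 3 868 3)) (.leaf (.up 4 526 3))) (.node (.leaf (.up 3 112 0)) (.leaf (.up 4 1812 6)))) (.node (.node (.leaf (.up 3 1515 4)) (.leaf (.up 5 1501 5))) (.node (.leaf (.up 3 2027 4)) (.leaf (.up 5 520 3))))))) (.node (.node (.node (.node (.node (.leaf (.up 6 1490 6)) (.leaf (.up 3 271 1))) (.node (.leaf (.up 5 435 4)) (.leaf (.up 3 1043 2)))) (.node (.node (.leaf (.up 3 1732 3)) (.leaf (.up 4 1170 6))) (.node (.leaf (.up 3 329 3)) (.leaf (.up 3 664 4))))) (.node (.node (.node (.leaf (.up 4 1715 6)) (.leaf (.up 4 1039 4))) (.node (.leaf (.up 4 1697 6)) (.leaf (.up 3 1551 4)))) (.node (.node (.leaf (.up 5 1955 6)) (.leaf (.up 4 765 0))) (.node (.leaf (.up 5 701 0)) (.leaf (.up 5 1026 5)))))) (.node (.node (.node (.node (.leaf (.up 4 1359 1)) (.leaf (.up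 3 519 0))) (.node (.leaf (.up 4 470 5)) (.leaf (.up 5 1096 4)))) (.node (.node (.leaf (.up 3 325 3)) (.leaf (.up 5 727 4))) (.node (.leaf (.up 3 1891 4)) (.leaf (.up 6 1954 3))))) (.node (.node (.node (.leaf (.up 4 1525 2)) (.leaf (.up 2 975 2))) (.node (.leaf (.up 3 1596 3)) (.leaf (.up 2 1088 4)))) (.node (.node (.leaf (.up 5 509 5)) (.leaf (.up 1 100 1))) (.node (.leaf (.up 5 874 2)) (.leaf (.up 2 733 0)))))))) (.node (.node (.node (.node (.node (.node (.leaf (.up 2 803 4)) (.leaf (.up 3 1547 2))) (.node (.leaf (.up 2 670 3)) (.leaf (.up 4 1012 3)))) (.node (.node (.leaf (.up 2 1327 6)) (.leaf (.up 4 1714 5))) (.node (.leaf (.up 4 1301 3)) (.leaf (.up 3 1389 6))))) (.node (.node (.node (.leaf (.up 5 1977 5)) (.leaf (.up 3 774 3))) (.node (.leaf (.up 5 82 0)) (.leaf (.up 2 1163 2)))) (.node (.node (.leaf (.up 5 1070 2)) (.leaf (.up 1 0 4))) (.node (.leaf (.up 3 1628 6)) (.leaf (.up 3 768 3)))))) (.node (.node (.node (.node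 (.leaf (.up 3 1063 6)) (.leaf (.up 3 1752 4))) (.node (.leaf (.up 4 1077 6)) (.leaf (.up 3 1141 3)))) (.node (.node (.leaf (.up 4 1335 6)) (.leaf (.up 2 1383 6))) (.node (.leaf (.up 5 660 3)) (.leaf (.up 4 1022 3))))) (.node (.node (.node (.leaf (.up 3 114 0)) (.leaf (.up 4 2009 5))) (.node (.leaf (.up 3 1876 6)) (.leaf (.up 5 1796 6)))) (.node (.node (.leaf (.up 3 1531 4)) (.leaf (.up 5 780 3))) (.node (.leaf (.up 2 1094 1)) (.leaf (.up 3 1556 6))))))) (.node (.node (.node (.node (.node (.leaf (.up 2 931 4)) (.leaf (.up 3 1539 2))) (.node (.leaf (.up 4 419 4)) (.leaf (.up 3 289 3)))) (.node (.node (.leaf (.up 3 1852 4)) (.leaf (.up 3 1581 5))) (.node (.leaf (.up 4 1340 4)) (.leaf (.up 4 648 4))))) (.node (.node (.node (.leaf (.up 5 447 0)) (.leaf (.up 4 921 5))) (.node (.leaf (.up 5 1844 3)) (.leaf (.up 5 1542 5)))) (.node (.node (.leaf (.up 5 1844 4)) (.leaf (.up 4 2019 6))) (.node (.leaf (.up 4 1953 6)) (.leaf (.up 4 28 2))))))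 (.node (.node (.node (.node (.leaf (.up 2 210 5)) (.leaf (.up 4 863 2))) (.node (.leaf (.up 4 1994 3)) (.leaf (.up 5 1696 3)))) (.node (.node (.leaf (.up 3 506 2)) (.leaf (.up 4 754 5))) (.node (.leaf (.up 1 65 3)) (.leaf (.up 4 199 4))))) (.node (.node (.node (.leaf (.up 5 927 0)) (.leaf (.up 3 1771 6))) (.node (.leaf (.up 4 1705 6)) (.leaf (.up 3 991 0)))) (.node (.node (.leaf (.up 4 179 3)) (.leaf (.up 2 719 4))) (.node (.leaf (.up 5 1854 3)) (.leaf (.up 2 1094 5))))))))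

noncomputable def vt2_0_100 : Tr VStep := .node vt2_0_1000 vt2_0_1001

noncomputable def vt2_0_1010 : Tr VStep :=
  .node (.node (.node (.node (.node (.node (.node (.leaf (.up 5 1928 2)) (.leaf (.up 2 434 2))) (.node (.leaf (.up 4 1746 0)) (.leaf (.up 4 1065 4)))) (.node (.node (.leaf (.up 5 1282 4)) (.leaf (.up 3 1339 3))) (.node (.leaf (.up 5 785 5)) (.leaf (.up 3 1837 2))))) (.node (.node (.node (.leaf (.up 3 534 6)) (.leaf (.up 5 306 2))) (.node (.leaf (.up 3 1800 0)) (.leaf (.up 5 818 2)))) (.node (.node (.leaf (.up 3 1544 0)) (.leaf (.up 4 702 4))) (.node (.leaf (.up 4 788 6)) (.leaf (.up 5 1413 1)))))) (.node (.node (.node (.node (.leaf (.up 3 978 4)) (.leaf (.up 4 319 6))) (.node (.leaf (.up 4 337 5)) (.leaf (.up 4 1714 0)))) (.node (.node (.leaf (.up 2 1522 0)) (.leaf (.up 4 1970 0))) (.node (.leaf (.up 3 1117 3)) (.leaf (.up 4 1335 3))))) (.node (.node (.node (.leaf (.up 4 526 6)) (.leaf (.up 3 1384 0))) (.node (.leaf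 (.up 5 540 6)) (.leaf (.up 2 588 6)))) (.node (.node (.leaf (.up 4 378 5)) (.leaf (.up 2 1640 0))) (.node (.leaf (.up 3 1253 5)) (.leaf (.up 3 1128 0))))))) (.node (.node (.node (.node (.node (.leaf (.up 3 271 3)) (.leaf (.up 4 1705 4))) (.node (.leaf (.up 3 1297 5)) (.leaf (.up 5 1193 4)))) (.node (.node (.leaf (.up 3 1668 3)) (.leaf (.up 5 458 6))) (.node (.leaf (.up 4 1922 4)) (.leaf (.up 5 472 6))))) (.node (.node (.node (.leaf (.up 5 1792 2)) (.leaf (.up 4 1818 3))) (.node (.leaf (.up 3 1253 0)) (.leaf (.up 3 1185 4)))) (.node (.node (.leaf (.up 3 763 6)) (.leaf (.up 4 145 3))) (.node (.leaf (.up 4 745 6)) (.leaf (.up 3 1820 3)))))) (.node (.node (.node (.node (.leaf (.up 4 850 4)) (.leaf (.up 4 1887 0))) (.node (.leaf (.up 5 338 4)) (.leaf (.up 4 1766 2)))) (.node (.node (.leaf (.up 5 718 5)) (.leaf (.up 3 121 2))) (.node (.leaf (.up 3 400 6)) (.leaf (.up 4 2018 3))))) (.node (.node (.node (.leaf (.up 3 604 2)) (.leaf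 (.up 2 931 6))) (.node (.leaf (.up 3 993 6)) (.leaf (.up 5 945 6)))) (.node (.node (.leaf (.up 2 1731 2)) (.leaf (.up 4 1370 5))) (.node (.leaf (.up 3 1477 0)) (.leaf (.up 5 673 6)))))))) (.node (.node (.node (.node (.node (.node (.leaf (.up 5 359 6)) (.leaf (.up 4 1593 4))) (.node (.leaf (.up 5 373 6)) (.leaf (.up 4 1450 5)))) (.node (.node (.leaf (.up 5 119 6)) (.leaf (.up 3 39 6))) (.node (.leaf (.up 4 1810 4)) (.leaf (.up 4 821 5))))) (.node (.node (.node (.leaf (.up 3 518 6)) (.leaf (.up 5 290 2))) (.node (.leaf (.up 3 532 6)) (.leaf (.up 5 802 2)))) (.node (.node (.leaf (.up 2 790 6)) (.leaf (.up 4 1469 2))) (.node (.leaf (.up 3 1546 0)) (.leaf (.up 4 832 3)))))) (.node (.node (.node (.node (.leaf (.up 3 708 2)) (.leaf (.up 4 303 6))) (.node (.leaf (.up 4 1375 3)) (.leaf (.up 4 1077 3)))) (.node (.node (.leaf (.up 3 1369 3)) (.leaf (.up 5 97 2))) (.node (.leaf (.up 2 125 6)) (.leaf (.up 4 745 4))))) (.node (.node (.node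 (.leaf (.up 3 970 4)) (.leaf (.up 2 1223 3))) (.node (.leaf (.up 5 458 4)) (.leaf (.up 3 1662 2)))) (.node (.node (.leaf (.up 4 1578 0)) (.leaf (.up 2 862 6))) (.node (.leaf (.up 4 1451 3)) (.leaf (.up 2 1642 0))))))) (.node (.node (.node (.node (.node (.leaf (.up 3 1926 3)) (.leaf (.up 3 170 5))) (.node (.leaf (.up 3 11 3)) (.leaf (.up 3 1405 0)))) (.node (.node (.leaf (.up 3 1043 1)) (.leaf (.up 4 1589 5))) (.node (.leaf (.up 3 271 2)) (.leaf (.up 2 1661 0))))) (.node (.node (.node (.leaf (.up 5 1854 5)) (.leaf (.up 4 897 5))) (.node (.leaf (.up 5 1908 3)) (.leaf (.up 4 824 1)))) (.node (.node (.leaf (.up 3 1906 3)) (.leaf (.up 4 1560 3))) (.node (.leaf (.up 5 255 3)) (.leaf (.up 3 405 3)))))) (.node (.node (.node (.node (.leaf (.up 5 834 4)) (.leaf (.up 2 1373 0))) (.node (.leaf (.up 5 204 2)) (.leaf (.up 3 1760 3)))) (.node (.node (.leaf (.up 4 1932 3)) (.leaf (.up 4 1766 3))) (.node (.leaf (.up 1 1 3)) (.leaf (.up 3 1117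 0))))) (.node (.node (.node (.leaf (.up 2 588 2)) (.leaf (.up 4 888 1))) (.node (.leaf (.up 1 76 2)) (.leaf (.up 5 1790 4)))) (.node (.node (.leaf (.up 2 1406 5)) (.leaf (.up 3 675 6))) (.node (.leaf (.up 2 1235 2)) (.leaf (.up 3 1556 3))))))))

noncomputable def vt2_0_1011 : Tr VStep :=
  .node (.node (.node (.node (.node (.node (.node (.leaf (.up 3 1043 3)) (.leaf (.up 3 57 5))) (.node (.leaf (.up 3 281 5)) (.leaf (.up 4 270 4)))) (.node (.node (.leaf (.up 3 537 5)) (.leaf (.up 3 1937 4))) (.node (.leaf (.up 3 1926 5)) (.leaf (.up 5 1425 4))))) (.node (.node (.node (.leaf (.up 4 1202 4)) (.leaf (.up 3 518 3))) (.node (.leaf (.up 4 1714 4)) (.leaf (.up 3 532 0)))) (.node (.node (.leaf (.up 5 45 4)) (.leaf (.up 4 1945 4))) (.node (.leaf (.up 4 1197 5)) (.leaf (.up 2 1433 4)))))) (.node (.node (.node (.node (.leaf (.up 4 89 5)) (.leaf (.up 3 1139 6))) (.node (.leaf (.up 4 1478 5)) (.leaf (.up 4 833 4)))) (.node (.node (.leaf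 (.up 4 1049 3)) (.leaf (.up 5 1379 6))) (.node (.leaf (.up 4 106 4)) (.leaf (.up 3 2022 5))))) (.node (.node (.node (.leaf (.up 2 116 0)) (.leaf (.up 3 329 4))) (.node (.leaf (.up 2 1872 6)) (.leaf (.up 4 850 1)))) (.node (.node (.leaf (.up 3 1771 2)) (.leaf (.up 4 1494 4))) (.node (.leaf (.up 3 114 5)) (.leaf (.up 4 1229 5))))))) (.node (.node (.node (.node (.node (.leaf (.up 4 1049 5)) (.leaf (.up 4 1964 3))) (.node (.leaf (.up 5 390 5)) (.leaf (.up 2 33 3)))) (.node (.node (.leaf (.up 4 831 2)) (.leaf (.up 3 39 3))) (.node (.leaf (.up 4 319 2)) (.leaf (.up 2 803 0))))) (.node (.node (.node (.leaf (.up 5 1703 6)) (.leaf (.up 3 902 4))) (.node (.leaf (.up 5 953 0)) (.leaf (.up 5 818 1)))) (.node (.node (.leaf (.up 3 1975 6)) (.leaf (.up 4 2023 6))) (.node (.leaf (.up 4 1957 6)) (.leaf (.up 4 213 3)))))) (.node (.node (.node (.node (.leaf (.up 3 579 0)) (.leaf (.up 4 3 0))) (.node (.leaf (.up 3 1369 5)) (.leaf (.up 5 486 5))))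 (.node (.node (.leaf (.up 4 1740 3)) (.leaf (.up 2 1182 6))) (.node (.leaf (.up 4 1113 1)) (.leaf (.up 5 1164 6))))) (.node (.node (.node (.leaf (.up 2 1661 4)) (.leaf (.up 2 1094 2))) (.node (.leaf (.up 3 1906 1)) (.leaf (.up 3 717 5)))) (.node (.node (.leaf (.up 3 738 4)) (.leaf (.up 3 2047 6))) (.node (.leaf (.up 3 237 5)) (.leaf (.up 3 1876 3)))))))) (.node (.node (.node (.node (.node (.node (.leaf (.up 4 1067 6)) (.leaf (.up 4 1008 3))) (.node (.leaf (.up 4 908 0)) (.leaf (.up 4 460 0)))) (.node (.node (.leaf (.up 3 1339 6)) (.leaf (.up 5 573 5))) (.node (.leaf (.up 4 668 3)) (.leaf (.up 5 1409 4))))) (.node (.node (.node (.leaf (.up 5 1509 3)) (.leaf (.up 2 790 4))) (.node (.leaf (.up 4 1705 5)) (.leaf (.up 3 784 1)))) (.node (.node (.leaf (.up 5 61 4)) (.leaf (.up 3 1546 6))) (.node (.leaf (.up 4 1507 3)) (.leaf (.up 2 790 0)))))) (.node (.node (.node (.node (.leaf (.up 5 740 2)) (.leaf (.up 2 125 5))) (.node (.leaf (.up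 3 1253 4)) (.leaf (.up 3 849 4)))) (.node (.node (.leaf (.up 4 605 5)) (.leaf (.up 1 65 2))) (.node (.leaf (.up 5 1986 5)) (.leaf (.up 4 1998 4))))) (.node (.node (.node (.leaf (.up 3 1874 6)) (.leaf (.up 5 782 3))) (.node (.leaf (.up 1 100 2)) (.leaf (.up 5 1808 6)))) (.node (.node (.leaf (.up 2 975 1)) (.leaf (.up 4 193 2))) (.node (.leaf (.up 3 114 4)) (.leaf (.up 4 310 0))))))) (.node (.node (.node (.node (.node (.leaf (.up 4 1494 6)) (.leaf (.up 2 33 0))) (.node (.leaf (.up 4 1578 4)) (.leaf (.up 4 1704 3)))) (.node (.node (.leaf (.up 4 1988 3)) (.leaf (.up 4 1301 2))) (.node (.leaf (.up 4 303 2)) (.leaf (.up 3 289 0))))) (.node (.node (.node (.leaf (.up 5 1840 2)) (.leaf (.up 5 816 1))) (.node (.leaf (.up 4 1701 6)) (.leaf (.up 4 406 4)))) (.node (.node (.leaf (.up 5 1959 6)) (.leaf (.up 3 763 0))) (.node (.leaf (.up 4 1973 6)) (.leaf (.up 3 1628 3)))))) (.node (.node (.node (.node (.leaf (.up 1 65 0)) (.leaf (.up 3 226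 5))) (.node (.leaf (.up 3 1500 6)) (.leaf (.up 1 1 0)))) (.node (.node (.leaf (.up 4 833 0)) (.leaf (.up 2 1661 5))) (.node (.leaf (.up 3 250 4)) (.leaf (.up 4 585 2))))) (.node (.node (.node (.leaf (.up 5 1910 5)) (.leaf (.up 3 475 3))) (.node (.leaf (.up 3 1852 3)) (.leaf (.up 3 985 4)))) (.node (.node (.leaf (.up 4 754 4)) (.leaf (.up 4 1350 4))) (.node (.leaf (.up 3 1267 2)) (.leaf (.up 3 1519 1))))))))

noncomputable def vt2_0_101 : Tr VStep := .node vt2_0_1010 vt2_0_1011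

noncomputable def vt2_0_10 : Tr VStep := .node vt2_0_100 vt2_0_101

noncomputable def vt2_0_1100 : Tr VStep :=
  .node (.node (.node (.node (.node (.node (.node (.leaf (.up 3 883 6)) (.leaf (.up 2 803 6))) (.node (.leaf (.up 4 865 6)) (.leaf (.up 2 817 6)))) (.node (.node (.leaf (.up 5 1990 0)) (.leaf (.up 3 678 2))) (.node (.leaf (.up 4 137 4)) (.leaf (.up 3 1926 0))))) (.node (.node (.node (.leaf (.up 4 18 6)) (.leaf (.up 4 28 5))) (.node (.leaf (.up 1 0 6)) (.leaf (.up 4 938 4)))) (.node (.node (.leaf (.up 3 641 4)) (.leaf (.up 4 28 1))) (.node (.leaf (.up 3 272 6)) (.leaf (.up 3 1845 4)))))) (.node (.node (.node (.node (.leaf (.up 4 1113 4)) (.leaf (.up 3 827 6))) (.node (.leaf (.up 2 889 6)) (.leaf (.up 4 809 6)))) (.node (.node (.leaf (.up 4 1510 0)) (.leaf (.up 3 1906 4))) (.node (.leaf (.up 3 1000 1)) (.leaf (.up 4 1394 4))))) (.node (.node (.node (.leaf (.up 3 1852 0)) (.leaf (.up 2 1404 0))) (.node (.leaf (.up 4 1340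 0)) (.leaf (.up 1 72 6)))) (.node (.node (.leaf (.up 5 1763 5)) (.leaf (.up 3 330 6))) (.node (.leaf (.up 3 1628 1)) (.leaf (.up 2 1751 3))))))) (.node (.node (.node (.node (.node (.leaf (.up 3 11 2)) (.leaf (.up 5 290 4))) (.node (.leaf (.up 4 648 5)) (.leaf (.up 5 802 4)))) (.node (.node (.leaf (.up 4 539 3)) (.leaf (.up 4 1335 5))) (.node (.leaf (.up 1 9 4)) (.leaf (.up 4 1981 4))))) (.node (.node (.node (.leaf (.up 3 675 1)) (.leaf (.up 4 298 4))) (.node (.leaf (.up 2 1182 4)) (.leaf (.up 4 429 6)))) (.node (.node (.leaf (.up 3 675 5)) (.leaf (.up 4 1038 3))) (.node (.leaf (.up 1 1 4)) (.leaf (.up 4 899 3)))))) (.node (.node (.node (.node (.leaf (.up 4 662 6)) (.leaf (.up 3 710 6))) (.node (.leaf (.up 4 644 6)) (.leaf (.up 4 1270 3)))) (.node (.node (.leaf (.up 3 1547 0)) (.leaf (.up 4 2034 2))) (.node (.leaf (.up 5 1035 0)) (.leaf (.up 2 1522 2))))) (.node (.node (.node (.leaf (.up 3 503 6)) (.leaf (.up 4 869 4))) (.node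 (.leaf (.up 2 1404 5)) (.leaf (.up 4 1169 0)))) (.node (.node (.leaf (.up 3 231 6)) (.leaf (.up 3 1906 2))) (.node (.leaf (.up 3 1384 3)) (.leaf (.up 3 1937 0)))))))) (.node (.node (.node (.node (.node (.node (.leaf (.up 3 1845 1)) (.leaf (.up 2 434 4))) (.node (.leaf (.up 5 1676 5)) (.leaf (.up 3 1668 0)))) (.node (.node (.leaf (.up 4 1476 0)) (.leaf (.up 3 1837 3))) (.node (.leaf (.up 4 19 5)) (.leaf (.up 3 1837 4))))) (.node (.node (.node (.leaf (.up 1 2 6)) (.leaf (.up 4 2009 3))) (.node (.leaf (.up 4 1447 5)) (.leaf (.up 5 1193 2)))) (.node (.node (.leaf (.up 4 274 6)) (.leaf (.up 5 82 3))) (.node (.leaf (.up 3 256 6)) (.leaf (.up 5 2015 3)))))) (.node (.node (.node (.node (.leaf (.up 4 1359 2)) (.leaf (.up 2 1831 3))) (.node (.leaf (.up 4 1764 0)) (.leaf (.up 3 170 3)))) (.node (.node (.leaf (.up 5 214 4)) (.leaf (.up 5 1516 5))) (.node (.leaf (.up 4 726 4)) (.leaf (.up 5 1825 3))))) (.node (.node (.node (.leaf (.up 4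 193 1)) (.leaf (.up 1 74 6))) (.node (.leaf (.up 4 1727 3)) (.leaf (.up 2 1406 0)))) (.node (.node (.leaf (.up 5 1598 0)) (.leaf (.up 3 1150 0))) (.node (.leaf (.up 4 308 3)) (.leaf (.up 3 328 6))))))) (.node (.node (.node (.node (.node (.leaf (.up 2 670 6)) (.leaf (.up 5 306 4))) (.node (.leaf (.up 4 539 2)) (.leaf (.up 4 732 6)))) (.node (.node (.leaf (.up 3 537 4)) (.leaf (.up 4 702 2))) (.node (.leaf (.up 3 1668 2)) (.leaf (.up 5 1965 4))))) (.node (.node (.node (.leaf (.up 3 1267 0)) (.leaf (.up 4 1048 5))) (.node (.leaf (.up 4 493 6)) (.leaf (.up 3 641 3)))) (.node (.node (.leaf (.up 4 1005 3)) (.leaf (.up 4 647 3))) (.node (.leaf (.up 5 935 5)) (.leaf (.up 4 1816 5)))))) (.node (.node (.node (.node (.leaf (.up 4 1801 0)) (.leaf (.up 2 1522 3))) (.node (.leaf (.up 4 1863 2)) (.leaf (.up 3 708 6)))) (.node (.node (.leaf (.up 4 460 5)) (.leaf (.up 4 1994 1))) (.node (.leaf (.up 2 1182 3)) (.leaf (.up 4 1506 2))))) (.node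 (.node (.node (.leaf (.up 2 1144 5)) (.leaf (.up 2 885 4))) (.node (.leaf (.up 2 1235 0)) (.leaf (.up 4 421 6)))) (.node (.node (.leaf (.up 2 1132 3)) (.leaf (.up 5 167 6))) (.node (.leaf (.up 3 1912 5)) (.leaf (.up 4 651 3))))))))

noncomputable def vt2_0_1101 : Tr VStep :=
  .node (.node (.node (.node (.node (.node (.node (.leaf (.up 2 817 4)) (.leaf (.up 4 1647 6))) (.node (.leaf (.up 3 1581 6)) (.leaf (.up 2 1661 6)))) (.node (.node (.leaf (.up 4 1839 6)) (.leaf (.up 4 319 5))) (.node (.leaf (.up 4 138 3)) (.leaf (.up 5 1184 5))))) (.node (.node (.node (.leaf (.up 4 52 5)) (.leaf (.up 1 0 0))) (.node (.leaf (.up 3 675 2)) (.leaf (.up 4 1677 4)))) (.node (.node (.leaf (.up 5 1707 5)) (.leaf (.up 3 768 0))) (.node (.leaf (.up 3 1596 2)) (.leaf (.up 3 530 4)))))) (.node (.node (.node (.node (.leaf (.up 5 1575 6)) (.leaf (.up 3 1018 0))) (.node (.leaf (.up 4 1589 6)) (.leaf (.up 3 1760 5)))) (.node (.node (.leaf (.up 5 1505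 4)) (.leaf (.up 3 250 0))) (.node (.leaf (.up 5 1216 5)) (.leaf (.up 4 85 4))))) (.node (.node (.node (.leaf (.up 1 96 0)) (.leaf (.up 4 965 2))) (.node (.leaf (.up 2 1364 6)) (.leaf (.up 5 1483 5)))) (.node (.node (.leaf (.up 2 1513 4)) (.leaf (.up 4 288 0))) (.node (.leaf (.up 2 116 3)) (.leaf (.up 4 1370 2))))))) (.node (.node (.node (.node (.node (.leaf (.up 5 945 4)) (.leaf (.up 3 1855 5))) (.node (.leaf (.up 5 1492 3)) (.leaf (.up 4 55 0)))) (.node (.node (.leaf (.up 4 1746 6)) (.leaf (.up 4 311 0))) (.node (.leaf (.up 5 1716 2)) (.leaf (.up 4 821 3))))) (.node (.node (.node (.leaf (.up 4 429 0)) (.leaf (.up 3 1267 6))) (.node (.leaf (.up 4 1332 5)) (.leaf (.up 4 1169 2)))) (.node (.node (.leaf (.up 5 1459 6)) (.leaf (.up 3 237 0))) (.node (.leaf (.up 5 1441 6)) (.leaf (.up 4 1812 5)))))) (.node (.node (.node (.node (.leaf (.up 4 1399 2)) (.leaf (.up 4 1202 3))) (.node (.leaf (.up 4 1022 4)) (.leaf (.up 4 831 3)))) (.node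 (.node (.leaf (.up 4 343 0)) (.leaf (.up 5 825 3))) (.node (.leaf (.up 3 1752 6)) (.leaf (.up 4 213 4))))) (.node (.node (.node (.leaf (.up 5 1140 5)) (.leaf (.up 2 203 5))) (.node (.leaf (.up 5 1193 6)) (.leaf (.up 2 1364 5)))) (.node (.node (.leaf (.up 4 1451 6)) (.leaf (.up 2 733 4))) (.node (.leaf (.up 5 1908 5)) (.leaf (.up 2 1513 6)))))))) (.node (.node (.node (.node (.node (.node (.leaf (.up 3 51 2)) (.leaf (.up 3 827 5))) (.node (.leaf (.up 3 289 4)) (.leaf (.up 3 226 3)))) (.node (.node (.leaf (.up 3 1855 6)) (.leaf (.up 4 662 2))) (.node (.leaf (.up 3 1539 3)) (.leaf (.up 5 522 4))))) (.node (.node (.node (.leaf (.up 4 137 1)) (.leaf (.up 3 1181 4))) (.node (.leaf (.up 4 297 4)) (.leaf (.up 1 2 0)))) (.node (.node (.leaf (.up 5 1974 4)) (.leaf (.up 1 2 4))) (.node (.leaf (.up 4 380 3)) (.leaf (.up 3 784 5)))))) (.node (.node (.node (.node (.leaf (.up 4 859 5)) (.leaf (.up 3 853 2))) (.node (.leaf (.up 3 1732 5)) (.leaf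 (.up 3 1891 3)))) (.node (.node (.leaf (.up 2 1831 6)) (.leaf (.up 4 1994 2))) (.node (.leaf (.up 3 1845 6)) (.leaf (.up 4 69 4))))) (.node (.node (.node (.leaf (.up 3 112 5)) (.leaf (.up 3 1937 3))) (.node (.leaf (.up 3 1519 5)) (.leaf (.up 4 28 3)))) (.node (.node (.leaf (.up 2 1094 6)) (.leaf (.up 5 802 0))) (.node (.leaf (.up 3 2041 4)) (.leaf (.up 5 290 0))))))) (.node (.node (.node (.node (.node (.leaf (.up 5 2002 6)) (.leaf (.up 4 1922 6))) (.node (.leaf (.up 4 644 5)) (.leaf (.up 3 1025 2)))) (.node (.node (.leaf (.up 4 859 3)) (.leaf (.up 2 670 2))) (.node (.leaf (.up 2 885 0)) (.leaf (.up 4 1468 3))))) (.node (.node (.node (.leaf (.up 4 1072 5)) (.leaf (.up 5 1193 1))) (.node (.leaf (.up 3 1185 6)) (.leaf (.up 4 1705 1)))) (.node (.node (.leaf (.up 5 1078 1)) (.leaf (.up 4 751 0))) (.node (.leaf (.up 5 1457 6)) (.leaf (.up 5 1505 6)))))) (.node (.node (.node (.node (.leaf (.up 2 1383 2)) (.leaf (.up 5 1915 5))) (.node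 (.leaf (.up 3 2008 6)) (.leaf (.up 5 1928 6)))) (.node (.node (.leaf (.up 3 853 0)) (.leaf (.up 5 1674 6))) (.node (.leaf (.up 4 341 0)) (.leaf (.up 4 1688 6))))) (.node (.node (.node (.leaf (.up 4 1195 6)) (.leaf (.up 2 975 0))) (.node (.leaf (.up 2 931 3)) (.leaf (.up 3 477 2)))) (.node (.node (.leaf (.up 5 933 3)) (.leaf (.up 2 719 3))) (.node (.leaf (.up 4 888 2)) (.leaf (.up 2 719 0))))))))

noncomputable def vt2_0_110 : Tr VStep := .node vt2_0_1100 vt2_0_1101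

noncomputable def vt2_0_1110 : Tr VStep :=
  .node (.node (.node (.node (.node (.node (.node (.leaf (.up 4 871 6)) (.leaf (.up 4 432 2))) (.node (.leaf (.up 2 885 6)) (.leaf (.up 4 1067 4)))) (.node (.node (.leaf (.up 4 1863 3)) (.leaf (.up 2 1327 2))) (.node (.leaf (.up 5 1792 4)) (.leaf (.up 4 1839 2))))) (.node (.node (.node (.leaf (.up 4 1816 0)) (.leaf (.up 5 1171 5))) (.node (.leaf (.up 3 1304 0)) (.leaf (.up 5 268 5)))) (.node (.node (.leaf (.up 3 56 3)) (.leaf (.up 5 1455 2))) (.node (.leaf (.up 2 260 6)) (.leaf (.up 4 1759 3)))))) (.node (.node (.node (.node (.leaf (.up 3 2008 5)) (.leaf (.up 4 815 6))) (.node (.leaf (.up 3 1762 0)) (.leaf (.up 4 426 3)))) (.node (.node (.leaf (.up 4 1609 2)) (.leaf (.up 4 575 6))) (.node (.leaf (.up 4 1359 4)) (.leaf (.up 3 763 4))))) (.node (.node (.node (.leaf (.up 3 1267 5)) (.leaf (.up 1 76 5))) (.node (.leaf (.up 5 472 4)) (.leaf (.up 3 1400 0)))) (.node (.node (.leaf (.up 4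 270 6)) (.leaf (.up 2 1144 0))) (.node (.leaf (.up 4 52 3)) (.leaf (.up 2 332 6))))))) (.node (.node (.node (.node (.node (.leaf (.up 2 670 1)) (.leaf (.up 2 1831 5))) (.node (.leaf (.up 4 648 6)) (.leaf (.up 4 1195 4)))) (.node (.node (.leaf (.up 3 1287 5)) (.leaf (.up 4 1272 3))) (.node (.leaf (.up 4 920 6)) (.leaf (.up 1 1 1))))) (.node (.node (.node (.leaf (.up 4 179 5)) (.leaf (.up 4 1036 3))) (.node (.leaf (.up 5 1282 2)) (.leaf (.up 4 897 3)))) (.node (.node (.leaf (.up 4 2037 0)) (.leaf (.up 3 903 3))) (.node (.leaf (.up 4 1376 3)) (.leaf (.up 4 1804 5)))))) (.node (.node (.node (.node (.leaf (.up 4 1863 5)) (.leaf (.up 4 722 6))) (.node (.leaf (.up 5 222 2)) (.leaf (.up 4 1764 2)))) (.node (.node (.leaf (.up 4 1039 0)) (.leaf (.up 1 65 1))) (.node (.leaf (.up 3 1551 0)) (.leaf (.up 4 1268 3))))) (.node (.node (.node (.leaf (.up 2 1132 5)) (.leaf (.up 5 435 6))) (.node (.leaf (.up 3 499 5)) (.leaf (.up 5 417 6)))) (.node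 (.node (.leaf (.up 3 243 6)) (.leaf (.up 4 163 6))) (.node (.leaf (.up 3 1479 4)) (.leaf (.up 3 763 2)))))))) (.node (.node (.node (.node (.node (.node (.leaf (.up 5 1605 3)) (.leaf (.up 2 803 5))) (.node (.leaf (.up 4 869 6)) (.leaf (.up 3 162 3)))) (.node (.node (.leaf (.up 5 1296 4)) (.leaf (.up 4 1468 5))) (.node (.leaf (.up 5 1808 4)) (.leaf (.up 3 1855 2))))) (.node (.node (.node (.leaf (.up 3 22 6)) (.leaf (.up 4 288 2))) (.node (.leaf (.up 3 903 4)) (.leaf (.up 4 1370 0)))) (.node (.node (.leaf (.up 3 1304 4)) (.leaf (.up 5 342 6))) (.node (.leaf (.up 3 1975 5)) (.leaf (.up 5 324 6)))))) (.node (.node (.node (.node (.leaf (.up 3 1760 0)) (.leaf (.up 4 831 6))) (.node (.leaf (.up 4 893 6)) (.leaf (.up 4 1788 2)))) (.node (.node (.leaf (.up 3 1500 5)) (.leaf (.up 4 355 5))) (.node (.leaf (.up 4 1113 2)) (.leaf (.up 5 573 6))))) (.node (.node (.node (.leaf (.up 5 968 4)) (.leaf (.up 4 94 6))) (.node (.leaf (.up 4 310 3))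 (.leaf (.up 1 76 6)))) (.node (.node (.leaf (.up 5 1783 5)) (.leaf (.up 3 334 6))) (.node (.leaf (.up 5 1367 4)) (.leaf (.up 3 1146 0))))))) (.node (.node (.node (.node (.node (.leaf (.up 3 271 4)) (.leaf (.up 3 1389 0))) (.node (.leaf (.up 3 664 6)) (.leaf (.up 5 712 6)))) (.node (.node (.leaf (.up 3 922 6)) (.leaf (.up 3 970 6))) (.node (.leaf (.up 3 1581 0)) (.leaf (.up 4 984 6))))) (.node (.node (.node (.leaf (.up 4 1810 2)) (.leaf (.up 4 1715 4))) (.node (.leaf (.up 5 505 6)) (.leaf (.up 4 808 2)))) (.node (.node (.leaf (.up 5 1527 0)) (.leaf (.up 3 1544 5))) (.node (.leaf (.up 5 1832 5)) (.leaf (.up 2 643 3)))))) (.node (.node (.node (.node (.leaf (.up 4 832 4)) (.leaf (.up 3 1891 5))) (.node (.leaf (.up 5 320 4)) (.leaf (.up 4 720 6)))) (.node (.node (.leaf (.up 4 898 6)) (.leaf (.up 3 978 6))) (.node (.leaf (.up 4 1037 0)) (.leaf (.up 4 637 3))))) (.node (.node (.node (.leaf (.up 3 499 6)) (.leaf (.up 4 419 6))) (.node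 (.leaf (.up 2 481 6)) (.leaf (.up 4 1788 4)))) (.node (.node (.leaf (.up 2 1640 5)) (.leaf (.up 4 179 6))) (.node (.leaf (.up 3 1128 3)) (.leaf (.up 5 1282 3))))))))

noncomputable def vt2_0_1111 : Tr VStep :=
  .node (.node (.node (.node (.node (.node (.node (.leaf (.up 4 1797 3)) (.leaf (.up 3 400 2))) (.node (.leaf (.up 4 1450 2)) (.leaf (.up 2 482 3)))) (.node (.node (.leaf (.up 2 670 0)) (.leaf (.up 5 1899 6))) (.node (.leaf (.up 4 1833 6)) (.leaf (.up 5 1913 6))))) (.node (.node (.node (.leaf (.up 5 1834 2)) (.leaf (.up 3 272 2))) (.node (.leaf (.up 4 1712 4)) (.leaf (.up 2 260 4)))) (.node (.node (.leaf (.up 5 2033 3)) (.leaf (.up 2 1691 3))) (.node (.leaf (.up 4 437 2)) (.leaf (.up 2 1435 4)))))) (.node (.node (.node (.node (.leaf (.up 5 1587 6)) (.leaf (.up 4 494 3))) (.node (.leaf (.up 4 1801 3)) (.leaf (.up 4 1270 1)))) (.node (.node (.leaf (.up 5 1827 6)) (.leaf (.up 3 1500 4))) (.node (.leaf (.up 4 702 0)) (.leaf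 (.up 5 1264 5))))) (.node (.node (.node (.leaf (.up 1 100 5)) (.leaf (.up 4 1243 5))) (.node (.leaf (.up 1 100 0)) (.leaf (.up 5 324 5)))) (.node (.node (.leaf (.up 3 112 3)) (.leaf (.up 5 804 0))) (.node (.leaf (.up 1 96 4)) (.leaf (.up 5 2004 4))))))) (.node (.node (.node (.node (.node (.leaf (.up 4 2006 6)) (.leaf (.up 3 51 0))) (.node (.leaf (.up 4 1988 6)) (.leaf (.up 4 920 2)))) (.node (.node (.leaf (.up 3 400 5)) (.leaf (.up 1 9 1))) (.node (.leaf (.up 3 883 0)) (.leaf (.up 3 1668 6))))) (.node (.node (.node (.leaf (.up 4 1072 4)) (.leaf (.up 4 965 3))) (.node (.leaf (.up 5 1584 4)) (.leaf (.up 5 290 1)))) (.node (.node (.leaf (.up 4 1447 6)) (.leaf (.up 4 745 0))) (.node (.leaf (.up 5 681 0)) (.leaf (.up 4 963 3)))))) (.node (.node (.node (.node (.leaf (.up 4 1998 6)) (.leaf (.up 3 827 3))) (.node (.leaf (.up 3 1500 3)) (.leaf (.up 3 1732 2)))) (.node (.node (.leaf (.up 4 744 4)) (.leaf (.up 4 496 5))) (.node (.leaf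 (.up 4 208 5)) (.leaf (.up 4 603 2))))) (.node (.node (.node (.leaf (.up 5 1663 4)) (.leaf (.up 3 459 4))) (.node (.leaf (.up 3 675 3)) (.leaf (.up 3 1261 6)))) (.node (.node (.leaf (.up 4 677 3)) (.leaf (.up 2 1364 4))) (.node (.leaf (.up 4 137 0)) (.leaf (.up 3 1876 4)))))))) (.node (.node (.node (.node (.node (.node (.leaf (.up 3 1192 4)) (.leaf (.up 5 796 4))) (.node (.leaf (.up 3 1684 5)) (.leaf (.up 5 988 0)))) (.node (.node (.leaf (.up 4 55 4)) (.leaf (.up 4 1923 4))) (.node (.leaf (.up 3 11 5)) (.leaf (.up 5 1411 4))))) (.node (.node (.node (.leaf (.up 4 1370 6)) (.leaf (.up 3 768 1))) (.node (.leaf (.up 5 1696 4)) (.leaf (.up 3 768 2)))) (.node (.node (.leaf (.up 4 1727 5)) (.leaf (.up 3 774 0))) (.node (.leaf (.up 4 575 4)) (.leaf (.up 4 1419 4)))))) (.node (.node (.node (.node (.leaf (.up 4 742 2)) (.leaf (.up 4 875 5))) (.node (.leaf (.up 5 956 0)) (.leaf (.up 4 234 3)))) (.node (.node (.leaf (.up 5 390 3)) (.leaf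 (.up 3 1891 6))) (.node (.leaf (.up 3 1547 3)) (.leaf (.up 3 579 2))))) (.node (.node (.node (.leaf (.up 3 1346 6)) (.leaf (.up 3 347 4))) (.node (.leaf (.up 3 102 2)) (.leaf (.up 3 1628 2)))) (.node (.node (.leaf (.up 3 608 5)) (.leaf (.up 4 1476 4))) (.node (.leaf (.up 2 1088 6)) (.leaf (.up 4 832 5))))))) (.node (.node (.node (.node (.node (.leaf (.up 4 1970 2)) (.leaf (.up 4 561 0))) (.node (.leaf (.up 3 1547 5)) (.leaf (.up 3 904 2)))) (.node (.node (.leaf (.up 3 1750 6)) (.leaf (.up 3 1670 6))) (.node (.leaf (.up 3 1732 6)) (.leaf (.up 2 817 0))))) (.node (.node (.node (.leaf (.up 5 1062 3)) (.leaf (.up 4 288 1))) (.node (.leaf (.up 5 1205 6)) (.leaf (.up 3 1253 6)))) (.node (.node (.leaf (.up 4 1463 6)) (.leaf (.up 5 1511 6))) (.node (.leaf (.up 4 429 2)) (.leaf (.up 4 1525 6)))))) (.node (.node (.node (.node (.leaf (.up 4 750 2)) (.leaf (.up 4 1012 5))) (.node (.leaf (.up 3 853 3)) (.leaf (.up 4 575 3)))) (.node (.node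 (.leaf (.up 4 468 5)) (.leaf (.up 5 785 0))) (.node (.leaf (.up 3 849 0)) (.leaf (.up 5 1676 6))))) (.node (.node (.node (.leaf (.up 4 1647 4)) (.leaf (.up 3 459 0))) (.node (.leaf (.up 4 1135 4)) (.leaf (.up 3 971 0)))) (.node (.node (.leaf (.up 5 752 4)) (.leaf (.up 2 203 2))) (.node (.leaf (.up 4 1469 6)) (.leaf (.up 2 203 0))))))))

noncomputable def vt2_0_111 : Tr VStep := .node vt2_0_1110 vt2_0_1111

noncomputable def vt2_0_11 : Tr VStep := .node vt2_0_110 vt2_0_111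

noncomputable def vt2_0_1 : Tr VStep := .node vt2_0_10 vt2_0_11

noncomputable def vt2_0_ : Tr VStep := .node vt2_0_0 vt2_0_1

noncomputable def vt2_1_0000 : Tr VStep :=
  .node (.node (.node (.node (.node (.node (.node (.leaf (.root 592)) (.leaf (.up 4 1069 2))) (.node (.leaf (.up 1 18 1)) (.leaf (.up 2 1426 3)))) (.node (.node (.leaf (.up 2 518 0)) (.leaf (.up 1 14 0))) (.node (.leaf (.up 1 6 0)) (.leaf (.up 4 232 2))))) (.node (.node (.node (.leaf (.up 4 1805 4)) (.leaf (.up 4 872 2))) (.node (.leaf (.up 3 1293 4)) (.leaf (.up 2 910 0)))) (.node (.node (.leaf (.up 2 1037 4)) (.leaf (.up 4 1798 2))) (.node (.leaf (.up 3 646 0)) (.leaf (.up 3 538 3)))))) (.node (.node (.node (.node (.leaf (.root 1310)) (.leaf (.up 3 1015 2))) (.node (.leaf (.up 2 2021 0)) (.leaf (.up 3 860 2)))) (.node (.node (.leaf (.up 3 1027 2)) (.leaf (.up 3 1945 2))) (.node (.leaf (.up 4 1253 0)) (.leaf (.up 4 1773 0))))) (.node (.node (.node (.leaf (.up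 3 1893 0)) (.leaf (.up 3 486 4))) (.node (.leaf (.up 4 1649 1)) (.leaf (.up 4 1901 0)))) (.node (.node (.leaf (.up 1 82 3)) (.leaf (.up 3 220 2))) (.node (.leaf (.up 3 750 4)) (.leaf (.up 3 230 4))))))) (.node (.node (.node (.node (.node (.leaf (.up 4 1670 3)) (.leaf (.up 3 1562 2))) (.node (.leaf (.up 3 951 4)) (.leaf (.up 2 788 3)))) (.node (.node (.leaf (.up 3 695 4)) (.leaf (.up 3 628 2))) (.node (.leaf (.up 3 325 2)) (.leaf (.up 2 735 2))))) (.node (.node (.node (.leaf (.up 4 823 4)) (.leaf (.up 4 319 4))) (.node (.leaf (.up 4 311 4)) (.leaf (.up 4 500 2)))) (.node (.node (.leaf (.up 3 270 3)) (.leaf (.up 2 1716 0))) (.node (.leaf (.up 2 1448 1)) (.leaf (.up 2 1434 2)))))) (.node (.node (.node (.node (.leaf (.up 3 602 2)) (.leaf (.up 2 448 2))) (.node (.leaf (.up 2 503 3)) (.leaf (.up 3 1230 3)))) (.node (.node (.leaf (.up 2 735 0)) (.leaf (.up 4 215 0))) (.node (.leaf (.up 3 1108 4)) (.leaf (.up 2 1813 3))))) (.node (.node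 (.node (.leaf (.up 4 863 0)) (.leaf (.up 2 343 0))) (.node (.leaf (.up 3 1492 4)) (.leaf (.up 3 855 0)))) (.node (.node (.leaf (.up 2 95 0)) (.leaf (.up 3 599 0))) (.node (.leaf (.up 3 607 0)) (.leaf (.up 3 576 2)))))))) (.node (.node (.node (.node (.node (.node (.leaf (.root 777)) (.leaf (.up 2 1557 3))) (.node (.leaf (.up 2 260 0)) (.leaf (.up 4 1962 2)))) (.node (.node (.leaf (.up 1 4 0)) (.leaf (.up 4 879 2))) (.node (.leaf (.up 2 272 1)) (.leaf (.up 1 12 0))))) (.node (.node (.node (.leaf (.up 4 1295 4)) (.leaf (.up 4 1799 4))) (.node (.leaf (.up 3 1807 4)) (.leaf (.up 2 396 0)))) (.node (.node (.leaf (.up 2 1551 4)) (.leaf (.up 2 413 3))) (.node (.leaf (.up 2 132 0)) (.leaf (.up 3 1153 2)))))) (.node (.node (.node (.node (.leaf (.root 982)) (.leaf (.up 2 219 2))) (.node (.leaf (.up 2 1511 0)) (.leaf (.up 3 356 3)))) (.node (.node (.leaf (.up 3 1255 0)) (.leaf (.up 3 532 3))) (.node (.leaf (.up 3 1926 3)) (.leaf (.up 4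 100 4))))) (.node (.node (.node (.leaf (.up 2 1651 1)) (.leaf (.up 3 1950 2))) (.node (.leaf (.up 1 14 3)) (.leaf (.up 4 1391 0)))) (.node (.node (.leaf (.up 2 894 3)) (.leaf (.up 2 1008 2))) (.node (.leaf (.up 2 1127 0)) (.leaf (.up 2 740 4))))))) (.node (.node (.node (.node (.node (.leaf (.up 3 949 4)) (.leaf (.up 4 1334 0))) (.node (.leaf (.up 4 1281 3)) (.leaf (.up 2 957 4)))) (.node (.node (.leaf (.up 3 706 2)) (.leaf (.up 4 344 2))) (.node (.leaf (.up 3 693 4)) (.leaf (.up 3 499 2))))) (.node (.node (.node (.leaf (.up 4 309 4)) (.leaf (.up 3 829 4))) (.node (.leaf (.up 4 322 2)) (.leaf (.up 2 1462 0)))) (.node (.node (.leaf (.up 3 565 4)) (.leaf (.up 1 61 4))) (.node (.leaf (.up 4 53 4)) (.leaf (.up 2 573 4)))))) (.node (.node (.node (.node (.leaf (.up 3 624 3)) (.leaf (.up 4 748 2))) (.node (.leaf (.up 2 477 0)) (.leaf (.up 2 583 2)))) (.node (.node (.leaf (.up 4 221 0)) (.leaf (.up 3 1170 3))) (.node (.leaf (.up 3 256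 3)) (.leaf (.up 3 213 0))))) (.node (.node (.node (.leaf (.up 4 349 0)) (.leaf (.up 3 794 3))) (.node (.leaf (.up 3 2006 4)) (.leaf (.up 4 1282 2)))) (.node (.node (.leaf (.up 3 605 0)) (.leaf (.up 4 85 0))) (.node (.leaf (.up 1 93 0)) (.leaf (.up 2 1758 4))))))))

noncomputable def vt2_1_0001 : Tr VStep :=
  .node (.node (.node (.node (.node (.node (.node (.leaf (.root 1068)) (.leaf (.up 3 1562 1))) (.node (.leaf (.up 4 397 4)) (.leaf (.up 3 1806 0)))) (.node (.node (.leaf (.up 2 1030 0)) (.leaf (.up 4 1402 2))) (.node (.leaf (.up 4 653 4)) (.leaf (.up 4 133 4))))) (.node (.node (.node (.leaf (.up 4 1993 3)) (.leaf (.up 4 752 3))) (.node (.leaf (.up 3 781 4)) (.leaf (.up 4 1786 2)))) (.node (.node (.leaf (.up 2 1042 3)) (.leaf (.up 1 5 4))) (.node (.leaf (.up 3 1938 1)) (.leaf (.up 2 517 4)))))) (.node (.node (.node (.node (.leaf (.root 749)) (.leaf (.up 3 1742 2))) (.node (.leaf (.up 3 1259 3)) (.leaf (.up 3 1894 4)))) (.node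 (.node (.leaf (.up 3 1947 3)) (.leaf (.up 5 1638 4))) (.node (.leaf (.up 4 741 0)) (.leaf (.up 3 523 2))))) (.node (.node (.node (.leaf (.up 2 19 3)) (.leaf (.up 2 2022 4))) (.node (.leaf (.up 5 869 0)) (.leaf (.up 3 1510 4)))) (.node (.node (.leaf (.up 4 1663 2)) (.leaf (.up 2 1777 3))) (.node (.leaf (.up 3 1262 4)) (.leaf (.up 4 1766 4))))))) (.node (.node (.node (.node (.node (.leaf (.up 3 1975 4)) (.leaf (.up 4 37 3))) (.node (.leaf (.up 1 18 2)) (.leaf (.up 3 142 3)))) (.node (.node (.leaf (.up 4 1735 3)) (.leaf (.up 4 1022 3))) (.node (.leaf (.up 3 1719 4)) (.leaf (.up 2 2022 2))))) (.node (.node (.node (.leaf (.up 4 1335 4)) (.leaf (.up 3 1855 4))) (.node (.leaf (.up 3 1879 2)) (.leaf (.up 3 1229 2)))) (.node (.node (.leaf (.up 3 1591 4)) (.leaf (.up 1 8 2))) (.node (.leaf (.up 3 825 2)) (.leaf (.up 4 1798 3)))))) (.node (.node (.node (.node (.leaf (.up 3 852 4)) (.leaf (.up 4 1273 2))) (.node (.leaf (.up 3 340 4)) (.leaf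 (.up 3 860 4)))) (.node (.node (.leaf (.up 3 781 2)) (.leaf (.up 4 1751 0))) (.node (.leaf (.up 3 596 4)) (.leaf (.up 3 1167 3))))) (.node (.node (.node (.leaf (.up 3 468 4)) (.leaf (.up 3 1879 0))) (.node (.leaf (.up 4 980 4)) (.leaf (.up 4 775 3)))) (.node (.node (.leaf (.up 4 724 4)) (.leaf (.up 3 2002 2))) (.node (.leaf (.up 2 1867 1)) (.leaf (.up 3 220 3)))))))) (.node (.node (.node (.node (.node (.node (.leaf (.up 4 182 3)) (.leaf (.up 2 903 4))) (.node (.leaf (.up 2 1796 0)) (.leaf (.up 3 1292 0)))) (.node (.node (.leaf (.up 4 877 3)) (.leaf (.up 4 1620 3))) (.node (.leaf (.up 2 1808 1)) (.leaf (.up 4 1789 2))))) (.node (.node (.node (.leaf (.up 4 1253 3)) (.leaf (.up 3 263 4))) (.node (.leaf (.up 3 271 4)) (.leaf (.up 2 1932 0)))) (.node (.node (.leaf (.up 4 15 4)) (.leaf (.up 2 275 2))) (.node (.leaf (.up 3 1941 3)) (.leaf (.up 1 7 4)))))) (.node (.node (.node (.node (.leaf (.up 2 1388 4)) (.leaf (.up 3 1892 4))) (.node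 (.leaf (.up 2 999 0)) (.leaf (.up 3 1353 2)))) (.node (.node (.leaf (.up 3 534 2)) (.leaf (.up 2 396 2))) (.node (.leaf (.up 4 1132 4)) (.leaf (.up 4 507 1))))) (.node (.node (.node (.leaf (.up 4 317 2)) (.leaf (.up 5 367 0))) (.node (.leaf (.up 3 359 0)) (.leaf (.up 4 879 0)))) (.node (.node (.leaf (.up 3 228 3)) (.leaf (.up 3 1764 4))) (.node (.leaf (.up 1 79 3)) (.leaf (.up 3 111 0))))))) (.node (.node (.node (.node (.node (.leaf (.up 2 318 0)) (.leaf (.up 4 15 2))) (.node (.leaf (.up 3 1973 4)) (.leaf (.up 4 1469 4)))) (.node (.node (.leaf (.up 3 1717 4)) (.leaf (.up 4 1121 2))) (.node (.leaf (.up 4 1205 4)) (.leaf (.up 4 1725 4))))) (.node (.node (.node (.leaf (.up 4 1845 4)) (.leaf (.up 3 1866 2))) (.node (.leaf (.up 3 1147 2)) (.leaf (.up 3 2017 2)))) (.node (.node (.leaf (.up 3 1077 4)) (.leaf (.up 3 1153 3))) (.node (.leaf (.up 1 21 2)) (.leaf (.up 2 1085 4)))))) (.node (.node (.node (.node (.leaf (.up 3 342 4)) (.leaf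 (.up 3 862 4))) (.node (.leaf (.up 3 854 4)) (.leaf (.up 3 1729 1)))) (.node (.node (.leaf (.up 2 1757 0)) (.leaf (.up 4 94 4))) (.node (.leaf (.up 4 138 2)) (.leaf (.up 3 784 2))))) (.node (.node (.node (.leaf (.up 4 982 4)) (.leaf (.up 5 478 4))) (.node (.leaf (.up 3 470 4)) (.leaf (.up 2 1089 1)))) (.node (.node (.leaf (.up 3 1117 0)) (.leaf (.up 3 859 3))) (.node (.leaf (.up 3 726 4)) (.leaf (.up 2 1008 3))))))))

noncomputable def vt2_1_000 : Tr VStep := .node vt2_1_0000 vt2_1_0001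

noncomputable def vt2_1_0010 : Tr VStep :=
  .node (.node (.node (.node (.node (.node (.node (.leaf (.root 791)) (.leaf (.up 2 343 3))) (.node (.leaf (.up 2 1221 3)) (.leaf (.up 4 1921 4)))) (.node (.node (.leaf (.up 1 2 0)) (.leaf (.up 4 1665 4))) (.node (.leaf (.up 2 278 1)) (.leaf (.up 1 10 0))))) (.node (.node (.node (.leaf (.up 1 61 3)) (.leaf (.up 5 1793 4))) (.node (.leaf (.up 3 1801 4)) (.leaf (.up 4 394 0)))) (.node (.node (.leaf (.up 4 1545 4)) (.leaf (.up 3 1025 4))) (.node (.leaf (.up 4 1033 4)) (.leaf (.up 3 1652 3)))))) (.node (.node (.node (.node (.leaf (.up 3 2017 0)) (.leaf (.up 4 354 4))) (.node (.leaf (.up 3 797 2)) (.leaf (.up 3 2025 0)))) (.node (.node (.leaf (.up 2 1249 0)) (.leaf (.up 2 610 4))) (.node (.leaf (.up 2 1525 1)) (.leaf (.up 1 98 4))))) (.node (.node (.node (.leaf (.up 2 1267 2)) (.leaf (.up 2 994 4))) (.node (.leaf (.up 4 1889 0)) (.leaf (.up 2 1385 0)))) (.node (.node (.leaf (.up 3 1397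 1)) (.leaf (.up 4 775 2))) (.node (.leaf (.up 4 1121 0)) (.leaf (.up 3 738 4))))))) (.node (.node (.node (.node (.node (.leaf (.up 4 1627 2)) (.leaf (.up 4 2001 3))) (.node (.leaf (.up 4 579 3)) (.leaf (.up 3 1914 3)))) (.node (.node (.leaf (.up 3 565 2)) (.leaf (.up 3 431 2))) (.node (.leaf (.up 4 670 2)) (.leaf (.up 2 260 2))))) (.node (.node (.node (.leaf (.up 4 307 4)) (.leaf (.up 2 827 4))) (.node (.leaf (.up 3 1976 0)) (.leaf (.up 2 809 3)))) (.node (.node (.leaf (.up 4 563 4)) (.leaf (.up 3 59 4))) (.node (.leaf (.up 4 51 4)) (.leaf (.up 3 571 4)))))) (.node (.node (.node (.node (.leaf (.up 3 987 0)) (.leaf (.up 3 539 2))) (.node (.leaf (.up 2 1433 3)) (.leaf (.up 5 979 0)))) (.node (.node (.leaf (.up 2 219 0)) (.leaf (.up 3 976 3))) (.node (.leaf (.up 3 731 0)) (.leaf (.up 2 1758 2))))) (.node (.node (.node (.leaf (.up 2 347 0)) (.leaf (.up 4 2008 4))) (.node (.leaf (.up 1 79 1)) (.leaf (.up 2 1525 2)))) (.node (.node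 (.leaf (.up 5 603 0)) (.leaf (.up 4 83 0))) (.node (.leaf (.up 2 847 1)) (.leaf (.up 3 1832 3)))))))) (.node (.node (.node (.node (.node (.node (.leaf (.up 2 1858 3)) (.leaf (.up 4 1923 4))) (.node (.leaf (.up 2 768 0)) (.leaf (.up 2 720 3)))) (.node (.node (.leaf (.up 2 512 0)) (.leaf (.up 1 8 0))) (.node (.leaf (.up 1 0 0)) (.leaf (.up 4 1667 4))))) (.node (.node (.node (.leaf (.up 1 5 2)) (.leaf (.up 3 392 0))) (.node (.leaf (.up 3 384 0)) (.leaf (.up 4 904 0)))) (.node (.node (.leaf (.up 4 202 3)) (.leaf (.up 3 1539 4))) (.node (.leaf (.up 4 1216 2)) (.leaf (.up 3 1027 4)))))) (.node (.node (.node (.node (.leaf (.up 4 360 4)) (.leaf (.up 2 768 2))) (.node (.leaf (.up 2 2019 0)) (.leaf (.up 3 352 4)))) (.node (.node (.leaf (.up 2 1763 0)) (.leaf (.up 2 1902 2))) (.node (.leaf (.up 2 2039 1)) (.leaf (.up 2 1771 0))))) (.node (.node (.node (.leaf (.up 3 1227 3)) (.leaf (.up 2 498 3))) (.node (.leaf (.up 3 1379 0)) (.leaf (.up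 2 1899 0)))) (.node (.node (.leaf (.up 2 1808 3)) (.leaf (.up 2 553 3))) (.node (.leaf (.up 3 794 2)) (.leaf (.up 5 224 4))))))) (.node (.node (.node (.node (.node (.leaf (.up 4 452 3)) (.leaf (.up 4 1773 2))) (.node (.leaf (.up 4 1500 2)) (.leaf (.up 4 1110 3)))) (.node (.node (.leaf (.up 4 281 2)) (.leaf (.up 3 643 2))) (.node (.leaf (.up 3 434 2)) (.leaf (.up 2 552 2))))) (.node (.node (.node (.leaf (.up 4 1978 0)) (.leaf (.up 3 1458 0))) (.node (.leaf (.up 3 1466 0)) (.leaf (.up 1 5 3)))) (.node (.node (.leaf (.up 4 1628 2)) (.leaf (.up 3 569 4))) (.node (.leaf (.up 4 561 4)) (.leaf (.up 4 57 4)))))) (.node (.node (.node (.node (.leaf (.up 5 473 0)) (.leaf (.up 4 197 1))) (.node (.leaf (.up 2 518 2)) (.leaf (.up 2 1370 4)))) (.node (.node (.leaf (.up 3 1618 4)) (.leaf (.up 4 1369 2))) (.node (.leaf (.up 3 217 0)) (.leaf (.up 2 1522 2))))) (.node (.node (.node (.leaf (.up 1 77 1)) (.leaf (.up 3 337 0))) (.node (.leaf (.up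 3 1347 2)) (.leaf (.up 3 2010 4)))) (.node (.node (.leaf (.up 3 1234 4)) (.leaf (.up 3 540 2))) (.node (.leaf (.up 4 317 3)) (.leaf (.up 3 695 2))))))))

noncomputable def vt2_1_0011 : Tr VStep :=
  .node (.node (.node (.node (.node (.node (.node (.leaf (.root 1236)) (.leaf (.up 4 897 4))) (.node (.leaf (.up 3 905 4)) (.leaf (.up 3 385 4)))) (.node (.node (.leaf (.up 2 1538 0)) (.leaf (.up 2 278 3))) (.node (.leaf (.up 3 137 4)) (.leaf (.up 3 641 4))))) (.node (.node (.node (.leaf (.up 3 1922 0)) (.leaf (.up 2 257 4))) (.node (.leaf (.up 4 1410 0)) (.leaf (.up 2 1930 0)))) (.node (.node (.leaf (.up 1 9 4)) (.leaf (.up 3 513 4))) (.node (.leaf (.up 4 215 3)) (.leaf (.up 1 1 4)))))) (.node (.node (.node (.node (.leaf (.up 4 1679 2)) (.leaf (.up 2 1303 3))) (.node (.leaf (.up 3 993 0)) (.leaf (.up 4 1378 4)))) (.node (.node (.leaf (.up 2 737 0)) (.leaf (.up 3 379 2))) (.node (.leaf (.up 3 862 3)) (.leaf (.up 3 1634 4))))) (.node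 (.node (.node (.leaf (.up 3 117 1)) (.leaf (.up 3 592 2))) (.node (.leaf (.up 2 353 0)) (.leaf (.up 3 2018 4)))) (.node (.node (.leaf (.up 3 1258 4)) (.leaf (.up 4 671 3))) (.node (.leaf (.up 4 609 0)) (.leaf (.up 3 1250 4))))))) (.node (.node (.node (.node (.node (.leaf (.up 4 1459 4)) (.leaf (.up 4 1979 4))) (.node (.leaf (.up 4 969 2)) (.leaf (.up 3 1248 3)))) (.node (.node (.leaf (.up 4 1715 4)) (.leaf (.up 4 1211 4))) (.node (.leaf (.up 3 514 3)) (.leaf (.up 2 1085 2))))) (.node (.node (.node (.leaf (.up 2 952 0)) (.leaf (.up 4 432 0))) (.node (.leaf (.up 2 1331 4)) (.leaf (.up 5 944 0)))) (.node (.node (.leaf (.up 4 1786 3)) (.leaf (.up 4 1595 4))) (.node (.leaf (.up 4 1587 4)) (.leaf (.up 4 872 3)))))) (.node (.node (.node (.node (.leaf (.up 4 336 4)) (.leaf (.up 3 2003 0))) (.node (.leaf (.up 3 1043 2)) (.leaf (.up 2 1929 2)))) (.node (.node (.leaf (.up 3 592 4)) (.leaf (.up 1 74 3))) (.node (.leaf (.up 1 80 4)) (.leaf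 (.up 2 999 2))))) (.node (.node (.node (.leaf (.up 3 976 4)) (.leaf (.up 3 1986 3))) (.node (.leaf (.up 3 592 3)) (.leaf (.up 2 984 4)))) (.node (.node (.leaf (.up 3 1939 2)) (.leaf (.up 4 1619 0))) (.node (.leaf (.up 2 720 4)) (.leaf (.up 3 1186 2)))))))) (.node (.node (.node (.node (.node (.node (.leaf (.up 3 633 2)) (.leaf (.up 3 483 2))) (.node (.leaf (.up 2 1280 0)) (.leaf (.up 4 899 4)))) (.node (.node (.leaf (.up 3 1559 2)) (.leaf (.up 2 1421 2))) (.node (.leaf (.up 2 1300 1)) (.leaf (.up 3 131 4))))) (.node (.node (.node (.leaf (.up 5 1408 0)) (.leaf (.up 2 771 4))) (.node (.leaf (.up 4 1920 0)) (.leaf (.up 2 1416 0)))) (.node (.node (.leaf (.up 3 523 4)) (.leaf (.up 3 3 4))) (.node (.leaf (.up 4 1019 3)) (.leaf (.up 4 1730 3)))))) (.node (.node (.node (.node (.leaf (.up 4 770 3)) (.leaf (.up 3 491 0))) (.node (.leaf (.up 3 483 0)) (.leaf (.up 3 1888 4)))) (.node (.node (.leaf (.up 3 217 3)) (.leaf (.up 3 599 2))) (.node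 (.leaf (.up 2 503 1)) (.leaf (.up 3 1120 4))))) (.node (.node (.node (.leaf (.up 2 631 1)) (.leaf (.up 2 380 2))) (.node (.leaf (.up 4 589 2)) (.leaf (.up 4 363 0)))) (.node (.node (.leaf (.up 3 1162 3)) (.leaf (.up 3 1248 4))) (.node (.leaf (.up 4 99 0)) (.leaf (.up 4 619 0))))))) (.node (.node (.node (.node (.node (.leaf (.up 4 78 2)) (.leaf (.up 4 980 2))) (.node (.leaf (.up 4 757 3)) (.leaf (.up 4 1996 3)))) (.node (.node (.leaf (.up 3 58 0)) (.leaf (.up 4 1978 2))) (.node (.leaf (.up 3 1163 2)) (.leaf (.up 4 1047 3))))) (.node (.node (.node (.leaf (.up 3 1803 2)) (.leaf (.up 4 946 0))) (.node (.leaf (.up 3 1841 4)) (.leaf (.up 3 434 0)))) (.node (.node (.leaf (.up 4 1585 4)) (.leaf (.up 4 1081 4))) (.node (.leaf (.up 4 974 2)) (.leaf (.up 4 1593 4)))))) (.node (.node (.node (.node (.leaf (.up 3 850 4)) (.leaf (.up 5 1489 0))) (.node (.leaf (.up 3 1497 0)) (.leaf (.up 2 22 3)))) (.node (.node (.leaf (.up 1 82 4)) (.leaf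 (.up 3 602 4))) (.node (.leaf (.up 3 594 4)) (.leaf (.up 4 203 2))))) (.node (.node (.node (.leaf (.up 4 1369 0)) (.leaf (.up 3 1262 3))) (.node (.leaf (.up 2 380 3)) (.leaf (.up 3 474 4)))) (.node (.node (.leaf (.up 4 1625 0)) (.leaf (.up 4 1105 0))) (.node (.leaf (.up 5 210 4)) (.leaf (.up 3 1950 3))))))))

noncomputable def vt2_1_001 : Tr VStep := .node vt2_1_0010 vt2_1_0011

noncomputable def vt2_1_00 : Tr VStep := .node vt2_1_000 vt2_1_001

noncomputable def vt2_1_0100 : Tr VStep :=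
  .node (.node (.node (.node (.node (.node (.node (.leaf (.root 1256)) (.leaf (.up 4 1429 4))) (.node (.leaf (.up 2 278 0)) (.leaf (.up 1 10 1)))) (.node (.node (.leaf (.up 2 22 0)) (.leaf (.up 3 542 0))) (.node (.leaf (.up 3 534 0)) (.leaf (.up 4 1173 4))))) (.node (.node (.node (.leaf (.up 3 359 2)) (.leaf (.up 2 1813 4))) (.node (.leaf (.up 4 460 2)) (.leaf (.up 4 598 2)))) (.node (.node (.leaf (.up 3 662 0)) (.leaf (.up 3 1045 4))) (.node (.leaf (.up 2 1442 2)) (.leaf (.up 2 1557 4)))))) (.node (.node (.node (.node (.leaf (.root 721)) (.leaf (.up 2 610 2))) (.node (.leaf (.up 2 1525 0)) (.leaf (.up 2 1257 1)))) (.node (.node (.leaf (.up 3 126 4)) (.leaf (.up 4 1789 0))) (.node (.leaf (.up 5 1781 0)) (.leaf (.up 1 6 3))))) (.node (.node (.node (.leaf (.up 3 540 3)) (.leaf (.up 4 1917 0))) (.node (.leaf (.up 2 1558 2)) (.leaf (.up 3 502 4)))) (.node (.node (.leaf (.up 4 1653 0)) (.leaf (.up 3 1897 1))) (.node (.leaf (.up 2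 254 4)) (.leaf (.up 2 758 4))))))) (.node (.node (.node (.node (.node (.leaf (.up 3 1045 2)) (.leaf (.up 2 1935 2))) (.node (.leaf (.up 3 1976 3)) (.leaf (.up 3 1828 0)))) (.node (.node (.leaf (.up 3 1224 3)) (.leaf (.up 3 993 2))) (.node (.leaf (.up 3 208 2)) (.leaf (.up 2 842 2))))) (.node (.node (.node (.leaf (.up 4 295 4)) (.leaf (.up 2 815 4))) (.node (.leaf (.up 4 1019 2)) (.leaf (.up 3 303 4)))) (.node (.node (.leaf (.up 4 155 3)) (.leaf (.up 1 47 4))) (.node (.leaf (.up 3 1941 2)) (.leaf (.up 2 559 4)))))) (.node (.node (.node (.node (.leaf (.root 1018)) (.leaf (.up 4 85 2))) (.node (.leaf (.up 1 98 3)) (.leaf (.up 2 254 2)))) (.node (.node (.leaf (.up 3 786 3)) (.leaf (.up 3 711 0))) (.node (.leaf (.up 4 1604 4)) (.leaf (.up 3 1100 4))))) (.node (.node (.node (.leaf (.up 3 1162 2)) (.leaf (.up 2 1808 2))) (.node (.leaf (.up 2 847 0)) (.leaf (.up 3 264 3)))) (.node (.node (.leaf (.up 2 347 1)) (.leaf (.up 2 894 2)))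 (.node (.leaf (.up 1 79 0)) (.leaf (.up 2 583 0)))))))) (.node (.node (.node (.node (.node (.node (.leaf (.root 1030)) (.leaf (.up 1 8 1))) (.node (.leaf (.up 1 0 1)) (.leaf (.up 4 1431 4)))) (.node (.node (.leaf (.up 3 532 0)) (.leaf (.up 4 1175 4))) (.node (.leaf (.up 2 768 1)) (.leaf (.up 3 540 0))))) (.node (.node (.node (.leaf (.up 3 587 2)) (.leaf (.up 2 1303 4))) (.node (.leaf (.up 4 736 2)) (.leaf (.up 4 1815 4)))) (.node (.node (.leaf (.up 2 148 0)) (.leaf (.up 1 8 3))) (.node (.leaf (.up 2 1434 3)) (.leaf (.up 2 1300 2)))))) (.node (.node (.node (.node (.leaf (.root 1266)) (.leaf (.up 3 1259 1))) (.node (.leaf (.up 2 2039 0)) (.leaf (.up 2 241 3)))) (.node (.node (.leaf (.up 4 636 4)) (.leaf (.up 4 1279 0))) (.node (.leaf (.up 2 1555 3)) (.leaf (.up 3 628 4))))) (.node (.node (.node (.leaf (.up 4 1911 0)) (.leaf (.up 2 1407 0))) (.node (.leaf (.up 5 1399 0)) (.leaf (.up 3 1186 3)))) (.node (.node (.leaf (.up 3 1143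 0)) (.leaf (.up 3 2002 3))) (.node (.leaf (.up 3 576 3)) (.leaf (.up 2 244 4))))))) (.node (.node (.node (.node (.node (.leaf (.up 3 1087 3)) (.leaf (.up 3 1187 2))) (.node (.leaf (.up 3 1938 2)) (.leaf (.up 3 429 3)))) (.node (.node (.leaf (.up 3 855 2)) (.leaf (.up 4 205 2))) (.node (.leaf (.up 3 1871 3)) (.leaf (.up 3 102 2))))) (.node (.node (.node (.leaf (.up 4 124 2)) (.leaf (.up 4 301 4))) (.node (.leaf (.up 4 215 2)) (.leaf (.up 4 1534 3)))) (.node (.node (.leaf (.up 2 1042 2)) (.leaf (.up 2 557 4))) (.node (.leaf (.up 3 796 3)) (.leaf (.up 3 1190 0)))))) (.node (.node (.node (.node (.leaf (.up 3 461 0)) (.leaf (.up 2 889 2))) (.node (.leaf (.up 1 72 2)) (.leaf (.up 3 1655 3)))) (.node (.node (.leaf (.up 3 1165 2)) (.leaf (.up 4 1287 3))) (.node (.leaf (.up 4 205 0)) (.leaf (.up 4 1614 4))))) (.node (.node (.node (.leaf (.up 3 1974 3)) (.leaf (.up 3 325 0))) (.node (.leaf (.up 4 601 1)) (.leaf (.up 4 837 0)))) (.node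 (.node (.leaf (.up 1 77 0)) (.leaf (.up 1 82 2))) (.node (.leaf (.up 3 1222 3)) (.leaf (.up 3 1230 4))))))))

noncomputable def vt2_1_0101 : Tr VStep :=
  .node (.node (.node (.node (.node (.node (.node (.leaf (.root 1072)) (.leaf (.up 3 1846 3))) (.node (.leaf (.up 4 925 4)) (.leaf (.up 2 1949 3)))) (.node (.node (.leaf (.up 2 1558 0)) (.leaf (.up 4 149 4))) (.node (.leaf (.up 4 157 4)) (.leaf (.up 4 661 4))))) (.node (.node (.node (.leaf (.up 3 797 4)) (.leaf (.up 2 277 4))) (.node (.leaf (.up 4 285 4)) (.leaf (.up 3 789 4)))) (.node (.node (.leaf (.up 3 29 4)) (.leaf (.up 3 533 4))) (.node (.leaf (.up 4 155 2)) (.leaf (.up 1 21 3)))))) (.node (.node (.node (.node (.leaf (.root 1488)) (.leaf (.up 3 1910 4))) (.node (.leaf (.up 2 1406 3)) (.leaf (.up 3 2032 2)))) (.node (.node (.leaf (.up 4 757 0)) (.leaf (.up 4 253 0))) (.node (.leaf (.up 1 4 2)) (.leaf (.up 2 1654 4))))) (.node (.node (.node (.leaf (.up 3 2046 4)) (.leaf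 (.up 4 1526 4))) (.node (.leaf (.up 2 815 2)) (.leaf (.up 5 2038 4)))) (.node (.node (.leaf (.up 3 605 3)) (.leaf (.up 3 637 0))) (.node (.leaf (.up 2 758 3)) (.leaf (.up 3 1243 2))))))) (.node (.node (.node (.node (.node (.leaf (.up 3 1161 3)) (.leaf (.up 4 432 3))) (.node (.leaf (.up 3 1959 4)) (.leaf (.up 3 283 3)))) (.node (.node (.leaf (.up 4 1874 3)) (.leaf (.up 4 619 3))) (.node (.leaf (.up 3 2041 3)) (.leaf (.up 2 1651 2))))) (.node (.node (.node (.leaf (.up 3 1831 4)) (.leaf (.up 3 1327 4))) (.node (.leaf (.up 4 1730 2)) (.leaf (.up 3 1839 4)))) (.node (.node (.leaf (.up 2 952 1)) (.leaf (.up 2 413 2))) (.node (.leaf (.up 3 684 0)) (.leaf (.up 3 1071 4)))))) (.node (.node (.node (.node (.leaf (.up 3 324 4)) (.leaf (.up 2 1388 2))) (.node (.leaf (.up 3 836 4)) (.leaf (.up 3 332 4)))) (.node (.node (.leaf (.up 4 580 4)) (.leaf (.up 3 2003 1))) (.node (.leaf (.up 4 1231 0)) (.leaf (.up 4 1735 0))))) (.node (.node (.node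 (.leaf (.up 3 1871 0)) (.leaf (.up 2 553 2))) (.node (.leaf (.up 4 1359 0)) (.leaf (.up 5 1863 0)))) (.node (.node (.leaf (.up 3 1243 3)) (.leaf (.up 3 482 3))) (.node (.leaf (.up 3 1371 1)) (.leaf (.up 3 329 3)))))))) (.node (.node (.node (.node (.node (.node (.leaf (.up 4 291 3)) (.leaf (.up 3 407 4))) (.node (.leaf (.up 2 1300 0)) (.leaf (.up 2 774 2)))) (.node (.node (.leaf (.up 4 760 3)) (.leaf (.up 4 1985 3))) (.node (.leaf (.up 2 1280 1)) (.leaf (.up 4 151 4))))) (.node (.node (.node (.leaf (.up 3 287 4)) (.leaf (.up 4 791 4))) (.node (.leaf (.up 4 799 4)) (.leaf (.up 4 279 4)))) (.node (.node (.leaf (.up 3 796 2)) (.leaf (.up 1 23 4))) (.node (.leaf (.up 3 951 2)) (.leaf (.up 2 535 4)))))) (.node (.node (.node (.node (.leaf (.up 3 1015 0)) (.leaf (.up 3 1143 2))) (.node (.leaf (.up 2 503 0)) (.leaf (.up 3 1908 4)))) (.node (.node (.leaf (.up 4 995 1)) (.leaf (.up 1 25 2))) (.node (.leaf (.up 3 1660 4)) (.leaf (.up 5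 255 0))))) (.node (.node (.node (.leaf (.up 5 1532 4)) (.leaf (.up 3 1939 3))) (.node (.leaf (.up 3 3 2)) (.leaf (.up 2 921 2)))) (.node (.node (.leaf (.up 2 631 0)) (.leaf (.up 4 127 0))) (.node (.leaf (.up 3 474 3)) (.leaf (.up 2 2039 2))))))) (.node (.node (.node (.node (.node (.leaf (.up 2 512 2)) (.leaf (.up 4 410 2))) (.node (.leaf (.up 3 1806 3)) (.leaf (.up 4 1965 4)))) (.node (.node (.leaf (.up 3 1150 3)) (.leaf (.up 4 1524 2))) (.node (.leaf (.up 4 1701 4)) (.leaf (.up 4 1197 4))))) (.node (.node (.node (.leaf (.up 3 1317 4)) (.leaf (.up 3 1837 4))) (.node (.leaf (.up 4 1518 2)) (.leaf (.up 3 1652 2)))) (.node (.node (.leaf (.up 3 1573 4)) (.leaf (.up 2 1300 3))) (.node (.leaf (.up 3 384 2)) (.leaf (.up 3 538 2)))))) (.node (.node (.node (.node (.leaf (.up 3 838 4)) (.leaf (.up 3 334 4))) (.node (.leaf (.up 3 326 4)) (.leaf (.up 2 1771 2)))) (.node (.node (.leaf (.up 3 1229 0)) (.leaf (.up 3 590 4))) (.node (.leaf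 (.up 3 1497 1)) (.leaf (.up 2 1221 0))))) (.node (.node (.node (.leaf (.up 4 671 2)) (.leaf (.up 2 277 3))) (.node (.leaf (.up 3 1159 3)) (.leaf (.up 3 462 4)))) (.node (.node (.leaf (.up 2 2039 3)) (.leaf (.up 3 718 3))) (.node (.leaf (.up 4 1101 0)) (.leaf (.up 3 718 4))))))))

noncomputable def vt2_1_010 : Tr VStep := .node vt2_1_0100 vt2_1_0101

noncomputable def vt2_1_0110 : Tr VStep :=
  .node (.node (.node (.node (.node (.node (.node (.leaf (.root 713)) (.leaf (.up 1 14 1))) (.node (.leaf (.up 1 6 1)) (.leaf (.up 4 1736 2)))) (.node (.node (.leaf (.up 2 530 0)) (.leaf (.up 4 525 2))) (.node (.leaf (.up 1 18 0)) (.leaf (.up 3 538 0))))) (.node (.node (.node (.leaf (.up 3 1817 4)) (.leaf (.up 4 410 0))) (.node (.leaf (.up 2 535 2)) (.leaf (.up 3 142 1)))) (.node (.node (.leaf (.up 4 1049 4)) (.leaf (.up 3 1866 3))) (.node (.leaf (.up 4 1561 4)) (.leaf (.up 2 1041 4)))))) (.node (.node (.node (.node (.leaf (.up 4 1521 0))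 (.leaf (.up 3 2041 0))) (.node (.leaf (.up 4 648 2)) (.leaf (.up 4 274 2)))) (.node (.node (.leaf (.up 2 1777 0)) (.leaf (.up 3 1219 3))) (.node (.leaf (.up 2 2021 1)) (.leaf (.up 2 626 4))))) (.node (.node (.node (.leaf (.up 3 1905 0)) (.leaf (.up 2 498 4))) (.node (.leaf (.up 3 506 4)) (.leaf (.up 3 1913 0)))) (.node (.node (.leaf (.up 3 1893 1)) (.leaf (.up 5 1657 0))) (.node (.leaf (.up 4 1282 3)) (.leaf (.up 3 569 2))))))) (.node (.node (.node (.node (.node (.leaf (.up 4 419 4)) (.leaf (.up 3 1108 2))) (.node (.leaf (.up 3 1893 2)) (.leaf (.up 3 1775 3)))) (.node (.node (.leaf (.up 3 928 2)) (.leaf (.up 2 1439 3))) (.node (.leaf (.up 4 163 4)) (.leaf (.up 2 145 2))))) (.node (.node (.node (.leaf (.up 3 1838 3)) (.leaf (.up 2 785 2))) (.node (.leaf (.up 2 1448 0)) (.leaf (.up 3 811 4)))) (.node (.node (.leaf (.up 4 1253 2)) (.leaf (.up 4 460 3))) (.node (.leaf (.up 4 547 4)) (.leaf (.up 3 359 3)))))) (.node (.node (.node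 (.node (.leaf (.up 2 735 1)) (.leaf (.up 2 910 2))) (.node (.leaf (.up 5 1856 4)) (.leaf (.up 4 451 0)))) (.node (.node (.leaf (.up 3 715 0)) (.leaf (.up 4 2016 2))) (.node (.leaf (.up 3 2007 3)) (.leaf (.up 2 1867 2))))) (.node (.node (.node (.leaf (.up 2 244 3)) (.leaf (.up 3 1227 2))) (.node (.leaf (.up 2 95 3)) (.leaf (.up 3 835 0)))) (.node (.node (.leaf (.up 2 815 3)) (.leaf (.up 2 1558 3))) (.node (.leaf (.up 3 587 0)) (.leaf (.up 1 14 2)))))))) (.node (.node (.node (.node (.node (.node (.leaf (.up 1 4 1)) (.leaf (.up 4 1359 2))) (.node (.leaf (.up 2 272 0)) (.leaf (.up 1 12 1)))) (.node (.node (.leaf (.up 1 16 0)) (.leaf (.up 3 536 0))) (.node (.leaf (.up 2 260 1)) (.leaf (.up 4 394 2))))) (.node (.node (.node (.leaf (.up 3 400 0)) (.leaf (.up 4 1811 4))) (.node (.leaf (.up 2 559 3)) (.leaf (.up 5 408 0)))) (.node (.node (.leaf (.up 4 1534 2)) (.leaf (.up 3 1043 4))) (.node (.leaf (.up 4 500 3)) (.leaf (.up 2 1555 4))))))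 (.node (.node (.node (.node (.leaf (.up 3 1255 1)) (.leaf (.up 3 1775 1))) (.node (.leaf (.up 3 376 4)) (.leaf (.up 4 1183 3)))) (.node (.node (.leaf (.up 2 1267 0)) (.leaf (.up 3 624 4))) (.node (.leaf (.up 2 1511 1)) (.leaf (.up 2 1860 3))))) (.node (.node (.node (.leaf (.up 4 504 4)) (.leaf (.up 2 1008 4))) (.node (.leaf (.up 2 1525 3)) (.leaf (.up 2 1403 0)))) (.node (.node (.leaf (.up 2 1651 0)) (.leaf (.up 3 1147 0))) (.node (.leaf (.up 3 1139 0)) (.leaf (.up 2 277 2))))))) (.node (.node (.node (.node (.node (.leaf (.up 3 1250 2)) (.leaf (.up 4 1912 2))) (.node (.leaf (.up 4 417 4)) (.leaf (.up 3 2003 2)))) (.node (.node (.leaf (.up 4 161 4)) (.leaf (.up 3 790 2))) (.node (.leaf (.up 3 39 2)) (.leaf (.up 2 957 2))))) (.node (.node (.node (.leaf (.up 3 289 4)) (.leaf (.up 1 61 2))) (.node (.leaf (.up 4 1962 0)) (.leaf (.up 2 1442 0)))) (.node (.node (.leaf (.up 4 1993 2)) (.leaf (.up 1 41 4))) (.node (.leaf (.up 4 1890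 2)) (.leaf (.up 2 553 4)))))) (.node (.node (.node (.node (.leaf (.up 2 1858 4)) (.leaf (.up 5 1354 4))) (.node (.leaf (.up 3 1824 3)) (.leaf (.up 1 9 2)))) (.node (.node (.leaf (.up 3 1104 3)) (.leaf (.up 3 361 3))) (.node (.leaf (.up 2 477 1)) (.leaf (.up 2 1127 2))))) (.node (.node (.node (.leaf (.up 2 984 3)) (.leaf (.up 3 2023 2))) (.node (.leaf (.up 1 93 1)) (.leaf (.up 4 321 0)))) (.node (.node (.leaf (.up 2 19 2)) (.leaf (.up 3 65 0))) (.node (.leaf (.up 5 1218 4)) (.leaf (.up 4 577 0))))))))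

noncomputable def vt2_1_0111 : Tr VStep :=
  .node (.node (.node (.node (.node (.node (.node (.leaf (.root 994)) (.leaf (.up 4 858 2))) (.node (.leaf (.up 3 409 4)) (.leaf (.up 3 913 4)))) (.node (.node (.leaf (.up 2 1042 0)) (.leaf (.up 3 1562 0))) (.node (.leaf (.up 3 665 4)) (.leaf (.up 2 145 4))))) (.node (.node (.node (.leaf (.up 2 1426 0)) (.leaf (.up 2 785 4))) (.node (.leaf (.up 3 1938 0)) (.leaf (.up 2 1434 0)))) (.node (.node (.leaf (.up 4 537 4)) (.leaf (.up 4 17 4))) (.node (.leaf (.up 1 25 4)) (.leaf (.up 3 1147 3)))))) (.node (.node (.node (.node (.leaf (.up 3 1914 4)) (.leaf (.up 3 1154 3))) (.node (.leaf (.up 2 272 3)) (.leaf (.up 3 1017 0)))) (.node (.node (.leaf (.up 2 241 0)) (.leaf (.up 3 238 2))) (.node (.leaf (.up 3 715 3)) (.leaf (.up 3 1138 4))))) (.node (.node (.node (.leaf (.up 2 95 2)) (.leaf (.up 2 889 0))) (.node (.leaf (.up 2 244 2)) (.leaf (.up 2 1522 4)))) (.node (.node (.leaf (.up 2 625 0))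 (.leaf (.up 4 1266 4))) (.node (.leaf (.up 3 1274 4)) (.leaf (.up 3 633 0))))))) (.node (.node (.node (.node (.node (.leaf (.up 4 1955 4)) (.leaf (.up 4 1451 4))) (.node (.leaf (.up 4 1443 4)) (.leaf (.up 3 1397 3)))) (.node (.node (.leaf (.up 3 1187 4)) (.leaf (.up 4 1707 4))) (.node (.leaf (.up 2 552 0)) (.leaf (.up 2 1448 2))))) (.node (.node (.node (.leaf (.up 3 1458 2)) (.leaf (.up 3 928 0))) (.node (.leaf (.up 3 1827 4)) (.leaf (.up 4 692 1)))) (.node (.node (.leaf (.up 4 1571 4)) (.leaf (.up 4 598 3))) (.node (.leaf (.up 4 1988 3)) (.leaf (.up 4 765 3)))))) (.node (.node (.node (.node (.leaf (.up 5 1995 0)) (.leaf (.up 3 1719 2))) (.node (.leaf (.up 3 1942 3)) (.leaf (.up 5 840 4)))) (.node (.node (.leaf (.up 1 64 4)) (.leaf (.up 3 479 3))) (.node (.leaf (.up 3 576 4)) (.leaf (.up 1 72 4))))) (.node (.node (.node (.leaf (.up 2 448 4)) (.leaf (.up 2 498 2))) (.node (.leaf (.up 2 1867 0)) (.leaf (.up 3 1347 0)))) (.node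 (.node (.leaf (.up 5 1611 0)) (.leaf (.up 3 200 4))) (.node (.leaf (.up 4 192 4)) (.leaf (.up 4 1367 1)))))))) (.node (.node (.node (.node (.node (.node (.leaf (.up 3 1004 2)) (.leaf (.up 3 118 2))) (.node (.leaf (.up 2 1808 0)) (.leaf (.up 4 221 2)))) (.node (.node (.leaf (.up 3 1922 2)) (.leaf (.up 3 1048 0))) (.node (.leaf (.up 2 1796 1)) (.leaf (.up 3 772 3))))) (.node (.node (.node (.leaf (.up 4 795 4)) (.leaf (.up 2 275 4))) (.node (.leaf (.up 3 283 4)) (.leaf (.up 2 1944 0)))) (.node (.node (.leaf (.up 4 27 4)) (.leaf (.up 3 531 4))) (.node (.leaf (.up 3 539 4)) (.leaf (.up 2 19 4)))))) (.node (.node (.node (.node (.leaf (.up 3 499 0)) (.leaf (.up 4 1019 0))) (.node (.leaf (.up 4 1912 4)) (.leaf (.up 4 1797 3)))) (.node (.node (.leaf (.up 3 332 3)) (.leaf (.up 3 962 2))) (.node (.leaf (.up 2 999 1)) (.leaf (.up 3 1648 4))))) (.node (.node (.node (.leaf (.up 3 2040 4)) (.leaf (.up 3 379 0))) (.node (.leaf (.up 2 984 2))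 (.leaf (.up 1 66 2)))) (.node (.node (.leaf (.up 4 115 0)) (.leaf (.up 3 1159 2))) (.node (.leaf (.up 3 1974 2)) (.leaf (.up 4 1264 4))))))) (.node (.node (.node (.node (.node (.leaf (.up 4 1441 4)) (.leaf (.up 4 577 2))) (.node (.leaf (.up 4 864 3)) (.leaf (.up 4 1625 3)))) (.node (.node (.leaf (.up 1 16 3)) (.leaf (.up 4 1583 2))) (.node (.leaf (.up 4 187 3)) (.leaf (.up 4 1410 3))))) (.node (.node (.node (.leaf (.up 2 1944 3)) (.leaf (.up 5 1321 4))) (.node (.leaf (.up 3 426 0)) (.leaf (.up 4 1833 4)))) (.node (.node (.leaf (.up 4 752 2)) (.leaf (.up 4 1577 4))) (.node (.leaf (.up 4 1569 4)) (.leaf (.up 4 465 3)))))) (.node (.node (.node (.node (.leaf (.up 2 1041 3)) (.leaf (.up 2 842 4))) (.node (.leaf (.up 4 1993 0)) (.leaf (.up 5 1473 0)))) (.node (.node (.leaf (.up 3 578 4)) (.leaf (.up 1 74 4))) (.node (.leaf (.up 1 66 4)) (.leaf (.up 3 600 3))))) (.node (.node (.node (.leaf (.up 1 66 3)) (.leaf (.up 2 1403 3))) (.node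 (.leaf (.up 3 1353 0)) (.leaf (.up 3 1488 3)))) (.node (.node (.leaf (.up 2 921 3)) (.leaf (.up 3 714 4))) (.node (.leaf (.up 3 706 4)) (.leaf (.up 2 1089 0))))))))

noncomputable def vt2_1_011 : Tr VStep := .node vt2_1_0110 vt2_1_0111

noncomputable def vt2_1_01 : Tr VStep := .node vt2_1_010 vt2_1_011

noncomputable def vt2_1_0 : Tr VStep := .node vt2_1_00 vt2_1_01

noncomputable def vt2_1_1000 : Tr VStep :=
  .node (.node (.node (.node (.node (.node (.node (.leaf (.root 1448)) (.leaf (.up 2 2019 3))) (.node (.leaf (.up 2 625 3)) (.leaf (.up 4 1864 3)))) (.node (.node (.leaf (.up 1 7 0)) (.leaf (.up 3 283 1))) (.node (.leaf (.up 2 275 1)) (.leaf (.up 4 15 0))))) (.node (.node (.node (.leaf (.up 3 1292 4)) (.leaf (.up 2 1796 4))) (.node (.leaf (.up 2 903 0)) (.leaf (.up 3 29 2)))) (.node (.node (.leaf (.up 2 1858 2)) (.leaf (.up 3 1028 4))) (.node (.leaf (.up 3 2025 2)) (.leaf (.up 3 1139 2)))))) (.node (.node (.node (.node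 (.leaf (.up 2 1280 3)) (.leaf (.up 1 41 2))) (.node (.leaf (.up 3 792 2)) (.leaf (.up 4 871 4)))) (.node (.node (.leaf (.up 3 111 4)) (.leaf (.up 2 994 3))) (.node (.leaf (.up 3 1764 0)) (.leaf (.up 3 841 3))))) (.node (.node (.node (.leaf (.up 3 1648 1)) (.leaf (.up 2 999 4))) (.node (.leaf (.up 3 1117 2)) (.leaf (.up 2 1388 0)))) (.node (.node (.leaf (.up 4 648 3)) (.leaf (.up 4 770 2))) (.node (.leaf (.up 4 1124 0)) (.leaf (.up 3 743 4))))))) (.node (.node (.node (.node (.node (.leaf (.up 4 1116 3)) (.leaf (.up 4 357 3))) (.node (.leaf (.up 4 1271 3)) (.leaf (.up 3 462 3)))) (.node (.node (.leaf (.up 2 1085 0)) (.leaf (.up 3 426 2))) (.node (.leaf (.up 3 1836 3)) (.leaf (.up 2 257 2))))) (.node (.node (.node (.leaf (.up 3 283 2)) (.leaf (.up 3 1973 0))) (.node (.leaf (.up 4 432 2)) (.leaf (.up 2 318 4)))) (.node (.node (.leaf (.up 3 1397 2)) (.leaf (.up 3 1775 2))) (.node (.leaf (.up 4 54 4)) (.leaf (.up 3 1717 0)))))) (.node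 (.node (.node (.node (.leaf (.up 4 1877 4)) (.leaf (.up 3 542 2))) (.node (.leaf (.up 3 714 1)) (.leaf (.up 3 693 2)))) (.node (.node (.leaf (.up 1 93 3)) (.leaf (.up 3 726 0))) (.node (.leaf (.up 3 1345 2)) (.leaf (.up 3 1117 4))))) (.node (.node (.node (.leaf (.up 3 2005 3)) (.leaf (.up 1 66 1))) (.node (.leaf (.up 1 74 1)) (.leaf (.up 2 583 3)))) (.node (.node (.leaf (.up 5 606 0)) (.leaf (.up 4 86 0))) (.node (.leaf (.up 2 842 1)) (.leaf (.up 2 1757 4)))))))) (.node (.node (.node (.node (.node (.node (.leaf (.up 3 502 3)) (.leaf (.up 1 25 1))) (.node (.leaf (.up 4 349 3)) (.leaf (.up 4 1124 3)))) (.node (.node (.leaf (.up 2 517 0)) (.leaf (.up 5 1158 4))) (.node (.leaf (.up 1 5 0)) (.leaf (.up 4 525 0))))) (.node (.node (.node (.leaf (.up 1 0 2)) (.leaf (.up 3 665 1))) (.node (.leaf (.up 3 171 2)) (.leaf (.up 2 909 0)))) (.node (.node (.leaf (.up 3 913 1)) (.leaf (.up 3 409 1))) (.node (.leaf (.up 2 1221 2)) (.leaf (.up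 2 1030 4)))))) (.node (.node (.node (.node (.leaf (.up 3 1510 0)) (.leaf (.up 3 789 3))) (.node (.leaf (.up 2 2022 0)) (.leaf (.up 4 1518 0)))) (.node (.node (.leaf (.up 2 1522 1)) (.leaf (.up 2 1899 2))) (.node (.leaf (.up 4 109 4)) (.leaf (.up 4 101 3))))) (.node (.node (.node (.leaf (.up 3 2010 2)) (.leaf (.up 3 1862 3))) (.node (.leaf (.up 3 1905 2)) (.leaf (.up 2 1902 0)))) (.node (.node (.leaf (.up 3 237 4)) (.leaf (.up 4 741 4))) (.node (.leaf (.up 3 271 3)) (.leaf (.up 3 1914 1))))))) (.node (.node (.node (.node (.node (.leaf (.up 4 1904 3)) (.leaf (.up 4 585 3))) (.node (.leaf (.up 3 1497 2)) (.leaf (.up 3 738 3)))) (.node (.node (.leaf (.up 4 692 4)) (.leaf (.up 3 646 2))) (.node (.leaf (.up 3 1087 0)) (.leaf (.up 2 557 2))))) (.node (.node (.node (.leaf (.up 4 820 4)) (.leaf (.up 3 1562 3))) (.node (.leaf (.up 4 904 3)) (.leaf (.up 3 1187 1)))) (.node (.node (.leaf (.up 4 1625 2)) (.leaf (.up 3 1719 0))) (.node (.leaf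 (.up 4 83 3)) (.leaf (.up 4 1386 3)))))) (.node (.node (.node (.node (.leaf (.up 4 1367 4)) (.leaf (.up 4 980 0))) (.node (.leaf (.up 1 1 3)) (.leaf (.up 3 468 0)))) (.node (.node (.leaf (.up 4 881 3)) (.leaf (.up 4 1119 4))) (.node (.leaf (.up 3 220 0)) (.leaf (.up 2 1763 3))))) (.node (.node (.node (.leaf (.up 1 72 1)) (.leaf (.up 2 448 3))) (.node (.leaf (.up 4 1106 3)) (.leaf (.up 1 64 1)))) (.node (.node (.leaf (.up 3 1826 3)) (.leaf (.up 3 539 3))) (.node (.leaf (.up 2 1929 3)) (.leaf (.up 5 84 0))))))))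

noncomputable def vt2_1_1001 : Tr VStep :=
  .node (.node (.node (.node (.node (.node (.node (.leaf (.root 1118)) (.leaf (.up 3 714 2))) (.node (.leaf (.up 3 491 3)) (.leaf (.up 3 1234 3)))) (.node (.node (.leaf (.up 5 1543 0)) (.leaf (.up 2 132 4))) (.node (.leaf (.up 4 1031 0)) (.leaf (.up 2 1551 0))))) (.node (.node (.node (.leaf (.up 2 1557 2)) (.leaf (.up 2 260 4))) (.node (.leaf (.up 3 268 4)) (.leaf (.up 2 1935 0)))) (.node (.node (.leaf (.up 1 12 4)) (.leaf (.up 3 516 4))) (.node (.leaf (.up 2 720 2)) (.leaf (.up 1 4 4)))))) (.node (.node (.node (.node (.leaf (.up 4 1674 2)) (.leaf (.up 3 1004 0))) (.node (.leaf (.up 3 996 0)) (.leaf (.up 4 1383 4)))) (.node (.node (.leaf (.up 2 740 0)) (.leaf (.up 2 1127 4))) (.node (.leaf (.up 2 1008 1)) (.leaf (.up 4 748 0))))) (.node (.node (.node (.leaf (.up 3 463 2)) (.leaf (.up 2 1511 4))) (.node (.leaf (.up 2 610 3)) (.leaf (.up 2 876 0)))) (.node (.node (.leaf (.up 4 274 3))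 (.leaf (.up 3 376 1))) (.node (.leaf (.up 3 1775 4)) (.leaf (.up 3 1255 4))))))) (.node (.node (.node (.node (.node (.leaf (.root 968)) (.leaf (.up 4 253 2))) (.node (.leaf (.up 1 41 1)) (.leaf (.up 3 596 3)))) (.node (.node (.leaf (.up 2 573 0)) (.leaf (.up 4 53 0))) (.node (.leaf (.up 1 61 0)) (.leaf (.up 3 565 0))))) (.node (.node (.node (.leaf (.up 2 957 0)) (.leaf (.up 3 1976 2))) (.node (.leaf (.up 3 1161 2)) (.leaf (.up 3 949 0)))) (.node (.node (.leaf (.up 4 78 3)) (.leaf (.up 3 693 0))) (.node (.leaf (.up 4 1590 4)) (.leaf (.up 4 1500 3)))))) (.node (.node (.node (.node (.leaf (.up 4 341 4)) (.leaf (.up 3 2006 0))) (.node (.leaf (.up 5 2014 0)) (.leaf (.up 2 1932 2)))) (.node (.node (.leaf (.up 2 1758 0)) (.leaf (.up 1 93 4))) (.node (.leaf (.up 2 876 3)) (.leaf (.up 2 994 2))))) (.node (.node (.node (.leaf (.up 4 1016 2)) (.leaf (.up 1 98 2))) (.node (.leaf (.up 4 469 4)) (.leaf (.up 2 477 3)))) (.node (.node (.leaf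 (.up 3 1942 2)) (.leaf (.up 5 733 4))) (.node (.leaf (.up 3 1855 3)) (.leaf (.up 2 518 3)))))))) (.node (.node (.node (.node (.node (.node (.leaf (.root 1390)) (.leaf (.up 3 486 2))) (.node (.leaf (.up 3 711 3)) (.leaf (.up 3 2046 3)))) (.node (.node (.leaf (.up 3 142 4)) (.leaf (.up 2 1416 2))) (.node (.leaf (.up 4 654 4)) (.leaf (.up 2 1037 0))))) (.node (.node (.node (.leaf (.up 3 270 4)) (.leaf (.up 2 774 3))) (.node (.leaf (.up 2 1426 2)) (.leaf (.up 2 1421 0)))) (.node (.node (.leaf (.up 2 343 2)) (.leaf (.up 1 6 4))) (.node (.leaf (.up 1 14 4)) (.leaf (.up 2 518 4)))))) (.node (.node (.node (.node (.leaf (.up 2 1462 3)) (.leaf (.up 4 143 3))) (.node (.leaf (.up 3 486 0)) (.leaf (.up 3 1893 4)))) (.node (.node (.leaf (.up 3 230 0)) (.leaf (.up 3 594 2))) (.node (.leaf (.up 2 498 1)) (.leaf (.up 3 238 0))))) (.node (.node (.node (.leaf (.up 2 626 1)) (.leaf (.up 2 2021 4))) (.node (.leaf (.up 3 334 3)) (.leaf (.up 2 366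 0)))) (.node (.node (.leaf (.up 4 1773 4)) (.leaf (.up 2 1303 2))) (.node (.leaf (.up 3 102 0)) (.leaf (.up 4 1765 4))))))) (.node (.node (.node (.node (.node (.leaf (.up 3 1258 3)) (.leaf (.up 3 467 3))) (.node (.leaf (.up 2 1089 3)) (.leaf (.up 3 376 3)))) (.node (.node (.leaf (.up 3 63 0)) (.leaf (.up 4 1724 4))) (.node (.leaf (.up 2 1716 4)) (.leaf (.up 5 1212 4))))) (.node (.node (.node (.leaf (.up 3 1806 2)) (.leaf (.up 3 951 0))) (.node (.leaf (.up 1 18 3)) (.leaf (.up 3 1087 2)))) (.node (.node (.leaf (.up 4 864 2)) (.leaf (.up 4 1627 3))) (.node (.leaf (.up 4 969 3)) (.leaf (.up 3 695 0)))))) (.node (.node (.node (.node (.leaf (.up 3 1937 2)) (.leaf (.up 3 1492 0))) (.node (.leaf (.up 2 343 4)) (.leaf (.up 4 863 4)))) (.node (.node (.leaf (.up 3 87 4)) (.leaf (.up 3 607 4))) (.node (.leaf (.up 1 64 3)) (.leaf (.up 2 95 4))))) (.node (.node (.node (.leaf (.up 4 471 4)) (.leaf (.up 3 602 3))) (.node (.leaf (.up 4 127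 2)) (.leaf (.up 3 479 4)))) (.node (.node (.leaf (.up 4 1628 0)) (.leaf (.up 3 1108 0))) (.node (.leaf (.up 2 1041 2)) (.leaf (.up 2 735 4))))))))

noncomputable def vt2_1_100 : Tr VStep := .node vt2_1_1000 vt2_1_1001

noncomputable def vt2_1_1010 : Tr VStep :=
  .node (.node (.node (.node (.node (.node (.node (.leaf (.root 875)) (.leaf (.up 2 909 3))) (.node (.leaf (.up 1 23 1)) (.leaf (.up 3 1155 2)))) (.node (.node (.leaf (.up 4 1391 3)) (.leaf (.up 4 86 3))) (.node (.leaf (.up 3 3 0)) (.leaf (.up 3 523 0))))) (.node (.node (.node (.leaf (.up 3 743 3)) (.leaf (.up 2 1280 4))) (.node (.leaf (.up 4 588 3)) (.leaf (.up 4 1909 3)))) (.node (.node (.leaf (.up 3 1177 2)) (.leaf (.up 3 1536 4))) (.node (.leaf (.up 3 643 0)) (.leaf (.up 4 1198 3)))))) (.node (.node (.node (.node (.leaf (.up 2 366 3)) (.leaf (.up 4 1111 3))) (.node (.leaf (.up 4 2016 0)) (.leaf (.up 3 857 2)))) (.node (.node (.leaf (.up 2 1030 2)) (.leaf (.up 2 1932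 3))) (.node (.leaf (.up 3 542 3)) (.leaf (.up 3 1831 3))))) (.node (.node (.node (.leaf (.up 3 1888 0)) (.leaf (.up 1 4 3))) (.node (.leaf (.up 3 1926 2)) (.leaf (.up 4 995 4)))) (.node (.node (.leaf (.up 3 835 2)) (.leaf (.up 3 217 2))) (.node (.leaf (.up 3 1000 2)) (.leaf (.up 4 884 3))))))) (.node (.node (.node (.node (.node (.leaf (.up 3 434 4)) (.leaf (.up 3 1567 2))) (.node (.leaf (.up 4 946 4)) (.leaf (.up 2 1716 2)))) (.node (.node (.leaf (.up 3 491 2)) (.leaf (.up 2 625 2))) (.node (.leaf (.up 3 1837 1)) (.leaf (.up 3 1317 1))))) (.node (.node (.node (.leaf (.up 4 1121 3)) (.leaf (.up 4 344 3))) (.node (.leaf (.up 4 619 2)) (.leaf (.up 3 499 3)))) (.node (.node (.leaf (.up 4 1978 3)) (.leaf (.up 3 643 3))) (.node (.leaf (.up 4 562 4)) (.leaf (.up 2 552 3)))))) (.node (.node (.node (.node (.leaf (.up 3 607 2)) (.leaf (.up 4 978 0))) (.node (.leaf (.up 3 1859 3)) (.leaf (.up 2 366 2)))) (.node (.node (.leaf (.up 3 462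 1)) (.leaf (.up 3 266 3))) (.node (.leaf (.up 4 1105 4)) (.leaf (.up 2 1280 2))))) (.node (.node (.node (.leaf (.up 4 858 0)) (.leaf (.up 3 1497 4))) (.node (.leaf (.up 3 784 3)) (.leaf (.up 3 850 0)))) (.node (.node (.leaf (.up 4 96 3)) (.leaf (.up 3 594 0))) (.node (.leaf (.up 3 602 0)) (.leaf (.up 1 82 0)))))))) (.node (.node (.node (.node (.node (.node (.leaf (.root 1620)) (.leaf (.up 2 1796 2))) (.node (.leaf (.up 2 257 0)) (.leaf (.up 1 10 3)))) (.node (.node (.leaf (.up 1 1 0)) (.leaf (.up 4 890 3))) (.node (.leaf (.up 2 277 1)) (.leaf (.up 1 9 0))))) (.node (.node (.node (.leaf (.up 3 987 2)) (.leaf (.up 3 65 2))) (.node (.leaf (.up 3 352 3)) (.leaf (.up 2 393 0)))) (.node (.node (.leaf (.up 3 528 3)) (.leaf (.up 3 1071 2))) (.node (.leaf (.up 4 1822 2)) (.leaf (.up 2 1538 4)))))) (.node (.node (.node (.node (.leaf (.up 3 578 3)) (.leaf (.up 2 353 4))) (.node (.leaf (.up 3 361 4)) (.leaf (.up 3 2000 3)))) (.node (.node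 (.leaf (.up 3 1250 0)) (.leaf (.up 4 1200 2))) (.node (.leaf (.up 4 1526 1)) (.leaf (.up 3 1258 0))))) (.node (.node (.node (.leaf (.up 2 1654 1)) (.leaf (.up 3 1947 2))) (.node (.leaf (.up 4 1890 0)) (.leaf (.up 4 1386 0)))) (.node (.node (.leaf (.up 3 111 2)) (.leaf (.up 3 1013 2))) (.node (.leaf (.up 3 196 2)) (.leaf (.up 2 737 4))))))) (.node (.node (.node (.node (.node (.leaf (.up 3 798 3)) (.leaf (.up 2 1331 0))) (.node (.leaf (.up 2 1538 2)) (.leaf (.up 2 952 4)))) (.node (.node (.leaf (.up 3 711 2)) (.leaf (.up 4 349 2))) (.node (.leaf (.up 3 1327 1)) (.leaf (.up 3 502 2))))) (.node (.node (.node (.leaf (.up 4 304 4)) (.leaf (.up 3 628 3))) (.node (.leaf (.up 2 2022 3)) (.leaf (.up 2 735 3)))) (.node (.node (.leaf (.up 4 1410 2)) (.leaf (.up 3 431 3))) (.node (.leaf (.up 2 1085 3)) (.leaf (.up 2 260 3)))))) (.node (.node (.node (.node (.leaf (.up 2 984 0)) (.leaf (.up 3 1371 4))) (.node (.leaf (.up 3 1363 4)) (.leaf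 (.up 3 578 2)))) (.node (.node (.leaf (.up 5 216 0)) (.leaf (.up 2 720 0))) (.node (.leaf (.up 2 1462 2)) (.leaf (.up 3 208 0))))) (.node (.node (.node (.leaf (.up 4 344 0)) (.leaf (.up 4 2011 4))) (.node (.leaf (.up 3 2003 4)) (.leaf (.up 4 1287 2)))) (.node (.node (.leaf (.up 3 600 0)) (.leaf (.up 1 80 0))) (.node (.leaf (.up 2 999 3)) (.leaf (.up 2 1758 3))))))))

noncomputable def vt2_1_1011 : Tr VStep :=
  .node (.node (.node (.node (.node (.node (.node (.leaf (.up 4 651 2)) (.leaf (.up 1 23 3))) (.node (.leaf (.up 3 392 4)) (.leaf (.up 3 1803 0)))) (.node (.node (.leaf (.up 3 1027 0)) (.leaf (.up 2 1407 2))) (.node (.leaf (.up 2 1303 1)) (.leaf (.up 3 1492 2))))) (.node (.node (.node (.leaf (.up 3 264 4)) (.leaf (.up 2 768 4))) (.node (.leaf (.up 3 470 3)) (.leaf (.up 3 256 4)))) (.node (.node (.leaf (.up 3 678 3)) (.leaf (.up 1 0 4))) (.node (.leaf (.up 1 8 4)) (.leaf (.up 2 512 4)))))) (.node (.node (.node (.node (.leaf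 (.root 1484)) (.leaf (.up 3 1379 4))) (.node (.leaf (.up 3 607 3)) (.leaf (.up 3 1000 0)))) (.node (.node (.leaf (.up 3 303 3)) (.leaf (.up 5 744 0))) (.node (.leaf (.up 4 736 0)) (.leaf (.up 4 232 0))))) (.node (.node (.node (.leaf (.up 3 532 2)) (.leaf (.up 2 2019 4))) (.node (.leaf (.up 4 864 0)) (.leaf (.up 4 360 0)))) (.node (.node (.leaf (.up 2 1771 4)) (.leaf (.up 3 1251 4))) (.node (.leaf (.up 3 1259 4)) (.leaf (.up 2 1763 4))))))) (.node (.node (.node (.node (.node (.leaf (.up 3 825 0)) (.leaf (.up 3 1466 4))) (.node (.leaf (.up 1 23 2)) (.leaf (.up 2 909 2)))) (.node (.node (.leaf (.up 3 1234 2)) (.leaf (.up 4 1864 2))) (.node (.leaf (.up 3 569 0)) (.leaf (.up 2 2019 2))))) (.node (.node (.node (.leaf (.up 3 2041 2)) (.leaf (.up 3 706 3))) (.node (.leaf (.up 4 1874 2)) (.leaf (.up 3 1224 2)))) (.node (.node (.leaf (.up 2 697 0)) (.leaf (.up 4 281 3))) (.node (.leaf (.up 3 1163 3)) (.leaf (.up 3 434 3)))))) (.node (.node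 (.node (.node (.leaf (.up 3 2010 0)) (.leaf (.up 3 331 3))) (.node (.leaf (.up 3 1241 3)) (.leaf (.up 3 857 4)))) (.node (.node (.leaf (.up 4 81 4)) (.leaf (.up 4 601 4))) (.node (.leaf (.up 3 593 4)) (.leaf (.up 3 571 3))))) (.node (.node (.node (.leaf (.up 2 1370 0)) (.leaf (.up 4 1874 0))) (.node (.leaf (.up 4 138 3)) (.leaf (.up 3 786 2)))) (.node (.node (.leaf (.up 4 1101 2)) (.leaf (.up 3 2007 2))) (.node (.leaf (.up 4 209 4)) (.leaf (.up 3 1618 0)))))))) (.node (.node (.node (.node (.node (.node (.leaf (.up 2 1538 3)) (.leaf (.up 2 827 3))) (.node (.leaf (.up 3 1045 1)) (.leaf (.up 3 662 2)))) (.node (.node (.leaf (.up 3 1497 3)) (.leaf (.up 4 1619 2))) (.node (.leaf (.up 2 1813 1)) (.leaf (.up 3 1784 2))))) (.node (.node (.node (.leaf (.up 3 593 3)) (.leaf (.up 3 258 4))) (.node (.leaf (.up 3 266 4)) (.leaf (.up 2 1929 0)))) (.node (.node (.leaf (.up 1 10 4)) (.leaf (.up 2 278 2))) (.node (.leaf (.up 3 289 3)) (.leaf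 (.up 1 2 4)))))) (.node (.node (.node (.node (.leaf (.root 1106)) (.leaf (.up 2 1511 2))) (.node (.leaf (.up 2 994 0)) (.leaf (.up 4 1377 4)))) (.node (.node (.leaf (.up 3 531 2)) (.leaf (.up 2 393 2))) (.node (.leaf (.up 4 1129 4)) (.leaf (.up 3 1937 3))))) (.node (.node (.node (.leaf (.up 3 2025 4)) (.leaf (.up 5 362 0))) (.node (.leaf (.up 4 354 0)) (.leaf (.up 1 25 3)))) (.node (.node (.leaf (.up 1 98 0)) (.leaf (.up 3 1761 4))) (.node (.leaf (.up 2 610 0)) (.leaf (.up 2 1249 4))))))) (.node (.node (.node (.node (.node (.leaf (.root 2084)) (.leaf (.up 1 10 2))) (.node (.leaf (.up 1 47 1)) (.leaf (.up 4 1302 3)))) (.node (.node (.leaf (.up 3 571 0)) (.leaf (.up 4 1124 2))) (.node (.leaf (.up 2 815 1)) (.leaf (.up 4 1231 2))))) (.node (.node (.node (.leaf (.up 4 1840 4)) (.leaf (.up 3 1871 2))) (.node (.leaf (.up 3 1150 2)) (.leaf (.up 3 325 3)))) (.node (.node (.leaf (.up 4 187 0)) (.leaf (.up 3 565 3))) (.node (.leaf (.up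 1 16 2)) (.leaf (.up 4 670 3)))))) (.node (.node (.node (.node (.leaf (.up 4 1496 0)) (.leaf (.up 3 859 4))) (.node (.leaf (.up 2 1249 2)) (.leaf (.up 2 347 4)))) (.node (.node (.leaf (.up 3 1157 3)) (.leaf (.up 4 91 4))) (.node (.leaf (.up 4 143 2)) (.leaf (.up 3 789 2))))) (.node (.node (.node (.leaf (.up 3 781 3)) (.leaf (.up 4 1360 0))) (.node (.leaf (.up 3 467 4)) (.leaf (.up 3 987 4)))) (.node (.node (.leaf (.up 4 1889 2)) (.leaf (.up 3 731 4))) (.node (.leaf (.up 4 723 4)) (.leaf (.up 2 219 4))))))))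

noncomputable def vt2_1_101 : Tr VStep := .node vt2_1_1010 vt2_1_1011

noncomputable def vt2_1_10 : Tr VStep := .node vt2_1_100 vt2_1_101

noncomputable def vt2_1_1100 : Tr VStep :=
  .node (.node (.node (.node (.node (.node (.node (.leaf (.up 2 847 3)) (.leaf (.up 2 1654 3))) (.node (.leaf (.up 3 996 3)) (.leaf (.up 2 1757 3)))) (.node (.node (.leaf (.up 2 535 0)) (.leaf (.up 4 1172 4))) (.node (.leaf (.up 1 23 0)) (.leaf (.up 5 543 0))))) (.node (.node (.node (.leaf (.up 2 697 2)) (.leaf (.up 2 1300 4))) (.node (.leaf (.up 2 530 2)) (.leaf (.up 3 392 2)))) (.node (.node (.leaf (.up 4 1751 2)) (.leaf (.up 3 1556 4))) (.node (.leaf (.up 3 1660 2)) (.leaf (.up 3 1510 2)))))) (.node (.node (.node (.node (.leaf (.up 4 1524 0)) (.leaf (.up 4 887 4))) (.node (.leaf (.up 3 1248 1)) (.leaf (.up 3 263 3)))) (.node (.node (.leaf (.up 4 1780 0)) (.leaf (.up 2 631 3))) (.node (.leaf (.up 2 2021 3)) (.leaf (.up 2 631 4))))) (.node (.node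 (.node (.leaf (.up 3 1379 2)) (.leaf (.up 2 503 4))) (.node (.leaf (.up 3 1480 2)) (.leaf (.up 3 1618 2)))) (.node (.node (.leaf (.up 3 797 3)) (.leaf (.up 3 1660 0))) (.node (.leaf (.up 3 1652 0)) (.leaf (.up 4 1679 3))))))) (.node (.node (.node (.node (.node (.leaf (.up 4 1481 3)) (.leaf (.up 4 1105 2))) (.node (.leaf (.up 3 1888 2)) (.leaf (.up 3 1274 2)))) (.node (.node (.leaf (.up 3 678 4)) (.leaf (.up 3 63 2))) (.node (.leaf (.up 4 1069 0)) (.leaf (.up 2 148 2))))) (.node (.node (.node (.leaf (.up 3 142 2)) (.leaf (.up 2 788 2))) (.node (.leaf (.up 4 37 2)) (.leaf (.up 3 814 4)))) (.node (.node (.leaf (.up 3 1248 2)) (.leaf (.up 3 1914 2))) (.node (.leaf (.up 4 550 4)) (.leaf (.up 3 2003 3)))))) (.node (.node (.node (.node (.leaf (.up 3 531 3)) (.leaf (.up 3 1834 3))) (.node (.leaf (.up 4 974 0)) (.leaf (.up 4 454 0)))) (.node (.node (.leaf (.up 3 718 0)) (.leaf (.up 2 2021 2))) (.node (.leaf (.up 3 1236 2)) (.leaf (.up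 4 710 0))))) (.node (.node (.node (.leaf (.up 3 1876 2)) (.leaf (.up 2 889 3))) (.node (.leaf (.up 2 1771 3)) (.leaf (.up 1 82 1)))) (.node (.node (.leaf (.up 2 1221 4)) (.leaf (.up 5 1741 4))) (.node (.leaf (.up 3 590 0)) (.leaf (.up 1 9 3)))))))) (.node (.node (.node (.node (.node (.node (.leaf (.up 1 1 1)) (.leaf (.up 2 1370 3))) (.node (.leaf (.up 2 277 0)) (.leaf (.up 1 9 1)))) (.node (.node (.leaf (.up 1 21 0)) (.leaf (.up 4 541 0))) (.node (.leaf (.up 2 257 1)) (.leaf (.up 3 29 0))))) (.node (.node (.node (.leaf (.up 3 641 1)) (.leaf (.up 3 137 1))) (.node (.leaf (.up 2 318 2)) (.leaf (.up 2 413 0)))) (.node (.node (.leaf (.up 3 385 1)) (.leaf (.up 3 905 1))) (.node (.leaf (.up 4 1360 2)) (.leaf (.up 2 1558 4)))))) (.node (.node (.node (.node (.leaf (.up 3 1250 1)) (.leaf (.up 4 1534 0))) (.node (.leaf (.up 4 1810 3)) (.leaf (.up 3 571 2)))) (.node (.node (.leaf (.up 3 2018 1)) (.leaf (.up 2 347 3))) (.node (.leaf (.up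 3 1225 3)) (.leaf (.up 3 117 4))))) (.node (.node (.node (.leaf (.up 3 1634 1)) (.leaf (.up 3 1013 4))) (.node (.leaf (.up 3 1764 2)) (.leaf (.up 2 1406 0)))) (.node (.node (.leaf (.up 2 1654 0)) (.leaf (.up 3 1150 0))) (.node (.leaf (.up 4 253 4)) (.leaf (.up 2 272 2))))))) (.node (.node (.node (.node (.node (.leaf (.up 3 1255 2)) (.leaf (.up 4 1917 2))) (.node (.leaf (.up 3 1100 2)) (.leaf (.up 3 2006 2)))) (.node (.node (.leaf (.up 3 1071 0)) (.leaf (.up 1 7 3))) (.node (.leaf (.up 4 1583 0)) (.leaf (.up 2 952 2))))) (.node (.node (.node (.leaf (.up 4 292 4)) (.leaf (.up 2 1935 3))) (.node (.leaf (.up 4 541 3)) (.leaf (.up 3 1828 3)))) (.node (.node (.leaf (.up 4 1996 2)) (.leaf (.up 3 1108 3))) (.node (.leaf (.up 4 454 3)) (.leaf (.up 4 1279 3)))))) (.node (.node (.node (.node (.leaf (.up 3 829 2)) (.leaf (.up 2 1030 3))) (.node (.leaf (.up 4 460 0)) (.leaf (.up 1 12 2)))) (.node (.node (.leaf (.up 2 740 3)) (.leaf (.up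 3 1225 2))) (.node (.leaf (.up 3 591 3)) (.leaf (.up 3 196 0))))) (.node (.node (.node (.leaf (.up 2 1388 3)) (.leaf (.up 1 80 1))) (.node (.leaf (.up 3 1991 4)) (.leaf (.up 2 254 3)))) (.node (.node (.leaf (.up 2 22 2)) (.leaf (.up 2 910 3))) (.node (.leaf (.up 5 1223 4)) (.leaf (.up 4 580 0))))))))

noncomputable def vt2_1_1101 : Tr VStep :=
  .node (.node (.node (.node (.node (.node (.node (.leaf (.up 3 213 3)) (.leaf (.up 4 863 2))) (.node (.leaf (.up 2 1303 0)) (.leaf (.up 4 1351 3)))) (.node (.node (.leaf (.up 4 1047 0)) (.leaf (.up 3 1567 0))) (.node (.leaf (.up 3 1559 0)) (.leaf (.up 2 148 4))))) (.node (.node (.node (.leaf (.up 4 1920 2)) (.leaf (.up 2 788 4))) (.node (.leaf (.up 3 796 4)) (.leaf (.up 2 1439 0)))) (.node (.node (.leaf (.up 3 540 4)) (.leaf (.up 3 20 4))) (.node (.leaf (.up 4 837 2)) (.leaf (.up 3 532 4)))))) (.node (.node (.node (.node (.leaf (.up 3 1807 3)) (.leaf (.up 3 1157 2))) (.node (.leaf (.up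 2 1407 4)) (.leaf (.up 4 1911 4)))) (.node (.node (.leaf (.up 2 244 0)) (.leaf (.up 3 1655 4))) (.node (.leaf (.up 3 480 1)) (.leaf (.up 1 64 2))))) (.node (.node (.node (.leaf (.up 3 860 3)) (.leaf (.up 2 2039 4))) (.node (.leaf (.up 2 241 2)) (.leaf (.up 2 380 0)))) (.node (.node (.leaf (.up 3 628 0)) (.leaf (.up 4 124 0))) (.node (.leaf (.up 4 1183 2)) (.leaf (.up 4 1797 2))))))) (.node (.node (.node (.node (.node (.leaf (.up 4 1619 3)) (.leaf (.up 4 360 2))) (.node (.leaf (.up 3 1784 3)) (.leaf (.up 4 451 2)))) (.node (.node (.leaf (.up 2 1416 3)) (.leaf (.up 5 549 0))) (.node (.leaf (.up 2 557 0)) (.leaf (.up 4 37 0))))) (.node (.node (.node (.leaf (.up 2 512 3)) (.leaf (.up 3 1838 4))) (.node (.leaf (.up 3 1830 4)) (.leaf (.up 3 1938 3)))) (.node (.node (.leaf (.up 4 1574 4)) (.leaf (.up 3 1250 3))) (.node (.leaf (.up 4 1062 4)) (.leaf (.up 4 1582 4)))))) (.node (.node (.node (.node (.leaf (.up 2 393 3)) (.leaf (.up 4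 1200 3))) (.node (.leaf (.up 3 325 4)) (.leaf (.up 3 1234 1)))) (.node (.node (.leaf (.up 3 594 3)) (.leaf (.up 2 1899 3))) (.node (.leaf (.up 3 1742 0)) (.leaf (.up 1 77 4))))) (.node (.node (.node (.leaf (.up 4 453 4)) (.leaf (.up 2 503 2))) (.node (.leaf (.up 4 710 2)) (.leaf (.up 1 72 3)))) (.node (.node (.leaf (.up 2 1370 1)) (.leaf (.up 2 1433 2))) (.node (.leaf (.up 4 197 4)) (.leaf (.up 5 1606 0)))))))) (.node (.node (.node (.node (.node (.node (.leaf (.up 3 1017 3)) (.leaf (.up 4 115 2))) (.node (.leaf (.up 2 1813 0)) (.leaf (.up 4 1643 3)))) (.node (.node (.leaf (.up 2 1557 0)) (.leaf (.up 3 1053 0))) (.node (.leaf (.up 3 1045 0)) (.leaf (.up 2 1206 2))))) (.node (.node (.node (.leaf (.up 3 798 4)) (.leaf (.up 2 278 4))) (.node (.leaf (.up 4 1031 2)) (.leaf (.up 2 1949 0)))) (.node (.node (.leaf (.up 4 194 2)) (.leaf (.up 3 534 4))) (.node (.leaf (.up 3 542 4)) (.leaf (.up 2 22 4)))))) (.node (.node (.node (.node (.leaf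 (.up 3 502 0)) (.leaf (.up 4 1022 0))) (.node (.leaf (.up 4 1917 4)) (.leaf (.up 3 1397 4)))) (.node (.node (.leaf (.up 1 93 2)) (.leaf (.up 2 254 0))) (.node (.leaf (.up 2 994 1)) (.leaf (.up 2 876 2))))) (.node (.node (.node (.leaf (.up 1 98 1)) (.leaf (.up 2 1525 4))) (.node (.leaf (.up 2 219 3)) (.leaf (.up 2 894 0)))) (.node (.node (.leaf (.up 3 118 0)) (.leaf (.up 3 1154 2))) (.node (.leaf (.up 2 768 3)) (.leaf (.up 3 126 0))))))) (.node (.node (.node (.node (.node (.leaf (.up 2 1407 3)) (.leaf (.up 4 580 2))) (.node (.leaf (.up 2 815 0)) (.leaf (.up 3 237 3)))) (.node (.node (.leaf (.up 2 559 0)) (.leaf (.up 3 39 0))) (.node (.leaf (.up 1 47 0)) (.leaf (.up 4 307 1))))) (.node (.node (.node (.leaf (.up 3 1828 4)) (.leaf (.up 3 1045 3))) (.node (.leaf (.up 3 431 0)) (.leaf (.up 3 1836 4)))) (.node (.node (.leaf (.up 4 757 2)) (.leaf (.up 4 1580 4))) (.node (.leaf (.up 4 1572 4)) (.leaf (.up 3 1893 3)))))) (.node (.node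 (.node (.node (.leaf (.up 5 327 4)) (.leaf (.up 2 847 4))) (.node (.leaf (.up 4 1996 0)) (.leaf (.up 5 1476 0)))) (.node (.node (.leaf (.up 2 583 4)) (.leaf (.up 1 79 4))) (.node (.leaf (.up 4 1228 0)) (.leaf (.up 2 347 2))))) (.node (.node (.node (.leaf (.up 4 321 2)) (.leaf (.up 3 731 2))) (.node (.leaf (.up 4 455 4)) (.leaf (.up 2 1860 0)))) (.node (.node (.leaf (.up 3 1100 0)) (.leaf (.up 3 1717 2))) (.node (.leaf (.up 3 711 4)) (.leaf (.up 5 1092 0))))))))

noncomputable def vt2_1_110 : Tr VStep := .node vt2_1_1100 vt2_1_1101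

noncomputable def vt2_1_1110 : Tr VStep :=
  .node (.node (.node (.node (.node (.node (.node (.leaf (.root 2388)) (.leaf (.up 3 536 3))) (.node (.leaf (.up 2 275 0)) (.leaf (.up 4 1302 2)))) (.node (.node (.leaf (.up 2 19 0)) (.leaf (.up 3 539 0))) (.node (.leaf (.up 3 531 0)) (.leaf (.up 3 376 2))))) (.node (.node (.node (.leaf (.up 4 354 2)) (.leaf (.up 2 1808 4))) (.node (.leaf (.up 4 985 3)) (.leaf (.up 4 1760 3)))) (.node (.node (.leaf (.up 3 1292 2)) (.leaf (.up 3 1040 4))) (.node (.leaf (.up 1 2 3)) (.leaf (.up 4 1339 3)))))) (.node (.node (.node (.node (.leaf (.up 3 2032 0)) (.leaf (.up 3 371 4))) (.node (.leaf (.up 1 80 3)) (.leaf (.up 2 1385 3)))) (.node (.node (.leaf (.up 4 1264 0)) (.leaf (.up 3 1784 0))) (.node (.leaf (.up 5 1776 0)) (.leaf (.up 4 115 4))))) (.node (.node (.node (.leaf (.up 4 507 4)) (.leaf (.up 4 1912 0))) (.node (.leaf (.up 2 1555 2)) (.leaf (.up 3 499 4)))) (.node (.node (.leaf (.up 3 726 2))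 (.leaf (.up 3 1900 1))) (.node (.leaf (.up 3 637 2)) (.leaf (.up 2 737 3))))))) (.node (.node (.node (.node (.node (.leaf (.up 2 1085 1)) (.leaf (.up 2 1930 2))) (.node (.leaf (.up 3 268 3)) (.leaf (.up 3 1825 0)))) (.node (.node (.leaf (.up 3 126 2)) (.leaf (.up 3 996 2))) (.node (.leaf (.up 3 213 2)) (.leaf (.up 2 847 2))))) (.node (.node (.node (.leaf (.up 4 1524 3)) (.leaf (.up 4 205 3))) (.node (.leaf (.up 4 1022 2)) (.leaf (.up 3 102 3)))) (.node (.node (.leaf (.up 4 1583 3)) (.leaf (.up 3 790 3))) (.node (.leaf (.up 4 34 4)) (.leaf (.up 2 957 3)))))) (.node (.node (.node (.node (.leaf (.up 3 970 0)) (.leaf (.up 1 80 2))) (.node (.leaf (.up 3 1345 4)) (.leaf (.up 3 962 0)))) (.node (.node (.leaf (.up 2 1089 4)) (.leaf (.up 3 706 0))) (.node (.leaf (.up 3 714 0)) (.leaf (.up 4 194 0))))) (.node (.node (.node (.leaf (.up 3 1167 2)) (.leaf (.up 2 1813 2))) (.node (.leaf (.up 2 842 0)) (.leaf (.up 4 322 0)))) (.node (.node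 (.leaf (.up 3 1729 4)) (.leaf (.up 1 66 0))) (.node (.leaf (.up 1 74 0)) (.leaf (.up 2 1127 3)))))))) (.node (.node (.node (.node (.node (.node (.leaf (.root 1920)) (.leaf (.up 3 1938 4))) (.node (.leaf (.up 1 5 1)) (.leaf (.up 2 1426 4)))) (.node (.node (.leaf (.up 3 2006 3)) (.leaf (.up 1 25 0))) (.node (.leaf (.up 3 462 2)) (.leaf (.up 3 596 2))))) (.node (.node (.node (.leaf (.up 3 590 2)) (.leaf (.up 3 468 2))) (.node (.leaf (.up 4 741 2)) (.leaf (.up 2 921 0)))) (.node (.node (.leaf (.up 2 145 0)) (.leaf (.up 3 1466 2))) (.node (.leaf (.up 3 1562 4)) (.leaf (.up 2 1042 4)))))) (.node (.node (.node (.node (.leaf (.up 2 1522 0)) (.leaf (.up 3 1262 1))) (.node (.leaf (.up 2 889 4)) (.leaf (.up 3 480 2)))) (.node (.node (.leaf (.up 1 12 3)) (.leaf (.up 3 1274 0))) (.node (.leaf (.up 2 2022 1)) (.leaf (.up 2 625 4))))) (.node (.node (.node (.leaf (.up 3 1017 4)) (.leaf (.up 4 1402 0))) (.node (.leaf (.up 3 1839 3)) (.leaf (.up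 3 534 3)))) (.node (.node (.leaf (.up 3 506 2)) (.leaf (.up 3 608 2))) (.node (.leaf (.up 3 337 2)) (.leaf (.up 2 241 4))))))) (.node (.node (.node (.node (.node (.leaf (.up 4 651 3)) (.leaf (.up 3 1190 2))) (.node (.leaf (.up 3 1943 2)) (.leaf (.up 2 1037 2)))) (.node (.node (.leaf (.up 3 850 2)) (.leaf (.up 3 200 2))) (.node (.leaf (.up 3 1017 2)) (.leaf (.up 4 99 2))))) (.node (.node (.node (.leaf (.up 4 800 4)) (.leaf (.up 3 993 3))) (.node (.leaf (.up 2 1651 3)) (.leaf (.up 2 842 3)))) (.node (.node (.leaf (.up 4 1047 2)) (.leaf (.up 2 552 4))) (.node (.leaf (.up 2 1448 3)) (.leaf (.up 2 145 3)))))) (.node (.node (.node (.node (.leaf (.up 3 230 2)) (.leaf (.up 2 1867 4))) (.node (.leaf (.up 1 77 2)) (.leaf (.up 2 448 0)))) (.node (.node (.leaf (.up 4 1674 3)) (.leaf (.up 4 1810 2))) (.node (.leaf (.up 3 200 0)) (.leaf (.up 3 792 3))))) (.node (.node (.node (.leaf (.up 3 258 3)) (.leaf (.up 3 596 1))) (.node (.leaf (.up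 4 1475 4)) (.leaf (.up 3 1170 2)))) (.node (.node (.leaf (.up 1 72 0)) (.leaf (.up 3 576 0))) (.node (.leaf (.up 2 626 3)) (.leaf (.up 1 64 0))))))))

noncomputable def vt2_1_1111 : Tr VStep :=
  .node (.node (.node (.node (.node (.node (.node (.leaf (.up 3 798 2)) (.leaf (.up 2 132 2))) (.node (.leaf (.up 3 949 2)) (.leaf (.up 1 47 2)))) (.node (.node (.leaf (.up 2 1555 0)) (.leaf (.up 3 1258 2))) (.node (.leaf (.up 3 1043 0)) (.leaf (.up 2 1089 2))))) (.node (.node (.node (.leaf (.up 3 792 4)) (.leaf (.up 2 272 4))) (.node (.leaf (.up 4 1264 2)) (.leaf (.up 3 784 4)))) (.node (.node (.leaf (.up 4 53 2)) (.leaf (.up 3 528 4))) (.node (.leaf (.up 3 536 4)) (.leaf (.up 1 16 4)))))) (.node (.node (.node (.node (.leaf (.root 1886)) (.leaf (.up 4 1016 0))) (.node (.leaf (.up 2 1008 0)) (.leaf (.up 3 2037 2)))) (.node (.node (.leaf (.up 4 752 0)) (.leaf (.up 3 1139 4))) (.node (.leaf (.up 1 1 2)) (.leaf (.up 2 1651 4))))) (.node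 (.node (.node (.leaf (.up 4 100 1)) (.leaf (.up 3 523 3))) (.node (.leaf (.up 3 1945 3)) (.leaf (.up 5 2035 4)))) (.node (.node (.leaf (.up 2 1257 3)) (.leaf (.up 3 1779 4))) (.node (.leaf (.up 2 1860 2)) (.leaf (.up 2 1267 4))))))) (.node (.node (.node (.node (.node (.leaf (.root 2186)) (.leaf (.up 2 1796 3))) (.node (.leaf (.up 1 61 1)) (.leaf (.up 3 536 2)))) (.node (.node (.leaf (.up 2 553 0)) (.leaf (.up 2 1757 2))) (.node (.leaf (.up 1 41 0)) (.leaf (.up 2 1654 2))))) (.node (.node (.node (.leaf (.up 3 1826 4)) (.leaf (.up 3 855 3))) (.node (.leaf (.up 4 1735 2)) (.leaf (.up 3 1834 4)))) (.node (.node (.leaf (.up 2 957 1)) (.leaf (.up 4 1578 4))) (.node (.leaf (.up 4 1570 4)) (.leaf (.up 3 39 3)))))) (.node (.node (.node (.node (.leaf (.up 2 1511 3)) (.leaf (.up 2 1385 2))) (.node (.leaf (.up 4 833 4)) (.leaf (.up 3 329 4)))) (.node (.node (.leaf (.up 4 577 4)) (.leaf (.up 3 2006 1))) (.node (.leaf (.up 3 65 4)) (.leaf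 (.up 4 1730 0))))) (.node (.node (.node (.leaf (.up 3 1866 0)) (.leaf (.up 3 1165 3))) (.node (.leaf (.up 3 287 3)) (.leaf (.up 2 1858 0)))) (.node (.node (.leaf (.up 4 1496 2)) (.leaf (.up 3 1602 0))) (.node (.leaf (.up 4 705 4)) (.leaf (.up 3 1769 2)))))))) (.node (.node (.node (.node (.node (.node (.leaf (.up 3 1943 3)) (.leaf (.up 3 402 4))) (.node (.leaf (.up 4 410 4)) (.leaf (.up 2 771 2)))) (.node (.node (.leaf (.up 2 1041 0)) (.leaf (.up 3 1293 1))) (.node (.leaf (.up 3 1255 3)) (.leaf (.up 4 1901 2))))) (.node (.node (.node (.leaf (.up 4 1911 2)) (.leaf (.up 3 786 4))) (.node (.leaf (.up 3 794 4)) (.leaf (.up 2 1433 0)))) (.node (.node (.leaf (.up 3 538 4)) (.leaf (.up 1 18 4))) (.node (.leaf (.up 4 946 2)) (.leaf (.up 2 530 4)))))) (.node (.node (.node (.node (.leaf (.up 1 77 3)) (.leaf (.up 3 506 0))) (.node (.leaf (.up 2 498 0)) (.leaf (.up 3 1241 2)))) (.node (.node (.leaf (.up 4 1145 4)) (.leaf (.up 4 1649 4)))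 (.node (.leaf (.up 3 829 3)) (.leaf (.up 5 1137 4))))) (.node (.node (.node (.leaf (.up 4 1529 4)) (.leaf (.up 4 890 0))) (.node (.leaf (.up 1 6 2)) (.leaf (.up 2 396 3)))) (.node (.node (.leaf (.up 2 626 0)) (.leaf (.up 3 1265 4))) (.node (.leaf (.up 2 1902 3)) (.leaf (.up 2 1777 4))))))) (.node (.node (.node (.node (.node (.leaf (.up 2 517 2)) (.leaf (.up 2 1448 4))) (.node (.leaf (.up 3 1440 4)) (.leaf (.up 3 1155 3)))) (.node (.node (.leaf (.up 3 714 3)) (.leaf (.up 4 1521 2))) (.node (.leaf (.up 4 609 3)) (.leaf (.up 2 1370 2))))) (.node (.node (.node (.leaf (.up 4 1312 4)) (.leaf (.up 3 1832 4))) (.node (.leaf (.up 3 1824 4)) (.leaf (.up 3 208 3)))) (.node (.node (.leaf (.up 3 1568 4)) (.leaf (.up 3 928 3))) (.node (.leaf (.up 3 171 0)) (.leaf (.up 4 1576 4)))))) (.node (.node (.node (.node (.leaf (.up 3 835 4)) (.leaf (.up 3 331 4))) (.node (.leaf (.up 3 1480 0)) (.leaf (.up 3 857 3)))) (.node (.node (.leaf (.up 3 1224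 0)) (.leaf (.up 1 41 3))) (.node (.leaf (.up 4 1736 0)) (.leaf (.up 4 1216 0))))) (.node (.node (.node (.leaf (.up 4 451 4)) (.leaf (.up 3 1108 1))) (.node (.leaf (.up 4 1864 0)) (.leaf (.up 4 459 4)))) (.node (.node (.leaf (.up 4 1780 2)) (.leaf (.up 3 1876 1))) (.node (.leaf (.up 4 195 4)) (.leaf (.up 3 715 4))))))))

noncomputable def vt2_1_111 : Tr VStep := .node vt2_1_1110 vt2_1_1111

noncomputable def vt2_1_11 : Tr VStep := .node vt2_1_110 vt2_1_111

noncomputable def vt2_1_1 : Tr VStep := .node vt2_1_10 vt2_1_11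

noncomputable def vt2_1_ : Tr VStep := .node vt2_1_0 vt2_1_1

noncomputable def vt2_2_0000 : Tr VStep :=
  .node (.node (.node (.node (.node (.node (.node (.leaf (.root 2495)) (.leaf (.up 4 291 1))) (.node (.leaf (.up 3 429 2)) (.leaf (.up 3 1960 0)))) (.node (.node (.leaf (.up 3 1806 1)) (.leaf (.up 4 1581 2))) (.node (.leaf (.up 3 1699 1)) (.leaf (.up 4 543 3))))) (.node (.node (.node (.leaf (.up 3 594 1)) (.leaf (.up 3 355 1))) (.node (.leaf (.up 3 1023 1)) (.leaf (.up 4 2024 0)))) (.node (.node (.leaf (.up 2 1870 1)) (.leaf (.up 2 159 3))) (.node (.leaf (.up 2 1265 2)) (.leaf (.up 3 1490 1)))))) (.node (.node (.node (.node (.leaf (.up 2 1653 3)) (.leaf (.up 2 1009 2))) (.node (.leaf (.up 2 321 3)) (.leaf (.up 4 1749 3)))) (.node (.node (.leaf (.up 2 1254 3)) (.leaf (.up 3 985 0))) (.node (.leaf (.up 2 978 3)) (.leaf (.up 3 1362 1))))) (.node (.node (.node (.leaf (.up 3 961 3)) (.leaf (.up 4 1669 0))) (.node (.leaf (.up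 4 301 2)) (.leaf (.up 1 14 1)))) (.node (.node (.leaf (.up 3 338 3)) (.leaf (.up 2 1215 1))) (.node (.leaf (.up 4 261 0)) (.leaf (.up 3 498 3))))))) (.node (.node (.node (.node (.node (.leaf (.root 3150)) (.leaf (.up 2 171 2))) (.node (.leaf (.up 1 37 1)) (.leaf (.up 3 1074 0)))) (.node (.node (.leaf (.up 4 267 3)) (.leaf (.up 4 1695 3))) (.node (.leaf (.up 4 1835 2)) (.leaf (.up 3 1544 1))))) (.node (.node (.node (.leaf (.up 2 456 1)) (.leaf (.up 4 440 3))) (.node (.leaf (.up 2 280 3)) (.leaf (.up 4 1676 3)))) (.node (.node (.leaf (.up 2 1215 3)) (.leaf (.up 3 811 3))) (.node (.leaf (.up 3 607 0)) (.leaf (.up 2 1608 1)))))) (.node (.node (.node (.node (.leaf (.up 2 858 2)) (.leaf (.up 3 107 2))) (.node (.leaf (.up 4 757 3)) (.leaf (.up 4 980 1)))) (.node (.node (.leaf (.up 2 1606 2)) (.leaf (.up 4 1893 1))) (.node (.leaf (.up 1 102 3)) (.leaf (.up 3 1242 2))))) (.node (.node (.node (.leaf (.up 4 264 1)) (.leaf (.up 3 2017 3)))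 (.node (.leaf (.up 3 1857 3)) (.leaf (.up 4 390 2)))) (.node (.node (.leaf (.up 3 742 3)) (.leaf (.up 1 3 0))) (.node (.leaf (.up 2 1465 1)) (.leaf (.up 4 1672 1)))))))) (.node (.node (.node (.node (.node (.node (.leaf (.root 3256)) (.leaf (.up 4 849 2))) (.node (.leaf (.up 3 461 2)) (.leaf (.up 3 1097 3)))) (.node (.node (.leaf (.up 3 1658 3)) (.leaf (.up 2 889 0))) (.node (.leaf (.up 3 485 0)) (.leaf (.up 4 1754 3))))) (.node (.node (.node (.leaf (.up 1 32 2)) (.leaf (.up 4 259 1))) (.node (.leaf (.up 4 1641 3)) (.leaf (.up 3 700 2)))) (.node (.node (.leaf (.up 1 8 0)) (.leaf (.up 3 1055 1))) (.node (.leaf (.up 4 1667 1)) (.leaf (.up 3 1952 2)))))) (.node (.node (.node (.node (.leaf (.up 2 688 3)) (.leaf (.up 4 1316 3))) (.node (.leaf (.up 3 799 1)) (.leaf (.up 4 528 3)))) (.node (.node (.leaf (.up 2 136 0)) (.leaf (.up 2 1677 2))) (.node (.leaf (.up 2 1815 3)) (.leaf (.up 4 1824 2))))) (.node (.node (.node (.leaf (.up 4 1492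 0)) (.leaf (.up 2 144 3))) (.node (.leaf (.up 4 1145 0)) (.leaf (.up 2 636 2)))) (.node (.node (.leaf (.up 3 2030 1)) (.leaf (.up 4 515 3))) (.node (.leaf (.up 3 1603 1)) (.leaf (.up 4 1335 3))))))) (.node (.node (.node (.node (.node (.leaf (.up 4 1018 2)) (.leaf (.up 3 729 1))) (.node (.leaf (.up 3 105 3)) (.leaf (.up 3 1106 0)))) (.node (.node (.leaf (.up 2 978 0)) (.leaf (.up 3 1495 2))) (.node (.leaf (.up 4 762 3)) (.leaf (.up 3 1390 3))))) (.node (.node (.node (.leaf (.up 3 954 2)) (.leaf (.up 2 1471 0))) (.node (.leaf (.up 1 5 1)) (.leaf (.up 4 294 2)))) (.node (.node (.leaf (.up 3 1702 2)) (.leaf (.up 3 2030 3))) (.node (.leaf (.up 2 1870 3)) (.leaf (.up 4 270 0)))))) (.node (.node (.node (.node (.leaf (.up 4 260 3)) (.leaf (.up 4 1680 3))) (.node (.leaf (.up 3 1955 0)) (.leaf (.up 3 422 2)))) (.node (.node (.leaf (.up 4 1574 2)) (.leaf (.up 3 1303 2))) (.node (.leaf (.up 3 1187 3)) (.leaf (.up 4 823 3))))) (.node (.node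 (.node (.leaf (.up 3 1200 3)) (.leaf (.up 4 1407 0))) (.node (.leaf (.up 4 197 1)) (.leaf (.up 4 1234 0)))) (.node (.node (.leaf (.up 3 850 0)) (.leaf (.up 4 439 3))) (.node (.leaf (.up 4 279 3)) (.leaf (.up 4 1667 3))))))))

noncomputable def vt2_2_0001 : Tr VStep :=
  .node (.node (.node (.node (.node (.node (.node (.leaf (.root 4196)) (.leaf (.up 4 1604 0))) (.node (.leaf (.up 3 492 2)) (.leaf (.up 2 207 1)))) (.node (.node (.leaf (.up 3 1871 1)) (.leaf (.up 3 856 0))) (.node (.leaf (.up 3 452 0)) (.leaf (.up 4 757 0))))) (.node (.node (.node (.leaf (.up 1 1 2)) (.leaf (.up 3 1540 0))) (.node (.leaf (.up 3 1019 3)) (.leaf (.up 3 669 2)))) (.node (.node (.leaf (.up 2 1807 1)) (.leaf (.up 2 456 3))) (.node (.leaf (.up 3 388 0)) (.leaf (.up 2 1921 2)))))) (.node (.node (.node (.node (.leaf (.up 4 1826 3)) (.leaf (.up 3 944 2))) (.node (.leaf (.up 2 830 1)) (.leaf (.up 1 15 1)))) (.node (.node (.leaf (.up 3 1457 3)) (.leaf (.up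 4 1708 2))) (.node (.leaf (.up 4 260 0)) (.leaf (.up 4 1297 3))))) (.node (.node (.node (.leaf (.up 4 723 1)) (.leaf (.up 4 1732 0))) (.node (.leaf (.up 4 1112 0)) (.leaf (.up 4 605 2)))) (.node (.node (.leaf (.up 1 5 3)) (.leaf (.up 3 1772 2))) (.node (.leaf (.up 5 1634 1)) (.leaf (.up 3 1857 2))))))) (.node (.node (.node (.node (.node (.leaf (.up 2 457 1)) (.leaf (.up 3 760 1))) (.node (.leaf (.up 4 1858 0)) (.leaf (.up 3 1139 0)))) (.node (.node (.leaf (.up 4 1011 0)) (.leaf (.up 3 1526 2))) (.node (.leaf (.up 3 606 0)) (.leaf (.up 3 1609 1))))) (.node (.node (.node (.leaf (.up 3 923 2)) (.leaf (.up 4 170 2))) (.node (.leaf (.up 3 36 1)) (.leaf (.up 4 263 2)))) (.node (.node (.leaf (.up 4 1512 3)) (.leaf (.up 2 636 3))) (.node (.leaf (.up 3 542 0)) (.leaf (.up 2 1545 1)))))) (.node (.node (.node (.node (.leaf (.up 4 265 1)) (.leaf (.up 2 568 1))) (.node (.leaf (.up 4 930 3)) (.leaf (.up 3 1203 0)))) (.node (.node (.leaf (.up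 3 819 0)) (.leaf (.up 1 2 0))) (.node (.leaf (.up 4 670 0)) (.leaf (.up 4 1673 1))))) (.node (.node (.node (.leaf (.up 4 1647 0)) (.leaf (.up 3 1374 0))) (.node (.leaf (.up 4 758 2)) (.leaf (.up 4 455 2)))) (.node (.node (.leaf (.up 4 945 3)) (.leaf (.up 3 1061 3))) (.node (.leaf (.up 4 1157 3)) (.leaf (.up 3 495 0)))))))) (.node (.node (.node (.node (.node (.node (.leaf (.up 4 33 2)) (.leaf (.up 4 258 1))) (.node (.leaf (.up 3 396 2)) (.leaf (.up 4 1929 0)))) (.node (.node (.leaf (.up 1 9 0)) (.leaf (.up 3 1548 2))) (.node (.leaf (.up 4 420 0)) (.leaf (.up 3 1933 3))))) (.node (.node (.node (.leaf (.up 1 10 3)) (.leaf (.up 3 848 2))) (.node (.leaf (.up 2 1272 0)) (.leaf (.up 3 765 2)))) (.node (.node (.leaf (.up 3 73 0)) (.leaf (.up 2 1293 3))) (.node (.leaf (.up 3 1730 1)) (.leaf (.up 3 2017 2)))))) (.node (.node (.node (.node (.leaf (.up 2 999 3)) (.leaf (.up 3 1139 3))) (.node (.leaf (.up 2 1144 0)) (.leaf (.up 4 637 2))))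 (.node (.node (.leaf (.up 3 372 3)) (.leaf (.up 4 1016 0))) (.node (.leaf (.up 2 356 0)) (.leaf (.up 4 597 0))))) (.node (.node (.node (.leaf (.up 4 1429 0)) (.leaf (.up 4 455 3))) (.node (.leaf (.up 4 268 2)) (.leaf (.up 2 1801 0)))) (.node (.node (.leaf (.up 4 1967 1)) (.leaf (.up 4 1676 2))) (.node (.leaf (.up 4 292 0)) (.leaf (.up 4 1825 2))))))) (.node (.node (.node (.node (.node (.leaf (.up 4 1679 0)) (.leaf (.up 3 664 1))) (.node (.leaf (.up 1 4 1)) (.leaf (.up 4 1043 0)))) (.node (.node (.leaf (.up 3 915 0)) (.leaf (.up 4 162 0))) (.node (.leaf (.up 3 941 3)) (.leaf (.up 4 271 0))))) (.node (.node (.node (.leaf (.up 3 1019 2)) (.leaf (.up 4 1066 3))) (.node (.leaf (.up 4 1162 3)) (.leaf (.up 3 1107 0)))) (.node (.node (.leaf (.up 3 1767 2)) (.leaf (.up 4 1721 3))) (.node (.leaf (.up 3 638 0)) (.leaf (.up 3 335 0)))))) (.node (.node (.node (.node (.leaf (.up 3 83 3)) (.leaf (.up 1 74 2))) (.node (.leaf (.up 4 726 2))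 (.leaf (.up 3 243 3)))) (.node (.node (.leaf (.up 4 851 0)) (.leaf (.up 3 1364 3))) (.node (.leaf (.up 4 766 0)) (.leaf (.up 2 463 0))))) (.node (.node (.node (.leaf (.up 4 1511 3)) (.leaf (.up 1 10 2))) (.node (.leaf (.up 2 1954 0)) (.leaf (.up 3 1171 0)))) (.node (.node (.leaf (.up 4 1575 2)) (.leaf (.up 3 34 0))) (.node (.leaf (.up 3 64 3)) (.leaf (.up 4 1211 2))))))))

noncomputable def vt2_2_000 : Tr VStep := .node vt2_2_0000 vt2_2_0001

noncomputable def vt2_2_0010 : Tr VStep :=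
  .node (.node (.node (.node (.node (.node (.node (.leaf (.root 2780)) (.leaf (.up 2 1355 2))) (.node (.leaf (.up 2 739 0)) (.leaf (.up 2 1254 2)))) (.node (.node (.leaf (.up 3 372 1)) (.leaf (.up 3 617 3))) (.node (.leaf (.up 3 2047 0)) (.leaf (.up 4 506 2))))) (.node (.node (.node (.leaf (.up 4 1594 2)) (.leaf (.up 3 63 0))) (.node (.leaf (.up 3 1518 3)) (.leaf (.up 4 402 0)))) (.node (.node (.leaf (.up 2 806 2)) (.leaf (.up 2 2013 3))) (.node (.leaf (.up 3 1917 3)) (.leaf (.up 4 936 1)))))) (.node (.node (.node (.node (.leaf (.up 3 910 0)) (.leaf (.up 3 1699 3))) (.node (.leaf (.up 2 1815 2)) (.leaf (.up 3 407 3)))) (.node (.node (.leaf (.up 4 932 3)) (.leaf (.up 3 1443 0))) (.node (.leaf (.up 3 1855 0)) (.leaf (.up 3 1038 0))))) (.node (.node (.node (.leaf (.up 4 1155 3)) (.leaf (.up 3 255 0))) (.node (.leaf (.up 4 951 3)) (.leaf (.up 3 338 0)))) (.node (.node (.leaf (.up 2 500 1)) (.leaf (.up 3 388 3))) (.node (.leaf (.up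 4 292 3)) (.leaf (.up 4 378 2))))))) (.node (.node (.node (.node (.node (.leaf (.up 2 1504 2)) (.leaf (.up 3 846 3))) (.node (.leaf (.up 2 1101 2)) (.leaf (.up 3 584 0)))) (.node (.node (.leaf (.up 3 1609 3)) (.leaf (.up 3 973 2))) (.node (.leaf (.up 4 337 2)) (.leaf (.up 3 114 1))))) (.node (.node (.node (.leaf (.up 4 148 0)) (.leaf (.up 4 1681 2))) (.node (.leaf (.up 3 1567 1)) (.leaf (.up 4 1852 2)))) (.node (.node (.leaf (.up 3 1416 0)) (.leaf (.up 4 1721 0))) (.node (.leaf (.up 3 1061 0)) (.leaf (.up 2 544 2)))))) (.node (.node (.node (.node (.leaf (.up 5 1842 1)) (.leaf (.up 2 1553 2))) (.node (.leaf (.up 4 1695 1)) (.leaf (.up 4 648 0)))) (.node (.node (.leaf (.up 1 16 3)) (.leaf (.up 4 1593 0))) (.node (.leaf (.up 4 1828 3)) (.leaf (.up 3 672 2))))) (.node (.node (.node (.leaf (.up 4 1847 3)) (.leaf (.up 3 1617 2))) (.node (.leaf (.up 1 3 3)) (.leaf (.up 3 2044 2)))) (.node (.node (.leaf (.up 4 622 1)) (.leaf (.up 2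 351 1))) (.node (.leaf (.up 5 963 1)) (.leaf (.up 4 1284 3)))))))) (.node (.node (.node (.node (.node (.node (.leaf (.up 4 939 3)) (.leaf (.up 3 31 0))) (.node (.leaf (.up 3 1975 2)) (.leaf (.up 4 1684 1)))) (.node (.node (.leaf (.up 2 1586 0)) (.leaf (.up 3 55 2))) (.node (.leaf (.up 2 1951 0)) (.leaf (.up 4 904 1))))) (.node (.node (.node (.leaf (.up 3 1567 3)) (.leaf (.up 4 95 0))) (.node (.leaf (.up 4 707 0)) (.leaf (.up 3 1222 2)))) (.node (.node (.leaf (.up 4 1164 3)) (.leaf (.up 4 1347 0))) (.node (.leaf (.up 4 952 3)) (.leaf (.up 4 1262 0)))))) (.node (.node (.node (.node (.leaf (.up 4 1754 2)) (.leaf (.up 2 223 0))) (.node (.leaf (.up 3 579 0)) (.leaf (.up 3 1362 3)))) (.node (.node (.leaf (.up 3 1778 0)) (.leaf (.up 2 1475 0))) (.node (.leaf (.up 4 619 2)) (.leaf (.up 2 1134 0))))) (.node (.node (.node (.leaf (.up 4 1690 2)) (.leaf (.up 2 159 0))) (.node (.leaf (.up 4 1847 2)) (.leaf (.up 4 306 0)))) (.node (.node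 (.leaf (.up 4 902 2)) (.leaf (.up 3 1411 0))) (.node (.leaf (.up 3 1505 3)) (.leaf (.up 4 282 2))))))) (.node (.node (.node (.node (.node (.leaf (.up 3 31 3)) (.leaf (.up 3 1187 1))) (.node (.leaf (.up 4 1835 3)) (.leaf (.up 3 1820 2)))) (.node (.node (.leaf (.up 3 1448 0)) (.leaf (.up 2 1689 0))) (.node (.leaf (.up 3 1029 0)) (.leaf (.up 1 18 1))))) (.node (.node (.node (.leaf (.up 3 1472 2)) (.leaf (.up 4 965 0))) (.node (.leaf (.up 4 345 0)) (.leaf (.up 5 1358 1)))) (.node (.node (.leaf (.up 4 1512 0)) (.leaf (.up 3 1005 2))) (.node (.leaf (.up 4 369 2)) (.leaf (.up 3 576 2)))))) (.node (.node (.node (.node (.leaf (.up 2 1606 3)) (.leaf (.up 4 837 0))) (.node (.leaf (.up 2 473 0)) (.leaf (.up 4 1486 1)))) (.node (.node (.leaf (.up 2 1384 0)) (.leaf (.up 4 383 1))) (.node (.leaf (.up 2 1221 0)) (.leaf (.up 4 2036 0))))) (.node (.node (.node (.leaf (.up 4 52 0)) (.leaf (.up 4 1585 2))) (.node (.leaf (.up 3 1222 3)) (.leaf (.up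 3 850 3)))) (.node (.node (.leaf (.up 1 28 2)) (.leaf (.up 4 813 2))) (.node (.leaf (.up 4 931 1)) (.leaf (.up 3 449 3))))))))

noncomputable def vt2_2_0011 : Tr VStep :=
  .node (.node (.node (.node (.node (.node (.node (.leaf (.up 4 1593 3)) (.leaf (.up 2 1290 2))) (.node (.leaf (.up 3 269 3)) (.leaf (.up 2 1689 3)))) (.node (.node (.leaf (.up 3 309 1)) (.leaf (.up 2 830 3))) (.node (.leaf (.up 2 152 1)) (.leaf (.up 4 937 1))))) (.node (.node (.node (.leaf (.up 4 909 3)) (.leaf (.up 3 126 0))) (.node (.leaf (.up 4 2006 2)) (.leaf (.up 3 1255 2)))) (.node (.node (.leaf (.up 2 871 2)) (.leaf (.up 2 1674 3))) (.node (.leaf (.up 3 2046 0)) (.leaf (.up 4 446 3)))))) (.node (.node (.node (.node (.leaf (.up 3 96 3)) (.leaf (.up 4 2036 3))) (.node (.leaf (.up 3 1876 3)) (.leaf (.up 2 1653 1)))) (.node (.node (.leaf (.up 2 999 2)) (.leaf (.up 4 214 2))) (.node (.leaf (.up 3 88 1)) (.leaf (.up 3 595 3))))) (.node (.node (.node (.leaf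 (.up 3 1723 2)) (.leaf (.up 3 576 3))) (.node (.leaf (.up 4 1284 1)) (.leaf (.up 4 275 0)))) (.node (.node (.leaf (.up 4 1683 0)) (.leaf (.up 2 150 2))) (.node (.leaf (.up 3 522 2)) (.leaf (.up 2 315 2))))))) (.node (.node (.node (.node (.node (.leaf (.up 2 1441 2)) (.leaf (.up 4 1680 2))) (.node (.leaf (.up 3 1566 1)) (.leaf (.up 2 1327 1)))) (.node (.node (.leaf (.up 3 1417 0)) (.leaf (.up 4 1720 0))) (.node (.leaf (.up 3 770 1)) (.leaf (.up 3 51 1))))) (.node (.node (.node (.leaf (.up 3 1505 2)) (.leaf (.up 3 1744 2))) (.node (.leaf (.up 3 1630 1)) (.leaf (.up 3 1917 2)))) (.node (.node (.leaf (.up 3 751 1)) (.leaf (.up 4 1342 3))) (.node (.leaf (.up 3 1124 0)) (.leaf (.up 2 609 2)))))) (.node (.node (.node (.node (.leaf (.up 4 980 3)) (.leaf (.up 3 1088 3))) (.node (.leaf (.up 2 1758 1)) (.leaf (.up 3 884 3)))) (.node (.node (.leaf (.up 4 125 2)) (.leaf (.up 3 1747 3))) (.node (.leaf (.up 3 1651 3)) (.leaf (.up 2 737 2)))))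 (.node (.node (.node (.leaf (.up 1 21 0)) (.leaf (.up 2 500 3))) (.node (.leaf (.up 4 1694 1)) (.leaf (.up 2 1728 3)))) (.node (.node (.leaf (.up 2 61 2)) (.leaf (.up 2 871 3))) (.node (.leaf (.up 2 400 2)) (.leaf (.up 3 1107 3)))))))) (.node (.node (.node (.node (.node (.node (.leaf (.root 3122)) (.leaf (.up 2 1384 3))) (.node (.leaf (.up 3 2038 2)) (.leaf (.up 4 1223 2)))) (.node (.node (.leaf (.up 3 341 1)) (.leaf (.up 4 1346 0))) (.node (.leaf (.up 3 2014 0)) (.leaf (.up 2 207 3))))) (.node (.node (.node (.leaf (.up 3 1563 2)) (.leaf (.up 2 30 0))) (.node (.leaf (.up 4 642 0)) (.leaf (.up 3 1159 2)))) (.node (.node (.leaf (.up 3 1499 3)) (.leaf (.up 2 591 3))) (.node (.leaf (.up 3 751 3)) (.leaf (.up 3 411 2)))))) (.node (.node (.node (.node (.leaf (.up 4 1691 2)) (.leaf (.up 3 158 0))) (.node (.leaf (.up 4 1846 2)) (.leaf (.up 2 1557 1)))) (.node (.node (.leaf (.up 4 1715 0)) (.leaf (.up 3 1410 0))) (.node (.leaf (.up 4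 258 3)) (.leaf (.up 4 1686 3))))) (.node (.node (.node (.leaf (.up 3 273 3)) (.leaf (.up 4 1669 3))) (.node (.leaf (.up 3 578 0)) (.leaf (.up 4 433 3)))) (.node (.node (.leaf (.up 3 967 2)) (.leaf (.up 2 740 1))) (.node (.leaf (.up 4 120 1)) (.leaf (.up 4 1135 0))))))) (.node (.node (.node (.node (.node (.leaf (.up 3 1473 2)) (.leaf (.up 3 1250 1))) (.node (.leaf (.up 3 1662 1)) (.leaf (.up 3 617 0)))) (.node (.node (.leaf (.up 3 719 1)) (.leaf (.up 3 1004 2))) (.node (.leaf (.up 4 1092 0)) (.leaf (.up 3 83 1))))) (.node (.node (.node (.leaf (.up 3 1409 2)) (.leaf (.up 4 900 0))) (.node (.leaf (.up 2 280 0)) (.leaf (.up 3 1821 2)))) (.node (.node (.leaf (.up 3 157 2)) (.leaf (.up 4 1688 0))) (.node (.leaf (.up 3 1028 0)) (.leaf (.up 4 513 2)))))) (.node (.node (.node (.node (.leaf (.up 4 53 0)) (.leaf (.up 4 1584 2))) (.node (.leaf (.up 1 37 3)) (.leaf (.up 3 1969 3)))) (.node (.node (.leaf (.up 3 527 1)) (.leaf (.up 4 534 3)))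 (.node (.leaf (.up 4 930 1)) (.leaf (.up 4 1973 0))))) (.node (.node (.node (.leaf (.up 3 1875 1)) (.leaf (.up 4 1329 3))) (.node (.leaf (.up 3 1790 1)) (.leaf (.up 2 2013 2)))) (.node (.node (.leaf (.up 2 591 1)) (.leaf (.up 2 1954 3))) (.node (.leaf (.up 4 1220 0)) (.leaf (.up 2 150 3))))))))

noncomputable def vt2_2_001 : Tr VStep := .node vt2_2_0010 vt2_2_0011

noncomputable def vt2_2_00 : Tr VStep := .node vt2_2_000 vt2_2_001

noncomputable def vt2_2_0100 : Tr VStep :=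
  .node (.node (.node (.node (.node (.node (.node (.leaf (.root 2776)) (.leaf (.up 2 1905 2))) (.node (.leaf (.up 3 1517 2)) (.leaf (.up 3 1250 3)))) (.node (.node (.leaf (.up 3 846 1)) (.leaf (.up 4 1881 0))) (.node (.leaf (.up 2 739 1)) (.leaf (.up 4 1780 0))))) (.node (.node (.node (.leaf (.up 4 308 0)) (.leaf (.up 3 517 0))) (.node (.leaf (.up 3 1730 3)) (.leaf (.up 4 1692 2)))) (.node (.node (.leaf (.up 4 284 2)) (.leaf (.up 2 1265 3))) (.node (.leaf (.up 3 1413 0)) (.leaf (.up 3 896 2)))))) (.node (.node (.node (.node (.leaf (.up 4 539 3)) (.leaf (.up 3 1443 1))) (.node (.leaf (.up 2 1327 3)) (.leaf (.up 3 1038 1)))) (.node (.node (.leaf (.up 2 136 3)) (.leaf (.up 3 1820 3))) (.node (.leaf (.up 4 1285 0)) (.leaf (.up 3 40 3))))) (.node (.node (.node (.leaf (.up 2 500 0)) (.leaf (.up 3 59 3))) (.node (.leaf (.up 4 155 3)) (.leaf (.up 2 1807 3)))) (.node (.node (.leaf (.up 4 1340 3)) (.leaf (.up 3 255 1))) (.node (.leaf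 (.up 4 520 3)) (.leaf (.up 3 338 1))))))) (.node (.node (.node (.node (.node (.leaf (.up 2 2010 2)) (.leaf (.up 3 1785 1))) (.node (.leaf (.up 3 194 3)) (.leaf (.up 3 114 0)))) (.node (.node (.leaf (.up 4 2034 0)) (.leaf (.up 4 1219 0))) (.node (.leaf (.up 4 1631 0)) (.leaf (.up 3 584 1))))) (.node (.node (.node (.leaf (.up 3 578 3)) (.leaf (.up 4 1721 1))) (.node (.leaf (.up 3 1061 1)) (.leaf (.up 4 50 0)))) (.node (.node (.leaf (.up 4 646 2)) (.leaf (.up 4 933 1))) (.node (.leaf (.up 3 1567 0)) (.leaf (.up 1 26 2)))))) (.node (.node (.node (.node (.leaf (.up 4 431 3)) (.leaf (.up 4 1593 1))) (.node (.leaf (.up 4 1691 3)) (.leaf (.up 4 271 3)))) (.node (.node (.leaf (.up 4 518 2)) (.leaf (.up 4 1027 0))) (.node (.leaf (.up 4 1695 0)) (.leaf (.up 4 648 1))))) (.node (.node (.node (.leaf (.up 3 1882 2)) (.leaf (.up 2 351 0))) (.node (.leaf (.up 4 1783 2)) (.leaf (.up 4 1211 3)))) (.node (.node (.leaf (.up 4 1672 3)) (.leaf (.up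 4 284 3))) (.node (.leaf (.up 4 444 3)) (.leaf (.up 3 1518 0)))))))) (.node (.node (.node (.node (.node (.node (.leaf (.root 2936)) (.leaf (.up 3 1283 1))) (.node (.leaf (.up 2 1951 1)) (.leaf (.up 4 1724 2)))) (.node (.node (.leaf (.up 4 532 3)) (.leaf (.up 3 31 1))) (.node (.leaf (.up 3 1445 0)) (.leaf (.up 4 1684 0))))) (.node (.node (.node (.leaf (.up 4 1331 3)) (.leaf (.up 3 679 3))) (.node (.leaf (.up 4 519 3)) (.leaf (.up 3 1788 2)))) (.node (.node (.leaf (.up 3 1952 3)) (.leaf (.up 3 589 2))) (.node (.leaf (.up 4 148 3)) (.leaf (.up 3 992 2)))))) (.node (.node (.node (.node (.leaf (.up 2 1758 3)) (.leaf (.up 2 1475 1))) (.node (.leaf (.up 2 490 3)) (.leaf (.up 2 1134 1)))) (.node (.node (.leaf (.up 2 1101 3)) (.leaf (.up 2 223 1))) (.node (.leaf (.up 2 889 3)) (.leaf (.up 2 864 2))))) (.node (.node (.node (.leaf (.up 3 874 3)) (.leaf (.up 3 1278 3))) (.node (.leaf (.up 2 1293 2)) (.leaf (.up 4 1596 2)))) (.node (.node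 (.leaf (.up 4 942 1)) (.leaf (.up 2 159 1))) (.node (.leaf (.up 1 17 2)) (.leaf (.up 4 345 3))))))) (.node (.node (.node (.node (.node (.leaf (.up 3 819 3)) (.leaf (.up 2 1689 1))) (.node (.leaf (.up 3 1559 2)) (.leaf (.up 1 18 0)))) (.node (.node (.leaf (.up 3 416 3)) (.leaf (.up 3 407 2))) (.node (.leaf (.up 4 1684 3)) (.leaf (.up 4 256 3))))) (.node (.node (.node (.leaf (.up 4 2042 2)) (.leaf (.up 4 275 3))) (.node (.leaf (.up 3 435 3)) (.leaf (.up 3 82 0)))) (.node (.node (.leaf (.up 3 742 2)) (.leaf (.up 2 471 2))) (.node (.leaf (.up 4 843 2)) (.leaf (.up 4 122 2)))))) (.node (.node (.node (.node (.leaf (.up 2 1384 1)) (.leaf (.up 3 1099 2))) (.node (.leaf (.up 2 1221 1)) (.leaf (.up 4 2036 1)))) (.node (.node (.leaf (.up 3 614 2)) (.leaf (.up 4 837 1))) (.node (.leaf (.up 2 473 1)) (.leaf (.up 3 250 2))))) (.node (.node (.node (.leaf (.up 4 1850 2)) (.leaf (.up 3 1866 3))) (.node (.leaf (.up 4 1687 2)) (.leaf (.up 2 1446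 2)))) (.node (.node (.leaf (.up 2 550 2)) (.leaf (.up 4 279 2))) (.node (.leaf (.up 4 1727 0)) (.leaf (.up 3 1422 0))))))))

noncomputable def vt2_2_0101 : Tr VStep :=
  .node (.node (.node (.node (.node (.node (.node (.leaf (.root 2674)) (.leaf (.up 3 516 0))) (.node (.leaf (.up 2 152 0)) (.leaf (.up 4 1693 2)))) (.node (.node (.leaf (.up 4 1926 3)) (.leaf (.up 1 18 3))) (.node (.leaf (.up 3 1412 0)) (.leaf (.up 3 1717 0))))) (.node (.node (.node (.leaf (.up 4 373 0)) (.leaf (.up 3 580 0))) (.node (.leaf (.up 3 1516 2)) (.leaf (.up 1 1 3)))) (.node (.node (.leaf (.up 4 562 3)) (.leaf (.up 2 1446 3))) (.node (.leaf (.up 4 1476 0)) (.leaf (.up 3 961 2)))))) (.node (.node (.node (.node (.leaf (.root 3502)) (.leaf (.up 5 1506 1))) (.node (.leaf (.up 2 1144 3)) (.leaf (.up 3 1004 3)))) (.node (.node (.leaf (.up 4 477 2)) (.leaf (.up 4 1611 3))) (.node (.leaf (.up 4 1348 0)) (.leaf (.up 2 1653 0))))) (.node (.node (.node (.leaf (.up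 4 1683 1)) (.leaf (.up 4 644 0))) (.node (.leaf (.up 4 1854 1)) (.leaf (.up 4 809 0)))) (.node (.node (.leaf (.up 4 911 1)) (.leaf (.up 3 1023 3))) (.node (.leaf (.up 4 1284 0)) (.leaf (.up 4 275 1))))))) (.node (.node (.node (.node (.node (.leaf (.up 3 1697 3)) (.leaf (.up 3 309 3))) (.node (.leaf (.up 3 770 0)) (.leaf (.up 3 51 0)))) (.node (.node (.leaf (.up 3 1074 3)) (.leaf (.up 4 932 1))) (.node (.leaf (.up 3 1566 0)) (.leaf (.up 2 1327 0))))) (.node (.node (.node (.leaf (.up 3 751 0)) (.leaf (.up 4 1153 3))) (.node (.leaf (.up 3 1124 1)) (.leaf (.up 4 115 0)))) (.node (.node (.leaf (.up 3 711 2)) (.leaf (.up 4 1218 0))) (.node (.leaf (.up 3 1630 0)) (.leaf (.up 4 294 3)))))) (.node (.node (.node (.node (.leaf (.up 5 1353 1)) (.leaf (.up 3 1900 3))) (.node (.leaf (.up 3 1996 3)) (.leaf (.up 3 243 0)))) (.node (.node (.leaf (.up 4 619 3)) (.leaf (.up 4 374 2))) (.node (.leaf (.up 2 1758 0)) (.leaf (.up 4 1519 0))))) (.node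 (.node (.node (.leaf (.up 4 559 0)) (.leaf (.up 4 1066 2))) (.node (.leaf (.up 4 898 0)) (.leaf (.up 3 1516 3)))) (.node (.node (.leaf (.up 1 21 1)) (.leaf (.up 3 1026 0))) (.node (.leaf (.up 4 1694 0)) (.leaf (.up 4 155 2)))))))) (.node (.node (.node (.node (.node (.node (.leaf (.root 2844)) (.leaf (.up 4 1604 3))) (.node (.leaf (.up 3 1484 2)) (.leaf (.up 3 969 0)))) (.node (.node (.leaf (.up 3 879 1)) (.leaf (.up 3 1912 0))) (.node (.leaf (.up 3 1508 0)) (.leaf (.up 4 1749 0))))) (.node (.node (.node (.leaf (.up 3 1124 3)) (.leaf (.up 3 548 0))) (.node (.leaf (.up 3 848 3)) (.leaf (.up 3 1725 2)))) (.node (.node (.leaf (.up 3 317 2)) (.leaf (.up 2 30 1))) (.node (.leaf (.up 2 144 2)) (.leaf (.up 3 929 2)))))) (.node (.node (.node (.node (.leaf (.up 4 1929 3)) (.leaf (.up 3 29 3))) (.node (.leaf (.up 3 1292 2)) (.leaf (.up 4 1833 3)))) (.node (.node (.leaf (.up 4 943 1)) (.leaf (.up 3 158 1))) (.node (.leaf (.up 1 16 2)) (.leaf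 (.up 2 1557 0))))) (.node (.node (.node (.leaf (.up 4 1779 1)) (.leaf (.up 2 740 0))) (.node (.leaf (.up 4 120 0)) (.leaf (.up 3 669 3)))) (.node (.node (.leaf (.up 4 509 2)) (.leaf (.up 4 1850 3))) (.node (.leaf (.up 3 80 2)) (.leaf (.up 1 14 3))))))) (.node (.node (.node (.node (.node (.leaf (.up 3 719 0)) (.leaf (.up 3 1752 1))) (.node (.leaf (.up 2 1622 2)) (.leaf (.up 3 83 0)))) (.node (.node (.leaf (.up 4 2003 0)) (.leaf (.up 3 470 2))) (.node (.leaf (.up 3 1662 0)) (.leaf (.up 3 617 1))))) (.node (.node (.node (.leaf (.up 3 1979 2)) (.leaf (.up 4 1688 1))) (.node (.leaf (.up 3 1028 1)) (.leaf (.up 5 1845 1)))) (.node (.node (.leaf (.up 3 679 2)) (.leaf (.up 4 727 3))) (.node (.leaf (.up 2 280 1)) (.leaf (.up 3 59 2)))))) (.node (.node (.node (.node (.leaf (.up 3 527 0)) (.leaf (.up 4 937 3))) (.node (.leaf (.up 4 1686 2)) (.leaf (.up 2 1447 2)))) (.node (.node (.leaf (.up 3 1710 3)) (.leaf (.up 4 278 2))) (.node (.leaf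 (.up 4 410 3)) (.leaf (.up 3 1423 0))))) (.node (.node (.node (.leaf (.up 2 591 0)) (.leaf (.up 3 382 0))) (.node (.leaf (.up 3 1725 3)) (.leaf (.up 4 1511 2)))) (.node (.node (.leaf (.up 3 1875 0)) (.leaf (.up 4 1166 3))) (.node (.leaf (.up 3 1790 0)) (.leaf (.up 3 954 3))))))))

noncomputable def vt2_2_010 : Tr VStep := .node vt2_2_0100 vt2_2_0101

noncomputable def vt2_2_0110 : Tr VStep :=
  .node (.node (.node (.node (.node (.node (.node (.leaf (.root 3044)) (.leaf (.up 4 267 2))) (.node (.leaf (.up 3 1699 0)) (.leaf (.up 4 928 3)))) (.node (.node (.leaf (.up 3 1332 1)) (.leaf (.up 4 291 0))) (.node (.leaf (.up 3 959 0)) (.leaf (.up 3 1960 1))))) (.node (.node (.node (.leaf (.up 2 1870 0)) (.leaf (.up 3 1151 0))) (.node (.leaf (.up 3 384 3)) (.leaf (.up 3 1490 0)))) (.node (.node (.leaf (.up 3 594 0)) (.leaf (.up 3 355 0))) (.node (.leaf (.up 3 1023 0)) (.leaf (.up 3 1159 3)))))) (.node (.node (.node (.node (.leaf (.up 4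 762 2)) (.leaf (.up 3 717 3))) (.node (.leaf (.up 3 1635 0)) (.leaf (.up 1 102 2)))) (.node (.node (.leaf (.up 3 722 0)) (.leaf (.up 4 483 0))) (.node (.leaf (.up 4 1611 2)) (.leaf (.up 4 78 0))))) (.node (.node (.node (.leaf (.up 3 237 3)) (.leaf (.up 2 1215 0))) (.node (.leaf (.up 4 261 1)) (.leaf (.up 4 38 2)))) (.node (.node (.leaf (.up 3 638 3)) (.leaf (.up 4 1669 1))) (.node (.leaf (.up 5 1049 1)) (.leaf (.up 1 14 0))))))) (.node (.node (.node (.node (.node (.leaf (.up 3 416 2)) (.leaf (.up 4 1824 3))) (.node (.leaf (.up 1 13 2)) (.leaf (.up 3 1544 0)))) (.node (.node (.leaf (.up 3 1710 1)) (.leaf (.up 3 1933 2))) (.node (.leaf (.up 1 37 0)) (.leaf (.up 3 1074 1))))) (.node (.node (.node (.leaf (.up 3 1236 0)) (.leaf (.up 4 721 2))) (.node (.leaf (.up 3 607 1)) (.leaf (.up 2 1608 0)))) (.node (.node (.leaf (.up 2 456 0)) (.leaf (.up 1 7 3))) (.node (.leaf (.up 3 101 0)) (.leaf (.up 4 1843 3)))))) (.node (.node (.node (.node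 (.leaf (.root 3236)) (.leaf (.up 4 1893 0))) (.node (.leaf (.up 2 473 3)) (.leaf (.up 4 494 1)))) (.node (.node (.leaf (.up 4 328 0)) (.leaf (.up 4 1375 1))) (.node (.leaf (.up 4 229 0)) (.leaf (.up 4 980 0))))) (.node (.node (.node (.leaf (.up 4 1044 0)) (.leaf (.up 1 3 1))) (.node (.leaf (.up 2 1465 0)) (.leaf (.up 4 1672 0)))) (.node (.node (.leaf (.up 4 264 0)) (.leaf (.up 3 1630 3))) (.node (.leaf (.up 3 1790 3)) (.leaf (.up 5 1202 1)))))))) (.node (.node (.node (.node (.node (.node (.leaf (.up 4 602 2)) (.leaf (.up 2 889 1))) (.node (.leaf (.up 3 1015 2)) (.leaf (.up 4 1893 3)))) (.node (.node (.leaf (.up 3 1364 1)) (.leaf (.up 5 1637 1))) (.node (.leaf (.up 3 991 0)) (.leaf (.up 3 1526 3))))) (.node (.node (.node (.leaf (.up 1 8 1)) (.leaf (.up 3 1055 0))) (.node (.leaf (.up 4 1667 0)) (.leaf (.up 3 134 2)))) (.node (.node (.leaf (.up 4 1798 2)) (.leaf (.up 4 259 0))) (.node (.leaf (.up 4 2006 3)) (.leaf (.up 3 1434 2))))))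 (.node (.node (.node (.node (.leaf (.up 2 136 1)) (.leaf (.up 3 1544 3))) (.node (.leaf (.up 4 823 2)) (.leaf (.up 1 6 2)))) (.node (.node (.leaf (.up 4 1926 2)) (.leaf (.up 4 1179 3))) (.node (.leaf (.up 3 799 0)) (.leaf (.up 4 943 3))))) (.node (.node (.node (.leaf (.up 3 2030 0)) (.leaf (.up 4 956 3))) (.node (.leaf (.up 3 1603 0)) (.leaf (.up 4 1160 3)))) (.node (.node (.leaf (.up 2 1990 2)) (.leaf (.up 3 451 0))) (.node (.leaf (.up 2 1643 2)) (.leaf (.up 3 1563 3))))))) (.node (.node (.node (.node (.node (.leaf (.up 2 978 1)) (.leaf (.up 3 227 1))) (.node (.leaf (.up 4 837 3)) (.leaf (.up 4 1640 0)))) (.node (.node (.leaf (.up 5 1742 1)) (.leaf (.up 3 2029 2))) (.node (.leaf (.up 3 470 3)) (.leaf (.up 3 1106 1))))) (.node (.node (.node (.leaf (.up 3 384 2)) (.leaf (.up 3 1617 3))) (.node (.leaf (.up 3 1305 0)) (.leaf (.up 4 270 1)))) (.node (.node (.leaf (.up 3 1180 2)) (.leaf (.up 2 1471 1))) (.node (.leaf (.up 1 5 0))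 (.leaf (.up 4 1536 2)))))) (.node (.node (.node (.node (.leaf (.up 4 256 2)) (.leaf (.up 4 35 1))) (.node (.leaf (.up 4 173 2)) (.leaf (.up 4 648 3)))) (.node (.node (.leaf (.up 3 1052 2)) (.leaf (.up 4 1839 3))) (.node (.leaf (.up 3 1457 2)) (.leaf (.up 4 1170 1))))) (.node (.node (.node (.leaf (.up 3 320 2)) (.leaf (.up 1 8 3))) (.node (.leaf (.up 3 237 2)) (.leaf (.up 4 1852 3)))) (.node (.node (.leaf (.up 4 1116 2)) (.leaf (.up 2 1901 2))) (.node (.leaf (.up 4 197 0)) (.leaf (.up 2 1728 2))))))))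

noncomputable def vt2_2_0111 : Tr VStep :=
  .node (.node (.node (.node (.node (.node (.node (.leaf (.root 3336)) (.leaf (.up 2 1475 3))) (.node (.leaf (.up 3 982 2)) (.leaf (.up 4 231 2)))) (.node (.node (.leaf (.up 3 1397 1)) (.leaf (.up 4 1110 2))) (.node (.leaf (.up 3 1022 0)) (.leaf (.up 2 207 0))))) (.node (.node (.node (.leaf (.up 2 1807 0)) (.leaf (.up 3 1086 0))) (.node (.leaf (.up 3 388 1)) (.leaf (.up 4 1427 0)))) (.node (.node (.leaf (.up 4 1831 2)) (.leaf (.up 2 740 3))) (.node (.leaf (.up 2 1674 2)) (.leaf (.up 3 1467 2)))))) (.node (.node (.node (.node (.leaf (.up 3 1038 3)) (.leaf (.up 3 922 3))) (.node (.leaf (.up 4 260 1)) (.leaf (.up 4 1198 3)))) (.node (.node (.leaf (.up 4 1693 3)) (.leaf (.up 4 265 3))) (.node (.leaf (.up 2 830 0)) (.leaf (.up 1 15 0))))) (.node (.node (.node (.leaf (.up 4 442 3)) (.leaf (.up 3 1278 0))) (.node (.leaf (.up 4 854 2)) (.leaf (.up 4 282 3)))) (.node (.node (.leaf (.up 3 2023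 2)) (.leaf (.up 3 1213 3))) (.node (.leaf (.up 4 1112 1)) (.leaf (.up 3 905 3))))))) (.node (.node (.node (.node (.node (.leaf (.up 3 481 2)) (.leaf (.up 3 194 1))) (.node (.leaf (.up 3 606 1)) (.leaf (.up 3 1609 0)))) (.node (.node (.leaf (.up 2 457 0)) (.leaf (.up 3 1996 2))) (.node (.leaf (.up 3 1360 2)) (.leaf (.up 3 1139 1))))) (.node (.node (.node (.leaf (.up 4 1173 0)) (.leaf (.up 3 1956 0))) (.node (.leaf (.up 3 542 1)) (.leaf (.up 2 1545 0)))) (.node (.node (.leaf (.up 3 1213 2)) (.leaf (.up 3 336 3))) (.node (.leaf (.up 3 36 0)) (.leaf (.up 4 1569 2)))))) (.node (.node (.node (.node (.leaf (.up 3 289 2)) (.leaf (.up 1 2 1))) (.node (.leaf (.up 3 142 3)) (.leaf (.up 4 1673 0)))) (.node (.node (.leaf (.up 4 265 0)) (.leaf (.up 2 568 0))) (.node (.leaf (.up 4 541 3)) (.leaf (.up 3 1203 1))))) (.node (.node (.node (.leaf (.up 4 526 3)) (.leaf (.up 3 1434 3))) (.node (.leaf (.up 4 1338 3)) (.leaf (.up 3 495 1)))) (.node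 (.node (.leaf (.up 3 157 3)) (.leaf (.up 2 1801 3))) (.node (.leaf (.up 3 1961 3)) (.leaf (.up 2 61 3)))))))) (.node (.node (.node (.node (.node (.node (.leaf (.up 1 9 1)) (.leaf (.up 4 262 3))) (.node (.leaf (.up 2 950 2)) (.leaf (.up 2 1586 3)))) (.node (.node (.leaf (.up 3 1025 3)) (.leaf (.up 4 258 0))) (.node (.leaf (.up 3 926 0)) (.leaf (.up 4 1435 2))))) (.node (.node (.node (.leaf (.up 2 806 3)) (.leaf (.up 3 1118 0))) (.node (.leaf (.up 3 1730 0)) (.leaf (.up 3 199 2)))) (.node (.node (.leaf (.up 4 437 3)) (.leaf (.up 3 322 0))) (.node (.leaf (.up 2 1272 1)) (.leaf (.up 3 1499 2)))))) (.node (.node (.node (.node (.leaf (.up 4 2031 0)) (.leaf (.up 2 490 2))) (.node (.leaf (.up 2 356 1)) (.leaf (.up 2 71 2)))) (.node (.node (.leaf (.up 3 600 3)) (.leaf (.up 2 1270 2))) (.node (.leaf (.up 2 1144 1)) (.leaf (.up 3 760 3))))) (.node (.node (.node (.leaf (.up 3 667 2)) (.leaf (.up 4 952 1))) (.node (.leaf (.up 4 292 1)) (.leaf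 (.up 1 7 2)))) (.node (.node (.leaf (.up 4 1429 1)) (.leaf (.up 4 120 3))) (.node (.leaf (.up 4 1578 2)) (.leaf (.up 2 1801 1))))))) (.node (.node (.node (.node (.node (.leaf (.up 3 915 1)) (.leaf (.up 2 688 2))) (.node (.leaf (.up 3 530 3)) (.leaf (.up 4 271 1)))) (.node (.node (.leaf (.up 3 1181 2)) (.leaf (.up 3 1964 2))) (.node (.leaf (.up 1 4 0)) (.leaf (.up 3 1813 3))))) (.node (.node (.node (.leaf (.up 3 449 2)) (.leaf (.up 4 1798 3))) (.node (.leaf (.up 3 638 1)) (.leaf (.up 3 335 1)))) (.node (.node (.leaf (.up 3 1245 2)) (.leaf (.up 4 1429 3))) (.node (.leaf (.up 4 1333 3)) (.leaf (.up 3 1107 1)))))) (.node (.node (.node (.node (.leaf (.up 2 321 2)) (.leaf (.up 4 1860 0))) (.node (.leaf (.up 2 236 2)) (.leaf (.up 2 463 1)))) (.node (.node (.leaf (.up 2 1117 2)) (.leaf (.up 3 1900 2))) (.node (.leaf (.up 3 1752 3)) (.leaf (.up 2 1729 2))))) (.node (.node (.node (.leaf (.up 4 257 2)) (.leaf (.up 2 351 3))) (.node (.leaf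 (.up 3 1432 0)) (.leaf (.up 2 1643 3)))) (.node (.node (.leaf (.up 4 1112 3)) (.leaf (.up 4 1836 2))) (.node (.leaf (.up 2 1954 1)) (.leaf (.up 2 1272 3))))))))

noncomputable def vt2_2_011 : Tr VStep := .node vt2_2_0110 vt2_2_0111

noncomputable def vt2_2_01 : Tr VStep := .node vt2_2_010 vt2_2_011

noncomputable def vt2_2_0 : Tr VStep := .node vt2_2_00 vt2_2_01

noncomputable def vt2_2_1000 : Tr VStep :=
  .node (.node (.node (.node (.node (.node (.node (.leaf (.root 2918)) (.leaf (.up 2 1272 2))) (.node (.leaf (.up 3 848 0)) (.leaf (.up 4 935 3)))) (.node (.node (.leaf (.up 3 199 1)) (.leaf (.up 3 1232 0))) (.node (.leaf (.up 3 1612 0)) (.leaf (.up 3 73 2))))) (.node (.node (.node (.leaf (.up 4 1435 1)) (.leaf (.up 3 396 0))) (.node (.leaf (.up 4 1572 2)) (.leaf (.up 3 1555 3)))) (.node (.node (.leaf (.up 3 1953 0)) (.leaf (.up 2 950 1))) (.node (.leaf (.up 3 1548 0)) (.leaf (.up 1 9 2)))))) (.node (.node (.node (.node (.leaf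 (.up 2 1801 2)) (.leaf (.up 4 268 0))) (.node (.leaf (.up 4 618 3)) (.leaf (.up 4 1429 2)))) (.node (.node (.leaf (.up 1 7 1)) (.leaf (.up 4 292 2))) (.node (.leaf (.up 4 1676 0)) (.leaf (.up 2 1901 3))))) (.node (.node (.node (.leaf (.up 4 637 0)) (.leaf (.up 2 1144 2))) (.node (.leaf (.up 2 1270 1)) (.leaf (.up 1 74 3)))) (.node (.node (.leaf (.up 2 71 1)) (.leaf (.up 2 356 2))) (.node (.leaf (.up 2 490 1)) (.leaf (.up 3 729 3))))))) (.node (.node (.node (.node (.node (.leaf (.up 3 1107 2)) (.leaf (.up 4 1831 3))) (.node (.leaf (.up 4 1927 3)) (.leaf (.up 3 1019 0)))) (.node (.node (.leaf (.up 2 544 3)) (.leaf (.up 3 638 2))) (.node (.leaf (.up 4 1300 3)) (.leaf (.up 3 449 1))))) (.node (.node (.node (.leaf (.up 4 1043 2)) (.leaf (.up 4 1826 2))) (.node (.leaf (.up 3 1964 1)) (.leaf (.up 2 1447 3)))) (.node (.node (.leaf (.up 4 271 2)) (.leaf (.up 1 0 3))) (.node (.leaf (.up 2 688 1)) (.leaf (.up 2 1844 3)))))) (.node (.node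 (.node (.node (.leaf (.up 3 1171 2)) (.leaf (.up 2 1954 2))) (.node (.leaf (.up 1 10 0)) (.leaf (.up 4 1610 3)))) (.node (.node (.leaf (.up 3 925 1)) (.leaf (.up 3 1005 3))) (.node (.leaf (.up 3 34 2)) (.leaf (.up 4 257 1))))) (.node (.node (.node (.leaf (.up 2 1729 1)) (.leaf (.up 4 726 0))) (.node (.leaf (.up 1 74 0)) (.leaf (.up 2 1117 1)))) (.node (.node (.leaf (.up 2 463 2)) (.leaf (.up 2 236 1))) (.node (.leaf (.up 3 1785 3)) (.leaf (.up 2 321 1)))))))) (.node (.node (.node (.node (.node (.node (.leaf (.root 4318)) (.leaf (.up 2 1674 1))) (.node (.leaf (.up 3 1540 2)) (.leaf (.up 1 1 0)))) (.node (.node (.leaf (.up 2 1921 0)) (.leaf (.up 3 388 2))) (.node (.leaf (.up 3 1580 0)) (.leaf (.up 4 1309 0))))) (.node (.node (.node (.leaf (.up 4 733 0)) (.leaf (.up 3 492 0))) (.node (.leaf (.up 4 1110 1)) (.leaf (.up 3 1397 2)))) (.node (.node (.leaf (.up 4 231 1)) (.leaf (.up 2 1905 3))) (.node (.leaf (.up 3 856 2)) (.leaf (.up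 3 105 2)))))) (.node (.node (.node (.node (.leaf (.up 3 411 3)) (.leaf (.up 4 1112 2))) (.node (.leaf (.up 4 1732 2)) (.leaf (.up 2 315 3)))) (.node (.node (.leaf (.up 3 1857 0)) (.leaf (.up 3 1180 3))) (.node (.leaf (.up 3 1772 0)) (.leaf (.up 4 936 3))))) (.node (.node (.node (.leaf (.up 4 1833 2)) (.leaf (.up 4 300 0))) (.node (.leaf (.up 3 944 0)) (.leaf (.up 4 1167 3)))) (.node (.node (.leaf (.up 4 1724 3)) (.leaf (.up 4 260 2))) (.node (.leaf (.up 3 392 3)) (.leaf (.up 3 1437 0))))))) (.node (.node (.node (.node (.node (.leaf (.up 4 263 0)) (.leaf (.up 3 1296 1))) (.node (.leaf (.up 4 170 0)) (.leaf (.up 3 923 0)))) (.node (.node (.leaf (.up 4 1051 0)) (.leaf (.up 3 542 2))) (.node (.leaf (.up 3 1462 0)) (.leaf (.up 4 1605 3))))) (.node (.node (.node (.leaf (.up 3 1139 2)) (.leaf (.up 2 1622 3))) (.node (.leaf (.up 3 1996 1)) (.leaf (.up 4 987 0)))) (.node (.node (.leaf (.up 3 367 2)) (.leaf (.up 2 1221 3))) (.node (.leaf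 (.up 3 1526 0)) (.leaf (.up 2 1009 3)))))) (.node (.node (.node (.node (.leaf (.up 3 1761 1)) (.leaf (.up 3 1467 3))) (.node (.leaf (.up 3 1374 2)) (.leaf (.up 4 1647 2)))) (.node (.node (.leaf (.up 3 495 2)) (.leaf (.up 4 1832 3))) (.node (.leaf (.up 3 1928 3)) (.leaf (.up 1 28 3))))) (.node (.node (.node (.leaf (.up 3 1203 2)) (.leaf (.up 1 15 3))) (.node (.leaf (.up 4 42 0)) (.leaf (.up 4 1583 2)))) (.node (.node (.leaf (.up 4 957 1)) (.leaf (.up 4 670 2))) (.node (.leaf (.up 1 2 2)) (.leaf (.up 3 289 1))))))))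

noncomputable def vt2_2_1001 : Tr VStep :=
  .node (.node (.node (.node (.node (.node (.node (.leaf (.root 3464)) (.leaf (.up 4 1476 3))) (.node (.leaf (.up 4 1573 2)) (.leaf (.up 1 32 0)))) (.node (.node (.leaf (.up 3 134 1)) (.leaf (.up 4 951 1))) (.node (.leaf (.up 4 825 2)) (.leaf (.up 1 8 2))))) (.node (.node (.node (.leaf (.up 4 1992 2)) (.leaf (.up 3 461 0))) (.node (.leaf (.up 4 849 0)) (.leaf (.up 3 1364 2)))) (.node (.node (.leaf (.up 4 1399 3)) (.leaf (.up 2 739 3))) (.node (.leaf (.up 2 889 2)) (.leaf (.up 3 1495 3)))))) (.node (.node (.node (.node (.leaf (.up 2 636 0)) (.leaf (.up 2 1643 1))) (.node (.leaf (.up 4 977 0)) (.leaf (.up 2 1990 1)))) (.node (.node (.leaf (.up 4 1690 3)) (.leaf (.up 4 270 3))) (.node (.leaf (.up 4 430 3)) (.leaf (.up 3 1532 0))))) (.node (.node (.node (.leaf (.up 4 445 3)) (.leaf (.up 3 269 0))) (.node (.leaf (.up 4 1673 3)) (.leaf (.up 3 160 0)))) (.node (.node (.leaf (.up 1 6 1)) (.leaf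 (.up 3 1041 0))) (.node (.leaf (.up 2 1677 0)) (.leaf (.up 2 136 2))))))) (.node (.node (.node (.node (.node (.leaf (.up 4 294 0)) (.leaf (.up 4 1827 2))) (.node (.leaf (.up 2 1471 2)) (.leaf (.up 3 954 0)))) (.node (.node (.leaf (.up 4 270 2)) (.leaf (.up 4 45 1))) (.node (.leaf (.up 3 1431 0)) (.leaf (.up 3 384 1))))) (.node (.node (.node (.leaf (.up 3 1106 2)) (.leaf (.up 4 1891 2))) (.node (.leaf (.up 3 2029 1)) (.leaf (.up 4 1018 0)))) (.node (.node (.leaf (.up 5 860 1)) (.leaf (.up 4 343 3))) (.node (.leaf (.up 3 1495 0)) (.leaf (.up 2 978 2)))))) (.node (.node (.node (.node (.leaf (.up 2 1728 1)) (.leaf (.up 4 727 0))) (.node (.leaf (.up 2 1901 1)) (.leaf (.up 3 1821 3)))) (.node (.node (.leaf (.up 4 1326 3)) (.leaf (.up 3 237 1))) (.node (.leaf (.up 4 538 3)) (.leaf (.up 3 320 1))))) (.node (.node (.node (.leaf (.up 3 422 0)) (.leaf (.up 3 1457 1))) (.node (.leaf (.up 4 1341 3)) (.leaf (.up 3 1052 1)))) (.node (.node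 (.leaf (.up 4 154 3)) (.leaf (.up 3 1806 3))) (.node (.leaf (.up 3 1303 0)) (.leaf (.up 4 256 1)))))))) (.node (.node (.node (.node (.node (.node (.leaf (.up 4 2024 2)) (.leaf (.up 4 257 3))) (.node (.leaf (.up 4 1605 2)) (.leaf (.up 3 64 0)))) (.node (.node (.leaf (.up 4 756 2)) (.leaf (.up 2 1265 0))) (.node (.leaf (.up 3 1645 0)) (.leaf (.up 4 1372 0))))) (.node (.node (.node (.leaf (.up 3 1960 2)) (.leaf (.up 3 429 0))) (.node (.leaf (.up 4 1541 2)) (.leaf (.up 1 0 0)))) (.node (.node (.leaf (.up 4 434 3)) (.leaf (.up 3 1201 0))) (.node (.leaf (.up 4 267 1)) (.leaf (.up 3 40 2)))))) (.node (.node (.node (.node (.leaf (.up 4 1832 2)) (.leaf (.up 4 301 0))) (.node (.leaf (.up 4 1669 2)) (.leaf (.up 4 1460 2)))) (.node (.node (.leaf (.up 3 607 3)) (.leaf (.up 4 261 2))) (.node (.leaf (.up 4 1709 0)) (.leaf (.up 3 1436 0))))) (.node (.node (.node (.leaf (.up 4 1400 3)) (.leaf (.up 3 365 0))) (.node (.leaf (.up 2 1009 0)) (.leaf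 (.up 4 192 0)))) (.node (.node (.leaf (.up 1 102 1)) (.leaf (.up 4 1137 0))) (.node (.leaf (.up 2 223 3)) (.leaf (.up 3 1500 0))))))) (.node (.node (.node (.node (.node (.leaf (.up 4 1313 3)) (.leaf (.up 4 1361 1))) (.node (.leaf (.up 4 533 3)) (.leaf (.up 3 1409 3)))) (.node (.node (.leaf (.up 4 1114 0)) (.leaf (.up 3 607 2))) (.node (.leaf (.up 3 134 3)) (.leaf (.up 4 480 1))))) (.node (.node (.node (.leaf (.up 3 1074 2)) (.leaf (.up 4 1795 2))) (.node (.leaf (.up 2 171 0)) (.leaf (.up 3 1710 2)))) (.node (.node (.leaf (.up 3 302 2)) (.leaf (.up 1 13 1))) (.node (.leaf (.up 4 1330 3)) (.leaf (.up 3 416 1)))))) (.node (.node (.node (.node (.leaf (.up 4 390 0)) (.leaf (.up 3 1260 3))) (.node (.leaf (.up 4 1311 2)) (.leaf (.up 4 1582 2)))) (.node (.node (.leaf (.up 4 956 1)) (.leaf (.up 4 1963 0))) (.node (.leaf (.up 1 3 2)) (.leaf (.up 5 288 1))))) (.node (.node (.node (.leaf (.up 4 454 0)) (.leaf (.up 4 344 3))) (.node (.leaf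 (.up 3 107 0)) (.leaf (.up 2 858 0)))) (.node (.node (.leaf (.up 3 1242 0)) (.leaf (.up 3 205 1))) (.node (.leaf (.up 4 1399 0)) (.leaf (.up 2 1606 0))))))))

noncomputable def vt2_2_100 : Tr VStep := .node vt2_2_1000 vt2_2_1001

noncomputable def vt2_2_1010 : Tr VStep :=
  .node (.node (.node (.node (.node (.node (.node (.leaf (.root 4326)) (.leaf (.up 2 144 1))) (.node (.leaf (.up 2 30 2)) (.leaf (.up 3 1563 0)))) (.node (.node (.leaf (.up 3 1725 1)) (.leaf (.up 3 322 3))) (.node (.leaf (.up 3 54 0)) (.leaf (.up 4 1587 2))))) (.node (.node (.node (.leaf (.up 4 1223 0)) (.leaf (.up 3 2038 0))) (.node (.leaf (.up 4 588 1)) (.leaf (.up 3 879 2)))) (.node (.node (.leaf (.up 4 1789 1)) (.leaf (.up 2 1270 3))) (.node (.leaf (.up 4 1110 3)) (.leaf (.up 3 1651 2)))))) (.node (.node (.node (.node (.leaf (.up 4 540 3)) (.leaf (.up 3 80 1))) (.node (.leaf (.up 4 1320 3)) (.leaf (.up 3 700 3)))) (.node (.node (.leaf (.up 4 1135 2)) (.leaf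 (.up 4 618 0))) (.node (.leaf (.up 3 1979 3)) (.leaf (.up 3 967 0))))) (.node (.node (.node (.leaf (.up 3 1960 3)) (.leaf (.up 1 16 1))) (.node (.leaf (.up 3 158 2)) (.leaf (.up 4 1691 0)))) (.node (.node (.leaf (.up 4 1339 3)) (.leaf (.up 3 1292 1))) (.node (.leaf (.up 3 527 3)) (.leaf (.up 4 1435 3))))))) (.node (.node (.node (.node (.node (.leaf (.root 3300)) (.leaf (.up 2 280 2))) (.node (.leaf (.up 4 197 3)) (.leaf (.up 3 1409 0)))) (.node (.node (.leaf (.up 4 513 0)) (.leaf (.up 3 1028 2))) (.node (.leaf (.up 4 1688 2)) (.leaf (.up 3 1979 1))))) (.node (.node (.node (.leaf (.up 3 617 2)) (.leaf (.up 4 344 2))) (.node (.leaf (.up 3 470 1)) (.leaf (.up 3 1473 0)))) (.node (.node (.leaf (.up 3 1909 2)) (.leaf (.up 2 1622 1))) (.node (.leaf (.up 3 1004 0)) (.leaf (.up 4 1513 2)))))) (.node (.node (.node (.node (.leaf (.up 2 2013 0)) (.leaf (.up 3 1260 0))) (.node (.leaf (.up 4 1692 3)) (.leaf (.up 4 264 3)))) (.node (.node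 (.leaf (.up 3 705 0)) (.leaf (.up 4 1220 2))) (.node (.leaf (.up 4 876 0)) (.leaf (.up 3 923 3))))) (.node (.node (.node (.leaf (.up 3 1052 3)) (.leaf (.up 4 904 3))) (.node (.leaf (.up 4 278 1)) (.leaf (.up 4 53 2)))) (.node (.node (.leaf (.up 2 1447 1)) (.leaf (.up 4 1686 1))) (.node (.leaf (.up 4 443 3)) (.leaf (.up 3 29 0)))))))) (.node (.node (.node (.node (.node (.node (.leaf (.root 4270)) (.leaf (.up 4 2006 0))) (.node (.leaf (.up 3 126 2)) (.leaf (.up 1 32 3)))) (.node (.node (.leaf (.up 4 531 3)) (.leaf (.up 3 1516 1))) (.node (.leaf (.up 3 86 0)) (.leaf (.up 2 871 0))))) (.node (.node (.node (.leaf (.up 3 1332 3)) (.leaf (.up 3 672 3))) (.node (.leaf (.up 2 1290 0)) (.leaf (.up 4 1595 0)))) (.node (.node (.leaf (.up 4 1693 1)) (.leaf (.up 3 51 3))) (.node (.leaf (.up 4 1840 1)) (.leaf (.up 3 1555 2)))))) (.node (.node (.node (.node (.leaf (.up 4 275 2)) (.leaf (.up 4 1814 0))) (.node (.leaf (.up 3 1418 0)) (.leaf (.up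 3 1723 0)))) (.node (.node (.leaf (.up 2 315 0)) (.leaf (.up 3 522 0))) (.node (.leaf (.up 2 150 0)) (.leaf (.up 4 1683 2))))) (.node (.node (.node (.leaf (.up 4 1127 0)) (.leaf (.up 5 112 1))) (.node (.leaf (.up 4 1482 0)) (.leaf (.up 3 973 3)))) (.node (.node (.leaf (.up 4 1103 2)) (.leaf (.up 3 586 0))) (.node (.leaf (.up 4 214 0)) (.leaf (.up 2 999 0))))))) (.node (.node (.node (.node (.node (.leaf (.up 3 1917 0)) (.leaf (.up 3 874 1))) (.node (.leaf (.up 3 1744 0)) (.leaf (.up 3 1505 0)))) (.node (.node (.leaf (.up 2 609 0)) (.leaf (.up 3 1124 2))) (.node (.leaf (.up 4 1683 3)) (.leaf (.up 4 263 3))))) (.node (.node (.node (.leaf (.up 4 1853 0)) (.leaf (.up 3 276 3))) (.node (.leaf (.up 4 1680 0)) (.leaf (.up 2 1441 0)))) (.node (.node (.leaf (.up 3 1813 2)) (.leaf (.up 4 1060 2))) (.node (.leaf (.up 4 1720 2)) (.leaf (.up 3 1203 3)))))) (.node (.node (.node (.node (.leaf (.up 3 1981 0)) (.leaf (.up 4 938 1))) (.node (.leaf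 (.up 4 1552 0)) (.leaf (.up 1 21 2)))) (.node (.node (.leaf (.up 3 2046 3)) (.leaf (.up 2 400 0))) (.node (.leaf (.up 3 780 0)) (.leaf (.up 2 61 0))))) (.node (.node (.node (.leaf (.up 5 219 1)) (.leaf (.up 4 1228 0))) (.node (.leaf (.up 3 2029 3)) (.leaf (.up 4 1377 0)))) (.node (.node (.leaf (.up 2 737 0)) (.leaf (.up 4 1252 2))) (.node (.leaf (.up 4 1656 2)) (.leaf (.up 4 125 0))))))))

noncomputable def vt2_2_1011 : Tr VStep :=
  .node (.node (.node (.node (.node (.node (.node (.leaf (.root 3616)) (.leaf (.up 4 646 3))) (.node (.leaf (.up 2 550 3)) (.leaf (.up 3 1458 3)))) (.node (.node (.leaf (.up 2 1921 3)) (.leaf (.up 1 21 3))) (.node (.leaf (.up 4 1347 2)) (.leaf (.up 4 1825 3))))) (.node (.node (.node (.leaf (.up 4 928 1)) (.leaf (.up 3 1975 0))) (.node (.leaf (.up 3 31 2)) (.leaf (.up 1 6 3)))) (.node (.node (.leaf (.up 4 1724 1)) (.leaf (.up 2 1951 2))) (.node (.leaf (.up 3 55 0)) (.leaf (.up 2 1586 2)))))) (.node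 (.node (.node (.node (.leaf (.up 4 843 3)) (.leaf (.up 1 17 1))) (.node (.leaf (.up 2 159 2)) (.leaf (.up 4 1690 0)))) (.node (.node (.leaf (.up 4 282 0)) (.leaf (.up 2 1293 1))) (.node (.leaf (.up 3 1772 3)) (.leaf (.up 4 902 0))))) (.node (.node (.node (.leaf (.up 2 864 1)) (.leaf (.up 3 579 2))) (.node (.leaf (.up 2 223 2)) (.leaf (.up 3 508 1)))) (.node (.node (.leaf (.up 2 1134 2)) (.leaf (.up 3 1357 1))) (.node (.leaf (.up 2 1475 2)) (.leaf (.up 3 1778 2))))))) (.node (.node (.node (.node (.node (.leaf (.up 3 1702 3)) (.leaf (.up 4 843 1))) (.node (.leaf (.up 2 471 1)) (.leaf (.up 3 1472 0)))) (.node (.node (.leaf (.up 3 576 0)) (.leaf (.up 3 929 3))) (.node (.leaf (.up 3 1005 0)) (.leaf (.up 4 2042 1))))) (.node (.node (.node (.leaf (.up 3 1820 0)) (.leaf (.up 4 1158 3))) (.node (.leaf (.up 3 407 1)) (.leaf (.up 3 1408 0)))) (.node (.node (.leaf (.up 2 1844 2)) (.leaf (.up 2 1557 3))) (.node (.leaf (.up 2 1689 2)) (.leaf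 (.up 3 289 3)))))) (.node (.node (.node (.node (.leaf (.up 3 255 3)) (.leaf (.up 3 1899 3))) (.node (.leaf (.up 4 279 1)) (.leaf (.up 2 550 1)))) (.node (.node (.leaf (.up 2 1446 1)) (.leaf (.up 4 1687 1))) (.node (.leaf (.up 4 813 0)) (.leaf (.up 1 28 0))))) (.node (.node (.node (.leaf (.up 2 1355 3)) (.leaf (.up 2 473 2))) (.node (.leaf (.up 4 837 2)) (.leaf (.up 3 614 1)))) (.node (.node (.leaf (.up 4 2036 2)) (.leaf (.up 2 1221 2))) (.node (.leaf (.up 2 236 3)) (.leaf (.up 2 1384 2)))))))) (.node (.node (.node (.node (.node (.node (.leaf (.up 2 471 3)) (.leaf (.up 3 1603 3))) (.node (.leaf (.up 3 63 2)) (.leaf (.up 4 284 1)))) (.node (.node (.leaf (.up 4 1692 1)) (.leaf (.up 3 1232 3))) (.node (.leaf (.up 3 23 0)) (.leaf (.up 2 806 0))))) (.node (.node (.node (.leaf (.up 2 1254 0)) (.leaf (.up 2 739 2))) (.node (.leaf (.up 2 1355 0)) (.leaf (.up 3 846 2)))) (.node (.node (.leaf (.up 4 506 0)) (.leaf (.up 2 356 3))) (.node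 (.leaf (.up 2 1905 1)) (.leaf (.up 3 1618 2)))))) (.node (.node (.node (.node (.leaf (.up 3 338 2)) (.leaf (.up 1 26 3))) (.node (.leaf (.up 3 255 2)) (.leaf (.up 4 1838 3)))) (.node (.node (.leaf (.up 3 1628 1)) (.leaf (.up 4 587 0))) (.node (.leaf (.up 3 553 3)) (.leaf (.up 4 998 0))))) (.node (.node (.node (.leaf (.up 3 570 3)) (.leaf (.up 2 1815 0))) (.node (.leaf (.up 3 1419 0)) (.leaf (.up 3 910 2)))) (.node (.node (.leaf (.up 3 1038 2)) (.leaf (.up 3 1855 2))) (.node (.leaf (.up 3 1443 2)) (.leaf (.up 1 9 3))))))) (.node (.node (.node (.node (.node (.leaf (.up 1 26 1)) (.leaf (.up 3 811 1))) (.node (.leaf (.up 4 1681 0)) (.leaf (.up 4 646 1)))) (.node (.node (.leaf (.up 2 544 0)) (.leaf (.up 3 1061 2))) (.node (.leaf (.up 4 1721 2)) (.leaf (.up 3 80 3))))) (.node (.node (.node (.leaf (.up 3 584 2)) (.leaf (.up 2 1101 0))) (.node (.leaf (.up 3 227 3)) (.leaf (.up 2 1504 0)))) (.node (.node (.leaf (.up 3 1876 2)) (.leaf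 (.up 4 337 0))) (.node (.leaf (.up 3 973 0)) (.leaf (.up 2 2010 1)))))) (.node (.node (.node (.node (.leaf (.up 3 2044 0)) (.leaf (.up 4 942 3))) (.node (.leaf (.up 3 1617 0)) (.leaf (.up 4 1178 3)))) (.node (.node (.leaf (.up 4 736 0)) (.leaf (.up 3 317 3))) (.node (.leaf (.up 4 845 0)) (.leaf (.up 2 1545 3))))) (.node (.node (.node (.leaf (.up 4 648 2)) (.leaf (.up 4 939 1))) (.node (.leaf (.up 2 1553 0)) (.leaf (.up 3 302 3)))) (.node (.node (.leaf (.up 3 672 0)) (.leaf (.up 4 1161 3))) (.node (.leaf (.up 4 1593 2)) (.leaf (.up 4 957 3))))))))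

noncomputable def vt2_2_101 : Tr VStep := .node vt2_2_1010 vt2_2_1011

noncomputable def vt2_2_10 : Tr VStep := .node vt2_2_100 vt2_2_101

noncomputable def vt2_2_1100 : Tr VStep :=
  .node (.node (.node (.node (.node (.node (.node (.leaf (.root 4136)) (.leaf (.up 3 1420 0))) (.node (.leaf (.up 3 548 2)) (.leaf (.up 3 1993 3)))) (.node (.node (.leaf (.up 3 1159 1)) (.leaf (.up 2 144 0))) (.node (.leaf (.up 4 524 0)) (.leaf (.up 3 1563 1))))) (.node (.node (.node (.leaf (.up 3 969 2)) (.leaf (.up 3 1484 0))) (.node (.leaf (.up 4 1513 3)) (.leaf (.up 3 341 2)))) (.node (.node (.leaf (.up 4 1223 1)) (.leaf (.up 2 2010 3))) (.node (.leaf (.up 3 1912 2)) (.leaf (.up 3 1097 2)))))) (.node (.node (.node (.node (.leaf (.up 3 304 3)) (.leaf (.up 4 120 2))) (.node (.leaf (.up 2 740 2)) (.leaf (.up 2 400 3)))) (.node (.node (.leaf (.up 4 931 3)) (.leaf (.up 3 80 0))) (.node (.leaf (.up 4 1175 3)) (.leaf (.up 4 509 0))))) (.node (.node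 (.node (.leaf (.up 4 1156 3)) (.leaf (.up 3 1292 0))) (.node (.leaf (.up 3 944 3)) (.leaf (.up 4 1060 3)))) (.node (.node (.leaf (.up 2 1557 2)) (.leaf (.up 1 16 0))) (.node (.leaf (.up 4 291 3)) (.leaf (.up 4 1691 1))))))) (.node (.node (.node (.node (.node (.leaf (.up 3 1245 3)) (.leaf (.up 3 304 1))) (.node (.leaf (.up 4 940 1)) (.leaf (.up 3 1979 0)))) (.node (.node (.leaf (.up 3 1821 1)) (.leaf (.up 4 778 0))) (.node (.leaf (.up 4 378 3)) (.leaf (.up 3 1409 1))))) (.node (.node (.node (.leaf (.up 3 83 2)) (.leaf (.up 2 1622 0))) (.node (.leaf (.up 3 1004 1)) (.leaf (.up 2 457 3)))) (.node (.node (.leaf (.up 3 1359 2)) (.leaf (.up 2 1134 3))) (.node (.leaf (.up 3 470 0)) (.leaf (.up 2 858 3)))))) (.node (.node (.node (.node (.leaf (.up 3 705 1)) (.leaf (.up 3 1296 3))) (.node (.leaf (.up 3 382 2)) (.leaf (.up 2 591 2)))) (.node (.node (.leaf (.up 2 2013 1)) (.leaf (.up 3 1790 2))) (.node (.leaf (.up 4 1827 3)) (.leaf (.up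 3 1875 2))))) (.node (.node (.node (.leaf (.up 2 1447 0)) (.leaf (.up 4 1686 0))) (.node (.leaf (.up 1 4 3)) (.leaf (.up 3 527 2)))) (.node (.node (.leaf (.up 3 1443 3)) (.leaf (.up 4 567 3))) (.node (.leaf (.up 4 278 0)) (.leaf (.up 3 1283 3)))))))) (.node (.node (.node (.node (.node (.node (.leaf (.up 4 940 3)) (.leaf (.up 3 1516 0))) (.node (.leaf (.up 3 580 2)) (.leaf (.up 2 871 1)))) (.node (.node (.leaf (.up 3 1255 1)) (.leaf (.up 4 2006 1))) (.node (.leaf (.up 3 620 0)) (.leaf (.up 4 415 3))))) (.node (.node (.node (.leaf (.up 4 1693 0)) (.leaf (.up 2 152 2))) (.node (.leaf (.up 3 516 2)) (.leaf (.up 3 309 2)))) (.node (.node (.leaf (.up 3 1717 2)) (.leaf (.up 3 799 3))) (.node (.leaf (.up 2 1290 1)) (.leaf (.up 4 1067 3)))))) (.node (.node (.node (.node (.leaf (.up 2 315 1)) (.leaf (.up 2 609 3))) (.node (.leaf (.up 2 150 1)) (.leaf (.up 4 935 1)))) (.node (.node (.leaf (.up 4 1589 2)) (.leaf (.up 4 1284 2))) (.node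 (.leaf (.up 3 82 3)) (.leaf (.up 2 1990 3))))) (.node (.node (.node (.leaf (.up 3 65 3)) (.leaf (.up 3 2005 3))) (.node (.leaf (.up 3 1909 3)) (.leaf (.up 2 999 1)))) (.node (.node (.leaf (.up 2 1653 2)) (.leaf (.up 4 1348 2))) (.node (.leaf (.up 4 1510 3)) (.leaf (.up 3 626 3))))))) (.node (.node (.node (.node (.node (.leaf (.up 2 609 1)) (.leaf (.up 3 336 1))) (.node (.leaf (.up 4 1836 3)) (.leaf (.up 3 751 2)))) (.node (.node (.leaf (.up 3 1917 1)) (.leaf (.up 3 1630 2))) (.node (.leaf (.up 2 1471 3)) (.leaf (.up 3 1505 1))))) (.node (.node (.node (.leaf (.up 3 51 2)) (.leaf (.up 2 568 3))) (.node (.leaf (.up 3 664 3)) (.leaf (.up 3 1292 3)))) (.node (.node (.leaf (.up 2 1327 2)) (.leaf (.up 2 171 3))) (.node (.leaf (.up 4 1680 1)) (.leaf (.up 2 1951 3)))))) (.node (.node (.node (.node (.leaf (.up 3 1415 0)) (.leaf (.up 2 400 1))) (.node (.leaf (.up 3 780 1)) (.leaf (.up 2 61 1)))) (.node (.node (.leaf (.up 3 1981 1)) (.leaf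 (.up 4 1694 2))) (.node (.leaf (.up 3 1026 2)) (.leaf (.up 4 1843 2))))) (.node (.node (.node (.leaf (.up 2 737 1)) (.leaf (.up 3 1121 3))) (.node (.leaf (.up 3 1217 3)) (.leaf (.up 3 853 3)))) (.node (.node (.leaf (.up 4 1519 2)) (.leaf (.up 2 1758 2))) (.node (.leaf (.up 3 1618 3)) (.leaf (.up 4 454 3))))))))

noncomputable def vt2_2_1101 : Tr VStep :=
  .node (.node (.node (.node (.node (.node (.node (.leaf (.up 3 1788 0)) (.leaf (.up 4 426 3))) (.node (.leaf (.up 5 119 1)) (.leaf (.up 4 1694 3)))) (.node (.node (.leaf (.up 3 1222 1)) (.leaf (.up 4 825 3))) (.node (.leaf (.up 3 589 0)) (.leaf (.up 4 1096 2))))) (.node (.node (.node (.leaf (.up 4 1724 0)) (.leaf (.up 3 1421 0))) (.node (.leaf (.up 3 55 1)) (.leaf (.up 3 276 2)))) (.node (.node (.leaf (.up 4 1684 2)) (.leaf (.up 2 1677 3))) (.node (.leaf (.up 3 525 0)) (.leaf (.up 4 441 3)))))) (.node (.node (.node (.node (.leaf (.up 4 282 1)) (.leaf (.up 2 1293 0))) (.node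 (.leaf (.up 3 1875 3)) (.leaf (.up 3 199 3)))) (.node (.node (.leaf (.up 4 756 3)) (.leaf (.up 1 17 0))) (.node (.leaf (.up 3 1472 3)) (.leaf (.up 4 1690 1))))) (.node (.node (.node (.leaf (.up 4 1660 0)) (.leaf (.up 3 1357 0))) (.node (.leaf (.up 4 2001 0)) (.leaf (.up 4 1248 0)))) (.node (.node (.leaf (.up 2 864 0)) (.leaf (.up 4 81 0))) (.node (.leaf (.up 3 717 0)) (.leaf (.up 3 508 0))))))) (.node (.node (.node (.node (.node (.leaf (.up 3 576 1)) (.leaf (.up 3 542 3))) (.node (.leaf (.up 3 1005 1)) (.leaf (.up 4 2042 0)))) (.node (.node (.leaf (.up 4 122 0)) (.leaf (.up 4 843 0))) (.node (.leaf (.up 2 471 0)) (.leaf (.up 3 1472 1))))) (.node (.node (.node (.leaf (.up 1 18 2)) (.leaf (.up 3 1559 0))) (.node (.leaf (.up 3 941 1)) (.leaf (.up 3 158 3)))) (.node (.node (.leaf (.up 3 1820 1)) (.leaf (.up 4 1337 3))) (.node (.leaf (.up 3 407 0)) (.leaf (.up 3 525 3)))))) (.node (.node (.node (.node (.leaf (.up 2 1446 0)) (.leaf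 (.up 4 1687 0))) (.node (.leaf (.up 3 1255 3)) (.leaf (.up 1 28 1)))) (.node (.node (.leaf (.up 3 320 3)) (.leaf (.up 4 1727 2))) (.node (.leaf (.up 4 279 0)) (.leaf (.up 2 550 0))))) (.node (.node (.node (.leaf (.up 4 1510 0)) (.leaf (.up 4 1751 0))) (.node (.leaf (.up 3 1099 0)) (.leaf (.up 4 1914 0)))) (.node (.node (.leaf (.up 3 250 0)) (.leaf (.up 2 864 3))) (.node (.leaf (.up 4 343 0)) (.leaf (.up 3 1108 3)))))))) (.node (.node (.node (.node (.node (.node (.leaf (.up 4 1692 0)) (.leaf (.up 3 1453 0))) (.node (.leaf (.up 3 517 2)) (.leaf (.up 2 806 1)))) (.node (.node (.leaf (.up 3 896 0)) (.leaf (.up 3 2044 3))) (.node (.leaf (.up 3 557 0)) (.leaf (.up 4 284 0))))) (.node (.node (.node (.leaf (.up 3 1871 3)) (.leaf (.up 3 1517 0))) (.node (.leaf (.up 2 1905 0)) (.leaf (.up 3 372 2)))) (.node (.node (.leaf (.up 2 1254 1)) (.leaf (.up 3 584 3))) (.node (.leaf (.up 2 1355 1)) (.leaf (.up 3 1128 2)))))) (.node (.node (.node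 (.node (.leaf (.up 3 1628 0)) (.leaf (.up 4 822 3))) (.node (.leaf (.up 4 709 2)) (.leaf (.up 2 500 2)))) (.node (.node (.leaf (.up 3 832 0)) (.leaf (.up 4 421 3))) (.node (.leaf (.up 4 261 3)) (.leaf (.up 4 1681 3))))) (.node (.node (.node (.leaf (.up 4 278 3)) (.leaf (.up 4 1325 0))) (.node (.leaf (.up 3 1969 0)) (.leaf (.up 4 438 3)))) (.node (.node (.leaf (.up 4 1588 2)) (.leaf (.up 2 1815 1))) (.node (.leaf (.up 3 1201 3)) (.leaf (.up 4 412 0))))))) (.node (.node (.node (.node (.node (.leaf (.up 2 544 1)) (.leaf (.up 3 273 1))) (.node (.leaf (.up 4 909 1)) (.leaf (.up 3 495 3)))) (.node (.node (.leaf (.up 1 26 0)) (.leaf (.up 3 1567 2))) (.node (.leaf (.up 4 1681 1)) (.leaf (.up 4 646 0))))) (.node (.node (.node (.leaf (.up 3 114 2)) (.leaf (.up 3 879 3))) (.node (.leaf (.up 3 973 1)) (.leaf (.up 2 2010 0)))) (.node (.node (.leaf (.up 3 1390 2)) (.leaf (.up 2 1101 1))) (.node (.leaf (.up 4 1219 2)) (.leaf (.up 2 1504 1))))))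 (.node (.node (.node (.node (.leaf (.up 4 1814 3)) (.leaf (.up 4 1783 0))) (.node (.leaf (.up 2 351 2)) (.leaf (.up 3 1882 0)))) (.node (.node (.leaf (.up 3 2044 1)) (.leaf (.up 4 529 3))) (.node (.leaf (.up 3 1617 1)) (.leaf (.up 4 1317 3))))) (.node (.node (.node (.leaf (.up 3 672 1)) (.leaf (.up 4 1334 3))) (.node (.leaf (.up 4 1067 0)) (.leaf (.up 4 514 3)))) (.node (.node (.leaf (.up 4 154 0)) (.leaf (.up 4 1695 2))) (.node (.leaf (.up 2 1553 1)) (.leaf (.up 4 518 0))))))))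

noncomputable def vt2_2_110 : Tr VStep := .node vt2_2_1100 vt2_2_1101

noncomputable def vt2_2_1110 : Tr VStep :=
  .node (.node (.node (.node (.node (.node (.node (.leaf (.root 3244)) (.leaf (.up 3 1730 2))) (.node (.leaf (.up 3 1118 2)) (.leaf (.up 4 1405 1)))) (.node (.node (.leaf (.up 3 765 1)) (.leaf (.up 4 1770 0))) (.node (.leaf (.up 3 848 1)) (.leaf (.up 4 536 3))))) (.node (.node (.node (.leaf (.up 3 1953 1)) (.leaf (.up 2 950 0))) (.node (.leaf (.up 3 1548 1)) (.leaf (.up 4 1839 2)))) (.node (.node (.leaf (.up 4 1435 0)) (.leaf (.up 2 152 3))) (.node (.leaf (.up 4 258 2)) (.leaf (.up 3 1964 3)))))) (.node (.node (.node (.node (.leaf (.up 1 7 0)) (.leaf (.up 4 822 0))) (.node (.leaf (.up 4 1676 1)) (.leaf (.up 3 667 0)))) (.node (.node (.leaf (.up 4 1307 0)) (.leaf (.up 4 268 1))) (.node (.leaf (.up 4 1206 0)) (.leaf (.up 4 1927 0))))) (.node (.node (.node (.leaf (.up 2 71 0)) (.leaf (.up 3 1106 3))) (.node (.leaf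 (.up 2 490 0)) (.leaf (.up 4 2031 2)))) (.node (.node (.leaf (.up 3 341 3)) (.leaf (.up 2 1729 3))) (.node (.leaf (.up 2 1270 0)) (.leaf (.up 3 501 3))))))) (.node (.node (.node (.node (.node (.leaf (.up 4 1641 2)) (.leaf (.up 3 1866 1))) (.node (.leaf (.up 4 1195 3)) (.leaf (.up 3 449 0)))) (.node (.node (.leaf (.up 4 268 3)) (.leaf (.up 4 1688 3))) (.node (.leaf (.up 4 2028 0)) (.leaf (.up 3 1019 1))))) (.node (.node (.node (.leaf (.up 4 1577 2)) (.leaf (.up 3 44 0))) (.node (.leaf (.up 2 688 0)) (.leaf (.up 4 1675 3)))) (.node (.node (.leaf (.up 5 295 1)) (.leaf (.up 1 4 2))) (.node (.leaf (.up 3 1964 0)) (.leaf (.up 3 1181 0)))))) (.node (.node (.node (.node (.leaf (.up 3 925 0)) (.leaf (.up 3 594 3))) (.node (.leaf (.up 4 560 0)) (.leaf (.up 4 257 0)))) (.node (.node (.leaf (.up 4 1665 0)) (.leaf (.up 4 1456 0))) (.node (.leaf (.up 1 10 1)) (.leaf (.up 4 1053 0))))) (.node (.node (.node (.leaf (.up 3 114 3)) (.leaf (.up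 2 236 0))) (.node (.leaf (.up 4 1860 2)) (.leaf (.up 2 321 0)))) (.node (.node (.leaf (.up 2 737 3)) (.leaf (.up 3 1397 3))) (.node (.leaf (.up 1 74 1)) (.leaf (.up 2 1117 0)))))))) (.node (.node (.node (.node (.node (.node (.leaf (.up 2 1921 1)) (.leaf (.up 3 1200 1))) (.node (.leaf (.up 3 1086 2)) (.leaf (.up 2 1807 2)))) (.node (.node (.leaf (.up 3 669 1)) (.leaf (.up 2 1674 0))) (.node (.leaf (.up 3 1046 0)) (.leaf (.up 1 1 1))))) (.node (.node (.node (.leaf (.up 4 231 0)) (.leaf (.up 3 982 0))) (.node (.leaf (.up 4 1644 1)) (.leaf (.up 3 1871 2)))) (.node (.node (.leaf (.up 2 207 2)) (.leaf (.up 2 1117 3))) (.node (.leaf (.up 4 1110 0)) (.leaf (.up 3 595 2)))))) (.node (.node (.node (.node (.leaf (.up 3 1857 1)) (.leaf (.up 4 854 0))) (.node (.leaf (.up 3 1772 1)) (.leaf (.up 4 535 3)))) (.node (.node (.leaf (.up 3 36 3)) (.leaf (.up 4 1610 0))) (.node (.leaf (.up 5 1008 1)) (.leaf (.up 3 2023 0))))) (.node (.node (.node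 (.leaf (.up 4 1795 3)) (.leaf (.up 4 1570 2))) (.node (.leaf (.up 3 55 3)) (.leaf (.up 3 1955 3)))) (.node (.node (.leaf (.up 1 15 2)) (.leaf (.up 2 830 2))) (.node (.leaf (.up 3 944 1)) (.leaf (.up 4 1328 3))))))) (.node (.node (.node (.node (.node (.leaf (.up 2 1545 2)) (.leaf (.up 3 1834 1))) (.node (.leaf (.up 3 1956 2)) (.leaf (.up 4 2042 3)))) (.node (.node (.leaf (.up 4 263 1)) (.leaf (.up 3 36 2))) (.node (.leaf (.up 3 765 3)) (.leaf (.up 3 923 1))))) (.node (.node (.node (.leaf (.up 3 1609 2)) (.leaf (.up 4 1400 2))) (.node (.leaf (.up 3 1526 1)) (.leaf (.up 3 481 0)))) (.node (.node (.leaf (.up 3 853 2)) (.leaf (.up 3 1360 0))) (.node (.leaf (.up 3 1996 0)) (.leaf (.up 2 457 2)))))) (.node (.node (.node (.node (.leaf (.up 4 259 3)) (.leaf (.up 4 1687 3))) (.node (.leaf (.up 4 1892 2)) (.leaf (.up 4 419 3)))) (.node (.node (.leaf (.up 3 1761 0)) (.leaf (.up 3 1028 3))) (.node (.leaf (.up 4 1868 0)) (.leaf (.up 5 859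 1))))) (.node (.node (.node (.leaf (.up 4 1673 2)) (.leaf (.up 5 1962 1))) (.node (.leaf (.up 4 1828 2)) (.leaf (.up 3 289 0)))) (.node (.node (.leaf (.up 3 1697 0)) (.leaf (.up 4 432 3))) (.node (.leaf (.up 2 568 2)) (.leaf (.up 4 265 2))))))))

noncomputable def vt2_2_1111 : Tr VStep :=
  .node (.node (.node (.node (.node (.node (.node (.leaf (.root 3158)) (.leaf (.up 4 1667 2))) (.node (.leaf (.up 2 1608 3)) (.leaf (.up 4 1838 2)))) (.node (.node (.leaf (.up 3 700 1)) (.leaf (.up 4 1707 0))) (.node (.leaf (.up 4 259 2)) (.leaf (.up 1 32 1))))) (.node (.node (.node (.leaf (.up 4 198 0)) (.leaf (.up 3 1015 0))) (.node (.leaf (.up 4 363 0)) (.leaf (.up 3 1128 3)))) (.node (.node (.leaf (.up 3 1627 3)) (.leaf (.up 2 463 3))) (.node (.leaf (.up 3 367 3)) (.leaf (.up 3 626 2)))))) (.node (.node (.node (.node (.leaf (.up 4 1829 3)) (.leaf (.up 3 1603 2))) (.node (.leaf (.up 1 17 3)) (.leaf (.up 3 2030 2)))) (.node (.node (.leaf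 (.up 2 636 1)) (.leaf (.up 2 1643 0))) (.node (.leaf (.up 3 451 2)) (.leaf (.up 2 1990 0))))) (.node (.node (.node (.leaf (.up 1 6 0)) (.leaf (.up 3 1041 1))) (.node (.leaf (.up 2 1677 1)) (.leaf (.up 4 666 0)))) (.node (.node (.leaf (.up 1 2 3)) (.leaf (.up 3 799 2))) (.node (.leaf (.up 4 1846 3)) (.leaf (.up 3 160 1))))))) (.node (.node (.node (.node (.node (.leaf (.up 4 1576 2)) (.leaf (.up 3 1305 2))) (.node (.leaf (.up 3 1532 3)) (.leaf (.up 3 384 0)))) (.node (.node (.leaf (.up 4 294 1)) (.leaf (.up 1 5 2))) (.node (.leaf (.up 4 1965 0)) (.leaf (.up 3 954 1))))) (.node (.node (.node (.leaf (.up 4 1640 2)) (.leaf (.up 4 109 0))) (.node (.leaf (.up 3 1495 1)) (.leaf (.up 4 448 0)))) (.node (.node (.leaf (.up 3 884 2)) (.leaf (.up 3 635 3))) (.node (.leaf (.up 3 2029 0)) (.leaf (.up 3 1359 3)))))) (.node (.node (.node (.node (.leaf (.up 4 1169 3)) (.leaf (.up 3 237 0))) (.node (.leaf (.up 4 933 3)) (.leaf (.up 3 320 0))))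 (.node (.node (.leaf (.up 2 1728 0)) (.leaf (.up 4 197 2))) (.node (.leaf (.up 2 1901 0)) (.leaf (.up 4 1116 0))))) (.node (.node (.node (.leaf (.up 4 924 0)) (.leaf (.up 4 173 0))) (.node (.leaf (.up 2 1553 3)) (.leaf (.up 4 256 0)))) (.node (.node (.leaf (.up 2 950 3)) (.leaf (.up 3 1457 0))) (.node (.leaf (.up 4 1154 3)) (.leaf (.up 3 1052 0)))))))) (.node (.node (.node (.node (.node (.node (.leaf (.up 2 1465 3)) (.leaf (.up 2 1265 1))) (.node (.leaf (.up 3 1151 2)) (.leaf (.up 2 1870 2)))) (.node (.node (.leaf (.up 3 1834 3)) (.leaf (.up 3 1023 2))) (.node (.leaf (.up 2 30 3)) (.leaf (.up 3 594 2))))) (.node (.node (.node (.leaf (.up 1 13 3)) (.leaf (.up 3 1699 2))) (.node (.leaf (.up 4 267 0)) (.leaf (.up 3 1806 2)))) (.node (.node (.leaf (.up 3 142 2)) (.leaf (.up 2 1290 3))) (.node (.leaf (.up 4 291 2)) (.leaf (.up 1 0 1)))))) (.node (.node (.node (.node (.leaf (.up 3 992 3)) (.leaf (.up 4 1571 2))) (.node (.leaf (.up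 2 1215 2)) (.leaf (.up 3 832 3)))) (.node (.node (.leaf (.up 1 14 2)) (.leaf (.up 3 1767 3))) (.node (.leaf (.up 4 945 1)) (.leaf (.up 3 467 3))))) (.node (.node (.node (.leaf (.up 1 102 0)) (.leaf (.up 3 1635 2))) (.node (.leaf (.up 3 352 3)) (.leaf (.up 3 1500 1)))) (.node (.node (.leaf (.up 4 1223 3)) (.leaf (.up 3 365 1))) (.node (.leaf (.up 2 1009 1)) (.leaf (.up 3 722 2))))))) (.node (.node (.node (.node (.node (.leaf (.up 2 1608 2)) (.leaf (.up 3 1899 1))) (.node (.leaf (.up 4 721 0)) (.leaf (.up 3 1236 2)))) (.node (.node (.leaf (.up 4 1182 3)) (.leaf (.up 3 101 2))) (.node (.leaf (.up 4 938 3)) (.leaf (.up 2 456 2))))) (.node (.node (.node (.leaf (.up 3 1544 2)) (.leaf (.up 1 13 0))) (.node (.leaf (.up 4 1165 3)) (.leaf (.up 3 416 0)))) (.node (.node (.leaf (.up 3 788 2)) (.leaf (.up 1 37 2))) (.node (.leaf (.up 2 171 1)) (.leaf (.up 3 392 2)))))) (.node (.node (.node (.node (.leaf (.up 4 1672 2)) (.leaf (.up 2 1465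 2))) (.node (.leaf (.up 4 1829 2)) (.leaf (.up 4 1044 2)))) (.node (.node (.leaf (.up 3 711 3)) (.leaf (.up 3 1425 0))) (.node (.leaf (.up 3 1523 3)) (.leaf (.up 4 264 2))))) (.node (.node (.node (.leaf (.up 2 1504 3)) (.leaf (.up 3 628 3))) (.node (.leaf (.up 4 1893 2)) (.leaf (.up 2 1606 1)))) (.node (.node (.leaf (.up 4 980 2)) (.leaf (.up 4 231 3))) (.node (.leaf (.up 2 71 3)) (.leaf (.up 2 858 1))))))))

noncomputable def vt2_2_111 : Tr VStep := .node vt2_2_1110 vt2_2_1111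

noncomputable def vt2_2_11 : Tr VStep := .node vt2_2_110 vt2_2_111

noncomputable def vt2_2_1 : Tr VStep := .node vt2_2_10 vt2_2_11

noncomputable def vt2_2_ : Tr VStep := .node vt2_2_0 vt2_2_1

noncomputable def vt2_3_0000 : Tr VStep :=
  .node (.node (.node (.node (.node (.node (.node (.leaf (.root 139)) (.leaf (.up 3 1022 3))) (.node (.leaf (.up 3 518 2)) (.leaf (.up 4 1752 3)))) (.node (.node (.leaf (.up 2 1177 0)) (.leaf (.up 4 1469 2))) (.node (.leaf (.up 2 274 4)) (.leaf (.up 5 1193 0))))) (.node (.node (.node (.leaf (.up 5 936 4)) (.leaf (.up 4 1359 4))) (.node (.leaf (.up 4 1061 4)) (.leaf (.up 3 105 2)))) (.node (.node (.leaf (.up 5 218 3)) (.leaf (.up 3 1371 4))) (.node (.leaf (.up 5 1073 4)) (.leaf (.up 4 798 3)))))) (.node (.node (.node (.node (.leaf (.up 4 542 2)) (.leaf (.up 3 572 2))) (.node (.leaf (.up 2 1497 1)) (.leaf (.up 2 1350 1)))) (.node (.node (.leaf (.up 2 1171 0)) (.leaf (.up 4 1931 3))) (.node (.leaf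 (.up 4 1415 2)) (.leaf (.up 4 1187 0))))) (.node (.node (.node (.leaf (.up 5 1430 4)) (.leaf (.up 4 881 4))) (.node (.leaf (.up 4 539 4)) (.leaf (.up 5 1899 3)))) (.node (.node (.leaf (.up 4 1410 4)) (.leaf (.up 1 3 3))) (.node (.leaf (.up 5 967 3)) (.leaf (.up 5 1317 3))))))) (.node (.node (.node (.node (.node (.leaf (.up 5 979 4)) (.leaf (.up 5 1332 4))) (.node (.leaf (.up 3 1383 3)) (.leaf (.up 4 901 3)))) (.node (.node (.leaf (.up 3 155 0)) (.leaf (.up 4 1261 3))) (.node (.leaf (.up 5 399 2)) (.leaf (.up 6 429 2))))) (.node (.node (.node (.leaf (.up 4 1373 0)) (.leaf (.up 4 23 4))) (.node (.leaf (.up 4 1359 0)) (.leaf (.up 2 1131 2)))) (.node (.node (.leaf (.up 4 1415 3)) (.leaf (.up 1 3 4))) (.node (.leaf (.up 3 361 4)) (.leaf (.up 2 1603 3)))))) (.node (.node (.node (.node (.leaf (.up 6 1658 3)) (.leaf (.up 3 778 4))) (.node (.leaf (.up 4 860 3)) (.leaf (.up 4 1580 2)))) (.node (.node (.leaf (.up 3 145 0)) (.leaf (.up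 4 798 4))) (.node (.leaf (.up 2 274 3)) (.leaf (.up 2 1171 4))))) (.node (.node (.node (.leaf (.up 4 791 1)) (.leaf (.up 5 1577 4))) (.node (.leaf (.up 5 1859 4)) (.leaf (.up 2 1121 2)))) (.node (.node (.leaf (.up 4 732 0)) (.leaf (.up 3 1016 2))) (.node (.leaf (.up 4 1690 3)) (.leaf (.up 5 120 3)))))))) (.node (.node (.node (.node (.node (.node (.leaf (.up 2 1437 3)) (.leaf (.up 4 562 0))) (.node (.leaf (.up 1 2 4)) (.leaf (.up 4 544 0)))) (.node (.node (.leaf (.up 3 1947 4)) (.leaf (.up 5 1465 0))) (.node (.leaf (.up 2 1417 0)) (.leaf (.up 4 1197 2))))) (.node (.node (.node (.leaf (.up 4 533 3)) (.leaf (.up 6 377 2))) (.node (.leaf (.up 3 1843 3)) (.leaf (.up 3 363 2)))) (.node (.node (.leaf (.up 4 2006 0)) (.leaf (.up 4 1721 3))) (.node (.leaf (.up 3 1405 3)) (.leaf (.up 3 1760 2)))))) (.node (.node (.node (.node (.leaf (.up 4 848 1)) (.leaf (.up 3 830 2))) (.node (.leaf (.up 3 520 0)) (.leaf (.up 4 812 2)))) (.node (.node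 (.leaf (.up 3 1175 2)) (.leaf (.up 4 1858 4))) (.node (.leaf (.up 3 1411 0)) (.leaf (.up 3 1441 0))))) (.node (.node (.node (.leaf (.up 4 337 2)) (.leaf (.up 2 716 3))) (.node (.leaf (.up 3 264 3)) (.leaf (.up 4 353 2)))) (.node (.node (.leaf (.up 4 545 1)) (.leaf (.up 4 2046 0))) (.node (.leaf (.up 4 838 3)) (.leaf (.up 2 1444 3))))))) (.node (.node (.node (.node (.node (.leaf (.up 4 1554 0)) (.leaf (.up 3 1846 2))) (.node (.leaf (.up 4 1370 4)) (.leaf (.up 3 772 3)))) (.node (.node (.leaf (.up 5 707 4)) (.leaf (.up 4 443 0))) (.node (.leaf (.up 4 1358 4)) (.leaf (.up 4 330 3))))) (.node (.node (.node (.leaf (.up 6 2036 4)) (.leaf (.up 3 1403 2))) (.node (.leaf (.up 2 1101 0)) (.leaf (.up 4 1694 4)))) (.node (.node (.leaf (.up 4 722 2)) (.leaf (.up 3 752 2))) (.node (.leaf (.up 4 109 4)) (.leaf (.up 3 996 0)))))) (.node (.node (.node (.node (.leaf (.up 3 2031 1)) (.leaf (.up 1 25 3))) (.node (.leaf (.up 3 989 3)) (.leaf (.up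 3 1411 4)))) (.node (.node (.leaf (.up 5 1205 3)) (.leaf (.up 4 538 4))) (.node (.leaf (.up 4 385 0)) (.leaf (.up 2 1905 3))))) (.node (.node (.node (.leaf (.up 1 1 1)) (.leaf (.up 3 1937 3))) (.node (.leaf (.up 2 1607 4)) (.leaf (.up 3 1125 0)))) (.node (.node (.leaf (.up 2 728 2)) (.leaf (.up 3 1503 3))) (.node (.leaf (.up 2 1619 4)) (.leaf (.up 3 180 4))))))))

noncomputable def vt2_3_0001 : Tr VStep :=
  .node (.node (.node (.node (.node (.node (.node (.leaf (.root 1076)) (.leaf (.up 3 530 3))) (.node (.leaf (.up 2 470 3)) (.leaf (.up 3 864 0)))) (.node (.node (.leaf (.up 2 1501 2)) (.leaf (.up 5 1535 2))) (.node (.leaf (.up 4 920 3)) (.leaf (.up 6 1564 4))))) (.node (.node (.node (.leaf (.up 5 888 3)) (.leaf (.up 3 1919 1))) (.node (.leaf (.up 1 9 2)) (.leaf (.up 6 811 4)))) (.node (.node (.leaf (.up 4 1686 0)) (.leaf (.up 4 1202 4))) (.node (.leaf (.up 5 1922 2)) (.leaf (.up 3 1952 2)))))) (.node (.node (.node (.node (.leaf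 (.up 3 604 2)) (.leaf (.up 5 638 2))) (.node (.leaf (.up 3 840 0)) (.leaf (.up 4 620 2)))) (.node (.node (.leaf (.up 3 1233 0)) (.leaf (.up 4 1267 0))) (.node (.leaf (.up 2 1733 4)) (.leaf (.up 6 1249 0))))) (.node (.node (.node (.leaf (.up 4 1347 3)) (.leaf (.up 4 664 4))) (.node (.leaf (.up 1 3 2)) (.leaf (.up 5 1671 3)))) (.node (.node (.leaf (.up 2 1131 4)) (.leaf (.up 5 652 4))) (.node (.leaf (.up 3 555 3)) (.leaf (.up 4 1962 2))))))) (.node (.node (.node (.node (.node (.leaf (.up 3 1874 0)) (.leaf (.up 3 1904 0))) (.node (.leaf (.up 4 1163 3)) (.leaf (.up 2 1890 0)))) (.node (.node (.leaf (.up 3 479 2)) (.leaf (.up 5 509 2))) (.node (.leaf (.up 2 461 2)) (.leaf (.up 4 233 0))))) (.node (.node (.node (.leaf (.up 5 1817 4)) (.leaf (.up 5 199 3))) (.node (.leaf (.up 4 771 3)) (.leaf (.up 5 1651 4)))) (.node (.node (.leaf (.up 2 1131 3)) (.leaf (.up 3 490 4))) (.node (.leaf (.up 4 333 3)) (.leaf (.up 5 676 0)))))) (.node (.node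 (.node (.node (.leaf (.up 4 1942 3)) (.leaf (.up 5 1914 0))) (.node (.leaf (.up 3 688 3)) (.leaf (.up 3 1106 3)))) (.node (.node (.leaf (.up 5 469 2)) (.leaf (.up 4 826 3))) (.node (.leaf (.up 5 193 0)) (.leaf (.up 4 227 0))))) (.node (.node (.node (.leaf (.up 5 30 3)) (.leaf (.up 5 1788 3))) (.node (.leaf (.up 3 1336 3)) (.leaf (.up 5 77 4)))) (.node (.node (.leaf (.up 4 920 2)) (.leaf (.up 4 1202 3))) (.node (.leaf (.up 4 1910 3)) (.leaf (.up 5 404 3)))))))) (.node (.node (.node (.node (.node (.node (.leaf (.up 4 792 1)) (.leaf (.up 4 624 0))) (.node (.leaf (.up 3 576 0)) (.leaf (.up 3 1973 3)))) (.node (.node (.leaf (.up 2 1497 0)) (.leaf (.up 4 1531 0))) (.node (.leaf (.up 3 1483 0)) (.leaf (.up 2 1513 0))))) (.node (.node (.node (.leaf (.up 2 1017 3)) (.leaf (.up 2 315 2))) (.node (.leaf (.up 3 1759 3)) (.leaf (.up 3 297 2)))) (.node (.node (.leaf (.up 4 1682 2)) (.leaf (.up 3 1462 4))) (.node (.leaf (.up 3 2038 1)) (.leaf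 (.up 3 1698 2)))))) (.node (.node (.node (.node (.leaf (.up 3 586 3)) (.leaf (.up 5 634 0))) (.node (.leaf (.up 3 586 0)) (.leaf (.up 4 616 0)))) (.node (.node (.leaf (.up 1 4 3)) (.leaf (.up 5 1521 0))) (.node (.leaf (.up 3 1985 4)) (.leaf (.up 4 1253 2))))) (.node (.node (.node (.leaf (.up 3 1403 4)) (.leaf (.up 6 55 0))) (.node (.leaf (.up 1 7 0)) (.leaf (.up 3 37 0)))) (.node (.node (.leaf (.up 3 1718 1)) (.leaf (.up 5 1722 2))) (.node (.leaf (.up 4 1932 0)) (.leaf (.up 4 1966 0))))))) (.node (.node (.node (.node (.node (.leaf (.up 3 300 3)) (.leaf (.up 2 1497 4))) (.node (.leaf (.up 3 1602 0)) (.leaf (.up 2 1894 2)))) (.node (.node (.leaf (.up 5 221 2)) (.leaf (.up 2 1485 4))) (.node (.leaf (.up 2 457 0)) (.leaf (.up 3 576 4))))) (.node (.node (.node (.leaf (.up 3 1565 4)) (.leaf (.up 4 1337 2))) (.node (.leaf (.up 4 1289 2)) (.leaf (.up 2 1069 0)))) (.node (.node (.leaf (.up 4 656 2)) (.leaf (.up 3 238 4))) (.node (.leaf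 (.up 2 642 2)) (.leaf (.up 5 1838 3)))))) (.node (.node (.node (.node (.leaf (.up 4 1626 0)) (.leaf (.up 4 1656 0))) (.node (.leaf (.up 5 1608 0)) (.leaf (.up 3 1235 3)))) (.node (.node (.leaf (.up 4 465 0)) (.leaf (.up 4 1011 4))) (.node (.leaf (.up 4 451 0)) (.leaf (.up 3 1693 3))))) (.node (.node (.node (.leaf (.up 6 35 4)) (.leaf (.up 5 1732 4))) (.node (.leaf (.up 4 1283 2)) (.leaf (.up 3 1063 0)))) (.node (.node (.leaf (.up 5 721 3)) (.leaf (.up 4 958 0))) (.node (.leaf (.up 2 648 2)) (.leaf (.up 5 277 3))))))))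

noncomputable def vt2_3_000 : Tr VStep := .node vt2_3_0000 vt2_3_0001

noncomputable def vt2_3_0010 : Tr VStep :=
  .node (.node (.node (.node (.node (.node (.node (.leaf (.root 346)) (.leaf (.up 3 37 3))) (.node (.leaf (.up 2 258 4)) (.leaf (.up 4 1283 3)))) (.node (.node (.leaf (.up 2 1437 2)) (.leaf (.up 3 619 3))) (.node (.leaf (.up 2 278 4)) (.leaf (.up 3 2033 4))))) (.node (.node (.node (.leaf (.up 5 91 2)) (.leaf (.up 3 1909 1))) (.node (.leaf (.up 3 73 2)) (.leaf (.up 6 651 3)))) (.node (.node (.leaf (.up 3 952 4)) (.leaf (.up 3 490 1))) (.node (.leaf (.up 4 1986 2)) (.leaf (.up 4 722 4)))))) (.node (.node (.node (.node (.leaf (.up 3 794 0)) (.leaf (.up 2 574 2))) (.node (.leaf (.up 3 526 2)) (.leaf (.up 3 824 3)))) (.node (.node (.leaf (.up 3 165 4)) (.leaf (.up 3 1602 4))) (.node (.leaf (.up 4 1413 2)) (.leaf (.up 3 1447 2))))) (.node (.node (.node (.leaf (.up 4 343 0)) (.leaf (.up 4 373 0))) (.node (.leaf (.up 2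 67 2)) (.leaf (.up 4 1200 3)))) (.node (.node (.leaf (.up 3 1756 0)) (.leaf (.up 5 865 4))) (.node (.leaf (.up 4 523 4)) (.leaf (.up 2 1772 0))))))) (.node (.node (.node (.node (.node (.leaf (.up 5 1556 2)) (.leaf (.up 5 1400 3))) (.node (.leaf (.up 4 1724 3)) (.leaf (.up 4 94 3)))) (.node (.node (.leaf (.up 5 468 3)) (.leaf (.up 3 1846 3))) (.node (.leaf (.up 4 1266 3)) (.leaf (.up 2 528 3))))) (.node (.node (.node (.leaf (.up 3 1780 4)) (.leaf (.up 3 1405 0))) (.node (.leaf (.up 4 308 3)) (.leaf (.up 4 1950 4)))) (.node (.node (.leaf (.up 3 1760 4)) (.leaf (.up 1 7 4))) (.node (.leaf (.up 4 890 3)) (.leaf (.up 3 994 2)))))) (.node (.node (.node (.node (.leaf (.up 2 1513 4)) (.leaf (.up 3 835 3))) (.node (.leaf (.up 4 135 3)) (.leaf (.up 4 1582 2)))) (.node (.node (.leaf (.up 3 2031 3)) (.leaf (.up 3 794 4))) (.node (.leaf (.up 2 391 2)) (.leaf (.up 3 1175 4))))) (.node (.node (.node (.leaf (.up 3 553 3)) (.leaf (.up 4 1399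 0))) (.node (.leaf (.up 4 533 1)) (.leaf (.up 4 1381 0)))) (.node (.node (.leaf (.up 4 734 0)) (.leaf (.up 3 764 0))) (.node (.leaf (.up 2 716 0)) (.leaf (.up 3 750 0)))))))) (.node (.node (.node (.node (.node (.node (.leaf (.up 3 530 0)) (.leaf (.up 3 364 4))) (.node (.leaf (.up 3 774 2)) (.leaf (.up 4 1410 3)))) (.node (.node (.leaf (.up 2 1433 0)) (.leaf (.up 5 376 4))) (.node (.leaf (.up 3 1419 0)) (.leaf (.up 3 1449 0))))) (.node (.node (.node (.leaf (.up 5 680 4)) (.leaf (.up 5 1103 4))) (.node (.leaf (.up 5 77 0)) (.leaf (.up 3 361 2)))) (.node (.node (.leaf (.up 4 700 4)) (.leaf (.up 3 764 1))) (.node (.leaf (.up 6 1702 3)) (.leaf (.up 4 1762 2)))))) (.node (.node (.node (.node (.leaf (.up 4 1997 1)) (.leaf (.up 3 1695 3))) (.node (.leaf (.up 3 780 2)) (.leaf (.up 5 814 2)))) (.node (.node (.leaf (.up 2 1173 2)) (.leaf (.up 2 1207 2))) (.node (.leaf (.up 4 1409 0)) (.leaf (.up 3 1106 1))))) (.node (.node (.node (.leaf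 (.up 6 339 2)) (.leaf (.up 6 625 4))) (.node (.leaf (.up 4 795 4)) (.leaf (.up 4 101 0)))) (.node (.node (.leaf (.up 4 1752 2)) (.leaf (.up 5 1786 2))) (.node (.leaf (.up 6 157 3)) (.leaf (.up 5 1512 4))))))) (.node (.node (.node (.node (.node (.leaf (.up 4 795 3)) (.leaf (.up 5 1529 3))) (.node (.leaf (.up 3 1374 4)) (.leaf (.up 5 223 3)))) (.node (.node (.leaf (.up 3 411 0)) (.leaf (.up 4 441 0))) (.node (.leaf (.up 4 1354 4)) (.leaf (.up 5 657 3))))) (.node (.node (.node (.leaf (.up 2 1171 3)) (.leaf (.up 5 1151 0))) (.node (.leaf (.up 4 1353 2)) (.leaf (.up 4 1690 4)))) (.node (.node (.leaf (.up 3 1757 3)) (.leaf (.up 2 1603 1))) (.node (.leaf (.up 3 105 4)) (.leaf (.up 4 998 0)))))) (.node (.node (.node (.node (.leaf (.up 2 1562 0)) (.leaf (.up 3 1592 0))) (.node (.leaf (.up 3 864 4)) (.leaf (.up 4 1415 4)))) (.node (.node (.leaf (.up 5 1902 3)) (.leaf (.up 4 542 4))) (.node (.leaf (.up 4 584 3)) (.leaf (.up 3 1427 4)))))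 (.node (.node (.node (.leaf (.up 4 1111 0)) (.leaf (.up 6 1098 3))) (.node (.leaf (.up 2 1603 4)) (.leaf (.up 2 1127 0)))) (.node (.node (.leaf (.up 4 230 3)) (.leaf (.up 2 668 1))) (.node (.leaf (.up 2 712 2)) (.leaf (.up 5 802 3))))))))

noncomputable def vt2_3_0011 : Tr VStep :=
  .node (.node (.node (.node (.node (.node (.node (.leaf (.root 1222)) (.leaf (.up 2 457 3))) (.node (.leaf (.up 4 582 2)) (.leaf (.up 4 1263 3)))) (.node (.node (.leaf (.up 3 1503 2)) (.leaf (.up 3 1275 0))) (.node (.leaf (.up 2 1485 2)) (.leaf (.up 2 1697 3))))) (.node (.node (.node (.leaf (.up 1 25 2)) (.leaf (.up 3 994 1))) (.node (.leaf (.up 4 1413 3)) (.leaf (.up 4 303 0)))) (.node (.node (.leaf (.up 4 749 3)) (.leaf (.up 3 1405 1))) (.node (.leaf (.up 4 1670 0)) (.leaf (.up 3 297 3)))))) (.node (.node (.node (.node (.leaf (.up 2 344 4)) (.leaf (.up 4 636 2))) (.node (.leaf (.up 3 842 0)) (.leaf (.up 4 50 4)))) (.node (.node (.leaf (.up 2 1493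 2)) (.leaf (.up 4 1468 3))) (.node (.leaf (.up 2 1479 2)) (.leaf (.up 5 154 3))))) (.node (.node (.node (.leaf (.up 3 19 2)) (.leaf (.up 2 668 4))) (.node (.leaf (.up 1 1 2)) (.leaf (.up 5 1372 3)))) (.node (.node (.leaf (.up 4 1694 0)) (.leaf (.up 2 648 4))) (.node (.leaf (.up 3 496 3)) (.leaf (.up 5 1810 3))))))) (.node (.node (.node (.node (.node (.leaf (.root 410)) (.leaf (.up 4 1906 0))) (.node (.leaf (.up 4 1872 3)) (.leaf (.up 3 1888 0)))) (.node (.node (.leaf (.up 2 477 2)) (.leaf (.up 4 1580 1))) (.node (.leaf (.up 3 1447 4)) (.leaf (.up 4 235 0))))) (.node (.node (.node (.leaf (.up 4 1986 1)) (.leaf (.up 3 506 4))) (.node (.leaf (.up 4 216 3)) (.leaf (.up 3 1655 4)))) (.node (.node (.leaf (.up 4 912 2)) (.leaf (.up 2 338 3))) (.node (.leaf (.up 4 662 3)) (.leaf (.up 4 928 2)))))) (.node (.node (.node (.node (.leaf (.up 2 1101 3)) (.leaf (.up 4 1912 0))) (.node (.leaf (.up 3 363 3)) (.leaf (.up 4 1929 3)))) (.node (.node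 (.leaf (.up 2 1539 3)) (.leaf (.up 3 225 3))) (.node (.leaf (.up 2 921 4)) (.leaf (.up 2 1479 3))))) (.node (.node (.node (.leaf (.up 4 797 1)) (.leaf (.up 3 1988 4))) (.node (.leaf (.up 6 1710 4)) (.leaf (.up 1 1 3)))) (.node (.node (.leaf (.up 2 668 0)) (.leaf (.up 3 1897 3))) (.node (.leaf (.up 4 1197 3)) (.leaf (.up 4 93 4)))))))) (.node (.node (.node (.node (.node (.node (.leaf (.up 4 1962 3)) (.leaf (.up 4 328 3))) (.node (.leaf (.up 4 538 1)) (.leaf (.up 5 1134 3)))) (.node (.node (.leaf (.up 4 1508 3)) (.leaf (.up 3 774 3))) (.node (.leaf (.up 3 1481 0)) (.leaf (.up 4 1261 2))))) (.node (.node (.node (.leaf (.up 6 34 3)) (.leaf (.up 5 244 1))) (.node (.leaf (.up 1 15 0)) (.leaf (.up 3 555 4)))) (.node (.node (.leaf (.up 3 1780 1)) (.leaf (.up 3 1166 3))) (.node (.leaf (.up 5 1866 3)) (.leaf (.up 3 1696 2)))))) (.node (.node (.node (.node (.leaf (.up 4 602 0)) (.leaf (.up 3 1907 3))) (.node (.leaf (.up 2 1207 3)) (.leaf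 (.up 3 876 2)))) (.node (.node (.leaf (.up 3 991 3)) (.leaf (.up 4 1370 1))) (.node (.leaf (.up 3 90 1)) (.leaf (.up 5 290 4))))) (.node (.node (.node (.leaf (.up 4 23 0)) (.leaf (.up 4 920 4))) (.node (.leaf (.up 3 5 0)) (.leaf (.up 2 1501 3)))) (.node (.node (.leaf (.up 3 555 1)) (.leaf (.up 3 1720 2))) (.node (.leaf (.up 4 1934 0)) (.leaf (.up 4 1939 3))))))) (.node (.node (.node (.node (.node (.leaf (.up 4 826 1)) (.leaf (.up 2 1501 4))) (.node (.leaf (.up 2 1207 4)) (.leaf (.up 4 1892 2)))) (.node (.node (.leaf (.up 5 473 0)) (.leaf (.up 3 1481 4))) (.node (.leaf (.up 3 1439 3)) (.leaf (.up 3 893 3))))) (.node (.node (.node (.leaf (.up 6 1407 3)) (.leaf (.up 5 925 3))) (.node (.leaf (.up 3 1037 0)) (.leaf (.up 3 1907 4)))) (.node (.node (.leaf (.up 4 658 2)) (.leaf (.up 3 688 2))) (.node (.leaf (.up 5 640 2)) (.leaf (.up 5 674 2)))))) (.node (.node (.node (.node (.leaf (.up 3 1228 3)) (.leaf (.up 3 1916 2))) (.node (.leaf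 (.up 3 490 3)) (.leaf (.up 4 1640 0)))) (.node (.node (.leaf (.up 6 1296 4)) (.leaf (.up 4 247 2))) (.node (.leaf (.up 4 449 0)) (.leaf (.up 2 1350 3))))) (.node (.node (.node (.leaf (.up 4 1045 0)) (.leaf (.up 6 1728 4))) (.node (.leaf (.up 2 1031 0)) (.leaf (.up 4 1061 0)))) (.node (.node (.leaf (.up 3 926 0)) (.leaf (.up 4 698 2))) (.node (.leaf (.up 5 650 2)) (.leaf (.up 5 680 2))))))))

noncomputable def vt2_3_001 : Tr VStep := .node vt2_3_0010 vt2_3_0011

noncomputable def vt2_3_00 : Tr VStep := .node vt2_3_000 vt2_3_001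

noncomputable def vt2_3_0100 : Tr VStep :=
  .node (.node (.node (.node (.node (.node (.node (.leaf (.root 402)) (.leaf (.up 6 1707 2))) (.node (.leaf (.up 2 1437 1)) (.leaf (.up 4 890 4)))) (.node (.node (.leaf (.up 1 4 0)) (.leaf (.up 4 288 2))) (.node (.leaf (.up 2 1417 4)) (.leaf (.up 5 306 2))))) (.node (.node (.node (.leaf (.up 3 1843 4)) (.leaf (.up 3 1907 1))) (.node (.leaf (.up 1 7 3)) (.leaf (.up 6 1765 3)))) (.node (.node (.leaf (.up 3 1903 3)) (.leaf (.up 3 492 1))) (.node (.leaf (.up 4 170 4)) (.leaf (.up 4 1613 4)))))) (.node (.node (.node (.node (.leaf (.up 4 1170 3)) (.leaf (.up 2 1697 2))) (.node (.leaf (.up 3 322 1)) (.leaf (.up 2 477 1)))) (.node (.node (.leaf (.up 2 14 0)) (.leaf (.up 1 44 0))) (.node (.leaf (.up 4 951 4)) (.leaf (.up 3 62 0))))) (.node (.node (.node (.leaf (.up 3 794 3)) (.leaf (.up 4 1260 2))) (.node (.leaf (.up 4 1664 4)) (.leaf (.up 5 222 3)))) (.node (.node (.leaf (.up 3 340 3)) (.leaf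 (.up 4 2046 4))) (.node (.leaf (.up 4 1684 4)) (.leaf (.up 3 627 0))))))) (.node (.node (.node (.node (.node (.leaf (.up 5 909 0)) (.leaf (.up 2 278 3))) (.node (.leaf (.up 3 927 0)) (.leaf (.up 3 957 0)))) (.node (.node (.leaf (.up 4 546 1)) (.leaf (.up 4 443 4))) (.node (.leaf (.up 4 1044 0)) (.leaf (.up 5 1662 3))))) (.node (.node (.node (.leaf (.up 3 619 4)) (.leaf (.up 4 1694 3))) (.node (.leaf (.up 4 1370 3)) (.leaf (.up 2 246 2)))) (.node (.node (.leaf (.up 3 639 4)) (.leaf (.up 3 1903 2))) (.node (.leaf (.up 4 1812 3)) (.leaf (.up 3 502 3)))))) (.node (.node (.node (.node (.leaf (.up 5 463 3)) (.leaf (.up 3 1937 4))) (.node (.leaf (.up 4 659 2)) (.leaf (.up 4 523 3)))) (.node (.node (.leaf (.up 3 1036 0)) (.leaf (.up 5 1379 3))) (.node (.leaf (.up 5 1703 3)) (.leaf (.up 1 8 4))))) (.node (.node (.node (.leaf (.up 2 1607 3)) (.leaf (.up 3 238 2))) (.node (.leaf (.up 4 531 1)) (.leaf (.up 3 1411 3)))) (.node (.node (.leaf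 (.up 4 1601 0)) (.leaf (.up 5 747 3))) (.node (.leaf (.up 2 1619 0)) (.leaf (.up 4 1997 3)))))))) (.node (.node (.node (.node (.node (.node (.leaf (.up 4 788 1)) (.leaf (.up 3 1226 3))) (.node (.leaf (.up 2 1177 4)) (.leaf (.up 3 492 3)))) (.node (.node (.leaf (.up 1 0 2)) (.leaf (.up 6 1511 4))) (.node (.leaf (.up 3 276 0)) (.leaf (.up 4 310 0))))) (.node (.node (.node (.leaf (.up 2 1440 3)) (.leaf (.up 3 1125 1))) (.node (.leaf (.up 3 134 3)) (.leaf (.up 3 506 1)))) (.node (.node (.leaf (.up 5 1571 4)) (.leaf (.up 3 873 0))) (.node (.leaf (.up 2 712 3)) (.leaf (.up 5 637 2)))))) (.node (.node (.node (.node (.leaf (.up 3 1921 2)) (.leaf (.up 2 1701 0))) (.node (.leaf (.up 4 1685 0)) (.leaf (.up 4 1969 2)))) (.node (.node (.leaf (.up 1 10 2)) (.leaf (.up 4 40 2))) (.node (.leaf (.up 3 286 0)) (.leaf (.up 2 1433 3))))) (.node (.node (.node (.leaf (.up 1 9 4)) (.leaf (.up 6 1256 0))) (.node (.leaf (.up 3 1725 3)) (.leaf (.up 4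 1274 0)))) (.node (.node (.leaf (.up 5 469 3)) (.leaf (.up 4 1847 3))) (.node (.leaf (.up 4 1936 4)) (.leaf (.up 4 529 3))))))) (.node (.node (.node (.node (.node (.leaf (.up 3 1909 3)) (.leaf (.up 4 407 3))) (.node (.leaf (.up 3 923 2)) (.leaf (.up 5 1201 3)))) (.node (.node (.leaf (.up 4 308 1)) (.leaf (.up 6 985 3))) (.node (.leaf (.up 5 469 4)) (.leaf (.up 5 1791 3))))) (.node (.node (.node (.leaf (.up 3 879 4)) (.leaf (.up 3 486 2))) (.node (.leaf (.up 2 470 2)) (.leaf (.up 4 517 4)))) (.node (.node (.leaf (.up 3 1615 2)) (.leaf (.up 4 1436 4))) (.node (.leaf (.up 4 1941 3)) (.leaf (.up 4 529 4)))))) (.node (.node (.node (.node (.leaf (.up 4 334 3)) (.leaf (.up 4 1685 4))) (.node (.leaf (.up 6 1128 3)) (.leaf (.up 3 280 4)))) (.node (.node (.leaf (.up 3 768 3)) (.leaf (.up 5 1665 4))) (.node (.leaf (.up 3 116 1)) (.leaf (.up 3 1080 2))))) (.node (.node (.node (.leaf (.up 5 200 0)) (.leaf (.up 3 492 2))) (.node (.leaf (.up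 4 476 2)) (.leaf (.up 5 1083 4)))) (.node (.node (.leaf (.up 4 1160 3)) (.leaf (.up 5 930 4))) (.node (.leaf (.up 2 712 4)) (.leaf (.up 3 1907 0))))))))

noncomputable def vt2_3_0101 : Tr VStep :=
  .node (.node (.node (.node (.node (.node (.node (.leaf (.root 1218)) (.leaf (.up 3 1447 3))) (.node (.leaf (.up 4 1753 2)) (.leaf (.up 4 129 3)))) (.node (.node (.leaf (.up 3 320 2)) (.leaf (.up 3 100 0))) (.node (.leaf (.up 2 338 2)) (.leaf (.up 5 647 4))))) (.node (.node (.node (.leaf (.up 4 1229 3)) (.leaf (.up 3 996 1))) (.node (.leaf (.up 4 343 4)) (.leaf (.up 4 1206 2)))) (.node (.node (.leaf (.up 4 1508 1)) (.leaf (.up 3 1403 1))) (.node (.leaf (.up 4 933 3)) (.leaf (.up 4 1351 3)))))) (.node (.node (.node (.node (.leaf (.root 406)) (.leaf (.up 5 2021 0))) (.node (.leaf (.up 2 1493 1)) (.leaf (.up 2 2039 0)))) (.node (.node (.leaf (.up 3 76 0)) (.leaf (.up 3 1610 1))) (.node (.leaf (.up 2 344 2)) (.leaf (.up 4 124 0))))) (.node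 (.node (.node (.leaf (.up 3 758 3)) (.leaf (.up 2 1539 4))) (.node (.leaf (.up 3 1897 4)) (.leaf (.up 5 306 3)))) (.node (.node (.leaf (.up 2 240 4)) (.leaf (.up 2 1559 4))) (.node (.leaf (.up 4 1188 1)) (.leaf (.up 5 892 3))))))) (.node (.node (.node (.node (.node (.leaf (.root 314)) (.leaf (.up 4 1005 0))) (.node (.leaf (.up 3 300 4)) (.leaf (.up 3 1023 0)))) (.node (.node (.leaf (.up 2 1346 2)) (.leaf (.up 4 1578 1))) (.node (.leaf (.up 4 1110 0)) (.leaf (.up 4 1140 0))))) (.node (.node (.node (.leaf (.up 3 1988 1)) (.leaf (.up 4 1381 4))) (.node (.leaf (.up 4 1206 3)) (.leaf (.up 3 180 2)))) (.node (.node (.leaf (.up 5 1807 2)) (.leaf (.up 3 1393 4))) (.node (.leaf (.up 4 1784 3)) (.leaf (.up 3 764 4)))))) (.node (.node (.node (.node (.leaf (.up 5 707 2)) (.leaf (.up 2 737 2))) (.node (.leaf (.up 5 1810 4)) (.leaf (.up 3 1013 0)))) (.node (.node (.leaf (.up 4 139 4)) (.leaf (.up 4 1167 3))) (.node (.leaf (.up 4 1370 2))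 (.leaf (.up 5 1150 0))))) (.node (.node (.node (.leaf (.up 4 795 1)) (.leaf (.up 5 172 2))) (.node (.leaf (.up 6 561 4)) (.leaf (.up 3 190 2)))) (.node (.node (.leaf (.up 2 1539 0)) (.leaf (.up 3 847 4))) (.node (.leaf (.up 4 195 3)) (.leaf (.up 4 1845 2)))))))) (.node (.node (.node (.node (.node (.node (.leaf (.up 4 765 4)) (.leaf (.up 4 1773 0))) (.node (.leaf (.up 3 1757 0)) (.leaf (.up 1 0 3)))) (.node (.node (.leaf (.up 4 324 0)) (.leaf (.up 4 358 0))) (.node (.leaf (.up 2 342 0)) (.leaf (.up 5 590 3))))) (.node (.node (.node (.leaf (.up 4 1412 2)) (.leaf (.up 5 1184 0))) (.node (.leaf (.up 5 362 3)) (.leaf (.up 3 1460 2)))) (.node (.node (.leaf (.up 5 1538 3)) (.leaf (.up 5 224 3))) (.node (.leaf (.up 4 541 2)) (.leaf (.up 3 1696 4)))))) (.node (.node (.node (.node (.leaf (.up 2 1733 0)) (.leaf (.up 4 797 3))) (.node (.leaf (.up 3 846 4)) (.leaf (.up 3 1449 4)))) (.node (.node (.leaf (.up 4 1969 3)) (.leaf (.up 3 364 0)))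 (.node (.leaf (.up 3 90 2)) (.leaf (.up 4 1469 4))))) (.node (.node (.node (.leaf (.up 4 1422 2)) (.leaf (.up 2 1173 3))) (.node (.leaf (.up 4 1873 3)) (.leaf (.up 4 1470 2)))) (.node (.node (.leaf (.up 4 57 3)) (.leaf (.up 3 551 2))) (.node (.leaf (.up 5 1657 4)) (.leaf (.up 3 1021 3))))))) (.node (.node (.node (.node (.node (.leaf (.up 4 1689 3)) (.leaf (.up 3 322 4))) (.node (.leaf (.up 4 40 4)) (.leaf (.up 4 765 0)))) (.node (.node (.leaf (.up 2 1350 0)) (.leaf (.up 2 342 4))) (.node (.leaf (.up 3 1364 0)) (.leaf (.up 2 1136 2))))) (.node (.node (.node (.leaf (.up 6 646 4)) (.leaf (.up 2 1121 4))) (.node (.leaf (.up 3 146 0)) (.leaf (.up 4 725 3)))) (.node (.node (.leaf (.up 4 658 4)) (.leaf (.up 4 1469 3))) (.node (.leaf (.up 5 1657 3)) (.leaf (.up 3 1016 4)))))) (.node (.node (.node (.node (.leaf (.up 3 411 4)) (.leaf (.up 3 1600 3))) (.node (.leaf (.up 4 1412 3)) (.leaf (.up 5 1009 2)))) (.node (.node (.leaf (.up 5 399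 4)) (.leaf (.up 5 1896 4))) (.node (.leaf (.up 3 1374 0)) (.leaf (.up 4 1146 2))))) (.node (.node (.node (.leaf (.up 5 1208 4)) (.leaf (.up 3 456 3))) (.node (.leaf (.up 3 414 2)) (.leaf (.up 4 1262 3)))) (.node (.node (.leaf (.up 2 1793 0)) (.leaf (.up 5 902 3))) (.node (.leaf (.up 4 781 1)) (.leaf (.up 3 1696 3))))))))

noncomputable def vt2_3_010 : Tr VStep := .node vt2_3_0100 vt2_3_0101

noncomputable def vt2_3_0110 : Tr VStep :=
  .node (.node (.node (.node (.node (.node (.node (.leaf (.up 2 1675 2)) (.leaf (.up 4 1936 3))) (.node (.leaf (.up 2 1433 4)) (.leaf (.up 3 694 3)))) (.node (.node (.leaf (.up 3 256 2)) (.leaf (.up 5 290 2))) (.node (.leaf (.up 2 274 2)) (.leaf (.up 5 54 0))))) (.node (.node (.node (.leaf (.up 2 1472 0)) (.leaf (.up 5 24 3))) (.node (.leaf (.up 5 988 3)) (.leaf (.up 3 1342 3)))) (.node (.node (.leaf (.up 6 1204 3)) (.leaf (.up 3 879 2))) (.node (.leaf (.up 4 601 0)) (.leaf (.up 3 893 2)))))) (.node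 (.node (.node (.node (.leaf (.up 3 1927 0)) (.leaf (.up 5 1957 0))) (.node (.leaf (.up 3 1503 1)) (.leaf (.up 3 1165 3)))) (.node (.node (.leaf (.up 1 12 0)) (.leaf (.up 1 46 0))) (.node (.leaf (.up 3 280 2)) (.leaf (.up 3 314 2))))) (.node (.node (.node (.leaf (.up 3 1228 2)) (.leaf (.up 4 1262 2))) (.node (.leaf (.up 6 1511 3)) (.leaf (.up 6 99 4)))) (.node (.node (.leaf (.up 6 655 3)) (.leaf (.up 3 869 2))) (.node (.leaf (.up 4 1680 4)) (.leaf (.up 5 331 3))))))) (.node (.node (.node (.node (.node (.leaf (.up 5 649 2)) (.leaf (.up 5 683 2))) (.node (.leaf (.up 4 667 2)) (.leaf (.up 5 2027 3)))) (.node (.node (.leaf (.up 4 1028 0)) (.leaf (.up 5 1312 2))) (.node (.leaf (.up 6 1046 0)) (.leaf (.up 6 1586 4))))) (.node (.node (.node (.leaf (.up 4 623 4)) (.leaf (.up 4 230 2))) (.node (.leaf (.up 5 1665 3)) (.leaf (.up 5 244 2)))) (.node (.node (.leaf (.up 4 337 1)) (.leaf (.up 5 1643 0))) (.node (.leaf (.up 4 1231 3)) (.leaf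 (.up 3 1919 2)))))) (.node (.node (.node (.node (.leaf (.up 3 643 2)) (.leaf (.up 4 1941 4))) (.node (.leaf (.up 3 919 0)) (.leaf (.up 3 691 2)))) (.node (.node (.leaf (.up 3 90 3)) (.leaf (.up 3 1921 4))) (.node (.leaf (.up 5 1404 3)) (.leaf (.up 1 12 4))))) (.node (.node (.node (.leaf (.up 3 456 0)) (.leaf (.up 3 490 0))) (.node (.leaf (.up 5 474 0)) (.leaf (.up 5 1339 4)))) (.node (.node (.leaf (.up 2 1603 0)) (.leaf (.up 5 674 4))) (.node (.leaf (.up 3 756 3)) (.leaf (.up 3 1909 2)))))))) (.node (.node (.node (.node (.node (.node (.leaf (.up 2 1679 0)) (.leaf (.up 5 1809 3))) (.node (.leaf (.up 3 1693 0)) (.leaf (.up 5 634 4)))) (.node (.node (.leaf (.up 1 2 2)) (.leaf (.up 5 1375 3))) (.node (.leaf (.up 2 278 0)) (.leaf (.up 4 121 3))))) (.node (.node (.node (.leaf (.up 5 1587 4)) (.leaf (.up 6 1510 2))) (.node (.leaf (.up 3 1232 0)) (.leaf (.up 3 1524 2)))) (.node (.node (.leaf (.up 4 841 0)) (.leaf (.up 4 727 3))) (.node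 (.leaf (.up 5 275 3)) (.leaf (.up 3 639 2)))))) (.node (.node (.node (.node (.leaf (.up 5 1326 4)) (.leaf (.up 3 298 3))) (.node (.leaf (.up 3 1937 2)) (.leaf (.up 3 1971 2)))) (.node (.node (.leaf (.up 1 8 2)) (.leaf (.up 1 42 2))) (.node (.leaf (.up 5 284 0)) (.leaf (.up 3 1602 3))))) (.node (.node (.node (.leaf (.up 5 1486 2)) (.leaf (.up 3 1698 3))) (.node (.leaf (.up 3 1242 0)) (.leaf (.up 4 359 4)))) (.node (.node (.leaf (.up 1 25 4)) (.leaf (.up 4 1260 3))) (.node (.leaf (.up 5 1940 4)) (.leaf (.up 3 458 3))))))) (.node (.node (.node (.node (.node (.leaf (.up 4 1198 3)) (.leaf (.up 4 588 3))) (.node (.leaf (.up 2 921 2)) (.leaf (.up 6 1898 3)))) (.node (.node (.leaf (.up 3 1760 3)) (.leaf (.up 1 2 3))) (.node (.leaf (.up 4 465 4)) (.leaf (.up 2 1334 0))))) (.node (.node (.node (.leaf (.up 6 875 4)) (.leaf (.up 3 226 0))) (.node (.leaf (.up 2 210 0)) (.leaf (.up 2 240 0)))) (.node (.node (.leaf (.up 4 1613 2)) (.leaf (.up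 2 728 1))) (.node (.leaf (.up 4 1266 4)) (.leaf (.up 4 533 4)))))) (.node (.node (.node (.node (.leaf (.up 4 661 3)) (.leaf (.up 4 1681 4))) (.node (.leaf (.up 3 1971 3)) (.leaf (.up 3 945 2)))) (.node (.node (.leaf (.up 4 1034 2)) (.leaf (.up 3 1593 3))) (.node (.leaf (.up 3 2031 4)) (.leaf (.up 3 264 4))))) (.node (.node (.node (.leaf (.up 1 7 1)) (.leaf (.up 3 1023 3))) (.node (.leaf (.up 2 728 4)) (.leaf (.up 4 1753 3)))) (.node (.node (.leaf (.up 2 1607 2)) (.leaf (.up 4 433 3))) (.node (.leaf (.up 2 716 4)) (.leaf (.up 2 1905 0))))))))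

noncomputable def vt2_3_0111 : Tr VStep :=
  .node (.node (.node (.node (.node (.node (.node (.leaf (.up 1 8 1)) (.leaf (.up 5 1306 4))) (.node (.leaf (.up 2 1136 4)) (.leaf (.up 4 858 3)))) (.node (.node (.leaf (.up 3 322 2)) (.leaf (.up 4 102 0))) (.node (.leaf (.up 3 2038 3)) (.leaf (.up 3 276 3))))) (.node (.node (.node (.leaf (.up 4 1410 0)) (.leaf (.up 2 1440 0))) (.node (.leaf (.up 5 560 3)) (.leaf (.up 5 1972 4)))) (.node (.node (.leaf (.up 6 1738 4)) (.leaf (.up 3 486 1))) (.node (.leaf (.up 4 1254 1)) (.leaf (.up 3 1952 4)))))) (.node (.node (.node (.node (.leaf (.up 2 1701 3)) (.leaf (.up 5 804 4))) (.node (.leaf (.up 4 2007 0)) (.leaf (.up 3 1377 3)))) (.node (.node (.leaf (.up 3 78 0)) (.leaf (.up 3 108 0))) (.node (.leaf (.up 2 461 3)) (.leaf (.up 5 376 2))))) (.node (.node (.node (.leaf (.up 3 1166 2)) (.leaf (.up 4 1196 2))) (.node (.leaf (.up 6 1180 2)) (.leaf (.up 3 1593 1)))) (.node (.node (.leaf (.up 5 244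 4)) (.leaf (.up 4 1409 3))) (.node (.leaf (.up 4 57 1)) (.leaf (.up 3 414 4))))))) (.node (.node (.node (.node (.node (.leaf (.root 198)) (.leaf (.up 4 1064 1))) (.node (.leaf (.up 3 729 2)) (.leaf (.up 3 1021 0)))) (.node (.node (.leaf (.up 3 1933 3)) (.leaf (.up 4 367 3))) (.node (.leaf (.up 4 1108 0)) (.leaf (.up 4 2011 4))))) (.node (.node (.node (.leaf (.up 3 134 2)) (.leaf (.up 3 1377 4))) (.node (.leaf (.up 6 148 2)) (.leaf (.up 5 399 3)))) (.node (.node (.leaf (.up 3 914 4)) (.leaf (.up 5 1767 3))) (.node (.leaf (.up 4 1315 3)) (.leaf (.up 3 1595 0)))))) (.node (.node (.node (.node (.leaf (.up 3 1016 3)) (.leaf (.up 4 247 1))) (.node (.leaf (.up 4 1758 3)) (.leaf (.up 4 497 4)))) (.node (.node (.leaf (.up 4 1354 2)) (.leaf (.up 4 1876 3))) (.node (.leaf (.up 5 1118 0)) (.leaf (.up 4 1148 0))))) (.node (.node (.node (.leaf (.up 2 140 2)) (.leaf (.up 3 424 0))) (.node (.leaf (.up 2 342 3)) (.leaf (.up 5 1972 3)))) (.node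 (.node (.leaf (.up 3 1452 4)) (.leaf (.up 5 220 3))) (.node (.leaf (.up 4 792 3)) (.leaf (.up 4 1847 2)))))))) (.node (.node (.node (.node (.node (.node (.leaf (.up 4 798 1)) (.leaf (.up 4 1789 3))) (.node (.leaf (.up 3 1759 0)) (.leaf (.up 3 987 3)))) (.node (.node (.leaf (.up 2 326 0)) (.leaf (.up 4 1034 4))) (.node (.leaf (.up 3 340 0)) (.leaf (.up 4 112 2))))) (.node (.node (.node (.leaf (.up 4 1943 3)) (.leaf (.up 2 1444 2))) (.node (.leaf (.up 4 1428 2)) (.leaf (.up 3 1462 2)))) (.node (.node (.leaf (.up 2 1497 3)) (.leaf (.up 3 297 4))) (.node (.leaf (.up 2 67 4)) (.leaf (.up 3 573 2)))))) (.node (.node (.node (.node (.leaf (.up 3 1985 1)) (.leaf (.up 4 544 4))) (.node (.leaf (.up 3 770 3)) (.leaf (.up 3 2033 2)))) (.node (.node (.leaf (.up 1 74 2)) (.leaf (.up 2 648 3))) (.node (.leaf (.up 2 350 0)) (.leaf (.up 4 122 2))))) (.node (.node (.node (.leaf (.up 4 1420 2)) (.leaf (.up 6 1192 0))) (.node (.leaf (.up 3 1176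 0)) (.leaf (.up 3 1210 0)))) (.node (.node (.leaf (.up 3 496 4)) (.leaf (.up 5 549 2))) (.node (.leaf (.up 4 533 2)) (.leaf (.up 4 817 0))))))) (.node (.node (.node (.node (.node (.leaf (.up 2 1346 3)) (.leaf (.up 2 326 4))) (.node (.leaf (.up 1 44 4)) (.leaf (.up 2 1017 2)))) (.node (.node (.leaf (.up 3 1973 4)) (.leaf (.up 2 338 4))) (.node (.leaf (.up 2 1366 0)) (.leaf (.up 3 1759 4))))) (.node (.node (.node (.leaf (.up 2 642 4)) (.leaf (.up 3 1125 4))) (.node (.leaf (.up 4 1295 4)) (.leaf (.up 4 436 2)))) (.node (.node (.leaf (.up 4 662 4)) (.leaf (.up 3 1615 1))) (.node (.leaf (.up 3 1565 2)) (.leaf (.up 4 1849 0)))))) (.node (.node (.node (.node (.leaf (.up 4 889 3)) (.leaf (.up 4 1912 4))) (.node (.leaf (.up 4 1554 4)) (.leaf (.up 4 1011 2)))) (.node (.node (.leaf (.up 4 311 3)) (.leaf (.up 3 2005 3))) (.node (.leaf (.up 4 1542 4)) (.leaf (.up 3 225 1))))) (.node (.node (.node (.leaf (.up 6 1212 4)) (.leaf (.up 4 531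 3))) (.node (.leaf (.up 4 412 2)) (.leaf (.up 4 1845 3)))) (.node (.node (.leaf (.up 5 1727 3)) (.leaf (.up 4 1825 0))) (.node (.leaf (.up 2 1559 2)) (.leaf (.up 3 1403 3))))))))

noncomputable def vt2_3_011 : Tr VStep := .node vt2_3_0110 vt2_3_0111

noncomputable def vt2_3_01 : Tr VStep := .node vt2_3_010 vt2_3_011

noncomputable def vt2_3_0 : Tr VStep := .node vt2_3_00 vt2_3_01

noncomputable def vt2_3_1000 : Tr VStep :=
  .node (.node (.node (.node (.node (.node (.node (.leaf (.root 1508)) (.leaf (.up 3 1888 3))) (.node (.leaf (.up 3 1718 4)) (.leaf (.up 4 582 3)))) (.node (.node (.leaf (.up 3 553 2)) (.leaf (.up 4 523 2))) (.node (.leaf (.up 3 1698 4)) (.leaf (.up 1 8 3))))) (.node (.node (.node (.leaf (.up 3 2031 2)) (.leaf (.up 3 1921 1))) (.node (.leaf (.up 4 812 3)) (.leaf (.up 4 542 1)))) (.node (.node (.leaf (.up 3 1036 4)) (.leaf (.up 3 286 1))) (.node (.leaf (.up 4 354 3)) (.leaf (.up 2 338 0)))))) (.node (.node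 (.node (.node (.leaf (.up 4 1448 2)) (.leaf (.up 4 1418 2))) (.node (.leaf (.up 5 671 3)) (.leaf (.up 3 1182 0)))) (.node (.node (.leaf (.up 3 688 1)) (.leaf (.up 3 502 4))) (.node (.leaf (.up 6 209 3)) (.leaf (.up 4 531 2))))) (.node (.node (.node (.leaf (.up 4 49 3)) (.leaf (.up 3 1991 2))) (.node (.leaf (.up 2 2039 2)) (.leaf (.up 3 2005 2)))) (.node (.node (.leaf (.up 3 639 3)) (.leaf (.up 3 1237 4))) (.node (.leaf (.up 4 1471 4)) (.leaf (.up 2 344 0))))))) (.node (.node (.node (.node (.node (.leaf (.up 5 416 2)) (.leaf (.up 3 573 3))) (.node (.leaf (.up 3 180 0)) (.leaf (.up 4 1819 3)))) (.node (.node (.leaf (.up 3 1837 0)) (.leaf (.up 4 656 4))) (.node (.leaf (.up 3 1593 2)) (.leaf (.up 3 1365 3))))) (.node (.node (.node (.leaf (.up 3 320 4)) (.leaf (.up 3 830 1))) (.node (.leaf (.up 3 1023 2)) (.leaf (.up 1 42 4)))) (.node (.node (.leaf (.up 3 340 4)) (.leaf (.up 2 1346 0))) (.node (.leaf (.up 4 1753 4)) (.leaf (.up 3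 733 3)))))) (.node (.node (.node (.node (.leaf (.up 5 740 3)) (.leaf (.up 1 15 1))) (.node (.leaf (.up 3 190 0)) (.leaf (.up 4 288 3)))) (.node (.node (.leaf (.up 3 1831 0)) (.leaf (.up 2 1539 2))) (.node (.leaf (.up 4 1420 3)) (.leaf (.up 6 878 3))))) (.node (.node (.node (.leaf (.up 2 737 0)) (.leaf (.up 5 910 3))) (.node (.leaf (.up 1 74 3)) (.leaf (.up 5 1556 4)))) (.node (.node (.leaf (.up 5 1132 2)) (.leaf (.up 5 448 3))) (.node (.leaf (.up 3 231 4)) (.leaf (.up 4 1254 3)))))))) (.node (.node (.node (.node (.node (.node (.leaf (.up 4 259 3)) (.leaf (.up 4 1412 0))) (.node (.leaf (.up 3 1460 0)) (.leaf (.up 5 711 3)))) (.node (.node (.leaf (.up 6 557 0)) (.leaf (.up 6 1740 4))) (.node (.leaf (.up 4 230 1)) (.leaf (.up 4 121 1))))) (.node (.node (.node (.leaf (.up 2 1675 3)) (.leaf (.up 3 105 3))) (.node (.leaf (.up 4 2041 0)) (.leaf (.up 3 1757 2)))) (.node (.node (.leaf (.up 4 358 2)) (.leaf (.up 3 551 3))) (.node (.leaf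 (.up 5 645 4)) (.leaf (.up 2 342 2)))))) (.node (.node (.node (.node (.leaf (.up 3 1452 0)) (.leaf (.up 4 1422 0))) (.node (.leaf (.up 4 542 3)) (.leaf (.up 4 1436 0)))) (.node (.node (.leaf (.up 3 551 0)) (.leaf (.up 4 771 2))) (.node (.leaf (.up 4 565 0)) (.leaf (.up 3 1919 4))))) (.node (.node (.node (.leaf (.up 5 2017 0)) (.leaf (.up 2 1733 2))) (.node (.leaf (.up 4 2035 0)) (.leaf (.up 4 2001 0)))) (.node (.node (.leaf (.up 3 364 2)) (.leaf (.up 4 72 0))) (.node (.leaf (.up 5 1211 4)) (.leaf (.up 3 314 3))))))) (.node (.node (.node (.node (.node (.leaf (.up 3 1383 4)) (.leaf (.up 4 700 3))) (.node (.leaf (.up 5 376 3)) (.leaf (.up 3 1037 4)))) (.node (.node (.leaf (.up 5 1552 3)) (.leaf (.up 6 242 3))) (.node (.leaf (.up 3 1597 0)) (.leaf (.up 5 1817 2))))) (.node (.node (.node (.leaf (.up 4 1001 0)) (.leaf (.up 4 40 1))) (.node (.leaf (.up 4 765 2)) (.leaf (.up 4 302 4)))) (.node (.node (.leaf (.up 3 1576 1)) (.leaf (.up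 2 1350 2))) (.node (.leaf (.up 2 1136 0)) (.leaf (.up 3 314 4)))))) (.node (.node (.node (.node (.leaf (.up 4 430 0)) (.leaf (.up 4 1159 3))) (.node (.leaf (.up 5 1859 3)) (.leaf (.up 3 414 0)))) (.node (.node (.leaf (.up 6 43 3)) (.leaf (.up 2 1793 2))) (.node (.leaf (.up 3 134 1)) (.leaf (.up 1 25 1))))) (.node (.node (.node (.leaf (.up 4 995 0)) (.leaf (.up 5 711 2))) (.node (.leaf (.up 4 203 3)) (.leaf (.up 4 725 2)))) (.node (.node (.leaf (.up 3 1955 3)) (.leaf (.up 4 321 3))) (.node (.leaf (.up 4 1146 0)) (.leaf (.up 2 1127 3))))))))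

noncomputable def vt2_3_1001 : Tr VStep :=
  .node (.node (.node (.node (.node (.node (.node (.leaf (.root 1160)) (.leaf (.up 5 1474 2))) (.node (.leaf (.up 5 1352 3)) (.leaf (.up 4 1238 0)))) (.node (.node (.leaf (.up 3 619 2)) (.leaf (.up 3 847 0))) (.node (.leaf (.up 6 1798 3)) (.leaf (.up 5 428 4))))) (.node (.node (.node (.leaf (.up 4 2022 3)) (.leaf (.up 3 260 3))) (.node (.leaf (.up 4 636 4)) (.leaf (.up 3 1949 2)))) (.node (.node (.leaf (.up 4 1448 3)) (.leaf (.up 1 4 2))) (.node (.leaf (.up 4 616 4)) (.leaf (.up 3 22 1)))))) (.node (.node (.node (.node (.leaf (.up 2 1772 4)) (.leaf (.up 5 11 4))) (.node (.leaf (.up 4 353 4)) (.leaf (.up 4 1926 4)))) (.node (.node (.leaf (.up 4 1784 4)) (.leaf (.up 3 1720 1))) (.node (.leaf (.up 3 627 2)) (.leaf (.up 4 855 0))))) (.node (.node (.node (.leaf (.up 2 477 3)) (.leaf (.up 5 1855 3))) (.node (.leaf (.up 3 1973 2)) (.leaf (.up 4 1681 0)))) (.node (.node (.leaf (.up 1 44 2))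 (.leaf (.up 2 14 2))) (.node (.leaf (.up 3 62 2)) (.leaf (.up 5 689 4))))))) (.node (.node (.node (.node (.node (.leaf (.up 4 1418 4)) (.leaf (.up 4 198 0))) (.node (.leaf (.up 2 246 0)) (.leaf (.up 4 1783 3)))) (.node (.node (.leaf (.up 2 1607 1)) (.leaf (.up 4 1752 1))) (.node (.leaf (.up 4 531 4)) (.leaf (.up 6 1209 3))))) (.node (.node (.node (.leaf (.up 3 1846 1)) (.leaf (.up 4 1614 4))) (.node (.leaf (.up 3 1949 3)) (.leaf (.up 3 927 2)))) (.node (.node (.leaf (.up 5 245 3)) (.leaf (.up 2 1559 3))) (.node (.leaf (.up 4 1491 3)) (.leaf (.up 4 1044 2)))))) (.node (.node (.node (.node (.leaf (.up 2 1031 1)) (.leaf (.up 3 458 2))) (.node (.leaf (.up 3 506 2)) (.leaf (.up 4 472 2)))) (.node (.node (.leaf (.up 2 326 3)) (.leaf (.up 4 1351 4))) (.node (.leaf (.up 2 1069 4)) (.leaf (.up 2 1619 2))))) (.node (.node (.node (.leaf (.up 3 675 0)) (.leaf (.up 4 112 4))) (.node (.leaf (.up 4 951 2)) (.leaf (.up 4 1860 3)))) (.node (.node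 (.leaf (.up 4 1742 3)) (.leaf (.up 1 44 3))) (.node (.leaf (.up 3 1084 2)) (.leaf (.up 4 1290 3)))))))) (.node (.node (.node (.node (.node (.node (.leaf (.root 1152)) (.leaf (.up 4 1478 0))) (.node (.leaf (.up 3 1481 3)) (.leaf (.up 6 811 3)))) (.node (.node (.leaf (.up 3 873 2)) (.leaf (.up 6 1091 3))) (.node (.leaf (.up 3 1927 3)) (.leaf (.up 4 1262 1))))) (.node (.node (.node (.leaf (.up 5 1961 0)) (.leaf (.up 1 0 1))) (.node (.leaf (.up 3 1725 2)) (.leaf (.up 3 1695 2)))) (.node (.node (.leaf (.up 5 1321 3)) (.leaf (.up 1 0 0))) (.node (.leaf (.up 1 15 3)) (.leaf (.up 3 276 2)))))) (.node (.node (.node (.node (.leaf (.up 5 1748 3)) (.leaf (.up 3 1226 2))) (.node (.leaf (.up 3 1010 3)) (.leaf (.up 6 1296 3)))) (.node (.node (.leaf (.up 6 1178 3)) (.leaf (.up 6 632 3))) (.node (.leaf (.up 4 881 2)) (.leaf (.up 4 1686 4))))) (.node (.node (.node (.leaf (.up 2 1701 2)) (.leaf (.up 3 1921 0))) (.node (.leaf (.up 2 1350 4)) (.leaf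 (.up 3 320 1)))) (.node (.node (.leaf (.up 4 786 3)) (.leaf (.up 1 10 0))) (.node (.leaf (.up 5 58 0)) (.leaf (.up 3 286 2))))))) (.node (.node (.node (.node (.node (.leaf (.up 3 486 0)) (.leaf (.up 4 848 3))) (.node (.leaf (.up 4 771 4)) (.leaf (.up 2 470 0)))) (.node (.node (.leaf (.up 5 1899 2)) (.leaf (.up 3 286 3))) (.node (.leaf (.up 4 791 4)) (.leaf (.up 3 1080 3))))) (.node (.node (.node (.leaf (.up 5 570 3)) (.leaf (.up 5 1866 4))) (.node (.leaf (.up 5 1820 3)) (.leaf (.up 3 923 0)))) (.node (.node (.leaf (.up 3 116 3)) (.leaf (.up 4 1686 3))) (.node (.leaf (.up 5 1362 3)) (.leaf (.up 5 944 3)))))) (.node (.node (.node (.node (.leaf (.up 3 492 0)) (.leaf (.up 4 1111 4))) (.node (.leaf (.up 5 1341 4)) (.leaf (.up 4 529 1)))) (.node (.node (.leaf (.up 5 676 4)) (.leaf (.up 5 1859 2))) (.node (.leaf (.up 3 1907 2)) (.leaf (.up 3 1166 1))))) (.node (.node (.node (.leaf (.up 4 1939 4)) (.leaf (.up 5 645 2))) (.node (.leaf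 (.up 3 693 2)) (.leaf (.up 5 1989 3)))) (.node (.node (.leaf (.up 3 1927 4)) (.leaf (.up 4 1032 0))) (.node (.leaf (.up 1 10 4)) (.leaf (.up 3 1419 3))))))))

noncomputable def vt2_3_100 : Tr VStep := .node vt2_3_1000 vt2_3_1001

noncomputable def vt2_3_1010 : Tr VStep :=
  .node (.node (.node (.node (.node (.node (.node (.leaf (.up 2 1440 2)) (.leaf (.up 4 1410 2))) (.node (.leaf (.up 3 1919 3)) (.leaf (.up 5 413 3)))) (.node (.node (.leaf (.up 3 555 2)) (.leaf (.up 5 1781 3))) (.node (.leaf (.up 5 569 2)) (.leaf (.up 4 539 2))))) (.node (.node (.node (.leaf (.up 5 1489 3)) (.leaf (.up 4 796 1))) (.node (.leaf (.up 4 247 3)) (.leaf (.up 4 2013 2)))) (.node (.node (.leaf (.up 4 1951 3)) (.leaf (.up 3 1411 1))) (.node (.leaf (.up 3 116 2)) (.leaf (.up 4 336 0)))))) (.node (.node (.node (.node (.leaf (.up 2 1793 4)) (.leaf (.up 3 486 4))) (.node (.leaf (.up 2 140 4)) (.leaf (.up 4 1958 3)))) (.node (.node (.leaf (.up 4 545 2))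 (.leaf (.up 4 206 3))) (.node (.leaf (.up 3 778 3)) (.leaf (.up 4 529 2))))) (.node (.node (.node (.leaf (.up 4 546 4)) (.leaf (.up 4 1731 0))) (.node (.leaf (.up 5 707 1)) (.leaf (.up 1 46 3)))) (.node (.node (.leaf (.up 3 566 4)) (.leaf (.up 3 1233 4))) (.node (.leaf (.up 4 1154 3)) (.leaf (.up 4 1219 1))))))) (.node (.node (.node (.node (.node (.leaf (.up 2 1127 4)) (.leaf (.up 3 486 3))) (.node (.leaf (.up 4 546 3)) (.leaf (.up 5 1216 3)))) (.node (.node (.leaf (.up 4 1354 3)) (.leaf (.up 4 1805 0))) (.node (.leaf (.up 3 1022 4)) (.leaf (.up 6 1678 3))))) (.node (.node (.node (.leaf (.up 2 140 3)) (.leaf (.up 3 1955 1))) (.node (.leaf (.up 3 1021 2)) (.leaf (.up 1 46 4)))) (.node (.node (.leaf (.up 4 336 4)) (.leaf (.up 5 1975 4))) (.node (.leaf (.up 3 1757 4)) (.leaf (.up 4 1108 2)))))) (.node (.node (.node (.node (.leaf (.up 3 424 2)) (.leaf (.up 2 140 0))) (.node (.leaf (.up 5 442 2)) (.leaf (.up 4 269 1)))) (.node (.node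 (.leaf (.up 4 881 3)) (.leaf (.up 3 1427 3))) (.node (.leaf (.up 2 1472 4)) (.leaf (.up 5 1813 0))))) (.node (.node (.node (.leaf (.up 4 1719 3)) (.leaf (.up 3 705 0))) (.node (.leaf (.up 4 247 4)) (.leaf (.up 5 1552 4)))) (.node (.node (.leaf (.up 5 1134 2)) (.leaf (.up 4 539 3))) (.node (.leaf (.up 3 479 3)) (.leaf (.up 4 1853 3)))))))) (.node (.node (.node (.node (.node (.node (.leaf (.up 2 728 3)) (.leaf (.up 3 1756 4))) (.node (.leaf (.up 3 1462 0)) (.leaf (.up 4 1428 0)))) (.node (.node (.leaf (.up 4 47 4)) (.leaf (.up 5 1652 3))) (.node (.leaf (.up 3 573 0)) (.leaf (.up 4 850 3))))) (.node (.node (.node (.leaf (.up 5 1360 3)) (.leaf (.up 1 10 1))) (.node (.leaf (.up 3 2043 0)) (.leaf (.up 3 1759 2)))) (.node (.node (.leaf (.up 4 1292 4)) (.leaf (.up 2 326 2))) (.node (.leaf (.up 4 568 3)) (.leaf (.up 3 340 2)))))) (.node (.node (.node (.node (.leaf (.up 5 1251 3)) (.leaf (.up 3 226 4))) (.node (.leaf (.up 3 1210 2)) (.leaf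 (.up 3 1903 4)))) (.node (.node (.leaf (.up 5 1709 3)) (.leaf (.up 2 246 4))) (.node (.leaf (.up 4 412 4)) (.leaf (.up 4 59 1))))) (.node (.node (.node (.leaf (.up 5 2019 0)) (.leaf (.up 2 1417 3))) (.node (.leaf (.up 3 2033 0)) (.leaf (.up 3 2003 0)))) (.node (.node (.leaf (.up 4 725 1)) (.leaf (.up 1 74 0))) (.node (.leaf (.up 4 122 0)) (.leaf (.up 2 350 2))))))) (.node (.node (.node (.node (.node (.leaf (.up 5 1379 4)) (.leaf (.up 4 130 2))) (.node (.leaf (.up 3 750 4)) (.leaf (.up 5 1089 3)))) (.node (.node (.leaf (.up 3 1483 3)) (.leaf (.up 4 912 4))) (.node (.leaf (.up 4 762 4)) (.leaf (.up 3 1565 0))))) (.node (.node (.node (.leaf (.up 4 749 2)) (.leaf (.up 4 969 0))) (.node (.leaf (.up 2 1017 0)) (.leaf (.up 3 733 2)))) (.node (.node (.leaf (.up 3 693 1)) (.leaf (.up 3 1090 0))) (.node (.leaf (.up 4 2009 4)) (.leaf (.up 2 1366 2)))))) (.node (.node (.node (.node (.leaf (.up 4 170 2)) (.leaf (.up 5 1466 4))) (.node (.leaf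 (.up 3 1232 4)) (.leaf (.up 4 539 1)))) (.node (.node (.leaf (.up 3 1008 3)) (.leaf (.up 6 1454 4))) (.node (.leaf (.up 3 1843 2)) (.leaf (.up 2 1559 0))))) (.node (.node (.node (.leaf (.up 4 993 0)) (.leaf (.up 6 709 2))) (.node (.leaf (.up 3 784 3)) (.leaf (.up 4 1812 4)))) (.node (.node (.leaf (.up 3 1130 0)) (.leaf (.up 4 1358 2))) (.node (.leaf (.up 2 350 3)) (.leaf (.up 5 1372 2))))))))

noncomputable def vt2_3_1011 : Tr VStep :=
  .node (.node (.node (.node (.node (.node (.node (.leaf (.up 5 949 3)) (.leaf (.up 2 1472 2))) (.node (.leaf (.up 4 1683 3)) (.leaf (.up 5 113 3)))) (.node (.node (.leaf (.up 3 879 0)) (.leaf (.up 5 1817 3))) (.node (.leaf (.up 3 893 0)) (.leaf (.up 3 424 4))))) (.node (.node (.node (.leaf (.up 4 1705 0)) (.leaf (.up 2 1675 0))) (.node (.leaf (.up 5 1981 2)) (.leaf (.up 4 1951 2)))) (.node (.node (.leaf (.up 5 1651 3)) (.leaf (.up 3 276 1))) (.node (.leaf (.up 4 620 4)) (.leaf (.up 2 274 0))))))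 (.node (.node (.node (.node (.leaf (.up 4 1422 3)) (.leaf (.up 1 15 4))) (.node (.leaf (.up 5 357 4)) (.leaf (.up 3 1610 3)))) (.node (.node (.leaf (.up 3 869 0)) (.leaf (.up 5 290 3))) (.node (.leaf (.up 6 742 3)) (.leaf (.up 4 1942 4))))) (.node (.node (.node (.leaf (.up 3 518 3)) (.leaf (.up 3 1927 2))) (.node (.leaf (.up 5 1975 2)) (.leaf (.up 4 1683 0)))) (.node (.node (.leaf (.up 1 46 2)) (.leaf (.up 1 12 2))) (.node (.leaf (.up 3 314 0)) (.leaf (.up 3 280 0))))))) (.node (.node (.node (.node (.node (.leaf (.up 4 1422 4)) (.leaf (.up 1 10 3))) (.node (.leaf (.up 5 974 3)) (.leaf (.up 5 464 2)))) (.node (.node (.leaf (.up 5 1190 3)) (.leaf (.up 3 893 4))) (.node (.leaf (.up 3 1919 0)) (.leaf (.up 2 1890 3))))) (.node (.node (.node (.leaf (.up 4 352 3)) (.leaf (.up 3 1610 4))) (.node (.leaf (.up 6 1094 3)) (.leaf (.up 4 667 0)))) (.node (.node (.leaf (.up 5 814 3)) (.leaf (.up 3 1484 3))) (.node (.leaf (.up 4 1544 3)) (.leaf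 (.up 5 234 3)))))) (.node (.node (.node (.node (.leaf (.up 3 490 2)) (.leaf (.up 3 456 2))) (.node (.leaf (.up 5 1085 4)) (.leaf (.up 4 791 3)))) (.node (.node (.leaf (.up 5 932 4)) (.leaf (.up 2 1603 2))) (.node (.leaf (.up 3 1909 0)) (.leaf (.up 5 1879 0))))) (.node (.node (.node (.leaf (.up 4 1683 4)) (.leaf (.up 3 643 0))) (.node (.leaf (.up 3 286 4)) (.leaf (.up 3 919 2)))) (.node (.node (.leaf (.up 5 1671 4)) (.leaf (.up 6 1015 3))) (.node (.leaf (.up 3 1086 2)) (.leaf (.up 5 1745 3)))))))) (.node (.node (.node (.node (.node (.node (.leaf (.up 5 820 3)) (.leaf (.up 4 1845 4))) (.node (.leaf (.up 3 1524 0)) (.leaf (.up 2 240 3)))) (.node (.node (.leaf (.up 6 378 3)) (.leaf (.up 4 1944 3))) (.node (.leaf (.up 3 639 0)) (.leaf (.up 5 172 4))))) (.node (.node (.node (.leaf (.up 5 1709 2)) (.leaf (.up 2 1679 2))) (.node (.leaf (.up 5 892 4)) (.leaf (.up 2 258 1)))) (.node (.node (.leaf (.up 4 1253 4)) (.leaf (.up 1 2 0))) (.node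 (.leaf (.up 4 308 2)) (.leaf (.up 2 278 2)))))) (.node (.node (.node (.node (.leaf (.up 3 1843 1)) (.leaf (.up 4 267 4))) (.node (.leaf (.up 5 41 3)) (.leaf (.up 3 1242 2)))) (.node (.node (.leaf (.up 5 865 2)) (.leaf (.up 3 835 2))) (.node (.leaf (.up 4 629 0)) (.leaf (.up 4 1682 4))))) (.node (.node (.node (.leaf (.up 4 1953 0)) (.leaf (.up 3 1125 3))) (.node (.leaf (.up 2 1346 1)) (.leaf (.up 2 1501 1)))) (.node (.node (.leaf (.up 1 42 0)) (.leaf (.up 1 8 0))) (.node (.leaf (.up 2 1366 4)) (.leaf (.up 3 945 4))))))) (.node (.node (.node (.node (.node (.leaf (.up 3 226 2)) (.leaf (.up 4 139 3))) (.node (.leaf (.up 2 240 2)) (.leaf (.up 2 210 2)))) (.node (.node (.leaf (.up 3 1897 2)) (.leaf (.up 4 1613 0))) (.node (.leaf (.up 4 1915 2)) (.leaf (.up 3 1524 4))))) (.node (.node (.node (.leaf (.up 5 687 2)) (.leaf (.up 5 907 0))) (.node (.leaf (.up 5 1223 3)) (.leaf (.up 2 921 0)))) (.node (.node (.leaf (.up 3 1058 0)) (.leaf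 (.up 3 1725 1))) (.node (.leaf (.up 2 1334 2)) (.leaf (.up 4 1042 0)))))) (.node (.node (.node (.node (.leaf (.up 4 82 3)) (.leaf (.up 4 1107 4))) (.node (.leaf (.up 4 1337 4)) (.leaf (.up 4 216 2)))) (.node (.node (.leaf (.up 5 540 3)) (.leaf (.up 2 1607 0))) (.node (.leaf (.up 2 1905 2)) (.leaf (.up 3 19 1))))) (.node (.node (.node (.leaf (.up 4 1943 4)) (.leaf (.up 5 647 2))) (.node (.leaf (.up 3 764 3)) (.leaf (.up 3 915 0)))) (.node (.node (.leaf (.up 4 1428 3)) (.leaf (.up 4 1034 0))) (.node (.leaf (.up 2 14 4)) (.leaf (.up 5 1769 4))))))))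

noncomputable def vt2_3_101 : Tr VStep := .node vt2_3_1010 vt2_3_1011

noncomputable def vt2_3_10 : Tr VStep := .node vt2_3_100 vt2_3_101

noncomputable def vt2_3_1100 : Tr VStep :=
  .node (.node (.node (.node (.node (.node (.node (.leaf (.root 1116)) (.leaf (.up 6 213 3))) (.node (.leaf (.up 5 785 3)) (.leaf (.up 1 9 0)))) (.node (.node (.leaf (.up 3 1460 4)) (.leaf (.up 3 619 1))) (.node (.leaf (.up 3 1952 0)) (.leaf (.up 5 1981 3))))) (.node (.node (.node (.leaf (.up 4 628 0)) (.leaf (.up 3 794 1))) (.node (.leaf (.up 2 1177 3)) (.leaf (.up 4 635 3)))) (.node (.node (.leaf (.up 5 1009 3)) (.leaf (.up 2 1501 0))) (.node (.leaf (.up 4 1751 3)) (.leaf (.up 5 509 4)))))) (.node (.node (.node (.node (.leaf (.up 1 12 3)) (.leaf (.up 5 17 0))) (.node (.leaf (.up 5 295 2)) (.leaf (.up 1 3 0)))) (.node (.node (.leaf (.up 4 578 3)) (.leaf (.up 3 1389 4))) (.node (.leaf (.up 2 1031 4)) (.leaf (.up 4 1928 0))))) (.node (.node (.node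 (.leaf (.up 3 1725 4)) (.leaf (.up 3 604 0))) (.node (.leaf (.up 4 620 0)) (.leaf (.up 3 840 2)))) (.node (.node (.leaf (.up 3 1482 3)) (.leaf (.up 3 808 3))) (.node (.leaf (.up 5 236 3)) (.leaf (.up 4 1219 2))))))) (.node (.node (.node (.node (.node (.leaf (.up 5 874 3)) (.leaf (.up 5 1416 3))) (.node (.leaf (.up 3 1909 4)) (.leaf (.up 4 174 3)))) (.node (.node (.leaf (.up 3 694 2)) (.leaf (.up 3 914 0))) (.node (.leaf (.up 5 676 2)) (.leaf (.up 6 736 3))))) (.node (.node (.node (.leaf (.up 3 1904 2)) (.leaf (.up 3 1874 2))) (.node (.leaf (.up 2 1890 2)) (.leaf (.up 4 1606 0)))) (.node (.node (.leaf (.up 4 1708 3)) (.leaf (.up 3 314 1))) (.node (.leaf (.up 4 578 4)) (.leaf (.up 2 461 0)))))) (.node (.node (.node (.node (.leaf (.up 5 1361 3)) (.leaf (.up 5 947 3))) (.node (.leaf (.up 5 331 4)) (.leaf (.up 4 1685 3)))) (.node (.node (.leaf (.up 4 700 2)) (.leaf (.up 4 523 1))) (.node (.leaf (.up 5 569 3)) (.leaf (.up 5 652 2)))))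 (.node (.node (.node (.leaf (.up 3 729 3)) (.leaf (.up 4 1630 0))) (.node (.leaf (.up 5 1896 2)) (.leaf (.up 5 1866 2)))) (.node (.node (.leaf (.up 5 503 0)) (.leaf (.up 5 1653 3))) (.node (.leaf (.up 3 1457 3)) (.leaf (.up 4 667 4)))))))) (.node (.node (.node (.node (.node (.node (.leaf (.up 2 315 0)) (.leaf (.up 4 281 0))) (.node (.leaf (.up 3 297 0)) (.leaf (.up 4 267 0)))) (.node (.node (.leaf (.up 4 1200 4)) (.leaf (.up 4 538 3))) (.node (.leaf (.up 3 1698 0)) (.leaf (.up 4 1664 0))))) (.node (.node (.node (.leaf (.up 2 391 4)) (.leaf (.up 1 12 1))) (.node (.leaf (.up 3 868 0)) (.leaf (.up 3 576 2)))) (.node (.node (.leaf (.up 4 1531 2)) (.leaf (.up 2 1497 2))) (.node (.leaf (.up 2 1513 2)) (.leaf (.up 3 1483 2)))))) (.node (.node (.node (.node (.leaf (.up 5 141 3)) (.leaf (.up 3 21 2))) (.node (.leaf (.up 3 37 2)) (.leaf (.up 1 7 2)))) (.node (.node (.leaf (.up 5 707 3)) (.leaf (.up 4 1688 0))) (.node (.leaf (.up 4 1283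 4)) (.leaf (.up 3 996 4))))) (.node (.node (.node (.leaf (.up 5 634 2)) (.leaf (.up 2 350 4))) (.node (.leaf (.up 4 547 3)) (.leaf (.up 3 586 2)))) (.node (.node (.leaf (.up 5 1355 3)) (.leaf (.up 3 1237 0))) (.node (.leaf (.up 4 109 3)) (.leaf (.up 2 1679 3))))))) (.node (.node (.node (.node (.node (.leaf (.up 4 1337 0)) (.leaf (.up 4 1307 0))) (.node (.leaf (.up 2 1069 2)) (.leaf (.up 4 47 3)))) (.node (.node (.leaf (.up 3 690 0)) (.leaf (.up 4 656 0))) (.node (.leaf (.up 4 1155 3)) (.leaf (.up 2 642 0))))) (.node (.node (.node (.leaf (.up 4 1650 2)) (.leaf (.up 4 568 4))) (.node (.leaf (.up 2 1894 0)) (.leaf (.up 3 1602 2)))) (.node (.node (.leaf (.up 3 691 1)) (.leaf (.up 3 207 3))) (.node (.leaf (.up 4 838 4)) (.leaf (.up 2 457 2)))))) (.node (.node (.node (.node (.leaf (.up 4 1986 4)) (.leaf (.up 5 293 4))) (.node (.leaf (.up 2 246 3)) (.leaf (.up 4 541 1)))) (.node (.node (.leaf (.up 4 1950 3)) (.leaf (.up 6 305 4)))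 (.node (.leaf (.up 5 682 0)) (.leaf (.up 2 648 0))))) (.node (.node (.node (.leaf (.up 2 737 4)) (.leaf (.up 3 1210 3))) (.node (.leaf (.up 3 1900 0)) (.leaf (.up 4 412 3)))) (.node (.node (.leaf (.up 3 22 3)) (.leaf (.up 3 1780 3))) (.node (.leaf (.up 3 231 0)) (.leaf (.up 3 927 4))))))))

noncomputable def vt2_3_1101 : Tr VStep :=
  .node (.node (.node (.node (.node (.node (.node (.leaf (.up 4 2011 3)) (.leaf (.up 6 351 2))) (.node (.leaf (.up 3 105 0)) (.leaf (.up 4 1315 4)))) (.node (.node (.leaf (.up 3 1429 3)) (.leaf (.up 4 698 4))) (.node (.leaf (.up 5 2018 0)) (.leaf (.up 5 1335 4))))) (.node (.node (.node (.leaf (.up 3 566 0)) (.leaf (.up 3 1933 1))) (.node (.leaf (.up 5 1767 4)) (.leaf (.up 1 0 4)))) (.node (.node (.leaf (.up 4 541 3)) (.leaf (.up 2 1177 2))) (.node (.leaf (.up 4 1851 3)) (.leaf (.up 3 1165 1)))))) (.node (.node (.node (.node (.leaf (.up 5 631 4)) (.leaf (.up 6 341 2))) (.node (.leaf (.up 5 1222 3))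 (.leaf (.up 4 797 4)))) (.node (.node (.leaf (.up 4 2042 0)) (.leaf (.up 4 1758 2))) (.node (.leaf (.up 6 1518 4)) (.leaf (.up 6 106 3))))) (.node (.node (.node (.leaf (.up 3 572 0)) (.leaf (.up 4 850 1))) (.node (.leaf (.up 3 808 2)) (.leaf (.up 3 778 2)))) (.node (.node (.leaf (.up 5 1201 2)) (.leaf (.up 2 1171 2))) (.node (.leaf (.up 3 256 3)) (.leaf (.up 4 1415 0))))))) (.node (.node (.node (.node (.node (.leaf (.up 5 1145 0)) (.leaf (.up 3 2038 4))) (.node (.leaf (.up 2 1131 0)) (.leaf (.up 3 322 3)))) (.node (.node (.leaf (.up 3 756 2)) (.leaf (.up 4 726 2))) (.node (.leaf (.up 5 992 0)) (.leaf (.up 3 780 3))))) (.node (.node (.node (.leaf (.up 5 1294 3)) (.leaf (.up 4 725 4))) (.node (.leaf (.up 4 40 3)) (.leaf (.up 5 1709 1)))) (.node (.node (.leaf (.up 5 1856 3)) (.leaf (.up 3 705 4))) (.node (.leaf (.up 4 614 3)) (.leaf (.up 4 1156 3)))))) (.node (.node (.node (.node (.leaf (.up 6 1213 3)) (.leaf (.up 1 3 1))) (.node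 (.leaf (.up 2 1121 0)) (.leaf (.up 4 1913 3)))) (.node (.node (.leaf (.up 2 1539 1)) (.leaf (.up 4 476 4))) (.node (.leaf (.up 5 981 3)) (.leaf (.up 4 771 1))))) (.node (.node (.node (.leaf (.up 3 1598 0)) (.leaf (.up 5 1495 3))) (.node (.leaf (.up 4 1409 4)) (.leaf (.up 5 241 3)))) (.node (.node (.leaf (.up 4 536 4)) (.leaf (.up 3 1279 4))) (.node (.leaf (.up 3 1429 4)) (.leaf (.up 4 1261 1)))))))) (.node (.node (.node (.node (.node (.node (.leaf (.up 5 1882 3)) (.leaf (.up 4 93 2))) (.node (.leaf (.up 3 363 0)) (.leaf (.up 3 1063 4)))) (.node (.node (.leaf (.up 6 1300 3)) (.leaf (.up 3 1014 3))) (.node (.leaf (.up 3 1760 0)) (.leaf (.up 3 1988 2))))) (.node (.node (.node (.leaf (.up 2 210 3)) (.leaf (.up 2 528 2))) (.node (.leaf (.up 3 1524 3)) (.leaf (.up 3 514 2)))) (.node (.node (.leaf (.up 2 668 3)) (.leaf (.up 3 1693 4))) (.node (.leaf (.up 2 2039 4)) (.leaf (.up 2 1417 2)))))) (.node (.node (.node (.node (.leaf (.up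 4 1845 1)) (.leaf (.up 4 1428 4))) (.node (.leaf (.up 4 1095 3)) (.leaf (.up 3 69 2)))) (.node (.node (.leaf (.up 4 2046 2)) (.leaf (.up 2 1485 3))) (.node (.leaf (.up 4 1770 0)) (.leaf (.up 4 1998 2))))) (.node (.node (.node (.leaf (.up 3 830 0)) (.leaf (.up 4 538 2))) (.node (.leaf (.up 2 477 4)) (.leaf (.up 3 1850 4)))) (.node (.node (.leaf (.up 4 1191 3)) (.leaf (.up 3 1175 0))) (.node (.leaf (.up 2 457 4)) (.leaf (.up 3 1411 2))))))) (.node (.node (.node (.node (.node (.leaf (.up 3 1403 0)) (.leaf (.up 4 1253 3))) (.node (.leaf (.up 4 1944 4)) (.leaf (.up 2 1101 2)))) (.node (.node (.leaf (.up 1 1 4)) (.leaf (.up 4 722 0))) (.node (.leaf (.up 3 996 2)) (.leaf (.up 3 363 4))))) (.node (.node (.node (.leaf (.up 2 1334 4)) (.leaf (.up 4 1554 2))) (.node (.leaf (.up 3 1828 0)) (.leaf (.up 4 1116 4)))) (.node (.node (.leaf (.up 3 1985 3)) (.leaf (.up 4 291 3))) (.node (.leaf (.up 5 687 4)) (.leaf (.up 5 1029 3)))))) (.node (.node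 (.node (.node (.leaf (.up 3 1084 3)) (.leaf (.up 4 1109 2))) (.node (.leaf (.up 3 1125 2)) (.leaf (.up 4 1095 2)))) (.node (.node (.leaf (.up 4 1650 3)) (.leaf (.up 2 728 0))) (.node (.leaf (.up 4 744 0)) (.leaf (.up 3 1462 3))))) (.node (.node (.node (.leaf (.up 4 948 3)) (.leaf (.up 2 1366 3))) (.node (.leaf (.up 3 1576 2)) (.leaf (.up 3 1804 0)))) (.node (.node (.leaf (.up 3 506 3)) (.leaf (.up 3 1816 3))) (.node (.leaf (.up 3 165 0)) (.leaf (.up 2 574 3))))))))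

noncomputable def vt2_3_110 : Tr VStep := .node vt2_3_1100 vt2_3_1101

noncomputable def vt2_3_1110 : Tr VStep :=
  .node (.node (.node (.node (.node (.node (.node (.leaf (.root 1166)) (.leaf (.up 1 25 0))) (.node (.leaf (.up 3 553 4)) (.leaf (.up 3 1576 3)))) (.node (.node (.leaf (.up 3 1718 2)) (.leaf (.up 3 320 3))) (.node (.leaf (.up 3 573 4)) (.leaf (.up 3 1242 4))))) (.node (.node (.node (.leaf (.up 3 1816 1)) (.leaf (.up 3 1927 1))) (.node (.leaf (.up 4 1858 3)) (.leaf (.up 4 536 1)))) (.node (.node (.leaf (.up 1 42 3)) (.leaf (.up 3 280 1))) (.node (.leaf (.up 4 1292 3)) (.leaf (.up 2 1485 0)))))) (.node (.node (.node (.node (.leaf (.up 4 311 2)) (.leaf (.up 3 1405 4))) (.node (.leaf (.up 5 1777 3)) (.leaf (.up 1 1 0)))) (.node (.node (.leaf (.up 3 694 1)) (.leaf (.up 3 553 1))) (.node (.leaf (.up 6 1215 3)) (.leaf (.up 5 740 4))))) (.node (.node (.node (.leaf (.up 4 636 0)) (.leaf (.up 4 606 0))) (.node (.leaf (.up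 4 308 4)) (.leaf (.up 3 1947 3)))) (.node (.node (.leaf (.up 5 1709 4)) (.leaf (.up 1 74 4))) (.node (.leaf (.up 4 288 4)) (.leaf (.up 2 1493 3))))))) (.node (.node (.node (.node (.node (.leaf (.up 5 1081 0)) (.leaf (.up 2 1619 3))) (.node (.leaf (.up 2 1905 4)) (.leaf (.up 4 885 3)))) (.node (.node (.leaf (.up 4 726 1)) (.leaf (.up 4 912 0))) (.node (.leaf (.up 4 2009 3)) (.leaf (.up 2 315 3))))) (.node (.node (.node (.leaf (.up 3 1503 4)) (.leaf (.up 3 824 1))) (.node (.leaf (.up 3 1888 2)) (.leaf (.up 4 1858 2)))) (.node (.node (.leaf (.up 3 1483 4)) (.leaf (.up 2 477 0))) (.node (.leaf (.up 4 582 4)) (.leaf (.up 3 201 2)))))) (.node (.node (.node (.node (.leaf (.up 5 1333 2)) (.leaf (.up 1 9 1))) (.node (.leaf (.up 4 1057 0)) (.leaf (.up 4 1358 3)))) (.node (.node (.leaf (.up 3 952 0)) (.leaf (.up 2 668 2))) (.node (.leaf (.up 5 347 4)) (.leaf (.up 6 1792 3))))) (.node (.node (.node (.leaf (.up 2 258 3)) (.leaf (.up 4 1628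 0))) (.node (.leaf (.up 5 1132 4)) (.leaf (.up 4 1614 0)))) (.node (.node (.leaf (.up 3 1013 4)) (.leaf (.up 5 471 0))) (.node (.leaf (.up 3 225 2)) (.leaf (.up 4 195 2)))))))) (.node (.node (.node (.node (.node (.node (.leaf (.up 3 1389 3)) (.leaf (.up 5 911 3))) (.node (.leaf (.up 4 299 0)) (.leaf (.up 1 15 2)))) (.node (.node (.leaf (.up 5 1972 2)) (.leaf (.up 4 1680 0))) (.node (.leaf (.up 3 1696 0)) (.leaf (.up 5 1924 2))))) (.node (.node (.node (.leaf (.up 5 741 3)) (.leaf (.up 2 1031 3))) (.node (.leaf (.up 5 1987 3)) (.leaf (.up 4 578 2)))) (.node (.node (.leaf (.up 3 1279 0)) (.leaf (.up 3 1904 4))) (.node (.leaf (.up 2 1562 4)) (.leaf (.up 3 1481 2)))))) (.node (.node (.node (.node (.leaf (.up 4 307 0)) (.leaf (.up 3 1460 3))) (.node (.leaf (.up 4 1648 3)) (.leaf (.up 3 1012 4)))) (.node (.node (.leaf (.up 3 280 3)) (.leaf (.up 4 1690 0))) (.node (.leaf (.up 3 1086 3)) (.leaf (.up 4 1934 2))))) (.node (.node (.node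 (.leaf (.up 5 1981 4)) (.leaf (.up 3 572 3))) (.node (.leaf (.up 3 876 0)) (.leaf (.up 3 846 0)))) (.node (.node (.leaf (.up 4 1680 3)) (.leaf (.up 4 1239 0))) (.node (.leaf (.up 5 950 3)) (.leaf (.up 3 1364 3))))))) (.node (.node (.node (.node (.node (.leaf (.up 5 48 3)) (.leaf (.up 5 1746 3))) (.node (.leaf (.up 5 1653 4)) (.leaf (.up 3 1012 3)))) (.node (.node (.leaf (.up 3 492 4)) (.leaf (.up 4 658 0))) (.node (.leaf (.up 5 674 0)) (.leaf (.up 3 134 4))))) (.node (.node (.node (.leaf (.up 4 1648 2)) (.leaf (.up 1 46 1))) (.node (.leaf (.up 4 1892 0)) (.leaf (.up 3 1600 2)))) (.node (.node (.leaf (.up 4 1582 1)) (.leaf (.up 4 788 3))) (.node (.leaf (.up 3 945 1)) (.leaf (.up 4 205 0)))))) (.node (.node (.node (.node (.leaf (.up 5 1547 3)) (.leaf (.up 4 1045 2))) (.node (.leaf (.up 4 1061 2)) (.leaf (.up 2 1031 2)))) (.node (.node (.leaf (.up 4 1093 3)) (.leaf (.up 3 926 2))) (.node (.leaf (.up 5 680 0)) (.leaf (.up 3 1921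 3))))) (.node (.node (.node (.leaf (.up 3 1916 0)) (.leaf (.up 5 1886 0))) (.node (.leaf (.up 4 1189 3)) (.leaf (.up 3 1610 2)))) (.node (.node (.leaf (.up 4 973 3)) (.leaf (.up 5 1327 3))) (.node (.leaf (.up 5 229 0)) (.leaf (.up 1 9 3))))))))

noncomputable def vt2_3_1111 : Tr VStep :=
  .node (.node (.node (.node (.node (.node (.node (.leaf (.root 1164)) (.leaf (.up 5 738 3))) (.node (.leaf (.up 5 294 3)) (.leaf (.up 3 1988 3)))) (.node (.node (.leaf (.up 3 1780 2)) (.leaf (.up 3 2000 0))) (.node (.leaf (.up 6 872 3)) (.leaf (.up 4 1418 3))))) (.node (.node (.node (.leaf (.up 4 564 0)) (.leaf (.up 3 784 1))) (.node (.leaf (.up 5 550 0)) (.leaf (.up 1 4 4)))) (.node (.node (.leaf (.up 4 1471 0)) (.leaf (.up 2 1437 0))) (.node (.leaf (.up 4 1453 0)) (.leaf (.up 3 1423 0)))))) (.node (.node (.node (.node (.leaf (.up 3 627 4)) (.leaf (.up 4 343 2))) (.node (.leaf (.up 4 359 2)) (.leaf (.up 2 67 0)))) (.node (.node (.leaf (.up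 5 615 4)) (.leaf (.up 3 1756 2))) (.node (.leaf (.up 2 1772 2)) (.leaf (.up 3 945 3))))) (.node (.node (.node (.leaf (.up 2 574 0)) (.leaf (.up 3 794 2))) (.node (.leaf (.up 5 556 0)) (.leaf (.up 3 1655 3)))) (.node (.node (.leaf (.up 4 1860 4)) (.leaf (.up 4 1169 2))) (.node (.leaf (.up 3 1447 0)) (.leaf (.up 4 1413 0))))))) (.node (.node (.node (.node (.node (.leaf (.up 3 1405 2)) (.leaf (.up 4 1113 0))) (.node (.leaf (.up 4 1688 4)) (.leaf (.up 4 665 3)))) (.node (.node (.leaf (.up 3 758 2)) (.leaf (.up 4 1758 1))) (.node (.leaf (.up 3 994 0)) (.leaf (.up 6 215 3))))) (.node (.node (.node (.leaf (.up 4 1749 3)) (.leaf (.up 5 1556 0))) (.node (.leaf (.up 4 1011 3)) (.leaf (.up 4 1542 0)))) (.node (.node (.leaf (.up 3 1058 4)) (.leaf (.up 5 415 0))) (.node (.leaf (.up 4 445 3)) (.leaf (.up 4 139 2)))))) (.node (.node (.node (.node (.leaf (.up 2 1894 3)) (.leaf (.up 3 1365 2))) (.node (.leaf (.up 3 576 3)) (.leaf (.up 4 1351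 2)))) (.node (.node (.leaf (.up 3 764 2)) (.leaf (.up 4 472 4))) (.node (.leaf (.up 2 14 3)) (.leaf (.up 2 716 2))))) (.node (.node (.node (.leaf (.up 3 238 3)) (.leaf (.up 3 1816 2))) (.node (.leaf (.up 4 1413 4)) (.leaf (.up 5 810 3)))) (.node (.node (.leaf (.up 5 540 4)) (.leaf (.up 3 1275 4))) (.node (.leaf (.up 4 1926 3)) (.leaf (.up 2 391 0)))))))) (.node (.node (.node (.node (.node (.node (.leaf (.up 4 1153 3)) (.leaf (.up 5 942 4))) (.node (.leaf (.up 3 361 0)) (.leaf (.up 5 77 2)))) (.node (.node (.leaf (.up 3 2038 2)) (.leaf (.up 5 45 3))) (.node (.leaf (.up 4 1762 0)) (.leaf (.up 5 1291 3))))) (.node (.node (.node (.leaf (.up 5 560 2)) (.leaf (.up 3 530 2))) (.node (.leaf (.up 4 546 2)) (.leaf (.up 2 1433 1)))) (.node (.node (.leaf (.up 4 327 3)) (.leaf (.up 2 1433 2))) (.node (.leaf (.up 2 1121 3)) (.leaf (.up 3 276 4)))))) (.node (.node (.node (.node (.leaf (.up 4 698 3)) (.leaf (.up 5 1424 4))) (.node (.leaf (.up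 4 1948 3)) (.leaf (.up 4 541 4)))) (.node (.node (.leaf (.up 5 244 3)) (.leaf (.up 4 1412 4))) (.node (.leaf (.up 4 1262 4)) (.leaf (.up 5 816 3))))) (.node (.node (.node (.leaf (.up 4 828 0)) (.leaf (.up 4 536 2))) (.node (.leaf (.up 4 20 3)) (.leaf (.up 2 326 1)))) (.node (.node (.leaf (.up 2 1207 0)) (.leaf (.up 2 1173 0))) (.node (.leaf (.up 2 461 4)) (.leaf (.up 4 1409 2))))))) (.node (.node (.node (.node (.node (.leaf (.up 4 476 3)) (.leaf (.up 3 1371 0))) (.node (.leaf (.up 4 1948 4)) (.leaf (.up 4 536 3)))) (.node (.node (.leaf (.up 3 1012 2)) (.leaf (.up 4 1762 4))) (.node (.leaf (.up 4 1928 4)) (.leaf (.up 4 367 4))))) (.node (.node (.node (.leaf (.up 6 1620 3)) (.leaf (.up 5 1814 0))) (.node (.leaf (.up 4 882 3)) (.leaf (.up 4 1796 0)))) (.node (.node (.leaf (.up 4 441 2)) (.leaf (.up 3 411 2))) (.node (.leaf (.up 5 683 4)) (.leaf (.up 5 1100 4)))))) (.node (.node (.node (.node (.leaf (.up 5 1583 4)) (.leaf (.up 4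 1111 2))) (.node (.leaf (.up 2 1127 2)) (.leaf (.up 4 1093 2)))) (.node (.node (.leaf (.up 3 1022 2)) (.leaf (.up 5 220 4))) (.node (.leaf (.up 5 143 3)) (.leaf (.up 2 712 0))))) (.node (.node (.node (.leaf (.up 3 780 4)) (.leaf (.up 2 1562 2))) (.node (.leaf (.up 4 1578 2)) (.leaf (.up 4 1806 0)))) (.node (.node (.leaf (.up 4 792 4)) (.leaf (.up 4 1219 3))) (.node (.leaf (.up 2 1173 4)) (.leaf (.up 6 387 2))))))))

noncomputable def vt2_3_111 : Tr VStep := .node vt2_3_1110 vt2_3_1111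

noncomputable def vt2_3_11 : Tr VStep := .node vt2_3_110 vt2_3_111

noncomputable def vt2_3_1 : Tr VStep := .node vt2_3_10 vt2_3_11

noncomputable def vt2_3_ : Tr VStep := .node vt2_3_0 vt2_3_1

noncomputable def vt2_4_0000 : Tr VStep :=
  .node (.node (.node (.node (.node (.node (.node (.leaf (.root 34)) (.leaf (.up 3 378 5))) (.node (.leaf (.up 2 1689 5)) (.leaf (.up 4 1253 5)))) (.node (.node (.leaf (.up 3 1433 5)) (.leaf (.up 3 1829 7))) (.node (.leaf (.up 2 530 7)) (.leaf (.up 3 1847 6))))) (.node (.node (.node (.leaf (.up 3 1817 5)) (.leaf (.up 4 649 8))) (.node (.leaf (.up 4 1958 8)) (.leaf (.up 3 1967 8)))) (.node (.node (.leaf (.up 3 631 8)) (.leaf (.up 3 781 2))) (.node (.leaf (.up 3 1066 7)) (.leaf (.up 4 1880 8)))))) (.node (.node (.node (.node (.leaf (.up 4 478 7)) (.leaf (.up 2 1822 6))) (.node (.leaf (.up 4 1084 5)) (.leaf (.up 3 147 6)))) (.node (.node (.leaf (.up 4 553 6)) (.leaf (.up 4 1183 8))) (.node (.leaf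 (.up 3 1759 0)) (.leaf (.up 4 864 3))))) (.node (.node (.node (.leaf (.up 4 2022 7)) (.leaf (.up 3 1946 4))) (.node (.leaf (.up 4 212 2)) (.leaf (.up 3 607 5)))) (.node (.node (.leaf (.up 3 1173 8)) (.leaf (.up 2 1335 2))) (.node (.leaf (.up 3 468 2)) (.leaf (.up 3 773 4))))))) (.node (.node (.node (.node (.node (.leaf (.up 4 453 4)) (.leaf (.up 4 1201 8))) (.node (.leaf (.up 4 1882 5)) (.leaf (.up 4 407 8)))) (.node (.node (.leaf (.up 3 1103 8)) (.leaf (.up 5 1830 7))) (.node (.leaf (.up 4 529 6)) (.leaf (.up 5 1844 7))))) (.node (.node (.node (.leaf (.up 4 1211 8)) (.leaf (.up 3 1190 5))) (.node (.leaf (.up 4 837 5)) (.leaf (.up 4 1788 4)))) (.node (.node (.leaf (.up 4 1664 4)) (.leaf (.up 3 286 7))) (.node (.leaf (.up 4 362 8)) (.leaf (.up 3 1910 6)))))) (.node (.node (.node (.node (.leaf (.up 2 568 6)) (.leaf (.up 4 150 6))) (.node (.leaf (.up 3 96 1)) (.leaf (.up 4 1819 6)))) (.node (.node (.leaf (.up 4 864 4)) (.leaf (.up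 4 1807 6))) (.node (.leaf (.up 3 1931 8)) (.leaf (.up 4 130 6))))) (.node (.node (.node (.leaf (.up 2 1899 3)) (.leaf (.up 4 1887 6))) (.node (.leaf (.up 4 1573 4)) (.leaf (.up 3 1910 8)))) (.node (.node (.leaf (.up 4 686 8)) (.leaf (.up 3 722 1))) (.node (.leaf (.up 2 1928 8)) (.leaf (.up 2 1921 8)))))))) (.node (.node (.node (.node (.node (.node (.leaf (.up 3 4 7)) (.leaf (.up 3 469 1))) (.node (.leaf (.up 1 2 0)) (.leaf (.up 2 1831 6)))) (.node (.node (.leaf (.up 1 2 7)) (.leaf (.up 3 108 2))) (.node (.leaf (.up 2 528 6)) (.leaf (.up 3 1333 7))))) (.node (.node (.node (.leaf (.up 3 1345 4)) (.leaf (.up 4 1891 6))) (.node (.leaf (.up 2 1831 8)) (.leaf (.up 4 930 4)))) (.node (.node (.leaf (.up 3 656 5)) (.leaf (.up 4 250 6))) (.node (.leaf (.up 3 2000 8)) (.leaf (.up 3 781 7)))))) (.node (.node (.node (.node (.leaf (.up 3 569 6)) (.leaf (.up 3 151 6))) (.node (.leaf (.up 4 454 8)) (.leaf (.up 4 1818 6)))) (.node (.node (.leaf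 (.up 3 1066 5)) (.leaf (.up 3 1806 6))) (.node (.leaf (.up 4 968 7)) (.leaf (.up 4 1858 1))))) (.node (.node (.node (.leaf (.up 4 379 4)) (.leaf (.up 3 2000 3))) (.node (.leaf (.up 4 196 2)) (.leaf (.up 2 1944 4)))) (.node (.node (.leaf (.up 5 1044 8)) (.leaf (.up 3 775 4))) (.node (.leaf (.up 2 306 8)) (.leaf (.up 2 1831 2))))))) (.node (.node (.node (.node (.node (.leaf (.up 4 7 7)) (.leaf (.up 2 1334 1))) (.node (.leaf (.up 2 546 0)) (.leaf (.up 4 278 8)))) (.node (.node (.leaf (.up 1 1 7)) (.leaf (.up 4 187 6))) (.node (.leaf (.up 4 19 7)) (.leaf (.up 2 1334 7))))) (.node (.node (.node (.leaf (.up 4 1599 7)) (.leaf (.up 4 912 3))) (.node (.leaf (.up 4 930 2)) (.leaf (.up 3 277 8)))) (.node (.node (.leaf (.up 5 1500 6)) (.leaf (.up 4 1220 8))) (.node (.leaf (.up 5 1579 7)) (.leaf (.up 4 609 4)))))) (.node (.node (.node (.node (.leaf (.up 4 1457 6)) (.leaf (.up 3 722 8))) (.node (.leaf (.up 4 973 7)) (.leaf (.up 1 10 2))))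 (.node (.node (.leaf (.up 4 552 6)) (.leaf (.up 3 417 1))) (.node (.leaf (.up 4 971 7)) (.leaf (.up 2 1921 4))))) (.node (.node (.node (.leaf (.up 2 1897 5)) (.leaf (.up 4 379 2))) (.node (.leaf (.up 3 1063 4)) (.leaf (.up 3 1103 1)))) (.node (.node (.leaf (.up 4 502 5)) (.leaf (.up 4 196 7))) (.node (.leaf (.up 3 240 3)) (.leaf (.up 3 1103 3))))))))

noncomputable def vt2_4_0001 : Tr VStep :=
  .node (.node (.node (.node (.node (.node (.node (.leaf (.up 4 478 6)) (.leaf (.up 2 145 2))) (.node (.leaf (.up 3 264 3)) (.leaf (.up 4 657 2)))) (.node (.node (.leaf (.up 2 1462 7)) (.leaf (.up 3 147 7))) (.node (.leaf (.up 4 458 6)) (.leaf (.up 3 151 0))))) (.node (.node (.node (.leaf (.up 3 1559 6)) (.leaf (.up 2 771 3))) (.node (.leaf (.up 3 1795 2)) (.leaf (.up 4 820 6)))) (.node (.node (.leaf (.up 4 1654 8)) (.leaf (.up 4 1663 8))) (.node (.leaf (.up 3 805 1)) (.leaf (.up 1 3 3)))))) (.node (.node (.node (.node (.leaf (.up 3 96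 8)) (.leaf (.up 2 1709 5))) (.node (.leaf (.up 4 1731 1)) (.leaf (.up 3 818 5)))) (.node (.node (.leaf (.up 3 151 8)) (.leaf (.up 3 215 0))) (.node (.leaf (.up 4 1457 8)) (.leaf (.up 2 306 4))))) (.node (.node (.node (.leaf (.up 2 1532 0)) (.leaf (.up 4 106 8))) (.node (.leaf (.up 4 2044 0)) (.leaf (.up 3 1655 4)))) (.node (.node (.leaf (.up 2 1532 3)) (.leaf (.up 4 157 8))) (.node (.leaf (.up 3 99 3)) (.leaf (.up 4 1467 8))))))) (.node (.node (.node (.node (.node (.leaf (.up 3 1032 3)) (.leaf (.up 4 150 7))) (.node (.leaf (.up 3 302 2)) (.leaf (.up 4 1997 2)))) (.node (.node (.leaf (.up 3 1207 1)) (.leaf (.up 4 1003 1))) (.node (.leaf (.up 3 1207 0)) (.leaf (.up 4 1739 5))))) (.node (.node (.node (.leaf (.up 4 936 5)) (.leaf (.up 3 468 5))) (.node (.leaf (.up 3 607 2)) (.leaf (.up 3 1541 1)))) (.node (.node (.leaf (.up 2 1335 5)) (.leaf (.up 3 68 8))) (.node (.leaf (.up 3 1901 4)) (.leaf (.up 3 1378 8)))))) (.node (.node (.node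 (.node (.leaf (.up 3 215 3)) (.leaf (.up 4 1916 1))) (.node (.leaf (.up 4 486 6)) (.leaf (.up 4 884 8)))) (.node (.node (.leaf (.up 3 1645 7)) (.leaf (.up 2 1701 8))) (.node (.leaf (.up 3 1554 5)) (.leaf (.up 4 1646 4))))) (.node (.node (.node (.leaf (.up 4 1020 3)) (.leaf (.up 3 134 2))) (.node (.leaf (.up 3 894 8)) (.leaf (.up 3 1380 7)))) (.node (.node (.leaf (.up 4 1711 8)) (.leaf (.up 2 1702 8))) (.node (.leaf (.up 5 905 8)) (.leaf (.up 3 1378 7)))))))) (.node (.node (.node (.node (.node (.node (.leaf (.up 1 10 0)) (.leaf (.up 2 1822 5))) (.node (.leaf (.up 3 805 8)) (.leaf (.up 2 812 8)))) (.node (.node (.leaf (.up 4 462 6)) (.leaf (.up 3 1290 1))) (.node (.leaf (.up 3 1634 5)) (.leaf (.up 3 643 7))))) (.node (.node (.node (.leaf (.up 4 1708 4)) (.leaf (.up 2 1944 3))) (.node (.leaf (.up 4 806 8)) (.leaf (.up 3 1694 5)))) (.node (.node (.leaf (.up 4 1783 8)) (.leaf (.up 4 1232 4))) (.node (.leaf (.up 3 977 8)) (.leaf (.up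 1 1 5)))))) (.node (.node (.node (.node (.leaf (.up 3 225 8)) (.leaf (.up 3 108 3))) (.node (.leaf (.up 1 74 0)) (.leaf (.up 4 349 7)))) (.node (.node (.leaf (.up 3 22 8)) (.leaf (.up 2 304 4))) (.node (.leaf (.up 4 606 1)) (.leaf (.up 3 1282 1))))) (.node (.node (.node (.leaf (.up 3 809 2)) (.leaf (.up 3 781 6))) (.node (.leaf (.up 3 1607 5)) (.leaf (.up 4 1485 8)))) (.node (.node (.leaf (.up 4 21 8)) (.leaf (.up 4 1905 7))) (.node (.leaf (.up 4 815 1)) (.leaf (.up 4 1338 8))))))) (.node (.node (.node (.node (.node (.leaf (.up 1 42 1)) (.leaf (.up 3 1225 4))) (.node (.leaf (.up 1 42 0)) (.leaf (.up 4 834 5)))) (.node (.node (.leaf (.up 4 1548 3)) (.leaf (.up 4 1256 6))) (.node (.leaf (.up 4 1957 7)) (.leaf (.up 4 869 6))))) (.node (.node (.node (.leaf (.up 3 1558 6)) (.leaf (.up 4 50 8))) (.node (.leaf (.up 4 411 6)) (.leaf (.up 4 1300 8)))) (.node (.node (.leaf (.up 3 1569 5)) (.leaf (.up 4 197 8))) (.node (.leaf (.up 4 958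 5)) (.leaf (.up 4 1031 3)))))) (.node (.node (.node (.node (.leaf (.up 2 546 1)) (.leaf (.up 2 1747 8))) (.node (.leaf (.up 3 1647 6)) (.leaf (.up 2 1388 3)))) (.node (.node (.leaf (.up 3 1659 6)) (.leaf (.up 4 1644 3))) (.node (.leaf (.up 3 1725 1)) (.leaf (.up 3 770 8))))) (.node (.node (.node (.leaf (.up 4 1753 8)) (.leaf (.up 3 103 5))) (.node (.leaf (.up 5 2014 0)) (.leaf (.up 3 1014 8)))) (.node (.node (.leaf (.up 5 599 7)) (.leaf (.up 3 656 1))) (.node (.leaf (.up 4 1599 6)) (.leaf (.up 2 1462 4))))))))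

noncomputable def vt2_4_000 : Tr VStep := .node vt2_4_0000 vt2_4_0001

noncomputable def vt2_4_0010 : Tr VStep :=
  .node (.node (.node (.node (.node (.node (.node (.leaf (.up 2 1691 6)) (.leaf (.up 3 1569 7))) (.node (.leaf (.up 2 790 7)) (.leaf (.up 3 120 5)))) (.node (.node (.leaf (.up 2 528 3)) (.leaf (.up 3 120 2))) (.node (.leaf (.up 3 784 7)) (.leaf (.up 4 1057 6))))) (.node (.node (.node (.leaf (.up 4 1258 2)) (.leaf (.up 4 1020 6))) (.node (.leaf (.up 3 1759 6)) (.leaf (.up 4 9 2)))) (.node (.node (.leaf (.up 4 263 8)) (.leaf (.up 4 1125 6))) (.node (.leaf (.up 4 1057 8)) (.leaf (.up 4 13 7)))))) (.node (.node (.node (.node (.leaf (.up 2 1702 6)) (.leaf (.up 3 1032 6))) (.node (.leaf (.up 4 206 7)) (.leaf (.up 4 1622 1)))) (.node (.node (.leaf (.up 3 319 6)) (.leaf (.up 4 1535 7))) (.node (.leaf (.up 3 1598 5)) (.leaf (.up 2 1517 7))))) (.node (.node (.node (.leaf (.up 3 1810 8)) (.leaf (.up 3 961 6))) (.node (.leaf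 (.up 4 564 8)) (.leaf (.up 2 1831 1)))) (.node (.node (.leaf (.up 3 976 2)) (.leaf (.up 4 2028 8))) (.node (.leaf (.up 4 1776 7)) (.leaf (.up 4 981 6))))))) (.node (.node (.node (.node (.node (.leaf (.up 3 775 7)) (.leaf (.up 3 1570 7))) (.node (.leaf (.up 3 1694 6)) (.leaf (.up 3 1072 6)))) (.node (.node (.leaf (.up 3 894 1)) (.leaf (.up 4 1572 7))) (.node (.leaf (.up 3 1368 5)) (.leaf (.up 2 528 8))))) (.node (.node (.node (.leaf (.up 4 1995 8)) (.leaf (.up 4 1986 8))) (.node (.leaf (.up 4 749 8)) (.leaf (.up 4 740 8)))) (.node (.node (.leaf (.up 4 1337 7)) (.leaf (.up 3 1845 8))) (.node (.leaf (.up 4 538 8)) (.leaf (.up 4 531 8)))))) (.node (.node (.node (.node (.leaf (.up 3 302 6)) (.leaf (.up 3 1173 4))) (.node (.leaf (.up 3 205 7)) (.leaf (.up 3 1037 6)))) (.node (.node (.leaf (.up 4 1719 6)) (.leaf (.up 2 751 3))) (.node (.leaf (.up 3 314 6)) (.leaf (.up 1 10 4))))) (.node (.node (.node (.leaf (.up 3 297 8)) (.leaf (.up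 4 288 8))) (.node (.leaf (.up 3 1405 5)) (.leaf (.up 3 976 7)))) (.node (.node (.leaf (.up 2 1661 5)) (.leaf (.up 3 976 4))) (.node (.leaf (.up 4 1779 6)) (.leaf (.up 4 1265 8)))))))) (.node (.node (.node (.node (.node (.node (.leaf (.up 2 274 4)) (.leaf (.up 4 360 2))) (.node (.leaf (.up 2 274 5)) (.leaf (.up 3 1073 6)))) (.node (.node (.leaf (.up 2 530 5)) (.leaf (.up 3 110 5))) (.node (.leaf (.up 2 1163 2)) (.leaf (.up 4 1079 7))))) (.node (.node (.node (.leaf (.up 3 575 0)) (.leaf (.up 4 376 8))) (.node (.leaf (.up 3 1786 2)) (.leaf (.up 4 1905 5)))) (.node (.node (.leaf (.up 4 1549 5)) (.leaf (.up 4 399 8))) (.node (.leaf (.up 4 1184 8)) (.leaf (.up 4 1193 8)))))) (.node (.node (.node (.node (.leaf (.up 3 264 1)) (.leaf (.up 4 1945 8))) (.node (.leaf (.up 4 1698 6)) (.leaf (.up 4 971 4)))) (.node (.node (.leaf (.up 4 728 7)) (.leaf (.up 3 1048 6))) (.node (.leaf (.up 4 1995 3)) (.leaf (.up 3 917 6))))) (.node (.node (.node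 (.leaf (.up 3 121 1)) (.leaf (.up 2 17 4))) (.node (.leaf (.up 3 1778 4)) (.leaf (.up 3 1317 1)))) (.node (.node (.leaf (.up 2 1892 8)) (.leaf (.up 3 1472 3))) (.node (.leaf (.up 3 1778 6)) (.leaf (.up 3 1166 4))))))) (.node (.node (.node (.node (.node (.leaf (.up 4 261 7)) (.leaf (.up 5 1056 7))) (.node (.leaf (.up 3 215 2)) (.leaf (.up 5 1074 7)))) (.node (.node (.leaf (.up 3 977 5)) (.leaf (.up 5 1975 8))) (.node (.leaf (.up 3 1678 6)) (.leaf (.up 4 657 8))))) (.node (.node (.node (.leaf (.up 4 1866 8)) (.leaf (.up 4 536 7))) (.node (.leaf (.up 4 1599 3)) (.leaf (.up 3 1714 5)))) (.node (.node (.leaf (.up 4 1981 8)) (.leaf (.up 3 542 7))) (.node (.leaf (.up 3 667 8)) (.leaf (.up 4 524 7)))))) (.node (.node (.node (.node (.leaf (.up 4 733 7)) (.leaf (.up 3 2040 7))) (.node (.leaf (.up 3 719 7)) (.leaf (.up 4 1003 0)))) (.node (.node (.leaf (.up 2 1517 2)) (.leaf (.up 4 912 6))) (.node (.leaf (.up 3 2029 2)) (.leaf (.up 4 2028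 7))))) (.node (.node (.node (.leaf (.up 3 424 8)) (.leaf (.up 3 417 8))) (.node (.leaf (.up 3 1166 8)) (.leaf (.up 4 454 1)))) (.node (.node (.leaf (.up 4 1329 4)) (.leaf (.up 4 454 7))) (.node (.leaf (.up 3 1145 8)) (.leaf (.up 3 468 7))))))))

noncomputable def vt2_4_0011 : Tr VStep :=
  .node (.node (.node (.node (.node (.node (.node (.leaf (.up 2 24 3)) (.leaf (.up 4 407 7))) (.node (.leaf (.up 3 1910 5)) (.leaf (.up 3 389 7)))) (.node (.node (.leaf (.up 3 1634 4)) (.leaf (.up 2 568 3))) (.node (.leaf (.up 3 1190 7)) (.leaf (.up 1 42 8))))) (.node (.node (.node (.leaf (.up 4 1521 8)) (.leaf (.up 3 1967 6))) (.node (.leaf (.up 3 215 8)) (.leaf (.up 3 277 5)))) (.node (.node (.leaf (.up 4 652 7)) (.leaf (.up 4 533 5))) (.node (.leaf (.up 4 1708 1)) (.leaf (.up 4 41 8)))))) (.node (.node (.node (.node (.leaf (.up 3 784 8)) (.leaf (.up 3 560 5))) (.node (.leaf (.up 4 1912 7)) (.leaf (.up 3 1967 5)))) (.node (.node (.leaf (.up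 2 600 3)) (.leaf (.up 3 1723 4))) (.node (.leaf (.up 3 1918 7)) (.leaf (.up 2 304 5))))) (.node (.node (.node (.leaf (.up 4 2028 3)) (.leaf (.up 4 1938 6))) (.node (.leaf (.up 4 1589 8)) (.leaf (.up 4 1125 7)))) (.node (.node (.leaf (.up 3 371 3)) (.leaf (.up 4 1246 2))) (.node (.leaf (.up 4 1730 8)) (.leaf (.up 4 1123 7))))))) (.node (.node (.node (.node (.node (.leaf (.up 4 1953 1)) (.leaf (.up 4 834 4))) (.node (.leaf (.up 4 1187 7)) (.leaf (.up 3 1225 5)))) (.node (.node (.leaf (.up 3 554 2)) (.leaf (.up 3 1225 2))) (.node (.leaf (.up 1 42 2)) (.leaf (.up 4 384 7))))) (.node (.node (.node (.leaf (.up 3 1845 5)) (.leaf (.up 4 1964 7))) (.node (.leaf (.up 3 667 7)) (.leaf (.up 3 1765 8)))) (.node (.node (.leaf (.up 4 655 7)) (.leaf (.up 4 820 8))) (.node (.leaf (.up 3 1162 0)) (.leaf (.up 3 1554 8)))))) (.node (.node (.node (.node (.leaf (.up 2 1897 7)) (.leaf (.up 4 1912 4))) (.node (.leaf (.up 4 752 6)) (.leaf (.up 3 4 8))))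 (.node (.node (.leaf (.up 3 711 3)) (.leaf (.up 1 74 6))) (.node (.leaf (.up 3 1552 2)) (.leaf (.up 2 600 7))))) (.node (.node (.node (.leaf (.up 4 337 7)) (.leaf (.up 4 1313 8))) (.node (.leaf (.up 4 1337 6)) (.leaf (.up 4 7 8)))) (.node (.node (.leaf (.up 4 1246 4)) (.leaf (.up 3 1494 8))) (.node (.leaf (.up 4 1758 4)) (.leaf (.up 3 240 8)))))))) (.node (.node (.node (.node (.node (.node (.leaf (.up 3 1345 6)) (.leaf (.up 3 917 7))) (.node (.leaf (.up 4 1698 7)) (.leaf (.up 3 903 7)))) (.node (.node (.leaf (.up 4 728 6)) (.leaf (.up 3 1421 8))) (.node (.leaf (.up 4 1923 3)) (.leaf (.up 3 828 3))))) (.node (.node (.node (.leaf (.up 3 805 4)) (.leaf (.up 3 1901 1))) (.node (.leaf (.up 4 86 8)) (.leaf (.up 4 515 5)))) (.node (.node (.leaf (.up 4 1047 2)) (.leaf (.up 4 1422 8))) (.node (.leaf (.up 3 1559 2)) (.leaf (.up 3 23 3)))))) (.node (.node (.node (.node (.leaf (.up 3 1384 7)) (.leaf (.up 3 294 5))) (.node (.leaf (.up 4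 1719 8)) (.leaf (.up 4 38 4)))) (.node (.node (.leaf (.up 3 1477 5)) (.leaf (.up 4 1977 5))) (.node (.leaf (.up 3 1384 6)) (.leaf (.up 3 1990 6))))) (.node (.node (.node (.leaf (.up 3 569 1)) (.leaf (.up 4 923 8))) (.node (.leaf (.up 4 834 7)) (.leaf (.up 3 1725 8)))) (.node (.node (.leaf (.up 3 1190 1)) (.leaf (.up 4 876 8))) (.node (.leaf (.up 2 1702 1)) (.leaf (.up 4 1891 4))))))) (.node (.node (.node (.node (.node (.leaf (.up 3 826 2)) (.leaf (.up 3 103 6))) (.node (.leaf (.up 3 314 2)) (.leaf (.up 4 931 0)))) (.node (.node (.leaf (.up 3 828 1)) (.leaf (.up 4 912 7))) (.node (.leaf (.up 2 1689 8)) (.leaf (.up 4 1753 2))))) (.node (.node (.node (.leaf (.up 3 1145 4)) (.leaf (.up 4 834 8))) (.node (.leaf (.up 3 1645 8)) (.leaf (.up 3 1559 0)))) (.node (.node (.leaf (.up 3 424 3)) (.leaf (.up 3 55 6))) (.node (.leaf (.up 4 230 4)) (.leaf (.up 4 1466 7)))))) (.node (.node (.node (.node (.leaf (.up 4 1450 8)) (.leaf (.up 3 1443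 8))) (.node (.leaf (.up 4 1798 5)) (.leaf (.up 4 1914 4)))) (.node (.node (.leaf (.up 4 1389 6)) (.leaf (.up 4 72 7))) (.node (.leaf (.up 4 1407 7)) (.leaf (.up 3 114 8))))) (.node (.node (.node (.leaf (.up 4 1670 5)) (.leaf (.up 4 1654 7))) (.node (.leaf (.up 3 1655 3)) (.leaf (.up 3 134 8)))) (.node (.node (.leaf (.up 4 1905 2)) (.leaf (.up 1 10 6))) (.node (.leaf (.up 3 120 8)) (.leaf (.up 3 1634 7))))))))

noncomputable def vt2_4_001 : Tr VStep := .node vt2_4_0010 vt2_4_0011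

noncomputable def vt2_4_00 : Tr VStep := .node vt2_4_000 vt2_4_001

noncomputable def vt2_4_0100 : Tr VStep :=
  .node (.node (.node (.node (.node (.node (.node (.leaf (.root 586)) (.leaf (.up 3 1825 7))) (.node (.leaf (.up 3 1929 6)) (.leaf (.up 3 1552 0)))) (.node (.node (.leaf (.up 2 1949 6)) (.leaf (.up 2 1831 7))) (.node (.leaf (.up 2 528 7)) (.leaf (.up 3 1845 7))))) (.node (.node (.node (.leaf (.up 3 1333 8)) (.leaf (.up 4 281 7))) (.node (.leaf (.up 4 19 8)) (.leaf (.up 4 267 7)))) (.node (.node (.leaf (.up 4 1698 3)) (.leaf (.up 5 762 6))) (.node (.leaf (.up 4 2028 2)) (.leaf (.up 4 237 8)))))) (.node (.node (.node (.node (.leaf (.up 4 476 7)) (.leaf (.up 3 1273 7))) (.node (.leaf (.up 3 1778 8)) (.leaf (.up 4 1259 7)))) (.node (.node (.leaf (.up 3 803 8)) (.leaf (.up 3 1294 6))) (.node (.leaf (.up 3 1225 3)) (.leaf (.up 3 643 6))))) (.node (.node (.node (.leaf (.up 3 983 8)) (.leaf (.up 4 990 8))) (.node (.leaf (.up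 4 1777 8)) (.leaf (.up 3 1732 5)))) (.node (.node (.leaf (.up 5 637 3)) (.leaf (.up 3 809 8))) (.node (.leaf (.up 4 2032 7)) (.leaf (.up 3 277 4))))))) (.node (.node (.node (.node (.node (.leaf (.up 3 781 8)) (.leaf (.up 3 1826 7))) (.node (.leaf (.up 1 1 6)) (.leaf (.up 2 1334 4)))) (.node (.node (.leaf (.up 3 193 5)) (.leaf (.up 3 1828 7))) (.node (.leaf (.up 2 1944 6)) (.leaf (.up 2 1334 6))))) (.node (.node (.node (.leaf (.up 5 1087 7)) (.leaf (.up 3 775 8))) (.node (.leaf (.up 4 1069 7)) (.leaf (.up 3 1569 8)))) (.node (.node (.leaf (.up 4 1081 7)) (.leaf (.up 4 1698 5))) (.node (.leaf (.up 3 1759 8)) (.leaf (.up 2 1750 8)))))) (.node (.node (.node (.node (.leaf (.up 3 1969 6)) (.leaf (.up 4 1510 8))) (.node (.leaf (.up 3 461 7)) (.leaf (.up 2 24 2)))) (.node (.node (.leaf (.up 4 473 7)) (.leaf (.up 2 24 5))) (.node (.leaf (.up 4 1957 6)) (.leaf (.up 3 55 8))))) (.node (.node (.node (.leaf (.up 3 2023 7)) (.leaf (.up 4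 1509 8))) (.node (.leaf (.up 4 1403 5)) (.leaf (.up 4 195 8)))) (.node (.node (.leaf (.up 3 1659 5)) (.leaf (.up 4 1298 8))) (.node (.leaf (.up 3 108 6)) (.leaf (.up 5 52 8)))))))) (.node (.node (.node (.node (.node (.node (.leaf (.up 2 1163 5)) (.leaf (.up 3 1315 6))) (.node (.leaf (.up 1 0 6)) (.leaf (.up 2 1709 3)))) (.node (.node (.leaf (.up 1 0 7)) (.leaf (.up 3 1317 7))) (.node (.leaf (.up 3 18 7)) (.leaf (.up 2 1335 6))))) (.node (.node (.node (.leaf (.up 3 1190 3)) (.leaf (.up 4 1469 8))) (.node (.leaf (.up 4 1580 7)) (.leaf (.up 4 1414 3)))) (.node (.node (.leaf (.up 2 1532 2)) (.leaf (.up 4 1670 3))) (.node (.leaf (.up 4 2044 2)) (.leaf (.up 3 108 8)))))) (.node (.node (.node (.node (.leaf (.up 4 990 7)) (.leaf (.up 3 1310 6))) (.node (.leaf (.up 5 972 7)) (.leaf (.up 3 461 5)))) (.node (.node (.leaf (.up 4 41 6)) (.leaf (.up 3 205 4))) (.node (.leaf (.up 5 1326 5)) (.leaf (.up 3 1677 8))))) (.node (.node (.node (.leaf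 (.up 3 121 3)) (.leaf (.up 2 1928 4))) (.node (.leaf (.up 2 1648 8)) (.leaf (.up 4 700 1)))) (.node (.node (.leaf (.up 3 2016 6)) (.leaf (.up 3 1317 2))) (.node (.leaf (.up 4 305 5)) (.leaf (.up 3 1678 8))))))) (.node (.node (.node (.node (.node (.leaf (.up 3 1810 3)) (.leaf (.up 4 901 8))) (.node (.leaf (.up 2 1928 6)) (.leaf (.up 4 1699 8)))) (.node (.node (.leaf (.up 1 3 7)) (.leaf (.up 4 882 8))) (.node (.leaf (.up 2 1709 0)) (.leaf (.up 5 1620 8))))) (.node (.node (.node (.leaf (.up 4 911 8)) (.leaf (.up 3 1378 6))) (.node (.leaf (.up 4 1705 8)) (.leaf (.up 2 751 6)))) (.node (.node (.leaf (.up 4 888 8)) (.leaf (.up 3 763 6))) (.node (.leaf (.up 4 1630 8)) (.leaf (.up 3 1091 2)))))) (.node (.node (.node (.node (.leaf (.up 2 56 6)) (.leaf (.up 3 662 6))) (.node (.leaf (.up 3 114 1)) (.leaf (.up 4 749 3)))) (.node (.node (.leaf (.up 3 1433 8)) (.leaf (.up 4 1790 7))) (.node (.leaf (.up 3 205 3)) (.leaf (.up 3 264 2))))) (.node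 (.node (.node (.leaf (.up 2 771 1)) (.leaf (.up 3 1380 8))) (.node (.leaf (.up 3 1645 5)) (.leaf (.up 2 1041 5)))) (.node (.node (.leaf (.up 4 1389 5)) (.leaf (.up 3 121 2))) (.node (.leaf (.up 3 242 5)) (.leaf (.up 4 212 7))))))))

noncomputable def vt2_4_0101 : Tr VStep :=
  .node (.node (.node (.node (.node (.node (.node (.leaf (.root 974)) (.leaf (.up 3 318 8))) (.node (.leaf (.up 2 1041 8)) (.leaf (.up 3 1292 5)))) (.node (.node (.leaf (.up 3 507 4)) (.leaf (.up 2 145 7))) (.node (.leaf (.up 3 1091 6)) (.leaf (.up 4 1816 1))))) (.node (.node (.node (.leaf (.up 4 1450 1)) (.leaf (.up 2 304 6))) (.node (.leaf (.up 4 1042 8)) (.leaf (.up 3 1725 6)))) (.node (.node (.leaf (.up 4 565 3)) (.leaf (.up 4 458 8))) (.node (.leaf (.up 4 1253 8)) (.leaf (.up 3 1723 7)))))) (.node (.node (.node (.node (.leaf (.root 1512)) (.leaf (.up 3 1732 6))) (.node (.leaf (.up 3 999 6)) (.leaf (.up 4 911 1)))) (.node (.node (.leaf (.up 3 1473 3))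 (.leaf (.up 3 711 0))) (.node (.leaf (.up 3 516 8)) (.leaf (.up 3 1744 6))))) (.node (.node (.node (.leaf (.up 3 1954 1)) (.leaf (.up 4 1399 7))) (.node (.leaf (.up 4 752 8)) (.leaf (.up 4 1664 6)))) (.node (.node (.leaf (.up 3 1825 8)) (.leaf (.up 4 1240 2))) (.node (.leaf (.up 4 829 1)) (.leaf (.up 4 281 6))))))) (.node (.node (.node (.node (.node (.leaf (.root 222)) (.leaf (.up 2 1243 4))) (.node (.leaf (.up 2 568 1)) (.leaf (.up 3 1231 5)))) (.node (.node (.leaf (.up 4 1463 7)) (.leaf (.up 3 1342 3))) (.node (.leaf (.up 4 971 6)) (.leaf (.up 3 357 6))))) (.node (.node (.node (.leaf (.up 4 1843 5)) (.leaf (.up 4 1798 8))) (.node (.leaf (.up 4 923 6)) (.leaf (.up 5 1726 7)))) (.node (.node (.leaf (.up 3 2040 8)) (.leaf (.up 3 2033 8))) (.node (.leaf (.up 3 1405 4)) (.leaf (.up 4 1708 6)))))) (.node (.node (.node (.node (.leaf (.up 3 560 1)) (.leaf (.up 2 1388 1))) (.node (.leaf (.up 3 1659 7)) (.leaf (.up 2 862 7)))) (.node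 (.node (.leaf (.up 3 1647 7)) (.leaf (.up 2 272 8))) (.node (.leaf (.up 2 1661 7)) (.leaf (.up 4 1150 3))))) (.node (.node (.node (.leaf (.up 4 81 7)) (.leaf (.up 3 484 8))) (.node (.leaf (.up 4 67 7)) (.leaf (.up 3 264 6)))) (.node (.node (.leaf (.up 5 1502 1)) (.leaf (.up 4 275 8))) (.node (.leaf (.up 4 1084 8)) (.leaf (.up 4 1444 4)))))))) (.node (.node (.node (.node (.node (.node (.leaf (.up 4 990 6)) (.leaf (.up 3 389 1))) (.node (.leaf (.up 3 1954 7)) (.leaf (.up 3 1177 8)))) (.node (.node (.leaf (.up 5 70 1)) (.leaf (.up 3 314 3))) (.node (.leaf (.up 5 1956 7)) (.leaf (.up 3 1189 3))))) (.node (.node (.node (.leaf (.up 4 1510 5)) (.leaf (.up 3 1946 5))) (.node (.leaf (.up 3 121 5)) (.leaf (.up 3 607 4)))) (.node (.node (.leaf (.up 2 1041 2)) (.leaf (.up 4 261 5))) (.node (.leaf (.up 4 1124 8)) (.leaf (.up 2 1133 8)))))) (.node (.node (.node (.node (.leaf (.up 4 348 4)) (.leaf (.up 4 333 6))) (.node (.leaf (.up 4 626 8))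 (.leaf (.up 3 1765 3)))) (.node (.node (.leaf (.up 4 1955 8)) (.leaf (.up 4 197 0))) (.node (.leaf (.up 3 645 8)) (.leaf (.up 3 1810 1))))) (.node (.node (.node (.leaf (.up 3 1066 6)) (.leaf (.up 4 1125 4))) (.node (.leaf (.up 3 625 8)) (.leaf (.up 4 632 8)))) (.node (.node (.leaf (.up 3 625 3)) (.leaf (.up 4 1123 1))) (.node (.leaf (.up 3 1091 5)) (.leaf (.up 4 655 8))))))) (.node (.node (.node (.node (.node (.leaf (.up 3 828 2)) (.leaf (.up 3 662 7))) (.node (.leaf (.up 4 1953 7)) (.leaf (.up 4 1082 0)))) (.node (.node (.leaf (.up 2 1701 0)) (.leaf (.up 3 656 7))) (.node (.leaf (.up 2 1701 1)) (.leaf (.up 3 1759 2))))) (.node (.node (.node (.leaf (.up 3 992 4)) (.leaf (.up 2 1041 3))) (.node (.leaf (.up 4 1329 3)) (.leaf (.up 3 1559 1)))) (.node (.node (.leaf (.up 3 397 7)) (.leaf (.up 3 1904 8))) (.node (.leaf (.up 3 607 8)) (.leaf (.up 3 1210 7)))))) (.node (.node (.node (.node (.leaf (.up 3 1131 6)) (.leaf (.up 4 358 8)))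 (.node (.leaf (.up 3 1145 7)) (.leaf (.up 3 1088 8)))) (.node (.node (.leaf (.up 2 1133 7)) (.leaf (.up 4 401 8))) (.node (.leaf (.up 3 1765 0)) (.leaf (.up 3 1207 8))))) (.node (.node (.node (.leaf (.up 3 1655 2)) (.leaf (.up 3 1910 7))) (.node (.leaf (.up 4 1098 8)) (.leaf (.up 2 1892 7)))) (.node (.node (.leaf (.up 4 411 8)) (.leaf (.up 3 1904 7))) (.node (.leaf (.up 4 1905 3)) (.leaf (.up 4 2044 5))))))))

noncomputable def vt2_4_010 : Tr VStep := .node vt2_4_0100 vt2_4_0101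

noncomputable def vt2_4_0110 : Tr VStep :=
  .node (.node (.node (.node (.node (.node (.node (.leaf (.up 2 774 7)) (.leaf (.up 3 378 2))) (.node (.leaf (.up 2 274 1)) (.leaf (.up 4 1585 6)))) (.node (.node (.leaf (.up 2 1163 6)) (.leaf (.up 4 1798 0))) (.node (.leaf (.up 1 0 5)) (.leaf (.up 3 424 6))))) (.node (.node (.node (.leaf (.up 2 1243 6)) (.leaf (.up 4 523 2))) (.node (.leaf (.up 3 99 1)) (.leaf (.up 3 874 8)))) (.node (.node (.leaf (.up 3 1714 8)) (.leaf (.up 3 1723 8))) (.node (.leaf (.up 3 1231 6)) (.leaf (.up 3 781 3)))))) (.node (.node (.node (.node (.leaf (.up 4 222 7)) (.leaf (.up 4 473 4))) (.node (.leaf (.up 4 1753 3)) (.leaf (.up 4 1419 8)))) (.node (.node (.leaf (.up 4 1925 1)) (.leaf (.up 3 1560 6))) (.node (.leaf (.up 4 202 7)) (.leaf (.up 3 1273 3))))) (.node (.node (.node (.leaf (.up 3 722 2)) (.leaf (.up 1 3 4))) (.node (.leaf (.up 3 1409 8)) (.leaf (.up 2 1335 1)))) (.node (.node (.leaf (.up 3 805 5))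 (.leaf (.up 3 424 1))) (.node (.leaf (.up 3 1778 7)) (.leaf (.up 2 1222 5))))))) (.node (.node (.node (.node (.node (.leaf (.up 3 773 7)) (.leaf (.up 5 1568 7))) (.node (.leaf (.up 3 791 6)) (.leaf (.up 4 1362 8)))) (.node (.node (.leaf (.up 2 771 6)) (.leaf (.up 5 131 8))) (.node (.leaf (.up 3 294 0)) (.leaf (.up 4 1445 8))))) (.node (.node (.node (.leaf (.up 4 126 8)) (.leaf (.up 2 24 7))) (.node (.leaf (.up 3 1368 8)) (.leaf (.up 1 10 7)))) (.node (.node (.leaf (.up 4 67 5)) (.leaf (.up 3 575 5))) (.node (.leaf (.up 4 1455 8)) (.leaf (.up 3 12 7)))))) (.node (.node (.node (.node (.leaf (.up 4 1695 8)) (.leaf (.up 4 1528 7))) (.node (.leaf (.up 5 2041 1)) (.leaf (.up 4 1925 5)))) (.node (.node (.leaf (.up 3 830 6)) (.leaf (.up 4 400 6))) (.node (.leaf (.up 4 358 1)) (.leaf (.up 4 1516 7))))) (.node (.node (.node (.leaf (.up 3 1145 5)) (.leaf (.up 3 1541 5))) (.node (.leaf (.up 4 486 5)) (.leaf (.up 3 468 1)))) (.node (.node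 (.leaf (.up 3 1315 4)) (.leaf (.up 3 1634 8))) (.node (.leaf (.up 3 23 1)) (.leaf (.up 3 468 6)))))))) (.node (.node (.node (.node (.node (.node (.leaf (.up 2 272 1)) (.leaf (.up 4 1057 7))) (.node (.leaf (.up 2 790 6)) (.leaf (.up 2 546 3)))) (.node (.node (.leaf (.up 3 770 6)) (.leaf (.up 3 1063 7))) (.node (.leaf (.up 1 2 3)) (.leaf (.up 3 1569 6))))) (.node (.node (.node (.leaf (.up 3 1732 8)) (.leaf (.up 5 508 6))) (.node (.leaf (.up 2 1462 3)) (.leaf (.up 4 523 7)))) (.node (.node (.leaf (.up 3 662 5)) (.leaf (.up 5 795 2))) (.node (.leaf (.up 3 809 3)) (.leaf (.up 4 930 1)))))) (.node (.node (.node (.node (.leaf (.up 3 1190 6)) (.leaf (.up 4 1092 1))) (.node (.leaf (.up 4 1283 8)) (.leaf (.up 3 389 6)))) (.node (.node (.leaf (.up 4 210 8)) (.leaf (.up 3 1860 0))) (.node (.leaf (.up 4 435 5)) (.leaf (.up 3 2029 7))))) (.node (.node (.node (.leaf (.up 4 38 8)) (.leaf (.up 3 47 8))) (.node (.leaf (.up 4 361 3)) (.leaf (.up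 1 1 4)))) (.node (.node (.leaf (.up 4 209 8)) (.leaf (.up 2 1182 4))) (.node (.leaf (.up 4 1527 8)) (.leaf (.up 3 2000 5))))))) (.node (.node (.node (.node (.node (.leaf (.up 3 469 5)) (.leaf (.up 3 445 6))) (.node (.leaf (.up 2 1182 6)) (.leaf (.up 3 1072 7)))) (.node (.node (.leaf (.up 3 1282 3)) (.leaf (.up 1 2 8))) (.node (.leaf (.up 3 775 6)) (.leaf (.up 4 1078 7))))) (.node (.node (.node (.leaf (.up 5 1855 7)) (.leaf (.up 4 1863 2))) (.node (.leaf (.up 5 855 6)) (.leaf (.up 4 1488 8)))) (.node (.node (.leaf (.up 5 835 6)) (.leaf (.up 1 1 8))) (.node (.leaf (.up 5 1326 8)) (.leaf (.up 4 1528 4)))))) (.node (.node (.node (.node (.leaf (.up 3 814 6)) (.leaf (.up 3 1559 8))) (.node (.leaf (.up 4 1187 6)) (.leaf (.up 3 1634 3)))) (.node (.node (.leaf (.up 3 1207 6)) (.leaf (.up 3 1378 3))) (.node (.leaf (.up 3 826 6)) (.leaf (.up 2 24 4))))) (.node (.node (.node (.leaf (.up 4 1255 6)) (.leaf (.up 4 1556 8))) (.node (.leaf (.up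 3 874 6)) (.leaf (.up 3 818 8)))) (.node (.node (.leaf (.up 3 1825 4)) (.leaf (.up 4 452 7))) (.node (.leaf (.up 2 1897 3)) (.leaf (.up 4 965 8))))))))

noncomputable def vt2_4_0111 : Tr VStep :=
  .node (.node (.node (.node (.node (.node (.node (.leaf (.up 4 1857 6)) (.leaf (.up 3 1969 3))) (.node (.leaf (.up 4 1681 3)) (.leaf (.up 3 663 2)))) (.node (.node (.leaf (.up 4 1997 1)) (.leaf (.up 2 145 1))) (.node (.leaf (.up 4 1485 1)) (.leaf (.up 2 1951 8))))) (.node (.node (.node (.leaf (.up 4 37 0)) (.leaf (.up 2 17 5))) (.node (.leaf (.up 4 547 1)) (.leaf (.up 2 1899 8)))) (.node (.node (.leaf (.up 4 1266 5)) (.leaf (.up 3 1678 5))) (.node (.leaf (.up 3 805 3)) (.leaf (.up 3 1946 3)))))) (.node (.node (.node (.node (.leaf (.up 3 1189 8)) (.leaf (.up 2 1709 2))) (.node (.leaf (.up 4 1914 7)) (.leaf (.up 3 607 6)))) (.node (.node (.leaf (.up 3 1477 1)) (.leaf (.up 4 1965 2))) (.node (.leaf (.up 3 372 8)) (.leaf (.up 3 110 3)))))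 (.node (.node (.node (.leaf (.up 3 1190 8)) (.leaf (.up 4 1199 8))) (.node (.leaf (.up 3 1367 5)) (.leaf (.up 4 393 8)))) (.node (.node (.leaf (.up 3 575 2)) (.leaf (.up 4 1112 8))) (.node (.leaf (.up 3 1786 0)) (.leaf (.up 4 1905 4))))))) (.node (.node (.node (.node (.node (.leaf (.up 3 1969 0)) (.leaf (.up 4 749 1))) (.node (.leaf (.up 3 1185 7)) (.leaf (.up 4 237 1)))) (.node (.node (.leaf (.up 2 1163 8)) (.leaf (.up 4 400 7))) (.node (.leaf (.up 2 145 3)) (.leaf (.up 4 627 6))))) (.node (.node (.node (.leaf (.up 3 1131 4)) (.leaf (.up 4 1966 7))) (.node (.leaf (.up 3 1317 3)) (.leaf (.up 3 410 3)))) (.node (.node (.leaf (.up 3 1160 8)) (.leaf (.up 3 1559 4))) (.node (.leaf (.up 4 244 4)) (.leaf (.up 3 722 5)))))) (.node (.node (.node (.node (.leaf (.up 2 1899 7)) (.leaf (.up 3 1384 4))) (.node (.leaf (.up 3 1810 2)) (.leaf (.up 3 1969 8)))) (.node (.node (.leaf (.up 3 1901 6)) (.leaf (.up 4 608 8))) (.node (.leaf (.up 3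 224 6)) (.leaf (.up 4 1862 8))))) (.node (.node (.node (.leaf (.up 4 1125 3)) (.leaf (.up 4 1427 6))) (.node (.leaf (.up 4 1123 2)) (.leaf (.up 3 542 6)))) (.node (.node (.leaf (.up 4 1891 2)) (.leaf (.up 3 1512 5))) (.node (.leaf (.up 3 1868 8)) (.leaf (.up 4 896 2)))))))) (.node (.node (.node (.node (.node (.node (.leaf (.up 3 1380 5)) (.leaf (.up 3 719 8))) (.node (.leaf (.up 2 751 4)) (.leaf (.up 4 1548 1)))) (.node (.node (.leaf (.up 2 1648 4)) (.leaf (.up 2 568 8))) (.node (.leaf (.up 2 1702 7)) (.leaf (.up 1 42 3))))) (.node (.node (.node (.leaf (.up 4 379 5)) (.leaf (.up 1 1 3))) (.node (.leaf (.up 5 821 4)) (.leaf (.up 2 546 6)))) (.node (.node (.leaf (.up 3 562 8)) (.leaf (.up 3 566 6))) (.node (.leaf (.up 4 1450 4)) (.leaf (.up 4 1467 6)))))) (.node (.node (.node (.node (.leaf (.up 3 1386 7)) (.leaf (.up 3 1725 2))) (.node (.leaf (.up 3 258 8)) (.leaf (.up 3 1494 6)))) (.node (.node (.leaf (.up 2 1388 7)) (.leaf (.up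 3 802 5))) (.node (.leaf (.up 1 74 3)) (.leaf (.up 3 1725 5))))) (.node (.node (.node (.leaf (.up 3 1063 8)) (.leaf (.up 3 1655 7))) (.node (.leaf (.up 3 257 8)) (.leaf (.up 3 264 8)))) (.node (.node (.leaf (.up 3 1345 5)) (.leaf (.up 4 523 6))) (.node (.leaf (.up 3 47 2)) (.leaf (.up 4 1414 6))))))) (.node (.node (.node (.node (.node (.leaf (.up 4 1713 7)) (.leaf (.up 4 1268 8))) (.node (.leaf (.up 3 205 6)) (.leaf (.up 2 751 1)))) (.node (.node (.leaf (.up 2 568 2)) (.leaf (.up 2 1243 2))) (.node (.leaf (.up 2 56 2)) (.leaf (.up 4 293 8))))) (.node (.node (.node (.leaf (.up 4 1730 1)) (.leaf (.up 4 414 1))) (.node (.leaf (.up 5 1796 6)) (.leaf (.up 4 465 8)))) (.node (.node (.leaf (.up 4 143 7)) (.leaf (.up 4 1024 8))) (.node (.leaf (.up 3 1825 3)) (.leaf (.up 3 294 8)))))) (.node (.node (.node (.node (.leaf (.up 3 1282 2)) (.leaf (.up 3 534 8))) (.node (.leaf (.up 3 240 6)) (.leaf (.up 3 1386 4)))) (.node (.node (.leaf (.up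 4 1302 4)) (.leaf (.up 1 74 7))) (.node (.leaf (.up 2 1897 6)) (.leaf (.up 2 1388 0))))) (.node (.node (.node (.leaf (.up 5 540 8)) (.leaf (.up 4 533 8))) (.node (.leaf (.up 4 1850 8)) (.leaf (.up 3 656 2)))) (.node (.node (.leaf (.up 4 1240 0)) (.leaf (.up 3 47 4))) (.node (.leaf (.up 4 1997 8)) (.leaf (.up 4 912 2))))))))

noncomputable def vt2_4_011 : Tr VStep := .node vt2_4_0110 vt2_4_0111

noncomputable def vt2_4_01 : Tr VStep := .node vt2_4_010 vt2_4_011

noncomputable def vt2_4_0 : Tr VStep := .node vt2_4_00 vt2_4_01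

noncomputable def vt2_4_1000 : Tr VStep :=
  .node (.node (.node (.node (.node (.node (.node (.leaf (.root 1510)) (.leaf (.up 4 565 4))) (.node (.leaf (.up 3 566 7)) (.leaf (.up 3 1453 8)))) (.node (.node (.leaf (.up 2 546 7)) (.leaf (.up 4 1982 1))) (.node (.leaf (.up 3 1176 5)) (.leaf (.up 4 1764 5))))) (.node (.node (.node (.leaf (.up 2 1517 6)) (.leaf (.up 3 507 5))) (.node (.leaf (.up 3 554 3)) (.leaf (.up 4 206 6)))) (.node (.node (.leaf (.up 4 1050 7)) (.leaf (.up 2 1892 5))) (.node (.leaf (.up 3 1032 7)) (.leaf (.up 1 10 3)))))) (.node (.node (.node (.node (.leaf (.up 5 1632 8)) (.leaf (.up 3 809 1))) (.node (.leaf (.up 5 1502 3)) (.leaf (.up 3 297 1)))) (.node (.node (.leaf (.up 4 1408 6)) (.leaf (.up 2 1462 1))) (.node (.leaf (.up 5 945 8)) (.leaf (.up 3 656 4))))) (.node (.node (.node (.leaf (.up 2 546 2)) (.leaf (.up 2 600 1))) (.node (.leaf (.up 4 2006 7)) (.leaf (.up 3 755 7)))) (.node (.node (.leaf (.up 3 802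 2)) (.leaf (.up 2 1693 8))) (.node (.leaf (.up 2 546 5)) (.leaf (.up 4 1735 1))))))) (.node (.node (.node (.node (.node (.leaf (.up 4 565 2)) (.leaf (.up 3 1063 5))) (.node (.leaf (.up 4 927 8)) (.leaf (.up 2 1897 4)))) (.node (.node (.leaf (.up 4 196 5)) (.leaf (.up 3 1014 4))) (.node (.leaf (.up 4 1537 1)) (.leaf (.up 2 1831 5))))) (.node (.node (.node (.leaf (.up 3 613 6)) (.leaf (.up 2 56 5))) (.node (.leaf (.up 3 1037 7)) (.leaf (.up 3 917 8)))) (.node (.node (.leaf (.up 2 1243 5)) (.leaf (.up 3 1290 3))) (.node (.leaf (.up 3 1231 4)) (.leaf (.up 3 302 7)))))) (.node (.node (.node (.node (.leaf (.up 4 150 1)) (.leaf (.up 5 1855 6))) (.node (.leaf (.up 3 1405 8)) (.leaf (.up 5 1396 8)))) (.node (.node (.leaf (.up 4 609 5)) (.leaf (.up 4 165 8))) (.node (.leaf (.up 4 990 3)) (.leaf (.up 5 1496 0))))) (.node (.node (.node (.leaf (.up 2 600 6)) (.leaf (.up 3 1723 1))) (.node (.leaf (.up 2 1406 2)) (.leaf (.up 4 752 7)))) (.node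 (.node (.leaf (.up 3 1473 6)) (.leaf (.up 3 469 3))) (.node (.leaf (.up 3 1417 8)) (.leaf (.up 3 108 0)))))))) (.node (.node (.node (.node (.node (.node (.leaf (.up 1 3 8)) (.leaf (.up 1 10 8))) (.node (.leaf (.up 3 1317 8)) (.leaf (.up 4 1324 8)))) (.node (.node (.leaf (.up 4 244 8)) (.leaf (.up 4 253 8))) (.node (.leaf (.up 3 773 3)) (.leaf (.up 4 1522 5))))) (.node (.node (.node (.leaf (.up 1 0 8)) (.leaf (.up 4 749 5))) (.node (.leaf (.up 3 1806 1)) (.leaf (.up 3 809 7)))) (.node (.node (.leaf (.up 3 1560 7)) (.leaf (.up 4 1003 2))) (.node (.leaf (.up 4 1546 7)) (.leaf (.up 4 222 6)))))) (.node (.node (.node (.node (.leaf (.up 3 1655 1)) (.leaf (.up 3 1037 4))) (.node (.leaf (.up 4 967 8)) (.leaf (.up 3 456 5)))) (.node (.node (.leaf (.up 3 1558 8)) (.leaf (.up 3 1786 3))) (.node (.leaf (.up 4 744 1)) (.leaf (.up 4 825 8))))) (.node (.node (.node (.leaf (.up 3 2033 3)) (.leaf (.up 4 72 5))) (.node (.leaf (.up 4 1492 6))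 (.leaf (.up 4 1914 6)))) (.node (.node (.leaf (.up 3 1472 6)) (.leaf (.up 4 1564 8))) (.node (.leaf (.up 2 306 2)) (.leaf (.up 3 826 8))))))) (.node (.node (.node (.node (.node (.leaf (.up 4 904 4)) (.leaf (.up 2 1899 4))) (.node (.leaf (.up 3 798 8)) (.leaf (.up 3 1734 2)))) (.node (.node (.leaf (.up 3 805 2)) (.leaf (.up 3 1734 8))) (.node (.leaf (.up 4 293 2)) (.leaf (.up 3 1073 5))))) (.node (.node (.node (.leaf (.up 4 1516 6)) (.leaf (.up 3 1806 3))) (.node (.leaf (.up 4 609 6)) (.leaf (.up 3 788 8)))) (.node (.node (.leaf (.up 4 1997 5)) (.leaf (.up 3 830 7))) (.node (.leaf (.up 4 1528 6)) (.leaf (.up 2 812 7)))))) (.node (.node (.node (.node (.leaf (.up 4 2024 5)) (.leaf (.up 4 211 8))) (.node (.leaf (.up 2 1532 8)) (.leaf (.up 4 1525 8)))) (.node (.node (.leaf (.up 3 1409 6)) (.leaf (.up 4 36 8))) (.node (.leaf (.up 4 524 6)) (.leaf (.up 3 1282 8))))) (.node (.node (.node (.leaf (.up 3 1477 7)) (.leaf (.up 3 224 7)))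 (.node (.leaf (.up 4 1535 8)) (.leaf (.up 3 242 6)))) (.node (.node (.leaf (.up 3 1384 5)) (.leaf (.up 3 110 0))) (.node (.leaf (.up 3 1477 6)) (.leaf (.up 2 1899 6))))))))

noncomputable def vt2_4_1001 : Tr VStep :=
  .node (.node (.node (.node (.node (.node (.node (.leaf (.up 3 1655 6)) (.leaf (.up 3 103 2))) (.node (.leaf (.up 4 1408 7)) (.leaf (.up 3 297 3)))) (.node (.node (.leaf (.up 4 1140 8)) (.leaf (.up 4 1863 4))) (.node (.leaf (.up 4 1414 7)) (.leaf (.up 4 918 5))))) (.node (.node (.node (.leaf (.up 3 802 3)) (.leaf (.up 1 2 4))) (.node (.leaf (.up 3 874 5)) (.leaf (.up 2 1693 7)))) (.node (.node (.leaf (.up 3 1269 2)) (.leaf (.up 2 1161 6))) (.node (.leaf (.up 4 958 7)) (.leaf (.up 2 1691 7)))))) (.node (.node (.node (.node (.leaf (.up 3 257 4)) (.leaf (.up 4 361 1))) (.node (.leaf (.up 4 1863 8)) (.leaf (.up 4 1870 8)))) (.node (.node (.leaf (.up 3 1744 5)) (.leaf (.up 4 1782 3))) (.node (.leaf (.up 4 2006 3)) (.leaf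 (.up 4 1977 8))))) (.node (.node (.node (.leaf (.up 3 114 7)) (.leaf (.up 2 24 1))) (.node (.leaf (.up 3 96 7)) (.leaf (.up 4 1869 8)))) (.node (.node (.leaf (.up 3 719 2)) (.leaf (.up 4 1361 7))) (.node (.leaf (.up 4 407 6)) (.leaf (.up 3 68 0))))))) (.node (.node (.node (.node (.node (.leaf (.up 3 809 5)) (.leaf (.up 5 271 0))) (.node (.leaf (.up 3 103 4)) (.leaf (.up 5 166 7)))) (.node (.node (.leaf (.up 2 1462 5)) (.leaf (.up 4 1936 0))) (.node (.leaf (.up 2 1897 8)) (.leaf (.up 4 837 6))))) (.node (.node (.node (.leaf (.up 4 431 1)) (.leaf (.up 3 1176 6))) (.node (.leaf (.up 2 1949 8)) (.leaf (.up 3 1723 0)))) (.node (.node (.leaf (.up 3 1840 1)) (.leaf (.up 3 108 1))) (.node (.leaf (.up 3 1570 6)) (.leaf (.up 3 961 4)))))) (.node (.node (.node (.node (.leaf (.up 5 1114 8)) (.leaf (.up 4 876 6))) (.node (.leaf (.up 4 1627 7)) (.leaf (.up 3 1647 5)))) (.node (.node (.leaf (.up 3 1197 8)) (.leaf (.up 3 874 7))) (.node (.leaf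 (.up 4 395 8)) (.leaf (.up 1 1 2))))) (.node (.node (.node (.leaf (.up 4 1427 5)) (.leaf (.up 3 1189 6))) (.node (.leaf (.up 3 12 5)) (.leaf (.up 3 1275 0)))) (.node (.node (.leaf (.up 3 402 6)) (.leaf (.up 3 828 6))) (.node (.leaf (.up 4 792 4)) (.leaf (.up 4 100 1)))))))) (.node (.node (.node (.node (.node (.node (.leaf (.up 4 1026 8)) (.leaf (.up 3 355 1))) (.node (.leaf (.up 4 1123 5)) (.leaf (.up 3 631 2)))) (.node (.node (.leaf (.up 3 1269 8)) (.leaf (.up 3 1225 6))) (.node (.leaf (.up 4 1938 3)) (.leaf (.up 2 1532 1))))) (.node (.node (.node (.leaf (.up 3 424 7)) (.leaf (.up 2 1951 5))) (.node (.leaf (.up 4 153 0)) (.leaf (.up 1 0 4)))) (.node (.node (.leaf (.up 3 294 3)) (.leaf (.up 2 1163 7))) (.node (.leaf (.up 3 1765 2)) (.leaf (.up 3 1177 7)))))) (.node (.node (.node (.node (.leaf (.up 2 771 4)) (.leaf (.up 3 2016 4))) (.node (.leaf (.up 3 1734 5)) (.leaf (.up 3 1210 5)))) (.node (.node (.leaf (.up 3 1102 7)) (.leaf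 (.up 3 542 8))) (.node (.leaf (.up 3 89 5)) (.leaf (.up 4 2036 1))))) (.node (.node (.node (.leaf (.up 4 1546 6)) (.leaf (.up 4 1338 5))) (.node (.leaf (.up 3 479 2)) (.leaf (.up 3 809 6)))) (.node (.node (.leaf (.up 3 532 8)) (.leaf (.up 4 1084 2))) (.node (.leaf (.up 4 473 1)) (.leaf (.up 4 1857 7))))))) (.node (.node (.node (.node (.node (.leaf (.up 3 569 8)) (.leaf (.up 3 560 8))) (.node (.leaf (.up 2 1921 7)) (.leaf (.up 4 1670 4)))) (.node (.node (.leaf (.up 3 1091 1)) (.leaf (.up 3 711 8))) (.node (.leaf (.up 3 1634 6)) (.leaf (.up 4 2017 8))))) (.node (.node (.node (.leaf (.up 5 570 8)) (.leaf (.up 3 1166 7))) (.node (.leaf (.up 4 1820 8)) (.leaf (.up 4 1180 6)))) (.node (.node (.leaf (.up 4 717 8)) (.leaf (.up 3 1160 6))) (.node (.leaf (.up 5 2027 8)) (.leaf (.up 3 773 6)))))) (.node (.node (.node (.node (.leaf (.up 2 1243 8)) (.leaf (.up 2 1133 3))) (.node (.leaf (.up 4 454 6)) (.leaf (.up 4 700 4)))) (.node (.node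 (.leaf (.up 4 466 0)) (.leaf (.up 4 1061 8))) (.node (.leaf (.up 3 410 5)) (.leaf (.up 2 17 2))))) (.node (.node (.node (.leaf (.up 4 627 7)) (.leaf (.up 2 812 6))) (.node (.leaf (.up 4 609 7)) (.leaf (.up 3 1185 6)))) (.node (.node (.leaf (.up 4 1563 6)) (.leaf (.up 4 473 3))) (.node (.leaf (.up 4 1338 1)) (.leaf (.up 4 256 8))))))))

noncomputable def vt2_4_100 : Tr VStep := .node vt2_4_1000 vt2_4_1001

noncomputable def vt2_4_1010 : Tr VStep :=
  .node (.node (.node (.node (.node (.node (.node (.leaf (.up 2 306 6)) (.leaf (.up 4 1019 8))) (.node (.leaf (.up 4 351 4)) (.leaf (.up 2 1041 6)))) (.node (.node (.leaf (.up 3 1472 4)) (.leaf (.up 3 1541 7))) (.node (.leaf (.up 2 1133 2)) (.leaf (.up 3 803 4))))) (.node (.node (.node (.leaf (.up 3 1310 7)) (.leaf (.up 4 1925 3))) (.node (.leaf (.up 2 1701 3)) (.leaf (.up 4 41 7)))) (.node (.node (.leaf (.up 2 774 8)) (.leaf (.up 4 1925 0))) (.node (.leaf (.up 3 1290 7)) (.leaf (.up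 3 47 7)))))) (.node (.node (.node (.node (.leaf (.up 4 1296 8)) (.leaf (.up 3 988 5))) (.node (.leaf (.up 4 54 8)) (.leaf (.up 4 1603 5)))) (.node (.node (.leaf (.up 4 1891 1)) (.leaf (.up 4 1080 6))) (.node (.leaf (.up 3 193 8)) (.leaf (.up 3 575 1))))) (.node (.node (.node (.leaf (.up 3 1734 6)) (.leaf (.up 4 1306 8))) (.node (.leaf (.up 4 331 6)) (.leaf (.up 4 1009 7)))) (.node (.node (.leaf (.up 3 378 3)) (.leaf (.up 2 1517 8))) (.node (.leaf (.up 3 294 2)) (.leaf (.up 4 1731 4))))))) (.node (.node (.node (.node (.node (.leaf (.up 3 805 7)) (.leaf (.up 3 1472 8))) (.node (.leaf (.up 4 311 6)) (.leaf (.up 3 1317 5)))) (.node (.node (.leaf (.up 3 1342 8)) (.leaf (.up 2 1335 8))) (.node (.leaf (.up 2 24 8)) (.leaf (.up 2 17 8))))) (.node (.node (.node (.leaf (.up 3 371 6)) (.leaf (.up 2 56 7))) (.node (.leaf (.up 4 1790 6)) (.leaf (.up 1 42 7)))) (.node (.node (.leaf (.up 4 1338 3)) (.leaf (.up 3 389 3))) (.node (.leaf (.up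 4 165 3)) (.leaf (.up 3 18 8)))))) (.node (.node (.node (.node (.leaf (.up 3 99 5)) (.leaf (.up 3 802 8))) (.node (.leaf (.up 2 1532 5)) (.leaf (.up 4 67 1)))) (.node (.node (.leaf (.up 2 1702 4)) (.leaf (.up 4 981 8))) (.node (.leaf (.up 3 1190 4)) (.leaf (.up 4 1779 8))))) (.node (.node (.node (.leaf (.up 4 808 8)) (.leaf (.up 3 378 0))) (.node (.leaf (.up 4 1731 6)) (.leaf (.up 2 1133 6)))) (.node (.node (.leaf (.up 4 1916 4)) (.leaf (.up 3 1145 6))) (.node (.leaf (.up 4 1785 8)) (.leaf (.up 4 197 3)))))))) (.node (.node (.node (.node (.node (.node (.leaf (.up 3 1723 6)) (.leaf (.up 4 890 8))) (.node (.leaf (.up 3 277 3)) (.leaf (.up 4 1450 3)))) (.node (.node (.leaf (.up 2 1661 2)) (.leaf (.up 4 1031 7))) (.node (.leaf (.up 2 304 7)) (.leaf (.up 4 565 1))))) (.node (.node (.node (.leaf (.up 4 370 6)) (.leaf (.up 2 1648 5))) (.node (.leaf (.up 3 1806 7)) (.leaf (.up 4 555 7)))) (.node (.node (.leaf (.up 3 318 3)) (.leaf (.up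 3 763 4))) (.node (.leaf (.up 2 1804 2)) (.leaf (.up 4 968 6)))))) (.node (.node (.node (.node (.leaf (.up 4 1670 6)) (.leaf (.up 4 1258 3))) (.node (.leaf (.up 4 267 6)) (.leaf (.up 4 1444 2)))) (.node (.node (.leaf (.up 5 762 7)) (.leaf (.up 4 1819 4))) (.node (.leaf (.up 4 744 7)) (.leaf (.up 4 1997 7))))) (.node (.node (.node (.leaf (.up 3 894 3)) (.leaf (.up 3 1435 8))) (.node (.leaf (.up 3 1725 4)) (.leaf (.up 4 606 3)))) (.node (.node (.leaf (.up 2 1750 6)) (.leaf (.up 2 1388 8))) (.node (.leaf (.up 3 1552 1)) (.leaf (.up 1 74 8))))))) (.node (.node (.node (.node (.node (.leaf (.up 4 307 6)) (.leaf (.up 3 1345 8))) (.node (.leaf (.up 3 110 8)) (.leaf (.up 3 103 8)))) (.node (.node (.leaf (.up 5 1471 8)) (.leaf (.up 2 1462 8))) (.node (.leaf (.up 4 153 8)) (.leaf (.up 2 1661 4))))) (.node (.node (.node (.leaf (.up 3 1786 6)) (.leaf (.up 4 1346 8))) (.node (.leaf (.up 4 1805 7)) (.leaf (.up 4 552 7)))) (.node (.node (.leaf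 (.up 3 417 3)) (.leaf (.up 3 1310 3))) (.node (.leaf (.up 4 1743 5)) (.leaf (.up 3 147 8)))))) (.node (.node (.node (.node (.leaf (.up 4 938 8)) (.leaf (.up 4 931 8))) (.node (.leaf (.up 4 749 7)) (.leaf (.up 4 1069 6)))) (.node (.node (.leaf (.up 5 1619 0)) (.leaf (.up 4 1081 6))) (.node (.leaf (.up 3 1659 8)) (.leaf (.up 4 948 6))))) (.node (.node (.node (.leaf (.up 4 1644 1)) (.leaf (.up 2 304 1))) (.node (.leaf (.up 3 1679 8)) (.leaf (.up 3 1282 4)))) (.node (.node (.leaf (.up 2 862 8)) (.leaf (.up 3 484 7))) (.node (.leaf (.up 2 1747 6)) (.leaf (.up 3 2023 0))))))))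

noncomputable def vt2_4_1011 : Tr VStep :=
  .node (.node (.node (.node (.node (.node (.node (.leaf (.up 3 1655 5)) (.leaf (.up 2 1702 0))) (.node (.leaf (.up 4 725 8)) (.leaf (.up 3 1190 0)))) (.node (.node (.leaf (.up 5 1796 8)) (.leaf (.up 2 1702 3))) (.node (.leaf (.up 2 546 8)) (.leaf (.up 3 417 7))))) (.node (.node (.node (.leaf (.up 4 197 1)) (.leaf (.up 3 1933 7))) (.node (.leaf (.up 3 1810 0)) (.leaf (.up 2 1951 7)))) (.node (.node (.leaf (.up 2 306 3)) (.leaf (.up 2 1951 6))) (.node (.leaf (.up 3 1197 3)) (.leaf (.up 2 774 1)))))) (.node (.node (.node (.node (.leaf (.up 3 1234 5)) (.leaf (.up 4 621 7))) (.node (.leaf (.up 4 333 5)) (.leaf (.up 4 1760 1)))) (.node (.node (.leaf (.up 3 1734 3)) (.leaf (.up 4 619 7))) (.node (.leaf (.up 3 23 4)) (.leaf (.up 3 1225 8))))) (.node (.node (.node (.leaf (.up 2 274 8)) (.leaf (.up 4 1997 3))) (.node (.leaf (.up 3 205 1)) (.leaf (.up 5 1937 1)))) (.node (.node (.leaf (.up 2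 1517 3)) (.leaf (.up 3 1954 6))) (.node (.leaf (.up 3 114 3)) (.leaf (.up 3 47 6))))))) (.node (.node (.node (.node (.node (.leaf (.up 3 456 8)) (.leaf (.up 3 781 4))) (.node (.leaf (.up 3 134 0)) (.leaf (.up 4 1255 8)))) (.node (.node (.leaf (.up 3 1173 7)) (.leaf (.up 4 310 8))) (.node (.leaf (.up 3 1817 3)) (.leaf (.up 4 1938 4))))) (.node (.node (.node (.leaf (.up 5 459 8)) (.leaf (.up 2 306 0))) (.node (.leaf (.up 5 1261 8)) (.leaf (.up 1 3 6)))) (.node (.node (.leaf (.up 4 316 8)) (.leaf (.up 2 1928 7))) (.node (.leaf (.up 4 1050 8)) (.leaf (.up 3 1946 6)))))) (.node (.node (.node (.node (.leaf (.up 4 1510 2)) (.leaf (.up 1 3 1))) (.node (.leaf (.up 3 468 4)) (.leaf (.up 2 1335 4)))) (.node (.node (.leaf (.up 4 1869 7)) (.leaf (.up 3 424 4))) (.node (.leaf (.up 3 763 8)) (.leaf (.up 2 1133 5))))) (.node (.node (.node (.leaf (.up 3 371 7)) (.leaf (.up 4 370 1))) (.node (.leaf (.up 3 656 6)) (.leaf (.up 3 518 8)))) (.node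 (.node (.leaf (.up 4 644 6)) (.leaf (.up 1 42 6))) (.node (.leaf (.up 4 1681 4)) (.leaf (.up 2 1517 1)))))))) (.node (.node (.node (.node (.node (.node (.leaf (.up 4 744 6)) (.leaf (.up 4 1258 1))) (.node (.leaf (.up 4 1664 7)) (.leaf (.up 4 1107 4)))) (.node (.node (.leaf (.up 4 1925 8)) (.leaf (.up 3 371 2))) (.node (.leaf (.up 4 1670 7)) (.leaf (.up 3 1954 3))))) (.node (.node (.node (.leaf (.up 3 874 4)) (.leaf (.up 2 272 0))) (.node (.leaf (.up 4 199 1)) (.leaf (.up 1 2 6)))) (.node (.node (.leaf (.up 4 172 7)) (.leaf (.up 3 1417 7))) (.node (.leaf (.up 3 1333 6)) (.leaf (.up 1 2 2)))))) (.node (.node (.node (.node (.leaf (.up 4 400 8)) (.leaf (.up 4 409 8))) (.node (.leaf (.up 3 1368 6)) (.leaf (.up 5 1506 3)))) (.node (.node (.leaf (.up 3 1825 1)) (.leaf (.up 4 366 8))) (.node (.leaf (.up 4 533 4)) (.leaf (.up 3 1096 8))))) (.node (.node (.node (.leaf (.up 4 1308 6)) (.leaf (.up 3 410 8))) (.node (.leaf (.up 3 719 1))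 (.leaf (.up 4 1080 5)))) (.node (.node (.leaf (.up 3 645 6)) (.leaf (.up 4 1324 4))) (.node (.leaf (.up 4 1288 6)) (.leaf (.up 4 1603 7))))))) (.node (.node (.node (.node (.node (.leaf (.up 4 1681 7)) (.leaf (.up 4 948 7))) (.node (.leaf (.up 4 749 6)) (.leaf (.up 4 67 6)))) (.node (.node (.leaf (.up 4 458 1)) (.leaf (.up 4 1936 4))) (.node (.leaf (.up 3 1954 5)) (.leaf (.up 5 928 7))))) (.node (.node (.node (.leaf (.up 3 681 6)) (.leaf (.up 4 7 6))) (.node (.leaf (.up 3 1840 0)) (.leaf (.up 2 304 0)))) (.node (.node (.leaf (.up 2 1334 3)) (.leaf (.up 3 2023 1))) (.node (.leaf (.up 3 1179 8)) (.leaf (.up 3 1967 0)))))) (.node (.node (.node (.node (.leaf (.up 5 1963 8)) (.leaf (.up 3 108 7))) (.node (.leaf (.up 4 653 8)) (.leaf (.up 1 1 1)))) (.node (.node (.leaf (.up 4 1884 8)) (.leaf (.up 2 1661 3))) (.node (.leaf (.up 4 634 8)) (.leaf (.up 3 2023 6))))) (.node (.node (.node (.leaf (.up 3 12 4)) (.leaf (.up 4 100 2))) (.node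 (.leaf (.up 4 1580 1)) (.leaf (.up 4 1622 3)))) (.node (.node (.leaf (.up 3 1293 6)) (.leaf (.up 4 1955 6))) (.node (.leaf (.up 4 869 7)) (.leaf (.up 4 1600 7))))))))

noncomputable def vt2_4_101 : Tr VStep := .node vt2_4_1010 vt2_4_1011

noncomputable def vt2_4_10 : Tr VStep := .node vt2_4_100 vt2_4_101

noncomputable def vt2_4_1100 : Tr VStep :=
  .node (.node (.node (.node (.node (.node (.node (.leaf (.root 1724)) (.leaf (.up 3 1795 7))) (.node (.leaf (.up 3 1734 4)) (.leaf (.up 4 904 2)))) (.node (.node (.leaf (.up 4 601 4)) (.leaf (.up 3 2016 5))) (.node (.leaf (.up 1 3 5)) (.leaf (.up 2 751 8))))) (.node (.node (.node (.leaf (.up 4 1187 3)) (.leaf (.up 4 28 3))) (.node (.leaf (.up 2 530 8)) (.leaf (.up 3 297 7)))) (.node (.node (.leaf (.up 3 1048 7)) (.leaf (.up 4 28 0))) (.node (.leaf (.up 4 1034 7)) (.leaf (.up 3 1759 1)))))) (.node (.node (.node (.node (.leaf (.up 3 469 8)) (.leaf (.up 2 1243 7))) (.node (.leaf (.up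 4 1125 1)) (.leaf (.up 3 1225 7)))) (.node (.node (.leaf (.up 4 290 8)) (.leaf (.up 3 1714 2))) (.node (.leaf (.up 4 1123 4)) (.leaf (.up 3 1231 7))))) (.node (.node (.node (.leaf (.up 3 1990 7)) (.leaf (.up 3 1477 4))) (.node (.leaf (.up 4 38 5)) (.leaf (.up 3 1273 8)))) (.node (.node (.leaf (.up 4 1984 6)) (.leaf (.up 4 296 8))) (.node (.leaf (.up 4 2002 7)) (.leaf (.up 4 1038 8))))))) (.node (.node (.node (.node (.node (.leaf (.up 4 268 8)) (.leaf (.up 3 1913 4))) (.node (.leaf (.up 3 1066 8)) (.leaf (.up 3 1315 5)))) (.node (.node (.leaf (.up 3 507 8)) (.leaf (.up 2 1335 3))) (.node (.leaf (.up 2 1041 1)) (.leaf (.up 3 1236 8))))) (.node (.node (.node (.leaf (.up 3 1759 5)) (.leaf (.up 3 262 8))) (.node (.leaf (.up 4 832 5)) (.leaf (.up 3 719 6)))) (.node (.node (.leaf (.up 4 1084 0)) (.leaf (.up 2 1701 2))) (.node (.leaf (.up 3 2040 6)) (.leaf (.up 3 1189 2)))))) (.node (.node (.node (.node (.leaf (.up 2 24 6)) (.leaf (.up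 3 2023 8))) (.node (.leaf (.up 3 134 1)) (.leaf (.up 4 744 3)))) (.node (.node (.leaf (.up 2 1921 6)) (.leaf (.up 4 837 1))) (.node (.leaf (.up 3 12 6)) (.leaf (.up 3 566 8))))) (.node (.node (.node (.leaf (.up 3 2029 8)) (.leaf (.up 4 1407 6))) (.node (.leaf (.up 4 715 8)) (.leaf (.up 4 754 6)))) (.node (.node (.leaf (.up 3 1384 1)) (.leaf (.up 4 153 5))) (.node (.leaf (.up 4 1914 5)) (.leaf (.up 4 565 8)))))))) (.node (.node (.node (.node (.node (.node (.leaf (.up 3 1732 4)) (.leaf (.up 4 307 1))) (.node (.leaf (.up 3 656 8)) (.leaf (.up 4 920 2)))) (.node (.node (.leaf (.up 3 240 1)) (.leaf (.up 3 1864 8))) (.node (.leaf (.up 3 789 5)) (.leaf (.up 4 622 8))))) (.node (.node (.node (.leaf (.up 2 56 3)) (.leaf (.up 4 1654 5))) (.node (.leaf (.up 3 96 6)) (.leaf (.up 4 666 8)))) (.node (.node (.leaf (.up 3 1290 2)) (.leaf (.up 3 1378 4))) (.node (.leaf (.up 4 612 8)) (.leaf (.up 3 1367 6)))))) (.node (.node (.node (.node (.leaf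 (.up 4 1020 7)) (.leaf (.up 3 1954 2))) (.node (.leaf (.up 4 1006 7)) (.leaf (.up 4 1338 6)))) (.node (.node (.leaf (.up 5 1920 6)) (.leaf (.up 3 1759 7))) (.node (.leaf (.up 4 13 6)) (.leaf (.up 4 1186 2))))) (.node (.node (.node (.leaf (.up 3 2000 6)) (.leaf (.up 2 1406 6))) (.node (.leaf (.up 3 1494 7)) (.leaf (.up 1 74 1)))) (.node (.node (.leaf (.up 4 632 3)) (.leaf (.up 4 1735 3))) (.node (.leaf (.up 2 304 2)) (.leaf (.up 3 1386 6))))))) (.node (.node (.node (.node (.node (.leaf (.up 3 397 8)) (.leaf (.up 3 1282 6))) (.node (.leaf (.up 4 1195 8)) (.leaf (.up 3 1732 2)))) (.node (.node (.leaf (.up 3 378 8)) (.leaf (.up 3 371 8))) (.node (.leaf (.up 4 1116 8)) (.leaf (.up 3 484 4))))) (.node (.node (.node (.leaf (.up 4 101 6)) (.leaf (.up 3 1185 1))) (.node (.leaf (.up 4 2024 6)) (.leaf (.up 3 554 5)))) (.node (.node (.leaf (.up 3 1378 1)) (.leaf (.up 3 828 7))) (.node (.leaf (.up 4 1119 8)) (.leaf (.up 3 814 7)))))) (.node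 (.node (.node (.node (.leaf (.up 5 1937 6)) (.leaf (.up 5 1754 7))) (.node (.leaf (.up 3 1954 4)) (.leaf (.up 4 1736 7)))) (.node (.node (.leaf (.up 2 1944 8)) (.leaf (.up 4 1936 5))) (.node (.leaf (.up 4 1925 6)) (.leaf (.up 4 1323 6))))) (.node (.node (.node (.leaf (.up 3 1900 2)) (.leaf (.up 4 199 3))) (.node (.leaf (.up 2 1388 2)) (.leaf (.up 3 240 7)))) (.node (.node (.leaf (.up 3 1947 8)) (.leaf (.up 4 143 2))) (.node (.leaf (.up 3 1386 1)) (.leaf (.up 3 1552 5))))))))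

noncomputable def vt2_4_1101 : Tr VStep :=
  .node (.node (.node (.node (.node (.node (.node (.leaf (.up 4 1670 2)) (.leaf (.up 3 1037 5))) (.node (.leaf (.up 3 1552 8)) (.leaf (.up 3 575 3)))) (.node (.node (.leaf (.up 3 961 8)) (.leaf (.up 3 1367 4))) (.node (.leaf (.up 4 1767 8)) (.leaf (.up 4 1879 4))))) (.node (.node (.node (.leaf (.up 4 622 5)) (.leaf (.up 1 0 1))) (.node (.leaf (.up 3 2033 5)) (.leaf (.up 3 18 4)))) (.node (.node (.leaf (.up 3 110 4)) (.leaf (.up 3 1677 5))) (.node (.leaf (.up 4 1783 2)) (.leaf (.up 2 1689 7)))))) (.node (.node (.node (.node (.leaf (.up 3 1236 5)) (.leaf (.up 4 877 7))) (.node (.leaf (.up 3 242 8)) (.leaf (.up 4 1760 3)))) (.node (.node (.leaf (.up 3 1315 8)) (.leaf (.up 3 55 5))) (.node (.leaf (.up 3 983 6)) (.leaf (.up 3 12 8))))) (.node (.node (.node (.leaf (.up 4 1034 6)) (.leaf (.up 4 1739 0))) (.node (.leaf (.up 3 903 6)) (.leaf (.up 3 297 6)))) (.node (.node (.leaf (.up 4 971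 1)) (.leaf (.up 4 1739 3))) (.node (.leaf (.up 3 6 8)) (.leaf (.up 3 1345 7))))))) (.node (.node (.node (.node (.node (.leaf (.up 3 1293 8)) (.leaf (.up 4 1337 2))) (.node (.leaf (.up 3 1409 7)) (.leaf (.up 4 1938 1)))) (.node (.node (.leaf (.up 4 896 0)) (.leaf (.up 3 781 1))) (.node (.leaf (.up 4 1202 5)) (.leaf (.up 4 213 8))))) (.node (.node (.node (.leaf (.up 3 1294 8)) (.leaf (.up 3 1678 7))) (.node (.leaf (.up 4 40 8)) (.leaf (.up 3 1102 5)))) (.node (.node (.leaf (.up 5 941 7)) (.leaf (.up 3 977 4))) (.node (.leaf (.up 4 959 7)) (.leaf (.up 4 261 6)))))) (.node (.node (.node (.node (.leaf (.up 4 1887 0)) (.leaf (.up 2 1899 5))) (.node (.leaf (.up 3 2016 2)) (.leaf (.up 4 360 6)))) (.node (.node (.leaf (.up 3 722 4)) (.leaf (.up 4 1585 4))) (.node (.leaf (.up 3 1598 8)) (.leaf (.up 1 3 2))))) (.node (.node (.node (.leaf (.up 3 264 5)) (.leaf (.up 3 114 2))) (.node (.leaf (.up 4 1175 5)) (.leaf (.up 4 626 2)))) (.node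 (.node (.leaf (.up 4 1140 0)) (.leaf (.up 4 786 8))) (.node (.leaf (.up 3 103 7)) (.leaf (.up 4 971 3)))))))) (.node (.node (.node (.node (.node (.node (.leaf (.up 4 1938 7)) (.leaf (.up 4 1819 5))) (.node (.leaf (.up 4 1681 8)) (.leaf (.up 3 371 1)))) (.node (.node (.leaf (.up 4 1006 6)) (.leaf (.up 4 1444 3))) (.node (.leaf (.up 4 1123 6)) (.leaf (.up 3 1647 8))))) (.node (.node (.node (.leaf (.up 4 958 6)) (.leaf (.up 2 272 6))) (.node (.leaf (.up 2 304 3)) (.leaf (.up 1 2 1)))) (.node (.node (.leaf (.up 3 1063 6)) (.leaf (.up 2 1161 7))) (.node (.leaf (.up 3 108 4)) (.leaf (.up 2 1693 1)))))) (.node (.node (.node (.node (.leaf (.up 4 1098 6)) (.leaf (.up 4 379 1))) (.node (.leaf (.up 3 1732 3)) (.leaf (.up 3 1103 2)))) (.node (.node (.leaf (.up 3 979 6)) (.leaf (.up 4 379 3))) (.node (.leaf (.up 4 994 0)) (.leaf (.up 4 1776 6))))) (.node (.node (.node (.leaf (.up 4 713 0)) (.leaf (.up 1 10 1))) (.node (.leaf (.up 4 608 7))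 (.leaf (.up 3 121 8)))) (.node (.node (.leaf (.up 4 1050 6)) (.leaf (.up 4 1716 6))) (.node (.leaf (.up 4 919 6)) (.leaf (.up 3 1173 1))))))) (.node (.node (.node (.node (.node (.leaf (.up 4 1819 3)) (.leaf (.up 4 337 6))) (.node (.leaf (.up 4 458 2)) (.leaf (.up 4 1756 6)))) (.node (.node (.leaf (.up 4 1403 8)) (.leaf (.up 4 1736 6))) (.node (.leaf (.up 4 1925 7)) (.leaf (.up 4 84 8))))) (.node (.node (.node (.leaf (.up 3 1423 8)) (.leaf (.up 3 711 5))) (.node (.leaf (.up 4 431 3)) (.leaf (.up 2 1182 7)))) (.node (.node (.leaf (.up 3 1826 1)) (.leaf (.up 3 1552 3))) (.node (.leaf (.up 3 445 7)) (.leaf (.up 3 1176 7)))))) (.node (.node (.node (.node (.leaf (.up 4 878 8)) (.leaf (.up 4 1149 5))) (.node (.leaf (.up 3 1103 4)) (.leaf (.up 2 1944 1)))) (.node (.node (.leaf (.up 3 1103 7)) (.leaf (.up 3 484 3))) (.node (.leaf (.up 4 196 3)) (.leaf (.up 4 1587 4))))) (.node (.node (.node (.leaf (.up 3 542 5)) (.leaf (.up 2 1701 6)))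 (.node (.leaf (.up 2 1921 5)) (.leaf (.up 4 296 6)))) (.node (.node (.leaf (.up 2 1648 3)) (.leaf (.up 3 719 3))) (.node (.leaf (.up 3 286 5)) (.leaf (.up 4 1713 6))))))))

noncomputable def vt2_4_110 : Tr VStep := .node vt2_4_1100 vt2_4_1101

noncomputable def vt2_4_1110 : Tr VStep :=
  .node (.node (.node (.node (.node (.node (.node (.leaf (.up 3 484 1)) (.leaf (.up 3 1102 8))) (.node (.leaf (.up 4 822 6)) (.leaf (.up 4 360 8)))) (.node (.node (.leaf (.up 3 2000 4)) (.leaf (.up 4 1209 8))) (.node (.leaf (.up 2 1182 5)) (.leaf (.up 4 307 4))))) (.node (.node (.node (.leaf (.up 3 1290 0)) (.leaf (.up 4 476 6))) (.node (.leaf (.up 3 1294 7)) (.leaf (.up 4 1654 4)))) (.node (.node (.leaf (.up 3 1310 2)) (.leaf (.up 3 1210 8))) (.node (.leaf (.up 2 812 3)) (.leaf (.up 3 456 6)))))) (.node (.node (.node (.node (.leaf (.up 5 1158 6)) (.leaf (.up 4 1863 5))) (.node (.leaf (.up 4 1923 8)) (.leaf (.up 2 1462 2)))) (.node (.node (.leaf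 (.up 4 250 7)) (.leaf (.up 4 603 8))) (.node (.leaf (.up 4 1240 3)) (.leaf (.up 3 47 1))))) (.node (.node (.node (.leaf (.up 3 1732 7)) (.leaf (.up 3 1473 1))) (.node (.leaf (.up 2 1750 7)) (.leaf (.up 3 1929 8)))) (.node (.node (.leaf (.up 3 469 0)) (.leaf (.up 2 600 8))) (.node (.leaf (.up 3 1744 7)) (.leaf (.up 3 1013 7))))))) (.node (.node (.node (.node (.node (.leaf (.up 4 920 3)) (.leaf (.up 2 1831 3))) (.node (.leaf (.up 4 1882 8)) (.leaf (.up 3 1552 6)))) (.node (.node (.leaf (.up 4 651 8)) (.leaf (.up 4 1135 4))) (.node (.leaf (.up 4 307 2)) (.leaf (.up 1 1 0))))) (.node (.node (.node (.leaf (.up 4 1274 6)) (.leaf (.up 4 1953 2))) (.node (.leaf (.up 3 1293 7)) (.leaf (.up 4 473 6)))) (.node (.node (.leaf (.up 4 1580 3)) (.leaf (.up 3 461 6))) (.node (.leaf (.up 4 1966 8)) (.leaf (.up 2 1804 3)))))) (.node (.node (.node (.node (.leaf (.up 2 1182 8)) (.leaf (.up 4 1175 8))) (.node (.leaf (.up 4 440 8)) (.leaf (.up 4 1246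 0)))) (.node (.node (.leaf (.up 4 400 1)) (.leaf (.up 5 1120 8))) (.node (.leaf (.up 3 335 8)) (.leaf (.up 5 326 8))))) (.node (.node (.node (.leaf (.up 3 1181 8)) (.leaf (.up 3 874 0))) (.node (.leaf (.up 4 1150 1)) (.leaf (.up 3 484 6)))) (.node (.node (.leaf (.up 2 862 6)) (.leaf (.up 4 1525 0))) (.node (.leaf (.up 2 1747 7)) (.leaf (.up 2 1661 6)))))))) (.node (.node (.node (.node (.node (.node (.leaf (.up 2 1222 8)) (.leaf (.up 3 1231 8))) (.node (.leaf (.up 4 333 4)) (.leaf (.up 2 1041 7)))) (.node (.node (.leaf (.up 3 1073 8)) (.leaf (.up 3 1541 6))) (.node (.leaf (.up 2 1928 5)) (.leaf (.up 3 286 8))))) (.node (.node (.node (.leaf (.up 2 1822 7)) (.leaf (.up 3 264 0))) (.node (.leaf (.up 2 1804 7)) (.leaf (.up 4 553 7)))) (.node (.node (.leaf (.up 3 1294 2)) (.leaf (.up 4 460 6))) (.node (.leaf (.up 3 1806 2)) (.leaf (.up 4 559 7)))))) (.node (.node (.node (.node (.leaf (.up 4 548 8)) (.leaf (.up 3 417 6))) (.node (.leaf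 (.up 4 1794 8)) (.leaf (.up 4 1580 6)))) (.node (.node (.leaf (.up 4 1905 1)) (.leaf (.up 2 1702 2))) (.node (.leaf (.up 4 2037 8)) (.leaf (.up 3 1190 2))))) (.node (.node (.node (.leaf (.up 2 1222 6)) (.leaf (.up 4 558 8))) (.node (.leaf (.up 3 1197 4)) (.leaf (.up 4 78 4)))) (.node (.node (.leaf (.up 3 1197 5)) (.leaf (.up 4 348 1))) (.node (.leaf (.up 2 306 5)) (.leaf (.up 4 846 5))))))) (.node (.node (.node (.node (.node (.leaf (.up 2 1041 4)) (.leaf (.up 3 1847 5))) (.node (.leaf (.up 4 212 5)) (.leaf (.up 4 601 1)))) (.node (.node (.leaf (.up 3 803 2)) (.leaf (.up 1 3 0))) (.node (.leaf (.up 4 305 7)) (.leaf (.up 2 1133 4))))) (.node (.node (.node (.leaf (.up 4 1821 7)) (.leaf (.up 2 568 7))) (.node (.leaf (.up 4 1807 7)) (.leaf (.up 3 554 7)))) (.node (.node (.leaf (.up 4 1819 7)) (.leaf (.up 3 512 8))) (.node (.leaf (.up 4 871 6)) (.leaf (.up 4 919 3)))))) (.node (.node (.node (.node (.leaf (.up 3 988 3)) (.leaf (.up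 4 1891 3))) (.node (.leaf (.up 2 751 7)) (.leaf (.up 2 304 8)))) (.node (.node (.leaf (.up 3 1091 0)) (.leaf (.up 3 781 5))) (.node (.leaf (.up 3 1817 2)) (.leaf (.up 4 1123 3))))) (.node (.node (.node (.leaf (.up 4 846 6)) (.leaf (.up 3 1096 3))) (.node (.leaf (.up 3 314 8)) (.leaf (.up 3 1645 6)))) (.node (.node (.leaf (.up 4 1259 8)) (.leaf (.up 3 1810 5))) (.node (.leaf (.up 3 461 8)) (.leaf (.up 3 397 4))))))))

noncomputable def vt2_4_1111 : Tr VStep :=
  .node (.node (.node (.node (.node (.node (.node (.leaf (.up 4 1936 3)) (.leaf (.up 4 815 3))) (.node (.leaf (.up 5 1152 7)) (.leaf (.up 4 1712 3)))) (.node (.node (.leaf (.up 4 1905 6)) (.leaf (.up 4 222 4))) (.node (.leaf (.up 5 1158 7)) (.leaf (.up 3 47 3))))) (.node (.node (.node (.leaf (.up 3 1825 6)) (.leaf (.up 3 1423 6))) (.node (.leaf (.up 3 1282 0)) (.leaf (.up 2 1949 7)))) (.node (.node (.leaf (.up 3 108 5)) (.leaf (.up 2 528 2))) (.node (.leaf (.up 3 1845 6))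 (.leaf (.up 3 1435 6)))))) (.node (.node (.node (.node (.leaf (.up 4 213 6)) (.leaf (.up 2 1709 8))) (.node (.leaf (.up 3 1494 5)) (.leaf (.up 5 907 8)))) (.node (.node (.leaf (.up 2 1750 5)) (.leaf (.up 4 1626 8))) (.node (.leaf (.up 3 193 6)) (.leaf (.up 4 635 7))))) (.node (.node (.node (.leaf (.up 4 370 7)) (.leaf (.up 2 1243 3))) (.node (.leaf (.up 2 145 6)) (.leaf (.up 3 417 4)))) (.node (.node (.leaf (.up 3 372 7)) (.leaf (.up 3 1342 4))) (.node (.leaf (.up 4 358 7)) (.leaf (.up 3 1091 7))))))) (.node (.node (.node (.node (.node (.leaf (.up 2 1661 8)) (.leaf (.up 5 1686 0))) (.node (.leaf (.up 3 656 3)) (.leaf (.up 5 797 4)))) (.node (.node (.leaf (.up 4 400 3)) (.leaf (.up 4 9 0))) (.node (.leaf (.up 3 47 5)) (.leaf (.up 5 1498 6))))) (.node (.node (.node (.leaf (.up 3 681 7)) (.leaf (.up 3 802 0))) (.node (.leaf (.up 3 1828 6)) (.leaf (.up 3 874 1)))) (.node (.node (.leaf (.up 3 1673 8)) (.leaf (.up 3 979 5))) (.node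 (.leaf (.up 3 1828 3)) (.leaf (.up 2 1944 7)))))) (.node (.node (.node (.node (.leaf (.up 3 976 3)) (.leaf (.up 3 1014 5))) (.node (.leaf (.up 4 1465 8)) (.leaf (.up 2 1831 4)))) (.node (.node (.leaf (.up 3 976 1)) (.leaf (.up 4 1385 5))) (.node (.leaf (.up 4 1885 7)) (.leaf (.up 4 632 7))))) (.node (.node (.node (.leaf (.up 4 156 8)) (.leaf (.up 4 1092 3))) (.node (.leaf (.up 1 10 5)) (.leaf (.up 4 1463 6)))) (.node (.node (.leaf (.up 4 1805 6)) (.leaf (.up 3 1443 6))) (.node (.leaf (.up 3 357 7)) (.leaf (.up 3 1088 7)))))))) (.node (.node (.node (.node (.node (.node (.leaf (.up 4 199 8)) (.leaf (.up 3 1091 4))) (.node (.leaf (.up 4 1505 8)) (.leaf (.up 3 625 2)))) (.node (.node (.leaf (.up 4 1938 2)) (.leaf (.up 4 1305 5))) (.node (.leaf (.up 4 1302 8)) (.leaf (.up 3 134 5))))) (.node (.node (.node (.leaf (.up 3 378 4)) (.leaf (.up 3 1433 4))) (.node (.leaf (.up 3 1829 6)) (.leaf (.up 3 1439 7)))) (.node (.node (.leaf (.up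 4 890 5)) (.leaf (.up 2 774 4))) (.node (.leaf (.up 3 1765 5)) (.leaf (.up 1 0 2)))))) (.node (.node (.node (.node (.leaf (.up 4 1573 8)) (.leaf (.up 3 121 4))) (.node (.leaf (.up 2 771 8)) (.leaf (.up 3 1778 1)))) (.node (.node (.leaf (.up 3 1472 5)) (.leaf (.up 4 1867 2))) (.node (.leaf (.up 3 1864 6)) (.leaf (.up 3 121 7))))) (.node (.node (.node (.leaf (.up 4 735 1)) (.leaf (.up 4 1338 2))) (.node (.leaf (.up 3 768 8)) (.leaf (.up 2 1462 6)))) (.node (.node (.leaf (.up 2 1804 6)) (.leaf (.up 3 1759 3))) (.node (.leaf (.up 3 1088 5)) (.leaf (.up 4 559 6))))))) (.node (.node (.node (.node (.node (.leaf (.up 4 2044 4)) (.leaf (.up 4 1781 8))) (.node (.leaf (.up 2 1892 6)) (.leaf (.up 3 979 8)))) (.node (.node (.leaf (.up 2 1702 5)) (.leaf (.up 4 1538 8))) (.node (.leaf (.up 4 825 5)) (.leaf (.up 4 1670 1))))) (.node (.node (.node (.leaf (.up 4 171 7)) (.leaf (.up 4 1626 5))) (.node (.leaf (.up 5 985 8)) (.leaf (.up 3 976 8))))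 (.node (.node (.leaf (.up 5 1544 8)) (.leaf (.up 4 197 5))) (.node (.leaf (.up 3 814 8)) (.leaf (.up 4 1792 3)))))) (.node (.node (.node (.node (.leaf (.up 4 1869 1)) (.leaf (.up 2 17 1))) (.node (.leaf (.up 3 1795 5)) (.leaf (.up 3 1317 4)))) (.node (.node (.leaf (.up 3 468 3)) (.leaf (.up 3 224 8))) (.node (.leaf (.up 4 1487 8)) (.leaf (.up 3 992 5))))) (.node (.node (.node (.leaf (.up 4 1821 6)) (.leaf (.up 3 20 8))) (.node (.leaf (.up 4 1084 1)) (.leaf (.up 4 864 1)))) (.node (.node (.leaf (.up 4 1925 2)) (.leaf (.up 3 554 6))) (.node (.leaf (.up 4 871 7)) (.leaf (.up 3 1477 8))))))))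

noncomputable def vt2_4_111 : Tr VStep := .node vt2_4_1110 vt2_4_1111

noncomputable def vt2_4_11 : Tr VStep := .node vt2_4_110 vt2_4_111

noncomputable def vt2_4_1 : Tr VStep := .node vt2_4_10 vt2_4_11

noncomputable def vt2_4_ : Tr VStep := .node vt2_4_0 vt2_4_1

noncomputable def vt2_5_0000 : Tr VStep :=
  .node (.node (.node (.node (.node (.node (.node (.leaf (.root 53)) (.leaf (.up 4 1216 5))) (.node (.leaf (.up 3 1433 3)) (.leaf (.up 3 1841 4)))) (.node (.node (.leaf (.up 3 6 0)) (.leaf (.up 4 186 2))) (.node (.leaf (.up 2 530 4)) (.leaf (.up 5 1765 0))))) (.node (.node (.node (.leaf (.up 4 553 3)) (.leaf (.up 4 252 3))) (.node (.leaf (.up 5 1481 2)) (.leaf (.up 3 1895 2)))) (.node (.node (.leaf (.up 4 1456 3)) (.leaf (.up 3 1893 3))) (.node (.leaf (.up 5 592 2)) (.leaf (.up 3 271 4)))))) (.node (.node (.node (.node (.leaf (.up 4 478 4)) (.leaf (.up 2 1275 4))) (.node (.leaf (.up 3 460 4)) (.leaf (.up 2 56 5)))) (.node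 (.node (.leaf (.up 4 553 2)) (.leaf (.up 4 135 2))) (.node (.leaf (.up 5 1481 3)) (.leaf (.up 5 1344 1))))) (.node (.node (.node (.leaf (.up 3 377 5)) (.leaf (.up 3 1845 3))) (.node (.leaf (.up 3 1780 5)) (.leaf (.up 4 184 3)))) (.node (.node (.leaf (.up 3 365 1)) (.leaf (.up 5 1870 2))) (.node (.leaf (.up 3 1524 3)) (.leaf (.up 4 1536 5))))))) (.node (.node (.node (.node (.node (.leaf (.up 4 1657 5)) (.leaf (.up 4 1824 4))) (.node (.leaf (.up 3 1416 2)) (.leaf (.up 2 1830 0)))) (.node (.node (.leaf (.up 6 1663 5)) (.leaf (.up 2 1830 4))) (.node (.leaf (.up 3 874 3)) (.leaf (.up 3 447 3))))) (.node (.node (.node (.leaf (.up 2 1085 4)) (.leaf (.up 4 181 5))) (.node (.leaf (.up 3 1071 4)) (.leaf (.up 3 1563 3)))) (.node (.node (.leaf (.up 4 597 2)) (.leaf (.up 4 218 1))) (.node (.leaf (.up 3 1065 4)) (.leaf (.up 5 268 4)))))) (.node (.node (.node (.node (.leaf (.up 4 1535 0)) (.leaf (.up 6 1272 4))) (.node (.leaf (.up 3 826 3))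 (.leaf (.up 3 1258 4)))) (.node (.node (.leaf (.up 4 1290 5)) (.leaf (.up 4 1807 2))) (.node (.leaf (.up 3 457 4)) (.leaf (.up 5 1654 3))))) (.node (.node (.node (.leaf (.up 3 2021 4)) (.leaf (.up 2 1101 1))) (.node (.leaf (.up 4 1215 5)) (.leaf (.up 2 1101 5)))) (.node (.node (.leaf (.up 5 616 2)) (.leaf (.up 2 198 2))) (.node (.leaf (.up 4 186 0)) (.leaf (.up 4 1099 5)))))))) (.node (.node (.node (.node (.node (.node (.leaf (.up 3 4 4)) (.leaf (.up 3 469 1))) (.node (.leaf (.up 2 1161 1)) (.leaf (.up 2 632 0)))) (.node (.node (.leaf (.up 1 2 4)) (.leaf (.up 5 1843 2))) (.node (.leaf (.up 3 528 2)) (.leaf (.up 6 335 5))))) (.node (.node (.node (.leaf (.up 1 8 5)) (.leaf (.up 3 250 5))) (.node (.leaf (.up 4 1582 4)) (.leaf (.up 4 1911 5)))) (.node (.node (.leaf (.up 3 14 5)) (.leaf (.up 3 250 2))) (.node (.leaf (.up 4 1497 2)) (.leaf (.up 4 1911 2)))))) (.node (.node (.node (.node (.leaf (.up 5 596 3)) (.leaf (.up 3 129 3)))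 (.node (.leaf (.up 4 1497 3)) (.leaf (.up 4 1804 3)))) (.node (.node (.leaf (.up 5 986 4)) (.leaf (.up 2 733 0))) (.node (.leaf (.up 4 968 4)) (.leaf (.up 5 149 3))))) (.node (.node (.node (.leaf (.up 3 379 0)) (.leaf (.up 4 911 5))) (.node (.leaf (.up 3 891 0)) (.leaf (.up 3 1841 3)))) (.node (.node (.leaf (.up 3 891 5)) (.leaf (.up 4 199 2))) (.node (.leaf (.up 3 1270 5)) (.leaf (.up 5 168 3))))))) (.node (.node (.node (.node (.node (.leaf (.up 5 7 4)) (.leaf (.up 3 1334 1))) (.node (.leaf (.up 6 1008 5)) (.leaf (.up 3 1328 4)))) (.node (.node (.leaf (.up 1 1 4)) (.leaf (.up 2 1161 5))) (.node (.leaf (.up 4 1014 5)) (.leaf (.up 3 1334 4))))) (.node (.node (.node (.leaf (.up 4 581 2)) (.leaf (.up 5 235 2))) (.node (.leaf (.up 2 1486 5)) (.leaf (.up 4 776 4)))) (.node (.node (.leaf (.up 3 1593 4)) (.leaf (.up 3 390 3))) (.node (.leaf (.up 4 593 2)) (.leaf (.up 4 255 2)))))) (.node (.node (.node (.node (.leaf (.up 2 991 4)) (.leaf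 (.up 5 491 3))) (.node (.leaf (.up 4 973 4)) (.leaf (.up 4 1638 3)))) (.node (.node (.leaf (.up 2 552 2)) (.leaf (.up 5 417 1))) (.node (.leaf (.up 4 1277 1)) (.leaf (.up 4 1774 4))))) (.node (.node (.node (.leaf (.up 2 632 2)) (.leaf (.up 2 194 4))) (.node (.leaf (.up 5 1525 2)) (.leaf (.up 4 1609 5)))) (.node (.node (.leaf (.up 2 304 5)) (.leaf (.up 2 450 5))) (.node (.leaf (.up 5 791 3)) (.leaf (.up 2 450 3))))))))

noncomputable def vt2_5_0001 : Tr VStep :=
  .node (.node (.node (.node (.node (.node (.node (.leaf (.root 1268)) (.leaf (.up 5 149 4))) (.node (.leaf (.up 3 1619 2)) (.leaf (.up 4 135 4)))) (.node (.node (.leaf (.up 4 84 1)) (.leaf (.up 3 1257 2))) (.node (.leaf (.up 3 829 5)) (.leaf (.up 3 129 4))))) (.node (.node (.node (.leaf (.up 2 922 3)) (.leaf (.up 4 634 5))) (.node (.leaf (.up 2 922 4)) (.leaf (.up 5 589 0)))) (.node (.node (.leaf (.up 3 1027 3)) (.leaf (.up 2 1750 3))) (.node (.leaf (.up 3 1539 2)) (.leaf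 (.up 5 347 3)))))) (.node (.node (.node (.node (.leaf (.root 414)) (.leaf (.up 3 1841 5))) (.node (.leaf (.up 1 78 5)) (.leaf (.up 4 1216 2)))) (.node (.node (.leaf (.up 2 1015 3)) (.leaf (.up 5 818 0))) (.node (.leaf (.up 1 72 5)) (.leaf (.up 4 1711 3))))) (.node (.node (.node (.leaf (.up 4 1107 3)) (.leaf (.up 2 1670 3))) (.node (.leaf (.up 5 1970 1)) (.leaf (.up 4 777 2)))) (.node (.node (.leaf (.up 4 970 3)) (.leaf (.up 3 797 2))) (.node (.leaf (.up 3 68 4)) (.leaf (.up 3 1377 4))))))) (.node (.node (.node (.node (.node (.leaf (.root 200)) (.leaf (.up 2 1396 1))) (.node (.leaf (.up 1 40 0)) (.leaf (.up 3 885 2)))) (.node (.node (.leaf (.up 5 1787 5)) (.leaf (.up 2 144 4))) (.node (.leaf (.up 4 374 5)) (.leaf (.up 3 388 5))))) (.node (.node (.node (.leaf (.up 4 1010 0)) (.leaf (.up 3 1710 4))) (.node (.leaf (.up 5 1870 5)) (.leaf (.up 2 1724 4)))) (.node (.node (.leaf (.up 4 1385 3)) (.leaf (.up 3 666 1))) (.node (.leaf (.up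 5 1864 5)) (.leaf (.up 3 1722 4)))))) (.node (.node (.node (.node (.leaf (.up 3 1416 5)) (.leaf (.up 2 1916 1))) (.node (.leaf (.up 4 1657 4)) (.leaf (.up 2 1404 1)))) (.node (.node (.leaf (.up 5 1422 5)) (.leaf (.up 1 72 3))) (.node (.leaf (.up 4 653 0)) (.leaf (.up 2 858 4))))) (.node (.node (.node (.leaf (.up 3 1337 3)) (.leaf (.up 4 780 2))) (.node (.leaf (.up 4 1583 2)) (.leaf (.up 5 1380 4)))) (.node (.node (.leaf (.up 3 85 4)) (.leaf (.up 4 1173 2))) (.node (.leaf (.up 2 1085 5)) (.leaf (.up 3 2040 3)))))))) (.node (.node (.node (.node (.node (.node (.leaf (.up 3 1714 5)) (.leaf (.up 3 1600 5))) (.node (.leaf (.up 4 319 5)) (.leaf (.up 4 374 3)))) (.node (.node (.leaf (.up 3 598 1)) (.leaf (.up 2 354 3))) (.node (.leaf (.up 4 1958 4)) (.leaf (.up 3 1775 3))))) (.node (.node (.node (.leaf (.up 2 394 4)) (.leaf (.up 5 816 2))) (.node (.leaf (.up 2 1555 2)) (.leaf (.up 6 2035 5)))) (.node (.node (.leaf (.up 2 51 0)) (.leaf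 (.up 3 120 5))) (.node (.leaf (.up 2 394 2)) (.leaf (.up 4 1746 3)))))) (.node (.node (.node (.node (.leaf (.up 3 1479 5)) (.leaf (.up 6 335 4))) (.node (.leaf (.up 2 487 2)) (.leaf (.up 7 696 5)))) (.node (.node (.leaf (.up 2 1150 3)) (.leaf (.up 2 304 0))) (.node (.leaf (.up 2 1011 3)) (.leaf (.up 3 294 3))))) (.node (.node (.node (.leaf (.up 5 986 3)) (.leaf (.up 3 271 3))) (.node (.leaf (.up 4 1582 2)) (.leaf (.up 3 1893 4)))) (.node (.node (.leaf (.up 5 1594 2)) (.leaf (.up 5 1686 3))) (.node (.leaf (.up 4 439 2)) (.leaf (.up 4 283 3))))))) (.node (.node (.node (.node (.node (.leaf (.up 1 42 0)) (.leaf (.up 5 1937 3))) (.node (.leaf (.up 5 554 0)) (.leaf (.up 4 1276 2)))) (.node (.node (.leaf (.up 2 733 3)) (.leaf (.up 1 8 3))) (.node (.leaf (.up 3 1360 3)) (.leaf (.up 4 86 0))))) (.node (.node (.node (.leaf (.up 3 711 5)) (.leaf (.up 2 1196 4))) (.node (.leaf (.up 6 756 3)) (.leaf (.up 1 33 3)))) (.node (.node (.leaf (.up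 3 399 2)) (.leaf (.up 2 563 5))) (.node (.leaf (.up 6 1538 2)) (.leaf (.up 2 1196 2)))))) (.node (.node (.node (.node (.leaf (.up 2 546 1)) (.leaf (.up 2 1406 1))) (.node (.leaf (.up 1 1 5)) (.leaf (.up 3 1918 1)))) (.node (.node (.leaf (.up 4 1300 3)) (.leaf (.up 2 330 4))) (.node (.leaf (.up 5 7 5)) (.leaf (.up 1 76 3))))) (.node (.node (.node (.leaf (.up 3 688 3)) (.leaf (.up 5 1157 2))) (.node (.leaf (.up 3 422 2)) (.leaf (.up 4 776 2)))) (.node (.node (.leaf (.up 4 1321 3)) (.leaf (.up 3 796 2))) (.node (.leaf (.up 3 1593 5)) (.leaf (.up 2 1739 5))))))))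

noncomputable def vt2_5_000 : Tr VStep := .node vt2_5_0000 vt2_5_0001

noncomputable def vt2_5_0010 : Tr VStep :=
  .node (.node (.node (.node (.node (.node (.node (.leaf (.up 2 1691 2)) (.leaf (.up 4 983 3))) (.node (.leaf (.up 2 272 0)) (.leaf (.up 5 1114 3)))) (.node (.node (.leaf (.up 2 1691 3)) (.leaf (.up 4 1474 5))) (.node (.leaf (.up 3 1679 2)) (.leaf (.up 5 1057 2))))) (.node (.node (.node (.leaf (.up 4 776 5)) (.leaf (.up 4 1002 3))) (.node (.leaf (.up 3 1714 3)) (.leaf (.up 3 1127 3)))) (.node (.node (.leaf (.up 2 1739 2)) (.leaf (.up 4 31 4))) (.node (.leaf (.up 3 1320 4)) (.leaf (.up 3 1000 2)))))) (.node (.node (.node (.node (.leaf (.up 2 1739 3)) (.leaf (.up 4 1529 4))) (.node (.leaf (.up 5 206 4)) (.leaf (.up 3 1515 4)))) (.node (.node (.leaf (.up 4 1605 5)) (.leaf (.up 4 913 2))) (.node (.leaf (.up 3 1714 2)) (.leaf (.up 2 1517 4))))) (.node (.node (.node (.leaf (.up 3 125 5)) (.leaf (.up 5 1059 3))) (.node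 (.leaf (.up 3 379 3)) (.leaf (.up 4 1794 5)))) (.node (.node (.leaf (.up 3 111 0)) (.leaf (.up 5 954 3))) (.node (.leaf (.up 3 2038 5)) (.leaf (.up 4 440 1))))))) (.node (.node (.node (.node (.node (.leaf (.up 4 104 3)) (.leaf (.up 3 957 2))) (.node (.leaf (.up 3 1694 2)) (.leaf (.up 1 2 5)))) (.node (.node (.leaf (.up 6 2033 3)) (.leaf (.up 2 1572 4))) (.node (.leaf (.up 7 124 3)) (.leaf (.up 3 4 5))))) (.node (.node (.node (.leaf (.up 2 323 5)) (.leaf (.up 4 1140 2))) (.node (.leaf (.up 4 1742 5)) (.leaf (.up 1 8 4)))) (.node (.node (.leaf (.up 2 323 2)) (.leaf (.up 4 439 5))) (.node (.leaf (.up 4 1742 2)) (.leaf (.up 3 14 4)))))) (.node (.node (.node (.node (.leaf (.up 5 1953 3)) (.leaf (.up 2 1396 3))) (.node (.leaf (.up 4 205 4)) (.leaf (.up 5 1512 4)))) (.node (.node (.leaf (.up 2 56 3)) (.leaf (.up 4 1049 2))) (.node (.leaf (.up 3 886 1)) (.leaf (.up 5 916 2))))) (.node (.node (.node (.leaf (.up 5 1948 3)) (.leaf (.up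 4 1353 3))) (.node (.leaf (.up 4 1467 5)) (.leaf (.up 4 1871 0)))) (.node (.node (.leaf (.up 3 5 3)) (.leaf (.up 4 706 5))) (.node (.leaf (.up 4 1331 0)) (.leaf (.up 2 1373 3)))))))) (.node (.node (.node (.node (.node (.node (.leaf (.up 2 274 0)) (.leaf (.up 5 1116 1))) (.node (.leaf (.up 2 786 0)) (.leaf (.up 4 979 3)))) (.node (.node (.leaf (.up 2 274 3)) (.leaf (.up 3 707 1))) (.node (.leaf (.up 2 274 4)) (.leaf (.up 4 1098 3))))) (.node (.node (.node (.leaf (.up 5 268 5)) (.leaf (.up 4 1123 3))) (.node (.leaf (.up 4 315 3)) (.leaf (.up 4 521 4)))) (.node (.node (.leaf (.up 3 1262 1)) (.leaf (.up 4 541 4))) (.node (.leaf (.up 4 1671 5)) (.leaf (.up 4 527 4)))))) (.node (.node (.node (.node (.leaf (.up 3 734 4)) (.leaf (.up 5 1620 1))) (.node (.leaf (.up 4 970 5)) (.leaf (.up 4 1050 3)))) (.node (.node (.leaf (.up 5 1089 5)) (.leaf (.up 4 2045 4))) (.node (.leaf (.up 4 315 2)) (.leaf (.up 3 830 5))))) (.node (.node (.node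 (.leaf (.up 3 633 5)) (.leaf (.up 4 1096 2))) (.node (.leaf (.up 3 633 1)) (.leaf (.up 5 529 0)))) (.node (.node (.leaf (.up 3 1248 4)) (.leaf (.up 4 653 5))) (.node (.leaf (.up 3 1522 5)) (.leaf (.up 5 471 4))))))) (.node (.node (.node (.node (.node (.leaf (.up 5 1401 5)) (.leaf (.up 3 1419 5))) (.node (.leaf (.up 6 1507 1)) (.leaf (.up 3 1074 4)))) (.node (.node (.leaf (.up 3 120 3)) (.leaf (.up 3 1074 0))) (.node (.leaf (.up 4 892 1)) (.leaf (.up 3 1312 3))))) (.node (.node (.node (.leaf (.up 4 839 5)) (.leaf (.up 5 949 5))) (.node (.leaf (.up 5 1226 5)) (.leaf (.up 4 644 3)))) (.node (.node (.leaf (.up 3 1738 2)) (.leaf (.up 3 1124 2))) (.node (.leaf (.up 4 1992 3)) (.leaf (.up 4 1361 1)))))) (.node (.node (.node (.node (.leaf (.up 1 40 3)) (.leaf (.up 3 2040 4))) (.node (.leaf (.up 2 116 0)) (.leaf (.up 2 371 5)))) (.node (.node (.leaf (.up 4 1546 5)) (.leaf (.up 1 8 0))) (.node (.leaf (.up 5 391 5)) (.leaf (.up 4 1053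 2))))) (.node (.node (.node (.leaf (.up 4 942 0)) (.leaf (.up 4 704 3))) (.node (.leaf (.up 5 1763 2)) (.leaf (.up 2 1101 2)))) (.node (.node (.leaf (.up 4 1932 3)) (.leaf (.up 2 198 5))) (.node (.leaf (.up 1 1 3)) (.leaf (.up 4 1881 1))))))))

noncomputable def vt2_5_0011 : Tr VStep :=
  .node (.node (.node (.node (.node (.node (.node (.leaf (.up 4 1202 4)) (.leaf (.up 3 102 2))) (.node (.leaf (.up 5 1852 3)) (.leaf (.up 3 389 4)))) (.node (.node (.leaf (.up 4 1460 5)) (.leaf (.up 5 401 4))) (.node (.leaf (.up 3 165 3)) (.leaf (.up 3 114 2))))) (.node (.node (.node (.leaf (.up 2 563 1)) (.leaf (.up 6 1967 2))) (.node (.leaf (.up 2 51 1)) (.leaf (.up 3 34 2)))) (.node (.node (.leaf (.up 2 1196 1)) (.leaf (.up 6 1472 3))) (.node (.leaf (.up 2 670 4)) (.leaf (.up 3 1269 5)))))) (.node (.node (.node (.node (.leaf (.root 424)) (.leaf (.up 5 91 2))) (.node (.leaf (.up 2 330 5)) (.leaf (.up 4 2006 2)))) (.node (.node (.leaf (.up 2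 1388 2)) (.leaf (.up 7 564 3))) (.node (.leaf (.up 3 1918 4)) (.leaf (.up 6 79 2))))) (.node (.node (.node (.leaf (.up 4 249 5)) (.leaf (.up 3 1895 1))) (.node (.leaf (.up 5 320 4)) (.leaf (.up 4 31 2)))) (.node (.node (.leaf (.up 2 1700 1)) (.leaf (.up 4 521 3))) (.node (.leaf (.up 3 1320 2)) (.leaf (.up 3 1377 0))))))) (.node (.node (.node (.node (.node (.leaf (.up 4 475 3)) (.leaf (.up 4 404 4))) (.node (.leaf (.up 2 116 5)) (.leaf (.up 3 390 4)))) (.node (.node (.leaf (.up 5 1207 4)) (.leaf (.up 4 1175 3))) (.node (.leaf (.up 3 114 5)) (.leaf (.up 5 128 5))))) (.node (.node (.node (.leaf (.up 4 486 3)) (.leaf (.up 1 39 2))) (.node (.leaf (.up 3 1147 0)) (.leaf (.up 2 1720 5)))) (.node (.node (.leaf (.up 6 1663 3)) (.leaf (.up 2 307 5))) (.node (.leaf (.up 5 1612 5)) (.leaf (.up 2 51 2)))))) (.node (.node (.node (.node (.leaf (.up 5 1554 3)) (.leaf (.up 2 1223 3))) (.node (.leaf (.up 4 415 3)) (.leaf (.up 2 1011 5)))) (.node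 (.node (.leaf (.up 3 1162 5)) (.leaf (.up 1 74 2))) (.node (.leaf (.up 4 1917 4)) (.leaf (.up 3 1642 1))))) (.node (.node (.node (.leaf (.up 4 1240 1)) (.leaf (.up 4 1140 4))) (.node (.leaf (.up 2 323 4)) (.leaf (.up 3 388 1)))) (.node (.node (.leaf (.up 5 1325 2)) (.leaf (.up 4 1923 2))) (.node (.leaf (.up 3 1337 5)) (.leaf (.up 3 1262 3)))))))) (.node (.node (.node (.node (.node (.node (.leaf (.up 3 1345 2)) (.leaf (.up 2 1517 3))) (.node (.leaf (.up 4 181 3)) (.leaf (.up 3 1052 0)))) (.node (.node (.leaf (.up 5 728 2)) (.leaf (.up 3 628 3))) (.node (.leaf (.up 2 1700 4)) (.leaf (.up 4 1529 3))))) (.node (.node (.node (.leaf (.up 3 136 4)) (.leaf (.up 5 378 5))) (.node (.leaf (.up 3 136 3)) (.leaf (.up 4 1471 4)))) (.node (.node (.leaf (.up 2 142 4)) (.leaf (.up 5 345 0))) (.node (.leaf (.up 3 1539 5)) (.leaf (.up 4 1010 1)))))) (.node (.node (.node (.node (.leaf (.up 2 1219 5)) (.leaf (.up 4 548 3))) (.node (.leaf (.up 2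 1916 3)) (.leaf (.up 5 38 0)))) (.node (.node (.leaf (.up 3 1390 4)) (.leaf (.up 4 1469 3))) (.node (.leaf (.up 2 1384 2)) (.leaf (.up 5 1721 0))))) (.node (.node (.node (.leaf (.up 5 204 3)) (.leaf (.up 3 1381 1))) (.node (.leaf (.up 2 1336 2)) (.leaf (.up 3 1893 1)))) (.node (.node (.leaf (.up 5 1877 3)) (.leaf (.up 4 521 5))) (.node (.leaf (.up 4 1398 5)) (.leaf (.up 4 506 1))))))) (.node (.node (.node (.node (.node (.leaf (.up 4 1443 0)) (.leaf (.up 3 767 1))) (.node (.leaf (.up 3 479 3)) (.leaf (.up 4 778 3)))) (.node (.node (.leaf (.up 3 1717 4)) (.leaf (.up 5 912 4))) (.node (.leaf (.up 2 1703 4)) (.leaf (.up 4 898 4))))) (.node (.node (.node (.leaf (.up 5 1647 3)) (.leaf (.up 3 1454 4))) (.node (.leaf (.up 4 153 4)) (.leaf (.up 1 35 2)))) (.node (.node (.leaf (.up 5 589 1)) (.leaf (.up 3 823 5))) (.node (.leaf (.up 4 1300 2)) (.leaf (.up 3 1466 4)))))) (.node (.node (.node (.node (.leaf (.up 6 409 0)) (.leaf (.up 1 78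 4))) (.node (.leaf (.up 5 1401 2)) (.leaf (.up 2 1219 3)))) (.node (.node (.leaf (.up 4 308 1)) (.leaf (.up 1 72 4))) (.node (.leaf (.up 3 399 3)) (.leaf (.up 1 78 2))))) (.node (.node (.node (.leaf (.up 3 422 3)) (.leaf (.up 3 68 5))) (.node (.leaf (.up 3 688 2)) (.leaf (.up 4 1696 0)))) (.node (.node (.leaf (.up 4 69 1)) (.leaf (.up 3 1258 3))) (.node (.leaf (.up 4 1321 2)) (.leaf (.up 4 1999 5))))))))

noncomputable def vt2_5_001 : Tr VStep := .node vt2_5_0010 vt2_5_0011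

noncomputable def vt2_5_00 : Tr VStep := .node vt2_5_000 vt2_5_001

noncomputable def vt2_5_0100 : Tr VStep :=
  .node (.node (.node (.node (.node (.node (.node (.leaf (.root 1002)) (.leaf (.up 6 1352 3))) (.node (.leaf (.up 3 1929 2)) (.leaf (.up 5 1843 4)))) (.node (.node (.leaf (.up 2 1949 2)) (.leaf (.up 4 1331 2))) (.node (.leaf (.up 3 528 4)) (.leaf (.up 3 1845 4))))) (.node (.node (.node (.leaf (.up 4 520 5)) (.leaf (.up 4 281 4))) (.node (.leaf (.up 3 1413 5)) (.leaf (.up 3 750 2)))) (.node (.node (.leaf (.up 4 84 2)) (.leaf (.up 3 748 3))) (.node (.leaf (.up 3 1064 4)) (.leaf (.up 3 1377 3)))))) (.node (.node (.node (.node (.leaf (.up 4 84 3)) (.leaf (.up 4 1104 0))) (.node (.leaf (.up 5 691 0)) (.leaf (.up 5 1616 0)))) (.node (.node (.leaf (.up 4 474 4)) (.leaf (.up 3 719 0))) (.node (.leaf (.up 5 456 4)) (.leaf (.up 4 643 2))))) (.node (.node (.node (.leaf (.up 1 105 3)) (.leaf (.up 3 399 5))) (.node (.leaf (.up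 3 2038 4)) (.leaf (.up 6 1538 5)))) (.node (.node (.leaf (.up 1 105 2)) (.leaf (.up 3 711 2))) (.node (.leaf (.up 3 2032 4)) (.leaf (.up 6 680 3))))))) (.node (.node (.node (.node (.node (.leaf (.up 2 1661 5)) (.leaf (.up 3 1679 5))) (.node (.leaf (.up 1 1 2)) (.leaf (.up 3 258 5)))) (.node (.node (.leaf (.up 4 366 3)) (.leaf (.up 3 1673 5))) (.node (.leaf (.up 5 1763 3)) (.leaf (.up 3 260 5))))) (.node (.node (.node (.leaf (.up 3 1738 3)) (.leaf (.up 4 1109 1))) (.node (.leaf (.up 4 1992 2)) (.leaf (.up 5 1852 5)))) (.node (.node (.leaf (.up 4 69 5)) (.leaf (.up 4 1394 2))) (.node (.leaf (.up 4 1992 5)) (.leaf (.up 3 767 2)))))) (.node (.node (.node (.node (.leaf (.up 3 479 4)) (.leaf (.up 4 780 0))) (.node (.leaf (.up 5 1519 0)) (.leaf (.up 5 268 0)))) (.node (.node (.leaf (.up 1 40 2)) (.leaf (.up 4 1532 5))) (.node (.leaf (.up 3 298 3)) (.leaf (.up 3 1262 4))))) (.node (.node (.node (.leaf (.up 3 2023 4)) (.leaf (.up 2 1629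 1))) (.node (.leaf (.up 6 1678 3)) (.leaf (.up 2 1115 3)))) (.node (.node (.leaf (.up 5 816 5)) (.leaf (.up 2 194 1))) (.node (.leaf (.up 6 2035 4)) (.leaf (.up 2 726 4)))))))) (.node (.node (.node (.node (.node (.node (.leaf (.up 3 6 4)) (.leaf (.up 3 1315 2))) (.node (.leaf (.up 1 0 2)) (.leaf (.up 4 104 0)))) (.node (.node (.leaf (.up 1 0 4)) (.leaf (.up 3 1368 3))) (.node (.leaf (.up 1 0 3)) (.leaf (.up 6 1783 0))))) (.node (.node (.node (.leaf (.up 3 68 2)) (.leaf (.up 4 254 5))) (.node (.leaf (.up 4 1361 0)) (.leaf (.up 3 1907 5)))) (.node (.node (.leaf (.up 5 10 5)) (.leaf (.up 3 1381 3))) (.node (.leaf (.up 4 61 3)) (.leaf (.up 4 783 4)))))) (.node (.node (.node (.node (.leaf (.up 5 990 4)) (.leaf (.up 4 1288 3))) (.node (.leaf (.up 4 61 2)) (.leaf (.up 4 1769 4)))) (.node (.node (.leaf (.up 3 68 3)) (.leaf (.up 3 657 3))) (.node (.leaf (.up 4 970 4)) (.leaf (.up 3 1775 4))))) (.node (.node (.node (.leaf (.up 3 875 0))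 (.leaf (.up 4 195 4))) (.node (.leaf (.up 3 1504 1)) (.leaf (.up 3 1416 0)))) (.node (.node (.leaf (.up 3 1504 4)) (.leaf (.up 4 684 3))) (.node (.leaf (.up 3 1522 4)) (.leaf (.up 3 707 2))))))) (.node (.node (.node (.node (.node (.leaf (.up 3 5 2)) (.leaf (.up 2 1163 5))) (.node (.leaf (.up 2 1012 5)) (.leaf (.up 3 774 5)))) (.node (.node (.leaf (.up 5 1765 1)) (.leaf (.up 3 1074 3))) (.node (.leaf (.up 4 1010 5)) (.leaf (.up 3 768 5))))) (.node (.node (.node (.leaf (.up 2 323 3)) (.leaf (.up 3 1262 0))) (.node (.leaf (.up 4 1742 3)) (.leaf (.up 2 1336 5)))) (.node (.node (.leaf (.up 3 85 2)) (.leaf (.up 5 691 5))) (.node (.leaf (.up 5 1484 5)) (.leaf (.up 4 898 3)))))) (.node (.node (.node (.node (.leaf (.up 2 56 2)) (.leaf (.up 5 1784 4))) (.node (.leaf (.up 3 114 1)) (.leaf (.up 4 1007 3)))) (.node (.node (.leaf (.up 5 882 0)) (.leaf (.up 3 2040 5))) (.node (.leaf (.up 4 135 5)) (.leaf (.up 4 1425 0))))) (.node (.node (.node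 (.leaf (.up 4 771 1)) (.leaf (.up 2 1375 2))) (.node (.leaf (.up 5 1527 4)) (.leaf (.up 4 1613 5)))) (.node (.node (.leaf (.up 4 104 2)) (.leaf (.up 2 198 4))) (.node (.leaf (.up 3 1694 3)) (.leaf (.up 4 1355 2))))))))

noncomputable def vt2_5_0101 : Tr VStep :=
  .node (.node (.node (.node (.node (.node (.node (.leaf (.up 4 1582 3)) (.leaf (.up 2 1275 3))) (.node (.leaf (.up 5 831 5)) (.leaf (.up 3 886 3)))) (.node (.node (.leaf (.up 4 1460 4)) (.leaf (.up 3 1304 0))) (.node (.leaf (.up 3 68 1)) (.leaf (.up 4 1816 0))))) (.node (.node (.node (.leaf (.up 2 1555 3)) (.leaf (.up 2 304 2))) (.node (.leaf (.up 3 920 4)) (.leaf (.up 5 843 3)))) (.node (.node (.leaf (.up 1 33 0)) (.leaf (.up 2 632 5))) (.node (.leaf (.up 2 1287 5)) (.leaf (.up 5 1525 5)))))) (.node (.node (.node (.node (.leaf (.root 570)) (.leaf (.up 3 1845 5))) (.node (.leaf (.up 1 74 5)) (.leaf (.up 4 911 1)))) (.node (.node (.leaf (.up 1 76 1)) (.leaf (.up 5 1843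 5))) (.node (.leaf (.up 1 76 5)) (.leaf (.up 4 806 3))))) (.node (.node (.node (.leaf (.up 4 931 2)) (.leaf (.up 4 267 5))) (.node (.leaf (.up 3 1652 5)) (.leaf (.up 2 1670 5)))) (.node (.node (.leaf (.up 4 84 4)) (.leaf (.up 3 1393 4))) (.node (.leaf (.up 3 829 1)) (.leaf (.up 4 281 2))))))) (.node (.node (.node (.node (.node (.leaf (.root 202)) (.leaf (.up 4 1425 3))) (.node (.leaf (.up 4 201 3)) (.leaf (.up 3 390 5)))) (.node (.node (.leaf (.up 2 1703 0)) (.leaf (.up 4 146 4))) (.node (.leaf (.up 4 1191 0)) (.leaf (.up 3 68 0))))) (.node (.node (.node (.leaf (.up 4 199 5)) (.leaf (.up 2 1720 2))) (.node (.leaf (.up 5 1866 5)) (.leaf (.up 2 309 2)))) (.node (.node (.leaf (.up 4 911 2)) (.leaf (.up 2 51 5))) (.node (.leaf (.up 5 1901 3)) (.leaf (.up 2 1720 4)))))) (.node (.node (.node (.node (.leaf (.up 7 141 3)) (.leaf (.up 2 1388 1))) (.node (.leaf (.up 6 1659 4)) (.leaf (.up 2 862 4)))) (.node (.node (.leaf (.up 3 1147 2))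 (.leaf (.up 2 1011 1))) (.node (.leaf (.up 2 1661 4)) (.leaf (.up 2 1150 0))))) (.node (.node (.node (.leaf (.up 5 1067 2)) (.leaf (.up 2 1396 4))) (.node (.leaf (.up 4 1087 5)) (.leaf (.up 5 1229 5)))) (.node (.node (.leaf (.up 2 1502 1)) (.leaf (.up 4 1532 3))) (.node (.leaf (.up 3 164 3)) (.leaf (.up 3 1227 5)))))))) (.node (.node (.node (.node (.node (.node (.leaf (.up 5 423 3)) (.leaf (.up 3 368 2))) (.node (.leaf (.up 4 315 5)) (.leaf (.up 3 457 5)))) (.node (.node (.leaf (.up 5 1095 2)) (.leaf (.up 4 1769 2))) (.node (.leaf (.up 4 970 2)) (.leaf (.up 3 356 2))))) (.node (.node (.node (.leaf (.up 3 136 5)) (.leaf (.up 5 847 3))) (.node (.leaf (.up 2 922 2)) (.leaf (.up 4 1218 3)))) (.node (.node (.leaf (.up 2 142 5)) (.leaf (.up 5 1728 0))) (.node (.leaf (.up 1 35 0)) (.leaf (.up 4 1216 0)))))) (.node (.node (.node (.node (.leaf (.up 3 1475 5)) (.leaf (.up 4 1471 0))) (.node (.leaf (.up 2 483 3)) (.leaf (.up 5 700 5))))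 (.node (.node (.leaf (.up 3 1477 5)) (.leaf (.up 4 800 0))) (.node (.leaf (.up 1 78 1)) (.leaf (.up 5 345 2))))) (.node (.node (.node (.leaf (.up 3 1619 3)) (.leaf (.up 4 1158 3))) (.node (.leaf (.up 4 478 3)) (.leaf (.up 3 1895 4)))) (.node (.node (.leaf (.up 3 598 4)) (.leaf (.up 3 1907 4))) (.node (.leaf (.up 4 1049 0)) (.leaf (.up 3 1635 1))))))) (.node (.node (.node (.node (.node (.leaf (.up 4 205 3)) (.leaf (.up 5 1784 2))) (.node (.leaf (.up 5 58 0)) (.leaf (.up 4 898 5)))) (.node (.node (.leaf (.up 2 1275 5)) (.leaf (.up 5 1409 3))) (.node (.leaf (.up 2 1701 0)) (.leaf (.up 4 1772 2))))) (.node (.node (.node (.leaf (.up 3 707 5)) (.leaf (.up 2 305 2))) (.node (.leaf (.up 4 1917 3)) (.leaf (.up 2 1724 2)))) (.node (.node (.leaf (.up 5 397 4)) (.leaf (.up 2 567 5))) (.node (.leaf (.up 4 415 4)) (.leaf (.up 3 136 1)))))) (.node (.node (.node (.node (.leaf (.up 4 1536 0)) (.leaf (.up 2 334 4))) (.node (.leaf (.up 3 5 5))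 (.leaf (.up 3 1390 1)))) (.node (.node (.leaf (.up 4 157 3)) (.leaf (.up 2 1916 5))) (.node (.leaf (.up 5 1151 2)) (.leaf (.up 3 1477 3))))) (.node (.node (.node (.leaf (.up 2 323 1)) (.leaf (.up 5 268 2))) (.node (.leaf (.up 3 1071 2)) (.leaf (.up 6 1737 5)))) (.node (.node (.leaf (.up 3 160 3)) (.leaf (.up 3 1446 0))) (.node (.leaf (.up 4 950 2)) (.leaf (.up 4 1890 4))))))))

noncomputable def vt2_5_010 : Tr VStep := .node vt2_5_0100 vt2_5_0101

noncomputable def vt2_5_0110 : Tr VStep :=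
  .node (.node (.node (.node (.node (.node (.node (.leaf (.up 2 1163 3)) (.leaf (.up 6 1507 0))) (.node (.leaf (.up 2 274 1)) (.leaf (.up 5 589 5)))) (.node (.node (.leaf (.up 2 1163 2)) (.leaf (.up 4 892 0))) (.node (.leaf (.up 2 786 4)) (.leaf (.up 5 1610 3))))) (.node (.node (.node (.leaf (.up 4 218 0)) (.leaf (.up 3 1635 3))) (.node (.leaf (.up 5 827 3)) (.leaf (.up 1 9 4)))) (.node (.node (.leaf (.up 2 1336 4)) (.leaf (.up 4 29 4))) (.node (.leaf (.up 5 1186 3)) (.leaf (.up 4 1655 3)))))) (.node (.node (.node (.node (.leaf (.up 6 815 2)) (.leaf (.up 3 1717 5))) (.node (.leaf (.up 5 1186 2)) (.leaf (.up 3 312 5)))) (.node (.node (.leaf (.up 4 1206 2)) (.leaf (.up 5 1560 2))) (.node (.leaf (.up 3 460 5)) (.leaf (.up 4 405 2))))) (.node (.node (.node (.leaf (.up 1 107 1)) (.leaf (.up 5 426 3))) (.node (.leaf (.up 3 1780 4)) (.leaf (.up 4 453 2)))) (.node (.node (.leaf (.up 3 1780 1)) (.leaf (.up 5 965 4))) (.node (.leaf (.up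 3 1266 2)) (.leaf (.up 4 983 4))))))) (.node (.node (.node (.node (.node (.leaf (.up 4 1505 3)) (.leaf (.up 3 1931 5))) (.node (.leaf (.up 5 1116 0)) (.leaf (.up 3 6 5)))) (.node (.node (.leaf (.up 2 632 3)) (.leaf (.up 4 1933 5))) (.node (.leaf (.up 3 707 0)) (.leaf (.up 1 0 5))))) (.node (.node (.node (.leaf (.up 4 851 2)) (.leaf (.up 4 24 4))) (.node (.leaf (.up 3 1738 5)) (.leaf (.up 5 132 3)))) (.node (.node (.leaf (.up 2 1339 4)) (.leaf (.up 2 144 3))) (.node (.leaf (.up 4 543 1)) (.leaf (.up 3 489 2)))))) (.node (.node (.node (.node (.leaf (.up 2 552 3)) (.leaf (.up 4 1545 2))) (.node (.leaf (.up 3 102 0)) (.leaf (.up 3 388 2)))) (.node (.node (.leaf (.up 3 1034 5)) (.leaf (.up 4 400 2))) (.node (.leaf (.up 4 201 4)) (.leaf (.up 3 885 5))))) (.node (.node (.node (.leaf (.up 3 562 5)) (.leaf (.up 4 704 5))) (.node (.leaf (.up 4 1471 5)) (.leaf (.up 2 1357 5)))) (.node (.node (.leaf (.up 3 1315 0)) (.leaf (.up 4 1625 2)))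 (.node (.leaf (.up 4 1827 0)) (.leaf (.up 4 468 2)))))))) (.node (.node (.node (.node (.node (.node (.leaf (.up 2 272 1)) (.leaf (.up 5 471 3))) (.node (.leaf (.up 3 790 2)) (.leaf (.up 4 440 2)))) (.node (.node (.leaf (.up 3 258 4)) (.leaf (.up 7 428 2))) (.node (.leaf (.up 2 1949 0)) (.leaf (.up 6 79 5))))) (.node (.node (.node (.leaf (.up 5 831 3)) (.leaf (.up 3 490 3))) (.node (.leaf (.up 4 1202 3)) (.leaf (.up 4 1655 5)))) (.node (.node (.leaf (.up 3 1227 2)) (.leaf (.up 3 164 0))) (.node (.leaf (.up 4 1832 4)) (.leaf (.up 4 525 4)))))) (.node (.node (.node (.node (.leaf (.up 3 732 4)) (.leaf (.up 4 1566 3))) (.node (.leaf (.up 2 1336 0)) (.leaf (.up 3 389 2)))) (.node (.node (.leaf (.up 5 831 2)) (.leaf (.up 5 401 2))) (.node (.leaf (.up 4 968 5)) (.leaf (.up 3 2029 4))))) (.node (.node (.node (.leaf (.up 3 1270 3)) (.leaf (.up 6 655 5))) (.node (.leaf (.up 1 105 1)) (.leaf (.up 1 1 0)))) (.node (.node (.leaf (.up 3 1250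 4)) (.leaf (.up 6 442 3))) (.node (.leaf (.up 3 1250 3)) (.leaf (.up 3 469 2))))))) (.node (.node (.node (.node (.node (.leaf (.up 5 616 3)) (.leaf (.up 3 189 0))) (.node (.leaf (.up 6 1509 3)) (.leaf (.up 4 1584 2)))) (.node (.node (.leaf (.up 3 257 4)) (.leaf (.up 2 1572 2))) (.node (.leaf (.up 4 758 5)) (.leaf (.up 3 516 5))))) (.node (.node (.node (.leaf (.up 3 1855 4)) (.leaf (.up 3 1652 2))) (.node (.leaf (.up 4 1666 1)) (.leaf (.up 4 520 4)))) (.node (.node (.leaf (.up 4 835 2)) (.leaf (.up 3 2040 0))) (.node (.leaf (.up 3 1224 5)) (.leaf (.up 4 1632 2)))))) (.node (.node (.node (.node (.leaf (.up 4 1441 3)) (.leaf (.up 5 1908 3))) (.node (.leaf (.up 3 389 5)) (.leaf (.up 4 1671 0)))) (.node (.node (.leaf (.up 3 356 1)) (.leaf (.up 3 237 3))) (.node (.leaf (.up 2 1275 0)) (.leaf (.up 4 404 2))))) (.node (.node (.node (.leaf (.up 6 1436 3)) (.leaf (.up 2 450 4))) (.node (.leaf (.up 3 874 2)) (.leaf (.up 4 982 1)))) (.node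 (.node (.leaf (.up 6 517 3)) (.leaf (.up 2 194 5))) (.node (.leaf (.up 3 1416 3)) (.leaf (.up 2 1629 2))))))))

noncomputable def vt2_5_0111 : Tr VStep :=
  .node (.node (.node (.node (.node (.node (.node (.leaf (.up 2 1336 3)) (.leaf (.up 3 2029 3))) (.node (.leaf (.up 3 237 0)) (.leaf (.up 4 1038 0)))) (.node (.node (.leaf (.up 4 1206 4)) (.leaf (.up 2 116 3))) (.node (.leaf (.up 5 573 5)) (.leaf (.up 3 719 5))))) (.node (.node (.node (.leaf (.up 1 35 1)) (.leaf (.up 4 1965 4))) (.node (.leaf (.up 2 311 0)) (.leaf (.up 5 1407 1)))) (.node (.node (.leaf (.up 2 1724 1)) (.leaf (.up 4 1471 2))) (.node (.leaf (.up 3 1297 3)) (.leaf (.up 3 562 2)))))) (.node (.node (.node (.node (.leaf (.root 316)) (.leaf (.up 5 589 4))) (.node (.leaf (.up 2 334 5)) (.leaf (.up 6 607 2)))) (.node (.node (.leaf (.up 1 72 0)) (.leaf (.up 5 1981 3))) (.node (.leaf (.up 2 1916 4)) (.leaf (.up 4 153 1))))) (.node (.node (.node (.leaf (.up 4 181 2))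 (.leaf (.up 5 539 2))) (.node (.leaf (.up 3 1345 3)) (.leaf (.up 3 1127 4)))) (.node (.node (.leaf (.up 4 251 5)) (.leaf (.up 1 9 5))) (.node (.leaf (.up 5 324 4)) (.leaf (.up 4 527 2))))))) (.node (.node (.node (.node (.node (.leaf (.up 4 201 2)) (.leaf (.up 4 1671 3))) (.node (.leaf (.up 2 991 3)) (.leaf (.up 3 388 4)))) (.node (.node (.leaf (.up 5 814 0)) (.leaf (.up 4 400 4))) (.node (.leaf (.up 4 1094 3)) (.leaf (.up 5 627 2))))) (.node (.node (.node (.leaf (.up 4 1216 1)) (.leaf (.up 2 305 5))) (.node (.leaf (.up 5 1728 1)) (.leaf (.up 2 1724 5)))) (.node (.node (.leaf (.up 4 153 2)) (.leaf (.up 2 567 2))) (.node (.leaf (.up 3 1147 3)) (.leaf (.up 3 1722 5)))))) (.node (.node (.node (.node (.leaf (.up 5 395 0)) (.leaf (.up 2 334 3))) (.node (.leaf (.up 4 773 5)) (.leaf (.up 2 1015 5)))) (.node (.node (.leaf (.up 3 294 1)) (.leaf (.up 2 1751 3))) (.node (.leaf (.up 4 911 3)) (.leaf (.up 3 1146 1))))) (.node (.node (.node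 (.leaf (.up 5 339 4)) (.leaf (.up 2 371 3))) (.node (.leaf (.up 2 1339 5)) (.leaf (.up 3 1124 4)))) (.node (.node (.leaf (.up 3 164 2)) (.leaf (.up 6 1770 3))) (.node (.leaf (.up 4 1833 2)) (.leaf (.up 3 1291 1)))))))) (.node (.node (.node (.node (.node (.node (.leaf (.up 3 1714 4)) (.leaf (.up 4 614 2))) (.node (.leaf (.up 4 1696 4)) (.leaf (.up 3 1515 2)))) (.node (.node (.leaf (.up 3 1320 3)) (.leaf (.up 4 913 4))) (.node (.leaf (.up 4 57 5)) (.leaf (.up 3 112 3))))) (.node (.node (.node (.leaf (.up 2 309 0)) (.leaf (.up 5 89 3))) (.node (.leaf (.up 1 33 1)) (.leaf (.up 2 546 2)))) (.node (.node (.leaf (.up 2 394 5)) (.leaf (.up 5 376 5))) (.node (.leaf (.up 3 664 3)) (.leaf (.up 4 1467 2)))))) (.node (.node (.node (.node (.leaf (.up 2 1223 5)) (.leaf (.up 4 1965 3))) (.node (.leaf (.up 2 1912 2)) (.leaf (.up 5 32 3)))) (.node (.node (.leaf (.up 2 1388 4)) (.leaf (.up 4 1474 2))) (.node (.leaf (.up 1 74 0)) (.leaf (.up 5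 91 4))))) (.node (.node (.node (.leaf (.up 5 1852 2)) (.leaf (.up 4 1655 4))) (.node (.leaf (.up 2 1396 5)) (.leaf (.up 4 29 3)))) (.node (.node (.leaf (.up 3 165 2)) (.leaf (.up 1 9 3))) (.node (.leaf (.up 4 1361 3)) (.leaf (.up 3 1635 4))))))) (.node (.node (.node (.node (.node (.leaf (.up 4 1529 5)) (.leaf (.up 3 1291 5))) (.node (.leaf (.up 3 628 5)) (.leaf (.up 4 611 2)))) (.node (.node (.leaf (.up 4 1719 4)) (.leaf (.up 5 1687 3))) (.node (.leaf (.up 2 1701 4)) (.leaf (.up 4 1999 0))))) (.node (.node (.node (.leaf (.up 5 967 5)) (.leaf (.up 2 307 3))) (.node (.leaf (.up 4 1098 5)) (.leaf (.up 3 138 0)))) (.node (.node (.leaf (.up 5 1151 3)) (.leaf (.up 3 819 5))) (.node (.leaf (.up 4 157 2)) (.leaf (.up 2 563 2)))))) (.node (.node (.node (.node (.leaf (.up 4 1917 2)) (.leaf (.up 1 76 4))) (.node (.leaf (.up 3 257 5)) (.leaf (.up 2 330 3)))) (.node (.node (.leaf (.up 6 228 2)) (.leaf (.up 1 74 4))) (.node (.leaf (.up 7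 263 5)) (.leaf (.up 2 1747 3))))) (.node (.node (.node (.leaf (.up 3 178 5)) (.leaf (.up 3 1652 4))) (.node (.leaf (.up 3 1855 5)) (.leaf (.up 4 1638 4)))) (.node (.node (.leaf (.up 4 597 1)) (.leaf (.up 5 355 3))) (.node (.leaf (.up 3 160 2)) (.leaf (.up 4 1774 3))))))))

noncomputable def vt2_5_011 : Tr VStep := .node vt2_5_0110 vt2_5_0111

noncomputable def vt2_5_01 : Tr VStep := .node vt2_5_010 vt2_5_011

noncomputable def vt2_5_0 : Tr VStep := .node vt2_5_00 vt2_5_01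

noncomputable def vt2_5_1000 : Tr VStep :=
  .node (.node (.node (.node (.node (.node (.node (.leaf (.root 1198)) (.leaf (.up 2 1287 3))) (.node (.leaf (.up 5 95 3)) (.leaf (.up 2 53 0)))) (.node (.node (.leaf (.up 2 546 4)) (.leaf (.up 2 670 3))) (.node (.leaf (.up 5 1990 3)) (.leaf (.up 2 1555 5))))) (.node (.node (.node (.leaf (.up 2 1517 2)) (.leaf (.up 4 1007 0))) (.node (.leaf (.up 4 1038 4)) (.leaf (.up 5 592 1)))) (.node (.node (.leaf (.up 3 628 2)) (.leaf (.up 4 319 4))) (.node (.leaf (.up 4 1529 2)) (.leaf (.up 5 301 4)))))) (.node (.node (.node (.node (.leaf (.up 3 748 0)) (.leaf (.up 4 749 5))) (.node (.leaf (.up 4 494 4)) (.leaf (.up 3 1227 4)))) (.node (.node (.leaf (.up 4 537 5)) (.leaf (.up 2 144 0))) (.node (.leaf (.up 4 525 2)) (.leaf (.up 5 1229 4))))) (.node (.node (.node (.leaf (.up 5 1057 5)) (.leaf (.up 3 1918 2))) (.node (.leaf (.up 4 2006 4)) (.leaf (.up 2 862 5)))) (.node (.node (.leaf (.up 5 1983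 3)) (.leaf (.up 2 1223 1))) (.node (.leaf (.up 4 50 3)) (.leaf (.up 2 842 0))))))) (.node (.node (.node (.node (.node (.leaf (.root 2248)) (.leaf (.up 4 1794 2))) (.node (.leaf (.up 2 1196 5)) (.leaf (.up 5 992 3)))) (.node (.node (.leaf (.up 3 1025 1)) (.leaf (.up 2 1012 3))) (.node (.leaf (.up 2 563 4)) (.leaf (.up 5 1145 3))))) (.node (.node (.node (.leaf (.up 4 1007 1)) (.leaf (.up 2 1517 5))) (.node (.leaf (.up 5 592 0)) (.leaf (.up 4 608 5)))) (.node (.node (.leaf (.up 4 1049 4)) (.leaf (.up 3 1515 5))) (.node (.leaf (.up 5 1035 4)) (.leaf (.up 4 614 5)))))) (.node (.node (.node (.node (.leaf (.up 4 1425 2)) (.leaf (.up 3 1855 2))) (.node (.leaf (.up 5 540 2)) (.leaf (.up 3 178 2)))) (.node (.node (.leaf (.up 4 520 2)) (.leaf (.up 2 1085 3))) (.node (.leaf (.up 3 1413 2)) (.leaf (.up 5 1835 2))))) (.node (.node (.node (.leaf (.up 2 487 1)) (.leaf (.up 7 921 3))) (.node (.leaf (.up 2 487 5)) (.leaf (.up 6 1044 3)))) (.node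 (.node (.leaf (.up 2 1912 1)) (.leaf (.up 3 1694 5))) (.node (.leaf (.up 3 245 0)) (.leaf (.up 4 226 2)))))))) (.node (.node (.node (.node (.node (.node (.leaf (.up 5 878 5)) (.leaf (.up 3 654 3))) (.node (.leaf (.up 4 2006 3)) (.leaf (.up 2 142 2)))) (.node (.node (.leaf (.up 5 32 4)) (.leaf (.up 2 922 5))) (.node (.leaf (.up 4 50 4)) (.leaf (.up 3 666 3))))) (.node (.node (.node (.leaf (.up 3 102 3)) (.leaf (.up 5 691 3))) (.node (.leaf (.up 2 733 5)) (.leaf (.up 4 559 5)))) (.node (.node (.leaf (.up 4 913 0)) (.leaf (.up 3 829 4))) (.node (.leaf (.up 3 114 3)) (.leaf (.up 4 553 5)))))) (.node (.node (.node (.node (.leaf (.up 4 1022 4)) (.leaf (.up 5 233 5))) (.node (.leaf (.up 3 750 0)) (.leaf (.up 4 714 3)))) (.node (.node (.leaf (.up 4 521 2)) (.leaf (.up 3 734 3))) (.node (.leaf (.up 4 1002 4)) (.leaf (.up 4 1460 1))))) (.node (.node (.node (.leaf (.up 4 308 0)) (.leaf (.up 2 1751 5))) (.node (.leaf (.up 3 34 3)) (.leaf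 (.up 3 759 3)))) (.node (.node (.leaf (.up 6 409 1)) (.leaf (.up 2 840 0))) (.node (.leaf (.up 5 430 5)) (.leaf (.up 3 1390 3))))))) (.node (.node (.node (.node (.node (.leaf (.up 2 305 3)) (.leaf (.up 5 471 5))) (.node (.leaf (.up 2 1724 3)) (.leaf (.up 4 1129 3)))) (.node (.node (.leaf (.up 1 35 4)) (.leaf (.up 5 1286 4))) (.node (.leaf (.up 3 1027 1)) (.leaf (.up 2 1012 0))))) (.node (.node (.node (.leaf (.up 5 1565 4)) (.leaf (.up 4 985 3))) (.node (.leaf (.up 4 1551 4)) (.leaf (.up 5 810 4)))) (.node (.node (.leaf (.up 3 1563 4)) (.leaf (.up 3 1088 3))) (.node (.leaf (.up 2 144 5)) (.leaf (.up 3 558 0)))))) (.node (.node (.node (.node (.leaf (.up 5 1970 0)) (.leaf (.up 4 1752 4))) (.node (.leaf (.up 4 1007 4)) (.leaf (.up 3 1738 4)))) (.node (.node (.leaf (.up 3 598 5)) (.leaf (.up 2 1486 0))) (.node (.leaf (.up 4 1772 3)) (.leaf (.up 4 1321 5))))) (.node (.node (.node (.leaf (.up 3 1477 4)) (.leaf (.up 4 1040 3))) (.node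 (.leaf (.up 3 485 1)) (.leaf (.up 5 1721 1)))) (.node (.node (.leaf (.up 2 584 2)) (.leaf (.up 4 230 2))) (.node (.leaf (.up 3 1477 2)) (.leaf (.up 5 38 1))))))))

noncomputable def vt2_5_1001 : Tr VStep :=
  .node (.node (.node (.node (.node (.node (.node (.leaf (.root 1026)) (.leaf (.up 4 1241 2))) (.node (.leaf (.up 3 1635 5)) (.leaf (.up 3 165 4)))) (.node (.node (.leaf (.up 4 494 2)) (.leaf (.up 6 832 2))) (.node (.leaf (.up 3 1635 2)) (.leaf (.up 5 1229 2))))) (.node (.node (.node (.leaf (.up 6 2000 5)) (.leaf (.up 1 2 0))) (.node (.leaf (.up 7 465 3)) (.leaf (.up 2 1693 4)))) (.node (.node (.leaf (.up 4 2006 5)) (.leaf (.up 2 1161 2))) (.node (.leaf (.up 5 426 2)) (.leaf (.up 2 1691 4)))))) (.node (.node (.node (.node (.leaf (.up 3 257 0)) (.leaf (.up 3 893 3))) (.node (.leaf (.up 6 1573 3)) (.leaf (.up 3 873 1)))) (.node (.node (.leaf (.up 5 1612 4)) (.leaf (.up 3 2038 1))) (.node (.leaf (.up 6 444 3)) (.leaf (.up 3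 873 3))))) (.node (.node (.node (.leaf (.up 3 114 4)) (.leaf (.up 4 1111 5))) (.node (.leaf (.up 5 1348 1)) (.leaf (.up 5 1229 3)))) (.node (.node (.leaf (.up 2 116 4)) (.leaf (.up 4 1671 1))) (.node (.leaf (.up 3 102 4)) (.leaf (.up 5 852 3))))))) (.node (.node (.node (.node (.node (.leaf (.up 4 1425 4)) (.leaf (.up 2 1502 3))) (.node (.leaf (.up 3 1064 5)) (.leaf (.up 4 1410 1)))) (.node (.node (.leaf (.up 4 1638 2)) (.leaf (.up 3 178 4))) (.node (.leaf (.up 3 1413 4)) (.leaf (.up 3 160 4))))) (.node (.node (.node (.leaf (.up 3 1435 5)) (.leaf (.up 4 1385 5))) (.node (.leaf (.up 3 445 0)) (.leaf (.up 3 1694 4)))) (.node (.node (.leaf (.up 4 1437 5)) (.leaf (.up 4 634 3))) (.node (.leaf (.up 3 528 5)) (.leaf (.up 5 1527 3)))))) (.node (.node (.node (.node (.leaf (.root 1504)) (.leaf (.up 3 34 5))) (.node (.leaf (.up 4 1871 3)) (.leaf (.up 6 1967 5)))) (.node (.node (.leaf (.up 2 194 0)) (.leaf (.up 3 874 4))) (.node (.leaf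 (.up 2 1629 4)) (.leaf (.up 6 515 3))))) (.node (.node (.node (.leaf (.up 4 1774 5)) (.leaf (.up 2 1275 1))) (.node (.leaf (.up 3 390 2)) (.leaf (.up 3 356 0)))) (.node (.node (.leaf (.up 2 1336 1)) (.leaf (.up 3 828 2))) (.node (.leaf (.up 5 101 4)) (.leaf (.up 4 574 3)))))))) (.node (.node (.node (.node (.node (.node (.leaf (.up 4 1002 5)) (.leaf (.up 3 829 3))) (.node (.leaf (.up 3 1127 5)) (.leaf (.up 4 1173 5)))) (.node (.node (.leaf (.up 3 422 0)) (.leaf (.up 5 691 4))) (.node (.leaf (.up 3 490 2)) (.leaf (.up 4 1532 1))))) (.node (.node (.node (.leaf (.up 3 469 3)) (.leaf (.up 3 768 3))) (.node (.leaf (.up 4 1251 0)) (.leaf (.up 1 0 0)))) (.node (.node (.leaf (.up 5 1612 3)) (.leaf (.up 2 1163 4))) (.node (.leaf (.up 6 607 5)) (.leaf (.up 3 1695 0)))))) (.node (.node (.node (.node (.leaf (.up 4 1096 4)) (.leaf (.up 3 365 4))) (.node (.leaf (.up 5 259 0)) (.leaf (.up 3 1248 2)))) (.node (.node (.leaf (.up 4 153 5)) (.leaf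 (.up 1 107 5))) (.node (.leaf (.up 5 471 2)) (.leaf (.up 3 1248 3))))) (.node (.node (.node (.leaf (.up 4 1564 3)) (.leaf (.up 3 1619 5))) (.node (.leaf (.up 5 401 3)) (.leaf (.up 4 478 5)))) (.node (.node (.leaf (.up 2 1703 5)) (.leaf (.up 3 829 2))) (.node (.leaf (.up 3 298 5)) (.leaf (.up 6 1245 3))))))) (.node (.node (.node (.node (.node (.leaf (.up 3 732 1)) (.leaf (.up 4 1240 2))) (.node (.leaf (.up 4 1807 3)) (.leaf (.up 2 1670 0)))) (.node (.node (.leaf (.up 5 423 5)) (.leaf (.up 2 1486 3))) (.node (.leaf (.up 4 1578 5)) (.leaf (.up 4 1752 5))))) (.node (.node (.node (.leaf (.up 3 447 0)) (.leaf (.up 5 1265 1))) (.node (.leaf (.up 3 441 4)) (.leaf (.up 4 1511 3)))) (.node (.node (.leaf (.up 2 1830 3)) (.leaf (.up 5 963 0))) (.node (.leaf (.up 3 447 4)) (.leaf (.up 4 638 3)))))) (.node (.node (.node (.node (.leaf (.up 4 1099 4)) (.leaf (.up 4 366 4))) (.node (.leaf (.up 2 198 3)) (.leaf (.up 3 1416 1)))) (.node (.node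 (.leaf (.up 2 1101 4)) (.leaf (.up 4 544 5))) (.node (.leaf (.up 2 1375 5)) (.leaf (.up 3 1418 3))))) (.node (.node (.node (.leaf (.up 3 1258 5)) (.leaf (.up 4 812 2))) (.node (.leaf (.up 4 251 3)) (.leaf (.up 3 1860 4)))) (.node (.node (.leaf (.up 3 1563 2)) (.leaf (.up 3 102 1))) (.node (.leaf (.up 4 1890 3)) (.leaf (.up 4 614 1))))))))

noncomputable def vt2_5_100 : Tr VStep := .node vt2_5_1000 vt2_5_1001

noncomputable def vt2_5_1010 : Tr VStep :=
  .node (.node (.node (.node (.node (.node (.node (.leaf (.up 2 1012 1)) (.leaf (.up 3 1553 3))) (.node (.leaf (.up 5 820 4)) (.leaf (.up 3 1553 4)))) (.node (.node (.leaf (.up 4 104 5)) (.leaf (.up 2 567 1))) (.node (.leaf (.up 3 2021 5)) (.leaf (.up 4 1559 4))))) (.node (.node (.node (.leaf (.up 5 1616 5)) (.leaf (.up 4 1109 2))) (.node (.leaf (.up 4 374 2)) (.leaf (.up 5 417 3)))) (.node (.node (.leaf (.up 2 354 2)) (.leaf (.up 2 1700 5))) (.node (.leaf (.up 3 1775 2)) (.leaf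 (.up 5 1089 2)))))) (.node (.node (.node (.node (.leaf (.up 3 271 2)) (.leaf (.up 4 1696 1))) (.node (.leaf (.up 3 1381 0)) (.leaf (.up 3 1124 5)))) (.node (.node (.leaf (.up 3 797 5)) (.leaf (.up 4 1007 5))) (.node (.leaf (.up 4 283 2)) (.leaf (.up 3 460 3))))) (.node (.node (.node (.leaf (.up 5 816 3)) (.leaf (.up 3 485 3))) (.node (.leaf (.up 4 653 1)) (.leaf (.up 3 92 0)))) (.node (.node (.leaf (.up 3 1315 5)) (.leaf (.up 2 334 1))) (.node (.leaf (.up 4 1746 2)) (.leaf (.up 2 1015 4))))))) (.node (.node (.node (.node (.node (.leaf (.up 3 1027 0)) (.leaf (.up 4 1536 4))) (.node (.leaf (.up 2 311 2)) (.leaf (.up 5 1554 4)))) (.node (.node (.leaf (.up 2 567 3)) (.leaf (.up 4 226 3))) (.node (.leaf (.up 3 1710 2)) (.leaf (.up 3 1903 3))))) (.node (.node (.node (.leaf (.up 2 371 2)) (.leaf (.up 2 56 4))) (.node (.leaf (.up 5 1790 2)) (.leaf (.up 1 42 4)))) (.node (.node (.leaf (.up 4 1053 5)) (.leaf (.up 5 1092 2))) (.node (.leaf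 (.up 5 912 5)) (.leaf (.up 4 969 2)))))) (.node (.node (.node (.node (.leaf (.up 4 1671 2)) (.leaf (.up 3 178 3))) (.node (.leaf (.up 5 266 2)) (.leaf (.up 3 1855 3)))) (.node (.node (.leaf (.up 4 251 4)) (.leaf (.up 2 1502 4))) (.node (.leaf (.up 5 627 3)) (.leaf (.up 2 1085 2))))) (.node (.node (.node (.leaf (.up 2 334 2)) (.leaf (.up 5 1948 5))) (.node (.leaf (.up 2 1751 4)) (.leaf (.up 4 1794 3)))) (.node (.node (.leaf (.up 2 1751 2)) (.leaf (.up 5 1946 5))) (.node (.leaf (.up 2 1404 0)) (.leaf (.up 2 1012 2)))))))) (.node (.node (.node (.node (.node (.node (.leaf (.up 5 845 3)) (.leaf (.up 3 664 5))) (.node (.leaf (.up 4 1216 3)) (.leaf (.up 3 920 2)))) (.node (.node (.leaf (.up 5 620 5)) (.leaf (.up 2 670 5))) (.node (.leaf (.up 2 304 4)) (.leaf (.up 3 1025 2))))) (.node (.node (.node (.leaf (.up 4 135 0)) (.leaf (.up 3 1124 0))) (.node (.leaf (.up 4 1277 3)) (.leaf (.up 4 1576 3)))) (.node (.node (.leaf (.up 3 1257 3))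 (.leaf (.up 5 1184 5))) (.node (.leaf (.up 2 991 5)) (.leaf (.up 4 968 2)))))) (.node (.node (.node (.node (.leaf (.up 2 1670 2)) (.leaf (.up 3 1064 2))) (.node (.leaf (.up 3 750 4)) (.leaf (.up 4 1632 5)))) (.node (.node (.leaf (.up 3 1377 1)) (.leaf (.up 3 945 2))) (.node (.leaf (.up 4 1168 3)) (.leaf (.up 4 1605 3))))) (.node (.node (.node (.leaf (.up 6 335 2)) (.leaf (.up 3 94 0))) (.node (.leaf (.up 5 820 3)) (.leaf (.up 3 1132 2)))) (.node (.node (.leaf (.up 2 1750 2)) (.leaf (.up 2 487 4))) (.node (.leaf (.up 3 34 0)) (.leaf (.up 3 1013 2))))))) (.node (.node (.node (.node (.node (.leaf (.up 1 33 5)) (.leaf (.up 5 242 3))) (.node (.leaf (.up 2 309 4)) (.leaf (.up 4 1040 2)))) (.node (.node (.leaf (.up 1 39 5)) (.leaf (.up 5 1899 3))) (.node (.leaf (.up 2 394 1)) (.leaf (.up 2 1750 1))))) (.node (.node (.node (.leaf (.up 3 1124 1)) (.leaf (.up 4 824 0))) (.node (.leaf (.up 4 1431 3)) (.leaf (.up 2 552 4)))) (.node (.node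 (.leaf (.up 5 355 2)) (.leaf (.up 4 973 2))) (.node (.leaf (.up 4 1774 2)) (.leaf (.up 3 1088 2)))))) (.node (.node (.node (.node (.leaf (.up 3 767 4)) (.leaf (.up 4 2010 4))) (.node (.leaf (.up 4 749 4)) (.leaf (.up 4 1240 0)))) (.node (.node (.leaf (.up 5 1687 2)) (.leaf (.up 4 928 5))) (.node (.leaf (.up 2 1700 0)) (.leaf (.up 5 1998 4))))) (.node (.node (.node (.leaf (.up 2 1223 4)) (.leaf (.up 2 304 1))) (.node (.leaf (.up 2 330 2)) (.leaf (.up 3 496 4)))) (.node (.node (.leaf (.up 2 1388 5)) (.leaf (.up 4 484 4))) (.node (.leaf (.up 2 1747 2)) (.leaf (.up 7 1810 3))))))))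

noncomputable def vt2_5_1011 : Tr VStep :=
  .node (.node (.node (.node (.node (.node (.node (.leaf (.up 3 1377 2)) (.leaf (.up 4 1999 2))) (.node (.leaf (.up 3 748 2)) (.leaf (.up 5 423 4)))) (.node (.node (.leaf (.up 3 750 3)) (.leaf (.up 4 86 2))) (.node (.leaf (.up 4 1379 3)) (.leaf (.up 5 417 4))))) (.node (.node (.node (.leaf (.up 6 1748 5)) (.leaf (.up 3 1419 0))) (.node (.leaf (.up 3 711 3)) (.leaf (.up 3 1931 0)))) (.node (.node (.leaf (.up 4 1746 5)) (.leaf (.up 3 1931 4))) (.node (.leaf (.up 5 700 2)) (.leaf (.up 3 1931 3)))))) (.node (.node (.node (.node (.leaf (.up 5 702 3)) (.leaf (.up 1 107 0))) (.node (.leaf (.up 4 1331 3)) (.leaf (.up 3 1248 5)))) (.node (.node (.leaf (.up 3 1315 1)) (.leaf (.up 1 107 2))) (.node (.leaf (.up 4 1827 1)) (.leaf (.up 3 633 4))))) (.node (.node (.node (.leaf (.up 3 368 4)) (.leaf (.up 4 1109 4))) (.node (.leaf (.up 2 354 4)) (.leaf (.up 3 734 5)))) (.node (.node (.leaf (.up 4 374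 4)) (.leaf (.up 4 1107 4))) (.node (.leaf (.up 3 356 4)) (.leaf (.up 5 1089 4))))))) (.node (.node (.node (.node (.node (.leaf (.up 4 1053 3)) (.leaf (.up 5 1736 3))) (.node (.leaf (.up 5 912 3)) (.leaf (.up 2 1502 5)))) (.node (.node (.leaf (.up 4 1173 4)) (.leaf (.up 4 2014 2))) (.node (.leaf (.up 5 456 1)) (.leaf (.up 4 83 2))))) (.node (.node (.node (.leaf (.up 3 683 4)) (.leaf (.up 4 1133 5))) (.node (.leaf (.up 2 786 5)) (.leaf (.up 3 215 0)))) (.node (.node (.leaf (.up 3 685 4)) (.leaf (.up 4 1096 0))) (.node (.leaf (.up 3 683 0)) (.leaf (.up 3 2021 1)))))) (.node (.node (.node (.node (.leaf (.up 4 468 5)) (.leaf (.up 3 257 3))) (.node (.leaf (.up 2 1375 1)) (.leaf (.up 4 1707 5)))) (.node (.node (.leaf (.up 2 1101 3)) (.leaf (.up 5 616 4))) (.node (.leaf (.up 4 704 2)) (.leaf (.up 4 634 4))))) (.node (.node (.node (.leaf (.up 2 371 4)) (.leaf (.up 4 1971 2))) (.node (.leaf (.up 3 1124 3)) (.leaf (.up 5 149 5)))) (.node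 (.node (.leaf (.up 4 2028 5)) (.leaf (.up 1 42 2))) (.node (.leaf (.up 5 97 5)) (.leaf (.up 2 1517 1)))))))) (.node (.node (.node (.node (.node (.node (.leaf (.up 3 750 5)) (.leaf (.up 3 1258 1))) (.node (.leaf (.up 3 1381 2)) (.leaf (.up 4 1425 5)))) (.node (.node (.leaf (.up 3 1393 2)) (.leaf (.up 3 945 4))) (.node (.leaf (.up 2 1670 4)) (.leaf (.up 4 931 4))))) (.node (.node (.node (.leaf (.up 3 711 1)) (.leaf (.up 3 1435 1))) (.node (.leaf (.up 4 184 4)) (.leaf (.up 1 2 2)))) (.node (.node (.leaf (.up 5 172 4)) (.leaf (.up 3 1417 4))) (.node (.leaf (.up 6 727 3)) (.leaf (.up 1 2 3)))))) (.node (.node (.node (.node (.leaf (.up 6 411 5)) (.leaf (.up 3 111 4))) (.node (.leaf (.up 3 1368 2)) (.leaf (.up 1 105 0)))) (.node (.node (.leaf (.up 6 686 3)) (.leaf (.up 1 105 4))) (.node (.leaf (.up 3 1315 3)) (.leaf (.up 3 2038 3))))) (.node (.node (.node (.leaf (.up 4 1290 3)) (.leaf (.up 5 1623 4))) (.node (.leaf (.up 1 40 5)) (.leaf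 (.up 4 1605 4)))) (.node (.node (.leaf (.up 5 1616 1)) (.leaf (.up 5 1873 5))) (.node (.leaf (.up 4 1104 1)) (.leaf (.up 4 780 1))))))) (.node (.node (.node (.node (.node (.leaf (.up 3 165 5)) (.leaf (.up 1 9 1))) (.node (.leaf (.up 4 1049 3)) (.leaf (.up 4 2010 5)))) (.node (.node (.leaf (.up 5 1687 4)) (.leaf (.up 4 1752 3))) (.node (.leaf (.up 2 1396 2)) (.leaf (.up 4 2010 2))))) (.node (.node (.node (.leaf (.up 2 1691 5)) (.leaf (.up 5 7 2))) (.node (.leaf (.up 3 1316 2)) (.leaf (.up 4 484 5)))) (.node (.node (.leaf (.up 2 1693 5)) (.leaf (.up 3 2023 1))) (.node (.leaf (.up 2 272 5)) (.leaf (.up 4 1098 0)))))) (.node (.node (.node (.node (.leaf (.up 2 1373 1)) (.leaf (.up 6 802 5))) (.node (.leaf (.up 4 982 0)) (.leaf (.up 1 1 1)))) (.node (.node (.leaf (.up 4 982 5)) (.leaf (.up 6 273 3))) (.node (.leaf (.up 2 450 1)) (.leaf (.up 3 2023 2))))) (.node (.node (.node (.leaf (.up 5 660 2)) (.leaf (.up 3 1717 3))) (.node (.leaf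 (.up 4 867 4)) (.leaf (.up 3 368 1)))) (.node (.node (.leaf (.up 5 691 1)) (.leaf (.up 5 1519 1))) (.node (.leaf (.up 4 1140 3)) (.leaf (.up 3 1600 4))))))))

noncomputable def vt2_5_101 : Tr VStep := .node vt2_5_1010 vt2_5_1011

noncomputable def vt2_5_10 : Tr VStep := .node vt2_5_100 vt2_5_101

noncomputable def vt2_5_1100 : Tr VStep :=
  .node (.node (.node (.node (.node (.node (.node (.leaf (.up 4 1133 1)) (.leaf (.up 2 142 3))) (.node (.leaf (.up 5 1763 5)) (.leaf (.up 2 305 1)))) (.node (.node (.leaf (.up 4 544 4)) (.leaf (.up 3 666 2))) (.node (.leaf (.up 3 562 4)) (.leaf (.up 3 1303 2))))) (.node (.node (.node (.leaf (.up 4 614 3)) (.leaf (.up 4 315 4))) (.node (.leaf (.up 3 1515 3)) (.leaf (.up 5 297 4)))) (.node (.node (.leaf (.up 4 1535 3)) (.leaf (.up 4 1834 3))) (.node (.leaf (.up 3 1034 4)) (.leaf (.up 3 734 2)))))) (.node (.node (.node (.node (.leaf (.up 4 252 0)) (.leaf (.up 4 745 5))) (.node (.leaf (.up 4 29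 2)) (.leaf (.up 5 1380 5)))) (.node (.node (.leaf (.up 1 9 2)) (.leaf (.up 4 1958 1))) (.node (.leaf (.up 3 490 4)) (.leaf (.up 3 1446 1))))) (.node (.node (.node (.leaf (.up 3 294 0)) (.leaf (.up 1 72 1))) (.node (.leaf (.up 2 546 3)) (.leaf (.up 2 858 5)))) (.node (.node (.leaf (.up 5 1059 5)) (.leaf (.up 2 1751 1))) (.node (.leaf (.up 4 2002 4)) (.leaf (.up 3 759 4))))))) (.node (.node (.node (.node (.node (.leaf (.root 1776)) (.leaf (.up 4 2002 1))) (.node (.leaf (.up 2 567 4)) (.leaf (.up 5 1401 0)))) (.node (.node (.leaf (.up 3 1553 1)) (.leaf (.up 2 1661 3))) (.node (.leaf (.up 3 561 4)) (.leaf (.up 3 496 3))))) (.node (.node (.node (.leaf (.up 4 1053 4)) (.leaf (.up 3 473 3))) (.node (.leaf (.up 5 97 2)) (.leaf (.up 3 719 2)))) (.node (.node (.leaf (.up 4 1173 3)) (.leaf (.up 3 1600 3))) (.node (.leaf (.up 3 2040 2)) (.leaf (.up 4 572 0)))))) (.node (.node (.node (.node (.leaf (.up 4 24 2)) (.leaf (.up 3 1581 3))) (.node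 (.leaf (.up 3 885 3)) (.leaf (.up 2 1339 2)))) (.node (.node (.leaf (.up 4 1049 1)) (.leaf (.up 3 164 5))) (.node (.leaf (.up 3 489 4)) (.leaf (.up 3 1593 3))))) (.node (.node (.node (.leaf (.up 2 1015 1)) (.leaf (.up 3 1552 3))) (.node (.leaf (.up 2 483 5)) (.leaf (.up 4 153 0)))) (.node (.node (.leaf (.up 1 72 2)) (.leaf (.up 5 393 3))) (.node (.leaf (.up 3 485 5)) (.leaf (.up 6 756 4)))))))) (.node (.node (.node (.node (.node (.node (.leaf (.up 3 874 5)) (.leaf (.up 2 307 1))) (.node (.leaf (.up 6 607 3)) (.leaf (.up 1 39 0)))) (.node (.node (.leaf (.up 3 34 4)) (.leaf (.up 2 1287 4))) (.node (.leaf (.up 6 1478 3)) (.leaf (.up 2 670 2))))) (.node (.node (.node (.leaf (.up 3 2029 2)) (.leaf (.up 3 1446 5))) (.node (.leaf (.up 5 1310 0)) (.leaf (.up 4 183 3)))) (.node (.node (.leaf (.up 2 116 2)) (.leaf (.up 5 831 4))) (.node (.leaf (.up 5 1531 3)) (.leaf (.up 4 1890 0)))))) (.node (.node (.node (.node (.leaf (.up 3 1127 1))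 (.leaf (.up 3 237 5))) (.node (.leaf (.up 4 254 0)) (.leaf (.up 2 1739 4)))) (.node (.node (.leaf (.up 4 1920 2)) (.leaf (.up 5 235 5))) (.node (.leaf (.up 3 1000 4)) (.leaf (.up 4 1741 4))))) (.node (.node (.node (.leaf (.up 6 550 3)) (.leaf (.up 2 1747 5))) (.node (.leaf (.up 7 428 5)) (.leaf (.up 1 74 1)))) (.node (.node (.leaf (.up 4 1471 3)) (.leaf (.up 3 231 4))) (.node (.leaf (.up 3 562 3)) (.leaf (.up 3 231 3))))))) (.node (.node (.node (.node (.node (.leaf (.up 1 39 4)) (.leaf (.up 5 1282 2))) (.node (.leaf (.up 1 33 2)) (.leaf (.up 6 655 2)))) (.node (.node (.leaf (.up 1 33 4)) (.leaf (.up 3 469 5))) (.node (.leaf (.up 2 1555 1)) (.leaf (.up 4 1657 3))))) (.node (.node (.node (.leaf (.up 5 1157 3)) (.leaf (.up 3 2029 5))) (.node (.leaf (.up 4 776 3)) (.leaf (.up 5 808 4)))) (.node (.node (.leaf (.up 3 796 3)) (.leaf (.up 3 457 3))) (.node (.leaf (.up 4 1890 1)) (.leaf (.up 3 102 5)))))) (.node (.node (.node (.node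 (.leaf (.up 5 1937 2)) (.leaf (.up 3 420 3))) (.node (.leaf (.up 4 1497 5)) (.leaf (.up 5 1736 4)))) (.node (.node (.leaf (.up 1 8 2)) (.leaf (.up 4 2014 0))) (.node (.leaf (.up 4 1503 5)) (.leaf (.up 2 1502 0))))) (.node (.node (.node (.leaf (.up 3 1479 4)) (.leaf (.up 4 226 4))) (.node (.leaf (.up 3 1013 1)) (.leaf (.up 3 789 5)))) (.node (.node (.leaf (.up 3 1473 4)) (.leaf (.up 4 1536 3))) (.node (.leaf (.up 1 76 2)) (.leaf (.up 5 397 3))))))))

noncomputable def vt2_5_1101 : Tr VStep :=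
  .node (.node (.node (.node (.node (.node (.node (.leaf (.up 3 1000 3)) (.leaf (.up 4 181 4))) (.node (.leaf (.up 4 1139 2)) (.leaf (.up 5 456 0)))) (.node (.node (.leaf (.up 3 1127 2)) (.leaf (.up 2 1700 3))) (.node (.leaf (.up 4 1633 5)) (.leaf (.up 5 324 2))))) (.node (.node (.node (.leaf (.up 4 981 3)) (.leaf (.up 1 0 1))) (.node (.leaf (.up 5 1265 0)) (.leaf (.up 3 1695 4)))) (.node (.node (.leaf (.up 4 2002 5)) (.leaf (.up 2 1689 3))) (.node (.leaf (.up 5 956 4)) (.leaf (.up 2 1689 4)))))) (.node (.node (.node (.node (.leaf (.up 5 1608 4)) (.leaf (.up 3 1780 3))) (.node (.leaf (.up 4 1298 5)) (.leaf (.up 3 377 1)))) (.node (.node (.leaf (.up 5 1114 2)) (.leaf (.up 3 1780 2))) (.node (.leaf (.up 4 1300 5)) (.leaf (.up 3 377 2))))) (.node (.node (.node (.leaf (.up 3 1052 3)) (.leaf (.up 2 1700 2))) (.node (.leaf (.up 4 913 3)) (.leaf (.up 1 8 1)))) (.node (.node (.leaf (.up 4 1191 5)) (.leaf (.up 4 1109 5))) (.node (.leaf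 (.up 5 1620 0)) (.leaf (.up 3 1345 4))))))) (.node (.node (.node (.node (.node (.leaf (.up 4 642 3)) (.leaf (.up 4 1752 2))) (.node (.leaf (.up 5 206 1)) (.leaf (.up 3 164 4)))) (.node (.node (.leaf (.up 4 935 5)) (.leaf (.up 5 321 2))) (.node (.leaf (.up 5 1066 5)) (.leaf (.up 4 1240 5))))) (.node (.node (.node (.leaf (.up 3 703 3)) (.leaf (.up 4 1251 1))) (.node (.leaf (.up 2 530 5)) (.leaf (.up 3 2023 3)))) (.node (.node (.leaf (.up 3 1433 5)) (.leaf (.up 6 977 0))) (.node (.leaf (.up 3 683 3)) (.leaf (.up 5 742 5)))))) (.node (.node (.node (.node (.leaf (.root 1000)) (.leaf (.up 5 878 4))) (.node (.leaf (.up 4 1625 4)) (.leaf (.up 4 892 4)))) (.node (.node (.leaf (.up 4 1625 1)) (.leaf (.up 5 32 5))) (.node (.leaf (.up 2 1375 3)) (.leaf (.up 4 1965 5))))) (.node (.node (.node (.leaf (.up 4 898 2)) (.leaf (.up 5 1560 5))) (.node (.leaf (.up 5 97 4)) (.leaf (.up 4 405 5)))) (.node (.node (.leaf (.up 4 776 0)) (.leaf (.up 2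 116 1))) (.node (.leaf (.up 3 1320 1)) (.leaf (.up 3 1975 3)))))))) (.node (.node (.node (.node (.node (.node (.leaf (.up 3 1071 1)) (.leaf (.up 3 796 5))) (.node (.leaf (.up 4 1920 4)) (.leaf (.up 2 371 1)))) (.node (.node (.leaf (.up 3 1000 5)) (.leaf (.up 5 320 2))) (.node (.leaf (.up 4 1125 5)) (.leaf (.up 4 1741 2))))) (.node (.node (.node (.leaf (.up 5 426 4)) (.leaf (.up 2 272 2))) (.node (.leaf (.up 4 440 4)) (.leaf (.up 1 2 1)))) (.node (.node (.leaf (.up 5 965 3)) (.leaf (.up 2 1161 4))) (.node (.leaf (.up 4 1096 3)) (.leaf (.up 2 1693 1)))))) (.node (.node (.node (.node (.leaf (.up 4 1098 2)) (.leaf (.up 1 105 5))) (.node (.leaf (.up 5 967 2)) (.leaf (.up 3 891 1)))) (.node (.node (.leaf (.up 4 157 5)) (.leaf (.up 3 111 5))) (.node (.leaf (.up 5 956 3)) (.leaf (.up 3 2018 5))))) (.node (.node (.node (.leaf (.up 2 1701 5)) (.leaf (.up 5 1623 5))) (.node (.leaf (.up 4 1048 3)) (.leaf (.up 4 1741 3)))) (.node (.node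 (.leaf (.up 3 628 4)) (.leaf (.up 5 1873 4))) (.node (.leaf (.up 4 614 4)) (.leaf (.up 4 1173 1))))))) (.node (.node (.node (.node (.node (.leaf (.up 3 1291 3)) (.leaf (.up 4 2014 3))) (.node (.leaf (.up 4 1923 4)) (.leaf (.up 4 83 3)))) (.node (.node (.leaf (.up 3 1258 0)) (.leaf (.up 1 9 0))) (.node (.leaf (.up 4 1582 5)) (.leaf (.up 4 521 0))))) (.node (.node (.node (.leaf (.up 3 1947 5)) (.leaf (.up 7 2019 3))) (.node (.leaf (.up 3 443 4)) (.leaf (.up 6 228 5)))) (.node (.node (.leaf (.up 2 1949 5)) (.leaf (.up 3 257 2))) (.node (.leaf (.up 3 445 4)) (.leaf (.up 4 226 5)))))) (.node (.node (.node (.node (.leaf (.up 4 706 3)) (.leaf (.up 2 546 5))) (.node (.leaf (.up 2 1373 5)) (.leaf (.up 5 1946 3)))) (.node (.node (.leaf (.up 2 726 5)) (.leaf (.up 4 548 5))) (.node (.leaf (.up 2 726 3)) (.leaf (.up 5 376 2))))) (.node (.node (.node (.leaf (.up 3 1262 5)) (.leaf (.up 1 42 3))) (.node (.leaf (.up 4 1394 3)) (.leaf (.up 4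 913 5)))) (.node (.node (.leaf (.up 5 266 0)) (.leaf (.up 4 1050 5))) (.node (.leaf (.up 4 1834 1)) (.leaf (.up 5 62 3))))))))

noncomputable def vt2_5_110 : Tr VStep := .node vt2_5_1100 vt2_5_1101

noncomputable def vt2_5_1110 : Tr VStep :=
  .node (.node (.node (.node (.node (.node (.node (.leaf (.up 4 333 3)) (.leaf (.up 2 1720 1))) (.node (.leaf (.up 3 2023 5)) (.leaf (.up 2 1555 4)))) (.node (.node (.leaf (.up 6 1748 3)) (.leaf (.up 1 39 1))) (.node (.leaf (.up 5 345 3)) (.leaf (.up 2 307 0))))) (.node (.node (.node (.leaf (.up 3 368 3)) (.leaf (.up 4 57 4))) (.node (.leaf (.up 3 1294 4)) (.leaf (.up 3 1064 3)))) (.node (.node (.leaf (.up 4 1769 3)) (.leaf (.up 4 1605 2))) (.node (.leaf (.up 3 356 3)) (.leaf (.up 3 945 3)))))) (.node (.node (.node (.node (.leaf (.up 4 1158 2)) (.leaf (.up 4 1497 4))) (.node (.leaf (.up 5 779 2)) (.leaf (.up 5 1483 4)))) (.node (.node (.leaf (.up 3 250 4)) (.leaf (.up 4 968 3))) (.node (.leaf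 (.up 3 1907 1)) (.leaf (.up 5 1596 2))))) (.node (.node (.node (.leaf (.up 3 1313 5)) (.leaf (.up 1 76 0))) (.node (.leaf (.up 2 1750 4)) (.leaf (.up 2 1011 4)))) (.node (.node (.leaf (.up 7 288 3)) (.leaf (.up 2 862 1))) (.node (.leaf (.up 4 1744 4)) (.leaf (.up 3 1013 4))))))) (.node (.node (.node (.node (.node (.leaf (.root 2242)) (.leaf (.up 6 754 3))) (.node (.leaf (.up 3 821 4)) (.leaf (.up 3 1552 2)))) (.node (.node (.leaf (.up 3 920 1)) (.leaf (.up 6 1387 3))) (.node (.leaf (.up 2 51 3)) (.leaf (.up 3 1368 5))))) (.node (.node (.node (.leaf (.up 4 1311 4)) (.leaf (.up 3 719 3))) (.node (.leaf (.up 5 1654 1)) (.leaf (.up 1 40 4)))) (.node (.node (.leaf (.up 4 1049 5)) (.leaf (.up 5 461 2))) (.node (.leaf (.up 3 1262 2)) (.leaf (.up 3 1600 2)))))) (.node (.node (.node (.node (.leaf (.up 4 553 0)) (.leaf (.up 2 1339 3))) (.node (.leaf (.up 3 237 4)) (.leaf (.up 3 1581 2)))) (.node (.node (.leaf (.up 4 249 4)) (.leaf (.up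 3 1593 2))) (.node (.leaf (.up 5 235 4)) (.leaf (.up 2 1486 4))))) (.node (.node (.node (.leaf (.up 2 1223 2)) (.leaf (.up 5 1944 5))) (.node (.leaf (.up 2 1150 1)) (.leaf (.up 4 484 2)))) (.node (.node (.leaf (.up 1 74 3)) (.leaf (.up 3 399 0))) (.node (.leaf (.up 2 1747 4)) (.leaf (.up 2 1661 2)))))))) (.node (.node (.node (.node (.node (.node (.leaf (.up 3 294 4)) (.leaf (.up 3 1027 4))) (.node (.leaf (.up 4 486 1)) (.leaf (.up 3 1297 5)))) (.node (.node (.leaf (.up 5 616 5)) (.leaf (.up 2 305 0))) (.node (.leaf (.up 4 806 2)) (.leaf (.up 3 1303 5))))) (.node (.node (.node (.leaf (.up 2 1275 2)) (.leaf (.up 3 1652 0))) (.node (.leaf (.up 3 886 2)) (.leaf (.up 4 553 4)))) (.node (.node (.leaf (.up 4 1816 4)) (.leaf (.up 3 460 2))) (.node (.leaf (.up 5 1544 0)) (.leaf (.up 4 559 4)))))) (.node (.node (.node (.node (.leaf (.up 4 269 3)) (.leaf (.up 3 489 5))) (.node (.leaf (.up 3 748 4)) (.leaf (.up 4 1109 3)))) (.node (.node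 (.leaf (.up 4 760 4)) (.leaf (.up 3 1291 0))) (.node (.leaf (.up 3 1000 0)) (.leaf (.up 4 1999 4))))) (.node (.node (.node (.leaf (.up 2 304 3)) (.leaf (.up 2 483 4))) (.node (.leaf (.up 5 168 5)) (.leaf (.up 1 78 0)))) (.node (.node (.leaf (.up 4 1216 4)) (.leaf (.up 2 1148 3))) (.node (.leaf (.up 3 562 0)) (.leaf (.up 3 1660 2))))))) (.node (.node (.node (.node (.node (.leaf (.up 3 293 4)) (.leaf (.up 3 215 5))) (.node (.leaf (.up 1 35 3)) (.leaf (.up 4 1042 4)))) (.node (.node (.leaf (.up 1 35 5)) (.leaf (.up 5 397 2))) (.node (.leaf (.up 2 922 1)) (.leaf (.up 4 1133 0))))) (.node (.node (.node (.leaf (.up 3 1563 5)) (.leaf (.up 4 1769 5))) (.node (.leaf (.up 4 1807 4)) (.leaf (.up 3 356 5)))) (.node (.node (.leaf (.up 3 1258 2)) (.leaf (.up 3 1775 5))) (.node (.leaf (.up 4 400 5)) (.leaf (.up 2 354 5)))))) (.node (.node (.node (.node (.leaf (.up 5 103 3)) (.leaf (.up 3 1224 0))) (.node (.leaf (.up 4 778 2)) (.leaf (.up 3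 420 2)))) (.node (.node (.leaf (.up 5 2046 3)) (.leaf (.up 4 2014 4))) (.node (.leaf (.up 4 745 4)) (.leaf (.up 3 1065 5))))) (.node (.node (.node (.leaf (.up 2 1148 1)) (.leaf (.up 4 800 1))) (.node (.leaf (.up 2 1219 2)) (.leaf (.up 5 529 5)))) (.node (.node (.leaf (.up 2 1219 4)) (.leaf (.up 4 1657 2))) (.node (.leaf (.up 1 78 3)) (.leaf (.up 5 397 0))))))))

noncomputable def vt2_5_1111 : Tr VStep :=
  .node (.node (.node (.node (.node (.node (.node (.leaf (.up 4 254 3)) (.leaf (.up 4 439 4))) (.node (.leaf (.up 3 1893 2)) (.leaf (.up 3 1446 3)))) (.node (.node (.leaf (.up 2 1339 1)) (.leaf (.up 4 1503 2))) (.node (.leaf (.up 3 1893 5)) (.leaf (.up 3 734 0))))) (.node (.node (.node (.leaf (.up 4 1744 5)) (.leaf (.up 3 1417 1))) (.node (.leaf (.up 5 1870 3)) (.leaf (.up 2 1949 4)))) (.node (.node (.leaf (.up 2 1750 5)) (.leaf (.up 2 1572 5))) (.node (.leaf (.up 3 1845 2)) (.leaf (.up 3 1435 2)))))) (.node (.node (.node (.node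 (.leaf (.up 5 1866 4)) (.leaf (.up 3 873 5))) (.node (.leaf (.up 4 186 3)) (.leaf (.up 3 623 3)))) (.node (.node (.leaf (.up 5 174 3)) (.leaf (.up 3 111 1))) (.node (.leaf (.up 4 1040 5)) (.leaf (.up 3 1250 5))))) (.node (.node (.node (.leaf (.up 5 1820 2)) (.leaf (.up 4 1503 3))) (.node (.leaf (.up 2 552 5)) (.leaf (.up 5 417 0)))) (.node (.node (.leaf (.up 4 1443 5)) (.leaf (.up 4 1361 5))) (.node (.leaf (.up 3 558 5)) (.leaf (.up 3 732 5))))))) (.node (.node (.node (.node (.node (.leaf (.up 4 404 3)) (.leaf (.up 2 1486 2))) (.node (.leaf (.up 3 237 2)) (.leaf (.up 3 422 4)))) (.node (.node (.leaf (.up 4 249 2)) (.leaf (.up 4 1240 3))) (.node (.leaf (.up 5 1157 4)) (.leaf (.up 4 1410 0))))) (.node (.node (.node (.leaf (.up 3 1179 5)) (.leaf (.up 4 892 3))) (.node (.leaf (.up 2 1572 0)) (.leaf (.up 3 711 0)))) (.node (.node (.leaf (.up 3 687 4)) (.leaf (.up 6 1253 3))) (.node (.leaf (.up 3 189 2)) (.leaf (.up 5 1944 4))))))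 (.node (.node (.node (.node (.leaf (.up 2 1629 3)) (.leaf (.up 5 620 4))) (.node (.leaf (.up 2 1629 5)) (.leaf (.up 4 1711 5)))) (.node (.node (.leaf (.up 4 470 5)) (.leaf (.up 5 785 3))) (.node (.leaf (.up 4 1885 4)) (.leaf (.up 2 632 4))))) (.node (.node (.node (.leaf (.up 4 1632 3)) (.leaf (.up 4 1277 0))) (.node (.leaf (.up 5 355 4)) (.leaf (.up 2 354 1)))) (.node (.node (.leaf (.up 4 2024 5)) (.leaf (.up 4 812 3))) (.node (.leaf (.up 3 1652 3)) (.leaf (.up 3 1185 3)))))))) (.node (.node (.node (.node (.node (.node (.leaf (.up 3 422 1)) (.leaf (.up 5 949 4))) (.node (.leaf (.up 3 250 3)) (.leaf (.up 4 935 4)))) (.node (.node (.leaf (.up 3 748 5)) (.leaf (.up 3 598 2))) (.node (.leaf (.up 3 1377 5)) (.leaf (.up 4 1462 3))))) (.node (.node (.node (.leaf (.up 3 215 1)) (.leaf (.up 3 1931 1))) (.node (.leaf (.up 4 186 4)) (.leaf (.up 2 530 3)))) (.node (.node (.leaf (.up 3 1841 2)) (.leaf (.up 3 1419 4))) (.node (.leaf (.up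 4 863 5)) (.leaf (.up 2 530 2)))))) (.node (.node (.node (.node (.leaf (.up 4 942 1)) (.leaf (.up 3 365 5))) (.node (.leaf (.up 5 430 1)) (.leaf (.up 3 1760 5)))) (.node (.node (.leaf (.up 4 1831 3)) (.leaf (.up 1 107 4))) (.node (.leaf (.up 3 1841 1)) (.leaf (.up 3 639 3))))) (.node (.node (.node (.leaf (.up 5 149 2)) (.leaf (.up 3 598 3))) (.node (.leaf (.up 4 1806 3)) (.leaf (.up 4 1923 1)))) (.node (.node (.leaf (.up 2 991 0)) (.leaf (.up 3 1619 4))) (.node (.leaf (.up 1 42 5)) (.leaf (.up 4 559 2))))))) (.node (.node (.node (.node (.node (.leaf (.up 5 1565 3)) (.leaf (.up 3 1224 3))) (.node (.leaf (.up 4 1532 0)) (.leaf (.up 4 2014 5)))) (.node (.node (.leaf (.up 3 388 3)) (.leaf (.up 2 1502 2))) (.node (.leaf (.up 4 1671 4)) (.leaf (.up 2 1670 1))))) (.node (.node (.node (.leaf (.up 3 1695 5)) (.leaf (.up 3 1269 3))) (.node (.leaf (.up 2 274 5)) (.leaf (.up 6 515 2)))) (.node (.node (.leaf (.up 2 1689 5)) (.leaf (.up 3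 1416 4))) (.node (.leaf (.up 3 276 5)) (.leaf (.up 4 486 5)))))) (.node (.node (.node (.node (.leaf (.up 4 468 3)) (.leaf (.up 4 806 5))) (.node (.leaf (.up 2 1357 1)) (.leaf (.up 5 529 1)))) (.node (.node (.leaf (.up 2 1357 4)) (.leaf (.up 4 104 4))) (.node (.leaf (.up 2 1375 4)) (.leaf (.up 3 789 3))))) (.node (.node (.node (.leaf (.up 3 489 3)) (.leaf (.up 3 1304 5))) (.node (.leaf (.up 2 144 2)) (.leaf (.up 4 1279 0)))) (.node (.node (.leaf (.up 3 885 4)) (.leaf (.up 3 1189 3))) (.node (.leaf (.up 6 1801 2)) (.leaf (.up 4 1535 1))))))))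

noncomputable def vt2_5_111 : Tr VStep := .node vt2_5_1110 vt2_5_1111

noncomputable def vt2_5_11 : Tr VStep := .node vt2_5_110 vt2_5_111

noncomputable def vt2_5_1 : Tr VStep := .node vt2_5_10 vt2_5_11

noncomputable def vt2_5_ : Tr VStep := .node vt2_5_0 vt2_5_1

noncomputable def vt2_6_0000 : Tr VStep :=
  .node (.node (.node (.node (.node (.node (.node (.leaf (.root 197)) (.leaf (.up 3 1209 4))) (.node (.leaf (.up 3 302 6)) (.leaf (.up 4 378 5)))) (.node (.node (.leaf (.up 2 1177 4)) (.leaf (.up 1 32 2))) (.node (.leaf (.up 3 1433 5)) (.leaf (.up 4 1116 1))))) (.node (.node (.node (.leaf (.up 4 244 6)) (.leaf (.up 4 434 1))) (.node (.leaf (.up 4 95 6)) (.leaf (.up 3 1020 4)))) (.node (.node (.leaf (.up 5 1603 4)) (.leaf (.up 4 540 6))) (.node (.leaf (.up 4 625 1)) (.leaf (.up 3 1020 3)))))) (.node (.node (.node (.node (.leaf (.up 3 526 5)) (.leaf (.up 4 899 4))) (.node (.leaf (.up 3 326 3)) (.leaf (.up 3 1517 5)))) (.node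 (.node (.leaf (.up 2 1169 5)) (.leaf (.up 4 643 4))) (.node (.leaf (.up 2 1503 2)) (.leaf (.up 4 1279 2))))) (.node (.node (.node (.leaf (.up 3 1254 1)) (.leaf (.up 3 1948 5))) (.node (.leaf (.up 2 127 5)) (.leaf (.up 2 1151 2)))) (.node (.node (.leaf (.up 4 895 5)) (.leaf (.up 4 259 5))) (.node (.leaf (.up 3 2019 6)) (.leaf (.up 3 1407 2))))))) (.node (.node (.node (.node (.node (.leaf (.root 1010)) (.leaf (.up 4 570 6))) (.node (.leaf (.up 3 1212 6)) (.leaf (.up 4 657 6)))) (.node (.node (.leaf (.up 3 210 6)) (.leaf (.up 5 1791 6))) (.node (.leaf (.up 3 1114 5)) (.leaf (.up 5 1620 6))))) (.node (.node (.node (.leaf (.up 4 1244 3)) (.leaf (.up 4 867 4))) (.node (.leaf (.up 3 1485 6)) (.leaf (.up 4 992 6)))) (.node (.node (.leaf (.up 3 1926 0)) (.leaf (.up 3 1934 6))) (.node (.leaf (.up 2 264 6)) (.leaf (.up 3 1829 6)))))) (.node (.node (.node (.node (.leaf (.up 3 973 5)) (.leaf (.up 4 323 6))) (.node (.leaf (.up 4 1618 5))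 (.leaf (.up 3 796 4)))) (.node (.node (.leaf (.up 4 1279 0)) (.leaf (.up 3 1414 6))) (.node (.leaf (.up 3 828 4)) (.leaf (.up 4 540 4))))) (.node (.node (.node (.leaf (.up 5 1059 5)) (.leaf (.up 3 1113 4))) (.node (.leaf (.up 2 517 1)) (.leaf (.up 2 153 6)))) (.node (.node (.leaf (.up 4 700 5)) (.leaf (.up 2 454 1))) (.node (.leaf (.up 3 1934 0)) (.leaf (.up 2 127 2)))))))) (.node (.node (.node (.node (.node (.node (.leaf (.up 2 1161 4)) (.leaf (.up 4 1449 4))) (.node (.leaf (.up 2 260 3)) (.leaf (.up 4 292 3)))) (.node (.node (.leaf (.up 2 770 1)) (.leaf (.up 3 234 6))) (.node (.leaf (.up 1 4 3)) (.leaf (.up 3 310 4))))) (.node (.node (.node (.leaf (.up 2 222 3)) (.leaf (.up 4 944 1))) (.node (.leaf (.up 3 662 2)) (.leaf (.up 5 527 5)))) (.node (.node (.leaf (.up 3 1974 6)) (.leaf (.up 2 1833 2))) (.node (.leaf (.up 3 1772 5)) (.leaf (.up 4 304 6)))))) (.node (.node (.node (.node (.leaf (.up 2 1153 0)) (.leaf (.up 2 1769 2)))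 (.node (.leaf (.up 5 464 6)) (.leaf (.up 3 1804 4)))) (.node (.node (.leaf (.up 1 10 5)) (.leaf (.up 3 630 5))) (.node (.leaf (.up 6 1301 6)) (.leaf (.up 3 824 6))))) (.node (.node (.node (.leaf (.up 1 10 6)) (.leaf (.up 2 775 5))) (.node (.leaf (.up 4 161 6)) (.leaf (.up 2 172 0)))) (.node (.node (.leaf (.up 4 414 3)) (.leaf (.up 3 446 3))) (.node (.leaf (.up 3 367 0)) (.leaf (.up 4 1319 1))))))) (.node (.node (.node (.node (.node (.leaf (.up 3 382 1)) (.leaf (.up 2 1828 3))) (.node (.leaf (.up 3 1558 2)) (.leaf (.up 3 278 6)))) (.node (.node (.leaf (.up 3 853 6)) (.leaf (.up 4 1400 6))) (.node (.leaf (.up 3 1814 2)) (.leaf (.up 4 1491 6))))) (.node (.node (.node (.leaf (.up 3 1761 6)) (.leaf (.up 3 204 6))) (.node (.leaf (.up 3 1758 3)) (.leaf (.up 2 103 6)))) (.node (.node (.leaf (.up 4 688 5)) (.leaf (.up 3 1033 6))) (.node (.leaf (.up 3 1996 4)) (.leaf (.up 3 1974 2)))))) (.node (.node (.node (.node (.leaf (.up 3 1860 3))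 (.leaf (.up 2 1001 2))) (.node (.leaf (.up 2 812 4)) (.leaf (.up 4 623 6)))) (.node (.node (.leaf (.up 1 44 6)) (.leaf (.up 4 949 5))) (.node (.leaf (.up 3 1110 5)) (.leaf (.up 4 1706 6))))) (.node (.node (.node (.leaf (.up 4 841 2)) (.leaf (.up 4 1353 4))) (.node (.leaf (.up 4 502 4)) (.leaf (.up 3 798 6)))) (.node (.node (.leaf (.up 2 1385 4)) (.leaf (.up 2 208 0))) (.node (.leaf (.up 3 1420 0)) (.leaf (.up 3 1782 2))))))))

noncomputable def vt2_6_0001 : Tr VStep :=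
  .node (.node (.node (.node (.node (.node (.node (.leaf (.root 1304)) (.leaf (.up 2 1177 6))) (.node (.leaf (.up 4 2009 5)) (.leaf (.up 3 302 3)))) (.node (.node (.leaf (.up 1 8 2)) (.leaf (.up 2 1701 5))) (.node (.leaf (.up 3 326 5)) (.leaf (.up 1 46 3))))) (.node (.node (.node (.leaf (.up 3 1966 4)) (.leaf (.up 4 244 3))) (.node (.leaf (.up 3 55 5)) (.leaf (.up 4 1347 6)))) (.node (.node (.leaf (.up 3 823 5)) (.leaf (.up 3 1934 4))) (.node (.leaf (.up 4 1963 6)) (.leaf (.up 4 1236 5)))))) (.node (.node (.node (.node (.leaf (.up 3 1219 0)) (.leaf (.up 3 2016 6))) (.node (.leaf (.up 3 358 6)) (.leaf (.up 4 1271 2)))) (.node (.node (.leaf (.up 3 1288 6)) (.leaf (.up 2 104 2))) (.node (.leaf (.up 3 78 3)) (.leaf (.up 4 910 6))))) (.node (.node (.node (.leaf (.up 3 188 6)) (.leaf (.up 4 506 1))) (.node (.leaf (.up 4 23 6)) (.leaf (.up 3 238 0)))) (.node (.node (.leaf (.up 4 1145 6)) (.leaf (.up 2 1893 1))) (.node (.leaf (.up 3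 569 1)) (.leaf (.up 4 1381 1))))))) (.node (.node (.node (.node (.node (.leaf (.up 3 1806 3)) (.leaf (.up 4 1632 1))) (.node (.leaf (.up 3 1933 6)) (.leaf (.up 4 416 6)))) (.node (.node (.leaf (.up 3 1550 3)) (.leaf (.up 3 84 4))) (.node (.leaf (.up 2 1038 3)) (.leaf (.up 4 1381 6))))) (.node (.node (.node (.leaf (.up 4 686 4)) (.leaf (.up 4 1268 3))) (.node (.leaf (.up 3 500 5)) (.leaf (.up 3 209 6)))) (.node (.node (.leaf (.up 5 1492 3)) (.leaf (.up 3 398 1))) (.node (.leaf (.up 3 569 6)) (.leaf (.up 3 55 2)))))) (.node (.node (.node (.node (.leaf (.up 1 32 0)) (.leaf (.up 3 1646 4))) (.node (.leaf (.up 4 1268 6)) (.leaf (.up 4 729 6)))) (.node (.node (.leaf (.up 2 1614 3)) (.leaf (.up 3 1646 3))) (.node (.leaf (.up 4 1042 5)) (.leaf (.up 3 1564 6))))) (.node (.node (.node (.leaf (.up 4 581 1)) (.leaf (.up 5 771 6))) (.node (.leaf (.up 5 849 0)) (.leaf (.up 2 1817 1)))) (.node (.node (.leaf (.up 3 1480 2)) (.leaf (.up 4 1990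 6))) (.node (.leaf (.up 3 320 6)) (.leaf (.up 5 1901 6)))))))) (.node (.node (.node (.node (.node (.node (.leaf (.up 6 307 6)) (.leaf (.up 2 812 3))) (.node (.leaf (.up 3 834 5)) (.leaf (.up 3 830 2)))) (.node (.node (.leaf (.up 5 1526 6)) (.leaf (.up 2 1953 2))) (.node (.leaf (.up 2 12 3)) (.leaf (.up 1 44 3))))) (.node (.node (.node (.leaf (.up 4 1464 0)) (.leaf (.up 3 496 1))) (.node (.leaf (.up 4 926 2)) (.leaf (.up 3 228 0)))) (.node (.node (.leaf (.up 3 1159 6)) (.leaf (.up 4 502 3))) (.node (.leaf (.up 3 545 4)) (.leaf (.up 4 513 6)))))) (.node (.node (.node (.node (.leaf (.up 3 862 4)) (.leaf (.up 2 1127 6))) (.node (.leaf (.up 2 332 3)) (.leaf (.up 4 1228 6)))) (.node (.node (.leaf (.up 3 1679 6)) (.leaf (.up 3 1761 2))) (.node (.leaf (.up 4 606 0)) (.leaf (.up 1 9 6))))) (.node (.node (.node (.leaf (.up 4 827 6)) (.leaf (.up 4 236 0))) (.node (.leaf (.up 3 1051 4)) (.leaf (.up 5 583 5)))) (.node (.node (.leaf (.up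 3 406 3)) (.leaf (.up 4 1889 2))) (.node (.leaf (.up 4 1877 6)) (.leaf (.up 4 376 6))))))) (.node (.node (.node (.node (.node (.leaf (.up 1 42 0)) (.leaf (.up 5 652 6))) (.node (.leaf (.up 2 1292 3)) (.leaf (.up 3 253 5)))) (.node (.node (.leaf (.up 3 1548 3)) (.leaf (.up 3 1609 6))) (.node (.leaf (.up 2 1953 1)) (.leaf (.up 2 1243 4))))) (.node (.node (.node (.leaf (.up 4 1488 6)) (.leaf (.up 3 545 2))) (.node (.leaf (.up 3 1403 6)) (.leaf (.up 3 1793 4)))) (.node (.node (.leaf (.up 3 1647 5)) (.leaf (.up 3 1848 6))) (.node (.leaf (.up 3 446 6)) (.leaf (.up 4 1939 6)))))) (.node (.node (.node (.node (.leaf (.up 3 310 1)) (.leaf (.up 2 1900 3))) (.node (.leaf (.up 3 822 1)) (.leaf (.up 3 737 4)))) (.node (.node (.leaf (.up 3 797 6)) (.leaf (.up 3 993 0))) (.node (.leaf (.up 4 1449 1)) (.leaf (.up 3 993 4))))) (.node (.node (.node (.leaf (.up 2 1127 5)) (.leaf (.up 4 1563 5))) (.node (.leaf (.up 3 2014 2)) (.leaf (.up 2 47 6))))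 (.node (.node (.leaf (.up 4 760 5)) (.leaf (.up 4 609 2))) (.node (.leaf (.up 3 1996 0)) (.leaf (.up 3 144 0))))))))

noncomputable def vt2_6_000 : Tr VStep := .node vt2_6_0000 vt2_6_0001

noncomputable def vt2_6_0010 : Tr VStep :=
  .node (.node (.node (.node (.node (.node (.node (.leaf (.root 1530)) (.leaf (.up 4 510 6))) (.node (.leaf (.up 2 258 4)) (.leaf (.up 4 34 4)))) (.node (.node (.leaf (.up 1 2 2)) (.leaf (.up 4 981 1))) (.node (.leaf (.up 1 2 4)) (.leaf (.up 3 1424 6))))) (.node (.node (.node (.leaf (.up 4 1877 3)) (.leaf (.up 4 143 6))) (.node (.leaf (.up 2 103 5)) (.leaf (.up 2 1085 2)))) (.node (.node (.leaf (.up 3 1863 4)) (.leaf (.up 4 1098 6))) (.node (.leaf (.up 3 716 6)) (.leaf (.up 4 1016 4)))))) (.node (.node (.node (.node (.leaf (.up 6 1194 6)) (.leaf (.up 3 354 2))) (.node (.leaf (.up 3 798 5)) (.leaf (.up 2 1816 4)))) (.node (.node (.leaf (.up 4 111 6)) (.leaf (.up 3 477 1))) (.node (.leaf (.up 2 1999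 3)) (.leaf (.up 2 1769 6))))) (.node (.node (.node (.leaf (.up 3 1499 6)) (.leaf (.up 4 93 4))) (.node (.leaf (.up 5 879 1)) (.leaf (.up 4 861 6)))) (.node (.node (.leaf (.up 4 194 2)) (.leaf (.up 2 172 1))) (.node (.leaf (.up 3 1520 1)) (.leaf (.up 3 1218 4))))))) (.node (.node (.node (.node (.node (.leaf (.up 4 143 3)) (.leaf (.up 5 1132 6))) (.node (.leaf (.up 4 746 6)) (.leaf (.up 3 1223 6)))) (.node (.node (.leaf (.up 3 1668 6)) (.leaf (.up 3 1058 0))) (.node (.leaf (.up 3 1583 6)) (.leaf (.up 1 2 6))))) (.node (.node (.node (.leaf (.up 3 839 4)) (.leaf (.up 4 1309 6))) (.node (.leaf (.up 5 923 6)) (.leaf (.up 4 2040 4)))) (.node (.node (.leaf (.up 5 597 3)) (.leaf (.up 4 472 6))) (.node (.leaf (.up 4 1851 5)) (.leaf (.up 3 1784 4)))))) (.node (.node (.node (.node (.leaf (.up 4 207 3)) (.leaf (.up 5 1813 6))) (.node (.leaf (.up 3 824 4)) (.leaf (.up 4 161 5)))) (.node (.node (.leaf (.up 3 477 5)) (.leaf (.up 4 976 6)))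 (.node (.leaf (.up 3 568 4)) (.leaf (.up 3 792 4))))) (.node (.node (.node (.leaf (.up 2 73 6)) (.leaf (.up 5 1636 6))) (.node (.leaf (.up 4 1932 1)) (.leaf (.up 2 208 1)))) (.node (.node (.leaf (.up 5 533 3)) (.leaf (.up 4 565 3))) (.node (.leaf (.up 2 1063 6)) (.leaf (.up 5 53 3)))))))) (.node (.node (.node (.node (.node (.node (.leaf (.up 4 1677 5)) (.leaf (.up 3 1707 2))) (.node (.leaf (.up 3 18 4)) (.leaf (.up 3 820 2)))) (.node (.node (.leaf (.up 2 145 6)) (.leaf (.up 3 1724 6))) (.node (.leaf (.up 2 1163 1)) (.leaf (.up 3 983 1))))) (.node (.node (.node (.leaf (.up 4 625 0)) (.leaf (.up 4 776 6))) (.node (.leaf (.up 5 869 1)) (.leaf (.up 4 692 2)))) (.node (.node (.leaf (.up 5 480 6)) (.leaf (.up 4 166 1))) (.node (.leaf (.up 4 1530 1)) (.leaf (.up 4 434 0)))))) (.node (.node (.node (.node (.leaf (.up 2 1739 2)) (.leaf (.up 3 256 6))) (.node (.leaf (.up 3 1926 6)) (.leaf (.up 4 1544 4)))) (.node (.node (.leaf (.up 3 1485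 3)) (.leaf (.up 3 663 4))) (.node (.leaf (.up 4 596 2)) (.leaf (.up 2 1800 4))))) (.node (.node (.node (.leaf (.up 3 1628 6)) (.leaf (.up 3 333 4))) (.node (.leaf (.up 3 1783 6)) (.leaf (.up 3 218 6)))) (.node (.node (.leaf (.up 3 665 6)) (.leaf (.up 4 1591 3))) (.node (.leaf (.up 3 1254 0)) (.leaf (.up 4 1055 6))))))) (.node (.node (.node (.node (.node (.leaf (.up 2 454 6)) (.leaf (.up 4 2027 6))) (.node (.leaf (.up 3 1783 1)) (.leaf (.up 5 1856 6)))) (.node (.node (.leaf (.up 4 1283 6)) (.leaf (.up 3 814 6))) (.node (.leaf (.up 2 104 1)) (.leaf (.up 4 901 6))))) (.node (.node (.node (.leaf (.up 3 1414 1)) (.leaf (.up 5 730 1))) (.node (.leaf (.up 3 1926 1)) (.leaf (.up 3 218 1)))) (.node (.node (.leaf (.up 5 793 1)) (.leaf (.up 4 1093 1))) (.node (.leaf (.up 3 1241 6)) (.leaf (.up 4 1605 1)))))) (.node (.node (.node (.node (.leaf (.up 3 1975 4)) (.leaf (.up 2 747 2))) (.node (.leaf (.up 4 552 4)) (.leaf (.up 4 1082 5)))) (.node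 (.node (.leaf (.up 4 1719 4)) (.leaf (.up 3 1852 1))) (.node (.leaf (.up 3 808 4)) (.leaf (.up 5 1340 1))))) (.node (.node (.node (.leaf (.up 3 791 3)) (.leaf (.up 3 823 3))) (.node (.leaf (.up 5 869 6)) (.leaf (.up 2 454 0)))) (.node (.node (.leaf (.up 2 1133 4)) (.leaf (.up 4 294 6))) (.node (.leaf (.up 4 1952 6)) (.leaf (.up 3 210 4))))))))

noncomputable def vt2_6_0011 : Tr VStep :=
  .node (.node (.node (.node (.node (.node (.node (.leaf (.up 1 10 2)) (.leaf (.up 2 1205 5))) (.node (.leaf (.up 4 1097 6)) (.leaf (.up 2 1205 2)))) (.node (.node (.leaf (.up 3 86 5)) (.leaf (.up 1 42 2))) (.node (.leaf (.up 5 140 6)) (.leaf (.up 2 129 0))))) (.node (.node (.node (.leaf (.up 4 1885 3)) (.leaf (.up 4 1930 4))) (.node (.leaf (.up 4 1045 2)) (.leaf (.up 3 789 6)))) (.node (.node (.leaf (.up 5 342 6)) (.leaf (.up 2 1661 3))) (.node (.leaf (.up 4 1464 1)) (.leaf (.up 3 789 4)))))) (.node (.node (.node (.node (.leaf (.up 3 1947 6))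 (.leaf (.up 3 1282 1))) (.node (.leaf (.up 3 1237 2)) (.leaf (.up 4 1046 0)))) (.node (.node (.leaf (.up 1 74 2)) (.leaf (.up 5 1511 3))) (.node (.leaf (.up 3 2005 4)) (.leaf (.up 4 413 1))))) (.node (.node (.node (.leaf (.up 2 1770 6)) (.leaf (.up 3 1996 5))) (.node (.leaf (.up 2 47 5)) (.leaf (.up 2 1327 4)))) (.node (.node (.leaf (.up 3 144 4)) (.leaf (.up 3 339 5))) (.node (.leaf (.up 3 644 6)) (.leaf (.up 2 1085 3))))))) (.node (.node (.node (.node (.node (.leaf (.root 663)) (.leaf (.up 2 1001 1))) (.node (.leaf (.up 3 149 2)) (.leaf (.up 4 2038 6)))) (.node (.node (.leaf (.up 2 391 3)) (.leaf (.up 2 1001 5))) (.node (.leaf (.up 1 42 1)) (.leaf (.up 5 819 6))))) (.node (.node (.node (.leaf (.up 1 1 6)) (.leaf (.up 5 1450 2))) (.node (.leaf (.up 3 1403 5)) (.leaf (.up 5 152 1)))) (.node (.node (.leaf (.up 5 1418 2)) (.leaf (.up 4 745 6))) (.node (.leaf (.up 2 1135 6)) (.leaf (.up 4 1543 1)))))) (.node (.node (.node (.node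 (.leaf (.up 4 1449 0)) (.leaf (.up 4 231 3))) (.node (.leaf (.up 4 711 3)) (.leaf (.up 3 993 1)))) (.node (.node (.leaf (.up 3 1740 6)) (.leaf (.up 3 1642 4))) (.node (.leaf (.up 3 310 0)) (.leaf (.up 1 74 6))))) (.node (.node (.node (.leaf (.up 3 797 3)) (.leaf (.up 2 1365 6))) (.node (.leaf (.up 4 492 5)) (.leaf (.up 2 47 4)))) (.node (.node (.leaf (.up 3 1424 4)) (.leaf (.up 2 1551 1))) (.node (.leaf (.up 3 1814 6)) (.leaf (.up 3 315 6)))))))) (.node (.node (.node (.node (.node (.node (.leaf (.up 2 1893 6)) (.leaf (.up 1 46 5))) (.node (.leaf (.up 3 796 2)) (.leaf (.up 2 1457 5)))) (.node (.node (.leaf (.up 3 928 6)) (.leaf (.up 4 1421 6))) (.node (.leaf (.up 2 1739 1)) (.leaf (.up 3 828 2))))) (.node (.node (.node (.leaf (.up 4 1556 6)) (.leaf (.up 4 1984 5))) (.node (.leaf (.up 1 35 5)) (.leaf (.up 3 773 4)))) (.node (.node (.leaf (.up 3 803 5)) (.leaf (.up 3 351 5))) (.node (.leaf (.up 3 634 6)) (.leaf (.up 2 1151 3))))))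 (.node (.node (.node (.node (.leaf (.up 2 1052 6)) (.leaf (.up 3 561 6))) (.node (.leaf (.up 2 1733 3)) (.leaf (.up 2 892 2)))) (.node (.node (.leaf (.up 4 858 4)) (.leaf (.up 3 550 5))) (.node (.leaf (.up 2 1733 4)) (.leaf (.up 4 927 1))))) (.node (.node (.node (.leaf (.up 3 569 0)) (.leaf (.up 3 832 6))) (.node (.leaf (.up 5 1478 6)) (.leaf (.up 2 1893 0)))) (.node (.node (.leaf (.up 5 1970 1)) (.leaf (.up 3 238 1))) (.node (.leaf (.up 4 1055 3)) (.leaf (.up 3 1020 2))))))) (.node (.node (.node (.node (.node (.leaf (.up 4 899 2)) (.leaf (.up 3 493 5))) (.node (.leaf (.up 3 1550 5)) (.leaf (.up 3 1852 2)))) (.node (.node (.leaf (.up 3 828 0)) (.leaf (.up 4 31 6))) (.node (.leaf (.up 2 1689 6)) (.leaf (.up 2 1503 4))))) (.node (.node (.node (.leaf (.up 2 1151 5)) (.leaf (.up 2 922 4))) (.node (.leaf (.up 3 351 3)) (.leaf (.up 2 1280 6)))) (.node (.node (.leaf (.up 3 736 5)) (.leaf (.up 4 1541 1))) (.node (.leaf (.up 4 1573 4))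 (.leaf (.up 2 127 3)))))) (.node (.node (.node (.node (.leaf (.up 2 1798 5)) (.leaf (.up 3 1955 6))) (.node (.leaf (.up 3 293 6)) (.leaf (.up 2 1800 6)))) (.node (.node (.leaf (.up 4 544 1)) (.leaf (.up 4 870 6))) (.node (.leaf (.up 1 32 1)) (.leaf (.up 3 973 6))))) (.node (.node (.node (.leaf (.up 4 799 3)) (.leaf (.up 5 1746 6))) (.node (.leaf (.up 3 84 6)) (.leaf (.up 3 319 3)))) (.node (.node (.leaf (.up 4 1082 6)) (.leaf (.up 2 1817 0))) (.node (.leaf (.up 2 1169 6)) (.leaf (.up 4 700 6))))))))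

noncomputable def vt2_6_001 : Tr VStep := .node vt2_6_0010 vt2_6_0011

noncomputable def vt2_6_00 : Tr VStep := .node vt2_6_000 vt2_6_001

noncomputable def vt2_6_0100 : Tr VStep :=
  .node (.node (.node (.node (.node (.node (.node (.leaf (.root 1826)) (.leaf (.up 3 822 3))) (.node (.leaf (.up 2 260 4)) (.leaf (.up 3 310 3)))) (.node (.node (.leaf (.up 1 4 0)) (.leaf (.up 2 1880 0))) (.node (.leaf (.up 1 4 4)) (.leaf (.up 4 292 4))))) (.node (.node (.node (.leaf (.up 3 204 3)) (.leaf (.up 4 236 3))) (.node (.leaf (.up 3 2046 5)) (.leaf (.up 5 1410 5)))) (.node (.node (.leaf (.up 4 609 1)) (.leaf (.up 4 1633 4))) (.node (.leaf (.up 3 1051 2)) (.leaf (.up 3 797 5)))))) (.node (.node (.node (.node (.leaf (.up 6 962 6)) (.leaf (.up 3 641 4))) (.node (.leaf (.up 3 1159 5)) (.leaf (.up 3 1787 5)))) (.node (.node (.leaf (.up 5 1799 6)) (.leaf (.up 3 1604 1))) (.node (.leaf (.up 2 1243 2)) (.leaf (.up 4 1566 4))))) (.node (.node (.node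 (.leaf (.up 3 379 4)) (.leaf (.up 2 172 3))) (.node (.leaf (.up 4 536 6)) (.leaf (.up 3 1403 2)))) (.node (.node (.leaf (.up 4 196 2)) (.leaf (.up 4 1845 1))) (.node (.leaf (.up 5 908 3)) (.leaf (.up 3 940 3))))))) (.node (.node (.node (.node (.node (.leaf (.up 3 1814 3)) (.leaf (.up 2 772 6))) (.node (.leaf (.up 4 876 1)) (.leaf (.up 2 1828 0)))) (.node (.node (.leaf (.up 3 1558 3)) (.leaf (.up 4 1985 6))) (.node (.leaf (.up 4 1046 3)) (.leaf (.up 4 1898 6))))) (.node (.node (.node (.leaf (.up 3 1112 6)) (.leaf (.up 3 1260 3))) (.node (.leaf (.up 3 1758 4)) (.leaf (.up 3 2046 4)))) (.node (.node (.leaf (.up 4 1341 5)) (.leaf (.up 3 1712 6))) (.node (.leaf (.up 3 1996 3)) (.leaf (.up 4 1790 4)))))) (.node (.node (.node (.node (.leaf (.up 3 1697 4)) (.leaf (.up 4 125 6))) (.node (.leaf (.up 3 830 4)) (.leaf (.up 3 1848 5)))) (.node (.node (.leaf (.up 2 1953 4)) (.leaf (.up 4 1208 6))) (.node (.leaf (.up 3 574 4)) (.leaf (.up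 3 798 4))))) (.node (.node (.node (.leaf (.up 3 1825 6)) (.leaf (.up 4 268 6))) (.node (.leaf (.up 4 1676 3)) (.leaf (.up 4 1865 1)))) (.node (.node (.leaf (.up 3 1420 3)) (.leaf (.up 4 1115 4))) (.node (.leaf (.up 3 228 4)) (.leaf (.up 3 379 2)))))))) (.node (.node (.node (.node (.node (.node (.leaf (.up 2 1177 0)) (.leaf (.up 3 820 3))) (.node (.leaf (.up 2 1163 5)) (.leaf (.up 3 1466 6)))) (.node (.node (.leaf (.up 2 1163 4)) (.leaf (.up 2 1614 1))) (.node (.leaf (.up 3 1874 6)) (.leaf (.up 2 104 5))))) (.node (.node (.node (.leaf (.up 4 206 3)) (.leaf (.up 3 238 3))) (.node (.leaf (.up 5 742 6)) (.leaf (.up 3 928 1)))) (.node (.node (.leaf (.up 3 99 1)) (.leaf (.up 3 165 6))) (.node (.leaf (.up 4 1571 6)) (.leaf (.up 3 14 6)))))) (.node (.node (.node (.node (.leaf (.up 5 69 6)) (.leaf (.up 2 2029 2))) (.node (.leaf (.up 2 1169 0)) (.leaf (.up 3 1550 4)))) (.node (.node (.leaf (.up 3 796 5)) (.leaf (.up 3 1874 0))) (.node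 (.leaf (.up 3 84 3)) (.leaf (.up 2 518 6))))) (.node (.node (.node (.leaf (.up 2 142 3)) (.leaf (.up 2 1817 6))) (.node (.leaf (.up 3 1780 1)) (.leaf (.up 4 686 3)))) (.node (.node (.leaf (.up 3 398 3)) (.leaf (.up 4 1678 5))) (.node (.leaf (.up 4 1268 4)) (.leaf (.up 5 1492 4))))))) (.node (.node (.node (.node (.node (.leaf (.up 4 1812 3)) (.leaf (.up 5 131 6))) (.node (.leaf (.up 3 1352 5)) (.leaf (.up 4 40 6)))) (.node (.node (.leaf (.up 4 1556 3)) (.leaf (.up 5 1094 6))) (.node (.leaf (.up 3 704 6)) (.leaf (.up 4 1332 4))))) (.node (.node (.node (.leaf (.up 4 2015 6)) (.leaf (.up 4 1347 1))) (.node (.leaf (.up 4 31 1)) (.leaf (.up 3 345 6)))) (.node (.node (.leaf (.up 3 794 6)) (.leaf (.up 4 625 4))) (.node (.leaf (.up 4 1938 2)) (.leaf (.up 4 1436 6)))))) (.node (.node (.node (.node (.leaf (.up 3 358 1)) (.leaf (.up 4 1596 5))) (.node (.leaf (.up 4 870 1)) (.leaf (.up 4 782 4)))) (.node (.node (.leaf (.up 3 274 6)) (.leaf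 (.up 3 163 5))) (.node (.leaf (.up 3 1874 2)) (.leaf (.up 3 526 4))))) (.node (.node (.node (.leaf (.up 4 23 1)) (.leaf (.up 4 1198 3))) (.node (.leaf (.up 4 244 4)) (.leaf (.up 4 544 6)))) (.node (.node (.leaf (.up 3 99 6)) (.leaf (.up 2 1614 6))) (.node (.leaf (.up 3 1934 3)) (.leaf (.up 3 1966 3))))))))

noncomputable def vt2_6_0101 : Tr VStep :=
  .node (.node (.node (.node (.node (.node (.node (.leaf (.root 1210)) (.leaf (.up 2 812 5))) (.node (.leaf (.up 5 801 6)) (.leaf (.up 2 1292 6)))) (.node (.node (.leaf (.up 2 1999 5)) (.leaf (.up 1 44 2))) (.node (.leaf (.up 6 2020 6)) (.leaf (.up 1 44 5))))) (.node (.node (.node (.leaf (.up 4 196 3)) (.leaf (.up 2 172 2))) (.node (.leaf (.up 5 1043 2)) (.leaf (.up 3 531 4)))) (.node (.node (.leaf (.up 5 1598 6)) (.leaf (.up 4 1676 4))) (.node (.leaf (.up 3 545 1)) (.leaf (.up 3 996 3)))))) (.node (.node (.node (.node (.leaf (.root 1054)) (.leaf (.up 3 1758 6))) (.node (.leaf (.up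 2 1747 4)) (.leaf (.up 3 2035 4)))) (.node (.node (.leaf (.up 4 606 3)) (.leaf (.up 4 539 6))) (.node (.leaf (.up 2 2003 4)) (.leaf (.up 4 688 6))))) (.node (.node (.node (.leaf (.up 3 406 4)) (.leaf (.up 2 1002 1))) (.node (.leaf (.up 3 297 6)) (.leaf (.up 4 1796 6)))) (.node (.node (.leaf (.up 4 150 4)) (.leaf (.up 4 236 2))) (.node (.leaf (.up 1 41 1)) (.leaf (.up 3 853 5))))))) (.node (.node (.node (.node (.node (.leaf (.root 735)) (.leaf (.up 3 86 4))) (.node (.leaf (.up 2 1292 5)) (.leaf (.up 4 158 6)))) (.node (.node (.leaf (.up 3 1548 5)) (.leaf (.up 3 1136 5))) (.node (.leaf (.up 3 1054 3)) (.leaf (.up 4 1115 6))))) (.node (.node (.node (.leaf (.up 3 940 4)) (.leaf (.up 5 1452 2))) (.node (.leaf (.up 4 93 1)) (.leaf (.up 3 1764 3)))) (.node (.node (.leaf (.up 3 1420 2)) (.leaf (.up 4 1409 6))) (.node (.leaf (.up 2 775 6)) (.leaf (.up 4 414 1)))))) (.node (.node (.node (.node (.leaf (.up 4 292 1)) (.leaf (.up 2 1900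 4))) (.node (.leaf (.up 4 804 1)) (.leaf (.up 2 1900 0)))) (.node (.node (.leaf (.up 5 1979 1)) (.leaf (.up 3 1929 6))) (.node (.leaf (.up 4 271 6)) (.leaf (.up 3 499 0))))) (.node (.node (.node (.leaf (.up 2 1002 5)) (.leaf (.up 3 573 6))) (.node (.leaf (.up 3 1668 3)) (.leaf (.up 1 41 4)))) (.node (.node (.leaf (.up 3 213 6)) (.leaf (.up 3 406 1))) (.node (.leaf (.up 1 9 4)) (.leaf (.up 3 662 5)))))))) (.node (.node (.node (.node (.node (.node (.leaf (.up 3 796 3)) (.leaf (.up 3 828 3))) (.node (.leaf (.up 3 84 5)) (.leaf (.up 2 145 1)))) (.node (.node (.leaf (.up 4 540 3)) (.leaf (.up 2 1701 2))) (.node (.leaf (.up 2 1739 5)) (.leaf (.up 3 826 2))))) (.node (.node (.node (.leaf (.up 2 1797 2)) (.leaf (.up 4 244 0))) (.node (.leaf (.up 3 1724 1)) (.leaf (.up 5 1478 5)))) (.node (.node (.leaf (.up 2 454 3)) (.leaf (.up 3 1407 1))) (.node (.leaf (.up 1 35 1)) (.leaf (.up 4 857 5)))))) (.node (.node (.node (.node (.leaf (.up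 3 604 4)) (.leaf (.up 2 892 3))) (.node (.leaf (.up 3 991 6)) (.leaf (.up 3 665 1)))) (.node (.node (.leaf (.up 2 1733 2)) (.leaf (.up 3 1542 1))) (.node (.leaf (.up 3 78 0)) (.leaf (.up 1 32 5))))) (.node (.node (.node (.leaf (.up 2 517 6)) (.leaf (.up 2 1893 2))) (.node (.leaf (.up 4 686 6)) (.leaf (.up 4 762 2)))) (.node (.node (.leaf (.up 3 1728 6)) (.leaf (.up 3 422 3))) (.node (.leaf (.up 3 1049 4)) (.leaf (.up 4 70 6))))))) (.node (.node (.node (.node (.node (.leaf (.up 3 302 1)) (.leaf (.up 3 326 4))) (.node (.leaf (.up 3 1562 2)) (.leaf (.up 3 1003 5)))) (.node (.node (.leaf (.up 3 663 5)) (.leaf (.up 4 70 4))) (.node (.leaf (.up 2 1457 1)) (.leaf (.up 4 1396 5))))) (.node (.node (.node (.leaf (.up 2 517 2)) (.leaf (.up 3 1254 3))) (.node (.leaf (.up 4 1093 6)) (.leaf (.up 4 1029 5)))) (.node (.node (.leaf (.up 3 773 2)) (.leaf (.up 2 1797 5))) (.node (.leaf (.up 4 230 5)) (.leaf (.up 4 2022 3)))))) (.node (.node (.node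 (.node (.leaf (.up 4 1766 6)) (.leaf (.up 3 1660 4))) (.node (.leaf (.up 2 1280 5)) (.leaf (.up 4 96 6)))) (.node (.node (.leaf (.up 3 1628 3)) (.leaf (.up 2 1038 6))) (.node (.leaf (.up 4 648 6)) (.leaf (.up 4 229 1))))) (.node (.node (.node (.leaf (.up 3 1943 6)) (.leaf (.up 4 442 6))) (.node (.leaf (.up 3 1852 6)) (.leaf (.up 4 313 4)))) (.node (.node (.leaf (.up 3 1158 4)) (.leaf (.up 3 1407 6))) (.node (.leaf (.up 3 1926 3)) (.leaf (.up 5 1492 6))))))))

noncomputable def vt2_6_010 : Tr VStep := .node vt2_6_0100 vt2_6_0101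

noncomputable def vt2_6_0110 : Tr VStep :=
  .node (.node (.node (.node (.node (.node (.node (.leaf (.up 3 256 5)) (.leaf (.up 2 892 5))) (.node (.leaf (.up 1 0 4)) (.leaf (.up 2 1614 0)))) (.node (.node (.leaf (.up 2 1951 5)) (.leaf (.up 4 1029 6))) (.node (.leaf (.up 2 1951 3)) (.leaf (.up 1 32 4))))) (.node (.node (.node (.leaf (.up 3 1948 6)) (.leaf (.up 2 1893 3))) (.node (.leaf (.up 3 1049 2)) (.leaf (.up 4 1018 4)))) (.node (.node (.leaf (.up 4 1605 3)) (.leaf (.up 2 1893 4))) (.node (.leaf (.up 4 1010 6)) (.leaf (.up 2 1503 6)))))) (.node (.node (.node (.node (.leaf (.up 3 326 2)) (.leaf (.up 4 1279 3))) (.node (.leaf (.up 1 8 5)) (.leaf (.up 3 1874 1)))) (.node (.node (.leaf (.up 2 1503 3)) (.leaf (.up 3 358 2))) (.node (.leaf (.up 4 1687 5)) (.leaf (.up 4 1818 4))))) (.node (.node (.node (.leaf (.up 2 127 4)) (.leaf (.up 3 351 4))) (.node (.leaf (.up 3 383 1)) (.leaf (.up 4 1434 5)))) (.node (.node (.leaf (.up 1 32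 6)) (.leaf (.up 4 1573 3))) (.node (.leaf (.up 3 1113 2)) (.leaf (.up 3 773 5))))))) (.node (.node (.node (.node (.node (.leaf (.up 4 159 3)) (.leaf (.up 4 1362 6))) (.node (.leaf (.up 2 1280 4)) (.leaf (.up 5 1529 6)))) (.node (.node (.leaf (.up 3 1628 5)) (.leaf (.up 4 407 6))) (.node (.leaf (.up 4 1809 6)) (.leaf (.up 4 316 6))))) (.node (.node (.node (.leaf (.up 3 526 6)) (.leaf (.up 5 869 3))) (.node (.leaf (.up 4 325 3)) (.leaf (.up 4 200 1)))) (.node (.node (.leaf (.up 2 1739 6)) (.leaf (.up 4 230 6))) (.node (.leaf (.up 4 1632 6)) (.leaf (.up 4 313 2)))))) (.node (.node (.node (.node (.leaf (.up 4 1773 1)) (.leaf (.up 4 1579 6))) (.node (.leaf (.up 4 570 4)) (.leaf (.up 3 951 5)))) (.node (.node (.leaf (.up 2 1701 4)) (.leaf (.up 4 1838 1))) (.node (.leaf (.up 3 826 4)) (.leaf (.up 4 1320 5))))) (.node (.node (.node (.leaf (.up 3 773 3)) (.leaf (.up 2 1882 6))) (.node (.leaf (.up 4 1573 5)) (.leaf (.up 3 1113 5)))) (.node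 (.node (.leaf (.up 2 1151 4)) (.leaf (.up 4 927 6))) (.node (.leaf (.up 3 186 5)) (.leaf (.up 3 820 6)))))))) (.node (.node (.node (.node (.node (.node (.leaf (.up 3 516 1)) (.leaf (.up 3 839 6))) (.node (.leaf (.up 1 4 1)) (.leaf (.up 2 1880 1)))) (.node (.node (.leaf (.up 2 1423 4)) (.leaf (.up 4 1922 6))) (.node (.leaf (.up 2 1691 1)) (.leaf (.up 2 1833 6))))) (.node (.node (.node (.leaf (.up 3 1863 3)) (.leaf (.up 1 9 5))) (.node (.leaf (.up 2 970 4)) (.leaf (.up 4 746 4)))) (.node (.node (.leaf (.up 2 222 6)) (.leaf (.up 4 1779 6))) (.node (.leaf (.up 4 373 5)) (.leaf (.up 2 1127 3)))))) (.node (.node (.node (.node (.leaf (.up 2 1999 2)) (.leaf (.up 2 1775 2))) (.node (.leaf (.up 4 1720 6)) (.leaf (.up 2 1775 5)))) (.node (.node (.leaf (.up 4 1743 2)) (.leaf (.up 3 1519 5))) (.node (.leaf (.up 5 637 6)) (.leaf (.up 3 624 2))))) (.node (.node (.node (.leaf (.up 3 367 4)) (.leaf (.up 3 335 6))) (.node (.leaf (.up 4 1993 6))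 (.leaf (.up 4 1488 4)))) (.node (.node (.leaf (.up 4 1543 3)) (.leaf (.up 3 335 4))) (.node (.leaf (.up 3 1520 4)) (.leaf (.up 2 1063 3))))))) (.node (.node (.node (.node (.node (.leaf (.up 3 248 6)) (.leaf (.up 3 1749 6))) (.node (.leaf (.up 3 83 6)) (.leaf (.up 5 1662 6)))) (.node (.node (.leaf (.up 2 1085 6)) (.leaf (.up 2 1828 1))) (.node (.leaf (.up 2 1174 6)) (.leaf (.up 3 1072 4))))) (.node (.node (.node (.leaf (.up 3 839 3)) (.leaf (.up 4 202 1))) (.node (.leaf (.up 4 290 6)) (.leaf (.up 3 1807 6)))) (.node (.node (.leaf (.up 4 265 1)) (.leaf (.up 4 865 6))) (.node (.leaf (.up 4 182 5)) (.leaf (.up 2 970 6)))))) (.node (.node (.node (.node (.leaf (.up 3 1263 1)) (.leaf (.up 3 947 1))) (.node (.leaf (.up 2 1775 1)) (.leaf (.up 4 1287 6)))) (.node (.node (.leaf (.up 3 624 1)) (.leaf (.up 3 1068 5))) (.node (.leaf (.up 3 975 5)) (.leaf (.up 5 450 6))))) (.node (.node (.node (.leaf (.up 2 1135 4)) (.leaf (.up 4 1245 6)))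 (.node (.leaf (.up 3 603 6)) (.leaf (.up 2 208 4)))) (.node (.node (.leaf (.up 3 1589 6)) (.leaf (.up 4 1103 4))) (.node (.leaf (.up 5 533 0)) (.leaf (.up 3 39 3))))))))

noncomputable def vt2_6_0111 : Tr VStep :=
  .node (.node (.node (.node (.node (.node (.node (.leaf (.up 2 1503 5)) (.leaf (.up 1 46 2))) (.node (.leaf (.up 2 1169 2)) (.leaf (.up 2 1457 2)))) (.node (.node (.leaf (.up 3 832 5)) (.leaf (.up 2 145 0))) (.node (.leaf (.up 3 1485 0)) (.leaf (.up 2 1951 6))))) (.node (.node (.node (.leaf (.up 1 35 0)) (.leaf (.up 5 640 6))) (.node (.leaf (.up 3 1030 6)) (.leaf (.up 3 791 4)))) (.node (.node (.leaf (.up 2 104 6)) (.leaf (.up 4 1605 6))) (.node (.leaf (.up 3 823 4)) (.leaf (.up 2 1133 3)))))) (.node (.node (.node (.node (.leaf (.up 2 1701 6)) (.leaf (.up 3 820 5))) (.node (.leaf (.up 3 1550 6)) (.leaf (.up 1 35 6)))) (.node (.node (.leaf (.up 4 840 4)) (.leaf (.up 3 665 0))) (.node (.leaf (.up 4 1751 4)) (.leaf (.up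 2 153 0))))) (.node (.node (.node (.leaf (.up 3 319 1)) (.leaf (.up 3 238 2))) (.node (.leaf (.up 4 1105 2)) (.leaf (.up 4 338 6)))) (.node (.node (.leaf (.up 4 1952 1)) (.leaf (.up 4 1000 0))) (.node (.leaf (.up 4 1440 1)) (.leaf (.up 4 764 1))))))) (.node (.node (.node (.node (.node (.leaf (.root 212)) (.leaf (.up 4 1632 5))) (.node (.leaf (.up 3 663 3)) (.leaf (.up 4 1229 4)))) (.node (.node (.leaf (.up 2 1163 6)) (.leaf (.up 5 255 5))) (.node (.leaf (.up 2 145 2)) (.leaf (.up 3 1485 4))))) (.node (.node (.node (.leaf (.up 3 319 6)) (.leaf (.up 3 1810 6))) (.node (.leaf (.up 3 333 3)) (.leaf (.up 4 1041 5)))) (.node (.node (.leaf (.up 4 1530 6)) (.leaf (.up 3 983 6))) (.node (.leaf (.up 4 1591 4)) (.leaf (.up 2 892 6)))))) (.node (.node (.node (.node (.leaf (.up 3 823 6)) (.leaf (.up 3 1306 6))) (.node (.leaf (.up 3 209 2)) (.leaf (.up 2 1457 6)))) (.node (.node (.leaf (.up 4 1556 5)) (.leaf (.up 4 1896 4))) (.node (.leaf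 (.up 3 983 3)) (.leaf (.up 4 1015 3))))) (.node (.node (.node (.leaf (.up 2 582 6)) (.leaf (.up 5 640 1))) (.node (.leaf (.up 4 749 6)) (.leaf (.up 4 1216 6)))) (.node (.node (.leaf (.up 4 1170 4)) (.leaf (.up 4 1055 1))) (.node (.leaf (.up 4 323 1)) (.leaf (.up 3 369 2)))))))) (.node (.node (.node (.node (.node (.node (.leaf (.up 5 1627 6)) (.leaf (.up 2 1205 3))) (.node (.leaf (.up 2 1243 5)) (.leaf (.up 3 824 2)))) (.node (.node (.leaf (.up 5 1378 4)) (.leaf (.up 2 391 1))) (.node (.leaf (.up 2 1243 1)) (.leaf (.up 2 56 5))))) (.node (.node (.node (.leaf (.up 3 545 0)) (.leaf (.up 3 263 6))) (.node (.leaf (.up 4 920 2)) (.leaf (.up 4 696 2)))) (.node (.node (.leaf (.up 3 1007 6)) (.leaf (.up 3 246 1))) (.node (.leaf (.up 3 836 6)) (.leaf (.up 2 1385 6)))))) (.node (.node (.node (.node (.leaf (.up 3 1237 3)) (.leaf (.up 4 1296 1))) (.node (.leaf (.up 3 1417 6)) (.leaf (.up 4 1808 1)))) (.node (.node (.leaf (.up 2 1235 1))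 (.leaf (.up 4 1994 6))) (.node (.leaf (.up 2 1747 1)) (.leaf (.up 4 1889 6))))) (.node (.node (.node (.leaf (.up 1 41 0)) (.leaf (.up 4 638 6))) (.node (.leaf (.up 4 1053 4)) (.leaf (.up 2 1327 3)))) (.node (.node (.leaf (.up 2 1551 3)) (.leaf (.up 3 1758 5))) (.node (.leaf (.up 4 317 5)) (.leaf (.up 2 1085 4))))))) (.node (.node (.node (.node (.node (.leaf (.up 3 149 3)) (.leaf (.up 5 1508 6))) (.node (.leaf (.up 2 1816 2)) (.leaf (.up 4 1892 5)))) (.node (.node (.leaf (.up 3 405 3)) (.leaf (.up 4 289 6))) (.node (.leaf (.up 2 56 1)) (.leaf (.up 3 1848 2))))) (.node (.node (.node (.leaf (.up 2 775 2)) (.leaf (.up 4 551 2))) (.node (.leaf (.up 3 335 3)) (.leaf (.up 3 367 3)))) (.node (.node (.leaf (.up 2 1661 6)) (.leaf (.up 3 80 6))) (.node (.leaf (.up 5 79 3)) (.leaf (.up 4 1543 4)))))) (.node (.node (.node (.node (.leaf (.up 3 213 3)) (.leaf (.up 3 499 1))) (.node (.leaf (.up 3 27 6)) (.leaf (.up 4 231 0)))) (.node (.node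 (.leaf (.up 2 1880 4)) (.leaf (.up 2 1900 1))) (.node (.leaf (.up 2 1880 2)) (.leaf (.up 3 1013 3))))) (.node (.node (.node (.leaf (.up 3 2014 1)) (.leaf (.up 4 2028 6))) (.node (.leaf (.up 4 1633 5)) (.leaf (.up 3 1863 6)))) (.node (.node (.leaf (.up 3 839 2)) (.leaf (.up 3 1565 1))) (.node (.leaf (.up 4 254 5)) (.leaf (.up 2 47 3))))))))

noncomputable def vt2_6_011 : Tr VStep := .node vt2_6_0110 vt2_6_0111

noncomputable def vt2_6_01 : Tr VStep := .node vt2_6_010 vt2_6_011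

noncomputable def vt2_6_0 : Tr VStep := .node vt2_6_00 vt2_6_01

noncomputable def vt2_6_1000 : Tr VStep :=
  .node (.node (.node (.node (.node (.node (.node (.leaf (.root 1500)) (.leaf (.up 2 1243 6))) (.node (.leaf (.up 3 263 4)) (.leaf (.up 3 39 4)))) (.node (.node (.leaf (.up 4 1319 2)) (.leaf (.up 4 1031 2))) (.node (.leaf (.up 4 502 1)) (.leaf (.up 2 208 3))))) (.node (.node (.node (.leaf (.up 1 42 3)) (.leaf (.up 1 10 3))) (.node (.leaf (.up 2 56 2)) (.leaf (.up 5 1281 6)))) (.node (.node (.leaf (.up 4 312 5)) (.leaf (.up 3 836 5))) (.node (.leaf (.up 4 915 0)) (.leaf (.up 5 1021 4)))))) (.node (.node (.node (.node (.leaf (.up 4 1889 1)) (.leaf (.up 4 1698 5))) (.node (.leaf (.up 3 321 5)) (.leaf (.up 3 829 5)))) (.node (.node (.leaf (.up 2 1127 2)) (.leaf (.up 4 898 4))) (.node (.leaf (.up 3 2014 5)) (.leaf (.up 3 144 3))))) (.node (.node (.node (.leaf (.up 4 376 4)) (.leaf (.up 1 74 3))) (.node (.leaf (.up 4 376 2))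 (.leaf (.up 2 1479 4)))) (.node (.node (.leaf (.up 4 143 1)) (.leaf (.up 2 534 6))) (.node (.leaf (.up 4 120 2)) (.leaf (.up 3 1223 4))))))) (.node (.node (.node (.node (.node (.leaf (.up 4 1892 6)) (.leaf (.up 5 329 6))) (.node (.leaf (.up 2 1999 6)) (.leaf (.up 4 482 6)))) (.node (.node (.leaf (.up 3 1025 0)) (.leaf (.up 2 1385 5))) (.node (.leaf (.up 4 1464 2)) (.leaf (.up 2 1063 4))))) (.node (.node (.node (.leaf (.up 3 834 4)) (.leaf (.up 2 56 6))) (.node (.leaf (.up 4 1726 6)) (.leaf (.up 2 147 6)))) (.node (.node (.leaf (.up 4 251 5)) (.leaf (.up 2 1290 3))) (.node (.leaf (.up 5 635 6)) (.leaf (.up 1 44 0)))))) (.node (.node (.node (.node (.leaf (.up 2 103 2)) (.leaf (.up 4 1889 5))) (.node (.leaf (.up 3 829 4)) (.leaf (.up 3 1424 3)))) (.node (.node (.leaf (.up 3 1712 3)) (.leaf (.up 4 510 5))) (.node (.leaf (.up 3 1565 5)) (.leaf (.up 3 797 4))))) (.node (.node (.node (.leaf (.up 3 1144 4)) (.leaf (.up 4 833 6))) (.node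 (.leaf (.up 2 1479 6)) (.leaf (.up 2 1002 6)))) (.node (.node (.leaf (.up 4 231 2)) (.leaf (.up 3 1112 4))) (.node (.leaf (.up 2 258 6)) (.leaf (.up 3 1112 2)))))))) (.node (.node (.node (.node (.node (.node (.leaf (.up 2 1151 0)) (.leaf (.up 3 55 1))) (.node (.leaf (.up 3 333 5)) (.leaf (.up 4 2039 6)))) (.node (.node (.leaf (.up 3 500 1)) (.leaf (.up 4 1704 1))) (.node (.leaf (.up 5 1311 6)) (.leaf (.up 3 210 3))))) (.node (.node (.node (.leaf (.up 1 0 6)) (.leaf (.up 1 8 3))) (.node (.leaf (.up 3 1806 0)) (.leaf (.up 5 1247 5)))) (.node (.node (.leaf (.up 4 296 3)) (.leaf (.up 2 264 3))) (.node (.leaf (.up 3 808 3)) (.leaf (.up 4 576 5)))))) (.node (.node (.node (.node (.leaf (.up 5 1379 1)) (.leaf (.up 3 1061 6))) (.node (.leaf (.up 4 434 3)) (.leaf (.up 4 402 3)))) (.node (.node (.leaf (.up 3 1020 1)) (.leaf (.up 5 1184 1))) (.node (.leaf (.up 4 1638 6)) (.leaf (.up 4 75 6))))) (.node (.node (.node (.leaf (.up 2 104 3))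 (.leaf (.up 4 1364 6))) (.node (.leaf (.up 4 1554 1)) (.leaf (.up 4 584 3)))) (.node (.node (.leaf (.up 3 1980 6)) (.leaf (.up 2 1733 0))) (.node (.leaf (.up 4 1815 6)) (.leaf (.up 4 314 6))))))) (.node (.node (.node (.node (.node (.leaf (.up 3 1966 2)) (.leaf (.up 4 1678 2))) (.node (.leaf (.up 2 142 5)) (.leaf (.up 4 613 6)))) (.node (.node (.leaf (.up 4 910 5)) (.leaf (.up 3 1934 2))) (.node (.leaf (.up 4 1815 1)) (.leaf (.up 2 1133 5))))) (.node (.node (.node (.leaf (.up 3 594 4)) (.leaf (.up 3 1806 2))) (.node (.leaf (.up 5 1888 5)) (.leaf (.up 3 788 6)))) (.node (.node (.leaf (.up 4 850 4)) (.leaf (.up 1 46 0))) (.node (.leaf (.up 4 511 5)) (.leaf (.up 2 1800 3)))))) (.node (.node (.node (.node (.leaf (.up 5 1970 3)) (.leaf (.up 3 1756 1))) (.node (.leaf (.up 3 1841 6)) (.leaf (.up 4 1244 1)))) (.node (.node (.leaf (.up 2 863 6)) (.leaf (.up 4 1938 4))) (.node (.leaf (.up 4 625 2)) (.leaf (.up 4 1497 6))))) (.node (.node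 (.node (.leaf (.up 4 1384 4)) (.leaf (.up 2 1614 2))) (.node (.leaf (.up 4 1600 6)) (.leaf (.up 4 1453 1)))) (.node (.node (.leaf (.up 3 1646 1)) (.leaf (.up 3 1352 3))) (.node (.leaf (.up 4 1896 3)) (.leaf (.up 4 818 1))))))))

noncomputable def vt2_6_1001 : Tr VStep :=
  .node (.node (.node (.node (.node (.node (.node (.leaf (.root 1090)) (.leaf (.up 2 1770 5))) (.node (.leaf (.up 4 364 6)) (.leaf (.up 4 1857 6)))) (.node (.node (.leaf (.up 3 1282 6)) (.leaf (.up 2 1770 1))) (.node (.leaf (.up 3 1942 5)) (.leaf (.up 3 144 2))))) (.node (.node (.node (.leaf (.up 4 182 6)) (.leaf (.up 1 2 3))) (.node (.leaf (.up 3 1112 1)) (.leaf (.up 2 772 1)))) (.node (.node (.leaf (.up 4 199 1)) (.leaf (.up 2 258 3))) (.node (.leaf (.up 4 711 1)) (.leaf (.up 2 784 4)))))) (.node (.node (.node (.node (.leaf (.up 1 1 5)) (.leaf (.up 3 361 0))) (.node (.leaf (.up 3 496 2)) (.leaf (.up 2 208 2)))) (.node (.node (.leaf (.up 4 696 3)) (.leaf (.up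 3 86 6))) (.node (.leaf (.up 3 446 1)) (.leaf (.up 3 253 6))))) (.node (.node (.node (.leaf (.up 3 405 4)) (.leaf (.up 5 1506 6))) (.node (.leaf (.up 3 624 5)) (.leaf (.up 2 12 5)))) (.node (.node (.leaf (.up 2 1802 6)) (.leaf (.up 4 295 6))) (.node (.leaf (.up 2 1953 6)) (.leaf (.up 3 834 3))))))) (.node (.node (.node (.node (.node (.leaf (.root 1594)) (.leaf (.up 2 1833 5))) (.node (.leaf (.up 4 1258 4)) (.leaf (.up 4 723 6)))) (.node (.node (.leaf (.up 2 970 5)) (.leaf (.up 5 1725 6))) (.node (.leaf (.up 4 1877 1)) (.leaf (.up 1 9 1))))) (.node (.node (.node (.leaf (.up 3 1058 3)) (.leaf (.up 4 143 2))) (.node (.leaf (.up 2 1423 6)) (.leaf (.up 4 930 6)))) (.node (.node (.leaf (.up 5 481 6)) (.leaf (.up 3 1996 6))) (.node (.leaf (.up 4 1572 1)) (.leaf (.up 4 376 1)))))) (.node (.node (.node (.node (.leaf (.up 3 367 2)) (.leaf (.up 5 1903 4))) (.node (.leaf (.up 4 1464 3)) (.leaf (.up 4 426 6)))) (.node (.node (.leaf (.up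 2 1001 6)) (.leaf (.up 1 1 1))) (.node (.leaf (.up 3 834 6)) (.leaf (.up 3 190 5))))) (.node (.node (.node (.leaf (.up 5 1629 6)) (.leaf (.up 3 1104 5))) (.node (.leaf (.up 3 947 5)) (.leaf (.up 1 42 4)))) (.node (.node (.leaf (.up 4 495 2)) (.leaf (.up 2 1205 4))) (.node (.leaf (.up 1 10 4)) (.leaf (.up 3 1054 6)))))))) (.node (.node (.node (.node (.node (.node (.leaf (.up 4 576 6)) (.leaf (.up 2 1133 6))) (.node (.leaf (.up 2 747 6)) (.leaf (.up 2 1817 2)))) (.node (.node (.leaf (.up 4 762 3)) (.leaf (.up 5 168 6))) (.node (.leaf (.up 4 672 0)) (.leaf (.up 1 3 6))))) (.node (.node (.node (.leaf (.up 1 32 3)) (.leaf (.up 1 0 3))) (.node (.leaf (.up 2 922 6)) (.leaf (.up 1 0 5)))) (.node (.node (.leaf (.up 4 2036 6)) (.leaf (.up 2 1951 4))) (.node (.leaf (.up 4 1251 5)) (.leaf (.up 4 370 6)))))) (.node (.node (.node (.node (.leaf (.up 4 313 6)) (.leaf (.up 2 922 3))) (.node (.leaf (.up 2 1913 2)) (.leaf (.up 3 1983 6)))) (.node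 (.node (.leaf (.up 2 517 5)) (.leaf (.up 3 1760 1))) (.node (.leaf (.up 3 1728 4)) (.leaf (.up 3 2016 4))))) (.node (.node (.node (.leaf (.up 4 870 2)) (.leaf (.up 2 264 5))) (.node (.leaf (.up 3 1306 4)) (.leaf (.up 4 26 0)))) (.node (.node (.leaf (.up 3 205 1)) (.leaf (.up 3 1943 5))) (.node (.leaf (.up 4 1050 4)) (.leaf (.up 3 832 3))))))) (.node (.node (.node (.node (.node (.leaf (.up 5 456 1)) (.leaf (.up 3 1926 2))) (.node (.leaf (.up 2 1913 6)) (.leaf (.up 3 537 2)))) (.node (.node (.leaf (.up 3 791 6)) (.leaf (.up 4 799 0))) (.node (.leaf (.up 3 569 2)) (.leaf (.up 3 1425 6))))) (.node (.node (.node (.leaf (.up 4 1699 6)) (.leaf (.up 2 142 6))) (.node (.leaf (.up 4 1544 6)) (.leaf (.up 5 1509 1)))) (.node (.node (.leaf (.up 5 614 6)) (.leaf (.up 2 1280 3))) (.node (.leaf (.up 4 717 6)) (.leaf (.up 3 665 2)))))) (.node (.node (.node (.node (.leaf (.up 4 2022 2)) (.leaf (.up 3 1829 5))) (.node (.leaf (.up 3 198 5)) (.leaf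 (.up 4 992 4)))) (.node (.node (.leaf (.up 4 110 6)) (.leaf (.up 4 442 5))) (.node (.leaf (.up 4 197 6)) (.leaf (.up 1 3 1))))) (.node (.node (.node (.leaf (.up 4 695 5)) (.leaf (.up 3 1517 1))) (.node (.leaf (.up 4 26 4)) (.leaf (.up 2 2029 1)))) (.node (.node (.leaf (.up 4 287 6)) (.leaf (.up 4 1606 2))) (.node (.leaf (.up 5 282 4)) (.leaf (.up 4 370 1))))))))

noncomputable def vt2_6_100 : Tr VStep := .node vt2_6_1000 vt2_6_1001

noncomputable def vt2_6_1010 : Tr VStep :=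
  .node (.node (.node (.node (.node (.node (.node (.leaf (.up 4 1222 5)) (.leaf (.up 3 1113 3))) (.node (.leaf (.up 1 3 4)) (.leaf (.up 3 550 6)))) (.node (.node (.leaf (.up 3 601 5)) (.leaf (.up 4 1369 3))) (.node (.leaf (.up 2 1913 3)) (.leaf (.up 1 35 4))))) (.node (.node (.node (.leaf (.up 3 808 5)) (.leaf (.up 3 1020 6))) (.node (.leaf (.up 3 1402 6)) (.leaf (.up 4 26 2)))) (.node (.node (.leaf (.up 3 1806 1)) (.leaf (.up 4 1849 6))) (.node (.leaf (.up 3 1294 1)) (.leaf (.up 3 326 0)))))) (.node (.node (.node (.node (.leaf (.up 4 2009 6)) (.leaf (.up 3 500 6))) (.node (.leaf (.up 3 1020 0)) (.leaf (.up 3 351 6)))) (.node (.node (.leaf (.up 3 796 6)) (.leaf (.up 4 1329 6))) (.node (.leaf (.up 3 951 6)) (.leaf (.up 2 1817 3))))) (.node (.node (.node (.leaf (.up 3 1983 5)) (.leaf (.up 4 133 6))) (.node (.leaf (.up 4 1539 6)) (.leaf (.up 1 46 6)))) (.node (.node (.leaf (.up 4 621 6)) (.leaf (.up 3 92 4))) (.node (.leaf (.up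 2 1798 1)) (.leaf (.up 3 1219 3))))))) (.node (.node (.node (.node (.node (.leaf (.up 4 1815 0)) (.leaf (.up 2 1913 5))) (.node (.leaf (.up 3 154 5)) (.leaf (.up 3 601 3)))) (.node (.node (.leaf (.up 2 922 5)) (.leaf (.up 3 486 5))) (.node (.leaf (.up 4 1372 6)) (.leaf (.up 2 1315 4))))) (.node (.node (.node (.leaf (.up 2 747 5)) (.leaf (.up 3 1646 6))) (.node (.leaf (.up 4 2009 4)) (.leaf (.up 1 46 1)))) (.node (.node (.leaf (.up 3 1140 5)) (.leaf (.up 4 643 3))) (.node (.leaf (.up 3 493 1)) (.leaf (.up 4 1713 1)))))) (.node (.node (.node (.node (.leaf (.up 4 1547 1)) (.leaf (.up 5 579 0))) (.node (.leaf (.up 3 569 3)) (.leaf (.up 3 537 3)))) (.node (.node (.leaf (.up 4 1678 6)) (.leaf (.up 3 1926 4))) (.node (.leaf (.up 4 1573 6)) (.leaf (.up 1 8 6))))) (.node (.node (.node (.leaf (.up 3 826 6)) (.leaf (.up 4 1116 4))) (.node (.leaf (.up 3 1646 0)) (.leaf (.up 3 1114 2)))) (.node (.node (.leaf (.up 4 1148 4)) (.leaf (.up 4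 466 6))) (.node (.leaf (.up 3 1876 6)) (.leaf (.up 3 1209 1)))))))) (.node (.node (.node (.node (.node (.node (.leaf (.up 3 940 2)) (.leaf (.up 3 266 6))) (.node (.leaf (.up 4 1932 6)) (.leaf (.up 5 51 4)))) (.node (.node (.leaf (.up 3 1420 4)) (.leaf (.up 5 908 2))) (.node (.leaf (.up 2 1661 1)) (.leaf (.up 4 565 0))))) (.node (.node (.node (.leaf (.up 2 1953 3)) (.leaf (.up 6 123 6))) (.node (.leaf (.up 3 969 4)) (.leaf (.up 2 208 6)))) (.node (.node (.leaf (.up 2 812 2)) (.leaf (.up 5 1654 4))) (.node (.leaf (.up 3 1185 3)) (.leaf (.up 2 1153 3)))))) (.node (.node (.node (.node (.leaf (.up 3 1226 5)) (.leaf (.up 3 1051 3))) (.node (.leaf (.up 4 1595 3)) (.leaf (.up 4 1801 4)))) (.node (.node (.leaf (.up 4 1004 2)) (.leaf (.up 1 41 5))) (.node (.leaf (.up 2 1833 4)) (.leaf (.up 3 1565 6))))) (.node (.node (.node (.leaf (.up 2 1327 6)) (.leaf (.up 2 770 6))) (.node (.leaf (.up 4 143 0)) (.leaf (.up 2 2003 0)))) (.node (.node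 (.leaf (.up 3 1761 3)) (.leaf (.up 2 332 4))) (.node (.leaf (.up 3 321 6)) (.leaf (.up 2 1747 2))))))) (.node (.node (.node (.node (.node (.leaf (.up 4 693 6)) (.leaf (.up 2 172 4))) (.node (.leaf (.up 3 542 6)) (.leaf (.up 2 1661 5)))) (.node (.node (.leaf (.up 3 379 3)) (.leaf (.up 4 1676 2))) (.node (.leaf (.up 5 563 2)) (.leaf (.up 3 246 6))))) (.node (.node (.node (.leaf (.up 4 964 6)) (.leaf (.up 1 44 1))) (.node (.leaf (.up 3 1007 5)) (.leaf (.up 4 915 2)))) (.node (.node (.leaf (.up 3 1793 6)) (.leaf (.up 3 641 3))) (.node (.leaf (.up 3 947 2)) (.leaf (.up 2 129 3)))))) (.node (.node (.node (.node (.leaf (.up 3 1289 5)) (.leaf (.up 3 853 1))) (.node (.leaf (.up 3 627 2)) (.leaf (.up 3 851 2)))) (.node (.node (.leaf (.up 3 662 1)) (.leaf (.up 3 1996 2))) (.node (.leaf (.up 4 827 3)) (.leaf (.up 4 1141 5))))) (.node (.node (.node (.leaf (.up 3 993 3)) (.leaf (.up 4 304 0))) (.node (.leaf (.up 3 499 4)) (.leaf (.up 4 1595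 6)))) (.node (.node (.leaf (.up 2 1900 2)) (.leaf (.up 4 1211 1))) (.node (.leaf (.up 2 1235 6)) (.leaf (.up 5 467 4))))))))

noncomputable def vt2_6_1011 : Tr VStep :=
  .node (.node (.node (.node (.node (.node (.node (.leaf (.up 4 672 1)) (.leaf (.up 3 1532 1))) (.node (.leaf (.up 3 238 4)) (.leaf (.up 5 279 6)))) (.node (.node (.leaf (.up 4 1087 1)) (.leaf (.up 4 867 1))) (.node (.leaf (.up 4 1023 6)) (.leaf (.up 4 355 1))))) (.node (.node (.node (.leaf (.up 3 1760 6)) (.leaf (.up 3 205 6))) (.node (.leaf (.up 4 465 1)) (.leaf (.up 3 788 4)))) (.node (.node (.leaf (.up 3 1707 3)) (.leaf (.up 3 788 5))) (.node (.leaf (.up 3 820 4)) (.leaf (.up 2 1163 3)))))) (.node (.node (.node (.node (.leaf (.up 5 587 4)) (.leaf (.up 4 2036 1))) (.node (.leaf (.up 4 273 5)) (.leaf (.up 3 1760 0)))) (.node (.node (.leaf (.up 2 1133 2)) (.leaf (.up 5 1297 3))) (.node (.leaf (.up 3 1934 5)) (.leaf (.up 2 127 0))))) (.node (.node (.node (.leaf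 (.up 2 145 4)) (.leaf (.up 3 1485 2))) (.node (.leaf (.up 3 1294 4)) (.leaf (.up 4 799 6)))) (.node (.node (.leaf (.up 3 1517 2)) (.leaf (.up 2 1739 3))) (.node (.leaf (.up 2 1038 4)) (.leaf (.up 4 540 5))))))) (.node (.node (.node (.node (.node (.leaf (.up 4 515 6)) (.leaf (.up 4 287 1))) (.node (.leaf (.up 4 680 6)) (.leaf (.up 4 799 1)))) (.node (.node (.leaf (.up 3 369 3)) (.leaf (.up 4 337 3))) (.node (.leaf (.up 4 1645 6)) (.leaf (.up 4 64 6))))) (.node (.node (.node (.leaf (.up 4 882 6)) (.leaf (.up 4 110 1))) (.node (.leaf (.up 5 985 6)) (.leaf (.up 4 1556 4)))) (.node (.node (.leaf (.up 3 1975 6)) (.leaf (.up 3 410 6))) (.node (.leaf (.up 4 1820 6)) (.leaf (.up 3 1298 2)))))) (.node (.node (.node (.node (.leaf (.up 4 378 6)) (.leaf (.up 1 3 0))) (.node (.leaf (.up 3 210 5)) (.leaf (.up 3 1234 2)))) (.node (.node (.leaf (.up 4 1471 6)) (.leaf (.up 4 1416 1))) (.node (.leaf (.up 4 212 1)) (.leaf (.up 4 825 6))))) (.node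 (.node (.node (.leaf (.up 3 1425 4)) (.leaf (.up 3 205 2))) (.node (.leaf (.up 3 1852 5)) (.leaf (.up 3 302 4)))) (.node (.node (.leaf (.up 2 1169 4)) (.leaf (.up 2 1457 4))) (.node (.leaf (.up 4 419 5)) (.leaf (.up 1 46 4)))))))) (.node (.node (.node (.node (.node (.node (.leaf (.up 4 1046 6)) (.leaf (.up 3 1107 3))) (.node (.leaf (.up 4 510 4)) (.leaf (.up 2 222 4)))) (.node (.node (.leaf (.up 5 211 6)) (.leaf (.up 3 97 5))) (.node (.leaf (.up 2 1085 1)) (.leaf (.up 3 478 4))))) (.node (.node (.node (.leaf (.up 4 1383 6)) (.leaf (.up 3 516 2))) (.node (.leaf (.up 4 1449 3)) (.leaf (.up 3 1417 3)))) (.node (.node (.leaf (.up 3 1112 0)) (.leaf (.up 2 1691 4))) (.node (.leaf (.up 4 265 6)) (.leaf (.up 2 1691 2)))))) (.node (.node (.node (.node (.leaf (.up 3 446 0)) (.leaf (.up 5 1043 3))) (.node (.leaf (.up 4 170 1)) (.leaf (.up 4 1555 3)))) (.node (.node (.leaf (.up 3 603 4)) (.leaf (.up 4 873 1))) (.node (.leaf (.up 3 789 5))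 (.leaf (.up 3 1324 6))))) (.node (.node (.node (.leaf (.up 4 1566 6)) (.leaf (.up 3 836 2))) (.node (.leaf (.up 3 1054 4)) (.leaf (.up 5 152 6)))) (.node (.node (.leaf (.up 2 129 4)) (.leaf (.up 3 792 5))) (.node (.leaf (.up 3 1787 2)) (.leaf (.up 6 1117 6))))))) (.node (.node (.node (.node (.node (.leaf (.up 4 388 6)) (.leaf (.up 1 9 0))) (.node (.leaf (.up 2 222 5)) (.leaf (.up 4 674 5)))) (.node (.node (.leaf (.up 3 97 4)) (.leaf (.up 3 321 4))) (.node (.leaf (.up 2 222 1)) (.leaf (.up 2 1085 5))))) (.node (.node (.node (.leaf (.up 4 245 6)) (.leaf (.up 4 376 0))) (.node (.leaf (.up 4 94 6)) (.leaf (.up 4 1796 4)))) (.node (.node (.leaf (.up 2 1828 2)) (.leaf (.up 4 649 3))) (.node (.leaf (.up 2 1828 4)) (.leaf (.up 4 1779 1)))))) (.node (.node (.node (.node (.leaf (.up 3 1764 2)) (.leaf (.up 3 1232 6))) (.node (.leaf (.up 4 1885 0)) (.leaf (.up 1 1 0)))) (.node (.node (.leaf (.up 4 1592 6)) (.leaf (.up 4 1182 0))) (.node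 (.leaf (.up 4 1683 6)) (.leaf (.up 3 996 4))))) (.node (.node (.node (.leaf (.up 2 1153 4)) (.leaf (.up 3 969 3))) (.node (.leaf (.up 4 1336 1)) (.leaf (.up 2 1290 6)))) (.node (.node (.leaf (.up 4 167 5)) (.leaf (.up 3 1787 1))) (.node (.leaf (.up 4 2018 6)) (.leaf (.up 3 463 6))))))))

noncomputable def vt2_6_101 : Tr VStep := .node vt2_6_1010 vt2_6_1011

noncomputable def vt2_6_10 : Tr VStep := .node vt2_6_100 vt2_6_101

noncomputable def vt2_6_1100 : Tr VStep :=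
  .node (.node (.node (.node (.node (.node (.node (.leaf (.root 912)) (.leaf (.up 4 960 3))) (.node (.leaf (.up 3 1728 5)) (.leaf (.up 3 1212 5)))) (.node (.node (.leaf (.up 3 486 1)) (.leaf (.up 3 1980 5))) (.node (.leaf (.up 4 95 5)) (.leaf (.up 3 1966 0))))) (.node (.node (.node (.leaf (.up 4 58 3)) (.leaf (.up 4 26 3))) (.node (.leaf (.up 3 530 6)) (.leaf (.up 3 28 2)))) (.node (.node (.leaf (.up 3 1660 6)) (.leaf (.up 5 282 3))) (.node (.leaf (.up 3 826 3)) (.leaf (.up 3 1485 5)))))) (.node (.node (.node (.node (.leaf (.up 3 928 3)) (.leaf (.up 4 313 0))) (.node (.leaf (.up 4 26 6)) (.leaf (.up 4 1591 6)))) (.node (.node (.leaf (.up 3 928 4)) (.leaf (.up 3 601 6))) (.node (.leaf (.up 4 762 0)) (.leaf (.up 4 1714 1))))) (.node (.node (.node (.leaf (.up 4 1024 1)) (.leaf (.up 2 2029 6))) (.node (.leaf (.up 3 1465 5)) (.leaf (.up 4 584 0)))) (.node (.node (.leaf (.up 4 378 3)) (.leaf (.up 3 808 6))) (.node (.leaf (.up 4 159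 1)) (.leaf (.up 3 92 2))))))) (.node (.node (.node (.node (.node (.leaf (.root 1970)) (.leaf (.up 4 442 4))) (.node (.leaf (.up 3 1504 3)) (.leaf (.up 3 1407 5)))) (.node (.node (.leaf (.up 3 1760 3)) (.leaf (.up 1 3 2))) (.node (.leaf (.up 2 1797 1)) (.leaf (.up 3 1049 6))))) (.node (.node (.node (.leaf (.up 2 747 1)) (.leaf (.up 3 262 6))) (.node (.leaf (.up 4 237 5)) (.leaf (.up 3 1562 3)))) (.node (.node (.leaf (.up 3 832 4)) (.leaf (.up 3 1306 3))) (.node (.leaf (.up 4 837 6)) (.leaf (.up 2 1038 5)))))) (.node (.node (.node (.node (.leaf (.up 2 1315 6)) (.leaf (.up 4 782 6))) (.node (.leaf (.up 4 1416 6)) (.leaf (.up 4 799 4)))) (.node (.node (.leaf (.up 3 1049 0)) (.leaf (.up 4 837 0))) (.node (.leaf (.up 3 333 6)) (.leaf (.up 4 325 0))))) (.node (.node (.node (.leaf (.up 3 1402 4)) (.leaf (.up 3 1114 3))) (.node (.leaf (.up 4 229 4)) (.leaf (.up 3 1707 0)))) (.node (.node (.leaf (.up 3 1402 3)) (.leaf (.up 4 288 1)))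 (.node (.leaf (.up 4 1896 0)) (.leaf (.up 2 153 5)))))))) (.node (.node (.node (.node (.node (.node (.leaf (.up 3 1403 1)) (.leaf (.up 4 1634 6))) (.node (.leaf (.up 2 1135 0)) (.leaf (.up 3 1737 6)))) (.node (.node (.leaf (.up 3 996 1)) (.leaf (.up 4 906 2))) (.node (.leaf (.up 4 226 3)) (.leaf (.up 4 309 4))))) (.node (.node (.node (.leaf (.up 1 42 5)) (.leaf (.up 5 1811 6))) (.node (.leaf (.up 3 405 6)) (.leaf (.up 3 1685 2)))) (.node (.node (.leaf (.up 4 1872 4)) (.leaf (.up 4 982 6))) (.node (.leaf (.up 3 824 3)) (.leaf (.up 3 792 3)))))) (.node (.node (.node (.node (.leaf (.up 2 1127 0)) (.leaf (.up 2 970 2))) (.node (.leaf (.up 3 1740 5)) (.leaf (.up 3 1807 4)))) (.node (.node (.leaf (.up 2 1002 2)) (.leaf (.up 3 1712 1))) (.node (.leaf (.up 2 1880 6)) (.leaf (.up 2 1551 4))))) (.node (.node (.node (.leaf (.up 4 120 3)) (.leaf (.up 1 74 4))) (.node (.leaf (.up 3 1814 0)) (.leaf (.up 1 74 0)))) (.node (.node (.leaf (.up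 4 376 3)) (.leaf (.up 3 1237 0))) (.node (.leaf (.up 5 888 3)) (.leaf (.up 1 4 6))))))) (.node (.node (.node (.node (.node (.leaf (.up 4 1501 6)) (.leaf (.up 4 1008 6))) (.node (.leaf (.up 4 1045 4)) (.leaf (.up 5 533 2)))) (.node (.node (.leaf (.up 5 1043 0)) (.leaf (.up 4 426 4))) (.node (.leaf (.up 4 565 2)) (.leaf (.up 3 789 2))))) (.node (.node (.node (.leaf (.up 5 1834 2)) (.leaf (.up 3 641 6))) (.node (.leaf (.up 4 1142 5)) (.leaf (.up 3 554 6)))) (.node (.node (.leaf (.up 4 105 6)) (.leaf (.up 2 1290 5))) (.node (.leaf (.up 2 1999 4)) (.leaf (.up 2 1816 3)))))) (.node (.node (.node (.node (.leaf (.up 3 1712 4)) (.leaf (.up 4 236 5))) (.node (.leaf (.up 2 1551 6)) (.leaf (.up 3 853 2)))) (.node (.node (.leaf (.up 2 1770 2)) (.leaf (.up 4 1651 5))) (.node (.leaf (.up 3 1051 0)) (.leaf (.up 3 839 0))))) (.node (.node (.node (.leaf (.up 3 2005 6)) (.leaf (.up 3 1112 3))) (.node (.leaf (.up 3 1013 0)) (.leaf (.up 3 213 4))))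 (.node (.node (.leaf (.up 2 784 6)) (.leaf (.up 4 1098 4))) (.node (.leaf (.up 4 245 4)) (.leaf (.up 2 1880 3))))))))

noncomputable def vt2_6_1101 : Tr VStep :=
  .node (.node (.node (.node (.node (.node (.node (.leaf (.up 4 1000 3)) (.leaf (.up 3 369 0))) (.node (.leaf (.up 4 1849 1)) (.leaf (.up 3 1663 6)))) (.node (.node (.leaf (.up 4 1084 6)) (.leaf (.up 4 529 6))) (.node (.leaf (.up 3 422 1)) (.leaf (.up 4 200 3))))) (.node (.node (.node (.leaf (.up 4 392 6)) (.leaf (.up 1 0 0))) (.node (.leaf (.up 3 52 2)) (.leaf (.up 3 1933 5)))) (.node (.node (.leaf (.up 5 306 3)) (.leaf (.up 3 1933 4))) (.node (.leaf (.up 4 818 3)) (.leaf (.up 3 274 5)))))) (.node (.node (.node (.node (.leaf (.up 3 791 5)) (.leaf (.up 4 1453 6))) (.node (.leaf (.up 4 244 2)) (.leaf (.up 4 1268 5)))) (.node (.node (.leaf (.up 3 1861 6)) (.leaf (.up 3 360 6))) (.node (.leaf (.up 3 500 2)) (.leaf (.up 4 2022 0))))) (.node (.node (.node (.leaf (.up 4 151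 4)) (.leaf (.up 4 1244 6))) (.node (.leaf (.up 3 358 5)) (.leaf (.up 1 8 0)))) (.node (.node (.leaf (.up 4 370 3)) (.leaf (.up 4 26 5))) (.node (.leaf (.up 3 1032 4)) (.leaf (.up 4 850 3))))))) (.node (.node (.node (.node (.node (.leaf (.up 4 474 1)) (.leaf (.up 4 1426 0))) (.node (.leaf (.up 4 986 1)) (.leaf (.up 3 1480 3)))) (.node (.node (.leaf (.up 3 1768 3)) (.leaf (.up 4 1923 6))) (.node (.leaf (.up 4 261 6)) (.leaf (.up 3 537 1))))) (.node (.node (.node (.leaf (.up 4 1050 6)) (.leaf (.up 4 1042 3))) (.node (.leaf (.up 4 1201 6)) (.leaf (.up 2 668 6)))) (.node (.node (.leaf (.up 5 941 4)) (.leaf (.up 3 1298 3))) (.node (.leaf (.up 4 116 6)) (.leaf (.up 3 209 5)))))) (.node (.node (.node (.node (.leaf (.up 3 1869 4)) (.leaf (.up 4 63 6))) (.node (.leaf (.up 4 1448 3)) (.leaf (.up 4 1678 1)))) (.node (.node (.leaf (.up 4 1704 3)) (.leaf (.up 4 1591 5))) (.node (.leaf (.up 3 1113 0)) (.leaf (.up 3 773 0))))) (.node (.node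 (.node (.leaf (.up 5 1891 6)) (.leaf (.up 3 1207 4))) (.node (.leaf (.up 1 8 4)) (.leaf (.up 4 296 4)))) (.node (.node (.leaf (.up 4 933 5)) (.leaf (.up 4 1419 6))) (.node (.leaf (.up 2 264 4)) (.leaf (.up 3 1874 3)))))))) (.node (.node (.node (.node (.node (.node (.leaf (.up 2 1127 4)) (.leaf (.up 2 970 3))) (.node (.leaf (.up 3 1668 5)) (.leaf (.up 3 1565 2)))) (.node (.node (.leaf (.up 4 746 3)) (.leaf (.up 3 406 6))) (.node (.leaf (.up 3 27 5)) (.leaf (.up 4 472 4))))) (.node (.node (.node (.leaf (.up 4 1610 1)) (.leaf (.up 3 1949 4))) (.node (.leaf (.up 4 1098 1)) (.leaf (.up 1 2 0)))) (.node (.node (.leaf (.up 3 213 1)) (.leaf (.up 2 770 2))) (.node (.leaf (.up 4 1633 6)) (.leaf (.up 2 784 3)))))) (.node (.node (.node (.node (.leaf (.up 3 938 3)) (.leaf (.up 3 379 0))) (.node (.leaf (.up 2 1661 2)) (.leaf (.up 4 1885 2)))) (.node (.node (.leaf (.up 3 940 1)) (.leaf (.up 5 751 6))) (.node (.leaf (.up 4 696 0)) (.leaf (.up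 4 580 6))))) (.node (.node (.node (.leaf (.up 2 391 4)) (.leaf (.up 1 10 0))) (.node (.leaf (.up 3 1048 4)) (.leaf (.up 4 1336 4)))) (.node (.node (.leaf (.up 2 368 3)) (.leaf (.up 2 1153 5))) (.node (.leaf (.up 3 1304 4)) (.leaf (.up 6 1080 4))))))) (.node (.node (.node (.node (.node (.leaf (.up 3 1772 6)) (.leaf (.up 4 164 5))) (.node (.leaf (.up 3 1863 5)) (.leaf (.up 3 797 2)))) (.node (.node (.leaf (.up 2 103 4)) (.leaf (.up 4 1595 5))) (.node (.leaf (.up 3 829 2)) (.leaf (.up 3 27 1))))) (.node (.node (.node (.leaf (.up 3 1949 6)) (.leaf (.up 3 1761 0))) (.node (.leaf (.up 3 1570 4)) (.leaf (.up 5 283 6)))) (.node (.node (.leaf (.up 4 1078 1)) (.leaf (.up 4 1397 6))) (.node (.leaf (.up 5 1011 6)) (.leaf (.up 4 1538 4)))))) (.node (.node (.node (.node (.leaf (.up 5 1962 3)) (.leaf (.up 4 1676 1))) (.node (.leaf (.up 4 196 0)) (.leaf (.up 5 738 4)))) (.node (.node (.leaf (.up 2 336 6)) (.leaf (.up 2 1661 4))) (.node (.leaf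 (.up 5 706 4)) (.leaf (.up 3 263 0))))) (.node (.node (.node (.leaf (.up 3 1159 4)) (.leaf (.up 3 1447 4))) (.node (.leaf (.up 4 1103 6)) (.leaf (.up 2 56 4)))) (.node (.node (.leaf (.up 4 1854 5)) (.leaf (.up 3 354 1))) (.node (.leaf (.up 5 138 6)) (.leaf (.up 4 1872 3))))))))

noncomputable def vt2_6_110 : Tr VStep := .node vt2_6_1100 vt2_6_1101

noncomputable def vt2_6_1110 : Tr VStep :=
  .node (.node (.node (.node (.node (.node (.node (.leaf (.up 4 1182 4)) (.leaf (.up 3 947 6))) (.node (.leaf (.up 3 446 2)) (.leaf (.up 3 792 6)))) (.node (.node (.leaf (.up 2 1385 3)) (.leaf (.up 3 1025 2))) (.node (.leaf (.up 1 1 4)) (.leaf (.up 4 289 4))))) (.node (.node (.node (.leaf (.up 3 149 0)) (.leaf (.up 2 1153 2))) (.node (.leaf (.up 3 1441 5)) (.leaf (.up 5 617 6)))) (.node (.node (.leaf (.up 1 42 6)) (.leaf (.up 4 1245 5))) (.node (.leaf (.up 2 129 6)) (.leaf (.up 6 1708 6)))))) (.node (.node (.node (.node (.leaf (.up 3 839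 5)) (.leaf (.up 3 315 5))) (.node (.leaf (.up 4 1595 4)) (.leaf (.up 3 97 6)))) (.node (.node (.leaf (.up 5 1496 5)) (.leaf (.up 3 315 1))) (.node (.leaf (.up 2 1833 3)) (.leaf (.up 2 222 2))))) (.node (.node (.node (.leaf (.up 3 1942 6)) (.leaf (.up 2 2003 3))) (.node (.leaf (.up 3 1853 6)) (.leaf (.up 3 1473 4)))) (.node (.node (.leaf (.up 3 1814 1)) (.leaf (.up 1 74 1))) (.node (.leaf (.up 4 1016 6)) (.leaf (.up 2 1217 4))))))) (.node (.node (.node (.node (.node (.leaf (.up 2 12 6)) (.leaf (.up 1 1 2))) (.node (.leaf (.up 3 1025 4)) (.leaf (.up 3 496 5)))) (.node (.node (.leaf (.up 3 361 3)) (.leaf (.up 3 446 4))) (.node (.leaf (.up 4 873 3)) (.leaf (.up 4 841 3))))) (.node (.node (.node (.leaf (.up 3 836 4)) (.leaf (.up 4 915 3))) (.node (.leaf (.up 5 1342 2)) (.leaf (.up 3 1054 2)))) (.node (.node (.leaf (.up 4 1890 5)) (.leaf (.up 2 129 2))) (.node (.leaf (.up 5 1299 6)) (.leaf (.up 2 129 5)))))) (.node (.node (.node (.node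 (.leaf (.up 1 41 3)) (.leaf (.up 1 9 3))) (.node (.leaf (.up 4 827 4)) (.leaf (.up 4 1383 5)))) (.node (.node (.leaf (.up 3 1051 5)) (.leaf (.up 3 1668 4))) (.node (.leaf (.up 4 388 5)) (.leaf (.up 3 310 6))))) (.node (.node (.node (.leaf (.up 3 516 6)) (.leaf (.up 3 1065 6))) (.node (.leaf (.up 3 499 3)) (.leaf (.up 4 54 1)))) (.node (.node (.leaf (.up 3 1729 6)) (.leaf (.up 4 236 6))) (.node (.leaf (.up 3 737 0)) (.leaf (.up 4 71 6)))))))) (.node (.node (.node (.node (.node (.node (.leaf (.up 3 1561 6)) (.leaf (.up 3 1966 1))) (.node (.leaf (.up 3 17 4)) (.leaf (.up 4 159 6)))) (.node (.node (.leaf (.up 4 936 2)) (.leaf (.up 3 1265 6))) (.node (.leaf (.up 2 1133 1)) (.leaf (.up 3 1114 6))))) (.node (.node (.node (.leaf (.up 3 663 0)) (.leaf (.up 4 325 6))) (.node (.leaf (.up 2 1457 3)) (.leaf (.up 3 1425 3)))) (.node (.node (.leaf (.up 3 1032 0)) (.leaf (.up 4 70 5))) (.node (.leaf (.up 3 774 6)) (.leaf (.up 2 1169 3))))))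 (.node (.node (.node (.node (.leaf (.up 4 762 1)) (.leaf (.up 4 845 6))) (.node (.leaf (.up 4 250 1)) (.leaf (.up 4 1547 3)))) (.node (.node (.leaf (.up 4 948 4)) (.leaf (.up 4 968 2))) (.node (.leaf (.up 4 270 6)) (.leaf (.up 4 313 1))))) (.node (.node (.node (.leaf (.up 4 110 4)) (.leaf (.up 4 572 6))) (.node (.leaf (.up 4 1521 3)) (.leaf (.up 3 663 6)))) (.node (.node (.leaf (.up 4 212 6)) (.leaf (.up 3 78 4))) (.node (.leaf (.up 2 127 6)) (.leaf (.up 3 1489 4))))))) (.node (.node (.node (.node (.node (.leaf (.up 2 142 4)) (.leaf (.up 4 244 5))) (.node (.leaf (.up 4 800 6)) (.leaf (.up 3 791 2)))) (.node (.node (.leaf (.up 3 398 4)) (.leaf (.up 4 355 6))) (.node (.leaf (.up 2 142 1)) (.leaf (.up 4 1329 4))))) (.node (.node (.node (.leaf (.up 4 762 6)) (.leaf (.up 2 1800 2))) (.node (.leaf (.up 3 951 2)) (.leaf (.up 3 663 2)))) (.node (.node (.leaf (.up 4 1023 1)) (.leaf (.up 3 18 6))) (.node (.leaf (.up 2 1739 4)) (.leaf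 (.up 2 145 3)))))) (.node (.node (.node (.node (.leaf (.up 3 1768 2)) (.leaf (.up 4 325 1))) (.node (.leaf (.up 3 1049 1)) (.leaf (.up 4 837 1)))) (.node (.node (.leaf (.up 4 134 1)) (.leaf (.up 4 538 6))) (.node (.leaf (.up 4 631 2)) (.leaf (.up 4 779 3))))) (.node (.node (.node (.leaf (.up 4 1896 1)) (.leaf (.up 3 1966 6))) (.node (.leaf (.up 3 1660 0)) (.leaf (.up 2 1797 6)))) (.node (.node (.leaf (.up 4 1134 4)) (.leaf (.up 3 1707 1))) (.node (.leaf (.up 3 1517 6)) (.leaf (.up 3 209 3))))))))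

noncomputable def vt2_6_1111 : Tr VStep :=
  .node (.node (.node (.node (.node (.node (.node (.leaf (.up 4 1711 6)) (.leaf (.up 3 371 5))) (.node (.leaf (.up 4 1633 3)) (.leaf (.up 1 41 6)))) (.node (.node (.leaf (.up 3 1424 5)) (.leaf (.up 3 1107 4))) (.node (.leaf (.up 4 236 4)) (.leaf (.up 2 103 0))))) (.node (.node (.node (.leaf (.up 3 2014 6)) (.leaf (.up 3 1417 0))) (.node (.leaf (.up 3 310 2)) (.leaf (.up 2 534 4)))) (.node (.node (.leaf (.up 4 1449 2)) (.leaf (.up 1 2 1))) (.node (.leaf (.up 4 944 6)) (.leaf (.up 3 790 4)))))) (.node (.node (.node (.node (.leaf (.up 4 696 1)) (.leaf (.up 3 1025 3))) (.node (.leaf (.up 3 940 0)) (.leaf (.up 4 2038 4)))) (.node (.node (.leaf (.up 2 1385 2)) (.leaf (.up 4 873 4))) (.node (.leaf (.up 3 2006 4)) (.leaf (.up 3 1941 6))))) (.node (.node (.node (.leaf (.up 3 969 1)) (.leaf (.up 6 650 6))) (.node (.leaf (.up 3 1513 5)) (.leaf (.up 3 545 6)))) (.node (.node (.leaf (.up 2 1769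 5)) (.leaf (.up 5 1615 6))) (.node (.leaf (.up 2 1292 4)) (.leaf (.up 1 10 1))))))) (.node (.node (.node (.node (.node (.leaf (.up 1 41 2)) (.leaf (.up 3 83 4))) (.node (.leaf (.up 3 1260 4)) (.leaf (.up 2 1327 5)))) (.node (.node (.leaf (.up 3 1107 5)) (.leaf (.up 1 9 2))) (.node (.leaf (.up 3 204 1)) (.leaf (.up 3 382 6))))) (.node (.node (.node (.leaf (.up 4 588 6)) (.leaf (.up 4 638 1))) (.node (.leaf (.up 4 743 6)) (.leaf (.up 3 1814 4)))) (.node (.node (.leaf (.up 3 681 4)) (.leaf (.up 4 164 6))) (.node (.leaf (.up 3 681 0)) (.leaf (.up 3 1761 1)))))) (.node (.node (.node (.node (.leaf (.up 3 361 2)) (.leaf (.up 1 1 3))) (.node (.leaf (.up 3 545 3)) (.leaf (.up 2 775 1)))) (.node (.node (.leaf (.up 2 1153 6)) (.leaf (.up 4 684 6))) (.node (.leaf (.up 4 1066 6)) (.leaf (.up 4 1676 0))))) (.node (.node (.node (.leaf (.up 4 309 6)) (.leaf (.up 2 1816 6))) (.node (.leaf (.up 4 1066 5)) (.leaf (.up 1 44 4)))) (.node (.node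 (.leaf (.up 3 1520 6)) (.leaf (.up 2 1769 1))) (.node (.leaf (.up 2 12 4)) (.leaf (.up 3 300 4)))))))) (.node (.node (.node (.node (.node (.node (.leaf (.up 3 422 0)) (.leaf (.up 3 773 6))) (.node (.leaf (.up 5 934 0)) (.leaf (.up 4 1823 2)))) (.node (.node (.leaf (.up 3 493 6)) (.leaf (.up 4 1347 3))) (.node (.leaf (.up 3 326 6)) (.leaf (.up 3 369 1))))) (.node (.node (.node (.leaf (.up 3 1113 6)) (.leaf (.up 2 518 5))) (.node (.leaf (.up 3 1465 3)) (.leaf (.up 3 774 4)))) (.node (.node (.leaf (.up 4 1765 5)) (.leaf (.up 2 1177 5))) (.node (.leaf (.up 3 55 6)) (.leaf (.up 1 0 1)))))) (.node (.node (.node (.node (.leaf (.up 3 601 4)) (.leaf (.up 3 124 6))) (.node (.leaf (.up 4 1692 5)) (.leaf (.up 4 1248 5)))) (.node (.node (.leaf (.up 2 1315 3)) (.leaf (.up 3 1209 6))) (.node (.leaf (.up 1 3 5)) (.leaf (.up 4 1042 6))))) (.node (.node (.node (.leaf (.up 4 864 2)) (.leaf (.up 4 2009 3))) (.node (.leaf (.up 4 1931 6)) (.leaf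 (.up 3 422 6)))) (.node (.node (.leaf (.up 3 1876 1)) (.leaf (.up 1 8 1))) (.node (.leaf (.up 2 2029 5)) (.leaf (.up 3 1425 5))))))) (.node (.node (.node (.node (.node (.leaf (.up 3 99 3)) (.leaf (.up 3 537 0))) (.node (.leaf (.up 3 17 6)) (.leaf (.up 4 1244 4)))) (.node (.node (.leaf (.up 2 1151 6)) (.leaf (.up 3 594 6))) (.node (.leaf (.up 4 1236 6)) (.leaf (.up 4 799 2))))) (.node (.node (.node (.leaf (.up 5 459 6)) (.leaf (.up 3 965 5))) (.node (.leaf (.up 5 352 6)) (.leaf (.up 3 1869 6)))) (.node (.node (.leaf (.up 3 1294 6)) (.leaf (.up 3 665 3))) (.node (.leaf (.up 5 1445 6)) (.leaf (.up 2 153 3)))))) (.node (.node (.node (.node (.leaf (.up 1 35 3)) (.leaf (.up 1 3 3))) (.node (.leaf (.up 4 1625 1)) (.leaf (.up 2 1315 5)))) (.node (.node (.leaf (.up 2 1798 6)) (.leaf (.up 2 1913 4))) (.node (.leaf (.up 3 198 1)) (.leaf (.up 5 956 5))))) (.node (.node (.node (.leaf (.up 4 1632 2)) (.leaf (.up 3 1183 6))) (.node (.leaf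 (.up 3 537 6)) (.leaf (.up 4 316 4)))) (.node (.node (.leaf (.up 3 951 1)) (.leaf (.up 4 461 5))) (.node (.leaf (.up 3 1756 6)) (.leaf (.up 3 1106 5))))))))

noncomputable def vt2_6_111 : Tr VStep := .node vt2_6_1110 vt2_6_1111

noncomputable def vt2_6_11 : Tr VStep := .node vt2_6_110 vt2_6_111

noncomputable def vt2_6_1 : Tr VStep := .node vt2_6_10 vt2_6_11

noncomputable def vt2_6_ : Tr VStep := .node vt2_6_0 vt2_6_1

noncomputable def vt2_7_0000 : Tr VStep :=
  .node (.node (.node (.node (.node (.node (.node (.leaf (.root 57)) (.leaf (.up 3 1175 4))) (.node (.leaf (.up 2 1951 6)) (.leaf (.up 4 264 4)))) (.node (.node (.leaf (.up 3 1675 5)) (.leaf (.up 2 520 4))) (.node (.leaf (.up 3 262 5)) (.leaf (.up 3 1765 2))))) (.node (.node (.node (.leaf (.up 5 1859 2)) (.leaf (.up 3 525 1))) (.node (.leaf (.up 4 502 4)) (.leaf (.up 5 1981 6)))) (.node (.node (.leaf (.up 4 458 6)) (.leaf (.up 5 1343 2))) (.node (.leaf (.up 2 1897 4))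 (.leaf (.up 4 491 6)))))) (.node (.node (.node (.node (.leaf (.up 3 381 6)) (.leaf (.up 5 1146 6))) (.node (.leaf (.up 4 1115 6)) (.leaf (.up 5 348 6)))) (.node (.node (.leaf (.up 4 1852 3)) (.leaf (.up 6 556 6))) (.node (.leaf (.up 3 525 6)) (.leaf (.up 6 1802 6))))) (.node (.node (.node (.leaf (.up 5 889 2)) (.leaf (.up 4 1946 2))) (.node (.leaf (.up 4 53 4)) (.leaf (.up 4 1145 6)))) (.node (.node (.leaf (.up 5 1510 2)) (.leaf (.up 5 351 3))) (.node (.leaf (.up 5 2022 2)) (.leaf (.up 3 773 2))))))) (.node (.node (.node (.node (.node (.leaf (.up 4 926 6)) (.leaf (.up 2 1689 6))) (.node (.leaf (.up 5 1720 6)) (.leaf (.up 4 1318 3)))) (.node (.node (.leaf (.up 5 963 1)) (.leaf (.up 3 207 6))) (.node (.leaf (.up 5 238 6)) (.leaf (.up 4 1513 6))))) (.node (.node (.node (.leaf (.up 5 31 2)) (.leaf (.up 4 1109 5))) (.node (.leaf (.up 5 1041 5)) (.leaf (.up 3 1361 1)))) (.node (.node (.leaf (.up 5 237 6)) (.leaf (.up 4 990 5))) (.node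 (.leaf (.up 4 1152 2)) (.leaf (.up 4 99 2)))))) (.node (.node (.node (.node (.leaf (.up 4 90 6)) (.leaf (.up 4 455 5))) (.node (.leaf (.up 5 2047 2)) (.leaf (.up 5 1610 5)))) (.node (.node (.leaf (.up 6 864 2)) (.leaf (.up 5 1612 5))) (.node (.leaf (.up 5 810 6)) (.leaf (.up 4 1411 2))))) (.node (.node (.node (.leaf (.up 5 1061 2)) (.leaf (.up 5 1343 5))) (.node (.leaf (.up 3 1403 5)) (.leaf (.up 4 1374 6)))) (.node (.node (.leaf (.up 4 1405 5)) (.leaf (.up 5 107 1))) (.node (.leaf (.up 5 1039 4)) (.leaf (.up 3 776 6)))))))) (.node (.node (.node (.node (.node (.node (.leaf (.up 2 1179 2)) (.leaf (.up 5 320 5))) (.node (.leaf (.up 1 2 0)) (.leaf (.up 4 11 6)))) (.node (.node (.leaf (.up 2 1417 4)) (.leaf (.up 4 108 1))) (.node (.leaf (.up 1 4 2)) (.leaf (.up 5 326 5))))) (.node (.node (.node (.leaf (.up 5 1039 3)) (.leaf (.up 1 8 6))) (.node (.leaf (.up 4 1857 2)) (.leaf (.up 5 565 5)))) (.node (.node (.leaf (.up 4 990 2)) (.leaf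 (.up 4 1630 6))) (.node (.leaf (.up 5 1151 4)) (.leaf (.up 5 1470 5)))))) (.node (.node (.node (.node (.leaf (.up 3 725 4)) (.leaf (.up 3 1090 2))) (.node (.leaf (.up 4 673 2)) (.leaf (.up 3 1959 5)))) (.node (.node (.leaf (.up 4 104 5)) (.leaf (.up 4 733 2))) (.node (.leaf (.up 4 2021 5)) (.leaf (.up 4 1346 4))))) (.node (.node (.node (.leaf (.up 4 795 5)) (.leaf (.up 5 1234 5))) (.node (.leaf (.up 5 1174 5)) (.leaf (.up 2 1944 2)))) (.node (.node (.leaf (.up 2 1168 5)) (.leaf (.up 4 1434 6))) (.node (.leaf (.up 5 1508 2)) (.leaf (.up 2 1831 1))))))) (.node (.node (.node (.node (.node (.leaf (.up 4 467 3)) (.leaf (.up 3 1034 6))) (.node (.leaf (.up 4 455 2)) (.leaf (.up 3 300 6)))) (.node (.node (.leaf (.up 2 1368 2)) (.leaf (.up 2 604 6))) (.node (.leaf (.up 3 1213 0)) (.leaf (.up 3 1914 6))))) (.node (.node (.node (.leaf (.up 3 541 2)) (.leaf (.up 4 988 5))) (.node (.leaf (.up 4 270 6)) (.leaf (.up 5 1234 4)))) (.node (.node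 (.leaf (.up 4 926 5)) (.leaf (.up 5 1913 6))) (.node (.leaf (.up 5 1880 6)) (.leaf (.up 4 589 4)))))) (.node (.node (.node (.node (.leaf (.up 4 391 5)) (.leaf (.up 5 1614 5))) (.node (.leaf (.up 4 1533 2)) (.leaf (.up 5 744 6)))) (.node (.node (.leaf (.up 3 1183 6)) (.leaf (.up 5 1409 2))) (.node (.leaf (.up 5 866 2)) (.leaf (.up 6 1214 6))))) (.node (.node (.node (.leaf (.up 2 1897 3)) (.leaf (.up 4 747 6))) (.node (.leaf (.up 4 754 5)) (.leaf (.up 5 1997 6)))) (.node (.node (.leaf (.up 4 502 3)) (.leaf (.up 3 1213 6))) (.node (.leaf (.up 5 696 2)) (.leaf (.up 3 635 1))))))))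

noncomputable def vt2_7_0001 : Tr VStep :=
  .node (.node (.node (.node (.node (.node (.node (.leaf (.root 1132)) (.leaf (.up 6 407 2))) (.node (.leaf (.up 1 8 0)) (.leaf (.up 6 1773 5)))) (.node (.node (.leaf (.up 3 1003 2)) (.leaf (.up 5 1771 5))) (.node (.leaf (.up 2 1396 3)) (.leaf (.up 6 358 5))))) (.node (.node (.node (.leaf (.up 4 1270 4)) (.leaf (.up 5 1432 5))) (.node (.leaf (.up 3 423 6)) (.leaf (.up 3 533 5)))) (.node (.node (.leaf (.up 4 617 4)) (.leaf (.up 3 2000 6))) (.node (.leaf (.up 5 49 2)) (.leaf (.up 4 1438 5)))))) (.node (.node (.node (.node (.leaf (.up 4 1987 5)) (.leaf (.up 6 1895 6))) (.node (.leaf (.up 4 78 5)) (.leaf (.up 6 577 6)))) (.node (.node (.leaf (.up 3 2001 2)) (.leaf (.up 5 305 6))) (.node (.leaf (.up 2 604 4)) (.leaf (.up 4 1451 1))))) (.node (.node (.node (.leaf (.up 3 1333 4)) (.leaf (.up 3 1143 2))) (.node (.leaf (.up 2 170 4)) (.leaf (.up 5 1892 6)))) (.node (.node (.leaf (.up 4 1547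 2)) (.leaf (.up 5 889 5))) (.node (.leaf (.up 5 974 3)) (.leaf (.up 5 1754 1))))))) (.node (.node (.node (.node (.node (.leaf (.up 7 205 5)) (.leaf (.up 6 1709 4))) (.node (.leaf (.up 7 1856 5)) (.leaf (.up 5 1997 1)))) (.node (.node (.leaf (.up 6 1862 5)) (.leaf (.up 6 978 6))) (.node (.leaf (.up 6 203 5)) (.leaf (.up 5 1794 5))))) (.node (.node (.node (.leaf (.up 3 936 3)) (.leaf (.up 4 1809 2))) (.node (.leaf (.up 5 1591 3)) (.leaf (.up 6 1137 5)))) (.node (.node (.leaf (.up 5 351 1)) (.leaf (.up 3 1143 5))) (.node (.leaf (.up 2 1750 6)) (.leaf (.up 5 910 2)))))) (.node (.node (.node (.node (.leaf (.up 3 423 5)) (.leaf (.up 3 1646 5))) (.node (.leaf (.up 4 1578 5)) (.leaf (.up 5 241 2)))) (.node (.node (.leaf (.up 6 1580 5)) (.leaf (.up 3 22 6))) (.node (.leaf (.up 5 417 5)) (.leaf (.up 3 1646 2))))) (.node (.node (.node (.leaf (.up 5 1375 5)) (.leaf (.up 5 662 5))) (.node (.leaf (.up 4 836 6)) (.leaf (.up 4 299 2)))) (.node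 (.node (.leaf (.up 5 52 6)) (.leaf (.up 4 1331 6))) (.node (.leaf (.up 2 1168 4)) (.leaf (.up 4 7 4)))))))) (.node (.node (.node (.node (.node (.node (.leaf (.up 5 1910 2)) (.leaf (.up 3 917 2))) (.node (.leaf (.up 5 1553 6)) (.leaf (.up 3 790 6)))) (.node (.node (.leaf (.up 5 489 2)) (.leaf (.up 5 354 5))) (.node (.leaf (.up 6 294 5)) (.leaf (.up 4 1775 5))))) (.node (.node (.node (.leaf (.up 3 381 3)) (.leaf (.up 5 789 6))) (.node (.leaf (.up 5 1811 1)) (.leaf (.up 4 79 2)))) (.node (.node (.leaf (.up 5 68 6)) (.leaf (.up 4 1434 5))) (.node (.leaf (.up 5 1502 5)) (.leaf (.up 1 1 3)))))) (.node (.node (.node (.node (.leaf (.up 1 74 5)) (.leaf (.up 5 1923 5))) (.node (.leaf (.up 1 74 0)) (.leaf (.up 3 14 5)))) (.node (.node (.leaf (.up 7 1701 6)) (.leaf (.up 1 8 5))) (.node (.leaf (.up 6 899 6)) (.leaf (.up 4 816 2))))) (.node (.node (.node (.leaf (.up 5 662 2)) (.leaf (.up 4 420 3))) (.node (.leaf (.up 3 240 6)) (.leaf (.up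 4 1270 5)))) (.node (.node (.leaf (.up 3 896 6)) (.leaf (.up 5 1226 1))) (.node (.leaf (.up 4 1702 6)) (.leaf (.up 5 676 3))))))) (.node (.node (.node (.node (.node (.leaf (.up 2 528 6)) (.leaf (.up 5 1225 2))) (.node (.leaf (.up 2 554 2)) (.leaf (.up 4 1578 0)))) (.node (.node (.leaf (.up 3 207 5)) (.leaf (.up 3 804 4))) (.node (.leaf (.up 4 1858 5)) (.leaf (.up 5 139 5))))) (.node (.node (.node (.leaf (.up 4 79 1)) (.leaf (.up 4 706 3))) (.node (.leaf (.up 4 531 6)) (.leaf (.up 4 1885 3)))) (.node (.node (.leaf (.up 3 1569 3)) (.leaf (.up 4 1022 5))) (.node (.leaf (.up 4 954 5)) (.leaf (.up 5 450 3)))))) (.node (.node (.node (.node (.leaf (.up 5 1540 3)) (.leaf (.up 4 1235 6))) (.node (.leaf (.up 5 419 5)) (.leaf (.up 2 755 2)))) (.node (.node (.leaf (.up 5 655 2)) (.leaf (.up 6 645 6))) (.node (.leaf (.up 5 676 6)) (.leaf (.up 7 1955 6))))) (.node (.node (.node (.leaf (.up 5 726 5)) (.leaf (.up 4 502 6))) (.node (.leaf (.up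 4 1994 2)) (.leaf (.up 4 658 5)))) (.node (.node (.leaf (.up 4 853 2)) (.leaf (.up 4 660 5))) (.node (.leaf (.up 5 283 3)) (.leaf (.up 4 1305 5))))))))

noncomputable def vt2_7_000 : Tr VStep := .node vt2_7_0000 vt2_7_0001

noncomputable def vt2_7_0010 : Tr VStep :=
  .node (.node (.node (.node (.node (.node (.node (.leaf (.root 206)) (.leaf (.up 4 64 5))) (.node (.leaf (.up 1 4 5)) (.leaf (.up 4 1865 6)))) (.node (.node (.leaf (.up 1 2 5)) (.leaf (.up 6 888 3))) (.node (.leaf (.up 2 1949 4)) (.leaf (.up 6 70 5))))) (.node (.node (.node (.leaf (.up 4 589 6)) (.leaf (.up 5 1577 2))) (.node (.leaf (.up 5 1387 4)) (.leaf (.up 5 620 6)))) (.node (.node (.leaf (.up 4 1109 2)) (.leaf (.up 5 764 4))) (.node (.leaf (.up 4 317 6)) (.leaf (.up 5 265 1)))))) (.node (.node (.node (.node (.leaf (.up 4 1374 4)) (.leaf (.up 4 969 2))) (.node (.leaf (.up 5 193 4)) (.leaf (.up 3 1165 6)))) (.node (.node (.leaf (.up 4 437 2)) (.leaf (.up 4 1366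 2))) (.node (.leaf (.up 3 1765 5)) (.leaf (.up 3 300 5))))) (.node (.node (.node (.leaf (.up 5 393 6)) (.leaf (.up 4 531 2))) (.node (.leaf (.up 4 1199 6)) (.leaf (.up 5 19 2)))) (.node (.node (.leaf (.up 4 2015 6)) (.leaf (.up 4 728 6))) (.node (.leaf (.up 3 541 5)) (.leaf (.up 3 93 3))))))) (.node (.node (.node (.node (.node (.leaf (.up 4 1961 0)) (.leaf (.up 3 840 6))) (.node (.leaf (.up 4 873 6)) (.leaf (.up 3 1646 6)))) (.node (.node (.leaf (.up 4 1638 5)) (.leaf (.up 4 1310 6))) (.node (.leaf (.up 2 1368 3)) (.leaf (.up 3 56 6))))) (.node (.node (.node (.leaf (.up 3 438 1)) (.leaf (.up 4 732 5))) (.node (.leaf (.up 4 1942 2)) (.leaf (.up 3 1361 5)))) (.node (.node (.leaf (.up 3 1340 6)) (.leaf (.up 3 1367 5))) (.node (.leaf (.up 5 26 6)) (.leaf (.up 3 730 5)))))) (.node (.node (.node (.node (.leaf (.up 4 1419 6)) (.leaf (.up 5 140 6))) (.node (.leaf (.up 4 173 6)) (.leaf (.up 5 1450 6)))) (.node (.node (.leaf (.up 4 1804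 5)) (.leaf (.up 5 1523 4))) (.node (.leaf (.up 4 1257 2)) (.leaf (.up 4 108 4))))) (.node (.node (.node (.leaf (.up 3 1932 1)) (.leaf (.up 4 1449 6))) (.node (.leaf (.up 4 1416 6)) (.leaf (.up 4 1083 5)))) (.node (.node (.leaf (.up 3 1843 2)) (.leaf (.up 4 410 4))) (.node (.leaf (.up 4 1145 5)) (.leaf (.up 3 464 2)))))))) (.node (.node (.node (.node (.node (.node (.leaf (.up 1 0 5)) (.leaf (.up 5 252 6))) (.node (.leaf (.up 2 1933 5)) (.leaf (.up 5 68 5)))) (.node (.node (.leaf (.up 2 1933 2)) (.leaf (.up 3 66 5))) (.node (.leaf (.up 2 1933 3)) (.leaf (.up 4 1999 5))))) (.node (.node (.node (.leaf (.up 4 222 6)) (.leaf (.up 5 1909 4))) (.node (.leaf (.up 3 712 2)) (.leaf (.up 5 1905 3)))) (.node (.node (.leaf (.up 3 883 5)) (.leaf (.up 5 490 4))) (.node (.leaf (.up 4 2042 1)) (.leaf (.up 4 494 3)))))) (.node (.node (.node (.node (.leaf (.up 6 1576 3)) (.leaf (.up 5 824 6))) (.node (.leaf (.up 6 793 6)) (.leaf (.up 6 971 2))))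 (.node (.node (.leaf (.up 5 215 4)) (.leaf (.up 6 1390 6))) (.node (.leaf (.up 6 1352 4)) (.leaf (.up 5 72 6))))) (.node (.node (.node (.leaf (.up 4 1426 5)) (.leaf (.up 5 603 5))) (.node (.leaf (.up 5 1596 6)) (.leaf (.up 5 827 6)))) (.node (.node (.leaf (.up 4 621 2)) (.leaf (.up 5 41 4))) (.node (.leaf (.up 6 1428 5)) (.leaf (.up 3 1827 1))))))) (.node (.node (.node (.node (.node (.leaf (.up 4 1244 6)) (.leaf (.up 4 429 5))) (.node (.leaf (.up 5 215 1)) (.leaf (.up 4 173 2)))) (.node (.node (.leaf (.up 5 977 3)) (.leaf (.up 2 1933 6))) (.node (.leaf (.up 5 1614 3)) (.leaf (.up 4 683 6))))) (.node (.node (.node (.leaf (.up 4 668 5)) (.leaf (.up 5 1365 5))) (.node (.leaf (.up 4 1247 6)) (.leaf (.up 4 79 4)))) (.node (.node (.leaf (.up 5 267 2)) (.leaf (.up 5 1512 2))) (.node (.leaf (.up 4 678 1)) (.leaf (.up 3 1744 4)))))) (.node (.node (.node (.node (.leaf (.up 5 1816 6)) (.leaf (.up 4 1687 2))) (.node (.leaf (.up 5 574 6))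 (.leaf (.up 1 8 3)))) (.node (.node (.leaf (.up 4 334 6)) (.leaf (.up 1 8 2))) (.node (.leaf (.up 4 1128 6)) (.leaf (.up 2 520 2))))) (.node (.node (.node (.leaf (.up 4 942 2)) (.leaf (.up 5 383 1))) (.node (.leaf (.up 4 430 2)) (.leaf (.up 5 946 5)))) (.node (.node (.leaf (.up 3 1329 2)) (.leaf (.up 5 948 5))) (.node (.leaf (.up 3 1841 2)) (.leaf (.up 4 648 3))))))))

noncomputable def vt2_7_0011 : Tr VStep :=
  .node (.node (.node (.node (.node (.node (.node (.leaf (.up 5 32 5)) (.leaf (.up 5 370 6))) (.node (.leaf (.up 5 413 4)) (.leaf (.up 5 100 5)))) (.node (.node (.leaf (.up 5 547 6)) (.leaf (.up 4 1828 6))) (.node (.leaf (.up 4 38 5)) (.leaf (.up 3 917 1))))) (.node (.node (.node (.leaf (.up 4 1782 3)) (.leaf (.up 5 785 5))) (.node (.leaf (.up 4 853 5)) (.leaf (.up 4 1988 2)))) (.node (.node (.leaf (.up 6 1976 2)) (.leaf (.up 3 1178 5))) (.node (.leaf (.up 4 1246 5)) (.leaf (.up 2 1831 6)))))) (.node (.node (.node (.node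 (.leaf (.up 6 1969 6)) (.leaf (.up 4 342 4))) (.node (.leaf (.up 6 663 6)) (.leaf (.up 4 270 5)))) (.node (.node (.leaf (.up 2 600 2)) (.leaf (.up 4 1199 3))) (.node (.leaf (.up 2 88 2)) (.leaf (.up 3 1211 2))))) (.node (.node (.node (.leaf (.up 4 660 6)) (.leaf (.up 3 635 5))) (.node (.leaf (.up 3 1970 6)) (.leaf (.up 4 1022 2)))) (.node (.node (.leaf (.up 4 716 3)) (.leaf (.up 4 1520 5))) (.node (.leaf (.up 4 484 6)) (.leaf (.up 6 1251 6))))))) (.node (.node (.node (.node (.node (.leaf (.up 4 1604 5)) (.leaf (.up 4 834 2))) (.node (.leaf (.up 5 457 5)) (.leaf (.up 5 1225 3)))) (.node (.node (.leaf (.up 2 554 1)) (.leaf (.up 4 1199 4))) (.node (.leaf (.up 3 830 2)) (.leaf (.up 3 304 4))))) (.node (.node (.node (.leaf (.up 3 119 6)) (.leaf (.up 5 1353 3))) (.node (.leaf (.up 3 1329 5)) (.leaf (.up 4 152 2)))) (.node (.node (.leaf (.up 3 1569 6)) (.leaf (.up 5 806 6))) (.node (.leaf (.up 5 740 2)) (.leaf (.up 5 1536 6)))))) (.node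 (.node (.node (.node (.leaf (.up 3 1686 6)) (.leaf (.up 7 913 6))) (.node (.leaf (.up 4 1505 0)) (.leaf (.up 7 1719 6)))) (.node (.node (.leaf (.up 6 165 5)) (.leaf (.up 2 1479 6))) (.node (.leaf (.up 5 1510 6)) (.leaf (.up 3 225 5))))) (.node (.node (.node (.leaf (.up 5 1424 3)) (.leaf (.up 4 1946 4))) (.node (.leaf (.up 4 1115 5)) (.leaf (.up 4 517 4)))) (.node (.node (.leaf (.up 3 1509 6)) (.leaf (.up 5 916 5))) (.node (.leaf (.up 5 1738 0)) (.leaf (.up 3 1178 4)))))))) (.node (.node (.node (.node (.node (.node (.leaf (.up 4 1961 5)) (.leaf (.up 5 96 5))) (.node (.leaf (.up 5 36 5)) (.leaf (.up 5 2029 5)))) (.node (.node (.leaf (.up 4 176 6)) (.leaf (.up 7 2027 5))) (.node (.leaf (.up 5 1430 6)) (.leaf (.up 6 102 5))))) (.node (.node (.node (.leaf (.up 5 893 4)) (.leaf (.up 4 1990 2))) (.node (.leaf (.up 3 1765 6)) (.leaf (.up 4 1478 2)))) (.node (.node (.leaf (.up 6 1047 1)) (.leaf (.up 4 259 3))) (.node (.leaf (.up 4 179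 6)) (.leaf (.up 5 857 2)))))) (.node (.node (.node (.node (.leaf (.up 3 1733 2)) (.leaf (.up 5 576 4))) (.node (.leaf (.up 1 4 6)) (.leaf (.up 4 1283 6)))) (.node (.node (.leaf (.up 4 90 2)) (.leaf (.up 3 1651 6))) (.node (.leaf (.up 3 1733 5)) (.leaf (.up 4 853 6))))) (.node (.node (.node (.leaf (.up 4 7 6)) (.leaf (.up 3 1280 6))) (.node (.leaf (.up 3 1825 4)) (.leaf (.up 4 38 6)))) (.node (.node (.leaf (.up 5 474 3)) (.leaf (.up 5 854 6))) (.node (.leaf (.up 3 896 2)) (.leaf (.up 5 1321 4))))))) (.node (.node (.node (.node (.node (.leaf (.up 6 461 5)) (.leaf (.up 5 576 3))) (.node (.leaf (.up 6 1600 5)) (.leaf (.up 4 2016 6)))) (.node (.node (.leaf (.up 6 407 6)) (.leaf (.up 2 1168 6))) (.node (.leaf (.up 7 459 5)) (.leaf (.up 3 438 6))))) (.node (.node (.node (.leaf (.up 3 1333 5)) (.leaf (.up 5 764 5))) (.node (.leaf (.up 4 1657 2)) (.leaf (.up 5 208 4)))) (.node (.node (.leaf (.up 4 702 5)) (.leaf (.up 4 1541 2))) (.node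 (.leaf (.up 3 1827 3)) (.leaf (.up 4 762 5)))))) (.node (.node (.node (.node (.leaf (.up 3 1138 4)) (.leaf (.up 3 258 6))) (.node (.leaf (.up 4 921 2)) (.leaf (.up 3 1914 2)))) (.node (.node (.leaf (.up 4 749 4)) (.leaf (.up 4 229 5))) (.node (.leaf (.up 5 1906 4)) (.leaf (.up 4 1896 5))))) (.node (.node (.node (.leaf (.up 4 27 4)) (.leaf (.up 5 918 5))) (.node (.leaf (.up 4 1030 6)) (.leaf (.up 4 1696 2)))) (.node (.node (.leaf (.up 5 1905 1)) (.leaf (.up 4 531 4))) (.node (.leaf (.up 4 1244 2)) (.leaf (.up 3 1932 4))))))))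

noncomputable def vt2_7_001 : Tr VStep := .node vt2_7_0010 vt2_7_0011

noncomputable def vt2_7_00 : Tr VStep := .node vt2_7_000 vt2_7_001

noncomputable def vt2_7_0100 : Tr VStep :=
  .node (.node (.node (.node (.node (.node (.node (.leaf (.root 418)) (.leaf (.up 4 832 5))) (.node (.leaf (.up 2 260 4)) (.leaf (.up 4 126 3)))) (.node (.node (.leaf (.up 2 516 4)) (.leaf (.up 4 1103 6))) (.node (.leaf (.up 2 1947 4)) (.leaf (.up 4 838 5))))) (.node (.node (.node (.leaf (.up 4 1956 0)) (.leaf (.up 4 1852 6))) (.node (.leaf (.up 3 1821 6)) (.leaf (.up 4 538 6)))) (.node (.node (.leaf (.up 4 2042 5)) (.leaf (.up 4 762 4))) (.node (.leaf (.up 3 119 5)) (.leaf (.up 5 1893 4)))))) (.node (.node (.node (.node (.leaf (.up 2 1368 4)) (.leaf (.up 2 554 5))) (.node (.leaf (.up 5 199 4)) (.leaf (.up 4 1616 2)))) (.node (.node (.leaf (.up 5 616 5)) (.leaf (.up 3 1931 6))) (.node (.leaf (.up 3 1509 5)) (.leaf (.up 3 207 2))))) (.node (.node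 (.node (.leaf (.up 5 305 4)) (.leaf (.up 3 1746 5))) (.node (.leaf (.up 3 1686 5)) (.leaf (.up 4 1930 2)))) (.node (.node (.leaf (.up 4 1961 6)) (.leaf (.up 3 686 6))) (.node (.leaf (.up 5 655 6)) (.leaf (.up 4 1702 4))))))) (.node (.node (.node (.node (.node (.leaf (.up 4 1630 3)) (.leaf (.up 3 830 6))) (.node (.leaf (.up 5 469 2)) (.leaf (.up 3 1334 2)))) (.node (.node (.leaf (.up 3 1354 2)) (.leaf (.up 4 1384 6))) (.node (.leaf (.up 4 1199 0)) (.leaf (.up 4 78 6))))) (.node (.node (.node (.leaf (.up 5 599 4)) (.leaf (.up 5 1728 4))) (.node (.leaf (.up 5 1594 6)) (.leaf (.up 3 863 4)))) (.node (.node (.leaf (.up 2 1168 2)) (.leaf (.up 4 1619 1))) (.node (.leaf (.up 4 108 6)) (.leaf (.up 5 1387 6)))))) (.node (.node (.node (.node (.leaf (.up 4 1533 6)) (.leaf (.up 5 1102 5))) (.node (.leaf (.up 3 1034 5)) (.leaf (.up 5 963 5)))) (.node (.node (.leaf (.up 4 368 2)) (.leaf (.up 5 1708 6))) (.node (.leaf (.up 4 1677 6)) (.leaf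 (.up 5 906 6))))) (.node (.node (.node (.leaf (.up 4 228 3)) (.leaf (.up 5 1503 6))) (.node (.leaf (.up 3 1403 3)) (.leaf (.up 4 668 4)))) (.node (.node (.leaf (.up 2 170 2)) (.leaf (.up 5 1097 2))) (.node (.leaf (.up 3 936 6)) (.leaf (.up 4 176 5)))))))) (.node (.node (.node (.node (.node (.node (.leaf (.up 2 1933 1)) (.leaf (.up 5 1225 5))) (.node (.leaf (.up 3 1163 2)) (.leaf (.up 4 836 5)))) (.node (.node (.leaf (.up 2 20 2)) (.leaf (.up 4 834 5))) (.node (.leaf (.up 2 774 5)) (.leaf (.up 5 1231 5))))) (.node (.node (.node (.leaf (.up 4 168 6)) (.leaf (.up 5 49 5))) (.node (.leaf (.up 3 1361 2)) (.leaf (.up 5 748 4)))) (.node (.node (.leaf (.up 3 1403 4)) (.leaf (.up 3 1143 3))) (.node (.leaf (.up 4 228 4)) (.leaf (.up 5 1759 6)))))) (.node (.node (.node (.node (.leaf (.up 5 1614 4)) (.leaf (.up 4 846 6))) (.node (.leaf (.up 5 977 4)) (.leaf (.up 5 1106 2)))) (.node (.node (.leaf (.up 4 1505 5)) (.leaf (.up 6 1304 6))) (.node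 (.leaf (.up 5 1337 6)) (.leaf (.up 6 62 6))))) (.node (.node (.node (.leaf (.up 5 710 1)) (.leaf (.up 4 347 5))) (.node (.leaf (.up 5 1610 6)) (.leaf (.up 2 1750 5)))) (.node (.node (.leaf (.up 5 1338 6)) (.leaf (.up 3 1746 3))) (.node (.leaf (.up 5 305 3)) (.leaf (.up 5 349 5))))))) (.node (.node (.node (.node (.node (.leaf (.up 6 1352 3)) (.leaf (.up 3 1332 2))) (.node (.leaf (.up 5 215 3)) (.leaf (.up 3 1056 4)))) (.node (.node (.leaf (.up 5 764 6)) (.leaf (.up 4 1318 5))) (.node (.leaf (.up 6 2010 6)) (.leaf (.up 4 683 5))))) (.node (.node (.node (.leaf (.up 5 399 6)) (.leaf (.up 5 1621 5))) (.node (.leaf (.up 3 525 2)) (.leaf (.up 4 430 6)))) (.node (.node (.leaf (.up 6 1682 2)) (.leaf (.up 5 1603 1))) (.node (.leaf (.up 4 410 5)) (.leaf (.up 2 1750 4)))))) (.node (.node (.node (.node (.leaf (.up 4 1517 2)) (.leaf (.up 2 520 1))) (.node (.leaf (.up 5 584 6)) (.leaf (.up 1 8 1)))) (.node (.node (.leaf (.up 4 312 6)) (.leaf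 (.up 3 782 3))) (.node (.leaf (.up 5 370 2)) (.leaf (.up 4 1425 2))))) (.node (.node (.node (.leaf (.up 4 1478 0)) (.leaf (.up 4 1868 6))) (.node (.leaf (.up 3 1901 6)) (.leaf (.up 5 1041 3)))) (.node (.node (.leaf (.up 4 1053 6)) (.leaf (.up 4 1809 3))) (.node (.leaf (.up 3 240 5)) (.leaf (.up 5 1849 5))))))))

noncomputable def vt2_7_0101 : Tr VStep :=
  .node (.node (.node (.node (.node (.node (.node (.leaf (.up 5 1028 4)) (.leaf (.up 2 260 6))) (.node (.leaf (.up 5 293 6)) (.leaf (.up 4 391 2)))) (.node (.node (.leaf (.up 6 507 2)) (.leaf (.up 5 866 5))) (.node (.leaf (.up 5 806 5)) (.leaf (.up 5 1816 2))))) (.node (.node (.node (.leaf (.up 6 294 6)) (.leaf (.up 4 605 2))) (.node (.leaf (.up 4 1024 6)) (.leaf (.up 3 93 2)))) (.node (.node (.leaf (.up 5 1025 1)) (.leaf (.up 4 1946 5))) (.node (.leaf (.up 4 1520 3)) (.leaf (.up 3 1932 3)))))) (.node (.node (.node (.node (.leaf (.root 542)) (.leaf (.up 4 1411 5))) (.node (.leaf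 (.up 2 1479 5)) (.leaf (.up 4 1961 3)))) (.node (.node (.leaf (.up 6 401 6)) (.leaf (.up 2 520 5))) (.node (.leaf (.up 7 1207 6)) (.leaf (.up 4 1413 5))))) (.node (.node (.node (.leaf (.up 4 430 4)) (.leaf (.up 4 2021 6))) (.node (.leaf (.up 4 1988 6)) (.leaf (.up 4 1782 5)))) (.node (.node (.leaf (.up 3 1841 4)) (.leaf (.up 5 435 6))) (.node (.leaf (.up 3 686 4)) (.leaf (.up 3 381 5))))))) (.node (.node (.node (.node (.node (.leaf (.up 3 56 2)) (.leaf (.up 4 1243 2))) (.node (.leaf (.up 1 2 6)) (.leaf (.up 3 1280 5)))) (.node (.node (.leaf (.up 5 719 5)) (.leaf (.up 4 1193 4))) (.node (.leaf (.up 4 1346 5)) (.leaf (.up 5 68 2))))) (.node (.node (.node (.leaf (.up 1 1 6)) (.leaf (.up 5 1653 5))) (.node (.leaf (.up 4 1585 5)) (.leaf (.up 5 208 3)))) (.node (.node (.leaf (.up 4 428 3)) (.leaf (.up 4 926 2))) (.node (.leaf (.up 4 1405 2)) (.leaf (.up 3 1651 5)))))) (.node (.node (.node (.node (.leaf (.up 5 1760 6)) (.leaf (.up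 3 225 2))) (.node (.leaf (.up 5 931 5)) (.leaf (.up 3 1729 6)))) (.node (.node (.leaf (.up 5 182 6)) (.leaf (.up 7 1457 6))) (.node (.leaf (.up 5 1424 6)) (.leaf (.up 7 151 6))))) (.node (.node (.node (.leaf (.up 5 1430 3)) (.leaf (.up 5 1730 6))) (.node (.leaf (.up 5 1763 6)) (.leaf (.up 5 629 3)))) (.node (.node (.leaf (.up 4 1885 5)) (.leaf (.up 4 259 4))) (.node (.leaf (.up 3 1686 3)) (.leaf (.up 4 1444 2)))))))) (.node (.node (.node (.node (.node (.node (.leaf (.up 4 1193 5)) (.leaf (.up 6 864 5))) (.node (.leaf (.up 3 804 5)) (.leaf (.up 7 1261 5)))) (.node (.node (.leaf (.up 3 1017 2)) (.leaf (.up 6 1259 5))) (.node (.leaf (.up 4 1199 5)) (.leaf (.up 5 870 5))))) (.node (.node (.node (.leaf (.up 5 1510 3)) (.leaf (.up 2 1944 5))) (.node (.leaf (.up 4 1809 1)) (.leaf (.up 4 517 3)))) (.node (.node (.leaf (.up 3 1507 6)) (.leaf (.up 3 1841 0))) (.node (.leaf (.up 4 35 2)) (.leaf (.up 3 1329 0)))))) (.node (.node (.node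 (.node (.leaf (.up 3 1475 5)) (.leaf (.up 6 83 6))) (.node (.leaf (.up 4 590 5)) (.leaf (.up 5 1397 6)))) (.node (.node (.leaf (.up 3 1475 3)) (.leaf (.up 4 1541 6))) (.node (.leaf (.up 3 1475 2)) (.leaf (.up 5 326 4))))) (.node (.node (.node (.leaf (.up 4 113 6)) (.leaf (.up 5 1583 4))) (.node (.leaf (.up 2 1831 4)) (.leaf (.up 4 80 6)))) (.node (.node (.leaf (.up 4 1575 6)) (.leaf (.up 4 762 2))) (.node (.leaf (.up 4 440 4)) (.leaf (.up 5 1542 6))))))) (.node (.node (.node (.node (.node (.leaf (.up 7 717 5)) (.leaf (.up 5 688 6))) (.node (.leaf (.up 7 657 6)) (.leaf (.up 4 1942 6)))) (.node (.node (.leaf (.up 6 1350 5)) (.leaf (.up 4 1254 6))) (.node (.leaf (.up 6 1223 6)) (.leaf (.up 5 326 3))))) (.node (.node (.node (.leaf (.up 4 658 6)) (.leaf (.up 5 1353 4))) (.node (.leaf (.up 4 440 5)) (.leaf (.up 4 1283 2)))) (.node (.node (.leaf (.up 4 1857 4)) (.leaf (.up 5 451 6))) (.node (.leaf (.up 3 482 6)) (.leaf (.up 4 1253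 6)))))) (.node (.node (.node (.node (.leaf (.up 5 1140 4)) (.leaf (.up 4 739 2))) (.node (.leaf (.up 4 491 4)) (.leaf (.up 4 995 5)))) (.node (.node (.leaf (.up 2 159 2)) (.leaf (.up 4 1148 2))) (.node (.leaf (.up 3 1908 4)) (.leaf (.up 2 516 6))))) (.node (.node (.node (.leaf (.up 4 342 6)) (.leaf (.up 5 1105 6))) (.node (.leaf (.up 3 1143 1)) (.leaf (.up 4 313 2)))) (.node (.node (.leaf (.up 4 1792 6)) (.leaf (.up 3 1821 5))) (.node (.leaf (.up 5 550 6)) (.leaf (.up 3 1825 6))))))))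

noncomputable def vt2_7_010 : Tr VStep := .node vt2_7_0100 vt2_7_0101

noncomputable def vt2_7_0110 : Tr VStep :=
  .node (.node (.node (.node (.node (.node (.node (.leaf (.up 3 512 5)) (.leaf (.up 3 1507 2))) (.node (.leaf (.up 4 768 2)) (.leaf (.up 4 270 4)))) (.node (.node (.leaf (.up 2 1951 2)) (.leaf (.up 5 414 6))) (.node (.leaf (.up 1 0 3)) (.leaf (.up 5 1937 4))))) (.node (.node (.node (.leaf (.up 5 218 2)) (.leaf (.up 4 749 6))) (.node (.leaf (.up 3 730 2)) (.leaf (.up 4 11 1)))) (.node (.node (.leaf (.up 5 752 4)) (.leaf (.up 3 1211 6))) (.node (.leaf (.up 3 1178 6)) (.leaf (.up 5 267 1)))))) (.node (.node (.node (.node (.leaf (.up 5 267 6)) (.leaf (.up 6 1036 6))) (.node (.leaf (.up 5 1069 6)) (.leaf (.up 6 298 6)))) (.node (.node (.leaf (.up 4 1885 6)) (.leaf (.up 5 602 6))) (.node (.leaf (.up 3 635 6)) (.leaf (.up 5 1916 6))))) (.node (.node (.node (.leaf (.up 6 722 1)) (.leaf (.up 4 1990 3))) (.node (.leaf (.up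 4 264 6)) (.leaf (.up 4 2006 5)))) (.node (.node (.leaf (.up 6 805 3)) (.leaf (.up 3 2000 5))) (.node (.leaf (.up 5 127 2)) (.leaf (.up 3 93 5))))))) (.node (.node (.node (.node (.node (.leaf (.up 3 1000 6)) (.leaf (.up 4 941 5))) (.node (.leaf (.up 4 1852 4)) (.leaf (.up 3 1056 5)))) (.node (.node (.leaf (.up 5 1470 6)) (.leaf (.up 3 1056 2))) (.node (.leaf (.up 4 152 6)) (.leaf (.up 3 1439 6))))) (.node (.node (.node (.leaf (.up 5 1738 4)) (.leaf (.up 4 605 4))) (.node (.leaf (.up 3 1003 6)) (.leaf (.up 3 1367 1)))) (.node (.node (.leaf (.up 5 1815 5)) (.leaf (.up 4 222 5))) (.node (.leaf (.up 5 692 1)) (.leaf (.up 4 2042 2)))))) (.node (.node (.node (.node (.leaf (.up 5 44 6)) (.leaf (.up 4 711 5))) (.node (.leaf (.up 6 1290 6)) (.leaf (.up 3 1354 5)))) (.node (.node (.leaf (.up 5 1658 6)) (.leaf (.up 5 1356 5))) (.node (.leaf (.up 4 860 6)) (.leaf (.up 4 705 5))))) (.node (.node (.node (.leaf (.up 4 1145 3)) (.leaf (.up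 3 14 6))) (.node (.leaf (.up 4 486 3)) (.leaf (.up 5 877 1)))) (.node (.node (.leaf (.up 3 863 6)) (.leaf (.up 4 1624 6))) (.node (.leaf (.up 3 1827 2)) (.leaf (.up 4 621 1)))))))) (.node (.node (.node (.node (.node (.node (.leaf (.up 2 1417 5)) (.leaf (.up 5 576 5))) (.node (.leaf (.up 2 1417 1)) (.leaf (.up 4 1505 2)))) (.node (.node (.leaf (.up 3 1423 4)) (.leaf (.up 6 781 6))) (.node (.leaf (.up 2 1949 2)) (.leaf (.up 5 1579 6))))) (.node (.node (.node (.leaf (.up 4 728 2)) (.leaf (.up 4 126 6))) (.node (.leaf (.up 4 95 6)) (.leaf (.up 2 1368 6)))) (.node (.node (.leaf (.up 4 815 6)) (.leaf (.up 4 164 2))) (.node (.leaf (.up 4 1145 4)) (.leaf (.up 3 782 6)))))) (.node (.node (.node (.node (.leaf (.up 5 723 4)) (.leaf (.up 3 207 3))) (.node (.leaf (.up 4 1868 4)) (.leaf (.up 5 475 2)))) (.node (.node (.leaf (.up 3 423 2)) (.leaf (.up 3 1185 5))) (.node (.leaf (.up 4 1253 5)) (.leaf (.up 4 1860 2))))) (.node (.node (.node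 (.leaf (.up 4 1725 6)) (.leaf (.up 4 954 6))) (.node (.leaf (.up 4 1942 5)) (.leaf (.up 1 1 2)))) (.node (.node (.leaf (.up 5 235 6)) (.leaf (.up 5 752 0))) (.node (.leaf (.up 5 450 1)) (.leaf (.up 3 2000 3))))))) (.node (.node (.node (.node (.node (.leaf (.up 3 1979 0)) (.leaf (.up 4 189 2))) (.node (.leaf (.up 4 1630 2)) (.leaf (.up 4 346 6)))) (.node (.node (.leaf (.up 4 705 2)) (.leaf (.up 2 554 6))) (.node (.leaf (.up 3 1003 5)) (.leaf (.up 4 1804 6))))) (.node (.node (.node (.leaf (.up 4 420 1)) (.leaf (.up 5 345 6))) (.node (.leaf (.up 4 152 5)) (.leaf (.up 5 1873 5)))) (.node (.node (.leaf (.up 2 520 6)) (.leaf (.up 4 2004 4))) (.node (.leaf (.up 5 283 2)) (.leaf (.up 5 587 4)))))) (.node (.node (.node (.node (.leaf (.up 5 703 6)) (.leaf (.up 6 1976 6))) (.node (.leaf (.up 4 1945 6)) (.leaf (.up 5 670 6)))) (.node (.node (.leaf (.up 4 1257 6)) (.leaf (.up 4 494 6))) (.node (.leaf (.up 4 463 6)) (.leaf (.up 4 1224 6)))))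 (.node (.node (.node (.leaf (.up 4 1946 6)) (.leaf (.up 3 438 5))) (.node (.leaf (.up 4 1438 1)) (.leaf (.up 3 1979 6)))) (.node (.node (.leaf (.up 3 1825 2)) (.leaf (.up 5 208 0))) (.node (.leaf (.up 4 1657 5)) (.leaf (.up 5 450 2))))))))

noncomputable def vt2_7_0111 : Tr VStep :=
  .node (.node (.node (.node (.node (.node (.node (.leaf (.up 2 1650 3)) (.leaf (.up 5 1550 2))) (.node (.leaf (.up 5 237 2)) (.leaf (.up 4 1517 5)))) (.node (.node (.leaf (.up 3 1138 2)) (.leaf (.up 6 1515 5))) (.node (.leaf (.up 2 1650 2)) (.leaf (.up 7 614 5))))) (.node (.node (.node (.leaf (.up 4 621 3)) (.leaf (.up 4 1573 0))) (.node (.leaf (.up 5 1756 5)) (.leaf (.up 4 486 1)))) (.node (.node (.leaf (.up 4 673 6)) (.leaf (.up 5 1958 6))) (.node (.leaf (.up 4 2032 4)) (.leaf (.up 5 785 3)))))) (.node (.node (.node (.node (.leaf (.up 3 534 6)) (.leaf (.up 4 1809 6))) (.node (.leaf (.up 3 1239 2)) (.leaf (.up 4 567 6)))) (.node (.node (.leaf (.up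 3 840 5)) (.leaf (.up 5 52 3))) (.node (.leaf (.up 3 1221 5)) (.leaf (.up 4 1451 3))))) (.node (.node (.node (.leaf (.up 3 1843 6)) (.leaf (.up 4 420 4))) (.node (.leaf (.up 3 1367 3)) (.leaf (.up 4 494 2)))) (.node (.node (.leaf (.up 4 402 2)) (.leaf (.up 4 1244 1))) (.node (.leaf (.up 4 1091 6)) (.leaf (.up 5 1905 2))))))) (.node (.node (.node (.node (.node (.leaf (.up 5 973 5)) (.leaf (.up 5 1028 5))) (.node (.leaf (.up 6 1088 5)) (.leaf (.up 5 212 6)))) (.node (.node (.leaf (.up 7 814 2)) (.leaf (.up 5 52 4))) (.node (.leaf (.up 6 971 5)) (.leaf (.up 4 1451 4))))) (.node (.node (.node (.leaf (.up 4 517 0)) (.leaf (.up 4 706 4))) (.node (.leaf (.up 2 5 0)) (.leaf (.up 4 1885 4)))) (.node (.node (.leaf (.up 3 1329 3)) (.leaf (.up 5 1978 1))) (.node (.leaf (.up 3 1843 5)) (.leaf (.up 5 450 4)))))) (.node (.node (.node (.node (.leaf (.up 4 679 5)) (.leaf (.up 4 1384 2))) (.node (.leaf (.up 5 1322 5)) (.leaf (.up 2 784 6))))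 (.node (.node (.leaf (.up 5 1324 5)) (.leaf (.up 5 1015 2))) (.node (.leaf (.up 4 673 5)) (.leaf (.up 4 1384 5))))) (.node (.node (.node (.leaf (.up 4 1942 4)) (.leaf (.up 5 406 5))) (.node (.leaf (.up 5 593 2)) (.leaf (.up 5 1694 4)))) (.node (.node (.leaf (.up 3 66 6)) (.leaf (.up 4 1438 4))) (.node (.leaf (.up 5 1174 4)) (.leaf (.up 1 1 4)))))))) (.node (.node (.node (.node (.node (.node (.leaf (.up 4 833 6)) (.leaf (.up 4 1513 5))) (.node (.leaf (.up 5 1639 6)) (.leaf (.up 5 612 5)))) (.node (.node (.leaf (.up 4 1451 5)) (.leaf (.up 3 16 6))) (.node (.leaf (.up 5 49 6)) (.leaf (.up 3 1334 6))))) (.node (.node (.node (.leaf (.up 5 1752 5)) (.leaf (.up 5 273 5))) (.node (.leaf (.up 4 834 6)) (.leaf (.up 4 2006 2)))) (.node (.node (.leaf (.up 4 1962 2)) (.leaf (.up 3 1333 6))) (.node (.leaf (.up 3 635 3)) (.leaf (.up 4 7 3)))))) (.node (.node (.node (.node (.leaf (.up 6 133 6)) (.leaf (.up 4 54 2))) (.node (.leaf (.up 6 1223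 5)) (.leaf (.up 3 782 5)))) (.node (.node (.leaf (.up 3 1217 5)) (.leaf (.up 3 776 5))) (.node (.leaf (.up 1 74 2)) (.leaf (.up 4 1193 2))))) (.node (.node (.node (.leaf (.up 3 1970 5)) (.leaf (.up 3 418 3))) (.node (.leaf (.up 4 954 4)) (.leaf (.up 5 1409 6)))) (.node (.node (.leaf (.up 5 1014 6)) (.leaf (.up 4 2032 5))) (.node (.leaf (.up 3 1744 6)) (.leaf (.up 5 1395 2))))))) (.node (.node (.node (.node (.node (.leaf (.up 5 1092 5)) (.leaf (.up 5 848 2))) (.node (.leaf (.up 4 969 5)) (.leaf (.up 4 836 3)))) (.node (.node (.leaf (.up 3 300 2)) (.leaf (.up 4 1030 5))) (.node (.leaf (.up 2 554 4)) (.leaf (.up 4 1999 2))))) (.node (.node (.node (.leaf (.up 4 1641 2)) (.leaf (.up 5 708 3))) (.node (.leaf (.up 3 1841 5)) (.leaf (.up 6 248 5)))) (.node (.node (.leaf (.up 4 1575 3)) (.leaf (.up 4 1115 3))) (.node (.leaf (.up 4 1075 6)) (.leaf (.up 5 1557 2)))))) (.node (.node (.node (.node (.leaf (.up 3 418 6)) (.leaf (.up 8 1189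 6))) (.node (.leaf (.up 5 1523 0)) (.leaf (.up 6 387 6)))) (.node (.node (.leaf (.up 5 677 5)) (.leaf (.up 2 755 6))) (.node (.leaf (.up 5 1282 3)) (.leaf (.up 3 2005 6))))) (.node (.node (.node (.leaf (.up 3 541 3)) (.leaf (.up 5 384 6))) (.node (.leaf (.up 5 1627 5)) (.leaf (.up 4 1416 4)))) (.node (.node (.leaf (.up 4 1228 2)) (.leaf (.up 4 2006 6))) (.node (.leaf (.up 3 464 5)) (.leaf (.up 5 752 6))))))))

noncomputable def vt2_7_011 : Tr VStep := .node vt2_7_0110 vt2_7_0111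

noncomputable def vt2_7_01 : Tr VStep := .node vt2_7_010 vt2_7_011

noncomputable def vt2_7_0 : Tr VStep := .node vt2_7_00 vt2_7_01

noncomputable def vt2_7_1000 : Tr VStep :=
  .node (.node (.node (.node (.node (.node (.node (.leaf (.root 978)) (.leaf (.up 4 153 6))) (.node (.leaf (.up 4 1385 1)) (.leaf (.up 4 53 2)))) (.node (.node (.leaf (.up 4 263 3)) (.leaf (.up 5 1510 4))) (.node (.leaf (.up 5 1678 5)) (.leaf (.up 5 650 1))))) (.node (.node (.node (.leaf (.up 4 1804 2)) (.leaf (.up 5 1465 5))) (.node (.leaf (.up 3 1437 6)) (.leaf (.up 5 655 4)))) (.node (.node (.leaf (.up 5 1531 5)) (.leaf (.up 4 1002 6))) (.node (.leaf (.up 5 630 5)) (.leaf (.up 5 763 3)))))) (.node (.node (.node (.node (.leaf (.up 5 748 2)) (.leaf (.up 4 43 5))) (.node (.leaf (.up 5 946 4)) (.leaf (.up 4 1659 6)))) (.node (.node (.leaf (.up 5 1139 2)) (.leaf (.up 4 1291 6))) (.node (.leaf (.up 3 1651 2)) (.leaf (.up 3 45 5))))) (.node (.node (.node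 (.leaf (.up 4 822 2)) (.leaf (.up 2 862 3))) (.node (.leaf (.up 3 1213 3)) (.leaf (.up 2 862 5)))) (.node (.node (.leaf (.up 4 1243 4)) (.leaf (.up 6 46 6))) (.node (.leaf (.up 4 1961 2)) (.leaf (.up 6 1288 6))))))) (.node (.node (.node (.node (.node (.leaf (.up 5 1627 3)) (.leaf (.up 4 1385 2))) (.node (.leaf (.up 4 964 3)) (.leaf (.up 2 1897 2)))) (.node (.node (.leaf (.up 6 1895 5)) (.leaf (.up 5 174 5))) (.node (.leaf (.up 5 1371 3)) (.leaf (.up 2 1831 3))))) (.node (.node (.node (.leaf (.up 4 290 4)) (.leaf (.up 2 1179 6))) (.node (.leaf (.up 3 1213 4)) (.leaf (.up 3 1715 2)))) (.node (.node (.leaf (.up 4 927 5)) (.leaf (.up 4 1110 5))) (.node (.leaf (.up 5 748 6)) (.leaf (.up 5 44 2)))))) (.node (.node (.node (.node (.leaf (.up 5 1039 1)) (.leaf (.up 5 1615 5))) (.node (.leaf (.up 4 1547 5)) (.leaf (.up 5 450 5)))) (.node (.node (.leaf (.up 4 299 6)) (.leaf (.up 5 1068 6))) (.node (.leaf (.up 5 1037 6)) (.leaf (.up 4 492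 1))))) (.node (.node (.node (.leaf (.up 2 600 6)) (.leaf (.up 5 1887 6))) (.node (.leaf (.up 2 755 5)) (.leaf (.up 5 1338 5)))) (.node (.node (.leaf (.up 6 1038 6)) (.leaf (.up 3 1340 5))) (.node (.leaf (.up 7 296 6)) (.leaf (.up 4 1071 6)))))))) (.node (.node (.node (.node (.node (.node (.leaf (.up 5 257 5)) (.leaf (.up 4 410 1))) (.node (.leaf (.up 5 273 3)) (.leaf (.up 4 1520 4)))) (.node (.node (.leaf (.up 4 347 6)) (.leaf (.up 5 323 5))) (.node (.leaf (.up 4 263 5)) (.leaf (.up 3 378 6))))) (.node (.node (.node (.leaf (.up 6 1529 5)) (.leaf (.up 4 749 3))) (.node (.leaf (.up 6 628 5)) (.leaf (.up 5 1906 3)))) (.node (.node (.leaf (.up 5 1550 0)) (.leaf (.up 3 1138 3))) (.node (.leaf (.up 6 1535 5)) (.leaf (.up 4 1394 2)))))) (.node (.node (.node (.node (.leaf (.up 5 1225 6)) (.leaf (.up 4 428 4))) (.node (.leaf (.up 4 164 4)) (.leaf (.up 4 1549 2)))) (.node (.node (.leaf (.up 4 2016 5)) (.leaf (.up 2 1944 6))) (.node (.leaf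 (.up 4 1977 6)) (.leaf (.up 4 1956 5))))) (.node (.node (.node (.leaf (.up 4 492 6)) (.leaf (.up 4 858 5))) (.node (.leaf (.up 5 1226 6)) (.leaf (.up 3 1239 5)))) (.node (.node (.leaf (.up 5 1978 6)) (.leaf (.up 3 840 2))) (.node (.leaf (.up 4 668 6)) (.leaf (.up 2 1947 6))))))) (.node (.node (.node (.node (.node (.leaf (.up 4 1578 6)) (.leaf (.up 3 1841 3))) (.node (.leaf (.up 5 392 2)) (.leaf (.up 3 1825 5)))) (.node (.node (.leaf (.up 4 124 6)) (.leaf (.up 2 1831 5))) (.node (.leaf (.up 5 1373 4)) (.leaf (.up 2 170 5))))) (.node (.node (.node (.leaf (.up 4 783 6)) (.leaf (.up 6 1108 5))) (.node (.leaf (.up 5 1577 6)) (.leaf (.up 7 1201 2)))) (.node (.node (.leaf (.up 5 1997 3)) (.leaf (.up 6 991 5))) (.node (.leaf (.up 5 127 6)) (.leaf (.up 5 1106 5)))))) (.node (.node (.node (.node (.leaf (.up 3 1970 2)) (.leaf (.up 5 764 1))) (.node (.leaf (.up 4 200 6)) (.leaf (.up 3 1686 4)))) (.node (.node (.leaf (.up 5 257 4)) (.leaf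 (.up 5 1486 2))) (.node (.leaf (.up 5 1694 6)) (.leaf (.up 4 921 6))))) (.node (.node (.node (.leaf (.up 4 759 5)) (.leaf (.up 5 1342 5))) (.node (.leaf (.up 4 1128 2)) (.leaf (.up 5 691 5)))) (.node (.node (.leaf (.up 3 1693 6)) (.leaf (.up 5 693 5))) (.node (.leaf (.up 4 759 2)) (.leaf (.up 4 1336 5))))))))

noncomputable def vt2_7_1001 : Tr VStep :=
  .node (.node (.node (.node (.node (.node (.node (.leaf (.up 5 1905 4)) (.leaf (.up 4 472 2))) (.node (.leaf (.up 5 1909 3)) (.leaf (.up 4 1657 4)))) (.node (.node (.leaf (.up 4 213 6)) (.leaf (.up 4 1490 6))) (.node (.leaf (.up 4 420 2)) (.leaf (.up 5 230 4))))) (.node (.node (.node (.leaf (.up 6 1249 2)) (.leaf (.up 1 2 2))) (.node (.leaf (.up 6 1664 6)) (.leaf (.up 2 528 4)))) (.node (.node (.leaf (.up 4 1520 6)) (.leaf (.up 1 4 0))) (.node (.leaf (.up 4 126 2)) (.leaf (.up 2 1181 2)))))) (.node (.node (.node (.node (.leaf (.up 4 79 3)) (.leaf (.up 4 64 6))) (.node (.leaf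 (.up 4 1990 5)) (.leaf (.up 5 1978 4)))) (.node (.node (.leaf (.up 3 1744 3)) (.leaf (.up 4 1885 1))) (.node (.leaf (.up 4 1438 2)) (.leaf (.up 3 381 2))))) (.node (.node (.node (.leaf (.up 4 1203 5)) (.leaf (.up 4 890 5))) (.node (.leaf (.up 3 830 5)) (.leaf (.up 4 979 4)))) (.node (.node (.leaf (.up 4 1604 2)) (.leaf (.up 4 679 2))) (.node (.leaf (.up 3 786 6)) (.leaf (.up 5 1356 4))))))) (.node (.node (.node (.node (.node (.leaf (.up 4 1956 6)) (.leaf (.up 5 140 5))) (.node (.leaf (.up 4 472 1)) (.leaf (.up 4 1244 4)))) (.node (.node (.leaf (.up 4 728 1)) (.leaf (.up 4 1994 3))) (.node (.leaf (.up 5 41 3)) (.leaf (.up 4 467 6))))) (.node (.node (.node (.leaf (.up 4 445 4)) (.leaf (.up 3 1354 3))) (.node (.leaf (.up 3 1959 6)) (.leaf (.up 3 1017 5)))) (.node (.node (.leaf (.up 3 1239 6)) (.leaf (.up 3 464 6))) (.node (.leaf (.up 4 497 6)) (.leaf (.up 3 1138 5)))))) (.node (.node (.node (.node (.leaf (.up 5 1120 6)) (.leaf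 (.up 4 486 5))) (.node (.leaf (.up 3 418 5)) (.leaf (.up 3 1647 3)))) (.node (.node (.leaf (.up 4 648 4)) (.leaf (.up 3 1841 6))) (.node (.leaf (.up 3 464 0)) (.leaf (.up 1 1 1))))) (.node (.node (.node (.leaf (.up 4 126 4)) (.leaf (.up 3 1090 6))) (.node (.leaf (.up 4 1505 4)) (.leaf (.up 5 659 5)))) (.node (.node (.leaf (.up 4 1372 5)) (.leaf (.up 3 532 6))) (.node (.leaf (.up 5 565 6)) (.leaf (.up 5 2043 2)))))))) (.node (.node (.node (.node (.node (.node (.leaf (.up 5 1849 2)) (.leaf (.up 3 240 4))) (.node (.leaf (.up 5 1337 2)) (.leaf (.up 4 1073 6)))) (.node (.node (.leaf (.up 5 760 4)) (.leaf (.up 3 1647 4))) (.node (.leaf (.up 5 1710 5)) (.leaf (.up 5 1861 2))))) (.node (.node (.node (.leaf (.up 3 14 4)) (.leaf (.up 2 1951 3))) (.node (.leaf (.up 4 1425 4)) (.leaf (.up 1 0 2)))) (.node (.node (.leaf (.up 4 124 2)) (.leaf (.up 3 1183 2))) (.node (.leaf (.up 3 782 4)) (.leaf (.up 3 1183 3)))))) (.node (.node (.node (.node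 (.leaf (.up 4 2004 6)) (.leaf (.up 4 2016 2))) (.node (.leaf (.up 3 1901 0)) (.leaf (.up 5 1101 1)))) (.node (.node (.leaf (.up 4 1478 3)) (.leaf (.up 5 1978 3))) (.node (.leaf (.up 4 1700 4)) (.leaf (.up 5 419 6))))) (.node (.node (.node (.leaf (.up 5 753 6)) (.leaf (.up 3 1340 1))) (.node (.leaf (.up 5 2007 6)) (.leaf (.up 4 1852 1)))) (.node (.node (.leaf (.up 6 1191 6)) (.leaf (.up 6 416 6))) (.node (.leaf (.up 6 385 6)) (.leaf (.up 5 1594 3))))))) (.node (.node (.node (.node (.node (.leaf (.up 5 101 2)) (.leaf (.up 5 1158 2))) (.node (.leaf (.up 4 1857 5)) (.leaf (.up 4 1994 4)))) (.node (.node (.leaf (.up 3 93 4)) (.leaf (.up 4 1244 3))) (.node (.leaf (.up 4 1607 6)) (.leaf (.up 4 832 6))))) (.node (.node (.node (.leaf (.up 3 1056 3)) (.leaf (.up 4 1372 2))) (.node (.leaf (.up 3 1332 6)) (.leaf (.up 5 1884 2)))) (.node (.node (.leaf (.up 4 1574 0)) (.leaf (.up 4 835 6))) (.node (.leaf (.up 4 1312 2)) (.leaf (.up 3 1340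 4)))))) (.node (.node (.node (.node (.leaf (.up 5 666 3)) (.leaf (.up 3 1647 5))) (.node (.leaf (.up 5 670 4)) (.leaf (.up 3 1746 6)))) (.node (.node (.leaf (.up 5 1266 1)) (.leaf (.up 4 1657 3))) (.node (.leaf (.up 4 410 3)) (.leaf (.up 4 1641 5))))) (.node (.node (.node (.leaf (.up 4 1374 5)) (.leaf (.up 4 1745 6))) (.node (.leaf (.up 5 723 5)) (.leaf (.up 5 1015 6)))) (.node (.node (.leaf (.up 3 725 5)) (.leaf (.up 5 135 6))) (.node (.leaf (.up 2 1368 5)) (.leaf (.up 5 1441 6))))))))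

noncomputable def vt2_7_100 : Tr VStep := .node vt2_7_1000 vt2_7_1001

noncomputable def vt2_7_1010 : Tr VStep :=
  .node (.node (.node (.node (.node (.node (.node (.leaf (.up 1 1 5)) (.leaf (.up 4 2020 4))) (.node (.leaf (.up 3 1932 5)) (.leaf (.up 3 635 4)))) (.node (.node (.leaf (.up 4 1930 5)) (.leaf (.up 5 2022 3))) (.node (.leaf (.up 2 5 3)) (.leaf (.up 5 1592 6))))) (.node (.node (.node (.leaf (.up 5 1273 5)) (.leaf (.up 4 1638 2))) (.node (.leaf (.up 5 884 5)) (.leaf (.up 3 1213 5)))) (.node (.node (.leaf (.up 6 882 5)) (.leaf (.up 3 1211 5))) (.node (.leaf (.up 7 1279 5)) (.leaf (.up 4 822 5)))))) (.node (.node (.node (.node (.leaf (.up 5 688 4)) (.leaf (.up 4 1575 4))) (.node (.leaf (.up 4 1381 2)) (.leaf (.up 5 1603 3)))) (.node (.node (.leaf (.up 4 1071 4)) (.leaf (.up 4 1305 2))) (.node (.leaf (.up 5 365 5)) (.leaf (.up 4 1700 5))))) (.node (.node (.node (.leaf (.up 5 1710 6)) (.leaf (.up 2 604 2))) (.node (.leaf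 (.up 4 838 4)) (.leaf (.up 2 604 3)))) (.node (.node (.leaf (.up 5 32 2)) (.leaf (.up 4 1489 5))) (.node (.leaf (.up 5 1502 6)) (.leaf (.up 2 604 5))))))) (.node (.node (.node (.node (.node (.leaf (.up 5 710 3)) (.leaf (.up 4 428 5))) (.node (.leaf (.up 5 49 1)) (.leaf (.up 3 1569 5)))) (.node (.node (.leaf (.up 4 668 2)) (.leaf (.up 4 1573 3))) (.node (.leaf (.up 5 305 1)) (.leaf (.up 4 954 3))))) (.node (.node (.node (.leaf (.up 5 1101 6)) (.leaf (.up 7 1364 5))) (.node (.leaf (.up 4 838 3)) (.leaf (.up 6 729 5)))) (.node (.node (.leaf (.up 4 838 2)) (.leaf (.up 7 735 5))) (.node (.leaf (.up 5 326 2)) (.leaf (.up 7 1362 5)))))) (.node (.node (.node (.node (.leaf (.up 4 99 3)) (.leaf (.up 5 1154 4))) (.node (.leaf (.up 4 1930 6)) (.leaf (.up 4 1867 5)))) (.node (.node (.leaf (.up 4 1702 2)) (.leaf (.up 3 541 4))) (.node (.leaf (.up 5 789 4)) (.leaf (.up 4 1243 6))))) (.node (.node (.node (.leaf (.up 3 1929 6)) (.leaf (.up 3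 1280 2))) (.node (.leaf (.up 4 995 2)) (.leaf (.up 2 1396 4)))) (.node (.node (.leaf (.up 4 1148 5)) (.leaf (.up 2 1652 4))) (.node (.leaf (.up 5 1009 5)) (.leaf (.up 3 1003 4)))))))) (.node (.node (.node (.node (.node (.node (.leaf (.up 4 732 6)) (.leaf (.up 4 623 3))) (.node (.leaf (.up 2 5 5)) (.leaf (.up 4 2032 3)))) (.node (.node (.leaf (.up 5 1162 6)) (.leaf (.up 4 1994 5))) (.node (.leaf (.up 4 428 6)) (.leaf (.up 5 670 1))))) (.node (.node (.node (.leaf (.up 5 135 2)) (.leaf (.up 5 1209 5))) (.node (.leaf (.up 5 1277 5)) (.leaf (.up 6 2008 6)))) (.node (.node (.leaf (.up 4 1560 2)) (.leaf (.up 5 1540 4))) (.node (.leaf (.up 2 1161 6)) (.leaf (.up 5 398 6)))))) (.node (.node (.node (.node (.leaf (.up 5 748 0)) (.leaf (.up 3 1329 4))) (.node (.leaf (.up 5 1833 3)) (.leaf (.up 4 1702 5)))) (.node (.node (.leaf (.up 5 1139 0)) (.leaf (.up 4 1696 5))) (.node (.leaf (.up 3 438 3)) (.leaf (.up 4 1585 4))))) (.node (.node (.node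 (.leaf (.up 3 1213 2)) (.leaf (.up 7 314 6))) (.node (.leaf (.up 2 1368 0)) (.leaf (.up 6 1052 6)))) (.node (.node (.leaf (.up 4 1425 5)) (.leaf (.up 2 600 5))) (.node (.leaf (.up 4 1449 3)) (.leaf (.up 2 600 4))))))) (.node (.node (.node (.node (.node (.leaf (.up 3 464 3)) (.leaf (.up 4 1573 5))) (.node (.leaf (.up 4 1103 3)) (.leaf (.up 5 226 2)))) (.node (.node (.leaf (.up 5 1639 5)) (.leaf (.up 2 170 6))) (.node (.leaf (.up 5 490 5)) (.leaf (.up 3 1367 4))))) (.node (.node (.node (.leaf (.up 4 1300 5)) (.leaf (.up 4 733 5))) (.node (.leaf (.up 4 822 4)) (.leaf (.up 4 312 2)))) (.node (.node (.leaf (.up 3 423 0)) (.leaf (.up 3 1423 6))) (.node (.leaf (.up 4 836 2)) (.leaf (.up 3 1959 2)))))) (.node (.node (.node (.node (.leaf (.up 4 571 2)) (.leaf (.up 4 1336 6))) (.node (.leaf (.up 4 1305 6)) (.leaf (.up 4 1228 0)))) (.node (.node (.leaf (.up 4 1641 6)) (.leaf (.up 4 1942 3))) (.node (.leaf (.up 4 1700 2)) (.leaf (.up 4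 1865 5))))) (.node (.node (.node (.leaf (.up 7 1306 6)) (.leaf (.up 5 1794 2))) (.node (.leaf (.up 7 1011 5)) (.leaf (.up 5 1282 2)))) (.node (.node (.leaf (.up 3 844 6)) (.leaf (.up 5 1611 6))) (.node (.leaf (.up 4 1918 2)) (.leaf (.up 5 877 6))))))))

noncomputable def vt2_7_1011 : Tr VStep :=
  .node (.node (.node (.node (.node (.node (.node (.leaf (.up 6 850 6)) (.leaf (.up 4 99 1))) (.node (.leaf (.up 2 1652 6)) (.leaf (.up 3 883 6)))) (.node (.node (.leaf (.up 4 35 5)) (.leaf (.up 4 718 2))) (.node (.leaf (.up 5 34 6)) (.leaf (.up 4 206 2))))) (.node (.node (.node (.leaf (.up 5 848 5)) (.leaf (.up 2 20 3))) (.node (.leaf (.up 4 1245 5)) (.leaf (.up 3 1931 2)))) (.node (.node (.leaf (.up 4 1243 5)) (.leaf (.up 3 786 5))) (.node (.leaf (.up 5 854 5)) (.leaf (.up 1 0 6)))))) (.node (.node (.node (.node (.leaf (.up 5 1234 3)) (.leaf (.up 4 1425 6))) (.node (.leaf (.up 3 335 5)) (.leaf (.up 5 619 2)))) (.node (.node (.leaf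 (.up 4 1145 0)) (.leaf (.up 5 49 3))) (.node (.leaf (.up 4 998 6)) (.leaf (.up 5 269 5))))) (.node (.node (.node (.leaf (.up 6 1459 6)) (.leaf (.up 5 1523 5))) (.node (.leaf (.up 6 149 6)) (.leaf (.up 4 1426 6)))) (.node (.node (.leaf (.up 5 973 2)) (.leaf (.up 5 1762 6))) (.node (.leaf (.up 4 1731 6)) (.leaf (.up 4 964 6))))))) (.node (.node (.node (.node (.node (.leaf (.up 2 2030 2)) (.leaf (.up 4 1541 5))) (.node (.leaf (.up 5 1875 6)) (.leaf (.up 5 1855 1)))) (.node (.node (.leaf (.up 4 2006 4)) (.leaf (.up 4 1426 2))) (.node (.leaf (.up 4 458 5)) (.leaf (.up 5 1026 6))))) (.node (.node (.node (.leaf (.up 3 1332 5)) (.leaf (.up 5 599 6))) (.node (.leaf (.up 4 697 5)) (.leaf (.up 5 1905 6)))) (.node (.node (.leaf (.up 3 262 6)) (.leaf (.up 5 1025 6))) (.node (.leaf (.up 3 1056 6)) (.leaf (.up 5 763 5)))))) (.node (.node (.node (.node (.leaf (.up 5 1510 1)) (.leaf (.up 3 1901 3))) (.node (.leaf (.up 3 1175 6)) (.leaf (.up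 4 754 3)))) (.node (.node (.leaf (.up 4 1254 1)) (.leaf (.up 4 228 5))) (.node (.leaf (.up 4 705 6)) (.leaf (.up 2 1897 5))))) (.node (.node (.node (.leaf (.up 4 270 3)) (.leaf (.up 6 403 6))) (.node (.leaf (.up 3 14 2)) (.leaf (.up 5 1205 6)))) (.node (.node (.leaf (.up 4 706 6)) (.leaf (.up 3 1989 6))) (.node (.leaf (.up 4 2020 6)) (.leaf (.up 4 739 6)))))))) (.node (.node (.node (.node (.node (.node (.leaf (.up 5 688 2)) (.leaf (.up 3 1821 3))) (.node (.leaf (.up 2 1168 1)) (.leaf (.up 4 1700 0)))) (.node (.node (.leaf (.up 4 1071 2)) (.leaf (.up 4 99 5))) (.node (.leaf (.up 5 1424 1)) (.leaf (.up 2 2030 5))))) (.node (.node (.node (.leaf (.up 4 1241 5)) (.leaf (.up 1 4 4))) (.node (.leaf (.up 5 450 6)) (.leaf (.up 2 1417 2)))) (.node (.node (.leaf (.up 4 690 6)) (.leaf (.up 2 1179 5))) (.node (.leaf (.up 4 1247 5)) (.leaf (.up 1 2 1)))))) (.node (.node (.node (.node (.leaf (.up 2 170 1)) (.leaf (.up 4 617 2))) (.node (.leaf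 (.up 3 1827 6)) (.leaf (.up 5 49 4)))) (.node (.node (.leaf (.up 4 347 3)) (.leaf (.up 4 1270 2))) (.node (.leaf (.up 3 533 2)) (.leaf (.up 3 1138 6))))) (.node (.node (.node (.leaf (.up 5 1872 2)) (.leaf (.up 3 423 3))) (.node (.leaf (.up 3 207 4)) (.leaf (.up 5 1527 5)))) (.node (.node (.leaf (.up 3 568 5)) (.leaf (.up 5 1324 2))) (.node (.leaf (.up 4 1461 5)) (.leaf (.up 4 711 4))))))) (.node (.node (.node (.node (.node (.leaf (.up 5 230 6)) (.leaf (.up 4 1505 6))) (.node (.leaf (.up 4 2028 2)) (.leaf (.up 4 783 2)))) (.node (.node (.leaf (.up 3 883 2)) (.leaf (.up 4 1071 1))) (.node (.leaf (.up 5 918 6)) (.leaf (.up 5 1424 2))))) (.node (.node (.node (.leaf (.up 3 1475 6)) (.leaf (.up 2 1396 5))) (.node (.leaf (.up 3 1328 5)) (.leaf (.up 3 725 2)))) (.node (.node (.leaf (.up 3 917 6)) (.leaf (.up 5 1610 2))) (.node (.leaf (.up 3 1715 6)) (.leaf (.up 4 1394 5)))))) (.node (.node (.node (.node (.leaf (.up 5 802 6)) (.leaf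 (.up 3 1333 2))) (.node (.leaf (.up 5 1540 6)) (.leaf (.up 4 1845 2)))) (.node (.node (.leaf (.up 2 1396 6)) (.leaf (.up 3 1901 5))) (.node (.leaf (.up 4 1782 1)) (.leaf (.up 5 21 1))))) (.node (.node (.node (.leaf (.up 6 12 2)) (.leaf (.up 4 768 6))) (.node (.leaf (.up 6 801 6)) (.leaf (.up 4 1574 6)))) (.node (.node (.leaf (.up 6 81 6)) (.leaf (.up 3 917 5))) (.node (.leaf (.up 5 977 5)) (.leaf (.up 4 1048 5))))))))

noncomputable def vt2_7_101 : Tr VStep := .node vt2_7_1010 vt2_7_1011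

noncomputable def vt2_7_10 : Tr VStep := .node vt2_7_100 vt2_7_101

noncomputable def vt2_7_1100 : Tr VStep :=
  .node (.node (.node (.node (.node (.node (.node (.leaf (.up 5 885 4)) (.leaf (.up 4 1224 5))) (.node (.leaf (.up 5 1734 2)) (.leaf (.up 6 549 2)))) (.node (.node (.leaf (.up 3 1647 6)) (.leaf (.up 3 381 4))) (.node (.leaf (.up 5 89 2)) (.leaf (.up 4 648 1))))) (.node (.node (.node (.leaf (.up 6 2041 5)) (.leaf (.up 4 27 6))) (.node (.leaf (.up 6 116 5)) (.leaf (.up 5 1981 5)))) (.node (.node (.leaf (.up 5 114 5)) (.leaf (.up 3 1979 5))) (.node (.leaf (.up 5 2047 5)) (.leaf (.up 4 54 5)))))) (.node (.node (.node (.node (.leaf (.up 5 619 5)) (.leaf (.up 3 1569 4))) (.node (.leaf (.up 5 1755 6)) (.leaf (.up 4 988 6)))) (.node (.node (.leaf (.up 4 1451 6)) (.leaf (.up 4 172 6))) (.node (.leaf (.up 3 438 4)) (.leaf (.up 4 1444 5))))) (.node (.node (.node (.leaf (.up 5 1759 4)) (.leaf (.up 3 1989 3))) (.node (.leaf (.up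 4 832 4)) (.leaf (.up 3 1989 2)))) (.node (.node (.leaf (.up 4 64 4)) (.leaf (.up 2 1417 6))) (.node (.leaf (.up 4 1448 6)) (.leaf (.up 3 1221 3))))))) (.node (.node (.node (.node (.node (.leaf (.up 3 464 4)) (.leaf (.up 4 684 5))) (.node (.leaf (.up 4 410 2)) (.leaf (.up 5 1401 2)))) (.node (.node (.leaf (.up 5 1871 4)) (.leaf (.up 4 486 2))) (.node (.leaf (.up 6 1379 5)) (.leaf (.up 2 1897 6))))) (.node (.node (.node (.leaf (.up 4 1083 6)) (.leaf (.up 7 1620 5))) (.node (.leaf (.up 4 838 1)) (.leaf (.up 7 473 5)))) (.node (.node (.leaf (.up 4 64 3)) (.leaf (.up 6 479 5))) (.node (.leaf (.up 4 1867 6)) (.leaf (.up 6 1618 5)))))) (.node (.node (.node (.node (.leaf (.up 3 730 6)) (.leaf (.up 4 835 2))) (.node (.leaf (.up 4 2044 6)) (.leaf (.up 5 283 4)))) (.node (.node (.leaf (.up 5 319 2)) (.leaf (.up 5 1101 5))) (.node (.leaf (.up 5 831 2)) (.leaf (.up 4 494 1))))) (.node (.node (.node (.leaf (.up 5 247 5)) (.leaf (.up 5 237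 4))) (.node (.leaf (.up 3 1914 5)) (.leaf (.up 4 1394 4)))) (.node (.node (.leaf (.up 4 229 2)) (.leaf (.up 2 1650 4))) (.node (.leaf (.up 3 1167 6)) (.leaf (.up 5 1542 2)))))))) (.node (.node (.node (.node (.node (.node (.leaf (.up 4 99 4)) (.leaf (.up 4 617 3))) (.node (.leaf (.up 3 1932 6)) (.leaf (.up 4 1228 5)))) (.node (.node (.leaf (.up 4 1674 3)) (.leaf (.up 4 1270 3))) (.node (.leaf (.up 5 603 2)) (.leaf (.up 4 1245 6))))) (.node (.node (.node (.leaf (.up 3 1935 6)) (.leaf (.up 4 648 6))) (.node (.leaf (.up 4 681 6)) (.leaf (.up 5 52 5)))) (.node (.node (.leaf (.up 5 2043 5)) (.leaf (.up 4 1246 6))) (.node (.leaf (.up 6 118 5)) (.leaf (.up 5 504 6)))))) (.node (.node (.node (.node (.leaf (.up 5 688 3)) (.leaf (.up 5 1565 2))) (.node (.leaf (.up 4 623 5)) (.leaf (.up 3 335 6)))) (.node (.node (.leaf (.up 4 1071 3)) (.leaf (.up 3 936 4))) (.node (.leaf (.up 5 490 0)) (.leaf (.up 4 642 2))))) (.node (.node (.node (.leaf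 (.up 3 804 2)) (.leaf (.up 3 332 6))) (.node (.leaf (.up 4 1687 5)) (.leaf (.up 2 1479 2)))) (.node (.node (.leaf (.up 3 541 6)) (.leaf (.up 6 1818 6))) (.node (.leaf (.up 3 1979 2)) (.leaf (.up 7 572 6))))))) (.node (.node (.node (.node (.node (.leaf (.up 5 748 5)) (.leaf (.up 3 1403 2))) (.node (.leaf (.up 5 1097 3)) (.leaf (.up 5 974 4)))) (.node (.node (.leaf (.up 4 1865 3)) (.leaf (.up 3 686 5))) (.node (.leaf (.up 5 726 3)) (.leaf (.up 2 170 3))))) (.node (.node (.node (.leaf (.up 3 66 2)) (.leaf (.up 3 1185 2))) (.node (.leaf (.up 4 816 4)) (.leaf (.up 2 554 3)))) (.node (.node (.leaf (.up 4 254 6)) (.leaf (.up 5 574 2))) (.node (.leaf (.up 4 1245 2)) (.leaf (.up 4 312 4)))))) (.node (.node (.node (.node (.leaf (.up 3 773 4)) (.leaf (.up 4 1103 5))) (.node (.leaf (.up 5 1690 4)) (.leaf (.up 2 1168 3)))) (.node (.node (.leaf (.up 4 1434 4)) (.leaf (.up 4 1994 0))) (.node (.leaf (.up 2 5 4)) (.leaf (.up 5 527 3))))) (.node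 (.node (.node (.leaf (.up 3 1388 6)) (.leaf (.up 5 107 6))) (.node (.leaf (.up 1 74 6)) (.leaf (.up 6 1850 5)))) (.node (.node (.leaf (.up 7 826 6)) (.leaf (.up 4 1852 5))) (.node (.leaf (.up 6 1564 6)) (.leaf (.up 4 795 6))))))))

noncomputable def vt2_7_1101 : Tr VStep :=
  .node (.node (.node (.node (.node (.node (.node (.leaf (.up 3 804 6)) (.leaf (.up 5 1037 3))) (.node (.leaf (.up 5 1158 1)) (.leaf (.up 3 773 6)))) (.node (.node (.leaf (.up 4 1394 6)) (.leaf (.up 3 1367 2))) (.node (.leaf (.up 4 1414 1)) (.leaf (.up 4 1363 6))))) (.node (.node (.node (.leaf (.up 4 80 5)) (.leaf (.up 2 774 6))) (.node (.leaf (.up 5 2013 5)) (.leaf (.up 2 20 5)))) (.node (.node (.leaf (.up 5 2011 5)) (.leaf (.up 3 1165 2))) (.node (.leaf (.up 5 1155 4)) (.leaf (.up 2 1951 5)))))) (.node (.node (.node (.node (.leaf (.up 4 1474 5)) (.leaf (.up 6 523 5))) (.node (.leaf (.up 4 1478 6)) (.leaf (.up 4 1414 5)))) (.node (.node (.leaf (.up 5 587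 3)) (.leaf (.up 5 365 2))) (.node (.leaf (.up 4 2004 3)) (.leaf (.up 3 525 5))))) (.node (.node (.node (.leaf (.up 5 1477 6)) (.leaf (.up 6 194 6))) (.node (.leaf (.up 6 227 6)) (.leaf (.up 5 1508 6)))) (.node (.node (.leaf (.up 6 1108 2)) (.leaf (.up 6 1684 6))) (.node (.leaf (.up 5 1717 6)) (.leaf (.up 5 946 6))))))) (.node (.node (.node (.node (.node (.leaf (.up 3 335 4)) (.leaf (.up 5 1486 3))) (.node (.leaf (.up 5 474 1)) (.leaf (.up 4 648 5)))) (.node (.node (.leaf (.up 3 2000 4)) (.leaf (.up 5 839 4))) (.node (.leaf (.up 5 218 1)) (.leaf (.up 4 1283 5))))) (.node (.node (.node (.leaf (.up 4 429 2)) (.leaf (.up 5 545 6))) (.node (.leaf (.up 3 512 6)) (.leaf (.up 5 1799 6)))) (.node (.node (.leaf (.up 4 368 6)) (.leaf (.up 3 1143 6))) (.node (.leaf (.up 4 1586 5)) (.leaf (.up 5 337 6)))))) (.node (.node (.node (.node (.leaf (.up 4 455 6)) (.leaf (.up 5 1216 6))) (.node (.leaf (.up 4 2016 1)) (.leaf (.up 3 686 2)))) (.node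 (.node (.leaf (.up 5 1937 6)) (.leaf (.up 4 1585 2))) (.node (.leaf (.up 5 1760 1)) (.leaf (.up 4 1073 2))))) (.node (.node (.node (.leaf (.up 4 264 3)) (.leaf (.up 5 884 3))) (.node (.leaf (.up 3 1175 3)) (.leaf (.up 4 1219 6)))) (.node (.node (.leaf (.up 3 776 2)) (.leaf (.up 5 1971 6))) (.node (.leaf (.up 2 520 3)) (.leaf (.up 6 661 6)))))))) (.node (.node (.node (.node (.node (.node (.leaf (.up 3 1686 1)) (.leaf (.up 4 458 2))) (.node (.leaf (.up 5 1169 6)) (.leaf (.up 4 500 4)))) (.node (.node (.leaf (.up 4 1942 1)) (.leaf (.up 5 373 1))) (.node (.leaf (.up 3 438 2)) (.leaf (.up 4 1984 6))))) (.node (.node (.node (.leaf (.up 6 1170 6)) (.leaf (.up 1 2 4))) (.node (.leaf (.up 6 436 6)) (.leaf (.up 2 528 2)))) (.node (.node (.leaf (.up 5 708 6)) (.leaf (.up 2 1947 5))) (.node (.leaf (.up 4 108 2)) (.leaf (.up 1 4 1)))))) (.node (.node (.node (.node (.leaf (.up 4 172 1)) (.leaf (.up 3 1908 6))) (.node (.leaf (.up 4 1478 5))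 (.leaf (.up 4 2032 2)))) (.node (.node (.leaf (.up 3 1932 2)) (.leaf (.up 4 290 6))) (.node (.leaf (.up 4 259 6)) (.leaf (.up 5 1028 6))))) (.node (.node (.node (.leaf (.up 3 1715 5)) (.leaf (.up 3 378 5))) (.node (.leaf (.up 4 318 5)) (.leaf (.up 4 1578 2)))) (.node (.node (.leaf (.up 4 1346 3)) (.leaf (.up 5 693 2))) (.node (.leaf (.up 4 1110 2)) (.leaf (.up 4 705 4))))))) (.node (.node (.node (.node (.node (.leaf (.up 3 1821 0)) (.leaf (.up 3 1686 2))) (.node (.leaf (.up 3 712 5)) (.leaf (.up 5 177 6)))) (.node (.node (.leaf (.up 4 718 5)) (.leaf (.up 5 961 6))) (.node (.leaf (.up 4 1956 3)) (.leaf (.up 5 1486 4))))) (.node (.node (.node (.leaf (.up 4 1461 6)) (.leaf (.up 2 1652 5))) (.node (.leaf (.up 4 147 6)) (.leaf (.up 4 505 5)))) (.node (.node (.leaf (.up 3 1328 2)) (.leaf (.up 4 467 2))) (.node (.leaf (.up 3 1733 6)) (.leaf (.up 2 1650 5)))))) (.node (.node (.node (.node (.leaf (.up 4 1520 1)) (.leaf (.up 4 684 2)))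 (.node (.leaf (.up 2 1650 6)) (.leaf (.up 3 482 3)))) (.node (.node (.leaf (.up 5 208 2)) (.leaf (.up 2 5 6))) (.node (.leaf (.up 5 36 6)) (.leaf (.up 5 1037 4))))) (.node (.node (.node (.leaf (.up 4 1649 6)) (.leaf (.up 4 1822 5))) (.node (.leaf (.up 4 855 6)) (.leaf (.up 4 1616 6)))) (.node (.node (.leaf (.up 5 1884 5)) (.leaf (.up 4 1312 6))) (.node (.leaf (.up 5 209 5)) (.leaf (.up 4 6 6))))))))

noncomputable def vt2_7_110 : Tr VStep := .node vt2_7_1100 vt2_7_1101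

noncomputable def vt2_7_1110 : Tr VStep :=
  .node (.node (.node (.node (.node (.node (.node (.leaf (.up 3 335 2)) (.leaf (.up 6 577 5))) (.node (.leaf (.up 4 517 5)) (.leaf (.up 5 1760 4)))) (.node (.node (.leaf (.up 3 2000 2)) (.leaf (.up 5 893 3))) (.node (.leaf (.up 5 1688 6)) (.leaf (.up 4 927 6))))) (.node (.node (.node (.leaf (.up 4 368 5)) (.leaf (.up 6 1721 5))) (.node (.leaf (.up 5 1789 5)) (.leaf (.up 6 236 6)))) (.node (.node (.leaf (.up 3 1691 6)) (.leaf (.up 5 393 4))) (.node (.leaf (.up 3 1034 2)) (.leaf (.up 5 1722 6)))))) (.node (.node (.node (.node (.leaf (.up 5 1397 2)) (.leaf (.up 5 406 2))) (.node (.leaf (.up 4 164 3)) (.leaf (.up 3 1827 4)))) (.node (.node (.leaf (.up 4 1002 2)) (.leaf (.up 4 472 3))) (.node (.leaf (.up 4 1372 6)) (.leaf (.up 5 1289 2))))) (.node (.node (.node (.leaf (.up 4 1199 2)) (.leaf (.up 5 1550 6))) (.node (.leaf (.up 3 1354 0)) (.leaf (.up 7 94 5)))) (.node (.node (.leaf (.up 3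 1979 3)) (.leaf (.up 1 74 4))) (.node (.leaf (.up 5 28 5)) (.leaf (.up 2 88 3))))))) (.node (.node (.node (.node (.node (.leaf (.up 5 1231 6)) (.leaf (.up 5 1061 5))) (.node (.leaf (.up 5 1043 2)) (.leaf (.up 3 240 2)))) (.node (.node (.leaf (.up 5 665 6)) (.leaf (.up 4 942 5))) (.node (.leaf (.up 4 1002 5)) (.leaf (.up 1 1 0))))) (.node (.node (.node (.leaf (.up 5 490 6)) (.leaf (.up 5 810 2))) (.node (.leaf (.up 3 1211 4)) (.leaf (.up 5 1872 5)))) (.node (.node (.leaf (.up 2 159 5)) (.leaf (.up 4 1461 2))) (.node (.leaf (.up 5 854 2)) (.leaf (.up 2 1949 6)))))) (.node (.node (.node (.node (.leaf (.up 4 646 5)) (.leaf (.up 5 1738 2))) (.node (.leaf (.up 4 1291 5)) (.leaf (.up 4 795 3)))) (.node (.node (.leaf (.up 5 349 6)) (.leaf (.up 4 27 3))) (.node (.leaf (.up 5 2040 3)) (.leaf (.up 5 1353 5))))) (.node (.node (.node (.leaf (.up 7 558 6)) (.leaf (.up 5 1833 6))) (.node (.leaf (.up 7 1800 6)) (.leaf (.up 5 1594 5)))) (.node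 (.node (.leaf (.up 3 1388 2)) (.leaf (.up 5 1596 5))) (.node (.leaf (.up 3 1656 5)) (.leaf (.up 5 1113 6)))))))) (.node (.node (.node (.node (.node (.node (.leaf (.up 5 845 2)) (.leaf (.up 5 636 6))) (.node (.leaf (.up 4 605 6)) (.leaf (.up 5 924 1)))) (.node (.node (.leaf (.up 4 1490 2)) (.leaf (.up 4 1782 4))) (.node (.leaf (.up 5 519 5)) (.leaf (.up 4 668 1))))) (.node (.node (.node (.leaf (.up 6 1785 5)) (.leaf (.up 2 1652 2))) (.node (.leaf (.up 5 372 5)) (.leaf (.up 3 1908 3)))) (.node (.node (.leaf (.up 5 370 5)) (.leaf (.up 5 1140 3))) (.node (.leaf (.up 7 1791 5)) (.leaf (.up 4 491 3)))))) (.node (.node (.node (.node (.leaf (.up 5 1341 4)) (.leaf (.up 4 440 6))) (.node (.leaf (.up 4 1254 5)) (.leaf (.up 4 815 5)))) (.node (.node (.leaf (.up 5 930 4)) (.leaf (.up 2 2030 6))) (.node (.leaf (.up 3 1000 2)) (.leaf (.up 3 712 6))))) (.node (.node (.node (.leaf (.up 4 410 6)) (.leaf (.up 2 1181 6))) (.node (.leaf (.up 5 52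 1)) (.leaf (.up 4 78 2)))) (.node (.node (.leaf (.up 6 1197 3)) (.leaf (.up 3 2001 5))) (.node (.leaf (.up 6 746 6)) (.leaf (.up 4 1745 2))))))) (.node (.node (.node (.node (.node (.leaf (.up 5 1041 2)) (.leaf (.up 4 716 4))) (.node (.leaf (.up 3 1000 5)) (.leaf (.up 4 754 2)))) (.node (.node (.leaf (.up 6 196 4)) (.leaf (.up 5 1645 2))) (.node (.leaf (.up 5 1324 6)) (.leaf (.up 4 1133 2))))) (.node (.node (.node (.leaf (.up 5 889 6)) (.leaf (.up 6 1876 5))) (.node (.leaf (.up 6 1808 5)) (.leaf (.up 6 217 5)))) (.node (.node (.leaf (.up 6 1197 4)) (.leaf (.up 7 223 5))) (.node (.leaf (.up 6 9 6)) (.leaf (.up 7 1874 5)))))) (.node (.node (.node (.node (.leaf (.up 2 1944 4)) (.leaf (.up 2 159 6))) (.node (.leaf (.up 4 642 5)) (.leaf (.up 5 1465 6)))) (.node (.node (.leaf (.up 4 263 4)) (.leaf (.up 5 1424 4))) (.node (.leaf (.up 5 1768 6)) (.leaf (.up 5 506 1))))) (.node (.node (.node (.leaf (.up 4 497 2)) (.leaf (.up 5 1598 5)))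 (.node (.leaf (.up 3 1435 6)) (.leaf (.up 5 435 5)))) (.node (.node (.leaf (.up 4 1660 5)) (.leaf (.up 4 437 5))) (.node (.leaf (.up 4 497 5)) (.leaf (.up 5 1592 5))))))))

noncomputable def vt2_7_1111 : Tr VStep :=
  .node (.node (.node (.node (.node (.node (.node (.leaf (.up 5 748 3)) (.leaf (.up 4 1010 6))) (.node (.leaf (.up 4 979 6)) (.leaf (.up 5 613 5)))) (.node (.node (.leaf (.up 5 1139 3)) (.leaf (.up 4 222 2))) (.node (.leaf (.up 3 1143 4)) (.leaf (.up 5 130 6))))) (.node (.node (.node (.leaf (.up 5 1753 5)) (.leaf (.up 2 1947 2))) (.node (.leaf (.up 4 1782 6)) (.leaf (.up 3 534 4)))) (.node (.node (.leaf (.up 4 1414 6)) (.leaf (.up 2 528 1))) (.node (.leaf (.up 5 1759 5)) (.leaf (.up 2 1161 4)))))) (.node (.node (.node (.node (.leaf (.up 3 1329 6)) (.leaf (.up 3 635 2))) (.node (.leaf (.up 5 696 1)) (.leaf (.up 4 1115 1)))) (.node (.node (.leaf (.up 2 1750 3)) (.leaf (.up 5 1252 2))) (.node (.leaf (.up 5 519 2)) (.leaf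 (.up 4 838 6))))) (.node (.node (.node (.leaf (.up 2 20 6)) (.leaf (.up 4 1578 3))) (.node (.leaf (.up 4 1346 2)) (.leaf (.up 4 53 6)))) (.node (.node (.leaf (.up 3 56 5)) (.leaf (.up 4 213 4))) (.node (.leaf (.up 4 1973 5)) (.leaf (.up 3 1354 4))))))) (.node (.node (.node (.node (.node (.leaf (.up 4 1490 4)) (.leaf (.up 3 725 6))) (.node (.leaf (.up 5 756 6)) (.leaf (.up 4 1228 3)))) (.node (.node (.leaf (.up 5 388 6)) (.leaf (.up 5 1155 6))) (.node (.leaf (.up 3 1746 4)) (.leaf (.up 5 421 6))))) (.node (.node (.node (.leaf (.up 4 189 5)) (.leaf (.up 3 1908 5))) (.node (.leaf (.up 3 2001 6)) (.leaf (.up 4 711 2)))) (.node (.node (.leaf (.up 3 1185 6)) (.leaf (.up 4 1624 2))) (.node (.leaf (.up 4 391 6)) (.leaf (.up 4 1152 6)))))) (.node (.node (.node (.node (.leaf (.up 5 726 0)) (.leaf (.up 5 273 6))) (.node (.leaf (.up 3 304 6)) (.leaf (.up 2 1831 2)))) (.node (.node (.leaf (.up 5 576 6)) (.leaf (.up 4 1385 3))) (.node (.leaf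 (.up 4 1809 4)) (.leaf (.up 4 440 2))))) (.node (.node (.node (.leaf (.up 5 307 6)) (.leaf (.up 5 1277 2))) (.node (.leaf (.up 5 1045 6)) (.leaf (.up 3 274 6)))) (.node (.node (.leaf (.up 5 1628 5)) (.leaf (.up 4 610 2))) (.node (.leaf (.up 6 465 5)) (.leaf (.up 4 1560 5)))))))) (.node (.node (.node (.node (.node (.node (.leaf (.up 4 1448 5)) (.leaf (.up 4 1091 2))) (.node (.leaf (.up 5 320 6)) (.leaf (.up 4 1385 4)))) (.node (.node (.leaf (.up 5 547 5)) (.leaf (.up 4 1641 4))) (.node (.leaf (.up 4 762 3)) (.leaf (.up 5 220 2))))) (.node (.node (.node (.leaf (.up 1 8 4)) (.leaf (.up 2 1689 5))) (.node (.leaf (.up 4 890 2)) (.leaf (.up 3 276 5)))) (.node (.node (.leaf (.up 4 1687 4)) (.leaf (.up 2 774 2))) (.node (.leaf (.up 3 776 4)) (.leaf (.up 1 0 1)))))) (.node (.node (.node (.node (.leaf (.up 3 1178 2)) (.leaf (.up 5 677 6))) (.node (.leaf (.up 5 1728 3)) (.leaf (.up 5 1158 5)))) (.node (.node (.leaf (.up 4 500 6)) (.leaf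 (.up 4 1152 5))) (.node (.leaf (.up 2 5 2)) (.leaf (.up 4 1254 2))))) (.node (.node (.node (.leaf (.up 6 647 6)) (.leaf (.up 3 1340 3))) (.node (.leaf (.up 6 1953 6)) (.leaf (.up 4 678 6)))) (.node (.node (.leaf (.up 5 1233 6)) (.leaf (.up 4 1852 2))) (.node (.leaf (.up 5 503 6)) (.leaf (.up 3 1340 2))))))) (.node (.node (.node (.node (.node (.leaf (.up 4 2044 2)) (.leaf (.up 5 799 2))) (.node (.leaf (.up 5 859 4)) (.leaf (.up 6 2010 3)))) (.node (.node (.leaf (.up 4 1702 3)) (.leaf (.up 4 1228 4))) (.node (.leaf (.up 4 1585 6)) (.leaf (.up 4 822 6))))) (.node (.node (.node (.leaf (.up 4 1574 2)) (.leaf (.up 5 1594 4))) (.node (.leaf (.up 4 1346 6)) (.leaf (.up 6 69 6)))) (.node (.node (.leaf (.up 4 185 2)) (.leaf (.up 5 1884 1))) (.node (.leaf (.up 3 788 6)) (.leaf (.up 4 1372 1)))))) (.node (.node (.node (.node (.leaf (.up 4 678 5)) (.leaf (.up 4 898 6))) (.node (.leaf (.up 5 931 6)) (.leaf (.up 4 1700 6)))) (.node (.node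 (.leaf (.up 4 211 6)) (.leaf (.up 5 740 5))) (.node (.leaf (.up 6 672 5)) (.leaf (.up 4 954 2))))) (.node (.node (.node (.leaf (.up 4 1630 5)) (.leaf (.up 6 1703 6))) (.node (.leaf (.up 4 467 5)) (.leaf (.up 6 897 6)))) (.node (.node (.leaf (.up 5 469 5)) (.leaf (.up 5 96 2))) (.node (.leaf (.up 4 1624 5)) (.leaf (.up 4 1495 6))))))))

noncomputable def vt2_7_111 : Tr VStep := .node vt2_7_1110 vt2_7_1111

noncomputable def vt2_7_11 : Tr VStep := .node vt2_7_110 vt2_7_111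

noncomputable def vt2_7_1 : Tr VStep := .node vt2_7_10 vt2_7_11

noncomputable def vt2_7_ : Tr VStep := .node vt2_7_0 vt2_7_1

noncomputable def vt2_8_0000 : Tr VStep :=
  .node (.node (.node (.node (.node (.node (.node (.leaf (.root 1578)) (.leaf (.up 6 378 1))) (.node (.leaf (.up 2 1689 1)) (.leaf (.up 6 634 3)))) (.node (.node (.leaf (.up 3 1945 3)) (.leaf (.up 5 762 4))) (.node (.leaf (.up 1 6 1)) (.leaf (.up 4 1345 2))))) (.node (.node (.node (.leaf (.up 5 1508 2)) (.leaf (.up 5 1655 0))) (.node (.leaf (.up 4 1453 0)) (.leaf (.up 4 211 2)))) (.node (.node (.leaf (.up 5 1684 2)) (.leaf (.up 5 1018 1))) (.node (.leaf (.up 6 1768 3)) (.leaf (.up 5 1274 4)))))) (.node (.node (.node (.node (.leaf (.up 4 263 2)) (.leaf (.up 3 1697 0))) (.node (.leaf (.up 3 1057 2)) (.leaf (.up 4 1088 3)))) (.node (.node (.leaf (.up 5 631 2)) (.leaf (.up 4 1856 3))) (.node (.leaf (.up 5 675 1)) (.leaf (.up 3 574 0))))) (.node (.node (.node (.leaf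 (.up 2 1371 0)) (.leaf (.up 5 2036 2))) (.node (.leaf (.up 4 1883 0)) (.leaf (.up 5 722 2)))) (.node (.node (.leaf (.up 5 722 3)) (.leaf (.up 4 542 0))) (.node (.leaf (.up 4 210 3)) (.leaf (.up 6 1685 4))))))) (.node (.node (.node (.node (.node (.leaf (.up 5 561 4)) (.leaf (.up 4 788 2))) (.node (.leaf (.up 5 1553 4)) (.leaf (.up 4 1586 2)))) (.node (.node (.leaf (.up 6 117 2)) (.leaf (.up 4 256 4))) (.node (.leaf (.up 5 453 1)) (.leaf (.up 4 441 0))))) (.node (.node (.node (.leaf (.up 5 17 4)) (.leaf (.up 6 832 4))) (.node (.leaf (.up 6 1244 0)) (.leaf (.up 5 1888 4)))) (.node (.node (.leaf (.up 6 1687 2)) (.leaf (.up 5 1670 2))) (.node (.leaf (.up 5 1105 4)) (.leaf (.up 5 1792 4)))))) (.node (.node (.node (.node (.leaf (.up 3 260 2)) (.leaf (.up 6 783 4))) (.node (.leaf (.up 5 1034 0)) (.leaf (.up 4 284 3)))) (.node (.node (.leaf (.up 4 62 4)) (.leaf (.up 6 879 4))) (.node (.leaf (.up 3 1054 4)) (.leaf (.up 4 847 0))))) (.node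 (.node (.node (.leaf (.up 5 1151 1)) (.leaf (.up 4 2039 2))) (.node (.leaf (.up 5 480 1)) (.leaf (.up 6 721 2)))) (.node (.node (.leaf (.up 4 542 4)) (.leaf (.up 4 156 1))) (.node (.leaf (.up 4 432 2)) (.leaf (.up 6 417 2)))))))) (.node (.node (.node (.node (.node (.node (.leaf (.up 4 328 2)) (.leaf (.up 4 106 3))) (.node (.leaf (.up 4 1134 2)) (.leaf (.up 5 1151 2)))) (.node (.node (.leaf (.up 3 1896 4)) (.leaf (.up 5 1267 1))) (.node (.leaf (.up 4 1417 3)) (.leaf (.up 5 25 4))))) (.node (.node (.node (.leaf (.up 6 1320 4)) (.leaf (.up 5 795 3))) (.node (.leaf (.up 5 2040 3)) (.leaf (.up 5 283 3)))) (.node (.node (.leaf (.up 5 1272 3)) (.leaf (.up 6 539 3))) (.node (.leaf (.up 6 508 2)) (.leaf (.up 6 1395 1)))))) (.node (.node (.node (.node (.leaf (.up 5 841 2)) (.leaf (.up 5 1189 0))) (.node (.leaf (.up 2 1647 2)) (.leaf (.up 4 1701 0)))) (.node (.node (.leaf (.up 5 992 0)) (.leaf (.up 3 40 2))) (.node (.leaf (.up 5 480 0))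 (.leaf (.up 4 1360 3))))) (.node (.node (.node (.leaf (.up 5 1887 0)) (.leaf (.up 5 1046 4))) (.node (.leaf (.up 5 1375 0)) (.leaf (.up 4 156 2)))) (.node (.node (.leaf (.up 5 53 1)) (.leaf (.up 3 1057 3))) (.node (.leaf (.up 5 194 3)) (.leaf (.up 5 1004 2))))))) (.node (.node (.node (.node (.node (.leaf (.up 6 331 2)) (.leaf (.up 5 346 2))) (.node (.leaf (.up 4 210 4)) (.leaf (.up 4 899 4)))) (.node (.node (.leaf (.up 5 1868 1)) (.leaf (.up 5 554 2))) (.node (.leaf (.up 7 213 3)) (.leaf (.up 5 995 4))))) (.node (.node (.node (.leaf (.up 4 164 3)) (.leaf (.up 6 1976 2))) (.node (.leaf (.up 6 655 2)) (.leaf (.up 5 670 2)))) (.node (.node (.leaf (.up 3 583 0)) (.leaf (.up 5 1224 2))) (.node (.leaf (.up 6 932 3)) (.leaf (.up 6 451 4)))))) (.node (.node (.node (.node (.leaf (.up 4 1693 4)) (.leaf (.up 6 780 3))) (.node (.leaf (.up 5 1550 0)) (.leaf (.up 5 1661 2)))) (.node (.node (.leaf (.up 4 1513 1)) (.leaf (.up 5 524 3))) (.node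 (.leaf (.up 4 1308 2)) (.leaf (.up 5 522 1))))) (.node (.node (.node (.leaf (.up 3 1897 1)) (.leaf (.up 5 125 3))) (.node (.leaf (.up 6 157 4)) (.leaf (.up 5 972 4)))) (.node (.node (.leaf (.up 3 502 1)) (.leaf (.up 4 363 0))) (.node (.leaf (.up 6 1438 3)) (.leaf (.up 6 875 0))))))))

noncomputable def vt2_8_0001 : Tr VStep :=
  .node (.node (.node (.node (.node (.node (.node (.leaf (.up 5 682 0)) (.leaf (.up 3 786 2))) (.node (.leaf (.up 6 1396 3)) (.leaf (.up 3 919 3)))) (.node (.node (.leaf (.up 6 235 1)) (.leaf (.up 4 1390 4))) (.node (.leaf (.up 4 543 4)) (.leaf (.up 4 334 4))))) (.node (.node (.node (.leaf (.up 5 1151 4)) (.leaf (.up 4 23 1))) (.node (.leaf (.up 5 2036 1)) (.leaf (.up 5 230 3)))) (.node (.node (.leaf (.up 6 1268 1)) (.leaf (.up 5 1870 4))) (.node (.leaf (.up 4 363 1)) (.leaf (.up 5 1487 0)))))) (.node (.node (.node (.node (.leaf (.up 3 258 2)) (.leaf (.up 5 1889 4))) (.node (.leaf (.up 4 334 1)) (.leaf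 (.up 4 1453 3)))) (.node (.node (.leaf (.up 3 626 2)) (.leaf (.up 6 611 2))) (.node (.leaf (.up 4 1876 2)) (.leaf (.up 3 801 4))))) (.node (.node (.node (.leaf (.up 6 1552 4)) (.leaf (.up 4 1345 4))) (.node (.leaf (.up 5 710 2)) (.leaf (.up 6 1837 1)))) (.node (.node (.leaf (.up 5 831 3)) (.leaf (.up 5 1313 4))) (.node (.leaf (.up 3 592 4)) (.leaf (.up 5 257 4))))))) (.node (.node (.node (.node (.node (.leaf (.up 2 768 2)) (.leaf (.up 5 1780 4))) (.node (.leaf (.up 3 40 3)) (.leaf (.up 1 1 0)))) (.node (.node (.leaf (.up 5 112 2)) (.leaf (.up 5 852 1))) (.node (.leaf (.up 4 485 4)) (.leaf (.up 3 1739 1))))) (.node (.node (.node (.leaf (.up 5 1925 4)) (.leaf (.up 5 1978 3))) (.node (.leaf (.up 5 196 2)) (.leaf (.up 5 1466 3)))) (.node (.node (.leaf (.up 3 1335 1)) (.leaf (.up 5 1726 0))) (.node (.leaf (.up 5 1380 0)) (.leaf (.up 5 148 4)))))) (.node (.node (.node (.node (.leaf (.up 5 257 2)) (.leaf (.up 4 1902 1))) (.node (.leaf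 (.up 4 1063 2)) (.leaf (.up 2 241 3)))) (.node (.node (.leaf (.up 5 909 1)) (.leaf (.up 3 1009 3))) (.node (.leaf (.up 6 1810 3)) (.leaf (.up 2 1862 2))))) (.node (.node (.node (.leaf (.up 4 269 1)) (.leaf (.up 6 1723 4))) (.node (.leaf (.up 4 269 0)) (.leaf (.up 5 724 2)))) (.node (.node (.leaf (.up 4 1938 1)) (.leaf (.up 6 1518 1))) (.node (.leaf (.up 4 1938 0)) (.leaf (.up 5 420 2)))))))) (.node (.node (.node (.node (.node (.node (.leaf (.up 4 156 4)) (.leaf (.up 4 1822 1))) (.node (.leaf (.up 5 1380 3)) (.leaf (.up 4 1146 2)))) (.node (.node (.leaf (.up 6 252 4)) (.leaf (.up 4 135 3))) (.node (.leaf (.up 5 1634 1)) (.leaf (.up 3 1054 1))))) (.node (.node (.node (.leaf (.up 5 1967 2)) (.leaf (.up 5 852 0))) (.node (.leaf (.up 5 1692 4)) (.leaf (.up 5 1694 1)))) (.node (.node (.leaf (.up 5 2018 1)) (.leaf (.up 6 1230 2))) (.node (.leaf (.up 4 505 2)) (.leaf (.up 1 1 1)))))) (.node (.node (.node (.node (.leaf (.up 3 844 2))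 (.leaf (.up 4 1981 3))) (.node (.leaf (.up 2 1747 4)) (.leaf (.up 6 1659 2)))) (.node (.node (.leaf (.up 5 60 2)) (.leaf (.up 6 804 1))) (.node (.leaf (.up 5 1306 2)) (.leaf (.up 5 1213 3))))) (.node (.node (.node (.leaf (.up 4 211 4)) (.leaf (.up 5 420 1))) (.node (.leaf (.up 4 632 0)) (.leaf (.up 6 930 0)))) (.node (.node (.leaf (.up 5 1758 2)) (.leaf (.up 4 994 4))) (.node (.leaf (.up 4 1016 2)) (.leaf (.up 6 1986 4))))))) (.node (.node (.node (.node (.node (.leaf (.up 3 568 3)) (.leaf (.up 3 55 4))) (.node (.leaf (.up 2 1862 4)) (.leaf (.up 5 1145 2)))) (.node (.node (.leaf (.up 2 774 4)) (.leaf (.up 5 66 1))) (.node (.leaf (.up 3 312 3)) (.leaf (.up 5 1143 4))))) (.node (.node (.node (.leaf (.up 4 1964 2)) (.leaf (.up 4 535 4))) (.node (.leaf (.up 5 841 3)) (.leaf (.up 5 1591 4)))) (.node (.node (.leaf (.up 6 1244 2)) (.leaf (.up 5 631 4))) (.node (.leaf (.up 5 1888 0)) (.leaf (.up 5 1194 3)))))) (.node (.node (.node (.node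 (.leaf (.up 4 847 2)) (.leaf (.up 3 600 4))) (.node (.leaf (.up 3 1641 2)) (.leaf (.up 4 487 1)))) (.node (.node (.leaf (.up 4 361 4)) (.leaf (.up 3 568 4))) (.node (.leaf (.up 5 1794 3)) (.leaf (.up 4 481 3))))) (.node (.node (.node (.leaf (.up 4 1453 2)) (.leaf (.up 4 211 0))) (.node (.leaf (.up 4 139 2)) (.leaf (.up 5 1112 4)))) (.node (.node (.leaf (.up 5 1156 1)) (.leaf (.up 5 24 4))) (.node (.leaf (.up 3 1897 4)) (.leaf (.up 4 1080 4))))))))

noncomputable def vt2_8_000 : Tr VStep := .node vt2_8_0000 vt2_8_0001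

noncomputable def vt2_8_0010 : Tr VStep :=
  .node (.node (.node (.node (.node (.node (.node (.leaf (.up 2 1947 1)) (.leaf (.up 5 690 4))) (.node (.leaf (.up 5 1181 3)) (.leaf (.up 5 388 2)))) (.node (.node (.leaf (.up 2 1949 3)) (.leaf (.up 5 382 3))) (.node (.leaf (.up 4 741 2)) (.leaf (.up 5 728 0))))) (.node (.node (.node (.leaf (.up 5 963 4)) (.leaf (.up 4 146 4))) (.node (.leaf (.up 4 1563 1)) (.leaf (.up 2 1894 2)))) (.node (.node (.leaf (.up 4 289 2)) (.leaf (.up 4 242 4))) (.node (.leaf (.up 5 1772 3)) (.leaf (.up 5 760 1)))))) (.node (.node (.node (.node (.leaf (.up 5 908 4)) (.leaf (.up 2 1699 2))) (.node (.leaf (.up 4 1964 4)) (.leaf (.up 3 1092 3)))) (.node (.node (.leaf (.up 5 1004 4)) (.leaf (.up 4 1860 3))) (.node (.leaf (.up 6 1598 1)) (.leaf (.up 3 46 0))))) (.node (.node (.node (.leaf (.up 4 289 1)) (.leaf (.up 5 765 4))) (.node (.leaf (.up 3 1420 4)) (.leaf (.up 5 1757 4)))) (.node (.node (.leaf (.up 5 460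 4)) (.leaf (.up 6 1474 1))) (.node (.leaf (.up 5 1542 2)) (.leaf (.up 6 93 1))))))) (.node (.node (.node (.node (.node (.leaf (.up 5 1772 0)) (.leaf (.up 4 1185 2))) (.node (.leaf (.up 3 449 3)) (.leaf (.up 4 1384 4)))) (.node (.node (.leaf (.up 6 705 3)) (.leaf (.up 5 2001 2))) (.node (.leaf (.up 5 1625 4)) (.leaf (.up 5 759 2))))) (.node (.node (.node (.leaf (.up 3 583 1)) (.leaf (.up 6 1302 0))) (.node (.leaf (.up 6 1740 0)) (.leaf (.up 4 1864 4)))) (.node (.node (.leaf (.up 4 432 3)) (.leaf (.up 5 776 4))) (.node (.leaf (.up 5 327 1)) (.leaf (.up 4 1832 4)))))) (.node (.node (.node (.node (.leaf (.up 4 118 4)) (.leaf (.up 5 1472 0))) (.node (.leaf (.up 3 919 2)) (.leaf (.up 6 798 1)))) (.node (.node (.leaf (.up 4 610 1)) (.leaf (.up 4 1488 2))) (.node (.leaf (.up 5 2045 1)) (.leaf (.up 4 1409 1))))) (.node (.node (.node (.leaf (.up 5 1594 0)) (.leaf (.up 4 263 4))) (.node (.leaf (.up 4 1082 0)) (.leaf (.up 5 1380 2)))) (.node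 (.node (.leaf (.up 5 1661 1)) (.leaf (.up 4 361 3))) (.node (.leaf (.up 4 994 1)) (.leaf (.up 6 1351 4)))))))) (.node (.node (.node (.node (.node (.node (.leaf (.up 3 1677 3)) (.leaf (.up 5 1772 2))) (.node (.leaf (.up 2 768 4)) (.leaf (.up 5 622 3)))) (.node (.node (.leaf (.up 2 530 1)) (.leaf (.up 5 1041 4))) (.node (.leaf (.up 3 1421 3)) (.leaf (.up 5 186 2))))) (.node (.node (.node (.leaf (.up 4 146 1)) (.leaf (.up 4 799 3))) (.node (.leaf (.up 5 1293 1)) (.leaf (.up 4 287 3)))) (.node (.node (.leaf (.up 6 1276 3)) (.leaf (.up 4 543 3))) (.node (.leaf (.up 3 1609 2)) (.leaf (.up 4 31 3)))))) (.node (.node (.node (.node (.leaf (.up 2 1576 1)) (.leaf (.up 4 1620 3))) (.node (.leaf (.up 5 951 1)) (.leaf (.up 3 574 4)))) (.node (.node (.leaf (.up 4 183 1)) (.leaf (.up 2 1949 2))) (.node (.leaf (.up 4 271 4)) (.leaf (.up 3 1364 3))))) (.node (.node (.node (.leaf (.up 4 542 2)) (.leaf (.up 5 527 2))) (.node (.leaf (.up 4 847 4))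 (.leaf (.up 6 1492 1)))) (.node (.node (.leaf (.up 5 710 3)) (.leaf (.up 5 1061 3))) (.node (.leaf (.up 6 1096 2)) (.leaf (.up 5 843 1))))))) (.node (.node (.node (.node (.node (.leaf (.up 6 1358 1)) (.leaf (.up 3 1842 1))) (.node (.leaf (.up 5 984 2)) (.leaf (.up 3 1842 0)))) (.node (.node (.leaf (.up 5 631 0)) (.leaf (.up 3 1439 2))) (.node (.leaf (.up 5 209 3)) (.leaf (.up 4 1586 3))))) (.node (.node (.node (.leaf (.up 6 28 2)) (.leaf (.up 6 1451 4))) (.node (.leaf (.up 5 1224 0)) (.leaf (.up 5 1323 2)))) (.node (.node (.leaf (.up 6 1690 4)) (.leaf (.up 5 1859 3))) (.node (.leaf (.up 4 698 4)) (.leaf (.up 5 1347 3)))))) (.node (.node (.node (.node (.leaf (.up 4 1717 4)) (.leaf (.up 5 776 3))) (.node (.leaf (.up 3 1054 0)) (.leaf (.up 6 452 4)))) (.node (.node (.leaf (.up 5 129 0)) (.leaf (.up 5 1950 2))) (.node (.leaf (.up 5 1771 3)) (.leaf (.up 5 420 4))))) (.node (.node (.node (.leaf (.up 6 1690 3)) (.leaf (.up 5 524 2)))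 (.node (.leaf (.up 5 1643 1)) (.leaf (.up 4 1834 2)))) (.node (.node (.leaf (.up 5 1946 3)) (.leaf (.up 5 1956 4))) (.node (.leaf (.up 6 1434 3)) (.leaf (.up 4 889 3))))))))

noncomputable def vt2_8_0011 : Tr VStep :=
  .node (.node (.node (.node (.node (.node (.node (.leaf (.up 5 1655 4)) (.leaf (.up 4 403 3))) (.node (.leaf (.up 4 698 0)) (.leaf (.up 4 262 4)))) (.node (.node (.leaf (.up 5 1990 2)) (.leaf (.up 3 1350 4))) (.node (.leaf (.up 5 1061 0)) (.leaf (.up 4 753 2))))) (.node (.node (.node (.leaf (.up 6 1111 4)) (.leaf (.up 6 738 3))) (.node (.leaf (.up 6 1906 2)) (.leaf (.up 5 806 4)))) (.node (.node (.leaf (.up 6 105 1)) (.leaf (.up 2 1894 4))) (.node (.leaf (.up 4 23 4)) (.leaf (.up 5 838 4)))))) (.node (.node (.node (.node (.leaf (.up 5 1719 2)) (.leaf (.up 5 560 1))) (.node (.leaf (.up 4 56 4)) (.leaf (.up 5 1967 1)))) (.node (.node (.leaf (.up 1 74 3)) (.leaf (.up 5 1494 2))) (.node (.leaf (.up 2 1747 0)) (.leaf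 (.up 4 240 2))))) (.node (.node (.node (.leaf (.up 5 85 2)) (.leaf (.up 6 1583 1))) (.node (.leaf (.up 5 460 1)) (.leaf (.up 5 1378 2)))) (.node (.node (.leaf (.up 4 805 2)) (.leaf (.up 5 1496 3))) (.node (.leaf (.up 4 632 4)) (.leaf (.up 6 1321 0))))))) (.node (.node (.node (.node (.node (.leaf (.up 3 1421 4)) (.leaf (.up 5 1231 3))) (.node (.leaf (.up 4 403 2)) (.leaf (.up 6 1743 3)))) (.node (.node (.leaf (.up 4 812 3)) (.leaf (.up 5 1487 3))) (.node (.leaf (.up 3 1364 0)) (.leaf (.up 5 1999 3))))) (.node (.node (.node (.leaf (.up 6 349 3)) (.leaf (.up 5 582 2))) (.node (.leaf (.up 5 909 4)) (.leaf (.up 5 1888 2)))) (.node (.node (.leaf (.up 4 1997 4)) (.leaf (.up 5 1726 3))) (.node (.leaf (.up 6 1025 2)) (.leaf (.up 3 1609 1)))))) (.node (.node (.node (.node (.leaf (.up 5 2018 4)) (.leaf (.up 4 1701 2))) (.node (.leaf (.up 5 1040 1)) (.leaf (.up 4 899 2)))) (.node (.node (.leaf (.up 6 1302 3)) (.leaf (.up 2 1493 2))) (.node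 (.leaf (.up 6 655 1)) (.leaf (.up 2 501 3))))) (.node (.node (.node (.leaf (.up 5 86 2)) (.leaf (.up 5 388 3))) (.node (.leaf (.up 6 1383 3)) (.leaf (.up 4 691 4)))) (.node (.node (.leaf (.up 5 806 2)) (.leaf (.up 6 132 3))) (.node (.leaf (.up 4 1127 3)) (.leaf (.up 5 1553 2)))))))) (.node (.node (.node (.node (.node (.node (.leaf (.up 5 1888 3)) (.leaf (.up 4 997 4))) (.node (.leaf (.up 5 1172 4)) (.leaf (.up 4 975 2)))) (.node (.node (.leaf (.up 3 1057 0)) (.leaf (.up 3 1433 2))) (.node (.leaf (.up 6 767 1)) (.leaf (.up 4 1957 4))))) (.node (.node (.node (.leaf (.up 3 26 2)) (.leaf (.up 5 453 4))) (.node (.leaf (.up 5 1553 3)) (.leaf (.up 4 242 3)))) (.node (.node (.leaf (.up 6 756 4)) (.leaf (.up 5 421 4))) (.node (.leaf (.up 6 1809 3)) (.leaf (.up 6 1413 4)))))) (.node (.node (.node (.node (.leaf (.up 4 72 0)) (.leaf (.up 4 1977 3))) (.node (.leaf (.up 4 1733 1)) (.leaf (.up 5 462 2)))) (.node (.node (.leaf (.up 4 90 3))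 (.leaf (.up 2 1944 2))) (.node (.leaf (.up 2 1691 4)) (.leaf (.up 5 702 2))))) (.node (.node (.node (.leaf (.up 5 251 4)) (.leaf (.up 5 522 2))) (.node (.leaf (.up 5 1243 4)) (.leaf (.up 6 1836 2)))) (.node (.node (.leaf (.up 4 363 2)) (.leaf (.up 6 378 2))) (.node (.leaf (.up 6 1783 0)) (.leaf (.up 5 1116 2))))))) (.node (.node (.node (.node (.node (.leaf (.up 4 572 3)) (.leaf (.up 4 31 4))) (.node (.leaf (.up 3 463 0)) (.leaf (.up 4 1759 3)))) (.node (.node (.leaf (.up 2 1419 2)) (.leaf (.up 6 1503 3))) (.node (.leaf (.up 3 316 3)) (.leaf (.up 6 188 2))))) (.node (.node (.node (.leaf (.up 5 25 2)) (.leaf (.up 5 53 0))) (.node (.leaf (.up 4 845 3)) (.leaf (.up 4 1454 3)))) (.node (.node (.leaf (.up 5 700 1)) (.leaf (.up 3 192 1))) (.node (.leaf (.up 6 1615 2)) (.leaf (.up 5 1194 0)))))) (.node (.node (.node (.node (.leaf (.up 4 289 4)) (.leaf (.up 4 741 3))) (.node (.leaf (.up 5 1542 3)) (.leaf (.up 3 739 0)))) (.node (.node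 (.leaf (.up 6 1030 1)) (.leaf (.up 2 1947 2))) (.node (.leaf (.up 6 1798 3)) (.leaf (.up 4 997 1))))) (.node (.node (.node (.leaf (.up 5 1670 1)) (.leaf (.up 5 707 0))) (.node (.leaf (.up 5 1399 3)) (.leaf (.up 4 916 3)))) (.node (.node (.leaf (.up 5 1655 3)) (.leaf (.up 5 148 3))) (.node (.leaf (.up 5 1143 3)) (.leaf (.up 5 1040 4))))))))

noncomputable def vt2_8_001 : Tr VStep := .node vt2_8_0010 vt2_8_0011

noncomputable def vt2_8_00 : Tr VStep := .node vt2_8_000 vt2_8_001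

noncomputable def vt2_8_0100 : Tr VStep :=
  .node (.node (.node (.node (.node (.node (.node (.leaf (.root 960)) (.leaf (.up 5 120 3))) (.node (.leaf (.up 4 1179 3)) (.leaf (.up 4 632 3)))) (.node (.node (.leaf (.up 2 1947 3)) (.leaf (.up 5 376 3))) (.node (.leaf (.up 4 1447 2)) (.leaf (.up 4 1345 0))))) (.node (.node (.node (.leaf (.up 4 1514 3)) (.leaf (.up 6 510 1))) (.node (.leaf (.up 5 1565 1)) (.leaf (.up 5 265 3)))) (.node (.node (.leaf (.up 6 1783 4)) (.leaf (.up 5 1889 1))) (.node (.leaf (.up 5 130 1)) (.leaf (.up 5 9 3)))))) (.node (.node (.node (.node (.leaf (.up 4 496 2)) (.leaf (.up 4 1417 4))) (.node (.leaf (.up 4 242 0)) (.leaf (.up 5 1090 3)))) (.node (.node (.leaf (.up 4 1133 0)) (.leaf (.up 4 1858 3))) (.node (.leaf (.up 6 1592 1)) (.leaf (.up 3 457 4))))) (.node (.node (.node (.leaf (.up 4 210 0)) (.leaf (.up 6 859 1))) (.node (.leaf (.up 5 722 0)) (.leaf (.up 5 776 0)))) (.node (.node (.leaf (.up 6 1976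 1)) (.leaf (.up 5 1139 2))) (.node (.leaf (.up 5 551 1)) (.leaf (.up 5 1587 3))))))) (.node (.node (.node (.node (.node (.leaf (.up 5 1630 1)) (.leaf (.up 5 1052 4))) (.node (.leaf (.up 6 877 4)) (.leaf (.up 4 1733 2)))) (.node (.node (.leaf (.up 5 130 2)) (.leaf (.up 5 1148 4))) (.node (.leaf (.up 4 1514 0)) (.leaf (.up 4 1461 2))))) (.node (.node (.node (.leaf (.up 5 853 0)) (.leaf (.up 5 1596 4))) (.node (.leaf (.up 6 341 0)) (.leaf (.up 6 540 4)))) (.node (.node (.leaf (.up 5 1632 2)) (.leaf (.up 5 1877 3))) (.node (.leaf (.up 5 838 2)) (.leaf (.up 6 1552 0)))))) (.node (.node (.node (.node (.leaf (.up 4 899 0)) (.leaf (.up 6 798 3))) (.node (.leaf (.up 3 258 4)) (.leaf (.up 4 595 4)))) (.node (.node (.leaf (.up 4 1308 0)) (.leaf (.up 4 542 3))) (.node (.leaf (.up 4 1957 2)) (.leaf (.up 5 563 4))))) (.node (.node (.node (.leaf (.up 5 1794 4)) (.leaf (.up 5 121 0))) (.node (.leaf (.up 5 567 2)) (.leaf (.up 6 623 3)))) (.node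 (.node (.leaf (.up 6 1890 4)) (.leaf (.up 6 1075 4))) (.node (.leaf (.up 3 1420 3)) (.leaf (.up 4 19 4)))))))) (.node (.node (.node (.node (.node (.node (.leaf (.up 2 1675 3)) (.leaf (.up 6 104 3))) (.node (.leaf (.up 1 0 0)) (.leaf (.up 5 616 3)))) (.node (.node (.leaf (.up 2 1183 0)) (.leaf (.up 5 734 2))) (.node (.leaf (.up 2 1419 3)) (.leaf (.up 5 2040 2))))) (.node (.node (.node (.leaf (.up 3 84 4)) (.leaf (.up 5 1868 2))) (.node (.leaf (.up 6 544 0)) (.leaf (.up 5 1018 0)))) (.node (.node (.leaf (.up 5 1274 3)) (.leaf (.up 5 1143 1))) (.node (.leaf (.up 4 916 1)) (.leaf (.up 3 282 2)))))) (.node (.node (.node (.node (.leaf (.up 3 1582 1)) (.leaf (.up 5 1618 3))) (.node (.leaf (.up 6 1688 2)) (.leaf (.up 4 812 0)))) (.node (.node (.leaf (.up 3 1641 0)) (.leaf (.up 2 1971 0))) (.node (.leaf (.up 6 1326 1)) (.leaf (.up 3 1362 3))))) (.node (.node (.node (.leaf (.up 3 1372 2)) (.leaf (.up 6 780 0))) (.node (.leaf (.up 4 1563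 4)) (.leaf (.up 6 268 0)))) (.node (.node (.leaf (.up 5 704 3)) (.leaf (.up 6 1597 2))) (.node (.leaf (.up 3 192 3)) (.leaf (.up 4 845 1))))))) (.node (.node (.node (.node (.node (.leaf (.up 6 881 0)) (.leaf (.up 4 1332 3))) (.node (.leaf (.up 4 1454 4)) (.leaf (.up 3 1163 2)))) (.node (.node (.leaf (.up 6 716 2)) (.leaf (.up 4 1076 0))) (.node (.leaf (.up 5 1608 1)) (.leaf (.up 2 1695 4))))) (.node (.node (.node (.leaf (.up 6 942 4)) (.leaf (.up 4 139 0))) (.node (.leaf (.up 4 632 2)) (.leaf (.up 6 1716 1)))) (.node (.node (.leaf (.up 5 974 4)) (.leaf (.up 6 1460 1))) (.node (.leaf (.up 6 2030 4)) (.leaf (.up 6 1044 0)))))) (.node (.node (.node (.node (.leaf (.up 4 2029 1)) (.leaf (.up 5 176 4))) (.node (.leaf (.up 2 1691 2)) (.leaf (.up 6 1168 4)))) (.node (.node (.leaf (.up 4 1816 0)) (.leaf (.up 5 782 1))) (.node (.leaf (.up 4 1953 4)) (.leaf (.up 5 1530 2))))) (.node (.node (.node (.leaf (.up 3 449 4)) (.leaf (.up 6 656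 4))) (.node (.leaf (.up 5 121 2)) (.leaf (.up 5 125 0)))) (.node (.node (.leaf (.up 6 1583 2)) (.leaf (.up 6 1809 1))) (.node (.leaf (.up 4 1409 4)) (.leaf (.up 5 1744 4))))))))

noncomputable def vt2_8_0101 : Tr VStep :=
  .node (.node (.node (.node (.node (.node (.node (.leaf (.up 6 1827 0)) (.leaf (.up 4 997 2))) (.node (.leaf (.up 4 1398 3)) (.leaf (.up 4 1292 1)))) (.node (.node (.leaf (.up 6 132 2)) (.leaf (.up 3 18 4))) (.node (.leaf (.up 6 1442 2)) (.leaf (.up 3 1459 2))))) (.node (.node (.node (.leaf (.up 6 259 4)) (.leaf (.up 5 740 3))) (.node (.leaf (.up 5 1543 3)) (.leaf (.up 5 275 1)))) (.node (.node (.leaf (.up 4 1638 2)) (.leaf (.up 5 1655 2))) (.node (.leaf (.up 5 1520 1)) (.leaf (.up 6 849 2)))))) (.node (.node (.node (.node (.leaf (.root 2432)) (.leaf (.up 5 1967 3))) (.node (.leaf (.up 2 1493 1)) (.leaf (.up 6 1455 3)))) (.node (.node (.leaf (.up 4 645 2)) (.leaf (.up 5 1711 3))) (.node (.leaf (.up 4 1292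 4)) (.leaf (.up 6 310 1))))) (.node (.node (.node (.leaf (.up 6 2037 0)) (.leaf (.up 6 1583 0))) (.node (.leaf (.up 5 1868 4)) (.leaf (.up 5 1758 3)))) (.node (.node (.leaf (.up 4 1127 2)) (.leaf (.up 5 1502 3))) (.node (.leaf (.up 5 1877 1)) (.leaf (.up 6 1321 1))))))) (.node (.node (.node (.node (.node (.leaf (.up 3 217 4)) (.leaf (.up 5 904 4))) (.node (.leaf (.up 4 42 3)) (.leaf (.up 5 1231 1)))) (.node (.node (.leaf (.up 3 1459 1)) (.leaf (.up 3 279 0))) (.node (.leaf (.up 4 1177 4)) (.leaf (.up 3 592 1))))) (.node (.node (.node (.leaf (.up 5 347 3)) (.leaf (.up 4 424 4))) (.node (.leaf (.up 4 51 2)) (.leaf (.up 6 1416 4)))) (.node (.node (.leaf (.up 5 428 1)) (.leaf (.up 6 1720 3))) (.node (.leaf (.up 4 1721 4)) (.leaf (.up 5 1208 3)))))) (.node (.node (.node (.node (.leaf (.up 3 502 2)) (.leaf (.up 4 1013 1))) (.node (.leaf (.up 5 1046 1)) (.leaf (.up 3 1918 0)))) (.node (.node (.leaf (.up 6 726 4)) (.leaf (.up 5 1011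 3))) (.node (.leaf (.up 6 1808 3)) (.leaf (.up 4 1969 2))))) (.node (.node (.node (.leaf (.up 3 1668 0)) (.leaf (.up 5 967 4))) (.node (.leaf (.up 5 1156 0)) (.leaf (.up 5 547 2)))) (.node (.node (.leaf (.up 6 246 4)) (.leaf (.up 3 449 0))) (.node (.leaf (.up 5 1238 4)) (.leaf (.up 6 339 2)))))))) (.node (.node (.node (.node (.node (.node (.leaf (.up 2 1894 3)) (.leaf (.up 5 1713 4))) (.node (.leaf (.up 6 448 4)) (.leaf (.up 4 1165 2)))) (.node (.node (.leaf (.up 2 1894 1)) (.leaf (.up 4 610 0))) (.node (.leaf (.up 6 2028 2)) (.leaf (.up 4 645 3))))) (.node (.node (.node (.leaf (.up 5 1510 1)) (.leaf (.up 5 1757 0))) (.node (.leaf (.up 5 121 1)) (.leaf (.up 5 177 4)))) (.node (.node (.leaf (.up 4 889 1)) (.leaf (.up 5 1265 4))) (.node (.leaf (.up 5 920 0)) (.leaf (.up 4 287 2)))))) (.node (.node (.node (.node (.leaf (.up 3 860 1)) (.leaf (.up 5 1983 3))) (.node (.leaf (.up 3 860 3)) (.leaf (.up 6 1676 2)))) (.node (.node (.leaf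 (.up 4 334 0)) (.leaf (.up 5 148 0))) (.node (.leaf (.up 4 975 4)) (.leaf (.up 6 1532 2))))) (.node (.node (.node (.leaf (.up 5 1859 1)) (.leaf (.up 6 1343 1))) (.node (.leaf (.up 6 732 1)) (.leaf (.up 5 734 4)))) (.node (.node (.leaf (.up 5 1487 4)) (.leaf (.up 5 1694 4))) (.node (.leaf (.up 5 301 3)) (.leaf (.up 5 702 4))))))) (.node (.node (.node (.node (.node (.leaf (.up 3 570 3)) (.leaf (.up 3 1420 0))) (.node (.leaf (.up 2 1183 2)) (.leaf (.up 4 363 4)))) (.node (.node (.leaf (.up 4 1658 4)) (.leaf (.up 5 1323 4))) (.node (.leaf (.up 4 602 4)) (.leaf (.up 5 2009 3))))) (.node (.node (.node (.leaf (.up 4 1883 2)) (.leaf (.up 4 1964 0))) (.node (.leaf (.up 3 26 4)) (.leaf (.up 5 843 4)))) (.node (.node (.leaf (.up 4 698 1)) (.leaf (.up 4 1082 2))) (.node (.leaf (.up 4 269 2)) (.leaf (.up 4 284 2)))))) (.node (.node (.node (.node (.leaf (.up 5 671 1)) (.leaf (.up 3 739 3))) (.node (.leaf (.up 5 1694 2)) (.leaf (.up 3 1404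 1)))) (.node (.node (.leaf (.up 5 1045 4)) (.leaf (.up 3 217 2))) (.node (.leaf (.up 5 1792 3)) (.leaf (.up 4 483 3))))) (.node (.node (.node (.leaf (.up 5 1664 1)) (.leaf (.up 4 1355 2))) (.node (.leaf (.up 4 799 1)) (.leaf (.up 5 914 3)))) (.node (.node (.leaf (.up 4 31 1)) (.leaf (.up 4 146 3))) (.node (.leaf (.up 4 31 0)) (.leaf (.up 5 453 0))))))))

noncomputable def vt2_8_010 : Tr VStep := .node vt2_8_0100 vt2_8_0101

noncomputable def vt2_8_0110 : Tr VStep :=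
  .node (.node (.node (.node (.node (.node (.node (.leaf (.root 1834)) (.leaf (.up 5 124 3))) (.node (.leaf (.up 2 1695 1)) (.leaf (.up 4 1006 4)))) (.node (.node (.leaf (.up 3 1951 3)) (.leaf (.up 6 1829 2))) (.node (.leaf (.up 1 0 1)) (.leaf (.up 5 515 2))))) (.node (.node (.node (.leaf (.up 5 1823 1)) (.leaf (.up 5 1379 1))) (.node (.leaf (.up 5 640 1)) (.leaf (.up 4 269 3)))) (.node (.node (.leaf (.up 4 1759 4)) (.leaf (.up 6 525 3))) (.node (.leaf (.up 6 1774 3)) (.leaf (.up 6 13 3)))))) (.node (.node (.node (.node (.leaf (.up 5 421 1)) (.leaf (.up 3 312 0))) (.node (.leaf (.up 4 867 2)) (.leaf (.up 4 1094 3)))) (.node (.node (.leaf (.up 5 421 3)) (.leaf (.up 2 1862 3))) (.node (.leaf (.up 4 19 2)) (.leaf (.up 1 2 2))))) (.node (.node (.node (.leaf (.up 5 1466 1)) (.leaf (.up 3 1335 3))) (.node (.leaf (.up 4 240 4)) (.leaf (.up 7 929 4)))) (.node (.node (.leaf (.up 4 805 1)) (.leaf (.up 6 966 2))) (.node (.leaf (.up 5 212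 3)) (.leaf (.up 4 1222 1))))))) (.node (.node (.node (.node (.node (.leaf (.up 5 707 1)) (.leaf (.up 4 1076 4))) (.node (.leaf (.up 6 1884 1)) (.leaf (.up 4 20 4)))) (.node (.node (.leaf (.up 5 707 3)) (.leaf (.up 4 1830 2))) (.node (.leaf (.up 4 805 4)) (.leaf (.up 3 512 2))))) (.node (.node (.node (.leaf (.up 6 677 2)) (.leaf (.up 6 1556 4))) (.node (.leaf (.up 5 690 3)) (.leaf (.up 4 1938 2)))) (.node (.node (.leaf (.up 6 2010 0)) (.leaf (.up 6 452 2))) (.node (.leaf (.up 5 1267 2)) (.leaf (.up 6 596 4)))))) (.node (.node (.node (.node (.leaf (.up 4 403 0)) (.leaf (.up 6 1623 2))) (.node (.leaf (.up 4 864 2)) (.leaf (.up 3 282 3)))) (.node (.node (.leaf (.up 5 1334 2)) (.leaf (.up 6 1319 2))) (.node (.leaf (.up 4 1292 0)) (.leaf (.up 1 1 2))))) (.node (.node (.node (.leaf (.up 4 1834 4)) (.leaf (.up 5 1147 4))) (.node (.leaf (.up 5 1160 3)) (.leaf (.up 6 619 3)))) (.node (.node (.leaf (.up 6 1928 3)) (.leaf (.up 4 363 3)))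 (.node (.leaf (.up 4 1913 1)) (.leaf (.up 6 875 3)))))))) (.node (.node (.node (.node (.node (.node (.leaf (.up 5 1679 3)) (.leaf (.up 4 1563 2))) (.node (.leaf (.up 4 812 2)) (.leaf (.up 6 970 0)))) (.node (.node (.leaf (.up 4 572 4)) (.leaf (.up 5 1877 0))) (.node (.leaf (.up 5 1423 3)) (.leaf (.up 7 362 1))))) (.node (.node (.node (.leaf (.up 5 124 4)) (.leaf (.up 4 249 2))) (.node (.leaf (.up 5 1116 4)) (.leaf (.up 6 1503 2)))) (.node (.node (.leaf (.up 5 920 2)) (.leaf (.up 4 234 1))) (.node (.leaf (.up 5 1084 4)) (.leaf (.up 5 1901 4)))))) (.node (.node (.node (.node (.leaf (.up 4 691 1)) (.leaf (.up 4 1622 3))) (.node (.leaf (.up 5 301 2)) (.leaf (.up 3 316 0)))) (.node (.node (.leaf (.up 5 437 3)) (.leaf (.up 4 1443 0))) (.node (.leaf (.up 5 1139 4)) (.leaf (.up 4 975 1))))) (.node (.node (.node (.leaf (.up 5 531 4)) (.leaf (.up 4 284 0))) (.node (.leaf (.up 5 710 0)) (.leaf (.up 5 1378 4)))) (.node (.node (.leaf (.up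 4 708 3)) (.leaf (.up 4 1063 3))) (.node (.leaf (.up 5 196 3)) (.leaf (.up 6 2000 1))))))) (.node (.node (.node (.node (.node (.leaf (.up 5 979 3)) (.leaf (.up 5 759 4))) (.node (.leaf (.up 6 1098 1)) (.leaf (.up 4 830 2)))) (.node (.node (.leaf (.up 5 454 4)) (.leaf (.up 4 1384 2))) (.node (.leaf (.up 4 211 3)) (.leaf (.up 5 1719 4))))) (.node (.node (.node (.leaf (.up 6 235 2)) (.leaf (.up 5 1601 3))) (.node (.leaf (.up 5 85 1)) (.leaf (.up 5 155 0)))) (.node (.node (.leaf (.up 5 923 2)) (.leaf (.up 4 183 4))) (.node (.leaf (.up 5 1990 4)) (.leaf (.up 4 1345 3)))))) (.node (.node (.node (.node (.leaf (.up 3 919 0)) (.leaf (.up 6 268 1))) (.node (.leaf (.up 4 407 0)) (.leaf (.up 5 319 2)))) (.node (.node (.leaf (.up 5 1912 2)) (.leaf (.up 3 1897 2))) (.node (.leaf (.up 5 112 1)) (.leaf (.up 5 524 1))))) (.node (.node (.node (.leaf (.up 5 489 4)) (.leaf (.up 6 1299 1))) (.node (.leaf (.up 5 951 0)) (.leaf (.up 6 1688 4)))) (.node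 (.node (.leaf (.up 2 1944 3)) (.leaf (.up 5 728 4))) (.node (.leaf (.up 6 1320 0)) (.leaf (.up 5 1197 2))))))))

noncomputable def vt2_8_0111 : Tr VStep :=
  .node (.node (.node (.node (.node (.node (.node (.leaf (.up 6 1906 3)) (.leaf (.up 4 90 4))) (.node (.leaf (.up 6 1835 4)) (.leaf (.up 4 1146 4)))) (.node (.node (.leaf (.up 6 875 4)) (.leaf (.up 4 58 4))) (.node (.leaf (.up 4 535 2)) (.leaf (.up 3 518 2))))) (.node (.node (.node (.leaf (.up 5 675 2)) (.leaf (.up 5 690 2))) (.node (.leaf (.up 5 1925 2)) (.leaf (.up 5 1940 2)))) (.node (.node (.leaf (.up 6 1283 3)) (.leaf (.up 5 86 0))) (.node (.leaf (.up 5 908 0)) (.leaf (.up 5 1252 2)))))) (.node (.node (.node (.node (.leaf (.up 4 328 3)) (.leaf (.up 6 1963 3))) (.node (.leaf (.up 4 328 1)) (.leaf (.up 6 820 1)))) (.node (.node (.leaf (.up 3 260 4)) (.leaf (.up 5 597 4))) (.node (.leaf (.up 5 858 0)) (.leaf (.up 4 7 2))))) (.node (.node (.node (.leaf (.up 6 1509 0)) (.leaf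 (.up 5 21 4))) (.node (.leaf (.up 5 1892 4)) (.leaf (.up 6 1835 1)))) (.node (.node (.leaf (.up 4 978 2)) (.leaf (.up 5 963 2))) (.node (.leaf (.up 4 968 1)) (.leaf (.up 6 2010 3))))))) (.node (.node (.node (.node (.node (.leaf (.up 2 241 4)) (.leaf (.up 6 928 4))) (.node (.leaf (.up 3 46 3)) (.leaf (.up 2 1944 0)))) (.node (.node (.leaf (.up 3 1842 2)) (.leaf (.up 5 960 4))) (.node (.leaf (.up 3 532 2)) (.leaf (.up 4 1997 3))))) (.node (.node (.node (.leaf (.up 5 1634 0)) (.leaf (.up 6 1980 3))) (.node (.leaf (.up 6 1585 1)) (.leaf (.up 4 1468 3)))) (.node (.node (.leaf (.up 6 1329 1)) (.leaf (.up 3 449 2))) (.node (.leaf (.up 5 607 3)) (.leaf (.up 5 1472 4)))))) (.node (.node (.node (.node (.leaf (.up 5 670 4)) (.leaf (.up 3 463 4))) (.node (.leaf (.up 4 139 1)) (.leaf (.up 4 247 3)))) (.node (.node (.leaf (.up 6 1300 3)) (.leaf (.up 3 1015 3))) (.node (.leaf (.up 5 1758 4)) (.leaf (.up 3 4 2))))) (.node (.node (.node (.leaf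 (.up 5 1893 3)) (.leaf (.up 5 176 2))) (.node (.leaf (.up 5 1172 1)) (.leaf (.up 5 1870 0)))) (.node (.node (.leaf (.up 5 1940 1)) (.leaf (.up 5 960 2))) (.node (.leaf (.up 3 1125 3)) (.leaf (.up 5 1967 4)))))))) (.node (.node (.node (.node (.node (.node (.leaf (.up 5 1380 1)) (.leaf (.up 2 1689 4))) (.node (.leaf (.up 3 1335 0)) (.leaf (.up 4 824 2)))) (.node (.node (.leaf (.up 4 424 0)) (.leaf (.up 4 1390 2))) (.node (.leaf (.up 5 89 2)) (.leaf (.up 3 626 0))))) (.node (.node (.node (.leaf (.up 6 1043 3)) (.leaf (.up 6 775 1))) (.node (.leaf (.up 4 968 4)) (.leaf (.up 4 240 3)))) (.node (.node (.leaf (.up 5 904 0)) (.leaf (.up 5 1241 4))) (.node (.leaf (.up 5 1811 3)) (.leaf (.up 4 7 1)))))) (.node (.node (.node (.node (.leaf (.up 5 1959 4)) (.leaf (.up 6 1979 3))) (.node (.leaf (.up 6 296 2)) (.leaf (.up 4 1563 0)))) (.node (.node (.leaf (.up 3 1918 2)) (.leaf (.up 5 644 0))) (.node (.leaf (.up 3 999 4)) (.leaf (.up 5 585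 2))))) (.node (.node (.node (.leaf (.up 6 553 3)) (.leaf (.up 5 765 2))) (.node (.leaf (.up 4 41 3)) (.leaf (.up 4 1085 1)))) (.node (.node (.leaf (.up 4 1345 1)) (.leaf (.up 4 164 0))) (.node (.leaf (.up 5 1210 2)) (.leaf (.up 6 1195 2))))))) (.node (.node (.node (.node (.node (.leaf (.up 3 574 3)) (.leaf (.up 5 1565 2))) (.node (.leaf (.up 2 530 4)) (.leaf (.up 5 1757 3)))) (.node (.node (.leaf (.up 3 1404 2)) (.leaf (.up 6 1501 3))) (.node (.leaf (.up 3 626 4)) (.leaf (.up 6 291 4))))) (.node (.node (.node (.leaf (.up 5 184 1)) (.leaf (.up 4 708 1))) (.node (.leaf (.up 4 847 3)) (.leaf (.up 4 867 4)))) (.node (.node (.leaf (.up 6 926 2)) (.leaf (.up 6 1708 3))) (.node (.leaf (.up 4 82 4)) (.leaf (.up 6 452 1)))))) (.node (.node (.node (.node (.leaf (.up 5 1538 1)) (.leaf (.up 5 1052 2))) (.node (.leaf (.up 5 125 4)) (.leaf (.up 4 812 4)))) (.node (.node (.leaf (.up 4 1085 4)) (.leaf (.up 3 999 3))) (.node (.leaf (.up 6 603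 2)) (.leaf (.up 2 501 0))))) (.node (.node (.node (.leaf (.up 5 1661 4)) (.leaf (.up 6 406 3))) (.node (.leaf (.up 5 1993 2)) (.leaf (.up 6 268 4)))) (.node (.node (.leaf (.up 5 1565 4)) (.leaf (.up 6 150 3))) (.node (.leaf (.up 5 527 0)) (.leaf (.up 6 662 3))))))))

noncomputable def vt2_8_011 : Tr VStep := .node vt2_8_0110 vt2_8_0111

noncomputable def vt2_8_01 : Tr VStep := .node vt2_8_010 vt2_8_011

noncomputable def vt2_8_0 : Tr VStep := .node vt2_8_00 vt2_8_01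

noncomputable def vt2_8_1000 : Tr VStep :=
  .node (.node (.node (.node (.node (.node (.node (.leaf (.root 1370)) (.leaf (.up 5 822 2))) (.node (.leaf (.up 5 340 4)) (.leaf (.up 6 1552 2)))) (.node (.node (.leaf (.up 4 263 1)) (.leaf (.up 6 136 0))) (.node (.leaf (.up 6 1393 2)) (.leaf (.up 5 908 3))))) (.node (.node (.node (.leaf (.up 4 1876 4)) (.leaf (.up 6 1492 2))) (.node (.leaf (.up 4 1822 3)) (.leaf (.up 4 242 2)))) (.node (.node (.leaf (.up 3 1054 3)) (.leaf (.up 3 1125 4))) (.node (.leaf (.up 4 788 4)) (.leaf (.up 6 168 0)))))) (.node (.node (.node (.node (.leaf (.up 5 85 3)) (.leaf (.up 6 1857 1))) (.node (.leaf (.up 5 597 3)) (.leaf (.up 4 106 4)))) (.node (.node (.leaf (.up 6 932 0)) (.leaf (.up 3 583 2))) (.node (.leaf (.up 5 853 3)) (.leaf (.up 5 1462 3))))) (.node (.node (.node (.leaf (.up 6 804 3)) (.leaf (.up 3 2005 2))) (.node (.leaf (.up 5 283 4)) (.leaf (.up 3 586 4)))) (.node (.node (.leaf (.up 2 1371 4))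 (.leaf (.up 5 1189 2))) (.node (.leaf (.up 6 402 2)) (.leaf (.up 5 554 4))))))) (.node (.node (.node (.node (.node (.leaf (.up 5 819 3)) (.leaf (.up 2 1894 0))) (.node (.leaf (.up 5 1538 2)) (.leaf (.up 6 511 4)))) (.node (.node (.leaf (.up 3 84 2)) (.leaf (.up 4 505 0))) (.node (.leaf (.up 2 1371 1)) (.leaf (.up 5 1744 3))))) (.node (.node (.node (.leaf (.up 5 66 3)) (.leaf (.up 3 1697 3))) (.node (.leaf (.up 5 578 3)) (.leaf (.up 2 1862 0)))) (.node (.node (.leaf (.up 5 1243 1)) (.leaf (.up 3 1951 4))) (.node (.leaf (.up 6 238 4)) (.leaf (.up 3 959 4)))))) (.node (.node (.node (.node (.leaf (.up 6 293 2)) (.leaf (.up 6 1666 1))) (.node (.leaf (.up 6 353 1)) (.leaf (.up 6 797 1)))) (.node (.node (.leaf (.up 5 597 2)) (.leaf (.up 5 580 2))) (.node (.leaf (.up 6 161 4)) (.leaf (.up 4 234 3))))) (.node (.node (.node (.leaf (.up 4 1729 4)) (.leaf (.up 5 155 3))) (.node (.leaf (.up 4 1406 1)) (.leaf (.up 4 432 4)))) (.node (.node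 (.leaf (.up 3 1697 4)) (.leaf (.up 5 411 3))) (.node (.leaf (.up 4 1400 3)) (.leaf (.up 5 923 3)))))))) (.node (.node (.node (.node (.node (.node (.leaf (.up 4 361 2)) (.leaf (.up 4 156 3))) (.node (.leaf (.up 5 1151 3)) (.leaf (.up 4 1222 4)))) (.node (.node (.leaf (.up 6 854 0)) (.leaf (.up 6 134 4))) (.node (.leaf (.up 4 2039 4)) (.leaf (.up 5 1838 2))))) (.node (.node (.node (.leaf (.up 4 1931 2)) (.leaf (.up 5 710 4))) (.node (.leaf (.up 4 1513 0)) (.leaf (.up 5 700 2)))) (.node (.node (.leaf (.up 5 503 4)) (.leaf (.up 6 749 3))) (.node (.leaf (.up 5 477 2)) (.leaf (.up 5 460 2)))))) (.node (.node (.node (.node (.leaf (.up 5 1855 0)) (.leaf (.up 4 889 2))) (.node (.leaf (.up 5 948 1)) (.leaf (.up 6 456 1)))) (.node (.node (.leaf (.up 5 24 2)) (.leaf (.up 5 9 2))) (.node (.leaf (.up 5 1323 1)) (.leaf (.up 6 634 0))))) (.node (.node (.node (.leaf (.up 4 1016 4)) (.leaf (.up 4 72 1))) (.node (.leaf (.up 5 1823 0)) (.leaf (.up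 4 1733 0)))) (.node (.node (.leaf (.up 5 920 4)) (.leaf (.up 4 1239 3))) (.node (.leaf (.up 6 1976 4)) (.leaf (.up 4 90 0))))))) (.node (.node (.node (.node (.node (.leaf (.up 5 1208 0)) (.leaf (.up 5 1472 3))) (.node (.leaf (.up 4 210 1)) (.leaf (.up 5 1117 2)))) (.node (.node (.leaf (.up 4 978 1)) (.leaf (.up 5 523 2))) (.node (.leaf (.up 6 35 3)) (.leaf (.up 6 1884 4))))) (.node (.node (.node (.leaf (.up 4 82 3)) (.leaf (.up 3 1945 2))) (.node (.leaf (.up 6 1613 4)) (.leaf (.up 4 1201 3)))) (.node (.node (.leaf (.up 4 1997 1)) (.leaf (.up 4 1969 3))) (.node (.leaf (.up 5 478 2)) (.leaf (.up 3 1404 4)))))) (.node (.node (.node (.node (.leaf (.up 6 875 2)) (.leaf (.up 5 1018 3))) (.node (.leaf (.up 5 631 1)) (.leaf (.up 5 506 3)))) (.node (.node (.leaf (.up 5 209 0)) (.leaf (.up 5 762 3))) (.node (.leaf (.up 5 1634 4)) (.leaf (.up 5 1684 1))))) (.node (.node (.node (.leaf (.up 1 2 4)) (.leaf (.up 4 139 3))) (.node (.leaf (.up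 3 1640 1)) (.leaf (.up 6 651 3)))) (.node (.node (.leaf (.up 3 1896 3)) (.leaf (.up 5 819 4))) (.node (.leaf (.up 2 241 0)) (.leaf (.up 5 1811 4))))))))

noncomputable def vt2_8_1001 : Tr VStep :=
  .node (.node (.node (.node (.node (.node (.node (.leaf (.up 4 234 0)) (.leaf (.up 5 433 4))) (.node (.leaf (.up 6 1909 1)) (.leaf (.up 6 1289 1)))) (.node (.node (.leaf (.up 4 82 2)) (.leaf (.up 5 1967 0))) (.node (.leaf (.up 6 1396 2)) (.leaf (.up 5 1381 2))))) (.node (.node (.node (.leaf (.up 3 192 4)) (.leaf (.up 5 528 3))) (.node (.leaf (.up 5 230 2)) (.leaf (.up 4 1969 4)))) (.node (.node (.leaf (.up 4 106 1)) (.leaf (.up 3 1697 2))) (.node (.leaf (.up 6 1525 1)) (.leaf (.up 4 272 3)))))) (.node (.node (.node (.node (.leaf (.up 6 540 0)) (.leaf (.up 4 1883 3))) (.node (.leaf (.up 4 1488 1)) (.leaf (.up 2 1371 3)))) (.node (.node (.leaf (.up 4 595 2)) (.leaf (.up 5 958 4))) (.node (.leaf (.up 4 847 1)) (.leaf (.up 5 1950 4)))))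 (.node (.node (.node (.leaf (.up 4 713 3)) (.leaf (.up 6 510 4))) (.node (.leaf (.up 3 463 1)) (.leaf (.up 5 1502 4)))) (.node (.node (.leaf (.up 2 1699 0)) (.leaf (.up 4 1322 3))) (.node (.leaf (.up 3 457 3)) (.leaf (.up 4 1834 3))))))) (.node (.node (.node (.node (.node (.leaf (.up 3 282 4)) (.leaf (.up 4 1085 3))) (.node (.leaf (.up 5 1543 2)) (.leaf (.up 5 1643 4)))) (.node (.node (.leaf (.up 5 1462 1)) (.leaf (.up 5 64 2))) (.node (.leaf (.up 4 41 1)) (.leaf (.up 5 1547 4))))) (.node (.node (.node (.leaf (.up 5 431 3)) (.leaf (.up 5 1868 3))) (.node (.leaf (.up 5 229 2)) (.leaf (.up 6 1356 3)))) (.node (.node (.leaf (.up 5 858 4)) (.leaf (.up 6 1612 3))) (.node (.leaf (.up 4 917 2)) (.leaf (.up 6 1100 3)))))) (.node (.node (.node (.node (.leaf (.up 5 1252 3)) (.leaf (.up 5 305 2))) (.node (.leaf (.up 5 1877 4)) (.leaf (.up 2 1647 1)))) (.node (.node (.leaf (.up 3 592 2)) (.leaf (.up 6 775 3))) (.node (.leaf (.up 6 2034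 0)) (.leaf (.up 2 1576 0))))) (.node (.node (.node (.leaf (.up 6 341 4)) (.leaf (.up 6 151 0))) (.node (.leaf (.up 4 845 0)) (.leaf (.up 5 1572 4)))) (.node (.node (.leaf (.up 4 309 4)) (.leaf (.up 3 1187 2))) (.node (.leaf (.up 5 1301 4)) (.leaf (.up 4 1032 0)))))))) (.node (.node (.node (.node (.node (.node (.leaf (.up 4 1938 3)) (.leaf (.up 6 369 3))) (.node (.leaf (.up 6 1426 3)) (.leaf (.up 6 1567 1)))) (.node (.node (.leaf (.up 6 540 2)) (.leaf (.up 6 525 2))) (.node (.leaf (.up 6 1170 3)) (.leaf (.up 6 1963 0))))) (.node (.node (.node (.leaf (.up 5 1539 4)) (.leaf (.up 3 1951 1))) (.node (.leaf (.up 5 124 1)) (.leaf (.up 1 0 3)))) (.node (.node (.leaf (.up 6 1507 3)) (.leaf (.up 2 768 3))) (.node (.leaf (.up 5 1105 0)) (.leaf (.up 2 1419 0)))))) (.node (.node (.node (.node (.leaf (.up 4 424 3)) (.leaf (.up 6 1867 3))) (.node (.leaf (.up 6 620 4)) (.leaf (.up 4 1355 3)))) (.node (.node (.leaf (.up 6 168 3)) (.leaf (.up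 5 1978 1))) (.node (.leaf (.up 5 89 1)) (.leaf (.up 4 1322 2))))) (.node (.node (.node (.leaf (.up 2 1862 1)) (.leaf (.up 4 1082 3))) (.node (.leaf (.up 3 217 3)) (.leaf (.up 5 1594 3)))) (.node (.node (.leaf (.up 4 985 3)) (.leaf (.up 6 933 1))) (.node (.leaf (.up 3 1703 0)) (.leaf (.up 4 968 2))))))) (.node (.node (.node (.node (.node (.leaf (.up 5 927 0)) (.leaf (.up 5 382 2))) (.node (.leaf (.up 5 1097 2)) (.leaf (.up 5 1112 2)))) (.node (.node (.leaf (.up 4 1977 4)) (.leaf (.up 6 1244 1))) (.node (.leaf (.up 5 1849 2)) (.leaf (.up 4 1832 2))))) (.node (.node (.node (.leaf (.up 4 1933 2)) (.leaf (.up 6 1884 3))) (.node (.leaf (.up 3 959 0)) (.leaf (.up 3 1372 3)))) (.node (.node (.leaf (.up 3 1433 4)) (.leaf (.up 6 1260 2))) (.node (.leaf (.up 4 441 4)) (.leaf (.up 3 1372 1)))))) (.node (.node (.node (.node (.leaf (.up 4 361 0)) (.leaf (.up 4 535 3))) (.node (.leaf (.up 5 1780 3)) (.leaf (.up 4 23 3)))) (.node (.node (.leaf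 (.up 5 1494 4)) (.leaf (.up 5 1657 1))) (.node (.leaf (.up 3 502 4)) (.leaf (.up 3 279 3))))) (.node (.node (.node (.leaf (.up 3 1420 2)) (.leaf (.up 5 659 0))) (.node (.leaf (.up 5 329 0)) (.leaf (.up 5 870 3)))) (.node (.node (.leaf (.up 3 26 1)) (.leaf (.up 4 1191 4))) (.node (.leaf (.up 6 982 4)) (.leaf (.up 4 135 4))))))))

noncomputable def vt2_8_100 : Tr VStep := .node vt2_8_1000 vt2_8_1001

noncomputable def vt2_8_1010 : Tr VStep :=
  .node (.node (.node (.node (.node (.node (.node (.leaf (.up 3 1372 4)) (.leaf (.up 6 136 3))) (.node (.leaf (.up 6 1131 3)) (.leaf (.up 5 421 2)))) (.node (.node (.leaf (.up 5 2018 2)) (.leaf (.up 6 664 0))) (.node (.leaf (.up 4 5 1)) (.leaf (.up 5 904 3))))) (.node (.node (.node (.leaf (.up 5 1916 4)) (.leaf (.up 7 1575 0))) (.node (.leaf (.up 3 860 4)) (.leaf (.up 4 1063 0)))) (.node (.node (.leaf (.up 4 256 2)) (.leaf (.up 5 184 0))) (.node (.leaf (.up 4 828 4)) (.leaf (.up 4 1638 1))))))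 (.node (.node (.node (.node (.leaf (.up 6 81 3)) (.leaf (.up 6 1666 2))) (.node (.leaf (.up 5 1323 0)) (.leaf (.up 5 1202 3)))) (.node (.node (.leaf (.up 5 1855 1)) (.leaf (.up 5 1347 1))) (.node (.leaf (.up 5 883 4)) (.leaf (.up 5 212 2))))) (.node (.node (.node (.leaf (.up 6 1299 4)) (.leaf (.up 4 96 2))) (.node (.leaf (.up 5 1367 2)) (.leaf (.up 3 1350 2)))) (.node (.node (.leaf (.up 4 916 0)) (.leaf (.up 5 784 2))) (.node (.leaf (.up 6 339 4)) (.leaf (.up 5 514 4))))))) (.node (.node (.node (.node (.node (.leaf (.up 5 710 1)) (.leaf (.up 4 1398 0))) (.node (.leaf (.up 5 1881 1)) (.leaf (.up 6 1910 0)))) (.node (.node (.leaf (.up 5 567 3)) (.leaf (.up 6 1001 0))) (.node (.leaf (.up 3 55 3)) (.leaf (.up 5 489 0))))) (.node (.node (.node (.leaf (.up 6 1676 0)) (.leaf (.up 4 610 2))) (.node (.leaf (.up 5 838 1)) (.leaf (.up 3 1015 4)))) (.node (.node (.leaf (.up 4 19 0)) (.leaf (.up 3 457 0))) (.node (.leaf (.up 5 1061 2)) (.leaf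 (.up 3 919 4)))))) (.node (.node (.node (.node (.leaf (.up 5 1293 3)) (.leaf (.up 2 1944 4))) (.node (.leaf (.up 6 1532 1)) (.leaf (.up 6 1920 1)))) (.node (.node (.leaf (.up 5 1504 2)) (.leaf (.up 4 287 0))) (.node (.leaf (.up 4 867 1)) (.leaf (.up 4 799 0))))) (.node (.node (.node (.leaf (.up 4 1660 3)) (.leaf (.up 6 1440 0))) (.node (.leaf (.up 3 1364 2)) (.leaf (.up 5 927 1)))) (.node (.node (.leaf (.up 3 739 1)) (.leaf (.up 5 831 0))) (.node (.leaf (.up 3 1404 3)) (.leaf (.up 5 927 3)))))))) (.node (.node (.node (.node (.node (.node (.leaf (.up 4 19 1)) (.leaf (.up 4 1741 2))) (.node (.leaf (.up 3 1420 1)) (.leaf (.up 6 1003 2)))) (.node (.node (.leaf (.up 6 1676 1)) (.leaf (.up 4 156 0))) (.node (.leaf (.up 5 838 0)) (.leaf (.up 5 920 3))))) (.node (.node (.node (.leaf (.up 4 62 2)) (.leaf (.up 6 1648 1))) (.node (.leaf (.up 3 1439 4)) (.leaf (.up 5 489 3)))) (.node (.node (.leaf (.up 5 1034 3)) (.leaf (.up 5 745 3)))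 (.node (.leaf (.up 3 1640 2)) (.leaf (.up 5 1657 2)))))) (.node (.node (.node (.node (.leaf (.up 4 496 4)) (.leaf (.up 6 1269 0))) (.node (.leaf (.up 4 1488 4)) (.leaf (.up 5 1781 0)))) (.node (.node (.leaf (.up 5 1065 1)) (.leaf (.up 6 705 4))) (.node (.leaf (.up 4 432 0)) (.leaf (.up 4 106 0))))) (.node (.node (.node (.leaf (.up 6 1807 0)) (.leaf (.up 4 558 2))) (.node (.leaf (.up 5 822 1)) (.leaf (.up 4 1185 4)))) (.node (.node (.leaf (.up 5 560 3)) (.leaf (.up 1 74 0))) (.node (.leaf (.up 6 1129 2)) (.leaf (.up 2 1747 3))))))) (.node (.node (.node (.node (.node (.leaf (.up 4 1759 2)) (.leaf (.up 6 820 4))) (.node (.leaf (.up 6 295 3)) (.leaf (.up 5 1587 1)))) (.node (.node (.leaf (.up 3 55 0)) (.leaf (.up 5 852 4))) (.node (.leaf (.up 4 137 2)) (.leaf (.up 6 1732 3))))) (.node (.node (.node (.leaf (.up 5 1487 1)) (.leaf (.up 2 1971 1))) (.node (.leaf (.up 6 1307 2)) (.leaf (.up 3 1205 3)))) (.node (.node (.leaf (.up 4 845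 2)) (.leaf (.up 3 860 2))) (.node (.leaf (.up 4 23 0)) (.leaf (.up 3 1364 4)))))) (.node (.node (.node (.node (.leaf (.up 5 522 4)) (.leaf (.up 5 1231 2))) (.node (.leaf (.up 5 1630 0)) (.leaf (.up 5 489 2)))) (.node (.node (.leaf (.up 4 1514 1)) (.leaf (.up 5 795 0))) (.node (.leaf (.up 5 1565 3)) (.leaf (.up 5 283 0))))) (.node (.node (.node (.leaf (.up 4 572 2)) (.leaf (.up 5 1956 0))) (.node (.leaf (.up 5 1034 4)) (.leaf (.up 4 1883 4)))) (.node (.node (.leaf (.up 1 74 4)) (.leaf (.up 5 795 4))) (.node (.leaf (.up 3 1388 3)) (.leaf (.up 5 1147 2))))))))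

noncomputable def vt2_8_1011 : Tr VStep :=
  .node (.node (.node (.node (.node (.node (.node (.leaf (.up 5 1655 1)) (.leaf (.up 6 357 3))) (.node (.leaf (.up 5 433 2)) (.leaf (.up 5 869 3)))) (.node (.node (.leaf (.up 3 1125 0)) (.leaf (.up 4 505 4))) (.node (.leaf (.up 5 1399 1)) (.leaf (.up 5 1983 0))))) (.node (.node (.node (.leaf (.up 5 232 4)) (.leaf (.up 3 532 3))) (.node (.leaf (.up 4 2039 1)) (.leaf (.up 2 1419 1)))) (.node (.node (.leaf (.up 6 136 4)) (.leaf (.up 2 1675 1))) (.node (.leaf (.up 4 2039 3)) (.leaf (.up 3 276 3)))))) (.node (.node (.node (.node (.leaf (.up 6 12 0)) (.leaf (.up 5 1887 3))) (.node (.leaf (.up 5 524 0)) (.leaf (.up 5 1375 3)))) (.node (.node (.leaf (.up 5 1510 2)) (.leaf (.up 6 1865 0))) (.node (.leaf (.up 3 192 2)) (.leaf (.up 4 1454 1))))) (.node (.node (.node (.leaf (.up 4 717 3)) (.leaf (.up 5 470 4))) (.node (.leaf (.up 3 1703 4)) (.leaf (.up 3 1582 3)))) (.node (.node (.leaf (.up 5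 1203 0)) (.leaf (.up 6 789 2))) (.node (.leaf (.up 5 1715 0)) (.leaf (.up 3 1897 0))))))) (.node (.node (.node (.node (.node (.leaf (.up 5 1172 2)) (.leaf (.up 6 611 4))) (.node (.leaf (.up 6 218 3)) (.leaf (.up 6 419 2)))) (.node (.node (.leaf (.up 4 338 4)) (.leaf (.up 5 515 4))) (.node (.leaf (.up 6 706 2)) (.leaf (.up 5 1849 3))))) (.node (.node (.node (.leaf (.up 3 786 4)) (.leaf (.up 4 1864 3))) (.node (.leaf (.up 3 1842 4)) (.leaf (.up 6 1857 2)))) (.node (.node (.leaf (.up 4 262 2)) (.leaf (.up 3 279 2))) (.node (.leaf (.up 4 1332 0)) (.leaf (.up 6 1073 2)))))) (.node (.node (.node (.node (.leaf (.up 5 1248 3)) (.leaf (.up 3 1668 2))) (.node (.leaf (.up 6 142 1)) (.leaf (.up 6 1068 4)))) (.node (.node (.leaf (.up 5 2018 0)) (.leaf (.up 6 1524 2))) (.node (.leaf (.up 5 1553 1)) (.leaf (.up 4 1080 0))))) (.node (.node (.node (.leaf (.up 5 861 0)) (.leaf (.up 5 102 2))) (.node (.leaf (.up 5 1373 4)) (.leaf (.up 4 135 0))))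 (.node (.node (.leaf (.up 6 1474 0)) (.leaf (.up 5 588 4))) (.node (.leaf (.up 6 1169 3)) (.leaf (.up 3 626 3)))))))) (.node (.node (.node (.node (.node (.node (.leaf (.up 6 1942 3)) (.leaf (.up 5 373 3))) (.node (.leaf (.up 5 1430 3)) (.leaf (.up 4 1006 2)))) (.node (.node (.leaf (.up 6 1131 4)) (.leaf (.up 6 117 3))) (.node (.leaf (.up 5 1174 3)) (.leaf (.up 6 629 3))))) (.node (.node (.node (.leaf (.up 5 382 1)) (.leaf (.up 4 1402 4))) (.node (.leaf (.up 5 523 4)) (.leaf (.up 3 4 3)))) (.node (.node (.leaf (.up 5 843 2)) (.leaf (.up 5 1306 4))) (.node (.leaf (.up 5 1601 0)) (.leaf (.up 1 2 1)))))) (.node (.node (.node (.node (.leaf (.up 5 428 3)) (.leaf (.up 4 1871 3))) (.node (.leaf (.up 5 580 4)) (.leaf (.up 6 1359 3)))) (.node (.node (.leaf (.up 5 1175 0)) (.leaf (.up 4 1977 2))) (.node (.leaf (.up 4 548 4)) (.leaf (.up 5 373 4))))) (.node (.node (.node (.leaf (.up 3 40 0)) (.leaf (.up 6 423 1))) (.node (.leaf (.up 4 221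 3)) (.leaf (.up 4 1080 1)))) (.node (.node (.leaf (.up 4 989 3)) (.leaf (.up 5 1901 0))) (.node (.leaf (.up 3 4 4)) (.leaf (.up 5 853 4))))))) (.node (.node (.node (.node (.node (.leaf (.up 6 714 3)) (.leaf (.up 3 1739 2))) (.node (.leaf (.up 6 911 0)) (.leaf (.up 5 597 0)))) (.node (.node (.leaf (.up 6 1937 4)) (.leaf (.up 6 1321 3))) (.node (.leaf (.up 5 458 3)) (.leaf (.up 5 1502 1))))) (.node (.node (.node (.leaf (.up 4 56 2)) (.leaf (.up 4 41 2))) (.node (.leaf (.up 4 497 4)) (.leaf (.up 6 117 0)))) (.node (.node (.leaf (.up 5 1457 4)) (.leaf (.up 6 857 2))) (.node (.leaf (.up 5 1646 2)) (.leaf (.up 3 449 1)))))) (.node (.node (.node (.node (.leaf (.up 4 889 0)) (.leaf (.up 5 531 3))) (.node (.leaf (.up 5 920 1)) (.leaf (.up 4 19 3)))) (.node (.node (.leaf (.up 5 1520 3)) (.leaf (.up 5 1084 0))) (.node (.leaf (.up 5 478 4)) (.leaf (.up 5 275 3))))) (.node (.node (.node (.leaf (.up 6 536 1)) (.leaf (.up 4 552 2))) (.node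 (.leaf (.up 4 1409 3)) (.leaf (.up 4 1806 2)))) (.node (.node (.leaf (.up 5 1990 0)) (.leaf (.up 5 1564 0))) (.node (.leaf (.up 6 1022 4)) (.leaf (.up 4 610 3))))))))

noncomputable def vt2_8_101 : Tr VStep := .node vt2_8_1010 vt2_8_1011

noncomputable def vt2_8_10 : Tr VStep := .node vt2_8_100 vt2_8_101

noncomputable def vt2_8_1100 : Tr VStep :=
  .node (.node (.node (.node (.node (.node (.node (.leaf (.up 5 580 0)) (.leaf (.up 6 857 4))) (.node (.leaf (.up 4 1133 3)) (.leaf (.up 4 1913 4)))) (.node (.node (.leaf (.up 5 1901 3)) (.leaf (.up 5 177 2))) (.node (.leaf (.up 6 1096 4)) (.leaf (.up 6 910 3))))) (.node (.node (.node (.leaf (.up 4 552 4)) (.leaf (.up 6 377 4))) (.node (.leaf (.up 4 20 2)) (.leaf (.up 4 5 2)))) (.node (.node (.leaf (.up 5 1052 3)) (.leaf (.up 6 767 3))) (.node (.leaf (.up 3 1640 4)) (.leaf (.up 5 1632 1)))))) (.node (.node (.node (.node (.leaf (.up 6 465 2)) (.leaf (.up 6 1716 3))) (.node (.leaf (.up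 5 690 0)) (.leaf (.up 6 1605 1)))) (.node (.node (.leaf (.up 5 1849 1)) (.leaf (.up 4 2039 0))) (.node (.leaf (.up 6 1927 2)) (.leaf (.up 4 1398 4))))) (.node (.node (.node (.leaf (.up 5 806 3)) (.leaf (.up 5 840 0))) (.node (.leaf (.up 4 146 0)) (.leaf (.up 4 328 0)))) (.node (.node (.leaf (.up 5 806 1)) (.leaf (.up 5 1221 3))) (.node (.leaf (.up 4 1721 1)) (.leaf (.up 4 1733 3))))))) (.node (.node (.node (.node (.node (.leaf (.up 5 1010 4)) (.leaf (.up 5 163 4))) (.node (.leaf (.up 4 309 0)) (.leaf (.up 5 2002 3)))) (.node (.node (.leaf (.up 5 561 3)) (.leaf (.up 6 195 4))) (.node (.leaf (.up 6 448 1)) (.leaf (.up 5 1428 2))))) (.node (.node (.node (.leaf (.up 4 1759 1)) (.leaf (.up 2 1699 3))) (.node (.leaf (.up 4 576 3)) (.leaf (.up 1 6 2)))) (.node (.node (.leaf (.up 5 64 1)) (.leaf (.up 3 739 4))) (.node (.leaf (.up 6 1503 1)) (.leaf (.up 4 1443 3)))))) (.node (.node (.node (.node (.leaf (.up 6 451 0)) (.leaf (.up 5 1000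 3))) (.node (.leaf (.up 5 1530 1)) (.leaf (.up 5 488 3)))) (.node (.node (.leaf (.up 6 1884 0)) (.leaf (.up 4 691 2))) (.node (.leaf (.up 3 1372 0)) (.leaf (.up 5 232 3))))) (.node (.node (.node (.leaf (.up 4 1658 3)) (.leaf (.up 5 1542 1))) (.node (.leaf (.up 2 1949 4)) (.leaf (.up 6 665 3)))) (.node (.node (.leaf (.up 3 1404 0)) (.leaf (.up 5 1105 2))) (.node (.leaf (.up 4 1402 3)) (.leaf (.up 5 1702 0)))))))) (.node (.node (.node (.node (.node (.node (.leaf (.up 3 1739 4)) (.leaf (.up 5 410 0))) (.node (.leaf (.up 4 576 0)) (.leaf (.up 5 442 4)))) (.node (.node (.leaf (.up 4 1759 0)) (.leaf (.up 5 1530 4))) (.node (.leaf (.up 6 1992 2)) (.leaf (.up 4 361 1))))) (.node (.node (.node (.leaf (.up 4 1292 3)) (.leaf (.up 5 1901 2))) (.node (.leaf (.up 4 96 0)) (.leaf (.up 5 442 0)))) (.node (.node (.leaf (.up 3 1163 4)) (.leaf (.up 6 2010 4))) (.node (.leaf (.up 4 298 2)) (.leaf (.up 4 1398 1)))))) (.node (.node (.node (.node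 (.leaf (.up 5 927 2)) (.leaf (.up 5 1700 3))) (.node (.leaf (.up 3 583 3)) (.leaf (.up 6 1363 1)))) (.node (.node (.leaf (.up 5 327 3)) (.leaf (.up 5 1956 3))) (.node (.leaf (.up 4 432 1)) (.leaf (.up 5 1496 2))))) (.node (.node (.node (.leaf (.up 3 1668 4)) (.leaf (.up 2 1493 3))) (.node (.leaf (.up 6 310 3)) (.leaf (.up 1 74 2)))) (.node (.node (.leaf (.up 6 1549 2)) (.leaf (.up 4 1461 4))) (.node (.leaf (.up 4 708 4)) (.leaf (.up 5 1749 3))))))) (.node (.node (.node (.node (.node (.leaf (.up 3 801 3)) (.leaf (.up 5 938 1))) (.node (.leaf (.up 4 289 3)) (.leaf (.up 4 576 4)))) (.node (.node (.leaf (.up 6 1865 1)) (.leaf (.up 6 1333 1))) (.node (.leaf (.up 4 1454 0)) (.leaf (.up 6 2010 2))))) (.node (.node (.node (.leaf (.up 5 785 0)) (.leaf (.up 4 1902 2))) (.node (.leaf (.up 3 592 3)) (.leaf (.up 4 96 4)))) (.node (.node (.leaf (.up 6 854 1)) (.leaf (.up 2 1971 3))) (.node (.leaf (.up 6 1934 0)) (.leaf (.up 1 0 4)))))) (.node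 (.node (.node (.node (.leaf (.up 5 883 1)) (.leaf (.up 4 1016 3))) (.node (.leaf (.up 5 1772 1)) (.leaf (.up 6 1168 1)))) (.node (.node (.leaf (.up 6 1051 3)) (.leaf (.up 5 760 3))) (.node (.leaf (.up 4 1563 3)) (.leaf (.up 5 248 3))))) (.node (.node (.node (.leaf (.up 3 1900 1)) (.leaf (.up 4 137 3))) (.node (.leaf (.up 3 999 0)) (.leaf (.up 5 527 4)))) (.node (.node (.leaf (.up 5 1898 3)) (.leaf (.up 5 393 3))) (.node (.leaf (.up 4 318 4)) (.leaf (.up 6 825 2))))))))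

noncomputable def vt2_8_1101 : Tr VStep :=
  .node (.node (.node (.node (.node (.node (.node (.leaf (.up 5 1379 0)) (.leaf (.up 6 964 2))) (.node (.leaf (.up 4 1006 1)) (.leaf (.up 4 867 3)))) (.node (.node (.leaf (.up 5 1664 3)) (.leaf (.up 5 1197 4))) (.node (.leaf (.up 6 1152 3)) (.leaf (.up 6 38 0))))) (.node (.node (.node (.leaf (.up 3 1335 2)) (.leaf (.up 2 530 3))) (.node (.leaf (.up 5 17 2)) (.leaf (.up 1 0 2)))) (.node (.node (.leaf (.up 5 1265 1)) (.leaf (.up 1 6 0))) (.node (.leaf (.up 6 508 4)) (.leaf (.up 3 786 1)))))) (.node (.node (.node (.node (.leaf (.up 5 442 3)) (.leaf (.up 5 1881 3))) (.node (.leaf (.up 5 954 3)) (.leaf (.up 6 642 4)))) (.node (.node (.leaf (.up 5 186 3)) (.leaf (.up 3 55 1))) (.node (.leaf (.up 4 698 3)) (.leaf (.up 5 1939 2))))) (.node (.node (.node (.leaf (.up 4 715 3)) (.leaf (.up 6 1064 3))) (.node (.leaf (.up 3 1364 1)) (.leaf (.up 2 1576 3)))) (.node (.node (.leaf (.up 2 1971 4))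 (.leaf (.up 6 1111 2))) (.node (.leaf (.up 3 459 3)) (.leaf (.up 4 240 0))))))) (.node (.node (.node (.node (.node (.leaf (.up 6 982 2)) (.leaf (.up 5 967 2))) (.node (.leaf (.up 6 70 4)) (.leaf (.up 5 1761 2)))) (.node (.node (.leaf (.up 5 301 1)) (.leaf (.up 4 183 2))) (.node (.leaf (.up 5 1202 1)) (.leaf (.up 5 1855 3))))) (.node (.node (.node (.leaf (.up 4 1586 0)) (.leaf (.up 5 1870 3))) (.node (.leaf (.up 3 18 2)) (.leaf (.up 6 1358 3)))) (.node (.node (.leaf (.up 4 173 0)) (.leaf (.up 5 1870 1))) (.node (.leaf (.up 3 518 4)) (.leaf (.up 5 883 2)))))) (.node (.node (.node (.node (.leaf (.up 6 1303 1)) (.leaf (.up 5 454 2))) (.node (.leaf (.up 5 1252 0)) (.leaf (.up 4 5 3)))) (.node (.node (.leaf (.up 3 1641 4)) (.leaf (.up 5 773 3))) (.node (.leaf (.up 5 585 4)) (.leaf (.up 6 1131 1))))) (.node (.node (.node (.leaf (.up 5 1065 4)) (.leaf (.up 5 1912 4))) (.node (.leaf (.up 5 531 2)) (.leaf (.up 4 1822 0)))) (.node (.node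 (.leaf (.up 5 1097 4)) (.leaf (.up 4 1816 4))) (.node (.leaf (.up 5 1175 3)) (.leaf (.up 4 824 4)))))))) (.node (.node (.node (.node (.node (.node (.leaf (.up 5 411 2)) (.leaf (.up 5 394 2))) (.node (.leaf (.up 5 1213 2)) (.leaf (.up 3 1582 4)))) (.node (.node (.leaf (.up 4 1016 1)) (.leaf (.up 5 388 1))) (.node (.leaf (.up 4 1997 2)) (.leaf (.up 6 2012 2))))) (.node (.node (.node (.leaf (.up 4 1913 2)) (.leaf (.up 3 1896 2))) (.node (.leaf (.up 5 607 2)) (.leaf (.up 1 2 3)))) (.node (.node (.leaf (.up 4 799 4)) (.leaf (.up 5 770 3))) (.node (.leaf (.up 4 632 1)) (.leaf (.up 1 2 0)))))) (.node (.node (.node (.node (.leaf (.up 6 426 3)) (.leaf (.up 6 1865 3))) (.node (.leaf (.up 5 938 3)) (.leaf (.up 6 1353 3)))) (.node (.node (.leaf (.up 4 234 2)) (.leaf (.up 1 1 4))) (.node (.leaf (.up 5 682 3)) (.leaf (.up 3 1057 4))))) (.node (.node (.node (.leaf (.up 4 989 1)) (.leaf (.up 4 1080 3))) (.node (.leaf (.up 5 219 3)) (.leaf (.up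 6 1131 0)))) (.node (.node (.leaf (.up 4 1544 2)) (.leaf (.up 6 1336 3))) (.node (.leaf (.up 4 221 1)) (.leaf (.up 5 831 2))))))) (.node (.node (.node (.node (.node (.leaf (.up 6 716 3)) (.leaf (.up 5 393 2))) (.node (.leaf (.up 5 1046 0)) (.leaf (.up 6 1492 4)))) (.node (.node (.leaf (.up 4 137 0)) (.leaf (.up 6 1327 3))) (.node (.leaf (.up 5 460 3)) (.leaf (.up 5 1496 1))))) (.node (.node (.node (.leaf (.up 5 1914 2)) (.leaf (.up 6 1886 3))) (.node (.leaf (.up 5 1189 4)) (.leaf (.up 5 2036 4)))) (.node (.node (.leaf (.up 5 1034 2)) (.leaf (.up 5 1630 3))) (.node (.leaf (.up 5 300 2)) (.leaf (.up 5 1940 4)))))) (.node (.node (.node (.node (.leaf (.up 5 1248 0)) (.leaf (.up 4 533 3))) (.node (.leaf (.up 6 926 1)) (.leaf (.up 5 21 3)))) (.node (.node (.leaf (.up 6 170 4)) (.leaf (.up 5 248 2))) (.node (.leaf (.up 5 1487 2)) (.leaf (.up 5 421 0))))) (.node (.node (.node (.leaf (.up 4 542 1)) (.leaf (.up 5 356 3))) (.node (.leaf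 (.up 6 93 2)) (.leaf (.up 5 1306 0)))) (.node (.node (.leaf (.up 5 1547 2)) (.leaf (.up 5 389 0))) (.node (.leaf (.up 5 286 1)) (.leaf (.up 4 828 2))))))))

noncomputable def vt2_8_110 : Tr VStep := .node vt2_8_1100 vt2_8_1101

noncomputable def vt2_8_1110 : Tr VStep :=
  .node (.node (.node (.node (.node (.node (.node (.leaf (.up 3 84 0)) (.leaf (.up 6 1140 2))) (.node (.leaf (.up 6 513 1)) (.leaf (.up 4 338 2)))) (.node (.node (.leaf (.up 3 1897 3)) (.leaf (.up 5 394 3))) (.node (.leaf (.up 5 563 2)) (.leaf (.up 6 906 3))))) (.node (.node (.node (.leaf (.up 3 512 4)) (.leaf (.up 6 1019 3))) (.node (.leaf (.up 4 1953 2)) (.leaf (.up 6 1393 4)))) (.node (.node (.leaf (.up 5 503 2)) (.leaf (.up 5 305 4))) (.node (.leaf (.up 5 1233 2)) (.leaf (.up 5 251 3)))))) (.node (.node (.node (.node (.leaf (.up 6 591 4)) (.leaf (.up 5 286 4))) (.node (.leaf (.up 2 1647 4)) (.leaf (.up 5 728 1)))) (.node (.node (.leaf (.up 4 1085 0)) (.leaf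 (.up 5 382 4))) (.node (.leaf (.up 5 851 3)) (.leaf (.up 6 2023 0))))) (.node (.node (.node (.leaf (.up 5 802 3)) (.leaf (.up 4 830 4))) (.node (.leaf (.up 6 1440 2)) (.leaf (.up 4 1822 4)))) (.node (.node (.leaf (.up 5 1565 0)) (.leaf (.up 3 999 2))) (.node (.leaf (.up 4 548 1)) (.leaf (.up 3 1918 4))))))) (.node (.node (.node (.node (.node (.leaf (.up 5 821 3)) (.leaf (.up 3 1057 1))) (.node (.leaf (.up 4 309 3)) (.leaf (.up 6 1195 4)))) (.node (.node (.leaf (.up 5 194 1)) (.leaf (.up 5 702 1))) (.node (.leaf (.up 5 1373 1)) (.leaf (.up 6 1750 3))))) (.node (.node (.node (.leaf (.up 5 506 4)) (.leaf (.up 3 1703 3))) (.node (.leaf (.up 5 580 3)) (.leaf (.up 2 1675 4)))) (.node (.node (.leaf (.up 5 410 4)) (.leaf (.up 3 1697 1))) (.node (.leaf (.up 5 322 1)) (.leaf (.up 4 1447 3)))))) (.node (.node (.node (.node (.leaf (.up 5 1272 1)) (.leaf (.up 3 1668 1))) (.node (.leaf (.up 6 1807 3)) (.leaf (.up 5 795 1)))) (.node (.node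 (.leaf (.up 6 469 4)) (.leaf (.up 5 644 4))) (.node (.leaf (.up 5 1868 0)) (.leaf (.up 5 1700 4))))) (.node (.node (.node (.leaf (.up 4 917 4)) (.leaf (.up 4 41 0))) (.node (.leaf (.up 4 1973 4)) (.leaf (.up 5 1252 4)))) (.node (.node (.leaf (.up 3 1918 3)) (.leaf (.up 4 164 4))) (.node (.leaf (.up 2 1747 2)) (.leaf (.up 5 1156 4)))))))) (.node (.node (.node (.node (.node (.node (.leaf (.up 3 592 0)) (.leaf (.up 5 1594 2))) (.node (.leaf (.up 3 279 1)) (.leaf (.up 5 394 0)))) (.node (.node (.leaf (.up 2 1371 2)) (.leaf (.up 5 410 3))) (.node (.leaf (.up 5 125 2)) (.leaf (.up 6 1524 1))))) (.node (.node (.node (.leaf (.up 5 112 0)) (.leaf (.up 4 1938 4))) (.node (.leaf (.up 5 227 4)) (.leaf (.up 5 938 0)))) (.node (.node (.leaf (.up 3 1187 4)) (.leaf (.up 6 1140 1))) (.node (.leaf (.up 2 1695 2)) (.leaf (.up 4 978 4)))))) (.node (.node (.node (.node (.leaf (.up 6 1066 2)) (.leaf (.up 5 1105 1))) (.node (.leaf (.up 6 268 2)) (.leaf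 (.up 5 462 1)))) (.node (.node (.leaf (.up 6 1260 4)) (.leaf (.up 4 1981 4))) (.node (.leaf (.up 6 1081 0)) (.leaf (.up 6 925 4))))) (.node (.node (.node (.leaf (.up 5 562 1)) (.leaf (.up 3 860 0))) (.node (.leaf (.up 6 2030 2)) (.leaf (.up 5 477 4)))) (.node (.node (.leaf (.up 5 1197 1)) (.leaf (.up 5 1233 3))) (.node (.leaf (.up 7 1182 2)) (.leaf (.up 5 1745 3))))))) (.node (.node (.node (.node (.node (.leaf (.up 2 1576 2)) (.leaf (.up 5 1608 4))) (.node (.leaf (.up 4 289 0)) (.leaf (.up 4 799 2)))) (.node (.node (.leaf (.up 6 1401 4)) (.leaf (.up 2 1576 4))) (.node (.leaf (.up 6 37 3)) (.leaf (.up 6 111 2))))) (.node (.node (.node (.leaf (.up 3 84 3)) (.leaf (.up 5 1128 4))) (.node (.leaf (.up 6 596 3)) (.leaf (.up 4 72 4)))) (.node (.node (.leaf (.up 5 1995 1)) (.leaf (.up 4 1975 3))) (.node (.leaf (.up 4 889 4)) (.leaf (.up 3 1677 2)))))) (.node (.node (.node (.node (.leaf (.up 5 1065 2)) (.leaf (.up 4 1080 2))) (.node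 (.leaf (.up 4 271 2)) (.leaf (.up 4 7 4)))) (.node (.node (.leaf (.up 4 1864 0)) (.leaf (.up 4 1864 2))) (.node (.leaf (.up 5 822 4)) (.leaf (.up 5 622 2))))) (.node (.node (.node (.leaf (.up 3 1009 1)) (.leaf (.up 5 1543 4))) (.node (.leaf (.up 4 1134 3)) (.leaf (.up 5 551 4)))) (.node (.node (.leaf (.up 4 1902 3)) (.leaf (.up 5 1202 0))) (.node (.leaf (.up 2 241 1)) (.leaf (.up 3 583 4))))))))

noncomputable def vt2_8_1111 : Tr VStep :=
  .node (.node (.node (.node (.node (.node (.node (.leaf (.up 6 1924 3)) (.leaf (.up 6 1137 2))) (.node (.leaf (.up 4 916 4)) (.leaf (.up 6 871 3)))) (.node (.node (.leaf (.up 3 1668 3)) (.leaf (.up 6 103 3))) (.node (.leaf (.up 5 1156 3)) (.leaf (.up 5 551 2))))) (.node (.node (.node (.leaf (.up 5 1428 4)) (.leaf (.up 4 1733 4))) (.node (.leaf (.up 5 1956 2)) (.leaf (.up 4 741 4)))) (.node (.node (.leaf (.up 5 972 0)) (.leaf (.up 4 483 2))) (.node (.leaf (.up 5 460 0)) (.leaf (.up 4 645 4))))))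 (.node (.node (.node (.node (.leaf (.up 6 1413 0)) (.leaf (.up 6 1648 2))) (.node (.leaf (.up 5 958 3)) (.leaf (.up 5 1373 3)))) (.node (.node (.leaf (.up 6 1750 1)) (.leaf (.up 5 1194 1))) (.node (.leaf (.up 3 55 2)) (.leaf (.up 3 192 0))))) (.node (.node (.node (.leaf (.up 4 719 3)) (.leaf (.up 4 146 2))) (.node (.leaf (.up 3 457 1)) (.leaf (.up 5 1151 0)))) (.node (.node (.leaf (.up 2 1947 4)) (.leaf (.up 4 994 2))) (.node (.leaf (.up 3 463 3)) (.leaf (.up 4 234 4))))))) (.node (.node (.node (.node (.node (.leaf (.up 5 728 3)) (.leaf (.up 5 1823 4))) (.node (.leaf (.up 5 216 3)) (.leaf (.up 5 340 2)))) (.node (.node (.leaf (.up 5 984 3)) (.leaf (.up 5 327 0))) (.node (.leaf (.up 6 472 3)) (.leaf (.up 4 595 1))))) (.node (.node (.node (.leaf (.up 5 641 2)) (.leaf (.up 6 1343 4))) (.node (.leaf (.up 5 1959 2)) (.leaf (.up 4 211 1)))) (.node (.node (.leaf (.up 4 497 2)) (.leaf (.up 5 480 2))) (.node (.leaf (.up 4 1239 2)) (.leaf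 (.up 4 1222 2)))))) (.node (.node (.node (.node (.leaf (.up 5 394 1)) (.leaf (.up 6 513 3))) (.node (.leaf (.up 5 1045 1)) (.leaf (.up 1 1 3)))) (.node (.node (.leaf (.up 5 1601 4)) (.leaf (.up 6 1283 2))) (.node (.leaf (.up 5 2018 3)) (.leaf (.up 5 433 0))))) (.node (.node (.node (.leaf (.up 5 1939 3)) (.leaf (.up 4 1806 0))) (.node (.leaf (.up 6 1236 0)) (.leaf (.up 5 1463 2)))) (.node (.node (.leaf (.up 6 1683 3)) (.leaf (.up 5 112 3))) (.node (.leaf (.up 6 1685 1)) (.leaf (.up 5 784 4)))))))) (.node (.node (.node (.node (.node (.node (.leaf (.up 3 1582 2)) (.leaf (.up 5 375 3))) (.node (.leaf (.up 3 1125 1)) (.leaf (.up 5 1542 4)))) (.node (.node (.leaf (.up 3 279 4)) (.leaf (.up 5 582 4))) (.node (.leaf (.up 3 1335 4)) (.leaf (.up 4 1638 4))))) (.node (.node (.node (.leaf (.up 6 1509 1)) (.leaf (.up 1 6 4))) (.node (.leaf (.up 4 1514 2)) (.leaf (.up 1 6 3)))) (.node (.node (.leaf (.up 6 1509 3)) (.leaf (.up 2 774 3))) (.node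 (.leaf (.up 4 968 0)) (.leaf (.up 2 530 0)))))) (.node (.node (.node (.node (.leaf (.up 6 1071 2)) (.leaf (.up 5 1869 3))) (.node (.leaf (.up 4 1409 0)) (.leaf (.up 6 1129 4)))) (.node (.node (.leaf (.up 5 1472 1)) (.leaf (.up 4 41 4))) (.node (.leaf (.up 6 798 0)) (.leaf (.up 4 708 0))))) (.node (.node (.node (.leaf (.up 3 312 4)) (.leaf (.up 5 1084 3))) (.node (.leaf (.up 4 223 3)) (.leaf (.up 3 1609 4)))) (.node (.node (.leaf (.up 4 830 0)) (.leaf (.up 5 428 2))) (.node (.leaf (.up 4 318 0)) (.leaf (.up 5 1596 1))))))) (.node (.node (.node (.node (.node (.leaf (.up 5 653 4)) (.leaf (.up 5 476 4))) (.node (.leaf (.up 5 1542 0)) (.leaf (.up 6 1532 4)))) (.node (.node (.leaf (.up 4 968 3)) (.leaf (.up 5 1323 3))) (.node (.leaf (.up 4 1741 4)) (.leaf (.up 4 106 2))))) (.node (.node (.node (.leaf (.up 4 173 4)) (.leaf (.up 6 1020 4))) (.node (.leaf (.up 4 441 1)) (.leaf (.up 6 1370 3)))) (.node (.node (.leaf (.up 3 959 2)) (.leaf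 (.up 6 942 2))) (.node (.leaf (.up 2 1689 2)) (.leaf (.up 4 867 0)))))) (.node (.node (.node (.node (.leaf (.up 6 1068 2)) (.leaf (.up 4 1085 2))) (.node (.leaf (.up 6 1778 3)) (.leaf (.up 4 1322 0)))) (.node (.node (.leaf (.up 5 130 4)) (.leaf (.up 5 979 4))) (.node (.leaf (.up 6 634 2)) (.leaf (.up 5 949 0))))) (.node (.node (.node (.leaf (.up 5 1667 1)) (.leaf (.up 4 403 4))) (.node (.leaf (.up 5 1744 0)) (.leaf (.up 3 1459 4)))) (.node (.node (.leaf (.up 5 1667 3)) (.leaf (.up 4 96 3))) (.node (.leaf (.up 6 1666 4)) (.leaf (.up 5 1491 4))))))))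

noncomputable def vt2_8_111 : Tr VStep := .node vt2_8_1110 vt2_8_1111

noncomputable def vt2_8_11 : Tr VStep := .node vt2_8_110 vt2_8_111

noncomputable def vt2_8_1 : Tr VStep := .node vt2_8_10 vt2_8_11

noncomputable def vt2_8_ : Tr VStep := .node vt2_8_0 vt2_8_1

noncomputable def vt2_9_0000 : Tr VStep :=
  .node (.node (.node (.node (.node (.node (.node (.leaf (.root 43)) (.leaf (.up 4 536 3))) (.node (.leaf (.up 4 1433 3)) (.leaf (.up 5 1753 0)))) (.node (.node (.leaf (.up 3 1183 1)) (.leaf (.up 5 1356 4))) (.node (.leaf (.up 2 274 2)) (.leaf (.up 5 1497 0))))) (.node (.node (.node (.leaf (.up 5 1859 0)) (.leaf (.up 5 1722 1))) (.node (.leaf (.up 5 1383 4)) (.leaf (.up 5 1210 1)))) (.node (.node (.leaf (.up 6 306 2)) (.leaf (.up 5 549 1))) (.node (.leaf (.up 4 470 4)) (.leaf (.up 4 43 4)))))) (.node (.node (.node (.node (.leaf (.up 5 560 3)) (.leaf (.up 3 272 4))) (.node (.leaf (.up 5 1403 2)) (.leaf (.up 4 1273 0)))) (.node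 (.node (.leaf (.up 4 484 2)) (.leaf (.up 5 2041 1))) (.node (.leaf (.up 5 996 2)) (.leaf (.up 5 1445 3))))) (.node (.node (.node (.leaf (.up 6 1379 0)) (.leaf (.up 5 1827 0))) (.node (.leaf (.up 5 1883 2)) (.leaf (.up 2 486 1)))) (.node (.node (.leaf (.up 4 672 3)) (.leaf (.up 3 363 4))) (.node (.leaf (.up 5 452 2)) (.leaf (.up 6 1401 1))))))) (.node (.node (.node (.node (.node (.leaf (.up 5 1066 3)) (.leaf (.up 4 18 4))) (.node (.leaf (.up 4 520 1)) (.leaf (.up 3 1332 0)))) (.node (.node (.leaf (.up 5 1086 3)) (.leaf (.up 5 1074 3))) (.node (.leaf (.up 6 1140 0)) (.leaf (.up 4 1588 0))))) (.node (.node (.node (.leaf (.up 4 136 1)) (.leaf (.up 5 1186 3))) (.node (.leaf (.up 3 1710 0)) (.leaf (.up 5 1286 2)))) (.node (.node (.leaf (.up 5 404 4)) (.leaf (.up 6 1206 3))) (.node (.leaf (.up 5 823 3)) (.leaf (.up 3 2030 0)))))) (.node (.node (.node (.node (.leaf (.up 3 258 4)) (.leaf (.up 6 1026 3))) (.node (.leaf (.up 4 1364 0))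 (.leaf (.up 4 1488 2)))) (.node (.node (.leaf (.up 6 1050 3)) (.leaf (.up 5 335 2))) (.node (.leaf (.up 5 1620 0)) (.leaf (.up 6 847 2))))) (.node (.node (.node (.leaf (.up 4 1678 0)) (.leaf (.up 4 1520 2))) (.node (.leaf (.up 5 775 3)) (.leaf (.up 5 779 3)))) (.node (.node (.leaf (.up 5 377 4)) (.leaf (.up 4 1998 0))) (.node (.leaf (.up 4 212 4)) (.leaf (.up 5 1486 0)))))))) (.node (.node (.node (.node (.node (.node (.leaf (.up 3 485 4)) (.leaf (.up 5 24 4))) (.node (.leaf (.up 2 1691 0)) (.leaf (.up 5 1066 1)))) (.node (.node (.leaf (.up 2 1947 0)) (.leaf (.up 6 1193 4))) (.node (.leaf (.up 3 1679 1)) (.leaf (.up 5 1925 3))))) (.node (.node (.node (.leaf (.up 5 1345 0)) (.leaf (.up 5 1234 4))) (.node (.leaf (.up 6 1857 0)) (.leaf (.up 5 1194 1)))) (.node (.node (.leaf (.up 5 822 2)) (.leaf (.up 5 748 2))) (.node (.leaf (.up 5 310 2)) (.leaf (.up 6 53 1)))))) (.node (.node (.node (.node (.leaf (.up 5 1356 1)) (.leaf (.up 5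 1275 0))) (.node (.leaf (.up 6 1868 1)) (.leaf (.up 6 1701 2)))) (.node (.node (.leaf (.up 5 992 2)) (.leaf (.up 4 570 2))) (.node (.leaf (.up 6 480 2)) (.leaf (.up 5 58 2))))) (.node (.node (.node (.leaf (.up 5 1889 0)) (.leaf (.up 4 1014 1))) (.node (.leaf (.up 4 1375 2)) (.leaf (.up 4 502 1)))) (.node (.node (.leaf (.up 5 339 1)) (.leaf (.up 3 1897 1))) (.node (.leaf (.up 5 222 4)) (.leaf (.up 5 1385 1))))))) (.node (.node (.node (.node (.node (.leaf (.up 4 1582 3)) (.leaf (.up 5 503 4))) (.node (.leaf (.up 4 536 1)) (.leaf (.up 4 1846 0)))) (.node (.node (.leaf (.up 6 1594 3)) (.leaf (.up 6 1350 4))) (.node (.leaf (.up 4 615 2)) (.leaf (.up 6 1259 4))))) (.node (.node (.node (.leaf (.up 6 1216 4)) (.leaf (.up 5 1282 2))) (.node (.leaf (.up 5 295 3)) (.leaf (.up 5 1186 1)))) (.node (.node (.leaf (.up 5 1031 1)) (.leaf (.up 5 925 2))) (.node (.leaf (.up 4 1964 0)) (.leaf (.up 5 319 3)))))) (.node (.node (.node (.node (.leaf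 (.up 5 1038 2)) (.leaf (.up 5 1492 2))) (.node (.leaf (.up 6 1860 1)) (.leaf (.up 5 382 1)))) (.node (.node (.leaf (.up 5 657 2)) (.leaf (.up 5 843 2))) (.node (.leaf (.up 5 145 2)) (.leaf (.up 4 415 3))))) (.node (.node (.node (.leaf (.up 4 1678 3)) (.leaf (.up 4 1488 4))) (.node (.leaf (.up 6 1676 0)) (.leaf (.up 6 1524 2)))) (.node (.node (.leaf (.up 5 1690 3)) (.leaf (.up 3 363 2))) (.node (.leaf (.up 6 859 1)) (.leaf (.up 5 1377 1))))))))

noncomputable def vt2_9_0001 : Tr VStep :=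
  .node (.node (.node (.node (.node (.node (.node (.leaf (.up 5 453 0)) (.leaf (.up 3 1945 4))) (.node (.leaf (.up 3 965 0)) (.leaf (.up 4 1588 4)))) (.node (.node (.leaf (.up 5 709 0)) (.leaf (.up 5 808 4))) (.node (.leaf (.up 5 197 0)) (.leaf (.up 5 870 3))))) (.node (.node (.node (.leaf (.up 3 686 4)) (.leaf (.up 5 607 0))) (.node (.leaf (.up 4 672 1)) (.leaf (.up 4 1014 3)))) (.node (.node (.leaf (.up 5 799 0)) (.leaf (.up 5 517 1))) (.node (.leaf (.up 4 1006 3)) (.leaf (.up 3 5 1)))))) (.node (.node (.node (.node (.leaf (.up 4 1673 4)) (.leaf (.up 4 1908 4))) (.node (.leaf (.up 3 485 0)) (.leaf (.up 3 326 1)))) (.node (.node (.leaf (.up 2 1731 2)) (.leaf (.up 3 965 4))) (.node (.leaf (.up 3 846 3)) (.leaf (.up 5 1305 2))))) (.node (.node (.node (.leaf (.up 6 1107 3)) (.leaf (.up 6 1119 3))) (.node (.leaf (.up 4 1006 4)) (.leaf (.up 6 531 4)))) (.node (.node (.leaf (.up 5 1778 4)) (.leaf (.up 5 1337 2))) (.node (.leaf (.up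 5 970 3)) (.leaf (.up 6 383 0))))))) (.node (.node (.node (.node (.node (.leaf (.up 5 1931 4)) (.leaf (.up 3 705 3))) (.node (.leaf (.up 6 40 0)) (.leaf (.up 1 1 2)))) (.node (.node (.leaf (.up 4 1207 1)) (.leaf (.up 5 653 1))) (.node (.leaf (.up 4 1364 3)) (.leaf (.up 6 360 0))))) (.node (.node (.node (.leaf (.up 6 585 3)) (.leaf (.up 5 581 3))) (.node (.leaf (.up 5 748 4)) (.leaf (.up 5 785 4)))) (.node (.node (.leaf (.up 6 2032 4)) (.leaf (.up 5 525 1))) (.node (.leaf (.up 4 1488 3)) (.leaf (.up 4 178 0)))))) (.node (.node (.node (.node (.leaf (.up 6 745 3)) (.leaf (.up 2 1691 4))) (.node (.leaf (.up 4 520 0)) (.leaf (.up 4 1384 3)))) (.node (.node (.leaf (.up 5 983 4)) (.leaf (.up 3 753 3))) (.node (.leaf (.up 6 1003 1)) (.leaf (.up 3 1128 2))))) (.node (.node (.node (.leaf (.up 5 940 4)) (.leaf (.up 5 727 2))) (.node (.leaf (.up 5 1504 3)) (.leaf (.up 5 1020 4)))) (.node (.node (.leaf (.up 3 363 1)) (.leaf (.up 5 1096 2)))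 (.node (.leaf (.up 6 1524 3)) (.leaf (.up 4 1608 2)))))))) (.node (.node (.node (.node (.node (.node (.leaf (.up 4 174 2)) (.leaf (.up 5 1660 4))) (.node (.leaf (.up 3 686 2)) (.leaf (.up 5 884 2)))) (.node (.node (.leaf (.up 3 1199 1)) (.leaf (.up 6 717 4))) (.node (.leaf (.up 5 669 4)) (.leaf (.up 4 1515 2))))) (.node (.node (.node (.leaf (.up 5 843 4)) (.leaf (.up 5 852 2))) (.node (.leaf (.up 4 742 4)) (.leaf (.up 6 1162 1)))) (.node (.node (.leaf (.up 6 2042 4)) (.leaf (.up 5 1643 3))) (.node (.leaf (.up 5 1553 2)) (.leaf (.up 2 486 3)))))) (.node (.node (.node (.node (.leaf (.up 3 1388 1)) (.leaf (.up 5 1681 4))) (.node (.leaf (.up 4 1729 4)) (.leaf (.up 5 342 1)))) (.node (.node (.leaf (.up 5 989 4)) (.leaf (.up 5 544 4))) (.node (.leaf (.up 7 231 0)) (.leaf (.up 3 326 3))))) (.node (.node (.node (.leaf (.up 6 120 2)) (.leaf (.up 5 637 0))) (.node (.leaf (.up 6 523 4)) (.leaf (.up 4 470 1)))) (.node (.node (.leaf (.up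 5 371 1)) (.leaf (.up 6 1615 3))) (.node (.leaf (.up 5 883 1)) (.leaf (.up 5 1341 2))))))) (.node (.node (.node (.node (.node (.leaf (.up 5 42 0)) (.leaf (.up 3 5 2))) (.node (.leaf (.up 5 991 2)) (.leaf (.up 5 517 2)))) (.node (.node (.leaf (.up 6 1856 2)) (.leaf (.up 5 669 1))) (.node (.leaf (.up 6 1872 3)) (.leaf (.up 6 1884 3))))) (.node (.node (.node (.leaf (.up 6 1023 2)) (.leaf (.up 5 1666 1))) (.node (.leaf (.up 7 1008 0)) (.leaf (.up 6 432 0)))) (.node (.node (.leaf (.up 5 1557 4)) (.leaf (.up 5 2024 4))) (.node (.leaf (.up 5 240 0)) (.leaf (.up 5 1722 2)))))) (.node (.node (.node (.node (.leaf (.up 5 522 0)) (.leaf (.up 1 74 0))) (.node (.leaf (.up 6 10 0)) (.leaf (.up 3 1747 4)))) (.node (.node (.leaf (.up 6 266 0)) (.leaf (.up 7 975 4))) (.node (.leaf (.up 4 1908 3)) (.leaf (.up 7 610 4))))) (.node (.node (.node (.leaf (.up 5 265 2)) (.leaf (.up 5 948 4))) (.node (.leaf (.up 4 2020 1)) (.leaf (.up 5 2024 3)))) (.node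 (.node (.leaf (.up 6 1784 4)) (.leaf (.up 5 1612 2))) (.node (.leaf (.up 5 720 0)) (.leaf (.up 5 2044 3))))))))

noncomputable def vt2_9_000 : Tr VStep := .node vt2_9_0000 vt2_9_0001

noncomputable def vt2_9_0010 : Tr VStep :=
  .node (.node (.node (.node (.node (.node (.node (.leaf (.up 3 1949 2)) (.leaf (.up 5 435 1))) (.node (.leaf (.up 3 258 3)) (.leaf (.up 6 270 3)))) (.node (.node (.leaf (.up 2 1691 3)) (.leaf (.up 5 1324 1))) (.node (.leaf (.up 4 1437 0)) (.leaf (.up 4 2013 0))))) (.node (.node (.node (.leaf (.up 5 1547 3)) (.leaf (.up 4 1127 2))) (.node (.leaf (.up 5 1194 4)) (.leaf (.up 5 1367 4)))) (.node (.node (.leaf (.up 6 918 1)) (.leaf (.up 5 1031 0))) (.node (.leaf (.up 4 406 1)) (.leaf (.up 2 486 4)))))) (.node (.node (.node (.node (.leaf (.up 5 1725 0)) (.leaf (.up 5 1263 1))) (.node (.leaf (.up 5 294 3)) (.leaf (.up 4 1789 0)))) (.node (.node (.leaf (.up 5 1012 2)) (.leaf (.up 5 1715 3))) (.node (.leaf (.up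 5 500 2)) (.leaf (.up 5 46 2))))) (.node (.node (.node (.leaf (.up 5 1895 0)) (.leaf (.up 5 1681 2))) (.node (.leaf (.up 5 1383 0)) (.leaf (.up 5 1466 4)))) (.node (.node (.leaf (.up 4 1127 0)) (.leaf (.up 5 240 1))) (.node (.leaf (.up 6 438 3)) (.leaf (.up 6 267 4))))))) (.node (.node (.node (.node (.node (.leaf (.up 5 1904 0)) (.leaf (.up 4 1846 2))) (.node (.leaf (.up 5 1260 2)) (.leaf (.up 6 114 4)))) (.node (.node (.leaf (.up 5 115 2)) (.leaf (.up 5 1390 4))) (.node (.leaf (.up 6 1342 4)) (.leaf (.up 5 937 2))))) (.node (.node (.node (.leaf (.up 6 53 3)) (.leaf (.up 5 315 1))) (.node (.leaf (.up 5 1194 0)) (.leaf (.up 6 1972 3)))) (.node (.node (.leaf (.up 6 89 4)) (.leaf (.up 5 45 3))) (.node (.leaf (.up 4 83 2)) (.leaf (.up 4 1952 3)))))) (.node (.node (.node (.node (.leaf (.up 5 1360 0)) (.leaf (.up 4 1472 2))) (.node (.leaf (.up 5 1562 2)) (.leaf (.up 4 1812 3)))) (.node (.node (.leaf (.up 5 129 3)) (.leaf (.up 5 863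 2))) (.node (.leaf (.up 5 1804 3)) (.leaf (.up 6 1552 0))))) (.node (.node (.node (.leaf (.up 6 17 3)) (.leaf (.up 4 1127 1))) (.node (.leaf (.up 5 93 1)) (.leaf (.up 5 1504 2)))) (.node (.node (.leaf (.up 3 5 3)) (.leaf (.up 5 329 4))) (.node (.leaf (.up 4 1928 3)) (.leaf (.up 3 1924 3)))))))) (.node (.node (.node (.node (.node (.node (.leaf (.up 2 1163 3)) (.leaf (.up 6 419 1))) (.node (.leaf (.up 3 1183 0)) (.leaf (.up 4 778 3)))) (.node (.node (.leaf (.up 3 1183 3)) (.leaf (.up 6 1380 4))) (.node (.leaf (.up 3 262 1)) (.leaf (.up 3 1225 4))))) (.node (.node (.node (.leaf (.up 6 1861 0)) (.leaf (.up 6 1285 0))) (.node (.leaf (.up 3 1359 4)) (.leaf (.up 5 1797 0)))) (.node (.node (.leaf (.up 4 83 4)) (.leaf (.up 5 1541 0))) (.node (.leaf (.up 6 918 3)) (.leaf (.up 5 1980 1)))))) (.node (.node (.node (.node (.leaf (.up 3 1199 3)) (.leaf (.up 5 1279 1))) (.node (.leaf (.up 5 197 1)) (.leaf (.up 4 814 3)))) (.node (.node (.leaf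 (.up 6 1140 4)) (.leaf (.up 3 1417 4))) (.node (.leaf (.up 4 1114 1)) (.leaf (.up 4 2047 0))))) (.node (.node (.node (.leaf (.up 3 1359 2)) (.leaf (.up 5 1173 2))) (.node (.leaf (.up 4 69 1)) (.leaf (.up 6 938 3)))) (.node (.node (.leaf (.up 5 190 4)) (.leaf (.up 4 1075 3))) (.node (.leaf (.up 6 1242 1)) (.leaf (.up 6 1573 0))))))) (.node (.node (.node (.node (.node (.leaf (.up 6 1394 0)) (.leaf (.up 5 427 1))) (.node (.leaf (.up 5 106 4)) (.leaf (.up 3 1332 3)))) (.node (.node (.leaf (.up 5 782 1)) (.leaf (.up 2 1163 4))) (.node (.leaf (.up 5 1324 3)) (.leaf (.up 5 429 2))))) (.node (.node (.node (.leaf (.up 6 1293 4)) (.leaf (.up 5 1264 4))) (.node (.leaf (.up 6 1704 0)) (.leaf (.up 6 1456 3)))) (.node (.node (.leaf (.up 5 549 3)) (.leaf (.up 6 1512 0))) (.node (.leaf (.up 4 398 1)) (.leaf (.up 5 2024 0)))))) (.node (.node (.node (.node (.leaf (.up 5 657 3)) (.leaf (.up 5 669 3))) (.node (.leaf (.up 4 1308 3)) (.leaf (.up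 5 1783 1)))) (.node (.node (.leaf (.up 4 1435 4)) (.leaf (.up 5 1554 0))) (.node (.leaf (.up 4 1618 0)) (.leaf (.up 3 1042 0))))) (.node (.node (.node (.leaf (.up 5 1086 2)) (.leaf (.up 5 1143 1))) (.node (.leaf (.up 5 1101 4)) (.leaf (.up 4 2020 2)))) (.node (.node (.leaf (.up 4 1746 1)) (.leaf (.up 5 172 4))) (.node (.leaf (.up 4 1928 0)) (.leaf (.up 6 744 1))))))))

noncomputable def vt2_9_0011 : Tr VStep :=
  .node (.node (.node (.node (.node (.node (.node (.leaf (.up 6 186 2)) (.leaf (.up 5 1620 4))) (.node (.leaf (.up 6 2021 3)) (.leaf (.up 5 2041 4)))) (.node (.node (.leaf (.up 5 822 1)) (.leaf (.up 4 2047 2))) (.node (.leaf (.up 3 705 0)) (.leaf (.up 4 1535 2))))) (.node (.node (.node (.leaf (.up 6 666 2)) (.leaf (.up 5 224 3))) (.node (.leaf (.up 5 718 4)) (.leaf (.up 5 1901 3)))) (.node (.node (.leaf (.up 6 1029 2)) (.leaf (.up 6 859 0))) (.node (.leaf (.up 5 1541 2)) (.leaf (.up 5 1913 3)))))) (.node (.node (.node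 (.node (.leaf (.up 6 1860 4)) (.leaf (.up 4 929 0))) (.node (.leaf (.up 7 1769 4)) (.leaf (.up 4 1997 3)))) (.node (.node (.leaf (.up 2 1235 2)) (.leaf (.up 4 520 4))) (.node (.leaf (.up 3 225 0)) (.leaf (.up 5 933 4))))) (.node (.node (.node (.leaf (.up 5 910 4)) (.leaf (.up 6 196 3))) (.node (.leaf (.up 6 571 0)) (.leaf (.up 6 1615 1)))) (.node (.node (.leaf (.up 6 220 3)) (.leaf (.up 5 1730 4))) (.node (.leaf (.up 5 315 0)) (.leaf (.up 5 1885 3))))))) (.node (.node (.node (.node (.node (.leaf (.up 5 1622 3)) (.leaf (.up 6 17 2))) (.node (.leaf (.up 6 971 2)) (.leaf (.up 4 471 3)))) (.node (.node (.leaf (.up 5 1876 2)) (.leaf (.up 4 1678 2))) (.node (.leaf (.up 4 1364 2)) (.leaf (.up 5 451 3))))) (.node (.node (.node (.leaf (.up 4 1746 3)) (.leaf (.up 4 881 4))) (.node (.leaf (.up 4 1014 0)) (.leaf (.up 5 339 3)))) (.node (.node (.leaf (.up 5 1734 3)) (.leaf (.up 5 182 0))) (.node (.leaf (.up 4 1908 2)) (.leaf (.up 3 1924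 1)))))) (.node (.node (.node (.node (.leaf (.up 7 524 0)) (.leaf (.up 6 1878 4))) (.node (.leaf (.up 6 253 1)) (.leaf (.up 6 1787 4)))) (.node (.node (.leaf (.up 6 538 4)) (.leaf (.up 2 1144 2))) (.node (.leaf (.up 4 780 0)) (.leaf (.up 3 487 3))))) (.node (.node (.node (.leaf (.up 5 637 1)) (.leaf (.up 4 406 0))) (.node (.leaf (.up 4 470 0)) (.leaf (.up 6 561 4)))) (.node (.node (.leaf (.up 5 1762 1)) (.leaf (.up 6 1624 2))) (.node (.leaf (.up 5 726 0)) (.leaf (.up 6 355 3)))))))) (.node (.node (.node (.node (.node (.node (.leaf (.up 5 1612 4)) (.leaf (.up 5 899 0))) (.node (.leaf (.up 5 190 2)) (.leaf (.up 5 1517 3)))) (.node (.node (.leaf (.up 6 1057 2)) (.leaf (.up 3 768 4))) (.node (.leaf (.up 5 1569 2)) (.leaf (.up 3 643 0))))) (.node (.node (.node (.leaf (.up 6 25 0)) (.leaf (.up 5 601 0))) (.node (.leaf (.up 5 1337 1)) (.leaf (.up 5 1385 3)))) (.node (.node (.leaf (.up 4 793 0)) (.leaf (.up 5 2011 2))) (.node (.leaf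 (.up 5 281 0)) (.leaf (.up 7 1499 2)))))) (.node (.node (.node (.node (.leaf (.up 4 584 3)) (.leaf (.up 6 1884 4))) (.node (.leaf (.up 4 483 0)) (.leaf (.up 5 1481 3)))) (.node (.node (.leaf (.up 3 528 4)) (.leaf (.up 6 1005 4))) (.node (.leaf (.up 5 1489 3)) (.leaf (.up 5 163 0))))) (.node (.node (.node (.leaf (.up 5 569 0)) (.leaf (.up 6 946 2))) (.node (.leaf (.up 5 1345 3)) (.leaf (.up 5 1631 1)))) (.node (.node (.leaf (.up 6 1786 1)) (.leaf (.up 5 724 3))) (.node (.leaf (.up 5 1783 2)) (.leaf (.up 5 377 0))))))) (.node (.node (.node (.node (.node (.leaf (.up 6 1969 1)) (.leaf (.up 6 1630 4))) (.node (.leaf (.up 5 991 3)) (.leaf (.up 4 21 2)))) (.node (.node (.leaf (.up 4 814 1)) (.leaf (.up 6 1098 3))) (.node (.leaf (.up 4 814 0)) (.leaf (.up 4 967 3))))) (.node (.node (.node (.leaf (.up 5 1841 1)) (.leaf (.up 4 660 4))) (.node (.leaf (.up 5 500 0)) (.leaf (.up 5 779 1)))) (.node (.node (.leaf (.up 5 1904 2)) (.leaf (.up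 6 1573 4))) (.node (.leaf (.up 4 1653 4)) (.leaf (.up 4 1928 4)))))) (.node (.node (.node (.node (.leaf (.up 5 1870 4)) (.leaf (.up 5 590 0))) (.node (.leaf (.up 6 1019 3)) (.leaf (.up 4 1015 3)))) (.node (.node (.leaf (.up 5 782 0)) (.leaf (.up 4 334 0))) (.node (.leaf (.up 5 1446 2)) (.leaf (.up 3 846 0))))) (.node (.node (.node (.leaf (.up 4 793 2)) (.leaf (.up 5 633 4))) (.node (.leaf (.up 5 281 2)) (.leaf (.up 5 883 3)))) (.node (.node (.leaf (.up 3 1845 4)) (.leaf (.up 6 1258 3))) (.node (.leaf (.up 4 212 0)) (.leaf (.up 4 660 0))))))))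

noncomputable def vt2_9_001 : Tr VStep := .node vt2_9_0010 vt2_9_0011

noncomputable def vt2_9_00 : Tr VStep := .node vt2_9_000 vt2_9_001

noncomputable def vt2_9_0100 : Tr VStep :=
  .node (.node (.node (.node (.node (.node (.node (.leaf (.root 218)) (.leaf (.up 5 1578 4))) (.node (.leaf (.up 4 516 2)) (.leaf (.up 3 1225 0)))) (.node (.node (.leaf (.up 2 1691 2)) (.leaf (.up 4 520 3))) (.node (.leaf (.up 3 715 4)) (.leaf (.up 5 822 4))))) (.node (.node (.node (.leaf (.up 4 660 3)) (.leaf (.up 5 664 3))) (.node (.leaf (.up 5 1305 3)) (.leaf (.up 4 1299 0)))) (.node (.node (.leaf (.up 4 1964 4)) (.leaf (.up 5 551 1))) (.node (.leaf (.up 6 1293 3)) (.leaf (.up 5 2044 4)))))) (.node (.node (.node (.node (.leaf (.up 5 1850 4)) (.leaf (.up 5 808 2))) (.node (.leaf (.up 5 1886 1)) (.leaf (.up 5 296 2)))) (.node (.node (.leaf (.up 5 544 3)) (.leaf (.up 5 2025 0))) (.node (.leaf (.up 6 1961 0)) (.leaf (.up 5 1975 2))))) (.node (.node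 (.node (.leaf (.up 6 210 2)) (.leaf (.up 4 1331 0))) (.node (.leaf (.up 5 1341 3)) (.leaf (.up 4 484 1)))) (.node (.node (.leaf (.up 5 321 1)) (.leaf (.up 6 1724 4))) (.node (.leaf (.up 5 1101 2)) (.leaf (.up 4 1431 2))))))) (.node (.node (.node (.node (.node (.leaf (.up 4 373 2)) (.leaf (.up 4 1989 4))) (.node (.leaf (.up 5 885 2)) (.leaf (.up 5 1640 4)))) (.node (.node (.leaf (.up 5 1173 1)) (.leaf (.up 5 884 4))) (.node (.leaf (.up 5 1636 0)) (.leaf (.up 5 1060 0))))) (.node (.node (.node (.leaf (.up 5 1194 3)) (.leaf (.up 4 783 4))) (.node (.leaf (.up 5 863 4)) (.leaf (.up 5 1790 0)))) (.node (.node (.leaf (.up 6 1214 3)) (.leaf (.up 5 2046 0))) (.node (.leaf (.up 3 2030 4)) (.leaf (.up 5 47 1)))))) (.node (.node (.node (.node (.leaf (.up 5 899 2)) (.leaf (.up 5 876 1))) (.node (.leaf (.up 6 387 2)) (.leaf (.up 5 1669 4)))) (.node (.node (.leaf (.up 4 1308 2)) (.leaf (.up 3 1042 3))) (.node (.leaf (.up 4 1820 2)) (.leaf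 (.up 5 1734 2))))) (.node (.node (.node (.leaf (.up 6 419 2)) (.leaf (.up 6 121 2))) (.node (.leaf (.up 6 946 4)) (.leaf (.up 4 783 3)))) (.node (.node (.leaf (.up 3 1710 4)) (.leaf (.up 6 1174 3))) (.node (.leaf (.up 5 791 3)) (.leaf (.up 5 1790 4)))))))) (.node (.node (.node (.node (.node (.node (.leaf (.up 3 20 3)) (.leaf (.up 2 1576 1))) (.node (.leaf (.up 1 0 2)) (.leaf (.up 4 1064 1)))) (.node (.node (.leaf (.up 1 0 3)) (.leaf (.up 5 695 1))) (.node (.leaf (.up 4 1677 1)) (.leaf (.up 6 1921 3))))) (.node (.node (.node (.leaf (.up 5 760 4)) (.leaf (.up 5 773 4))) (.node (.leaf (.up 5 544 2)) (.leaf (.up 6 1192 1)))) (.node (.node (.leaf (.up 5 1727 2)) (.leaf (.up 4 136 3))) (.node (.leaf (.up 4 2020 4)) (.leaf (.up 5 1797 3)))))) (.node (.node (.node (.node (.leaf (.up 5 48 3)) (.leaf (.up 5 884 1))) (.node (.leaf (.up 5 1870 1)) (.leaf (.up 3 1679 4)))) (.node (.node (.leaf (.up 6 1641 2)) (.leaf (.up 4 1515 0))) (.node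 (.leaf (.up 5 1129 2)) (.leaf (.up 4 1515 1))))) (.node (.node (.node (.leaf (.up 5 1486 1)) (.leaf (.up 4 780 2))) (.node (.leaf (.up 4 1998 1)) (.leaf (.up 3 1845 3)))) (.node (.node (.leaf (.up 5 160 3)) (.leaf (.up 5 172 3))) (.node (.leaf (.up 6 1609 2)) (.leaf (.up 5 1585 0))))))) (.node (.node (.node (.node (.node (.leaf (.up 4 1382 0)) (.leaf (.up 4 683 2))) (.node (.leaf (.up 6 538 1)) (.leaf (.up 5 427 3)))) (.node (.node (.leaf (.up 5 1157 1)) (.leaf (.up 5 1062 0))) (.node (.leaf (.up 3 705 4)) (.leaf (.up 4 1588 2))))) (.node (.node (.node (.leaf (.up 3 1710 3)) (.leaf (.up 5 746 4))) (.node (.leaf (.up 6 1724 0)) (.leaf (.up 5 651 2)))) (.node (.node (.leaf (.up 4 1998 2)) (.leaf (.up 5 1556 2))) (.node (.leaf (.up 5 1541 1)) (.leaf (.up 4 2038 4)))))) (.node (.node (.node (.node (.leaf (.up 5 1862 0)) (.leaf (.up 4 1538 3))) (.node (.leaf (.up 4 1693 4)) (.leaf (.up 6 380 1)))) (.node (.node (.leaf (.up 5 1562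 3)) (.leaf (.up 5 1730 2))) (.node (.leaf (.up 6 407 3)) (.leaf (.up 5 1218 2))))) (.node (.node (.node (.leaf (.up 5 1478 1)) (.leaf (.up 5 1670 3))) (.node (.leaf (.up 6 423 2)) (.leaf (.up 4 508 1)))) (.node (.node (.leaf (.up 6 1336 2)) (.leaf (.up 5 1891 1))) (.node (.leaf (.up 6 1766 4)) (.leaf (.up 5 1762 2))))))))

noncomputable def vt2_9_0101 : Tr VStep :=
  .node (.node (.node (.node (.node (.node (.node (.leaf (.up 5 1827 2)) (.leaf (.up 5 78 4))) (.node (.leaf (.up 4 1315 2)) (.leaf (.up 4 483 4)))) (.node (.node (.leaf (.up 5 1282 4)) (.leaf (.up 5 1263 3))) (.node (.leaf (.up 3 1199 4)) (.leaf (.up 5 866 3))))) (.node (.node (.node (.leaf (.up 6 1401 4)) (.leaf (.up 5 1156 4))) (.node (.leaf (.up 6 1022 3)) (.leaf (.up 5 1753 2)))) (.node (.node (.leaf (.up 4 1127 3)) (.leaf (.up 6 519 1))) (.node (.leaf (.up 4 783 0)) (.leaf (.up 5 335 0)))))) (.node (.node (.node (.node (.leaf (.root 536)) (.leaf (.up 5 163 4)))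 (.node (.leaf (.up 3 862 3)) (.leaf (.up 5 437 0)))) (.node (.node (.leaf (.up 7 1519 4)) (.leaf (.up 3 1042 4))) (.node (.leaf (.up 6 1090 4)) (.leaf (.up 5 1471 4))))) (.node (.node (.node (.leaf (.up 5 47 0)) (.leaf (.up 5 1129 4))) (.node (.leaf (.up 5 986 3)) (.leaf (.up 5 452 1)))) (.node (.node (.leaf (.up 5 362 2)) (.leaf (.up 5 1883 1))) (.node (.leaf (.up 4 136 4)) (.leaf (.up 4 373 4))))))) (.node (.node (.node (.node (.node (.leaf (.up 4 1618 2)) (.leaf (.up 4 1928 2))) (.node (.leaf (.up 4 497 4)) (.leaf (.up 4 1352 3)))) (.node (.node (.leaf (.up 6 205 2)) (.leaf (.up 5 721 3))) (.node (.leaf (.up 5 1360 3)) (.leaf (.up 5 888 0))))) (.node (.node (.node (.leaf (.up 4 482 0)) (.leaf (.up 4 577 3))) (.node (.leaf (.up 4 1472 3)) (.leaf (.up 5 1960 2)))) (.node (.node (.leaf (.up 5 601 3)) (.leaf (.up 5 823 2))) (.node (.leaf (.up 5 394 4)) (.leaf (.up 5 119 4)))))) (.node (.node (.node (.node (.leaf (.up 4 536 0))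 (.leaf (.up 2 1406 2))) (.node (.leaf (.up 5 1910 1)) (.leaf (.up 3 1388 3)))) (.node (.node (.leaf (.up 4 280 0)) (.leaf (.up 6 2003 1))) (.node (.leaf (.up 6 792 0)) (.leaf (.up 6 344 0))))) (.node (.node (.node (.leaf (.up 6 1526 1)) (.leaf (.up 5 1886 2))) (.node (.leaf (.up 4 2038 1)) (.leaf (.up 6 1512 3)))) (.node (.node (.leaf (.up 5 637 3)) (.leaf (.up 5 625 3))) (.node (.leaf (.up 4 1520 3)) (.leaf (.up 5 130 0)))))))) (.node (.node (.node (.node (.node (.node (.leaf (.up 4 471 0)) (.leaf (.up 5 427 4))) (.node (.leaf (.up 5 983 0)) (.leaf (.up 4 1032 1)))) (.node (.node (.leaf (.up 5 727 0)) (.leaf (.up 5 151 0))) (.node (.leaf (.up 4 1354 4)) (.leaf (.up 4 1207 4))))) (.node (.node (.node (.leaf (.up 4 178 1)) (.leaf (.up 5 1659 3))) (.node (.leaf (.up 5 525 0)) (.leaf (.up 4 502 3)))) (.node (.node (.leaf (.up 5 45 4)) (.leaf (.up 4 333 0))) (.node (.leaf (.up 5 1581 1)) (.leaf (.up 4 482 3)))))) (.node (.node (.node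 (.node (.leaf (.up 4 1015 0)) (.leaf (.up 3 326 4))) (.node (.leaf (.up 3 346 3)) (.leaf (.up 5 342 3)))) (.node (.node (.leaf (.up 2 1731 3)) (.leaf (.up 5 1527 4))) (.node (.leaf (.up 3 846 2)) (.leaf (.up 4 1114 4))))) (.node (.node (.node (.leaf (.up 5 1619 3)) (.leaf (.up 5 1631 3))) (.node (.leaf (.up 3 2030 1)) (.leaf (.up 6 468 1)))) (.node (.node (.leaf (.up 6 1607 3)) (.leaf (.up 5 877 0))) (.node (.leaf (.up 4 881 1)) (.leaf (.up 6 144 4))))))) (.node (.node (.node (.node (.node (.leaf (.up 4 570 0)) (.leaf (.up 5 122 0))) (.node (.leaf (.up 3 20 4)) (.leaf (.up 5 1024 1)))) (.node (.node (.leaf (.up 5 217 3)) (.leaf (.up 6 671 1))) (.node (.leaf (.up 5 1876 3)) (.leaf (.up 4 1880 3))))) (.node (.node (.node (.leaf (.up 5 992 0)) (.leaf (.up 4 1964 2))) (.node (.leaf (.up 6 480 0)) (.leaf (.up 4 1315 4)))) (.node (.node (.leaf (.up 5 93 3)) (.leaf (.up 4 672 0))) (.node (.leaf (.up 5 111 4)) (.leaf (.up 5 160 0))))))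 (.node (.node (.node (.node (.leaf (.up 4 1382 1)) (.leaf (.up 4 602 0))) (.node (.leaf (.up 6 538 0)) (.leaf (.up 3 260 4)))) (.node (.node (.leaf (.up 5 794 0)) (.leaf (.up 3 485 2))) (.node (.leaf (.up 5 1904 3)) (.leaf (.up 4 1916 3))))) (.node (.node (.node (.leaf (.up 5 448 0)) (.leaf (.up 5 896 0))) (.node (.leaf (.up 4 1075 4)) (.leaf (.up 5 1486 4)))) (.node (.node (.leaf (.up 5 377 1)) (.leaf (.up 3 965 2))) (.node (.leaf (.up 5 130 4)) (.leaf (.up 5 453 2))))))))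

noncomputable def vt2_9_010 : Tr VStep := .node vt2_9_0100 vt2_9_0101

noncomputable def vt2_9_0110 : Tr VStep :=
  .node (.node (.node (.node (.node (.node (.node (.leaf (.up 4 1677 0)) (.leaf (.up 5 1671 3))) (.node (.leaf (.up 3 262 3)) (.leaf (.up 5 1741 0)))) (.node (.node (.leaf (.up 2 1163 2)) (.leaf (.up 4 1997 0))) (.node (.leaf (.up 2 274 3)) (.leaf (.up 6 1485 0))))) (.node (.node (.node (.leaf (.up 5 720 4)) (.leaf (.up 5 813 4))) (.node (.leaf (.up 5 1367 0)) (.leaf (.up 4 398 3)))) (.node (.node (.leaf (.up 6 1563 3)) (.leaf (.up 4 1905 2))) (.node (.leaf (.up 4 406 3)) (.leaf (.up 5 1585 4)))))) (.node (.node (.node (.node (.leaf (.up 5 1783 4)) (.leaf (.up 5 1699 3))) (.node (.leaf (.up 5 1882 4)) (.leaf (.up 6 1703 4)))) (.node (.node (.leaf (.up 2 1661 2)) (.leaf (.up 5 1517 0))) (.node (.leaf (.up 5 1096 1)) (.leaf (.up 4 534 4))))) (.node (.node (.node (.leaf (.up 6 1399 0)) (.leaf (.up 6 792 2))) (.node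 (.leaf (.up 6 422 3)) (.leaf (.up 4 280 2)))) (.node (.node (.leaf (.up 6 1676 4)) (.leaf (.up 4 1905 4))) (.node (.leaf (.up 5 434 3)) (.leaf (.up 5 1591 0))))))) (.node (.node (.node (.node (.node (.leaf (.up 6 1376 0)) (.leaf (.up 4 185 3))) (.node (.leaf (.up 6 357 2)) (.leaf (.up 5 191 2)))) (.node (.node (.leaf (.up 4 1530 2)) (.leaf (.up 5 1056 0))) (.node (.leaf (.up 6 745 4)) (.leaf (.up 4 788 4))))) (.node (.node (.node (.leaf (.up 5 1210 0)) (.leaf (.up 6 1786 0))) (.node (.leaf (.up 5 1980 3)) (.leaf (.up 6 879 4)))) (.node (.node (.leaf (.up 5 1934 4)) (.leaf (.up 4 1530 0))) (.node (.leaf (.up 5 1466 0)) (.leaf (.up 5 1024 2)))))) (.node (.node (.node (.node (.leaf (.up 5 145 3)) (.leaf (.up 5 1765 4))) (.node (.leaf (.up 4 1820 3)) (.leaf (.up 5 1765 1)))) (.node (.node (.leaf (.up 4 1088 0)) (.leaf (.up 3 1750 2))) (.node (.leaf (.up 4 516 4)) (.leaf (.up 5 1796 3))))) (.node (.node (.node (.leaf (.up 4 21 3))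 (.leaf (.up 6 1242 0))) (.node (.leaf (.up 3 1944 3)) (.leaf (.up 5 1637 1)))) (.node (.node (.leaf (.up 1 1 3)) (.leaf (.up 6 13 3))) (.node (.leaf (.up 5 1742 4)) (.leaf (.up 5 1920 3)))))))) (.node (.node (.node (.node (.node (.node (.leaf (.up 2 1947 1)) (.leaf (.up 4 1538 4))) (.node (.leaf (.up 3 528 2)) (.leaf (.up 4 929 1)))) (.node (.node (.leaf (.up 3 1679 2)) (.leaf (.up 5 691 4))) (.node (.leaf (.up 2 1423 0)) (.leaf (.up 5 794 3))))) (.node (.node (.node (.leaf (.up 5 560 2)) (.leaf (.up 5 1031 3))) (.node (.leaf (.up 5 902 3)) (.leaf (.up 5 906 3)))) (.node (.node (.leaf (.up 3 1199 2)) (.leaf (.up 6 1657 4))) (.node (.leaf (.up 5 1577 4)) (.leaf (.up 5 1557 0)))))) (.node (.node (.node (.node (.leaf (.up 4 742 2)) (.leaf (.up 5 1263 0))) (.node (.leaf (.up 3 1199 0)) (.leaf (.up 4 1789 1)))) (.node (.node (.leaf (.up 4 1145 2)) (.leaf (.up 4 1203 3))) (.node (.leaf (.up 4 818 3)) (.leaf (.up 5 830 3))))) (.node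 (.node (.node (.leaf (.up 6 984 4)) (.leaf (.up 5 1059 3))) (.node (.leaf (.up 4 930 3)) (.leaf (.up 2 1661 1)))) (.node (.node (.leaf (.up 3 1897 4)) (.leaf (.up 6 1684 4))) (.node (.leaf (.up 4 1653 0)) (.leaf (.up 6 954 3))))))) (.node (.node (.node (.node (.node (.leaf (.up 6 1552 4)) (.leaf (.up 6 701 3))) (.node (.leaf (.up 4 1378 0)) (.leaf (.up 5 1600 4)))) (.node (.node (.leaf (.up 4 780 1)) (.leaf (.up 5 681 3))) (.node (.leaf (.up 4 780 4)) (.leaf (.up 3 753 4))))) (.node (.node (.node (.leaf (.up 4 730 4)) (.leaf (.up 5 569 3))) (.node (.leaf (.up 4 1299 1)) (.leaf (.up 6 1784 0)))) (.node (.node (.leaf (.up 5 1643 4)) (.leaf (.up 6 1028 2))) (.node (.leaf (.up 5 2014 2)) (.leaf (.up 6 1528 0)))))) (.node (.node (.node (.node (.leaf (.up 4 1789 4)) (.leaf (.up 6 1792 4))) (.node (.leaf (.up 6 1858 0)) (.leaf (.up 5 1781 1)))) (.node (.node (.leaf (.up 6 641 3)) (.leaf (.up 5 653 3))) (.node (.leaf (.up 5 1292 3))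 (.leaf (.up 4 1746 2))))) (.node (.node (.node (.leaf (.up 6 439 2)) (.leaf (.up 5 1752 0))) (.node (.leaf (.up 6 1436 3)) (.leaf (.up 4 1653 1)))) (.node (.node (.leaf (.up 3 1944 0)) (.leaf (.up 5 1778 2))) (.node (.leaf (.up 3 1835 4)) (.leaf (.up 3 1750 4))))))))

noncomputable def vt2_9_0111 : Tr VStep :=
  .node (.node (.node (.node (.node (.node (.node (.leaf (.up 4 1331 2)) (.leaf (.up 4 96 3))) (.node (.leaf (.up 5 1843 2)) (.leaf (.up 5 46 4)))) (.node (.node (.leaf (.up 5 940 2)) (.leaf (.up 5 145 0))) (.node (.leaf (.up 4 1378 4)) (.leaf (.up 3 1183 4))))) (.node (.node (.node (.leaf (.up 3 1835 1)) (.leaf (.up 6 1353 4))) (.node (.leaf (.up 4 1299 2)) (.leaf (.up 3 1897 3)))) (.node (.node (.leaf (.up 3 5 4)) (.leaf (.up 5 240 3))) (.node (.leaf (.up 4 1905 3)) (.leaf (.up 4 598 2)))))) (.node (.node (.node (.node (.leaf (.up 4 1989 2)) (.leaf (.up 5 366 4))) (.node (.leaf (.up 4 1989 3)) (.leaf (.up 5 1741 1))))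 (.node (.node (.leaf (.up 3 346 2)) (.leaf (.up 6 80 3))) (.node (.leaf (.up 2 1423 4)) (.leaf (.up 4 2013 3))))) (.node (.node (.node (.leaf (.up 5 1509 2)) (.leaf (.up 5 1101 1))) (.node (.leaf (.up 4 43 0)) (.leaf (.up 4 1869 3)))) (.node (.node (.leaf (.up 6 890 2)) (.leaf (.up 4 277 4))) (.node (.leaf (.up 6 378 2)) (.leaf (.up 3 363 0))))))) (.node (.node (.node (.node (.node (.leaf (.up 4 1618 3)) (.leaf (.up 6 1630 3))) (.node (.leaf (.up 5 1443 1)) (.leaf (.up 3 1944 2)))) (.node (.node (.leaf (.up 5 828 1)) (.leaf (.up 5 775 2))) (.node (.leaf (.up 3 1165 4)) (.leaf (.up 6 380 0))))) (.node (.node (.node (.leaf (.up 3 1750 3)) (.leaf (.up 5 281 1))) (.node (.leaf (.up 2 486 0)) (.leaf (.up 2 343 3)))) (.node (.node (.leaf (.up 5 1730 3)) (.leaf (.up 5 295 2))) (.node (.leaf (.up 4 742 0)) (.leaf (.up 6 442 4)))))) (.node (.node (.node (.node (.leaf (.up 6 1654 3)) (.leaf (.up 4 1658 3))) (.node (.leaf (.up 6 540 0))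 (.leaf (.up 5 1390 2)))) (.node (.node (.leaf (.up 4 43 2)) (.leaf (.up 4 348 0))) (.node (.leaf (.up 6 495 3)) (.leaf (.up 4 483 3))))) (.node (.node (.node (.leaf (.up 5 1778 3)) (.leaf (.up 5 1790 3))) (.node (.leaf (.up 6 383 3)) (.leaf (.up 5 1870 2)))) (.node (.node (.leaf (.up 6 1760 1)) (.leaf (.up 5 977 2))) (.node (.leaf (.up 3 363 3)) (.leaf (.up 2 343 4)))))))) (.node (.node (.node (.node (.node (.node (.leaf (.up 5 616 3)) (.leaf (.up 5 403 0))) (.node (.leaf (.up 5 1509 3)) (.leaf (.up 6 1513 3)))) (.node (.node (.leaf (.up 6 1322 4)) (.leaf (.up 5 659 0))) (.node (.leaf (.up 5 936 2)) (.leaf (.up 4 1402 4))))) (.node (.node (.node (.leaf (.up 5 748 3)) (.leaf (.up 5 1196 4))) (.node (.leaf (.up 5 1377 3)) (.leaf (.up 5 1281 4)))) (.node (.node (.leaf (.up 5 932 1)) (.leaf (.up 6 756 3))) (.node (.leaf (.up 6 77 4)) (.leaf (.up 5 329 0)))))) (.node (.node (.node (.node (.leaf (.up 7 374 4)) (.leaf (.up 6 576 3)))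 (.node (.leaf (.up 6 219 4)) (.leaf (.up 5 435 0)))) (.node (.node (.leaf (.up 3 1479 4)) (.leaf (.up 6 1082 4))) (.node (.leaf (.up 2 1144 1)) (.leaf (.up 4 1431 4))))) (.node (.node (.node (.leaf (.up 4 615 1)) (.leaf (.up 6 1089 4))) (.node (.leaf (.up 5 1349 3)) (.leaf (.up 6 1353 3)))) (.node (.node (.leaf (.up 5 382 2)) (.leaf (.up 5 240 4))) (.node (.leaf (.up 5 160 4)) (.leaf (.up 4 349 4))))))) (.node (.node (.node (.node (.node (.leaf (.up 6 116 4)) (.leaf (.up 4 1114 3))) (.node (.leaf (.up 5 987 3)) (.leaf (.up 5 983 3)))) (.node (.node (.leaf (.up 5 217 2)) (.leaf (.up 5 382 0))) (.node (.leaf (.up 4 1384 4)) (.leaf (.up 5 1173 4))))) (.node (.node (.node (.leaf (.up 4 484 0)) (.leaf (.up 5 932 0))) (.node (.leaf (.up 4 1331 1)) (.leaf (.up 5 1980 2)))) (.node (.node (.leaf (.up 5 761 2)) (.leaf (.up 6 1226 3))) (.node (.leaf (.up 5 843 3)) (.leaf (.up 5 95 4)))))) (.node (.node (.node (.node (.leaf (.up 5 1138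 3)) (.leaf (.up 6 356 4))) (.node (.leaf (.up 6 1023 3)) (.leaf (.up 7 201 4)))) (.node (.node (.leaf (.up 4 1064 4)) (.leaf (.up 1 74 1))) (.node (.leaf (.up 5 47 2)) (.leaf (.up 2 1144 4))))) (.node (.node (.node (.leaf (.up 6 623 1)) (.leaf (.up 6 1866 2))) (.node (.leaf (.up 5 452 0)) (.leaf (.up 4 1354 2)))) (.node (.node (.leaf (.up 6 196 0)) (.leaf (.up 6 644 0))) (.node (.leaf (.up 5 335 4)) (.leaf (.up 4 178 4))))))))

noncomputable def vt2_9_011 : Tr VStep := .node vt2_9_0110 vt2_9_0111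

noncomputable def vt2_9_01 : Tr VStep := .node vt2_9_010 vt2_9_011

noncomputable def vt2_9_0 : Tr VStep := .node vt2_9_00 vt2_9_01

noncomputable def vt2_9_1000 : Tr VStep :=
  .node (.node (.node (.node (.node (.node (.node (.leaf (.root 988)) (.leaf (.up 5 746 3))) (.node (.leaf (.up 6 1387 3)) (.leaf (.up 5 1383 3)))) (.node (.node (.leaf (.up 6 1182 1)) (.leaf (.up 4 136 2))) (.node (.leaf (.up 6 1726 4)) (.leaf (.up 5 1859 4))))) (.node (.node (.node (.leaf (.up 4 1896 4)) (.leaf (.up 5 1356 0))) (.node (.leaf (.up 5 1733 4)) (.leaf (.up 5 1591 2)))) (.node (.node (.leaf (.up 6 985 4)) (.leaf (.up 5 1612 0))) (.node (.leaf (.up 5 628 4)) (.leaf (.up 5 1527 3)))))) (.node (.node (.node (.node (.leaf (.up 6 847 4)) (.leaf (.up 5 718 3))) (.node (.leaf (.up 3 1359 3)) (.leaf (.up 5 799 4)))) (.node (.node (.leaf (.up 4 2038 0)) (.leaf (.up 4 730 3))) (.node (.leaf (.up 5 1619 4)) (.leaf (.up 5 1367 3))))) (.node (.node (.node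 (.leaf (.up 5 1925 4)) (.leaf (.up 4 1729 2))) (.node (.leaf (.up 2 1576 4)) (.leaf (.up 3 1479 3)))) (.node (.node (.leaf (.up 5 1580 0)) (.leaf (.up 6 713 4))) (.node (.leaf (.up 5 900 2)) (.leaf (.up 6 868 4))))))) (.node (.node (.node (.node (.node (.leaf (.up 6 1724 2)) (.leaf (.up 5 944 4))) (.node (.leaf (.up 5 992 4)) (.leaf (.up 4 1382 2)))) (.node (.node (.leaf (.up 4 35 2)) (.leaf (.up 5 684 1))) (.node (.leaf (.up 6 833 3)) (.leaf (.up 5 172 1))))) (.node (.node (.node (.leaf (.up 5 1671 4)) (.leaf (.up 5 1715 1))) (.node (.leaf (.up 5 977 3)) (.leaf (.up 4 1203 1)))) (.node (.node (.leaf (.up 5 1096 3)) (.leaf (.up 6 1092 3))) (.node (.leaf (.up 3 965 3)) (.leaf (.up 5 614 4)))))) (.node (.node (.node (.node (.leaf (.up 4 672 4)) (.leaf (.up 5 1264 3))) (.node (.leaf (.up 4 881 3)) (.leaf (.up 5 1883 0)))) (.node (.node (.leaf (.up 5 1553 4)) (.leaf (.up 4 783 2))) (.node (.leaf (.up 5 1980 4)) (.leaf (.up 4 1520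 1))))) (.node (.node (.node (.leaf (.up 2 1144 3)) (.leaf (.up 6 1140 3))) (.node (.leaf (.up 3 1130 2)) (.leaf (.up 6 1456 2)))) (.node (.node (.leaf (.up 7 731 4)) (.leaf (.up 5 1904 1))) (.node (.leaf (.up 6 886 4)) (.leaf (.up 5 651 4)))))))) (.node (.node (.node (.node (.node (.node (.leaf (.up 5 1481 2)) (.leaf (.up 6 238 3))) (.node (.leaf (.up 5 1002 4)) (.leaf (.up 4 535 4)))) (.node (.node (.leaf (.up 5 854 2)) (.leaf (.up 6 1428 0))) (.node (.leaf (.up 4 1678 1)) (.leaf (.up 6 1940 0))))) (.node (.node (.node (.leaf (.up 4 1677 4)) (.leaf (.up 5 1904 4))) (.node (.leaf (.up 4 1806 0)) (.leaf (.up 4 1075 2)))) (.node (.node (.leaf (.up 5 1038 1)) (.leaf (.up 5 172 2))) (.node (.leaf (.up 4 2047 3)) (.leaf (.up 5 2035 3)))))) (.node (.node (.node (.node (.leaf (.up 5 1780 0)) (.leaf (.up 5 887 1))) (.node (.leaf (.up 4 1869 1)) (.leaf (.up 5 762 4)))) (.node (.node (.leaf (.up 6 1524 0)) (.leaf (.up 5 122 2))) (.node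 (.leaf (.up 6 928 2)) (.leaf (.up 6 1512 1))))) (.node (.node (.node (.leaf (.up 5 1632 4)) (.leaf (.up 3 1949 4))) (.node (.leaf (.up 4 1997 1)) (.leaf (.up 5 1733 2)))) (.node (.node (.leaf (.up 5 721 4)) (.leaf (.up 4 1896 1))) (.node (.leaf (.up 4 1582 0)) (.leaf (.up 4 1384 1))))))) (.node (.node (.node (.node (.node (.leaf (.up 5 936 4)) (.leaf (.up 4 1378 2))) (.node (.leaf (.up 5 517 4)) (.leaf (.up 4 349 3)))) (.node (.node (.leaf (.up 5 551 2)) (.leaf (.up 6 1657 0))) (.node (.leaf (.up 5 1670 1)) (.leaf (.up 4 1145 0))))) (.node (.node (.node (.leaf (.up 6 1624 3)) (.leaf (.up 4 1695 4))) (.node (.leaf (.up 6 1251 0)) (.leaf (.up 5 1842 4)))) (.node (.node (.leaf (.up 5 1612 3)) (.leaf (.up 5 1600 3))) (.node (.leaf (.up 6 519 2)) (.leaf (.up 5 461 3)))))) (.node (.node (.node (.node (.leaf (.up 5 1305 0)) (.leaf (.up 5 1780 3))) (.node (.leaf (.up 4 373 3)) (.leaf (.up 5 377 3)))) (.node (.node (.leaf (.up 6 209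 2)) (.leaf (.up 5 1113 0))) (.node (.leaf (.up 3 1625 4)) (.leaf (.up 3 1625 0))))) (.node (.node (.node (.leaf (.up 4 1935 4)) (.leaf (.up 6 1023 1))) (.node (.leaf (.up 2 1731 0)) (.leaf (.up 6 1972 2)))) (.node (.node (.leaf (.up 3 753 2)) (.leaf (.up 5 1636 3))) (.node (.leaf (.up 3 485 3)) (.leaf (.up 6 489 3))))))))

noncomputable def vt2_9_1001 : Tr VStep :=
  .node (.node (.node (.node (.node (.node (.node (.leaf (.up 5 394 0)) (.leaf (.up 5 970 0))) (.node (.leaf (.up 5 746 2)) (.leaf (.up 5 896 3)))) (.node (.node (.leaf (.up 4 1653 2)) (.leaf (.up 5 1967 2))) (.node (.leaf (.up 6 1726 1)) (.leaf (.up 5 295 4))))) (.node (.node (.node (.leaf (.up 5 1157 3)) (.leaf (.up 2 1691 1))) (.node (.leaf (.up 6 776 3)) (.leaf (.up 3 272 2)))) (.node (.node (.leaf (.up 5 1086 1)) (.leaf (.up 2 1423 2))) (.node (.leaf (.up 6 796 3)) (.leaf (.up 4 1935 2)))))) (.node (.node (.node (.node (.leaf (.up 6 540 2)) (.leaf (.up 6 839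 1))) (.node (.leaf (.up 5 936 3)) (.leaf (.up 5 1403 4)))) (.node (.node (.leaf (.up 4 482 1)) (.leaf (.up 5 746 0))) (.node (.leaf (.up 5 956 3)) (.leaf (.up 5 944 3))))) (.node (.node (.node (.leaf (.up 6 1185 3)) (.leaf (.up 2 486 2))) (.node (.leaf (.up 5 812 3)) (.leaf (.up 5 560 0)))) (.node (.node (.leaf (.up 5 1360 4)) (.leaf (.up 4 1880 1))) (.node (.leaf (.up 5 866 1)) (.leaf (.up 6 1401 2))))))) (.node (.node (.node (.node (.node (.leaf (.up 4 615 0)) (.leaf (.up 5 1492 4))) (.node (.leaf (.up 6 1412 4)) (.leaf (.up 4 1145 4)))) (.node (.node (.leaf (.up 5 1796 2)) (.leaf (.up 5 551 3))) (.node (.leaf (.up 5 1446 3)) (.leaf (.up 5 295 0))))) (.node (.node (.node (.leaf (.up 5 227 4)) (.leaf (.up 5 695 3))) (.node (.leaf (.up 4 334 4)) (.leaf (.up 5 97 2)))) (.node (.node (.leaf (.up 6 1316 2)) (.leaf (.up 6 675 3))) (.node (.leaf (.up 4 1535 4)) (.leaf (.up 5 1790 2)))))) (.node (.node (.node (.node (.leaf (.up 5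 877 2)) (.leaf (.up 4 535 3))) (.node (.leaf (.up 5 1385 4)) (.leaf (.up 5 335 1)))) (.node (.node (.leaf (.up 6 839 0)) (.leaf (.up 4 1064 2))) (.node (.leaf (.up 5 327 0)) (.leaf (.up 2 1576 2))))) (.node (.node (.node (.leaf (.up 4 333 2)) (.leaf (.up 5 659 3))) (.node (.leaf (.up 5 845 2)) (.leaf (.up 6 1310 3)))) (.node (.node (.leaf (.up 5 669 0)) (.leaf (.up 5 1544 2))) (.node (.leaf (.up 5 1286 3)) (.leaf (.up 4 1032 2)))))))) (.node (.node (.node (.node (.node (.node (.leaf (.up 5 1541 3)) (.leaf (.up 5 1547 1))) (.node (.leaf (.up 6 561 1)) (.leaf (.up 6 308 2)))) (.node (.node (.leaf (.up 4 136 0)) (.leaf (.up 4 660 1))) (.node (.leaf (.up 3 1710 1)) (.leaf (.up 6 1963 2))))) (.node (.node (.node (.leaf (.up 5 233 4)) (.leaf (.up 4 18 0))) (.node (.leaf (.up 5 718 2)) (.leaf (.up 2 1163 1)))) (.node (.node (.leaf (.up 6 1112 4)) (.leaf (.up 3 1689 3))) (.node (.leaf (.up 4 280 3)) (.leaf (.up 2 274 0)))))) (.node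 (.node (.node (.node (.leaf (.up 5 1569 3)) (.leaf (.up 4 1331 4))) (.node (.leaf (.up 4 536 2)) (.leaf (.up 2 343 1)))) (.node (.node (.leaf (.up 5 1671 2)) (.leaf (.up 5 1885 2))) (.node (.leaf (.up 6 466 4)) (.leaf (.up 5 47 4))))) (.node (.node (.node (.leaf (.up 4 4 4)) (.leaf (.up 5 983 1))) (.node (.leaf (.up 5 626 0)) (.leaf (.up 4 84 4)))) (.node (.node (.leaf (.up 6 1713 3)) (.leaf (.up 4 1352 4))) (.node (.leaf (.up 5 316 3)) (.leaf (.up 4 1352 1))))))) (.node (.node (.node (.node (.node (.leaf (.up 6 1484 4)) (.leaf (.up 5 581 2))) (.node (.leaf (.up 4 415 2)) (.leaf (.up 4 69 2)))) (.node (.node (.leaf (.up 5 47 3)) (.leaf (.up 4 35 3))) (.node (.leaf (.up 6 357 0)) (.leaf (.up 7 156 1))))) (.node (.node (.node (.leaf (.up 3 262 4)) (.leaf (.up 4 251 4))) (.node (.leaf (.up 5 1842 3)) (.leaf (.up 5 613 2)))) (.node (.node (.leaf (.up 5 1062 1)) (.leaf (.up 6 1098 4))) (.node (.leaf (.up 5 1830 3)) (.leaf (.up 5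 1511 4)))))) (.node (.node (.node (.node (.leaf (.up 5 581 0)) (.leaf (.up 3 5 0))) (.node (.leaf (.up 4 69 0)) (.leaf (.up 5 517 0)))) (.node (.node (.leaf (.up 4 2038 2)) (.leaf (.up 5 773 0))) (.node (.leaf (.up 6 1526 2)) (.leaf (.up 4 1472 1))))) (.node (.node (.node (.leaf (.up 5 1509 1)) (.leaf (.up 3 22 4))) (.node (.leaf (.up 4 415 0)) (.leaf (.up 4 147 2)))) (.node (.node (.leaf (.up 6 1370 4)) (.leaf (.up 5 131 3))) (.node (.leaf (.up 6 671 0)) (.leaf (.up 4 1806 3))))))))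

noncomputable def vt2_9_100 : Tr VStep := .node vt2_9_1000 vt2_9_1001

noncomputable def vt2_9_1010 : Tr VStep :=
  .node (.node (.node (.node (.node (.node (.node (.leaf (.up 2 1661 3)) (.leaf (.up 5 1031 2))) (.node (.leaf (.up 4 1746 0)) (.leaf (.up 4 508 3)))) (.node (.node (.leaf (.up 5 791 1)) (.leaf (.up 5 1827 4))) (.node (.leaf (.up 4 484 3)) (.leaf (.up 4 1678 4))))) (.node (.node (.node (.leaf (.up 5 1785 3)) (.leaf (.up 4 1880 4))) (.node (.leaf (.up 5 372 3)) (.leaf (.up 4 1352 0)))) (.node (.node (.leaf (.up 4 532 4)) (.leaf (.up 5 1096 0))) (.node (.leaf (.up 4 1032 0)) (.leaf (.up 4 1608 0)))))) (.node (.node (.node (.node (.leaf (.up 3 1625 3)) (.leaf (.up 5 895 4))) (.node (.leaf (.up 4 212 1)) (.leaf (.up 5 722 4)))) (.node (.node (.leaf (.up 6 1522 0)) (.leaf (.up 4 1998 4))) (.node (.leaf (.up 5 948 2)) (.leaf (.up 5 625 1))))) (.node (.node (.node (.leaf (.up 4 1608 4)) (.leaf (.up 4 1233 2))) (.node (.leaf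 (.up 4 84 1)) (.leaf (.up 4 348 3)))) (.node (.node (.leaf (.up 4 1064 0)) (.leaf (.up 5 1733 3))) (.node (.leaf (.up 2 1576 0)) (.leaf (.up 3 1128 0))))))) (.node (.node (.node (.node (.node (.leaf (.up 5 1920 1)) (.leaf (.up 5 637 4))) (.node (.leaf (.up 4 1998 3)) (.leaf (.up 5 1986 3)))) (.node (.node (.leaf (.up 5 1841 4)) (.leaf (.up 5 91 3))) (.node (.leaf (.up 6 51 2)) (.leaf (.up 5 1889 4))))) (.node (.node (.node (.leaf (.up 5 199 3)) (.leaf (.up 5 203 3))) (.node (.leaf (.up 6 1866 3)) (.leaf (.up 5 1862 3)))) (.node (.node (.leaf (.up 5 1509 0)) (.leaf (.up 4 518 4))) (.node (.leaf (.up 4 415 1)) (.leaf (.up 5 1445 0)))))) (.node (.node (.node (.node (.leaf (.up 5 877 4)) (.leaf (.up 5 1920 2))) (.node (.leaf (.up 4 1114 2)) (.leaf (.up 4 1375 0)))) (.node (.node (.leaf (.up 5 197 2)) (.leaf (.up 5 1569 4))) (.node (.leaf (.up 5 709 2)) (.leaf (.up 5 1631 0))))) (.node (.node (.node (.leaf (.up 5 604 1)) (.leaf (.up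 5 1669 0))) (.node (.leaf (.up 4 1658 2)) (.leaf (.up 4 1952 2)))) (.node (.node (.leaf (.up 2 1731 1)) (.leaf (.up 4 251 3))) (.node (.leaf (.up 5 1914 3)) (.leaf (.up 5 1910 3)))))))) (.node (.node (.node (.node (.node (.node (.leaf (.up 3 1944 1)) (.leaf (.up 6 631 4))) (.node (.leaf (.up 5 1012 3)) (.leaf (.up 4 930 1)))) (.node (.node (.leaf (.up 3 326 2)) (.leaf (.up 5 1734 4))) (.node (.leaf (.up 5 992 3)) (.leaf (.up 5 1899 4))))) (.node (.node (.node (.leaf (.up 5 1816 1)) (.leaf (.up 4 1354 0))) (.node (.leaf (.up 5 2041 2)) (.leaf (.up 6 1866 0)))) (.node (.node (.leaf (.up 4 1009 4)) (.leaf (.up 6 700 2))) (.node (.leaf (.up 5 604 4)) (.leaf (.up 4 929 4)))))) (.node (.node (.node (.node (.leaf (.up 5 1264 0)) (.leaf (.up 6 666 4))) (.node (.leaf (.up 5 1839 2)) (.leaf (.up 5 1781 2)))) (.node (.node (.leaf (.up 5 944 2)) (.leaf (.up 5 97 1))) (.node (.leaf (.up 4 1520 0)) (.leaf (.up 5 106 2))))) (.node (.node (.node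 (.leaf (.up 6 1241 3)) (.leaf (.up 7 1616 4))) (.node (.leaf (.up 5 852 3)) (.leaf (.up 7 2045 4)))) (.node (.node (.leaf (.up 5 1578 0)) (.leaf (.up 1 74 2))) (.node (.leaf (.up 5 1066 0)) (.leaf (.up 4 586 2))))))) (.node (.node (.node (.node (.node (.leaf (.up 5 613 4)) (.leaf (.up 6 587 3))) (.node (.leaf (.up 6 1192 2)) (.leaf (.up 5 1478 3)))) (.node (.node (.leaf (.up 4 783 1)) (.leaf (.up 5 607 3))) (.node (.leaf (.up 5 1913 4)) (.leaf (.up 2 1661 0))))) (.node (.node (.node (.leaf (.up 6 1808 1)) (.leaf (.up 5 1362 2))) (.node (.leaf (.up 5 1672 2)) (.leaf (.up 5 1874 2)))) (.node (.node (.leaf (.up 4 535 2)) (.leaf (.up 5 1447 0))) (.node (.leaf (.up 5 1511 0)) (.leaf (.up 5 461 2)))))) (.node (.node (.node (.node (.leaf (.up 5 648 4)) (.leaf (.up 5 885 4))) (.node (.leaf (.up 6 1630 2)) (.leaf (.up 3 1924 2)))) (.node (.node (.leaf (.up 3 705 2)) (.leaf (.up 6 635 3))) (.node (.leaf (.up 4 1530 3)) (.leaf (.up 6 1526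 3))))) (.node (.node (.node (.leaf (.up 6 1602 4)) (.leaf (.up 5 1956 2))) (.node (.leaf (.up 6 2031 4)) (.leaf (.up 4 1382 3)))) (.node (.node (.leaf (.up 3 1479 0)) (.leaf (.up 5 315 2))) (.node (.leaf (.up 2 1406 3)) (.leaf (.up 6 745 1))))))))

noncomputable def vt2_9_1011 : Tr VStep :=
  .node (.node (.node (.node (.node (.node (.node (.leaf (.up 5 762 2)) (.leaf (.up 6 1526 4))) (.node (.leaf (.up 4 398 0)) (.leaf (.up 5 914 1)))) (.node (.node (.leaf (.up 4 142 0)) (.leaf (.up 5 1471 2))) (.node (.leaf (.up 5 1637 2)) (.leaf (.up 6 1807 3))))) (.node (.node (.node (.leaf (.up 6 193 4)) (.leaf (.up 2 274 1))) (.node (.leaf (.up 4 84 0)) (.leaf (.up 3 1951 3)))) (.node (.node (.leaf (.up 6 10 3)) (.leaf (.up 3 1951 2))) (.node (.leaf (.up 5 852 0)) (.leaf (.up 4 276 0)))))) (.node (.node (.node (.node (.leaf (.up 5 190 3)) (.leaf (.up 4 470 2))) (.node (.leaf (.up 5 1843 3)) (.leaf (.up 5 982 2)))) (.node (.node (.leaf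 (.up 3 686 0)) (.leaf (.up 6 238 0))) (.node (.leaf (.up 4 174 0)) (.leaf (.up 3 1835 3))))) (.node (.node (.node (.leaf (.up 5 58 3)) (.leaf (.up 4 1014 2))) (.node (.leaf (.up 5 1975 3)) (.leaf (.up 4 502 2)))) (.node (.node (.leaf (.up 4 1181 4)) (.leaf (.up 5 34 3))) (.node (.leaf (.up 5 372 0)) (.leaf (.up 3 1897 2))))))) (.node (.node (.node (.node (.node (.leaf (.up 4 1952 1)) (.leaf (.up 5 593 2))) (.node (.leaf (.up 6 395 2)) (.leaf (.up 4 35 0)))) (.node (.node (.leaf (.up 6 1712 3)) (.leaf (.up 6 1724 3))) (.node (.leaf (.up 4 1812 2)) (.leaf (.up 5 1797 1))))) (.node (.node (.node (.leaf (.up 4 1568 3)) (.leaf (.up 5 1580 3))) (.node (.leaf (.up 5 939 2)) (.leaf (.up 5 794 1)))) (.node (.node (.leaf (.up 4 1588 3)) (.leaf (.up 6 1592 3))) (.node (.leaf (.up 3 1332 2)) (.leaf (.up 5 761 0)))))) (.node (.node (.node (.node (.leaf (.up 6 381 2)) (.leaf (.up 6 1676 3))) (.node (.leaf (.up 5 67 0)) (.leaf (.up 5 1734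 1)))) (.node (.node (.leaf (.up 6 2018 2)) (.leaf (.up 4 69 4))) (.node (.leaf (.up 4 21 4)) (.leaf (.up 4 277 3))))) (.node (.node (.node (.leaf (.up 5 451 4)) (.leaf (.up 5 1544 3))) (.node (.leaf (.up 4 349 2)) (.leaf (.up 5 389 3)))) (.node (.node (.leaf (.up 6 1552 3)) (.leaf (.up 4 1167 4))) (.node (.leaf (.up 5 1986 2)) (.leaf (.up 5 217 0)))))))) (.node (.node (.node (.node (.node (.node (.leaf (.up 6 1976 1)) (.leaf (.up 5 386 1))) (.node (.leaf (.up 4 1299 3)) (.leaf (.up 7 898 1)))) (.node (.node (.leaf (.up 6 1633 2)) (.leaf (.up 6 646 3))) (.node (.leaf (.up 5 295 1)) (.leaf (.up 5 1291 3))))) (.node (.node (.node (.leaf (.up 5 86 0)) (.leaf (.up 3 258 1))) (.node (.leaf (.up 4 1431 3)) (.leaf (.up 3 260 2)))) (.node (.node (.leaf (.up 5 854 0)) (.leaf (.up 3 1128 4))) (.node (.leaf (.up 4 1080 4)) (.leaf (.up 2 1947 2)))))) (.node (.node (.node (.node (.leaf (.up 4 520 2)) (.leaf (.up 5 694 3))) (.node (.leaf (.up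 6 428 0)) (.leaf (.up 6 466 2)))) (.node (.node (.leaf (.up 3 686 3)) (.leaf (.up 5 748 0))) (.node (.leaf (.up 4 1315 3)) (.leaf (.up 4 577 1))))) (.node (.node (.node (.leaf (.up 6 40 2)) (.leaf (.up 7 498 2))) (.node (.leaf (.up 5 118 0)) (.leaf (.up 5 1471 3)))) (.node (.node (.leaf (.up 5 554 3)) (.leaf (.up 5 1901 2))) (.node (.leaf (.up 4 1207 2)) (.leaf (.up 3 705 1))))))) (.node (.node (.node (.node (.node (.leaf (.up 5 609 0)) (.leaf (.up 5 394 1))) (.node (.leaf (.up 5 813 3)) (.leaf (.up 5 906 1)))) (.node (.node (.leaf (.up 6 815 1)) (.leaf (.up 4 333 4))) (.node (.leaf (.up 6 865 0)) (.leaf (.up 5 224 4))))) (.node (.node (.node (.leaf (.up 5 203 4)) (.leaf (.up 4 1064 3))) (.node (.leaf (.up 5 358 4)) (.leaf (.up 4 778 1)))) (.node (.node (.leaf (.up 5 1146 4)) (.leaf (.up 6 1258 2))) (.node (.leaf (.up 5 1495 4)) (.leaf (.up 4 251 0)))))) (.node (.node (.node (.node (.leaf (.up 5 1156 3)) (.leaf (.up 6 1238 1)))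 (.node (.leaf (.up 4 577 0)) (.leaf (.up 1 1 0)))) (.node (.node (.leaf (.up 5 93 4)) (.leaf (.up 6 416 4))) (.node (.leaf (.up 5 321 0)) (.leaf (.up 5 785 3))))) (.node (.node (.node (.leaf (.up 5 1024 3)) (.leaf (.up 5 987 0))) (.node (.leaf (.up 6 909 3)) (.leaf (.up 3 643 2)))) (.node (.node (.leaf (.up 6 1175 4)) (.leaf (.up 6 1564 2))) (.node (.leaf (.up 5 921 3)) (.leaf (.up 6 917 3))))))))

noncomputable def vt2_9_101 : Tr VStep := .node vt2_9_1010 vt2_9_1011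

noncomputable def vt2_9_10 : Tr VStep := .node vt2_9_100 vt2_9_101

noncomputable def vt2_9_1100 : Tr VStep :=
  .node (.node (.node (.node (.node (.node (.node (.leaf (.up 6 580 2)) (.leaf (.up 5 1670 0))) (.node (.leaf (.up 5 1734 0)) (.leaf (.up 6 1379 3)))) (.node (.node (.leaf (.up 5 1243 2)) (.leaf (.up 5 762 3))) (.node (.leaf (.up 5 1403 3)) (.leaf (.up 6 1793 2))))) (.node (.node (.node (.leaf (.up 4 1308 0)) (.leaf (.up 6 618 3))) (.node (.leaf (.up 2 274 4)) (.leaf (.up 5 1511 3)))) (.node (.node (.leaf (.up 5 1038 4)) (.leaf (.up 6 1825 2))) (.node (.leaf (.up 4 1535 3)) (.leaf (.up 6 1628 0)))))) (.node (.node (.node (.node (.leaf (.up 4 1375 1)) (.leaf (.up 6 1381 4))) (.node (.leaf (.up 6 1333 4)) (.leaf (.up 6 357 1)))) (.node (.node (.leaf (.up 5 722 3)) (.leaf (.up 6 468 4))) (.node (.leaf (.up 4 1375 3)) (.leaf (.up 4 1530 1))))) (.node (.node (.node (.leaf (.up 5 1852 0)) (.leaf (.up 4 840 2))) (.node (.leaf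 (.up 6 1487 3)) (.leaf (.up 1 2 4)))) (.node (.node (.leaf (.up 4 598 3)) (.leaf (.up 4 602 3))) (.node (.leaf (.up 5 1596 0)) (.leaf (.up 4 1203 4))))))) (.node (.node (.node (.node (.node (.leaf (.up 3 1835 0)) (.leaf (.up 4 1127 4))) (.node (.leaf (.up 5 309 2)) (.leaf (.up 5 1899 0)))) (.node (.node (.leaf (.up 6 1450 2)) (.leaf (.up 3 686 1))) (.node (.leaf (.up 6 837 3)) (.leaf (.up 4 174 1))))) (.node (.node (.node (.leaf (.up 4 277 2)) (.leaf (.up 5 173 4))) (.node (.leaf (.up 5 651 1)) (.leaf (.up 4 256 4)))) (.node (.node (.leaf (.up 5 1100 3)) (.leaf (.up 4 1088 3))) (.node (.leaf (.up 5 1100 4)) (.leaf (.up 5 46 1)))))) (.node (.node (.node (.node (.leaf (.up 5 1367 1)) (.leaf (.up 5 877 1))) (.node (.leaf (.up 5 885 3)) (.leaf (.up 6 1319 4)))) (.node (.node (.leaf (.up 5 1547 0)) (.leaf (.up 5 1670 2))) (.node (.leaf (.up 6 865 3)) (.leaf (.up 4 406 4))))) (.node (.node (.node (.leaf (.up 4 1233 0)) (.leaf (.up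 5 569 2))) (.node (.leaf (.up 4 483 2)) (.leaf (.up 6 1169 0)))) (.node (.node (.leaf (.up 3 1128 3)) (.leaf (.up 5 1124 3))) (.node (.leaf (.up 4 1916 2)) (.leaf (.up 6 1394 1)))))))) (.node (.node (.node (.node (.node (.node (.leaf (.up 5 230 3)) (.leaf (.up 5 1577 1))) (.node (.leaf (.up 5 1899 3)) (.leaf (.up 4 1472 4)))) (.node (.node (.leaf (.up 5 289 4)) (.leaf (.up 3 1924 0))) (.node (.leaf (.up 6 1676 1)) (.leaf (.up 5 182 1))))) (.node (.node (.node (.leaf (.up 3 346 4)) (.leaf (.up 6 167 4))) (.node (.leaf (.up 4 96 2)) (.leaf (.up 5 1886 0)))) (.node (.node (.leaf (.up 4 1515 4)) (.leaf (.up 5 122 3))) (.node (.leaf (.up 6 1094 4)) (.leaf (.up 6 1467 4)))))) (.node (.node (.node (.node (.leaf (.up 3 1359 1)) (.leaf (.up 5 885 1))) (.node (.leaf (.up 5 1232 4)) (.leaf (.up 4 373 1)))) (.node (.node (.leaf (.up 4 2020 0)) (.leaf (.up 6 2026 1))) (.node (.leaf (.up 5 1577 2)) (.leaf (.up 5 2035 2))))) (.node (.node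 (.node (.leaf (.up 6 439 4)) (.leaf (.up 1 74 3))) (.node (.leaf (.up 5 26 4)) (.leaf (.up 2 1406 0)))) (.node (.node (.leaf (.up 5 1286 4)) (.leaf (.up 5 1275 4))) (.node (.leaf (.up 5 1086 0)) (.leaf (.up 5 1366 4))))))) (.node (.node (.node (.node (.node (.leaf (.up 5 1752 3)) (.leaf (.up 3 1897 0))) (.node (.leaf (.up 6 1490 4)) (.leaf (.up 5 1385 0)))) (.node (.node (.leaf (.up 5 1577 0)) (.leaf (.up 3 1728 3))) (.node (.leaf (.up 5 321 3)) (.leaf (.up 4 333 3))))) (.node (.node (.node (.leaf (.up 5 785 2)) (.leaf (.up 3 715 2))) (.node (.leaf (.up 4 280 4)) (.leaf (.up 4 1203 0)))) (.node (.node (.leaf (.up 4 1608 3)) (.leaf (.up 5 1604 3))) (.node (.leaf (.up 5 1934 2)) (.leaf (.up 5 1620 2)))))) (.node (.node (.node (.node (.leaf (.up 4 967 2)) (.leaf (.up 5 541 2))) (.node (.leaf (.up 6 1343 4)) (.leaf (.up 5 1218 4)))) (.node (.node (.leaf (.up 4 35 4)) (.leaf (.up 6 1609 0))) (.node (.leaf (.up 4 1880 2)) (.leaf (.up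 5 115 4))))) (.node (.node (.node (.leaf (.up 3 1479 1)) (.leaf (.up 6 1652 3))) (.node (.leaf (.up 2 1235 0)) (.leaf (.up 6 1683 0)))) (.node (.node (.leaf (.up 6 1257 4)) (.leaf (.up 5 1632 3))) (.node (.leaf (.up 6 1348 4)) (.leaf (.up 4 1378 1))))))))

noncomputable def vt2_9_1101 : Tr VStep :=
  .node (.node (.node (.node (.node (.node (.node (.leaf (.up 4 35 1)) (.leaf (.up 5 1209 2))) (.node (.leaf (.up 5 1891 2)) (.leaf (.up 4 577 4)))) (.node (.node (.leaf (.up 5 1020 2)) (.leaf (.up 4 730 0))) (.node (.leaf (.up 4 508 2)) (.leaf (.up 6 912 3))))) (.node (.node (.node (.leaf (.up 5 163 1)) (.leaf (.up 1 0 0))) (.node (.leaf (.up 4 780 3)) (.leaf (.up 3 768 3)))) (.node (.node (.leaf (.up 5 320 0)) (.leaf (.up 3 768 0))) (.node (.leaf (.up 4 967 4)) (.leaf (.up 4 788 3)))))) (.node (.node (.node (.node (.leaf (.up 5 1941 2)) (.leaf (.up 6 1615 2))) (.node (.leaf (.up 5 940 3)) (.leaf (.up 5 684 4)))) (.node (.node (.leaf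 (.up 6 480 1)) (.leaf (.up 6 1081 3))) (.node (.leaf (.up 4 778 2)) (.leaf (.up 5 948 3))))) (.node (.node (.node (.leaf (.up 4 96 0)) (.leaf (.up 3 965 1))) (.node (.leaf (.up 2 1947 4)) (.leaf (.up 5 453 1)))) (.node (.node (.leaf (.up 5 1201 3)) (.leaf (.up 5 1882 1))) (.node (.leaf (.up 5 828 3)) (.leaf (.up 5 240 2))))))) (.node (.node (.node (.node (.node (.leaf (.up 3 1042 2)) (.leaf (.up 5 1553 1))) (.node (.leaf (.up 5 1554 2)) (.leaf (.up 5 942 4)))) (.node (.node (.leaf (.up 5 887 0)) (.leaf (.up 5 654 1))) (.node (.leaf (.up 5 1762 4)) (.leaf (.up 2 343 2))))) (.node (.node (.node (.leaf (.up 5 703 3)) (.leaf (.up 5 2024 2))) (.node (.leaf (.up 3 1689 4)) (.leaf (.up 6 1169 1)))) (.node (.node (.leaf (.up 4 683 3)) (.leaf (.up 6 679 3))) (.node (.leaf (.up 4 1588 1)) (.leaf (.up 5 887 2)))))) (.node (.node (.node (.node (.leaf (.up 6 1399 1)) (.leaf (.up 5 845 1))) (.node (.leaf (.up 5 1252 2)) (.leaf (.up 4 333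 1)))) (.node (.node (.leaf (.up 2 343 0)) (.leaf (.up 5 1631 4))) (.node (.leaf (.up 5 1414 3)) (.leaf (.up 4 929 2))))) (.node (.node (.node (.leaf (.up 5 1527 1)) (.leaf (.up 5 461 0))) (.node (.leaf (.up 6 1652 4)) (.leaf (.up 5 461 1)))) (.node (.node (.leaf (.up 6 360 1)) (.leaf (.up 3 643 3))) (.node (.leaf (.up 5 1282 3)) (.leaf (.up 5 1362 1)))))))) (.node (.node (.node (.node (.node (.node (.leaf (.up 5 1895 2)) (.leaf (.up 5 1725 2))) (.node (.leaf (.up 5 601 4)) (.leaf (.up 5 932 4)))) (.node (.node (.leaf (.up 5 664 0)) (.leaf (.up 5 34 2))) (.node (.leaf (.up 6 1768 4)) (.leaf (.up 5 404 3))))) (.node (.node (.node (.leaf (.up 5 1669 3)) (.leaf (.up 2 1731 4))) (.node (.leaf (.up 5 691 1)) (.leaf (.up 1 2 0)))) (.node (.node (.leaf (.up 5 1681 3)) (.leaf (.up 3 258 0))) (.node (.leaf (.up 5 1580 1)) (.leaf (.up 1 2 2)))))) (.node (.node (.node (.node (.leaf (.up 4 793 4)) (.leaf (.up 5 1577 3))) (.node (.leaf (.up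 6 1937 2)) (.leaf (.up 6 1016 0)))) (.node (.node (.leaf (.up 5 782 2)) (.leaf (.up 5 1994 1))) (.node (.leaf (.up 5 1541 4)) (.leaf (.up 4 212 2))))) (.node (.node (.node (.leaf (.up 5 1697 3)) (.leaf (.up 4 1582 4))) (.node (.leaf (.up 6 1457 2)) (.leaf (.up 6 1131 2)))) (.node (.node (.leaf (.up 5 354 0)) (.leaf (.up 6 1866 1))) (.node (.leaf (.up 4 814 2)) (.leaf (.up 4 1354 1))))))) (.node (.node (.node (.node (.node (.leaf (.up 5 1558 2)) (.leaf (.up 6 53 0))) (.node (.leaf (.up 5 1970 3)) (.leaf (.up 6 1025 1)))) (.node (.node (.leaf (.up 4 43 3)) (.leaf (.up 5 339 2))) (.node (.leaf (.up 5 885 0)) (.leaf (.up 5 309 0))))) (.node (.node (.node (.leaf (.up 6 1745 4)) (.leaf (.up 6 183 3))) (.node (.leaf (.up 4 1916 4)) (.leaf (.up 5 1850 3)))) (.node (.node (.leaf (.up 5 608 4)) (.leaf (.up 5 163 3))) (.node (.leaf (.up 6 973 4)) (.leaf (.up 5 560 4)))))) (.node (.node (.node (.node (.leaf (.up 5 1383 1)) (.leaf (.up 5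 779 4))) (.node (.leaf (.up 5 1895 1)) (.leaf (.up 4 349 1)))) (.node (.node (.leaf (.up 5 853 0)) (.leaf (.up 4 277 0))) (.node (.leaf (.up 6 1922 3)) (.leaf (.up 5 1934 3))))) (.node (.node (.node (.leaf (.up 3 1728 2)) (.leaf (.up 4 147 3))) (.node (.leaf (.up 6 1216 2)) (.leaf (.up 5 1822 3)))) (.node (.node (.leaf (.up 5 653 4)) (.leaf (.up 5 389 2))) (.node (.leaf (.up 5 888 1)) (.leaf (.up 5 901 2))))))))

noncomputable def vt2_9_110 : Tr VStep := .node vt2_9_1100 vt2_9_1101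

noncomputable def vt2_9_1110 : Tr VStep :=
  .node (.node (.node (.node (.node (.node (.node (.leaf (.up 4 84 2)) (.leaf (.up 4 398 2))) (.node (.leaf (.up 5 500 3)) (.leaf (.up 5 1666 0)))) (.node (.node (.leaf (.up 5 265 4)) (.leaf (.up 6 244 4))) (.node (.leaf (.up 4 277 1)) (.leaf (.up 5 1839 1))))) (.node (.node (.node (.leaf (.up 4 1789 3)) (.leaf (.up 5 942 2))) (.node (.leaf (.up 5 223 4)) (.leaf (.up 4 1880 0)))) (.node (.node (.leaf (.up 5 1475 4)) (.leaf (.up 5 1086 4))) (.node (.leaf (.up 5 1134 4)) (.leaf (.up 5 1841 2)))))) (.node (.node (.node (.node (.leaf (.up 5 726 1)) (.leaf (.up 5 888 2))) (.node (.leaf (.up 5 1762 0)) (.leaf (.up 5 1186 0)))) (.node (.node (.leaf (.up 4 484 4)) (.leaf (.up 5 1511 2))) (.node (.leaf (.up 5 452 3)) (.leaf (.up 6 456 3))))) (.node (.node (.node (.leaf (.up 4 415 4)) (.leaf (.up 6 98 4))) (.node (.leaf (.up 5 50 4)) (.leaf (.up 6 463 4)))) (.node (.node (.leaf (.up 5 1741 3))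 (.leaf (.up 2 1144 0))) (.node (.leaf (.up 3 1225 1)) (.leaf (.up 2 1406 4))))))) (.node (.node (.node (.node (.node (.leaf (.up 6 293 2)) (.leaf (.up 6 1450 4))) (.node (.leaf (.up 4 1530 4)) (.leaf (.up 5 1031 4)))) (.node (.node (.leaf (.up 4 83 3)) (.leaf (.up 5 1632 2))) (.node (.leaf (.up 5 2014 3)) (.leaf (.up 5 182 4))))) (.node (.node (.node (.leaf (.up 5 773 2)) (.leaf (.up 6 735 2))) (.node (.leaf (.up 5 1781 0)) (.leaf (.up 5 223 2)))) (.node (.node (.leaf (.up 5 925 1)) (.leaf (.up 4 1088 2))) (.node (.leaf (.up 5 1882 3)) (.leaf (.up 5 1600 2)))))) (.node (.node (.node (.node (.leaf (.up 5 1210 4)) (.leaf (.up 3 1359 0))) (.node (.leaf (.up 3 2030 3)) (.leaf (.up 6 1258 4)))) (.node (.node (.leaf (.up 5 1356 2)) (.leaf (.up 4 502 4))) (.node (.leaf (.up 6 1868 2)) (.leaf (.up 4 2038 3))))) (.node (.node (.node (.leaf (.up 6 112 4)) (.leaf (.up 5 1173 0))) (.node (.leaf (.up 6 477 4)) (.leaf (.up 5 1636 1)))) (.node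 (.node (.leaf (.up 2 1493 0)) (.leaf (.up 4 251 1))) (.node (.leaf (.up 3 1388 2)) (.leaf (.up 6 1206 2)))))))) (.node (.node (.node (.node (.node (.node (.leaf (.up 5 1946 1)) (.leaf (.up 5 906 2))) (.node (.leaf (.up 3 1728 0)) (.leaf (.up 5 394 2)))) (.node (.node (.leaf (.up 5 773 1)) (.leaf (.up 6 1343 1))) (.node (.leaf (.up 4 1472 0)) (.leaf (.up 5 1920 0))))) (.node (.node (.node (.leaf (.up 4 1273 3)) (.leaf (.up 5 1882 0))) (.node (.leaf (.up 5 884 3)) (.leaf (.up 5 199 4)))) (.node (.node (.leaf (.up 5 1062 4)) (.leaf (.up 3 1845 2))) (.node (.leaf (.up 4 1419 4)) (.leaf (.up 5 876 3)))))) (.node (.node (.node (.node (.leaf (.up 5 1113 3)) (.leaf (.up 6 380 2))) (.node (.leaf (.up 5 1248 0)) (.leaf (.up 5 1248 4)))) (.node (.node (.leaf (.up 1 1 4)) (.leaf (.up 4 508 4))) (.node (.leaf (.up 5 1113 1)) (.leaf (.up 6 611 1))))) (.node (.node (.node (.leaf (.up 5 122 4)) (.leaf (.up 4 1233 3))) (.node (.leaf (.up 4 471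 4)) (.leaf (.up 4 348 2)))) (.node (.node (.leaf (.up 3 1225 3)) (.leaf (.up 4 1658 0))) (.node (.leaf (.up 4 1382 4)) (.leaf (.up 3 1179 4))))))) (.node (.node (.node (.node (.node (.leaf (.up 6 1837 0)) (.leaf (.up 5 1389 0))) (.node (.leaf (.up 5 1486 3)) (.leaf (.up 4 251 2)))) (.node (.node (.leaf (.up 6 259 4)) (.leaf (.up 5 1124 2))) (.node (.leaf (.up 4 174 4)) (.leaf (.up 5 1636 2))))) (.node (.node (.node (.leaf (.up 5 1783 0)) (.leaf (.up 3 715 3))) (.node (.leaf (.up 4 1354 3)) (.leaf (.up 5 296 4)))) (.node (.node (.leaf (.up 5 1527 0)) (.leaf (.up 5 1975 0))) (.node (.leaf (.up 5 1124 4)) (.leaf (.up 4 1433 4)))))) (.node (.node (.node (.node (.leaf (.up 4 471 2)) (.leaf (.up 4 1869 0))) (.node (.leaf (.up 5 983 2)) (.leaf (.up 5 525 2)))) (.node (.node (.leaf (.up 6 1864 2)) (.leaf (.up 5 1101 0))) (.node (.leaf (.up 4 1352 2)) (.leaf (.up 6 446 4))))) (.node (.node (.node (.leaf (.up 4 1015 2)) (.leaf (.up 6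 1140 1))) (.node (.leaf (.up 5 1390 3)) (.leaf (.up 4 1378 3)))) (.node (.node (.leaf (.up 4 1384 2)) (.leaf (.up 4 1431 0))) (.node (.leaf (.up 3 1161 4)) (.leaf (.up 6 1398 3))))))))

noncomputable def vt2_9_1111 : Tr VStep :=
  .node (.node (.node (.node (.node (.node (.node (.leaf (.up 6 414 0)) (.leaf (.up 6 545 4))) (.node (.leaf (.up 5 625 4)) (.leaf (.up 6 908 4)))) (.node (.node (.leaf (.up 5 1901 4)) (.leaf (.up 5 222 0))) (.node (.leaf (.up 3 1728 4)) (.leaf (.up 5 566 2))))) (.node (.node (.node (.leaf (.up 5 26 3)) (.leaf (.up 3 1161 2))) (.node (.leaf (.up 6 1723 4)) (.leaf (.up 2 1947 3)))) (.node (.node (.leaf (.up 5 14 3)) (.leaf (.up 1 2 3))) (.node (.leaf (.up 5 522 4)) (.leaf (.up 3 22 2)))))) (.node (.node (.node (.node (.leaf (.up 6 817 4)) (.leaf (.up 5 182 3))) (.node (.leaf (.up 5 1925 2)) (.leaf (.up 5 1631 2)))) (.node (.node (.leaf (.up 4 174 3)) (.leaf (.up 2 1661 4))) (.node (.leaf (.up 5 1827 3))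 (.leaf (.up 5 1839 3))))) (.node (.node (.node (.leaf (.up 6 1957 2)) (.leaf (.up 5 50 3))) (.node (.leaf (.up 5 1445 2)) (.leaf (.up 5 1612 1)))) (.node (.node (.leaf (.up 5 42 3)) (.leaf (.up 5 695 4))) (.node (.leaf (.up 6 1257 1)) (.leaf (.up 5 794 4))))))) (.node (.node (.node (.node (.node (.leaf (.up 4 1538 2)) (.leaf (.up 6 51 0))) (.node (.leaf (.up 5 115 0)) (.leaf (.up 5 289 3)))) (.node (.node (.leaf (.up 5 1666 4)) (.leaf (.up 5 327 2))) (.node (.leaf (.up 5 669 2)) (.leaf (.up 4 1746 4))))) (.node (.node (.node (.leaf (.up 5 1058 2)) (.leaf (.up 2 1576 3))) (.node (.leaf (.up 5 1876 4)) (.leaf (.up 6 792 1)))) (.node (.node (.leaf (.up 4 584 4)) (.leaf (.up 5 1596 3))) (.node (.leaf (.up 5 681 0)) (.leaf (.up 4 536 4)))))) (.node (.node (.node (.node (.leaf (.up 4 83 0)) (.leaf (.up 5 1672 3))) (.node (.leaf (.up 5 883 4)) (.leaf (.up 5 654 4)))) (.node (.node (.leaf (.up 6 851 0)) (.leaf (.up 5 91 1))) (.node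 (.leaf (.up 5 1986 4)) (.leaf (.up 6 433 2))))) (.node (.node (.node (.leaf (.up 5 1556 4)) (.leaf (.up 4 1806 2))) (.node (.leaf (.up 6 1236 2)) (.leaf (.up 5 1604 1)))) (.node (.node (.leaf (.up 5 1556 3)) (.leaf (.up 6 401 2))) (.node (.leaf (.up 6 776 4)) (.leaf (.up 5 913 2)))))))) (.node (.node (.node (.node (.node (.node (.leaf (.up 5 569 4)) (.leaf (.up 6 662 3))) (.node (.leaf (.up 5 1466 1)) (.leaf (.up 5 896 1)))) (.node (.node (.leaf (.up 5 654 3)) (.leaf (.up 6 642 3))) (.node (.leaf (.up 4 488 2)) (.leaf (.up 5 50 2))))) (.node (.node (.node (.leaf (.up 5 1850 1)) (.leaf (.up 2 530 3))) (.node (.leaf (.up 5 1886 4)) (.leaf (.up 3 1165 2)))) (.node (.node (.leaf (.up 3 326 0)) (.leaf (.up 3 774 0))) (.node (.leaf (.up 6 1415 3)) (.leaf (.up 2 530 2)))))) (.node (.node (.node (.node (.leaf (.up 4 742 1)) (.leaf (.up 5 1020 0))) (.node (.leaf (.up 4 1331 3)) (.leaf (.up 4 508 0)))) (.node (.node (.leaf (.up 5 1637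 4)) (.leaf (.up 3 1944 4))) (.node (.leaf (.up 4 1145 1)) (.leaf (.up 6 764 0))))) (.node (.node (.node (.leaf (.up 4 570 3)) (.leaf (.up 5 566 3))) (.node (.leaf (.up 5 614 0)) (.leaf (.up 5 1659 2)))) (.node (.node (.leaf (.up 5 870 0)) (.leaf (.up 5 294 0))) (.node (.leaf (.up 4 1273 1)) (.leaf (.up 6 767 4))))))) (.node (.node (.node (.node (.node (.leaf (.up 5 1970 1)) (.leaf (.up 6 561 0))) (.node (.leaf (.up 5 625 0)) (.leaf (.up 5 902 4)))) (.node (.node (.leaf (.up 4 881 0)) (.leaf (.up 5 1212 3))) (.node (.leaf (.up 6 1738 4)) (.leaf (.up 6 817 0))))) (.node (.node (.node (.leaf (.up 4 1820 4)) (.leaf (.up 5 2044 2))) (.node (.leaf (.up 4 941 3)) (.leaf (.up 4 929 3)))) (.node (.node (.leaf (.up 4 683 0)) (.leaf (.up 4 1431 1))) (.node (.leaf (.up 5 512 4)) (.leaf (.up 6 1021 4)))))) (.node (.node (.node (.node (.leaf (.up 5 593 0)) (.leaf (.up 6 17 0))) (.node (.leaf (.up 5 1264 2)) (.leaf (.up 6 1322 2)))) (.node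 (.node (.leaf (.up 5 111 2)) (.leaf (.up 5 785 0))) (.node (.leaf (.up 4 793 3)) (.leaf (.up 6 789 3))))) (.node (.node (.node (.leaf (.up 5 907 0)) (.leaf (.up 4 1032 3))) (.node (.leaf (.up 5 1744 2)) (.leaf (.up 5 901 3)))) (.node (.node (.leaf (.up 6 1040 3)) (.leaf (.up 3 715 0))) (.node (.leaf (.up 5 925 3)) (.leaf (.up 3 715 1))))))))

noncomputable def vt2_9_111 : Tr VStep := .node vt2_9_1110 vt2_9_1111

noncomputable def vt2_9_11 : Tr VStep := .node vt2_9_110 vt2_9_111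

noncomputable def vt2_9_1 : Tr VStep := .node vt2_9_10 vt2_9_11

noncomputable def vt2_9_ : Tr VStep := .node vt2_9_0 vt2_9_1

noncomputable def roots2 : List Root := [⟨0,[⟨[52],20346929084476680591933868399623222698508367,1163,11151138400805239555299633008387118552121423,[88,55,43,185]⟩,⟨[28],11152414459754656653352658175048549729896231,0,11152414459754656653352658175048549729896231,[88,110,146]⟩,⟨[35],11152491554937821598397301242262883550633985,0,11152491554937821598397301242262883550633985,[87,43]⟩,⟨[37],11150854407247176641798625422515958298272851,0,11150854407247176641798625422515958298272851,[110,44,235]⟩,⟨[36,191],14049477510351254172771900007250666977240064,1433,11152994003120225971771655348791455961326592,[56,140,239]⟩,⟨[36,36],11151988078396696386401585125110605543466142,0,11151988078396696386401585125110605543466142,[88,93,104,173]⟩,⟨[32,191,32],13268396395083796118336563083165858732769510,643,11150478943367875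121740519526510533384667366,[87,55,103,96]⟩],vt2_0_⟩,⟨1,[⟨[48,48,52],12577527646170052853094995524321582730248705,788,11151063964037478814256529169967610387825153,[88,104,188]⟩,⟨[52,28,52,35],14036658435527036984425945840989004820972033,530,11151063964037478814256529169967610387825153,[88,104,188]⟩,⟨[58,191,32,37],21904520997761634126995275490937373674001374,145,11151598203059978681552637896093498191991774,[55,155,160]⟩,⟨[36,37,35,32,36],11152149832666568297270479959901965154603738,0,11152149832666568297270479959901965154603738,[87,93,90,156]⟩,⟨[37,58,32,48,58],18887723858351935719559814244536292443488769,1421,11151063964037478814256529169967610387825153,[88,104,188]⟩],vt2_1_⟩,⟨2,[⟨[52,48,28,32],18403556521678999575248981394569148875671497,1689,11151458717859959041917541760983304753121225,[88,94,77]⟩,⟨[32,58,58,48],14037053189349517212086958432004699186268105,1951,11151458717859959041917541760983304753121225,[88,94,77]⟩,⟨[36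,35,28,32,37],11151458717859959041917541760983304753121225,0,11151458717859959041917541760983304753121225,[88,94,77]⟩,⟨[52,191,36,58,191],11392510686353927539257377677958547268625195,1441,11152951900041586860979161954326582447760171,[110,116,35]⟩],vt2_2_⟩,⟨4,[⟨[36,191,36],15429808845409225315054993129998934073792438,1433,11150417799011503198539594066937017046521782,[87,56,43,23]⟩,⟨[191,191,48,48],17558781947488284238072472451352531053425769,1177,11150584413633171094130201844197472095286377,[88,110,91,11]⟩,⟨[191,32,28,32],14046901306242531399539838725396228062435254,274,11150417799011503198539594066937017046521782,[87,56,43,23]⟩,⟨[58,191,58,36],18274144501677520394064702297904055097971870,1562,11152715126756120230703198513572009968620702,[88,56,89,143]⟩,⟨[32,35,58,48],20272289405910988566270031402422471718713264,1675,11152721972429837745451591923251083651692464,[87,103,11]⟩],vt2_3_⟩,⟨5,[⟨[28],111524144597546566533526581750485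49729896231,0,11152414459754656653352658175048549729896231,[57,43,158]⟩,⟨[52,35],17484851314761991628930158794495901697114870,1163,11152877031097168700803684099405558818341622,[93,90,34]⟩,⟨[48,48],21774970560199694384190013351510221395075318,1951,11152716194395679308717311605920144906264822,[87,110,91,11]⟩,⟨[36,36],11151988078396696386401585125110605543466142,0,11151988078396696386401585125110605543466142,[110,44,158]⟩,⟨[35,52],20347826313447279919340448096064156412739663,1689,11152035629775838882706212704828052266352719,[88,93,103,244]⟩,⟨[191,191],15365275287336043568596592383134950096483486,774,11151218455387141637066161244699932565812382,[56,176,23]⟩,⟨[48,37,35],18887944971433378476705886833448615067293609,530,11151285077118921571402601758879933011629993,[57,94,44,11]⟩,⟨[191,37,36],13972383455418338423388978311295811968835618,274,11152123198377600438204529564901317032288290,[87,93,140]⟩,⟨[58,191,32],1465120998093491169142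0450453930082515505665,145,11150384990052296779309252492672051156046337,[87,93,176,144]⟩],vt2_4_⟩,⟨7,[⟨[35,52],20347826313447279919340448096064156412739663,1689,11152035629775838882706212704828052266352719,[87,93,123,186]⟩,⟨[52,35],17484851314761991628930158794495901697114870,1163,11152877031097168700803684099405558818341622,[57,55,140,189]⟩,⟨[48,37,35],18887944971433378476705886833448615067293609,530,11151285077118921571402601758879933011629993,[87,56,155,208]⟩,⟨[35,28,191],14047820424241748022928760308179207185798598,786,11151336917010719821928515649719996169885126,[57,123,36]⟩,⟨[191,37,36],13972383455418338423388978311295811968835618,274,11152123198377600438204529564901317032288290,[87,110,91,191]⟩,⟨[58,48,52,58],16998107092904568581273006723958165016167768,1830,11150694899735162025118377469850660070507864,[88,55,91,65]⟩],vt2_5_⟩,⟨16,[⟨[52,35],17484851314761991628930158794495901697114870,1163,11152877031097168700803684099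405558818341622,[87,93,43,107]⟩,⟨[48,28,48],21775131396901183776276385844995635307152118,1951,11152877031097168700803684099405558818341622,[87,93,43,107]⟩,⟨[28,36,36],11150755883930586179771836141394617288377383,0,11150755883930586179771836141394617288377383,[88,110,140,194]⟩,⟨[35,36,32,58],15364472132683879574641501267462723983180022,1177,11150415300734977643111070129027706452508918,[87,56]⟩,⟨[191,48,36,52],18952749992693869969898646851619569427030273,518,11150755883930592879610393852423987874767105,[91,143]⟩,⟨[35,36,36,52],20347009139058601535294921242103909385856720,1689,11151218455387160498660685850867805239469776,[87,55,123,164]⟩,⟨[58,191,37,32],13270391616031985923077717776398612427957107,145,11152474164316064926481674219743287079854963,[56,123,6]⟩],vt2_6_⟩,⟨84,[⟨[28],11152414459754656653352658175048549729896231,0,11152414459754656653352658175048549729896231,[110,44,248]⟩,⟨[48,48],21774970560199694384190013351510221395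075318,1951,11152716194395679308717311605920144906264822,[56,90,128]⟩,⟨[35,52],20347826313447279919340448096064156412739663,1689,11152035629775838882706212704828052266352719,[55,218]⟩,⟨[191,191],15365275287336043568596592383134950096483486,774,11151218455387141637066161244699932565812382,[88,93,140,220]⟩,⟨[32,32],11151934909276871137022832555472999299004398,0,11151934909276871137022832555472999299004398,[87,94,116,98]⟩,⟨[191,52,35],12546818953016453263772110309982892247783304,20,11153022378108289317426127917942369653659528,[57,110,123,60]⟩,⟨[52,58,32],14946912699442179782481975120209174534453031,1933,11152083743539874037938421498130095440295719,[57,55,123,209]⟩],vt2_7_⟩,⟨283,[⟨[48],18887662713937572260841376073786025072693824,530,11151002819623115355538090999217343017030208,[88,110,155,183]⟩,⟨[191,191],15365275287336043568596592383134950096483486,774,11151218455387141637066161244699932565812382,[88,55,89,173]⟩,⟨[37,58],15364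452455875350435146392362934124936130593,1675,11150395623926448503615961224499107405459489,[88,110,103,209]⟩,⟨[28,35,52],20348506878067120345351546997156249052651766,1689,11152716194395679308717311605920144906264822,[87,89,131]⟩,⟨[191,36,32,191],13650535159200314132352512850937318986990783,1971,11151501456532942056677489733958413242057919,[57,110,162]⟩],vt2_8_⟩,⟨811,[⟨[52],20346929084476680591933868399623222698508367,1163,11151138400805239555299633008387118552121423,[57,94,104,236]⟩,⟨[35],11152491554937821598397301242262883550633985,0,11152491554937821598397301242262883550633985,[87,93,91,194]⟩,⟨[48],18887662713937572260841376073786025072693824,530,11151002819623115355538090999217343017030208,[57,103,147]⟩,⟨[191],14046872684528240529170905532467594812997874,274,11150389177297212328170660874008383797084402,[87,55,173]⟩,⟨[32],11151049315628802351000513683320216412320674,0,11151049315628802351000513683320216412320674,[57,93,91,142]⟩],vt2_9_⟩]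

noncomputable def sel2_00 : Tr (ℕ × ℕ × ℕ) :=
  .node (.node (.node (.node (.node (.node (.node (.leaf (11152414459754656653352658175048549729896231,28,0)) (.leaf (14870339600618795212249953051824604588285953,226,247))) (.leaf (11152175038270526186996431012279813712970698,34,4))) (.node (.leaf (11150678327699805370901041249254169605895923,33,3)) (.leaf (11152519645215286637789858418375556805350281,160,3)))) (.node (.node (.node (.leaf (11152491554864386047469049902614114579055473,24,1)) (.leaf (13077774626955034835233192080229779280756737,229,276))) (.leaf (11150553972694302742802152563004141671552031,89,4))) (.node (.leaf (11151673099013379017228093072940277624123400,64,1)) (.leaf (20347524578578220720156430733046345719881729,217,221))))) (.node (.node (.node (.node (.leaf (11152832138060004508839388208867011109360241,12,1)) (.leaf (15365275287336043568596592383134950096483486,8,8))) (.leaf (11151688590615570190243377104129076692887174,57,4)))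 (.node (.leaf (11150858365952963440090965736569935820755088,48,1)) (.leaf (11152313438353515393751403661679605036631552,65,127)))) (.node (.node (.node (.leaf (11151683273640058676890233788834114257217498,17,3)) (.leaf (19883421965373804104500684228865143509876737,259,276))) (.leaf (11151343402745285613145320879529740660180963,128,3))) (.node (.leaf (11151734071506371282294011356530732766184694,18,4)) (.leaf (18889130021200054371352829975905080893833446,238,239)))))) (.node (.node (.node (.node (.node (.leaf (14046872684528240529170905532467594812997874,191,0)) (.leaf (12159109330095173340652219459845294813835446,244,263))) (.leaf (11152935778626379220986891990312317608752477,46,4))) (.node (.leaf (11152300206195859363706888637025459931476210,40,1)) (.leaf (13640342724014623673438615600712174027464705,8,199)))) (.node (.node (.node (.leaf (11151785996468816458244615729214016047186717,9,3)) (.leaf (16426153117457069315712798217358378481483777,251,276)))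 (.leaf (11150714677903299004339802491352621364814144,108,3))) (.node (.leaf (11151273001428667549970835475093902610755982,10,4)) (.leaf (21674710880235091141611565813198921628975105,224,221))))) (.node (.node (.node (.node (.leaf (11152713681113824505736224874329682779976876,10,2)) (.leaf (18026841371453163847844512370717416148172801,221,276))) (.leaf (11151889474719260967678751299395844639549136,78,4))) (.node (.leaf (11152546485507605331604240875870271064141956,56,1)) (.leaf (11248459157777536621093767841489543629963265,212,215)))) (.node (.node (.leaf (11152846348136356009949558027397161517688288,25,3)) (.leaf (11150710737865836329174693840085952522176385,152,3))) (.node (.leaf (11152491903500804078115843609262461005833333,26,4)) (.leaf (18403831698725820216853634975396085696045057,210,247))))))) (.node (.node (.node (.node (.node (.node (.leaf (11150854407247176641798625422515958298272851,37,0)) (.leaf (14945286792006612088159869576628273479221249,230,247)))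 (.leaf (11151680615247594708244382919613906988491674,39,4))) (.node (.leaf (11152989147255856572284718403706872272011753,37,3)) (.leaf (11150765149368038437746544008984576326710563,101,92)))) (.node (.node (.node (.leaf (11150584413633152235581603838423727929909688,28,1)) (.leaf (21343165528837960947416649159907332133089281,247,276))) (.leaf (11151543815376855306256905039391848081692387,4,3))) (.node (.leaf (11150416806604520186736733469283482136347839,68,1)) (.leaf (21773988260710794758994897087400318062305281,222,221))))) (.node (.node (.node (.node (.leaf (11150415300734996717150695594618250881672487,18,1)) (.leaf (11793481183568743908780504176942189046788097,271,275))) (.leaf (11150585874166201548273673850164647902737024,71,4))) (.node (.leaf (11152136999583908187091377229158706014667927,52,1)) (.leaf (12653103823905688983003746488737883297107969,7,211)))) (.node (.node (.leaf (11150564014092157457203656563855478119006717,21,3))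 (.leaf (11151904212653211594785533604354495361582096,148,3))) (.node (.leaf (11152074353873309243068946697395222130602932,22,4)) (.leaf (17000289369295728356967722513086654352573789,242,243)))))) (.node (.node (.node (.node (.node (.leaf (11150460467666128299791691824198919846658575,9,0)) (.leaf (11184730540018243114760922633606680476062585,266,267))) (.leaf (11150377014734473606842368064436287870132716,53,4))) (.node (.leaf (11151501456649117949503127413831939793932320,44,1)) (.leaf (18393924962473251837013974703703667204722689,201,197)))) (.node (.node (.node (.leaf (11151153483393677143888381465364911789983463,13,3)) (.leaf (16524767213237472304775264718673494258872321,255,276))) (.leaf (11152126017238978892455606125049305720963136,124,3))) (.node (.leaf (11151049182158087412325575459688951683548471,14,4)) (.leaf (20271440957352489859866421863021423014934220,234,235))))) (.node (.node (.node (.node (.leaf (11152547355580039205484353587639259133530477,18,2))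 (.leaf (18103677395750626775245322897156898760028161,225,276))) (.leaf (11151200934617427188656181896394691650867791,85,4))) (.node (.leaf (11150748997124771197904290673239368225964276,60,1)) (.leaf (17560694754189290588922955264770207131726965,218,219)))) (.node (.node (.leaf (11152126278835716061596263106124344335340807,29,3)) (.leaf (11150553888962356280097809032524229732380682,156,3))) (.node (.leaf (11153022378108265895843691744400757857227438,30,4)) (.leaf (13486156002649627956828919259960851388497921,222,247)))))))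

noncomputable def sel2_01 : Tr (ℕ × ℕ × ℕ) :=
  .node (.node (.node (.node (.node (.node (.node (.leaf (11152491554937821598397301242262883550633985,35,0)) (.leaf (12158969700992757535373784179808275479404545,228,247))) (.leaf (11152737301712735921508195235835591092405089,36,4))) (.node (.leaf (11150548684655614661001092793803860116258884,35,3)) (.leaf (11152061061556730941741117612297472488428548,162,3)))) (.node (.node (.node (.leaf (11151988078396696386401585125110605543466142,26,1)) (.leaf (20890657771459781956352273066863177415786497,231,276))) (.leaf (11152662128295649903346805858157539535360384,91,4))) (.node (.leaf (11152083658511234740107844781941933352550688,66,1)) (.leaf (18888393789221236588825480416378923629158401,221,221))))) (.node (.node (.node (.node (.leaf (11152721656481792714835696260411879748023907,14,1)) (.leaf (12644291042371753718876674470625189331140609,72,273))) (.leaf (11151844110291096218811977373257958092547385,59,4)))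 (.node (.leaf (11150628409509682753614511792167139550957698,50,1)) (.leaf (14037328366396337853691612012831636006641665,209,2)))) (.node (.node (.node (.leaf (11151002708906210358873243559523263353119738,19,3)) (.leaf (13736561289313971700498285320217682538135553,261,276))) (.leaf (11151203833805758873051169140730916789879900,130,3))) (.node (.leaf (11151336917009638029062051199580385410376952,20,4)) (.leaf (15443017384004440618212453490558859829380407,240,241)))))) (.node (.node (.node (.node (.node (.leaf (11151030706436847170017261637318767506452763,1,0)) (.leaf (18889439951726548293794278352043392848451014,264,265))) (.leaf (11150379673190465644063095110649880431785698,49,4))) (.node (.leaf (11152905121370657852373450177162056047003136,42,1)) (.leaf (18391592167414093814130996563217950759751681,200,197)))) (.node (.node (.node (.leaf (11152337825691553093610695185311834828214997,11,3)) (.leaf (19982036061154207093563150730180259287265281,253,276)))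 (.leaf (11151683384316382043092623904864656585954652,114,3))) (.node (.leaf (11151934956928565608772530085969408035160200,12,4)) (.leaf (15365215231270475741182995908688321267951183,220,233))))) (.node (.node (.node (.node (.leaf (11151022731068875863021431458377868379051609,15,2)) (.leaf (13154610651252497762634002606669261892612097,223,276))) (.leaf (11151147765497595752078943571766900958683983,81,4))) (.node (.leaf (11150614745097187010863492957204400238149862,58,1)) (.leaf (15365832365171332180185314068847408694273722,7,0)))) (.node (.node (.leaf (11152806843569574205913430890713489860268327,27,3)) (.leaf (11151148053876459463792735140180494619328524,154,3))) (.node (.leaf (11151811338766946760132530096614648196867788,28,4)) (.leaf (18326332389733056661131959676070322428248065,217,247))))))) (.node (.node (.node (.node (.node (.node (.leaf (20346929084476680591933868399623222698508367,52,0)) (.leaf (12081470391999993979652108880482512211607553,232,247)))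 (.leaf (11151662006055663891324024644697963358511671,41,4))) (.node (.leaf (11150385077085463395619367395449163901911304,38,1)) (.leaf (19688031028545393897025490897240814244073473,2,197)))) (.node (.node (.node (.leaf (11152972575220500542916739269536197194612816,0,3)) (.leaf (15065023649773315461859299787631305635659777,249,276))) (.leaf (11151786035667882452171632626526650297753837,105,3))) (.node (.leaf (11152832185867720374275358433299745784821434,1,4)) (.leaf (18985119052091993526397052916058225685626881,223,221))))) (.node (.node (.node (.node (.leaf (11152737607217733192126018704972213788751381,1,2)) (.leaf (19387970839136917701698010800444488993996801,216,276))) (.leaf (11151904468338020456255353797391224160284800,73,4))) (.node (.leaf (11152367039728187351673741439973874369984265,54,1)) (.leaf (17483682923280252186024299431767020478202614,6,213)))) (.node (.node (.leaf (11151342991273116403952469243200546578736082,23,3))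 (.leaf (11151633050142093154745348551012410970080258,150,3))) (.node (.leaf (11150584289290036383305977776539334985266304,24,4)) (.leaf (12579178808911633194379221468017650452402177,244,245)))))) (.node (.node (.node (.node (.node (.leaf (11151272953734982145622403421820805137938245,10,1)) (.leaf (11151554797643160063323158296213769921315991,65,269))) (.leaf (11150395623926445270948319478566893847371841,55,4))) (.node (.leaf (11152533193317919084531809170631915676972982,46,1)) (.leaf (20962048210229414653982993945987306558025729,203,197)))) (.node (.node (.node (.leaf (11151543704750806423777767532661300065669969,15,3)) (.leaf (17096441589664648923393734059158864854118401,257,276))) (.leaf (11150374094740553552699203586862347668439533,126,3))) (.node (.leaf (11151030573117586839349982852157750068125699,16,4)) (.leaf (20271303826664472658193158096818687327609715,236,237))))) (.node (.node (.node (.node (.leaf (11150383399263064499472374020103633591403482,22,1))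 (.leaf (15865980550878535439510171478685591001493505,227,276))) (.leaf (11152519528789246176275850210882299350306895,87,4))) (.node (.leaf (11151554797721791093853785347861532952670728,62,1)) (.leaf (20270025269585457164434755433720582452084737,210,221)))) (.node (.node (.leaf (11151179446654186224957263954143026180846924,31,3)) (.leaf (11153004985386566044082861579606830860906520,158,3))) (.node (.leaf (11152547843713804342359113755419006414133128,32,4)) (.leaf (13585433383125331574212250534162247821828097,224,247)))))))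

noncomputable def sel2_0 : Tr (ℕ × ℕ × ℕ) := .node sel2_00 sel2_01

noncomputable def sel2_10 : Tr (ℕ × ℕ × ℕ) :=
  .node (.node (.node (.node (.node (.node (.node (.leaf (11151049315628802351000513683320216412320674,32,0)) (.leaf (16999146088076186239676824595917746519154689,227,247))) (.leaf (11152198964525848312539608365008248176124787,35,4))) (.node (.leaf (11152767166334221136580196264316757087917668,34,3)) (.leaf (11151201051001447988203824425755574534537252,161,3)))) (.node (.node (.node (.leaf (11151810990244556729068381628616131074859482,25,1)) (.leaf (11694867087788340919718037675627073269399553,230,276))) (.leaf (11153005069230478156671229084541924581914292,90,4))) (.node (.leaf (11150765064297444099688552316731153065103519,65,1)) (.leaf (12578197577039353722360661696164213915918337,221,216))))) (.node (.node (.node (.node (.leaf (11151336600870732206272625868227744934249948,13,1)) (.leaf (12642828469698945396669418829191763278287092,8,272)))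 (.leaf (11151549021604011530930829608488106218771858,58,4))) (.node (.leaf (11153079506024176773964000725625763053254564,49,1)) (.leaf (14038086026427379768566717913284277983780865,5,208)))) (.node (.node (.node (.leaf (11150863140016967545072466320325352984876913,18,3)) (.leaf (21266329504540498020015838633467849521233921,260,276))) (.leaf (11152846759641406033260393644551819796009411,129,3))) (.node (.leaf (11150415477376548644683362198408192125055599,19,4)) (.leaf (20346248519775726272556856605725549463085302,0,6)))))) (.node (.node (.node (.node (.node (.leaf (11150479076858043790408578573808786951405750,0,1)) (.leaf (20346929057615432277900938440175383226909594,4,243))) (.leaf (11151284877527637826822985534841742888960964,48,4))) (.node (.leaf (11151962582194701020417817142994881077662283,41,1)) (.leaf (13639880152680567943327098677605644521234433,2,200)))) (.node (.node (.node (.leaf (11151944174549990785306707289939609853589051,10,3))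 (.leaf (17193830137230706489286171331724447566528513,252,276))) (.leaf (11151944213832278477408346132614428018406770,110,3))) (.node (.leaf (11150478943347930727909369046136981121204241,11,4)) (.leaf (11152972575067985865849265435705010607945036,0,219))))) (.node (.node (.node (.node (.leaf (11152199269839968411225828877757590846031274,12,2)) (.leaf (15941591026961652943740952776375540548370433,222,276))) (.leaf (11152685682176762829307360864280077195723254,80,4))) (.node (.leaf (11151073328665488701040512052759843732447821,57,1)) (.leaf (13938050985920634236308280738630239573311489,210,216)))) (.node (.node (.leaf (11151054921020827708581350337596579345915937,26,3)) (.leaf (11152685970709584411973462094868571749193278,153,3))) (.node (.leaf (11150383747857493084044621836330480802091262,27,4)) (.leaf (21190148789739674769639720372216083695861761,216,247))))))) (.node (.node (.node (.node (.node (.node (.leaf (18887662713937572260841376073786025072693824,48,0))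 (.leaf (16899868707600482622293493321716350085824513,231,247))) (.leaf (11151546363148009323760327832398919555289756,40,4))) (.node (.leaf (11152493232728799534874140715758021944119973,3,1)) (.leaf (19689719148091563326909897264911878998986753,6,196)))) (.node (.node (.node (.leaf (11152074478102430580551724228873625273385217,29,1)) (.leaf (12278043274064160280752349617925026979901441,248,276))) (.leaf (11150863250610112965286832795007643883161436,101,3))) (.node (.leaf (11152721972429823656393972068865780648788853,0,4)) (.leaf (12653144768427170598270578220967882806853633,223,216))))) (.node (.node (.node (.node (.leaf (11151095865582822157727023173832247617847809,19,1)) (.leaf (22176176763060418305974990198900300714733569,210,276))) (.leaf (11152951900110683408566499888811956323964852,72,4))) (.node (.leaf (11151362143453627617012189298892603475580848,53,1)) (.leaf (14036009772224554887320112265639645314819367,6,6)))) (.node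 (.node (.leaf (11151203422383873707465035934563990472774987,22,3)) (.leaf (11150585618439404522646500360498131026890786,149,3))) (.node (.leaf (11150755759743464370896984572212644224155808,23,4)) (.leaf (11152366752575926370583530543231240198505820,101,97)))))) (.node (.node (.node (.node (.node (.leaf (11150723982458696301273018643165637413212890,9,1)) (.leaf (11152199269848474026436375429231249620059612,2,17))) (.leaf (11152123620392968634387162690238194611197287,54,4))) (.node (.leaf (11153044690310212888410608255999613100884992,45,1)) (.leaf (19896092166630749433066535535142433285771265,201,200)))) (.node (.node (.node (.leaf (11152924015237722985709614953058208004477290,14,3)) (.leaf (15141859674070778389260110314070788247515137,256,276))) (.leaf (11152806581939970171112774639421090900251629,125,3))) (.node (.leaf (11152414636240199039547625788536477923526223,15,4)) (.leaf (11150385077006906022521077594903814633075208,233,1)))))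 (.node (.node (.node (.node (.leaf (11153021890013994879059981199609961223006196,19,2)) (.leaf (19486584934917320690760477301759604771385345,226,276))) (.leaf (11150657280255194822065977545280277307749110,86,4))) (.node (.leaf (11152174218009811535584305190396084329276986,61,1)) (.leaf (17558655369959419487558586561704253343203329,220,118)))) (.node (.node (.leaf (11151155520396669018972374620291295481964257,30,3)) (.leaf (11152662044605675141402444943825032973805098,157,3))) (.node (.leaf (11150463614064976288142852376176805737508869,31,4)) (.leaf (16275025211268429189426763431302943765176321,223,247)))))))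

noncomputable def sel2_11 : Tr (ℕ × ℕ × ℕ) :=
  .node (.node (.node (.node (.node (.node (.node (.leaf (11152996501170820181473499323732025791861231,36,0)) (.leaf (19785463179090040792462909992737744518971393,229,247))) (.leaf (11152713375760223755723284006400597581374424,37,4))) (.node (.leaf (11150454309621534962817880686429754011195337,36,3)) (.leaf (11150657396751181855210745027209288837629865,163,3)))) (.node (.node (.node (.leaf (11150755883930586179771836141394617288377383,27,1)) (.leaf (22273565310626475871867427471465883427143681,232,276))) (.leaf (11150902230541183304565834640630633839801131,92,4))) (.node (.leaf (11151735400734367360703530493460972996318464,67,1)) (.leaf (15442013977045971830868422392309975183532033,222,216))))) (.node (.node (.node (.node (.leaf (11152191294472023626270677179643966375969512,16,1)) (.leaf (19580310130279667695647135848358556812181505,274,274))) (.leaf (11152063432838359873997473900854230601455149,60,4)))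 (.node (.leaf (11151432508788163439979169579532851346249530,51,1)) (.leaf (11151934956849979743710523606183887769587966,101,17)))) (.node (.node (.node (.leaf (11150545404746573602330192208858680895590466,20,3)) (.leaf (12353653750147277784983130915614976526778369,262,276))) (.leaf (11153071399172703313859394846662150721229436,131,3))) (.node (.leaf (11152191610459498809180292434636210753782750,21,4)) (.leaf (20347527413597205218437930792763485812830503,1,6)))))) (.node (.node (.node (.node (.node (.leaf (11151934909276871137022832555472999299004398,1,1)) (.leaf (14048898143475689550218647908663517049635111,1,8))) (.leaf (11152120961936967347893673599635448564973691,50,4))) (.node (.leaf (11152442433591396226748162613723441021876095,43,1)) (.leaf (19896387255244704485579625278908679719522305,200,200)))) (.node (.node (.node (.leaf (11150957887427445489507805281771495852770607,12,3)) (.leaf (13639172741747914134605848047652099825725441,254,276)))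 (.leaf (11151002819549681255320823454514445388104931,115,3))) (.node (.leaf (11150460334307359437609032261255101992150309,13,4)) (.leaf (11151272953694399279570464983209788792988830,3,233))))) (.node (.node (.node (.node (.leaf (11150463126122110949420089336722523668586688,17,2)) (.leaf (20815047295376664452121491769173227868909569,224,276))) (.leaf (11150710449375058882696489962916764028421225,82,4))) (.node (.leaf (11151609007547799928292222440079978896024159,59,1)) (.leaf (11152996501323345342345680863459099316070113,3,2)))) (.node (.node (.leaf (11150374356286993355943202034947448369374209,28,3)) (.leaf (11151889763140119154655046050701914810454451,155,3))) (.node (.leaf (11151064312591309476158271872295705585275463,29,4)) (.leaf (16371750474139186126998335930982245821644801,221,247))))))) (.node (.node (.node (.node (.node (.node (.leaf (15366710984988531072146468439750715334480270,58,0)) (.leaf (18887374572217755909643087565921303420477760,235,5)))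 (.leaf (11151522437044076179105873630527938036175665,43,4))) (.node (.leaf (11152780057412091388490993277474710792787398,39,1)) (.leaf (11151609007612155498517325308438891067953739,15,94)))) (.node (.node (.node (.leaf (11150714638653881469663027367060578157686793,1,3)) (.leaf (18554959604914460343139669761451520412352513,250,276))) (.leaf (11150957926659385644973116188589389471347935,107,3))) (.node (.leaf (11150724030224407271857619029735143599540156,9,4)) (.leaf (15364514668053208275146747092984211915735041,224,216))))) (.node (.node (.node (.node (.leaf (11152175343736068458116155943336955403028243,9,2)) (.leaf (14580461559277899089887454346648467702546433,217,276))) (.leaf (11151633305938865118298690099831917011228084,75,4))) (.node (.leaf (11150829123027300365186336724932773004660797,55,1)) (.leaf (17483001290897712653782823441082956233838593,158,214)))) (.node (.node (.leaf (11153070987717948630358136138658390911767417,24,3))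 (.leaf (11152951644271919602887893525390285319491632,151,3))) (.node (.leaf (11151987954095553718908568274440474490029972,25,4)) (.leaf (21115201598351857893729803847412414804926465,246,215)))))) (.node (.node (.node (.node (.node (.leaf (11150854091147713184107667495746192303468887,11,1)) (.leaf (18272457449742488227484558868139426055258113,268,270))) (.leaf (11152147546496903012145952898961115342247114,56,4))) (.node (.leaf (11151726096180368373776021522506410369012256,47,1)) (.leaf (20961406193253547279459420464378208651800577,205,197)))) (.node (.node (.node (.leaf (11150694899735162025118377469850660070507864,16,3)) (.leaf (18479349128831342838908888463761570865475585,258,276))) (.leaf (11151054659441506460050857532904127673700928,127,3))) (.node (.leaf (11151096042110366256631498424305165659812054,17,4)) (.leaf (15365867822193453918620341890039494058508928,237,7))))) (.node (.node (.node (.node (.leaf (11151063964110912469589095353877833420120433,23,1))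 (.leaf (14483073011711841523995017074082884990136321,228,276))) (.leaf (11152060945018743963520636860539068759961846,88,4))) (.node (.leaf (11152372272981160998609957906698445153264698,63,1)) (.leaf (17483708178571602611648670036900584452268033,216,221)))) (.node (.node (.leaf (11150696936738092623143233494177470844249438,32,3)) (.leaf (11150902146739233224372096849977710480877112,159,3))) (.node (.leaf (11151023219051237246445148947363111467857187,33,4)) (.leaf (19688737916219283854891337493058442462502913,225,247)))))))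

noncomputable def sel2_1 : Tr (ℕ × ℕ × ℕ) := .node sel2_10 sel2_11

noncomputable def sel2_ : Tr (ℕ × ℕ × ℕ) := .node sel2_0 sel2_1

noncomputable def orb2 : Orb := ⟨trio2_, roots2, sel2_, 308, 9, [(1,[308,0,1,9,10,11,12,13,14,15,16,17,18,19,20,21,22,23,24,25,26,27,28,29,30,31,32,33,34,35,36,37,3,38,39,40,41,42,43,44,45,46,47,48,49,50,51,52,53,54,55,56,57,58,59,60,61,62,63,64,65,66,67,68,69,70,71,72,73,74,75,76,77,78,79,80,81,82,83,84,85,86,87,88,89,90,91,92,93,94,95,96,97,98,99,100,4,101,102,103,104,105,106,107,108,109,110,111,112,113,114,115,116,117,118,119,120,121,122,123,124,125,126,127,128,129,130,131,132,133,134,135,136,137,138,139,140,141,142,143,144,145,146,147,148,149,150,151,152,153,154,155,156,157,158,159,160,161,162,163,164,165,166,167,168,169,170,171,172,173,174,175,176,177,178,179,180,181,182,183,184,185,186,187,188,189,190,191,192,193,194,195]),(4,[308,2,197,198,200,201,202,203,204,205,206,207]),(2048,[308,210,216,217,221,222,223,224,225,226,227,228,229,230,231,232,247,248,249,250,251,252,253,254,255,256,257,258,259,260,261,262,276,277,278,279,280,281,282,283,284,285,286,287,288,289,290,291,292,293,294,295,296,297,298,299,300,301,302,303,304,305,306,307])],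 3400320⟩

end Cfsg.Agent.Lib.J4Dce59.Data
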