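import Cfsg.Agent.Lib.J4Dce59.CoverRules

/-! # Generated data for the double coset enumeration (Orb3) -/

set_option autoImplicit false
set_option maxRecDepth 100000
set_option maxHeartbeats 0

namespace Cfsg.Agent.Lib.J4Dce59.Data

noncomputable def trio3_00000 : Tr TStep :=
  .node (.node (.node (.node (.node (.node (.node (.leaf (.root 0)) (.leaf (.up 4 488 [87] 0 [87,93,116,59]))) (.node (.leaf (.up 4 1772 [92] 0 [87,55,44,148])) (.leaf (.up 6 3019 [157] 1137 [93,42,159])))) (.node (.node (.leaf (.up 6 2365 [92] 0 [89,230])) (.leaf (.up 5 2575 [150] 1935 [87,55,140,134]))) (.node (.leaf (.up 4 3194 [157] 1137 [87,110,42,144])) (.leaf (.up 5 1210 [157] 1137 [180]))))) (.node (.node (.node (.leaf (.up 3 3743 [87] 0 [94,44,228])) (.leaf (.up 4 2045 [157] 1137 [57,123,118]))) (.node (.leaf (.up 4 3302 [177] 1570 [57,55,138])) (.leaf (.up 4 2312 [157] 1137 [110,104,10])))) (.node (.node (.leaf (.up 4 1839 [87] 0 [93,140,160]))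 (.leaf (.up 4 3738 [177] 1570 [57,94,42,11]))) (.leaf (.up 5 3748 [113] 0 [87,94,43,238]))))) (.node (.node (.node (.node (.leaf (.up 6 2849 [157] 1137 [110,90,4])) (.leaf (.up 6 2897 [157] 1137 [55,42,173]))) (.node (.leaf (.up 4 2311 [113] 0 [176,128])) (.leaf (.up 4 1520 [177] 1570 [88,94,89,200])))) (.node (.node (.leaf (.up 4 2993 [157] 1137 [87,94,91,233])) (.leaf (.up 5 2441 [157] 1137 [94,104,69]))) (.node (.leaf (.up 5 2972 [157] 1137 [88,93,44,107])) (.leaf (.up 4 3341 [150] 1935 [123,109]))))) (.node (.node (.node (.leaf (.up 4 488 [92] 0 [87,91,25])) (.leaf (.up 5 611 [177] 1570 [87,56,90,129]))) (.node (.leaf (.up 2 619 [87] 0 [87,94,176,73])) (.leaf (.up 5 3599 [113] 0 [110,103,194])))) (.node (.node (.leaf (.up 5 938 [87] 0 [88,110,89,72])) (.leaf (.up 3 2529 [177] 1570 [57,56,44,241]))) (.leaf (.up 2 1359 [177] 1570 [57,94,42,130])))))) (.node (.node (.node (.node (.node (.leaf (.up 3 2669 [113] 0 [87,55,116,5]))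 (.leaf (.up 5 3012 [87] 0 [57,56,89,65]))) (.node (.leaf (.up 3 641 [113] 0 [88,140,121])) (.leaf (.up 4 3571 [150] 1935 [88,94,91,36])))) (.node (.node (.leaf (.up 5 2316 [92] 0 [57,94,103,30])) (.leaf (.up 5 2441 [92] 0 [94,155,75]))) (.node (.leaf (.up 3 2935 [177] 1570 [93,89,170])) (.leaf (.up 2 3733 [157] 1137 [87,94,90,27]))))) (.node (.node (.node (.leaf (.up 4 3589 [113] 0 [176,22])) (.leaf (.up 3 2063 [177] 1570 [110,91,192]))) (.node (.leaf (.up 6 610 [113] 0 [110,104,216])) (.leaf (.up 5 1832 [92] 0 [88,55,155,241])))) (.node (.node (.leaf (.up 6 1834 [80] 0 [57,55,155,208])) (.leaf (.up 5 596 [150] 1935 [57,56,162]))) (.leaf (.up 4 1582 [80] 0 [57,89,130]))))) (.node (.node (.node (.node (.leaf (.up 3 974 [177] 1570 [88,93,123,240])) (.leaf (.up 6 2658 [87] 0 [57,110,176,146]))) (.node (.leaf (.up 6 919 [177] 1570 [110,116,118])) (.leaf (.up 6 1612 [157] 1137 [57,93,104,34])))) (.node (.node (.leaf (.up 6 1930 [177]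 1570 [88,93,140,136])) (.leaf (.up 5 1773 [113] 0 [88,56,89,74]))) (.node (.leaf (.up 4 881 [87] 0 [88,110,104,193])) (.leaf (.up 3 641 [87] 0 [87,93,91,190]))))) (.node (.node (.node (.leaf (.up 3 283 [177] 1570 [88,123,207])) (.leaf (.up 5 2713 [177] 1570 [94,91,246]))) (.node (.leaf (.up 4 3283 [150] 1935 [87,93,104,232])) (.leaf (.up 4 176 [150] 1935 [43,147])))) (.node (.node (.leaf (.up 4 1606 [177] 1570 [87,176,141])) (.leaf (.up 5 2645 [92] 0 [57,56,176,242]))) (.leaf (.up 5 1008 [92] 0 [55,155,1]))))))) (.node (.node (.node (.node (.node (.node (.leaf (.up 5 3412 [150] 1935 [55,43,246])) (.leaf (.up 4 3346 [177] 1570 [93,44,77]))) (.node (.leaf (.up 6 2086 [92] 0 [55,104,238])) (.leaf (.up 4 3567 [177] 1570 [56,43,229])))) (.node (.node (.leaf (.up 4 3466 [92] 0 [94,43,203])) (.leaf (.up 5 657 [150] 1935 [57,55,140,37]))) (.node (.leaf (.up 5 2436 [177] 1570 [87,110,140,245])) (.leaf (.up 5 104 [80] 0 [87,94,116])))))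 (.node (.node (.node (.leaf (.up 5 1113 [157] 1137 [87,55,42,132])) (.leaf (.up 5 572 [80] 0 [57,56,176,248]))) (.node (.leaf (.up 5 67 [157] 1137 [56,140,1])) (.leaf (.up 5 2346 [150] 1935 [88,110,123,65])))) (.node (.node (.leaf (.up 3 1571 [113] 0 [88,110,140,242])) (.leaf (.up 3 2125 [87] 0 [87,176,206]))) (.leaf (.up 4 1371 [157] 1137 [87,56,89,218]))))) (.node (.node (.node (.node (.leaf (.up 5 3305 [150] 1935 [88,43,239])) (.leaf (.up 5 2892 [92] 0 [57,55,90,124]))) (.node (.leaf (.up 4 1831 [157] 1137 [44,204])) (.leaf (.up 4 3197 [150] 1935 [110,43,182])))) (.node (.node (.leaf (.up 3 877 [92] 0 [57,55,140,120])) (.leaf (.up 5 274 [80] 0 [57,94,103,13]))) (.node (.leaf (.up 5 624 [177] 1570 [57,55,104,105])) (.leaf (.up 6 414 [177] 1570 [88,94,44,97]))))) (.node (.node (.node (.leaf (.up 5 114 [87] 0 [88,94,123,205])) (.leaf (.up 5 949 [87] 0 [57,56,44,196]))) (.node (.leaf (.up 4 309 [150] 1935 [88,55,230])) (.leaf (.up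 4 176 [80] 0 [88,110,140,185])))) (.node (.node (.leaf (.up 3 3648 [177] 1570 [88,110,140,245])) (.leaf (.up 5 456 [80] 0 [57,93,123,75]))) (.leaf (.up 3 1449 [177] 1570 [88,94,44,13])))))) (.node (.node (.node (.node (.node (.leaf (.up 5 1393 [177] 1570 [88,110,204])) (.leaf (.up 4 2230 [92] 0 [88,56,104]))) (.node (.leaf (.up 3 2989 [87] 0 [88,94,155,65])) (.leaf (.up 6 921 [177] 1570 [87,56,90,97])))) (.node (.node (.leaf (.up 3 285 [150] 1935 [88,43,185])) (.leaf (.up 4 439 [150] 1935 [87,55,176,243]))) (.node (.leaf (.up 4 2396 [177] 1570 [88,56,89,31])) (.leaf (.up 5 2277 [113] 0 [87,55,140,152]))))) (.node (.node (.node (.leaf (.up 6 622 [92] 0 [88,56,140,222])) (.leaf (.up 6 2911 [157] 1137 [88,104,12]))) (.node (.leaf (.up 4 2925 [150] 1935 [88,55,90,108])) (.leaf (.up 5 2377 [92] 0 [88,94,75])))) (.node (.node (.leaf (.up 4 3652 [150] 1935 [56,90,195])) (.leaf (.up 5 1068 [80] 0 [57,56,104,108]))) (.leaf (.up 5 388 [177]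 1570 [110,104,243]))))) (.node (.node (.node (.node (.leaf (.up 5 818 [157] 1137 [87,91,245])) (.leaf (.up 6 326 [87] 0 [87,94,140,211]))) (.node (.leaf (.up 4 1826 [177] 1570 [87,94,90,194])) (.leaf (.up 4 2503 [87] 0 [110,90,160])))) (.node (.node (.leaf (.up 4 261 [113] 0 [88,103,29])) (.leaf (.up 5 3164 [150] 1935 [87,56,89,166]))) (.leaf (.up 3 1730 [92] 0 [88,56,176,0])))) (.node (.node (.node (.leaf (.up 3 1592 [177] 1570 [57,110,90,186])) (.leaf (.up 3 1815 [113] 0 [93,116,18]))) (.node (.leaf (.up 5 49 [177] 1570 [88,110,155,207])) (.leaf (.up 4 3324 [157] 1137 [87,55,161])))) (.node (.node (.leaf (.up 5 646 [157] 1137 [56,155,165])) (.leaf (.up 5 1217 [150] 1935 [55,104,59]))) (.leaf (.up 6 2518 [87] 0 [88,94,43,95])))))))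

noncomputable def trio3_00001 : Tr TStep :=
  .node (.node (.node (.node (.node (.node (.node (.leaf (.up 4 702 [150] 1935 [88,155,99])) (.leaf (.up 6 109 [150] 1935 [87,93,155,131]))) (.node (.leaf (.up 4 3734 [87] 0 [88,176,159])) (.leaf (.up 5 1005 [87] 0 [110,123,120])))) (.node (.node (.leaf (.up 3 2397 [87] 0 [87,176,204])) (.leaf (.up 6 507 [157] 1137 [110,89,23]))) (.node (.leaf (.up 5 1280 [157] 1137 [57,55,42,71])) (.leaf (.up 4 2203 [150] 1935 [57,110,103,158]))))) (.node (.node (.node (.leaf (.up 5 1527 [157] 1137 [57,42,142])) (.leaf (.up 2 2236 [92] 0 [57,55,104,115]))) (.node (.leaf (.up 4 3197 [177] 1570 [88,94,176,201])) (.leaf (.up 5 3223 [157] 1137 [88,55,140,126])))) (.node (.node (.leaf (.up 6 1967 [150] 1935 [57,43,208])) (.leaf (.up 4 2195 [150] 1935 [88,56,90,162]))) (.leaf (.up 4 2933 [150] 1935 [57,56,140,172]))))) (.node (.node (.node (.node (.leaf (.up 4 3002 [157] 1137 [87,56,91,75])) (.leaf (.up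 2 1701 [150] 1935 [87,94,176,18]))) (.node (.leaf (.up 2 2236 [150] 1935 [88,110,42,59])) (.leaf (.up 4 981 [87] 0 [87,93,89,149])))) (.node (.node (.leaf (.up 3 2348 [150] 1935 [94,90,98])) (.leaf (.up 4 878 [177] 1570 [88,110,89,71]))) (.node (.leaf (.up 4 2933 [177] 1570 [88,110,140,139])) (.leaf (.up 6 3124 [157] 1137 [87,56,246]))))) (.node (.node (.node (.leaf (.up 5 1333 [177] 1570 [57,94,89,198])) (.leaf (.up 3 1076 [92] 0 [110,42,108]))) (.node (.leaf (.up 3 3319 [157] 1137 [103,120])) (.leaf (.up 4 2015 [80] 0 [88,93,176,145])))) (.node (.node (.leaf (.up 4 3324 [113] 0 [88,94,176,187])) (.leaf (.up 5 1444 [150] 1935 [87,93,116,197]))) (.leaf (.up 4 560 [150] 1935 [88,176,29])))))) (.node (.node (.node (.node (.node (.leaf (.up 3 322 [92] 0 [88,93,140,177])) (.leaf (.up 5 3227 [87] 0 [88,93,176,154]))) (.node (.leaf (.up 4 1953 [177] 1570 [57,93,123,168])) (.leaf (.up 6 410 [177] 1570 [87,94,91])))) (.node (.node (.leaf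 (.up 5 758 [113] 0 [88,94,104,208])) (.leaf (.up 3 1927 [92] 0 [87,93,116,97]))) (.node (.leaf (.up 4 229 [113] 0 [87,93,91,142])) (.leaf (.up 5 2501 [87] 0 [93,89,112]))))) (.node (.node (.node (.leaf (.up 4 1775 [113] 0 [56,123,224])) (.leaf (.up 5 2381 [87] 0 [57,55,91,242]))) (.node (.leaf (.up 5 3423 [177] 1570 [87,55,91,214])) (.leaf (.up 6 1231 [92] 0 [94,103,215])))) (.node (.node (.leaf (.up 6 860 [87] 0 [88,55,43,153])) (.leaf (.up 3 3444 [177] 1570 [57,110,174]))) (.leaf (.up 5 1082 [80] 0 [87,55,90,245]))))) (.node (.node (.node (.node (.leaf (.up 5 1008 [150] 1935 [88,94,155,21])) (.leaf (.up 2 2780 [157] 1137 [88,93,43,46]))) (.node (.leaf (.up 5 2309 [157] 1137 [87,56,104,33])) (.leaf (.up 3 2281 [177] 1570 [87,94,116,208])))) (.node (.node (.leaf (.up 5 141 [177] 1570 [87,94,89,158])) (.leaf (.up 4 1002 [80] 0 [87,56,116,18]))) (.node (.leaf (.up 4 412 [157] 1137 [110,90,145])) (.leaf (.up 4 782 [87] 0 [88,110,176,160])))))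 (.node (.node (.node (.leaf (.up 3 965 [113] 0 [55,103,237])) (.leaf (.up 3 3356 [157] 1137 [87,93,123,118]))) (.node (.leaf (.up 5 1649 [80] 0 [])) (.leaf (.up 4 1145 [177] 1570 [57,110,103,5])))) (.node (.node (.leaf (.up 3 1920 [177] 1570 [88,55,104,167])) (.leaf (.up 3 884 [80] 0 [87,55,176,4]))) (.leaf (.up 5 2702 [157] 1137 [87,103,112]))))))) (.node (.node (.node (.node (.node (.node (.leaf (.up 5 1832 [87] 0 [93,103,11])) (.leaf (.up 3 710 [150] 1935 [87,94,103,102]))) (.node (.leaf (.up 5 3184 [80] 0 [88,94,44,207])) (.leaf (.up 5 120 [150] 1935 [56,89,96])))) (.node (.node (.leaf (.up 3 3231 [177] 1570 [87,222])) (.leaf (.up 3 942 [150] 1935 [103,3]))) (.node (.leaf (.up 5 2211 [92] 0 [88,56,116,233])) (.leaf (.up 4 1605 [113] 0 [57,110,116,105]))))) (.node (.node (.node (.leaf (.up 4 111 [177] 1570 [87,94])) (.leaf (.up 4 261 [150] 1935 [55,182]))) (.node (.leaf (.up 6 1550 [80] 0 [110,42,206])) (.leaf (.up 5 3359 [92]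 0 [87,56,104,244])))) (.node (.node (.leaf (.up 5 2874 [150] 1935 [57,110,90,148])) (.leaf (.up 5 1070 [92] 0 [57,176,129]))) (.leaf (.up 6 1187 [150] 1935 [87,94,176,141]))))) (.node (.node (.node (.node (.leaf (.up 3 521 [177] 1570 [87,42,211])) (.leaf (.up 5 2413 [177] 1570 [57,55,89,245]))) (.node (.leaf (.up 3 346 [92] 0 [57,176,152])) (.leaf (.up 5 3184 [113] 0 [87,110,116,120])))) (.node (.node (.leaf (.up 5 944 [87] 0 [88,93,43,117])) (.leaf (.up 5 2885 [177] 1570 [88,55,176,143]))) (.node (.leaf (.up 5 114 [150] 1935 [57,94,104,74])) (.leaf (.up 5 3662 [80] 0 [57,94,91,217]))))) (.node (.node (.node (.leaf (.up 5 3773 [113] 0 [110,123,166])) (.leaf (.up 5 2484 [150] 1935 [57,93,89,120]))) (.node (.leaf (.up 3 987 [157] 1137 [57,93,89,209])) (.leaf (.up 3 2329 [157] 1137 [56,90,121])))) (.node (.node (.leaf (.up 4 2020 [177] 1570 [57,43,135])) (.leaf (.up 4 1933 [150] 1935 [93,43,20]))) (.leaf (.up 6 2300 [150] 1935 [42,133]))))))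 (.node (.node (.node (.node (.node (.leaf (.up 4 1909 [177] 1570 [57,93,91,72])) (.leaf (.up 6 2518 [150] 1935 [87,91,0]))) (.node (.leaf (.up 4 3734 [113] 0 [88,94,103,241])) (.leaf (.up 4 3425 [177] 1570 [57,93,44,106])))) (.node (.node (.leaf (.up 4 409 [150] 1935 [88,56,43,230])) (.leaf (.up 4 2952 [177] 1570 [56,91,168]))) (.node (.leaf (.up 5 2692 [87] 0 [87,110,140,101])) (.leaf (.up 5 3336 [157] 1137 [88,110,123,31]))))) (.node (.node (.node (.leaf (.up 5 1798 [92] 0 [57,94,123,139])) (.leaf (.up 4 1099 [92] 0 [88,110,89,166]))) (.node (.leaf (.up 5 2999 [157] 1137 [55,42,143])) (.leaf (.up 4 417 [150] 1935 [56,90,185])))) (.node (.node (.leaf (.up 5 821 [150] 1935 [57,94,218])) (.leaf (.up 5 481 [150] 1935 [57,55,43,152]))) (.leaf (.up 4 2975 [150] 1935 [56,176,162]))))) (.node (.node (.node (.node (.leaf (.up 5 851 [80] 0 [88,55,116,37])) (.leaf (.up 3 38 [177] 1570 [87,44,106]))) (.node (.leaf (.up 2 3663 [177] 1570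 [57,176,113])) (.leaf (.up 5 1554 [177] 1570 [94,176,192])))) (.node (.node (.leaf (.up 5 1714 [177] 1570 [88,94,123,144])) (.leaf (.up 4 1845 [113] 0 [57,155,147]))) (.leaf (.up 5 3412 [92] 0 [88,93,123,182])))) (.node (.node (.node (.leaf (.up 4 387 [80] 0 [57,55,104,185])) (.leaf (.up 5 1251 [113] 0 [55,103,218]))) (.node (.leaf (.up 3 1979 [87] 0 [87,94,44,189])) (.leaf (.up 6 3580 [87] 0 [88,94,176,207])))) (.node (.node (.leaf (.up 4 1789 [177] 1570 [57,55,140,142])) (.leaf (.up 3 958 [157] 1137 [94,116,111]))) (.leaf (.up 6 937 [157] 1137 [87,89,160])))))))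

noncomputable def trio3_0000 : Tr TStep := .node trio3_00000 trio3_00001

noncomputable def trio3_00010 : Tr TStep :=
  .node (.node (.node (.node (.node (.node (.node (.leaf (.up 3 942 [87] 0 [155,210])) (.leaf (.up 5 429 [113] 0 [110,103,25]))) (.node (.leaf (.up 3 133 [157] 1137 [88,94,140,238])) (.leaf (.up 6 609 [87] 0 [88,190])))) (.node (.node (.leaf (.up 5 3643 [87] 0 [88,56,176,124])) (.leaf (.up 5 1647 [113] 0 [57,55,42,191]))) (.node (.leaf (.up 2 1442 [177] 1570 [57,93,91,224])) (.leaf (.up 3 2660 [157] 1137 [88,93,155,219]))))) (.node (.node (.node (.leaf (.up 4 2941 [92] 0 [87,55,116,240])) (.leaf (.up 3 2964 [92] 0 [57,94,155,18]))) (.node (.leaf (.up 4 2714 [80] 0 [56,176,46])) (.leaf (.up 4 2855 [177] 1570 [57,176,59])))) (.node (.node (.leaf (.up 4 302 [87] 0 [88,93,155,72])) (.leaf (.up 6 489 [87] 0 [140,105]))) (.leaf (.up 4 2772 [87] 0 [87,110,123,12]))))) (.node (.node (.node (.node (.leaf (.up 5 1941 [150]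 1935 [88,110,155,131])) (.leaf (.up 4 2230 [113] 0 [88,110,42,98]))) (.node (.leaf (.up 5 744 [157] 1137 [88,56,140,218])) (.leaf (.up 4 1826 [87] 0 [87,93,42,224])))) (.node (.node (.leaf (.up 1 1 [157] 1137 [57,44,226])) (.leaf (.up 4 3193 [177] 1570 [88,116,213]))) (.node (.leaf (.up 5 3004 [87] 0 [88,93,123,248])) (.leaf (.up 3 2363 [157] 1137 [88,94,176,75]))))) (.node (.node (.node (.leaf (.up 5 1346 [150] 1935 [87,55,90,238])) (.leaf (.up 4 1483 [80] 0 [57,110,90,138]))) (.node (.leaf (.up 6 2981 [87] 0 [57,93,123,248])) (.leaf (.up 3 2335 [177] 1570 [57,110,155,12])))) (.node (.node (.leaf (.up 3 1290 [87] 0 [57,110,140,31])) (.leaf (.up 3 834 [87] 0 [56,89,61]))) (.leaf (.up 4 1605 [87] 0 [88,42,146])))))) (.node (.node (.node (.node (.node (.leaf (.up 4 478 [87] 0 [88,110,104,20])) (.leaf (.up 3 2397 [177] 1570 [56,90,162]))) (.node (.leaf (.up 4 1364 [80] 0 [93,44,35])) (.leaf (.up 6 1007 [150] 1935 [87,93,89,202]))))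 (.node (.node (.leaf (.up 5 1708 [87] 0 [57,93,91,141])) (.leaf (.up 5 2701 [92] 0 [87,56,123,122]))) (.node (.leaf (.up 5 3511 [157] 1137 [87,56,91,196])) (.leaf (.up 4 904 [150] 1935 [88,155,242]))))) (.node (.node (.node (.leaf (.up 4 3638 [87] 0 [110,89,185])) (.leaf (.up 1 71 [113] 0 [57,89,153]))) (.node (.leaf (.up 6 3124 [150] 1935 [91,121])) (.leaf (.up 6 2001 [92] 0 [56,155,65])))) (.node (.node (.leaf (.up 6 3248 [177] 1570 [57,55,140,197])) (.leaf (.up 5 1092 [87] 0 [87,56,44,222]))) (.leaf (.up 6 2940 [87] 0 [87,56,155,139]))))) (.node (.node (.node (.node (.leaf (.up 4 1199 [150] 1935 [57,110,210])) (.leaf (.up 4 1775 [150] 1935 [87,110,42,231]))) (.node (.leaf (.up 4 1757 [113] 0 [94,103,128])) (.leaf (.up 5 1886 [157] 1137 [87,56,140,207])))) (.node (.node (.leaf (.up 5 60 [87] 0 [116,145])) (.leaf (.up 5 3250 [92] 0 [87,29]))) (.node (.leaf (.up 5 2457 [157] 1137 [110,135])) (.leaf (.up 4 2270 [80] 0 [57,123,227])))))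 (.node (.node (.node (.leaf (.up 4 3705 [177] 1570 [57,155,96])) (.leaf (.up 5 572 [113] 0 [57,110,123,205]))) (.node (.leaf (.up 6 2065 [157] 1137 [87,93,91,233])) (.leaf (.up 3 2579 [150] 1935 [93,91,205])))) (.node (.node (.leaf (.up 3 1528 [157] 1137 [87,110,91,173])) (.leaf (.up 5 401 [87] 0 [57,93,140,207]))) (.leaf (.up 4 1952 [92] 0 [88,110,140,224]))))))) (.node (.node (.node (.node (.node (.node (.leaf (.up 6 1345 [177] 1570 [87,94,90,27])) (.leaf (.up 5 2102 [157] 1137 [57,94,176,177]))) (.node (.leaf (.up 5 2139 [177] 1570 [88,104,196])) (.leaf (.up 4 1182 [87] 0 [87,91])))) (.node (.node (.leaf (.up 4 1600 [80] 0 [87,93,89,144])) (.leaf (.up 3 2249 [113] 0 [87,110,123,143]))) (.node (.leaf (.up 5 1323 [177] 1570 [88,56,155,135])) (.leaf (.up 3 1168 [80] 0 [110,176,174]))))) (.node (.node (.node (.leaf (.up 5 2894 [177] 1570 [55,140,178])) (.leaf (.up 5 2104 [177] 1570 [56,104,101]))) (.node (.leaf (.up 6 1550 [150]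 1935 [57,56,44,190])) (.leaf (.up 4 123 [177] 1570 [94,42,208])))) (.node (.node (.leaf (.up 5 449 [87] 0 [88,55,91,127])) (.leaf (.up 6 2854 [177] 1570 [87,55,103,99]))) (.leaf (.up 4 2516 [177] 1570 [87,94,89,113]))))) (.node (.node (.node (.node (.leaf (.up 4 928 [87] 0 [88,123,234])) (.leaf (.up 5 1779 [80] 0 [87,94,155,105]))) (.node (.leaf (.up 2 1701 [113] 0 [87,110,116,196])) (.leaf (.up 6 382 [80] 0 [55,155,241])))) (.node (.node (.leaf (.up 5 765 [92] 0 [87,110,176,237])) (.leaf (.up 6 2300 [157] 1137 [87,56,103,142]))) (.node (.leaf (.up 4 1086 [92] 0 [87,93,42,209])) (.leaf (.up 5 2080 [113] 0 [57,155,181]))))) (.node (.node (.node (.leaf (.up 4 1118 [150] 1935 [88,94,153])) (.leaf (.up 3 3013 [157] 1137 [87,110,104,210]))) (.node (.leaf (.up 4 1963 [87] 0 [87,55,89,215])) (.leaf (.up 4 2896 [177] 1570 [87,55,46])))) (.node (.node (.leaf (.up 5 1142 [150] 1935 [55,231])) (.leaf (.up 6 1266 [177] 1570 [1]))) (.leaf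 (.up 4 2306 [150] 1935 [57,94,116,178])))))) (.node (.node (.node (.node (.node (.leaf (.up 4 690 [150] 1935 [56,155,206])) (.leaf (.up 6 1254 [92] 0 [57,55,103,246]))) (.node (.leaf (.up 4 2772 [157] 1137 [88,93,155,33])) (.leaf (.up 5 2990 [92] 0 [57,56,155,219])))) (.node (.node (.leaf (.up 4 3118 [177] 1570 [88,55,123,232])) (.leaf (.up 5 1805 [87] 0 [88,110,44,229]))) (.node (.leaf (.up 6 79 [150] 1935 [57,94,104,183])) (.leaf (.up 5 1680 [150] 1935 [87,93,89,241]))))) (.node (.node (.node (.leaf (.up 5 60 [92] 0 [55,103,20])) (.leaf (.up 5 335 [177] 1570 [87,55,89,133]))) (.node (.leaf (.up 5 3160 [113] 0 [88,94,91,198])) (.leaf (.up 4 2241 [177] 1570 [104,219])))) (.node (.node (.leaf (.up 4 92 [80] 0 [87,94,43,126])) (.leaf (.up 5 1896 [92] 0 [87,110,176,46]))) (.leaf (.up 4 3315 [177] 1570 [57,110,176,174]))))) (.node (.node (.node (.node (.leaf (.up 5 2147 [177] 1570 [57,94,155,224])) (.leaf (.up 2 2602 [80] 0 [87,110,155,69])))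 (.node (.leaf (.up 5 2356 [177] 1570 [57,55,176,139])) (.leaf (.up 5 3242 [92] 0 [87,55,42,95])))) (.node (.node (.leaf (.up 4 248 [177] 1570 [57,110,176,0])) (.leaf (.up 4 3726 [177] 1570 [93,43,92]))) (.leaf (.up 3 1316 [157] 1137 [87,110,89,33])))) (.node (.node (.node (.leaf (.up 3 2063 [157] 1137 [87,93,238])) (.leaf (.up 4 3585 [92] 0 [57,155,30]))) (.node (.leaf (.up 3 2238 [80] 0 [87,56,44,27])) (.leaf (.up 5 2260 [157] 1137 [88,110,187])))) (.node (.node (.leaf (.up 5 2891 [150] 1935 [87,56,123,156])) (.leaf (.up 5 3784 [87] 0 [87,56,89,76]))) (.leaf (.up 4 1809 [157] 1137 [87,110,116,177])))))))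

noncomputable def trio3_00011 : Tr TStep :=
  .node (.node (.node (.node (.node (.node (.node (.leaf (.up 5 596 [113] 0 [87,56,43,27])) (.leaf (.up 3 1922 [92] 0 [88,56,104,2]))) (.node (.leaf (.up 6 934 [177] 1570 [88,55,89,160])) (.leaf (.up 4 478 [157] 1137 [57,55,116,18])))) (.node (.node (.leaf (.up 2 1133 [177] 1570 [88,123,141])) (.leaf (.up 6 3489 [157] 1137 [88,110,90,130]))) (.node (.leaf (.up 5 1880 [87] 0 [55,176,136])) (.leaf (.up 6 2928 [87] 0 [57,110,116,30]))))) (.node (.node (.node (.leaf (.up 5 3298 [157] 1137 [88,94,91,154])) (.leaf (.up 6 2199 [157] 1137 [103,136]))) (.node (.leaf (.up 6 1204 [80] 0 [88,55,140,121])) (.leaf (.up 5 407 [150] 1935 [55,89,114])))) (.node (.node (.leaf (.up 5 3547 [157] 1137 [94,30])) (.leaf (.up 3 1095 [177] 1570 [89]))) (.leaf (.up 5 3126 [92] 0 [57,44,205]))))) (.node (.node (.node (.node (.leaf (.up 3 523 [87] 0 [88,116])) (.leaf (.up 5 1340 [80] 0 [55,146]))) (.node (.leaf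 (.up 6 1072 [157] 1137 [87,93,140,100])) (.leaf (.up 5 2692 [177] 1570 [87,110,155,209])))) (.node (.node (.leaf (.up 5 1773 [80] 0 [57,94,176,71])) (.leaf (.up 4 2819 [177] 1570 [88,155,237]))) (.node (.leaf (.up 6 1175 [177] 1570 [57,55,42,145])) (.leaf (.up 5 1313 [177] 1570 [110,123,172]))))) (.node (.node (.node (.leaf (.up 2 1654 [177] 1570 [56,90,132])) (.leaf (.up 4 1733 [157] 1137 [93,140,180]))) (.node (.leaf (.up 2 648 [92] 0 [88,56,89,35])) (.leaf (.up 4 2047 [92] 0 [94,104,226])))) (.node (.node (.leaf (.up 5 875 [150] 1935 [57,55,90,128])) (.leaf (.up 5 1217 [92] 0 [87,93,44,145]))) (.leaf (.up 5 998 [157] 1137 [87,94,205])))))) (.node (.node (.node (.node (.node (.leaf (.up 6 1037 [157] 1137 [56,116,147])) (.leaf (.up 6 3612 [157] 1137 [88,55,7]))) (.node (.leaf (.up 5 996 [177] 1570 [87,55,123,0])) (.leaf (.up 4 3705 [87] 0 [93,103,195])))) (.node (.node (.leaf (.up 5 1737 [87] 0 [88,110,44,204])) (.leaf (.up 4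 3039 [177] 1570 [57,42,128]))) (.node (.leaf (.up 4 2368 [92] 0 [155,20])) (.leaf (.up 5 2698 [150] 1935 [57,110,103,221]))))) (.node (.node (.node (.leaf (.up 5 2982 [92] 0 [87,55,123,233])) (.leaf (.up 2 1402 [150] 1935 [87,93,31]))) (.node (.leaf (.up 6 885 [177] 1570 [87,56,123,23])) (.leaf (.up 5 429 [87] 0 [87,110,42,12])))) (.node (.node (.leaf (.up 5 3472 [113] 0 [57,56,104,170])) (.leaf (.up 6 2981 [80] 0 [87,44,65]))) (.leaf (.up 4 1172 [113] 0 [88,56,155,226]))))) (.node (.node (.node (.node (.leaf (.up 5 1347 [177] 1570 [55,176,209])) (.leaf (.up 3 3231 [157] 1137 [55,123,92]))) (.node (.leaf (.up 5 151 [80] 0 [57,110,116,142])) (.leaf (.up 5 2594 [113] 0 [57,55,89,244])))) (.node (.node (.leaf (.up 3 237 [92] 0 [93,42,136])) (.leaf (.up 5 3524 [80] 0 [88,93,43,121]))) (.leaf (.up 3 300 [87] 0 [57,55,90,25])))) (.node (.node (.node (.leaf (.up 5 2554 [157] 1137 [87,55,44,198])) (.leaf (.up 3 2273 [177] 1570 [87,44,220])))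 (.node (.leaf (.up 5 1457 [150] 1935 [88,55,43,127])) (.leaf (.up 3 641 [80] 0 [110,155,146])))) (.node (.node (.leaf (.up 3 2606 [177] 1570 [87,93,161])) (.leaf (.up 5 705 [80] 0 [57,56,103,31]))) (.leaf (.up 6 2209 [150] 1935 [57,55,43,125]))))))) (.node (.node (.node (.node (.node (.node (.leaf (.up 4 1530 [177] 1570 [55,91,217])) (.leaf (.up 4 2969 [80] 0 [87,55,104,169]))) (.node (.leaf (.up 3 2908 [157] 1137 [176,23])) (.leaf (.up 2 2998 [87] 0 [88,56,89,232])))) (.node (.node (.leaf (.up 5 2171 [80] 0 [57,90,95])) (.leaf (.up 5 3419 [177] 1570 [88,56,91,210]))) (.node (.leaf (.up 2 1133 [150] 1935 [87,110,123,193])) (.leaf (.up 5 3712 [177] 1570 [88,93,104,98]))))) (.node (.node (.node (.leaf (.up 5 463 [150] 1935 [140,74])) (.leaf (.up 6 2897 [113] 0 [87,56,176,16]))) (.node (.leaf (.up 5 3594 [157] 1137 [88,110,90,21])) (.leaf (.up 5 3611 [177] 1570 [56,104,219])))) (.node (.node (.leaf (.up 6 3088 [150] 1935 [57,93,116,156]))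 (.leaf (.up 5 2381 [157] 1137 [57,55,104,30]))) (.leaf (.up 5 3735 [87] 0 [55,140,215]))))) (.node (.node (.node (.node (.leaf (.up 5 948 [80] 0 [93,91,119])) (.leaf (.up 6 696 [150] 1935 [87,110,176,8]))) (.node (.leaf (.up 2 995 [87] 0 [87,56,176,100])) (.leaf (.up 3 2789 [113] 0 [88,110,42,139])))) (.node (.node (.leaf (.up 5 3767 [92] 0 [88,93,140,146])) (.leaf (.up 6 937 [177] 1570 [87,94,103,201]))) (.node (.leaf (.up 5 2587 [177] 1570 [87,93,176,223])) (.leaf (.up 4 1989 [177] 1570 [57,94,90,121]))))) (.node (.node (.node (.leaf (.up 5 1537 [177] 1570 [93,91,125])) (.leaf (.up 6 3533 [157] 1137 [87,110,155,35]))) (.node (.leaf (.up 6 3560 [177] 1570 [94,104,60])) (.leaf (.up 5 545 [150] 1935 [87,93,44,13])))) (.node (.node (.leaf (.up 3 399 [113] 0 [57,94,90,150])) (.leaf (.up 4 123 [150] 1935 [88,55,90,163]))) (.leaf (.up 5 1180 [87] 0 [87,110,103,139])))))) (.node (.node (.node (.node (.node (.leaf (.up 4 1424 [92] 0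 [87,94,140,135])) (.leaf (.up 5 284 [87] 0 [87,55,211]))) (.node (.leaf (.up 5 2871 [157] 1137 [90,181])) (.leaf (.up 7 1494 [157] 1137 [88,55,155,193])))) (.node (.node (.leaf (.up 5 2052 [87] 0 [57,94,155,1])) (.leaf (.up 4 3613 [157] 1137 [88,116,242]))) (.node (.leaf (.up 6 3777 [157] 1137 [93,140,126])) (.leaf (.up 5 2551 [177] 1570 [57,94,91,159]))))) (.node (.node (.node (.leaf (.up 5 482 [150] 1935 [57,94,44,164])) (.leaf (.up 5 1546 [177] 1570 [87,93,89,25]))) (.node (.leaf (.up 4 2305 [157] 1137 [88,56,116,189])) (.leaf (.up 5 3772 [177] 1570 [57,94,103,131])))) (.node (.node (.leaf (.up 6 3074 [150] 1935 [88,93,140,161])) (.leaf (.up 5 2652 [177] 1570 [87,44,180]))) (.leaf (.up 5 2369 [80] 0 [110,123,168]))))) (.node (.node (.node (.node (.leaf (.up 3 3679 [177] 1570 [88,56,123,178])) (.leaf (.up 6 1059 [157] 1137 [88,116,151]))) (.node (.leaf (.up 5 1751 [177] 1570 [87,44,221])) (.leaf (.up 6 42 [177] 1570 [55,116,127]))))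 (.node (.node (.leaf (.up 6 3268 [150] 1935 [88,55,91,12])) (.leaf (.up 4 1435 [157] 1137 [88,110,176,108]))) (.leaf (.up 5 1819 [113] 0 [57,123,212])))) (.node (.node (.node (.leaf (.up 5 809 [80] 0 [88,56,91,25])) (.leaf (.up 3 1192 [150] 1935 [87,56,42,159]))) (.node (.leaf (.up 2 2430 [177] 1570 [88,56,44,236])) (.leaf (.up 5 1710 [157] 1137 [88,93,123,138])))) (.node (.node (.leaf (.up 5 1196 [177] 1570 [87,94,91,167])) (.leaf (.up 4 3388 [177] 1570 [110,42,122]))) (.leaf (.up 6 2375 [150] 1935 [88,110,142])))))))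

noncomputable def trio3_0001 : Tr TStep := .node trio3_00010 trio3_00011

noncomputable def trio3_000 : Tr TStep := .node trio3_0000 trio3_0001

noncomputable def trio3_00100 : Tr TStep :=
  .node (.node (.node (.node (.node (.node (.node (.leaf (.up 4 1172 [157] 1137 [56,104,33])) (.leaf (.up 4 605 [92] 0 [57,110,116,210]))) (.node (.leaf (.up 4 3504 [177] 1570 [94,140,240])) (.leaf (.up 4 1831 [87] 0 [57,94,44,13])))) (.node (.node (.leaf (.up 6 2163 [150] 1935 [57,43,135])) (.leaf (.up 5 2413 [150] 1935 [88,110,43,165]))) (.node (.leaf (.up 4 1390 [177] 1570 [42,219])) (.leaf (.up 3 2647 [92] 0 [57,94,176,130]))))) (.node (.node (.node (.leaf (.up 3 1922 [113] 0 [110,123,220])) (.leaf (.up 2 2780 [150] 1935 [88,93,103,7]))) (.node (.leaf (.up 3 3231 [80] 0 [87,110,91,21])) (.leaf (.up 5 1276 [87] 0 [87,94,43,125])))) (.node (.node (.leaf (.up 4 3717 [177] 1570 [88,93,104,98])) (.leaf (.up 6 2711 [177] 1570 [88,56,104,160])))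 (.leaf (.up 6 1696 [92] 0 [87,104,147]))))) (.node (.node (.node (.node (.leaf (.up 5 765 [80] 0 [57,89,170])) (.leaf (.up 5 3694 [113] 0 [110,103,237]))) (.node (.leaf (.up 5 2129 [80] 0 [88,94,123,164])) (.leaf (.up 5 3471 [177] 1570 [88,110,140,214])))) (.node (.node (.leaf (.up 6 1556 [177] 1570 [88,55,104,136])) (.leaf (.up 4 448 [150] 1935 [140,135]))) (.node (.leaf (.up 5 776 [87] 0 [87,55,116,98])) (.leaf (.up 5 1213 [150] 1935 [88,110,91,131]))))) (.node (.node (.node (.leaf (.up 4 1102 [177] 1570 [94,123,202])) (.leaf (.up 4 2045 [177] 1570 [57,55,104,168]))) (.node (.leaf (.up 5 2095 [87] 0 [87,110,104,163])) (.leaf (.up 5 1250 [87] 0 [57,140,11])))) (.node (.node (.leaf (.up 4 395 [157] 1137 [87,110,89,204])) (.leaf (.up 2 477 [92] 0 [57,56,89,144]))) (.leaf (.up 5 449 [150] 1935 [87,140,10])))))) (.node (.node (.node (.node (.node (.leaf (.up 3 2397 [92] 0 [57,110,89,65])) (.leaf (.up 6 1412 [92] 0 [57,55,103,108])))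 (.node (.leaf (.up 4 585 [177] 1570 [57,93,42,8])) (.leaf (.up 3 3409 [157] 1137 [87,103,18])))) (.node (.node (.leaf (.up 2 2626 [177] 1570 [57,103,212])) (.leaf (.up 4 3537 [150] 1935 [57,110,89,141]))) (.node (.leaf (.up 5 1454 [113] 0 [55,176,108])) (.leaf (.up 3 2343 [87] 0 [87,56,43,125]))))) (.node (.node (.node (.leaf (.up 4 1813 [177] 1570 [56,91,184])) (.leaf (.up 5 1043 [113] 0 [57,93,103,237]))) (.node (.leaf (.up 5 836 [177] 1570 [88,55,116,174])) (.leaf (.up 5 2381 [113] 0 [57,110,90,9])))) (.node (.node (.leaf (.up 4 892 [113] 0 [94,71])) (.leaf (.up 4 871 [87] 0 [88,110,104,10]))) (.leaf (.up 5 2393 [87] 0 [88,110,44,133]))))) (.node (.node (.node (.node (.leaf (.up 2 3226 [87] 0 [88,55,43,209])) (.leaf (.up 4 2447 [157] 1137 [87,110,43,190]))) (.node (.leaf (.up 5 3029 [157] 1137 [93,104,0])) (.leaf (.up 5 1319 [87] 0 [88,246])))) (.node (.node (.leaf (.up 3 420 [157] 1137 [56,155,0])) (.leaf (.up 4 1118 [177]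 1570 [94,176,170]))) (.node (.leaf (.up 3 1316 [87] 0 [57,94,90,188])) (.leaf (.up 4 480 [87] 0 [87,55,90,223]))))) (.node (.node (.node (.leaf (.up 1 2 [177] 1570 [88,55,42,124])) (.leaf (.up 6 3489 [113] 0 [87,110,44,105]))) (.node (.leaf (.up 5 570 [113] 0 [87,93,42,18])) (.leaf (.up 4 3280 [150] 1935 [87,110,104,190])))) (.node (.node (.leaf (.up 4 729 [150] 1935 [55,123,139])) (.leaf (.up 4 3280 [113] 0 [57,110,176,134]))) (.leaf (.up 5 2465 [87] 0 [57,94,89,59]))))))) (.node (.node (.node (.node (.node (.node (.leaf (.up 6 1241 [80] 0 [57,110,140,31])) (.leaf (.up 5 2751 [150] 1935 [88,56,155,157]))) (.node (.leaf (.up 5 3111 [92] 0 [57,93,104,235])) (.leaf (.up 4 1761 [177] 1570 [110,89,61])))) (.node (.node (.leaf (.up 5 2377 [113] 0 [88,110,91,77])) (.leaf (.up 4 3638 [80] 0 [87,55,116,133]))) (.node (.leaf (.up 3 2335 [150] 1935 [57,110,123,165])) (.leaf (.up 6 2919 [157] 1137 [88,110,90,222]))))) (.node (.node (.node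 (.leaf (.up 5 1756 [157] 1137 [88,56,155,227])) (.leaf (.up 4 1990 [177] 1570 [116,181]))) (.node (.leaf (.up 2 1701 [87] 0 [55,104,247])) (.leaf (.up 5 2197 [92] 0 [57,103,191])))) (.node (.node (.leaf (.up 3 3743 [177] 1570 [88,93,116,152])) (.leaf (.up 4 3341 [87] 0 [87,56,103,137]))) (.leaf (.up 5 2405 [177] 1570 [93,89,109]))))) (.node (.node (.node (.node (.leaf (.up 5 1810 [87] 0 [88,56,116,181])) (.leaf (.up 4 2101 [177] 1570 [57,55,90,205]))) (.node (.leaf (.up 6 977 [92] 0 [88,116,10])) (.leaf (.up 4 3537 [87] 0 [57,93,89,109])))) (.node (.node (.leaf (.up 6 2207 [150] 1935 [56,89,139])) (.leaf (.up 5 2454 [177] 1570 [57,90,159]))) (.node (.leaf (.up 5 2885 [87] 0 [89,244])) (.leaf (.up 4 1570 [80] 0 [57,93,91,183]))))) (.node (.node (.node (.leaf (.up 2 298 [92] 0 [57,93,90,216])) (.leaf (.up 5 2012 [157] 1137 [87,56,90,59]))) (.node (.leaf (.up 4 1080 [177] 1570 [88,56,44,25])) (.leaf (.up 5 3351 [177] 1570 [87,94,199]))))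 (.node (.node (.leaf (.up 5 3164 [87] 0 [88,90,156])) (.leaf (.up 5 657 [113] 0 [56,43,135]))) (.leaf (.up 5 362 [87] 0 [88,110,44,18])))))) (.node (.node (.node (.node (.node (.leaf (.up 4 904 [113] 0 [87,94,44,152])) (.leaf (.up 4 716 [87] 0 [88,110,176,147]))) (.node (.leaf (.up 5 1229 [157] 1137 [88,2])) (.leaf (.up 5 1800 [80] 0 [87,56,89,16])))) (.node (.node (.leaf (.up 5 2385 [87] 0 [88,94,176,160])) (.leaf (.up 2 1359 [87] 0 [88,42,248]))) (.node (.leaf (.up 2 1133 [87] 0 [110,176,194])) (.leaf (.up 5 3622 [177] 1570 [88,110,22]))))) (.node (.node (.node (.leaf (.up 4 299 [80] 0 [56,42,156])) (.leaf (.up 5 2437 [92] 0 [87,110,123,233]))) (.node (.leaf (.up 5 905 [150] 1935 [57,56,116,169])) (.leaf (.up 5 2245 [157] 1137 [88,93,104,211])))) (.node (.node (.leaf (.up 4 2777 [113] 0 [56,44,9])) (.leaf (.up 6 2028 [177] 1570 [87,55,44,124]))) (.leaf (.up 5 1832 [157] 1137 [57,93,104,8]))))) (.node (.node (.node (.node (.leaf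 (.up 3 3679 [87] 0 [88,110,140,12])) (.leaf (.up 5 2059 [177] 1570 [93,103,76]))) (.node (.leaf (.up 6 1908 [150] 1935 [88,94,42,128])) (.leaf (.up 6 1231 [80] 0 [57,116,244])))) (.node (.node (.leaf (.up 6 3595 [87] 0 [90,240])) (.leaf (.up 4 395 [177] 1570 [57,56,91,31]))) (.leaf (.up 6 2750 [177] 1570 [88,55,44,125])))) (.node (.node (.node (.leaf (.up 4 3357 [87] 0 [87,110,90,112])) (.leaf (.up 5 3296 [177] 1570 [88,55,176,65]))) (.node (.leaf (.up 5 104 [157] 1137 [57,56,89,11])) (.leaf (.up 4 2318 [157] 1137 [57,94,44,7])))) (.node (.node (.leaf (.up 4 1512 [157] 1137 [87,94,90,218])) (.leaf (.up 5 835 [177] 1570 [57,90,132]))) (.leaf (.up 3 3635 [150] 1935 [57,110,103,115])))))))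

noncomputable def trio3_00101 : Tr TStep :=
  .node (.node (.node (.node (.node (.node (.node (.leaf (.up 2 1852 [177] 1570 [88,56,43,6])) (.leaf (.up 6 2854 [87] 0 [110,103,131]))) (.node (.leaf (.up 4 3383 [87] 0 [57,110,91,122])) (.leaf (.up 5 2526 [177] 1570 [87,43,125])))) (.node (.node (.leaf (.up 3 2397 [80] 0 [57,140,177])) (.leaf (.up 3 521 [87] 0 [57,93,90,18]))) (.node (.leaf (.up 5 1554 [80] 0 [87,103,144])) (.leaf (.up 4 1435 [150] 1935 [87,94,123,148]))))) (.node (.node (.node (.leaf (.up 5 2366 [113] 0 [88,56,123,98])) (.leaf (.up 5 2701 [80] 0 [56,123,102]))) (.node (.leaf (.up 4 3705 [113] 0 [88,55,123,102])) (.leaf (.up 5 3210 [80] 0 [87,104,206])))) (.node (.node (.leaf (.up 5 2828 [177] 1570 [88,93,140,177])) (.leaf (.up 4 448 [113] 0 [88,94,44,20]))) (.leaf (.up 5 453 [80] 0 [88,43,164]))))) (.node (.node (.node (.node (.leaf (.up 2 3226 [150] 1935 [88,110,123,71])) (.leaf (.up 4 3413 [87] 0 [93,176,189])))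 (.node (.leaf (.up 3 523 [80] 0 [87,93,15])) (.leaf (.up 5 1832 [150] 1935 [110,44,92])))) (.node (.node (.leaf (.up 6 149 [80] 0 [57,55,116,144])) (.leaf (.up 4 2937 [157] 1137 [87,56,140,190]))) (.node (.leaf (.up 6 3634 [177] 1570 [57,91,191])) (.leaf (.up 5 1936 [87] 0 [87,94,176,9]))))) (.node (.node (.node (.leaf (.up 4 124 [177] 1570 [55,91,220])) (.leaf (.up 3 1432 [87] 0 [93,44,142]))) (.node (.leaf (.up 4 3265 [87] 0 [88,140,97])) (.leaf (.up 5 221 [150] 1935 [93,116,169])))) (.node (.node (.leaf (.up 4 2286 [157] 1137 [87,155,206])) (.leaf (.up 2 2376 [177] 1570 [87,93,104,232]))) (.leaf (.up 2 1189 [92] 0 [57,110,89,208])))))) (.node (.node (.node (.node (.node (.leaf (.up 5 890 [177] 1570 [123,30])) (.leaf (.up 4 248 [157] 1137 [57,56,42,121]))) (.node (.leaf (.up 3 20 [92] 0 [87,55,44,247])) (.leaf (.up 4 3431 [157] 1137 [87,56,42,184])))) (.node (.node (.leaf (.up 4 2521 [177] 1570 [88,110,155,99])) (.leaf (.up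 3 2273 [113] 0 [88,55,89,22]))) (.node (.leaf (.up 2 3663 [80] 0 [57,56,140,223])) (.leaf (.up 5 2226 [87] 0 [87,94,176,5]))))) (.node (.node (.node (.leaf (.up 5 1296 [150] 1935 [87,110,43,163])) (.leaf (.up 5 1491 [87] 0 [88,91,122]))) (.node (.leaf (.up 3 1192 [157] 1137 [57,91,75])) (.leaf (.up 4 729 [92] 0 [87,56,123,244])))) (.node (.node (.leaf (.up 6 1742 [92] 0 [57,93,43,77])) (.leaf (.up 6 2267 [150] 1935 [88,110,91,200]))) (.leaf (.up 4 1102 [157] 1137 [88,110,104,121]))))) (.node (.node (.node (.node (.leaf (.up 4 1099 [87] 0 [87,94,43,148])) (.leaf (.up 4 1953 [92] 0 [57,110,155,125]))) (.node (.leaf (.up 5 70 [92] 0 [88,110,116,217])) (.leaf (.up 5 3692 [92] 0 [88,55,89,229])))) (.node (.node (.leaf (.up 5 3603 [157] 1137 [176,131])) (.leaf (.up 3 2662 [177] 1570 [87,56,176,144]))) (.leaf (.up 5 2743 [177] 1570 [88,110,91,120])))) (.node (.node (.node (.leaf (.up 6 2613 [92] 0 [110,116,212])) (.leaf (.up 3 413 [157]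 1137 [123,170]))) (.node (.leaf (.up 5 2292 [177] 1570 [88,56,123,232])) (.leaf (.up 4 3001 [177] 1570 [110,90,21])))) (.node (.node (.leaf (.up 5 3227 [177] 1570 [87,110,36])) (.leaf (.up 5 2005 [113] 0 [88,94,123,206]))) (.leaf (.up 5 3305 [113] 0 [87,179]))))))) (.node (.node (.node (.node (.node (.node (.leaf (.up 5 1711 [87] 0 [87,89,69])) (.leaf (.up 4 928 [92] 0 [88,93,176,96]))) (.node (.leaf (.up 2 2798 [157] 1137 [55,123,187])) (.leaf (.up 5 3715 [177] 1570 [87,56,116,109])))) (.node (.node (.leaf (.up 4 2610 [87] 0 [88,93,8])) (.leaf (.up 3 807 [150] 1935 [87,116,201]))) (.node (.leaf (.up 4 143 [80] 0 [88,93,176,77])) (.leaf (.up 5 3731 [177] 1570 [57,55,104,4]))))) (.node (.node (.node (.leaf (.up 4 728 [150] 1935 [87,91,143])) (.leaf (.up 4 690 [113] 0 [56,176,175]))) (.node (.leaf (.up 5 3347 [177] 1570 [57,56,42,239])) (.leaf (.up 6 2919 [177] 1570 [88,55,217])))) (.node (.node (.leaf (.up 6 3612 [87] 0 [55,104,186]))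 (.leaf (.up 6 2421 [157] 1137 [57,93,140,113]))) (.leaf (.up 5 1491 [113] 0 [110,104,225]))))) (.node (.node (.node (.node (.leaf (.up 4 3021 [92] 0 [87,110,89,169])) (.leaf (.up 3 1307 [113] 0 [57,42,229]))) (.node (.leaf (.up 5 56 [177] 1570 [55,103,203])) (.leaf (.up 3 300 [80] 0 [57,56,91,0])))) (.node (.node (.leaf (.up 6 1273 [157] 1137 [57,116,137])) (.leaf (.up 4 176 [113] 0 [88,55,44,117]))) (.node (.leaf (.up 5 3362 [87] 0 [110,123,156])) (.leaf (.up 3 1353 [92] 0 [88,91,96]))))) (.node (.node (.node (.leaf (.up 4 661 [80] 0 [56,42,29])) (.leaf (.up 4 1086 [87] 0 [93,176,36]))) (.node (.leaf (.up 4 3726 [87] 0 [57,94,176,100])) (.leaf (.up 5 2298 [87] 0 [87,56,124])))) (.node (.node (.leaf (.up 4 3069 [177] 1570 [88,110,43,180])) (.leaf (.up 4 2230 [177] 1570 [57,176,61]))) (.leaf (.up 5 361 [80] 0 [87,110,176,237])))))) (.node (.node (.node (.node (.node (.leaf (.up 5 2129 [113] 0 [57,93,123,122])) (.leaf (.up 5 2892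 [87] 0 [57,93,116,179]))) (.node (.leaf (.up 5 2080 [87] 0 [55,140,144])) (.leaf (.up 3 710 [177] 1570 [93,90,153])))) (.node (.node (.leaf (.up 5 1703 [87] 0 [57,94,103,7])) (.leaf (.up 4 799 [87] 0 [116,230]))) (.node (.leaf (.up 4 299 [150] 1935 [88,110,43,113])) (.leaf (.up 5 177 [87] 0 [57,94,104,208]))))) (.node (.node (.node (.leaf (.up 6 489 [80] 0 [55,131])) (.leaf (.up 6 1827 [80] 0 [87,91,130]))) (.node (.leaf (.up 5 3129 [113] 0 [94,42,7])) (.leaf (.up 2 614 [80] 0 [87,116,77])))) (.node (.node (.leaf (.up 2 1701 [92] 0 [87,93,104,206])) (.leaf (.up 5 3100 [80] 0 [87,56,90,151]))) (.leaf (.up 5 2403 [177] 1570 [55,91,194]))))) (.node (.node (.node (.node (.leaf (.up 4 1053 [177] 1570 [87,56,91,227])) (.leaf (.up 4 3652 [113] 0 [57,93,155,60]))) (.node (.leaf (.up 3 738 [80] 0 [57,93,176,146])) (.leaf (.up 5 2385 [92] 0 [87,55,176,189])))) (.node (.node (.leaf (.up 4 586 [80] 0 [87,94,123,95])) (.leaf (.up 5 2247 [87]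 0 [57,94,91,245]))) (.leaf (.up 4 457 [150] 1935 [94,140,119])))) (.node (.node (.node (.leaf (.up 3 1571 [150] 1935 [57,44,183])) (.leaf (.up 6 34 [80] 0 [87,55,43,210]))) (.node (.leaf (.up 5 3479 [87] 0 [93,103,75])) (.leaf (.up 4 901 [177] 1570 [87,93,155,150])))) (.node (.node (.leaf (.up 4 3302 [157] 1137 [88,94,103,162])) (.leaf (.up 4 2015 [113] 0 [88,94,91,74]))) (.leaf (.up 4 3215 [87] 0 [57,110,155,10])))))))

noncomputable def trio3_0010 : Tr TStep := .node trio3_00100 trio3_00101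

noncomputable def trio3_00110 : Tr TStep :=
  .node (.node (.node (.node (.node (.node (.node (.leaf (.root 5)) (.leaf (.up 3 225 [177] 1570 [94,10]))) (.node (.leaf (.up 5 474 [177] 1570 [55,116,221])) (.leaf (.up 4 1430 [113] 0 [88,55,103,111])))) (.node (.node (.leaf (.up 3 645 [177] 1570 [57,93,89,20])) (.leaf (.up 5 2842 [150] 1935 [110,154]))) (.node (.leaf (.up 5 2597 [80] 0 [87,108])) (.leaf (.up 6 2915 [92] 0 [87,94,123,146]))))) (.node (.node (.node (.leaf (.up 3 2335 [87] 0 [56,103,129])) (.leaf (.up 4 3069 [92] 0 [110,91,69]))) (.node (.leaf (.up 4 2925 [177] 1570 [57,55,140,36])) (.leaf (.up 6 1716 [150] 1935 [56,42,180])))) (.node (.node (.leaf (.up 4 2521 [87] 0 [87,110,104,192])) (.leaf (.up 4 2448 [177] 1570 [88,123,4]))) (.leaf (.up 5 3412 [157] 1137 [88,93,90,210]))))) (.node (.node (.node (.node (.leaf (.up 3 2510 [80] 0 [0])) (.leaf (.up 3 3635 [157] 1137 [57,56,44,147]))) (.node (.leaf (.up 4 110 [157] 1137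 [56,43,201])) (.leaf (.up 5 2100 [113] 0 [43,139])))) (.node (.node (.leaf (.up 3 102 [87] 0 [57,93,155,189])) (.leaf (.up 2 3226 [113] 0 [87,56,104,223]))) (.node (.leaf (.up 5 3647 [157] 1137 [87,44,10])) (.leaf (.up 3 2455 [177] 1570 [87,94,176,217]))))) (.node (.node (.node (.leaf (.up 5 2808 [177] 1570 [155,152])) (.leaf (.up 4 3739 [80] 0 [88,55,89,201]))) (.node (.leaf (.up 5 707 [150] 1935 [88,56,27])) (.leaf (.up 5 2788 [92] 0 [57,43,199])))) (.node (.node (.leaf (.up 3 3201 [87] 0 [55,104,184])) (.leaf (.up 5 3096 [80] 0 [57,94,103,4]))) (.leaf (.up 4 2674 [177] 1570 [87,56,104,136])))))) (.node (.node (.node (.node (.node (.leaf (.up 6 2911 [87] 0 [87,94,44,211])) (.leaf (.up 5 1490 [87] 0 [87,55,90,21]))) (.node (.leaf (.up 5 2596 [157] 1137 [87,93,190])) (.leaf (.up 5 2366 [92] 0 [110,140,221])))) (.node (.node (.leaf (.up 3 666 [80] 0 [88,110,42,59])) (.leaf (.up 5 3748 [92] 0 [94,176,135]))) (.node (.leaf (.up 5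 1217 [80] 0 [57,110,104,113])) (.leaf (.up 4 1358 [177] 1570 [104,239]))))) (.node (.node (.node (.leaf (.up 5 2245 [80] 0 [123,231])) (.leaf (.up 5 1311 [157] 1137 [110,123,143]))) (.node (.leaf (.up 6 109 [87] 0 [110,116,195])) (.leaf (.up 5 2906 [157] 1137 [87,110,42,208])))) (.node (.node (.leaf (.up 5 367 [87] 0 [56,155,99])) (.leaf (.up 4 1660 [177] 1570 [55,140,160]))) (.leaf (.up 5 2261 [80] 0 [88,110,123,107]))))) (.node (.node (.node (.node (.leaf (.up 5 2373 [150] 1935 [88,155,97])) (.leaf (.up 5 913 [177] 1570 [57,94,42,241]))) (.node (.leaf (.up 5 2939 [177] 1570 [88,148])) (.leaf (.up 4 1572 [157] 1137 [57,110,42,134])))) (.node (.node (.leaf (.up 3 580 [113] 0 [93,43,205])) (.leaf (.up 2 2958 [157] 1137 [87,93,103,160]))) (.node (.leaf (.up 5 2100 [80] 0 [87,93,104,154])) (.leaf (.up 5 2788 [113] 0 [88,103,158]))))) (.node (.node (.node (.leaf (.up 6 2546 [150] 1935 [88,44,142])) (.leaf (.up 4 1200 [87] 0 [89,204])))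 (.node (.leaf (.up 6 3781 [87] 0 [110,43,34])) (.leaf (.up 6 1517 [157] 1137 [88,90,131])))) (.node (.node (.leaf (.up 3 1418 [177] 1570 [57,55,103,120])) (.leaf (.up 5 818 [113] 0 [110,217]))) (.leaf (.up 6 1668 [157] 1137 [87,55,91,59]))))))) (.node (.node (.node (.node (.node (.node (.leaf (.up 3 3635 [92] 0 [57,110,176,226])) (.leaf (.up 6 1010 [80] 0 [57,56,89,152]))) (.node (.leaf (.up 4 3567 [92] 0 [57,110,91,124])) (.leaf (.up 3 23 [150] 1935 [93,176,208])))) (.node (.node (.leaf (.up 4 1567 [177] 1570 [88,94,140,162])) (.leaf (.up 2 3733 [87] 0 [89,166]))) (.node (.leaf (.up 4 256 [150] 1935 [44,209])) (.leaf (.up 5 2702 [177] 1570 [56,103,241]))))) (.node (.node (.node (.leaf (.up 2 2998 [157] 1137 [87,155,22])) (.leaf (.up 2 1707 [113] 0 [94,43,146]))) (.node (.leaf (.up 5 2846 [157] 1137 [87,110,140,244])) (.leaf (.up 6 2224 [150] 1935 [116,126])))) (.node (.node (.leaf (.up 2 3663 [150] 1935 [87,93,116,4])) (.leaf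 (.up 5 3336 [92] 0 [55,103,149]))) (.leaf (.up 4 2230 [150] 1935 [88,94,140,238]))))) (.node (.node (.node (.node (.leaf (.up 3 2989 [150] 1935 [110,91,96])) (.leaf (.up 5 1068 [157] 1137 [57,110,116,59]))) (.node (.leaf (.up 4 2550 [177] 1570 [87,90,37])) (.leaf (.up 4 248 [80] 0 [57,44,191])))) (.node (.node (.leaf (.up 5 168 [80] 0 [57,56,176,2])) (.leaf (.up 6 1151 [177] 1570 [93,202]))) (.node (.leaf (.up 4 892 [150] 1935 [235])) (.leaf (.up 4 327 [177] 1570 [57,94,103,174]))))) (.node (.node (.node (.leaf (.up 5 2745 [157] 1137 [57,116,101])) (.leaf (.up 3 2320 [87] 0 [88,93,89,226]))) (.node (.leaf (.up 5 894 [157] 1137 [56,176,156])) (.leaf (.up 3 285 [113] 0 [57,89,96])))) (.node (.node (.leaf (.up 2 2236 [80] 0 [57,89,246])) (.leaf (.up 5 3434 [157] 1137 [44,222]))) (.leaf (.up 6 1908 [92] 0 [88,94,44,111])))))) (.node (.node (.node (.node (.node (.leaf (.up 5 2398 [92] 0 [57,56,43,77])) (.leaf (.up 5 2419 [113] 0 [57,94,123,130])))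 (.node (.leaf (.up 6 34 [157] 1137 [88,110,140,100])) (.leaf (.up 4 1002 [113] 0 [57,93,104,199])))) (.node (.node (.leaf (.up 4 122 [150] 1935 [57,103,4])) (.leaf (.up 4 2368 [177] 1570 [56,123,150]))) (.node (.leaf (.up 4 1473 [113] 0 [88,93,91,74])) (.leaf (.up 4 3341 [80] 0 [57,55,42,77]))))) (.node (.node (.node (.leaf (.up 6 3510 [80] 0 [57,56,44,189])) (.leaf (.up 5 1084 [87] 0 [87,104,117]))) (.node (.leaf (.up 6 3483 [80] 0 [87,94,116,23])) (.leaf (.up 4 2640 [150] 1935 [87,103,132])))) (.node (.node (.leaf (.up 5 3768 [150] 1935 [88,89,119])) (.leaf (.up 6 1488 [157] 1137 [110,44,106]))) (.leaf (.up 5 1936 [113] 0 [93,89,2]))))) (.node (.node (.node (.node (.leaf (.up 5 875 [113] 0 [140,237])) (.leaf (.up 4 169 [177] 1570 [110,155,132]))) (.node (.leaf (.up 3 2700 [157] 1137 [55,104,132])) (.leaf (.up 5 367 [177] 1570 [57,94,155,120])))) (.node (.node (.leaf (.up 4 2318 [150] 1935 [88,56,123,143])) (.leaf (.up 4 2987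 [113] 0 [55,104,96]))) (.leaf (.up 3 1350 [177] 1570 [55,176,154])))) (.node (.node (.node (.leaf (.up 5 2894 [157] 1137 [87,90,193])) (.leaf (.up 3 710 [87] 0 [87,93,42,196]))) (.node (.leaf (.up 4 2241 [92] 0 [93,140,205])) (.leaf (.up 5 1810 [92] 0 [87,56,176,247])))) (.node (.node (.leaf (.up 5 1867 [87] 0 [55,42,36])) (.leaf (.up 5 2352 [87] 0 [110,140,175]))) (.leaf (.up 5 2419 [157] 1137 [87,110,42,204])))))))

noncomputable def trio3_00111 : Tr TStep :=
  .node (.node (.node (.node (.node (.node (.node (.leaf (.up 5 2680 [177] 1570 [93,116,172])) (.leaf (.up 4 631 [157] 1137 [87,56,176,21]))) (.node (.leaf (.up 6 2423 [177] 1570 [57,110,104,197])) (.leaf (.up 4 782 [150] 1935 [55,90,177])))) (.node (.node (.leaf (.up 5 2197 [113] 0 [87,116,225])) (.leaf (.up 5 3531 [80] 0 [57,110,123,98]))) (.node (.leaf (.up 4 2853 [113] 0 [93,44,238])) (.leaf (.up 5 290 [150] 1935 [87,56,125]))))) (.node (.node (.node (.leaf (.up 4 302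 [92] 0 [93,155,164])) (.leaf (.up 4 412 [177] 1570 [88,94,123,183]))) (.node (.leaf (.up 4 850 [157] 1137 [42,4])) (.leaf (.up 2 648 [87] 0 [56,103,199])))) (.node (.node (.leaf (.up 4 439 [113] 0 [87,110,44,72])) (.leaf (.up 3 2538 [150] 1935 [57,93,123,171]))) (.leaf (.up 3 29 [92] 0 [94,176,37]))))) (.node (.node (.node (.node (.leaf (.up 5 347 [87] 0 [87,110,104,59])) (.leaf (.up 5 2990 [157] 1137 [93,176,113]))) (.node (.leaf (.up 4 3624 [177] 1570 [88,93,154])) (.leaf (.up 6 3489 [87] 0 [88,116,61])))) (.node (.node (.leaf (.up 4 439 [177] 1570 [57,110,103,165])) (.leaf (.up 6 1506 [177] 1570 [88,55,101]))) (.node (.leaf (.up 5 2098 [150] 1935 [88,56,176,1])) (.leaf (.up 5 2393 [177] 1570 [88,94,43,245]))))) (.node (.node (.node (.leaf (.up 3 2647 [87] 0 [87,93,43,224])) (.leaf (.up 6 3088 [113] 0 [110,91,196]))) (.node (.leaf (.up 6 3770 [87] 0 [110,91,72])) (.leaf (.up 4 661 [157] 1137 [87,94,43,161])))) (.node (.node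 (.leaf (.up 4 1789 [150] 1935 [44,114])) (.leaf (.up 4 3739 [177] 1570 [88,56,140,153]))) (.leaf (.up 4 343 [87] 0 [110,116,133])))))) (.node (.node (.node (.node (.node (.leaf (.up 3 523 [177] 1570 [87,44,201])) (.leaf (.up 4 3159 [87] 0 [87,55,176,157]))) (.node (.leaf (.up 6 696 [157] 1137 [57,94,103,4])) (.leaf (.up 4 302 [177] 1570 [87,93,104,59])))) (.node (.node (.leaf (.up 4 3639 [87] 0 [87,94,44,197])) (.leaf (.up 4 2195 [177] 1570 [88,56,90,120]))) (.node (.leaf (.up 5 2794 [157] 1137 [88,56,43,221])) (.leaf (.up 5 790 [177] 1570 [87,176,235]))))) (.node (.node (.node (.leaf (.up 6 3366 [150] 1935 [88,103,183])) (.leaf (.up 3 521 [92] 0 [87,55,116,98]))) (.node (.leaf (.up 5 1589 [113] 0 [110,104,65])) (.leaf (.up 5 3484 [177] 1570 [88,55,123,31])))) (.node (.node (.leaf (.up 5 549 [177] 1570 [88,93,89,216])) (.leaf (.up 2 74 [80] 0 [94,91,182]))) (.leaf (.up 6 2880 [113] 0 [87,56,155,20]))))) (.node (.node (.node (.node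 (.leaf (.up 5 2465 [92] 0 [57,93,90,35])) (.leaf (.up 4 663 [177] 1570 [88,55,112]))) (.node (.leaf (.up 5 70 [113] 0 [93,89,165])) (.leaf (.up 4 3544 [177] 1570 [88,155,69])))) (.node (.node (.leaf (.up 4 207 [177] 1570 [88,93,42,112])) (.leaf (.up 1 2 [150] 1935 [93,116,95]))) (.leaf (.up 4 478 [150] 1935 [87,56,44,228])))) (.node (.node (.node (.leaf (.up 3 1097 [157] 1137 [87,56,89,11])) (.leaf (.up 4 433 [92] 0 [88,55,43,95]))) (.node (.leaf (.up 5 324 [157] 1137 [88,56,123,148])) (.leaf (.up 4 1520 [150] 1935 [88,55,90,224])))) (.node (.node (.leaf (.up 2 1707 [92] 0 [88,94,103,162])) (.leaf (.up 5 3599 [87] 0 [57,110,89,111]))) (.leaf (.up 4 690 [80] 0 [57,93,42,189]))))))) (.node (.node (.node (.node (.node (.node (.leaf (.up 4 2015 [87] 0 [87,94,44,122])) (.leaf (.up 5 463 [113] 0 [87,123,21]))) (.node (.leaf (.up 4 311 [157] 1137 [87,94,44,18])) (.leaf (.up 4 1772 [87] 0 [87,55,43,61])))) (.node (.node (.leaf (.up 4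 229 [87] 0 [57,93,91,204])) (.leaf (.up 5 1554 [92] 0 [123,194]))) (.node (.leaf (.up 3 1636 [150] 1935 [57,110,90,207])) (.leaf (.up 5 263 [87] 0 [88,93,43,117]))))) (.node (.node (.node (.leaf (.up 4 3517 [87] 0 [55,44,246])) (.leaf (.up 6 3275 [150] 1935 [88,94,123,188]))) (.node (.leaf (.up 4 2845 [150] 1935 [110,155,227])) (.leaf (.up 3 3201 [150] 1935 [57,55,91,190])))) (.node (.node (.leaf (.up 5 2277 [80] 0 [88,110,116,208])) (.leaf (.up 5 705 [87] 0 [57,55,42,21]))) (.leaf (.up 1 15 [80] 0 [88,56,91,128]))))) (.node (.node (.node (.node (.leaf (.up 5 2575 [113] 0 [89,180])) (.leaf (.up 1 12 [177] 1570 [88,56,43,72]))) (.node (.leaf (.up 5 6 [80] 0 [87,94,140,154])) (.leaf (.up 4 629 [177] 1570 [57,56,116,135])))) (.node (.node (.leaf (.up 3 2249 [150] 1935 [88,44,34])) (.leaf (.up 5 2894 [92] 0 [56,91,226]))) (.node (.leaf (.up 4 3720 [177] 1570 [87,55,43,244])) (.leaf (.up 4 1732 [177] 1570 [88,110,104,10]))))) (.node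 (.node (.node (.leaf (.up 4 901 [92] 0 [57,93,116,3])) (.leaf (.up 5 3042 [92] 0 [57,56,89,153]))) (.node (.leaf (.up 4 1909 [80] 0 [57,94,176,74])) (.leaf (.up 5 1911 [157] 1137 [87,91,11])))) (.node (.node (.leaf (.up 4 3105 [177] 1570 [57,110,103,168])) (.leaf (.up 4 3709 [87] 0 [87,55,156]))) (.leaf (.up 5 2972 [92] 0 [57,103,213])))))) (.node (.node (.node (.node (.node (.leaf (.up 3 3291 [92] 0 [87,93,123])) (.leaf (.up 5 1819 [157] 1137 [93,90,159]))) (.node (.leaf (.up 4 2264 [80] 0 [87,93,103,16])) (.leaf (.up 4 1404 [150] 1935 [88,94,44,21])))) (.node (.node (.leaf (.up 5 3783 [92] 0 [87,123,201])) (.leaf (.up 5 354 [157] 1137 [57,110,245]))) (.node (.leaf (.up 3 1307 [150] 1935 [57,110,90,223])) (.leaf (.up 5 939 [177] 1570 [43,144]))))) (.node (.node (.node (.leaf (.up 5 463 [157] 1137 [94,42,11])) (.leaf (.up 5 677 [92] 0 [87,93,104,194]))) (.node (.leaf (.up 3 523 [92] 0 [87,110,140,65])) (.leaf (.up 5 1226 [92]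 0 [88,56,103,99])))) (.node (.node (.leaf (.up 3 1730 [177] 1570 [87,93,42,196])) (.leaf (.up 5 2800 [177] 1570 [55,116,167]))) (.leaf (.up 5 1422 [177] 1570 [55,104,196]))))) (.node (.node (.node (.node (.leaf (.up 5 2891 [157] 1137 [57,176,127])) (.leaf (.up 5 1649 [87] 0 [87,56,140,158]))) (.node (.leaf (.up 4 1364 [177] 1570 [57,56,116,174])) (.leaf (.up 3 300 [177] 1570 [57,0])))) (.node (.node (.leaf (.up 6 2518 [92] 0 [123,114])) (.leaf (.up 4 673 [80] 0 [57,93,89,197]))) (.leaf (.up 6 241 [157] 1137 [88,104,234])))) (.node (.node (.node (.leaf (.up 3 2320 [150] 1935 [88,110,104,196])) (.leaf (.up 2 1359 [113] 0 [57,43,244]))) (.node (.leaf (.up 6 513 [150] 1935 [88,55,155,171])) (.leaf (.up 5 1745 [177] 1570 [88,55,155,73])))) (.node (.node (.leaf (.up 6 1650 [92] 0 [88,93,221])) (.leaf (.up 4 19 [87] 0 [87,94,103,175]))) (.leaf (.up 6 3564 [157] 1137 [110,123,181])))))))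

noncomputable def trio3_0011 : Tr TStep := .node trio3_00110 trio3_00111

noncomputable def trio3_001 : Tr TStep := .node trio3_0010 trio3_0011

noncomputable def trio3_00 : Tr TStep := .node trio3_000 trio3_001

noncomputable def trio3_01000 : Tr TStep :=
  .node (.node (.node (.node (.node (.node (.node (.leaf (.root 2)) (.leaf (.up 5 239 [87] 0 [57,93,91,247]))) (.node (.leaf (.up 5 1300 [87] 0 [57,94,91,122])) (.leaf (.up 5 481 [177] 1570 [57,93,42,145])))) (.node (.node (.leaf (.up 5 2316 [87] 0 [57,94,89,227])) (.leaf (.up 4 166 [87] 0 [87,110,176,139]))) (.node (.leaf (.up 3 2363 [87] 0 [55,90,115])) (.leaf (.up 5 3298 [150] 1935 [87,94,43,180]))))) (.node (.node (.node (.leaf (.up 5 1250 [80] 0 [88,93,89,137])) (.leaf (.up 3 408 [87] 0 [88,91,98]))) (.node (.leaf (.up 6 2338 [87] 0 [57,56,123,9])) (.leaf (.up 4 1430 [92] 0 [88,110,104,127])))) (.node (.node (.leaf (.up 5 768 [87] 0 [87,94,89,98])) (.leaf (.up 4 2311 [157]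 1137 [87,93,91,5]))) (.leaf (.up 4 1772 [113] 0 [87,56,155,188]))))) (.node (.node (.node (.node (.leaf (.up 6 3766 [150] 1935 [87,93,43,33])) (.leaf (.up 6 3435 [87] 0 [110,103,152]))) (.node (.leaf (.up 5 2233 [87] 0 [87,56,43,113])) (.leaf (.up 5 2918 [92] 0 [88,55,155,195])))) (.node (.node (.leaf (.up 4 1310 [150] 1935 [57,55,42,7])) (.leaf (.up 6 865 [80] 0 [57,94,176,182]))) (.node (.leaf (.up 3 133 [113] 0 [88,55,89,222])) (.leaf (.up 6 3088 [157] 1137 [89,241]))))) (.node (.node (.node (.leaf (.up 3 3291 [80] 0 [88,90,71])) (.leaf (.up 5 756 [177] 1570 [55,155,16]))) (.node (.leaf (.up 5 2081 [92] 0 [87,93,44,174])) (.leaf (.up 4 3571 [157] 1137 [87,56,42,217])))) (.node (.node (.leaf (.up 4 30 [177] 1570 [93,104,220])) (.leaf (.up 4 1265 [92] 0 [87,110,42,219]))) (.leaf (.up 2 452 [80] 0 [57,94,155,105])))))) (.node (.node (.node (.node (.node (.leaf (.up 4 3588 [177] 1570 [57,55,42,143])) (.leaf (.up 5 1340 [157] 1137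 [57,56,103,125]))) (.node (.leaf (.up 5 434 [150] 1935 [8])) (.leaf (.up 3 3444 [157] 1137 [57,93,116,188])))) (.node (.node (.leaf (.up 5 1152 [150] 1935 [44,152])) (.leaf (.up 1 1 [150] 1935 [87,93,116,30]))) (.node (.leaf (.up 5 678 [150] 1935 [88,110,46])) (.leaf (.up 5 3721 [157] 1137 [87,56,42,106]))))) (.node (.node (.node (.leaf (.up 2 614 [157] 1137 [88,93,116,183])) (.leaf (.up 5 2100 [87] 0 [87,55,42,194]))) (.node (.leaf (.up 4 859 [177] 1570 [88,103,73])) (.leaf (.up 5 1428 [177] 1570 [87,94,42,105])))) (.node (.node (.leaf (.up 2 1852 [150] 1935 [57,91,9])) (.leaf (.up 3 1571 [157] 1137 [87,93,90,160]))) (.leaf (.up 5 3223 [113] 0 [88,110,155,22]))))) (.node (.node (.node (.node (.leaf (.up 4 2203 [113] 0 [110,44,234])) (.leaf (.up 4 2855 [92] 0 [88,93,104,234]))) (.node (.leaf (.up 5 3530 [150] 1935 [88,94,91,187])) (.leaf (.up 5 809 [92] 0 [87,94,176,99])))) (.node (.node (.leaf (.up 6 3529 [87] 0 [57,155,25]))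 (.leaf (.up 4 3346 [87] 0 [87,93,44,247]))) (.node (.leaf (.up 2 1774 [157] 1137 [88,140,237])) (.leaf (.up 4 1772 [150] 1935 [57,94,90,31]))))) (.node (.node (.node (.leaf (.up 3 2579 [157] 1137 [57,155,0])) (.leaf (.up 6 1608 [177] 1570 [87,56,140,119]))) (.node (.leaf (.up 5 2892 [113] 0 [87,56,90,27])) (.leaf (.up 6 2760 [157] 1137 [94,30])))) (.node (.node (.leaf (.up 2 961 [80] 0 [57,55,155,226])) (.leaf (.up 6 1177 [157] 1137 [87,94,140,204]))) (.leaf (.up 5 1281 [157] 1137 [87,110,103,229]))))))) (.node (.node (.node (.node (.node (.node (.leaf (.up 5 3184 [177] 1570 [227])) (.leaf (.up 6 3008 [157] 1137 [88,110,155,11]))) (.node (.leaf (.up 5 2121 [87] 0 [88,94,90,162])) (.leaf (.up 5 1686 [92] 0 [88,110,44,133])))) (.node (.node (.leaf (.up 4 261 [80] 0 [87,110,89,236])) (.leaf (.up 4 448 [87] 0 [57,43,113]))) (.node (.leaf (.up 3 987 [177] 1570 [88,93,140,151])) (.leaf (.up 4 3258 [87] 0 [88,56,104,179]))))) (.node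 (.node (.node (.leaf (.up 4 1768 [177] 1570 [87,110,44,137])) (.leaf (.up 5 2768 [87] 0 [116,92]))) (.node (.leaf (.up 4 3585 [87] 0 [87,110,91,25])) (.leaf (.up 4 3026 [177] 1570 [87,94,104,230])))) (.node (.node (.leaf (.up 6 844 [87] 0 [91,33])) (.leaf (.up 5 67 [87] 0 [88,55,42,148]))) (.leaf (.up 3 1730 [87] 0 [57,91,5]))))) (.node (.node (.node (.node (.leaf (.up 4 3734 [157] 1137 [87,93,104,37])) (.leaf (.up 5 1811 [150] 1935 [57,90,146]))) (.node (.leaf (.up 3 1408 [150] 1935 [57,93,116,192])) (.leaf (.up 6 3040 [157] 1137 [57,94,91,102])))) (.node (.node (.leaf (.up 5 786 [177] 1570 [110,104,195])) (.leaf (.up 4 1169 [92] 0 [88,56,155,97]))) (.node (.leaf (.up 3 46 [177] 1570 [87,55,44,228])) (.leaf (.up 4 1258 [87] 0 [87,93,89,222]))))) (.node (.node (.node (.leaf (.up 5 2997 [177] 1570 [57,94,155,212])) (.leaf (.up 5 39 [80] 0 [87,56,116,246]))) (.node (.leaf (.up 1 1 [92] 0 [56,140,154])) (.leaf (.up 5 1564 [177] 1570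 [57,93,21])))) (.node (.node (.leaf (.up 6 2407 [157] 1137 [88,94,104,209])) (.leaf (.up 5 2235 [87] 0 [57,94,140,61]))) (.leaf (.up 5 2211 [87] 0 [88,110,44,175])))))) (.node (.node (.node (.node (.node (.leaf (.up 4 2534 [177] 1570 [57,55,44,244])) (.leaf (.up 5 1142 [92] 0 [126]))) (.node (.leaf (.up 4 1947 [157] 1137 [57,155,230])) (.leaf (.up 4 137 [150] 1935 [88,123,225])))) (.node (.node (.leaf (.up 5 1896 [80] 0 [123,141])) (.leaf (.up 5 3184 [150] 1935 [88,94,230]))) (.node (.leaf (.up 6 3285 [177] 1570 [87,56,104,159])) (.leaf (.up 5 768 [113] 0 [94,90,119]))))) (.node (.node (.node (.leaf (.up 4 1080 [92] 0 [57,93,155,127])) (.leaf (.up 4 3357 [150] 1935 [87,155,132]))) (.node (.leaf (.up 3 43 [87] 0 [57,140,242])) (.leaf (.up 4 1760 [177] 1570 [88,56,116,15])))) (.node (.node (.leaf (.up 4 2603 [157] 1137 [57,110,123,129])) (.leaf (.up 5 1339 [92] 0 [57,55,165]))) (.leaf (.up 6 234 [157] 1137 [57,104,171]))))) (.node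 (.node (.node (.node (.leaf (.up 5 2010 [150] 1935 [88,93,89,188])) (.leaf (.up 4 3734 [92] 0 [88,56,123,59]))) (.node (.leaf (.up 4 560 [157] 1137 [57,42,196])) (.leaf (.up 4 1582 [92] 0 [87,93,42,4])))) (.node (.node (.leaf (.up 2 3561 [87] 0 [88,55,91,0])) (.leaf (.up 3 991 [150] 1935 [57,93,123,137]))) (.leaf (.up 6 265 [80] 0 [88,56,89,177])))) (.node (.node (.node (.leaf (.up 4 1451 [92] 0 [57,110,89,148])) (.leaf (.up 5 604 [177] 1570 [57,93,90,189]))) (.node (.leaf (.up 5 2465 [150] 1935 [87,56,46])) (.leaf (.up 6 1453 [87] 0 [57,94,90,229])))) (.node (.node (.leaf (.up 5 49 [80] 0 [88,94,44,183])) (.leaf (.up 4 343 [157] 1137 [57,56,44,233]))) (.leaf (.up 5 2247 [150] 1935 [88,55,42,207])))))))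

noncomputable def trio3_01001 : Tr TStep :=
  .node (.node (.node (.node (.node (.node (.node (.leaf (.up 5 442 [87] 0 [57,93,89,244])) (.leaf (.up 4 3283 [157] 1137 [110,176,210]))) (.node (.leaf (.up 5 1686 [80] 0 [87,155,98])) (.leaf (.up 5 3330 [113] 0 [88,44,247])))) (.node (.node (.leaf (.up 4 1582 [87] 0 [56,174])) (.leaf (.up 4 417 [113] 0 [87,55,103,150]))) (.node (.leaf (.up 4 3583 [177] 1570 [57,93,89,192])) (.leaf (.up 6 814 [177] 1570 [88,55,90,225]))))) (.node (.node (.node (.leaf (.up 4 309 [87] 0 [110,44,187])) (.leaf (.up 5 2495 [157] 1137 [88,94,89,164]))) (.node (.leaf (.up 4 2550 [157] 1137 [57,110,91,198])) (.leaf (.up 3 3231 [113] 0 [57,94,42,113])))) (.node (.node (.leaf (.up 4 2503 [150] 1935 [93,42,217])) (.leaf (.up 5 1070 [177] 1570 [87,116,5]))) (.leaf (.up 4 342 [177] 1570 [56,90,10]))))) (.node (.node (.node (.node (.leaf (.up 5 60 [113] 0 [88,56,104,191])) (.leaf (.up 4 2313 [177] 1570 [57,94,104,150])))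 (.node (.leaf (.up 5 3129 [92] 0 [57,55,116,233])) (.leaf (.up 6 1668 [113] 0 [88,56,42,33])))) (.node (.node (.leaf (.up 5 2689 [150] 1935 [110,123,178])) (.leaf (.up 6 3595 [150] 1935 [87,56,140,226]))) (.node (.leaf (.up 3 2256 [87] 0 [110,123,177])) (.leaf (.up 4 256 [113] 0 [87,93,89,33]))))) (.node (.node (.node (.leaf (.up 6 1612 [150] 1935 [93,43,177])) (.leaf (.up 6 2915 [150] 1935 [88,55,176,158]))) (.node (.leaf (.up 6 3074 [113] 0 [57,140,234])) (.leaf (.up 4 409 [157] 1137 [87,55,176,11])))) (.node (.node (.leaf (.up 4 799 [113] 0 [93,104,246])) (.leaf (.up 6 241 [177] 1570 [87,94,176,25]))) (.leaf (.up 5 944 [80] 0 [94,104,138])))))) (.node (.node (.node (.node (.node (.leaf (.up 4 2987 [80] 0 [57,93,89,141])) (.leaf (.up 4 327 [87] 0 [87,123,112]))) (.node (.leaf (.up 5 1167 [87] 0 [57,110,103,241])) (.leaf (.up 6 2691 [150] 1935 [87,55,44,205])))) (.node (.node (.leaf (.up 5 1779 [92] 0 [57,55,176,99])) (.leaf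 (.up 5 2366 [87] 0 [57,94,43,129]))) (.node (.leaf (.up 6 220 [150] 1935 [57,94,44,143])) (.leaf (.up 5 1030 [92] 0 [88,104,227]))))) (.node (.node (.node (.leaf (.up 4 2461 [92] 0 [88,110,20])) (.leaf (.up 4 2762 [113] 0 [87,56,44,160]))) (.node (.leaf (.up 3 2035 [157] 1137 [88,55,43,234])) (.leaf (.up 2 2958 [177] 1570 [87,110,155,2])))) (.node (.node (.leaf (.up 3 38 [92] 0 [87,110,103,162])) (.leaf (.up 5 1513 [177] 1570 [56,44,160]))) (.leaf (.up 4 1483 [150] 1935 [57,110,140,76]))))) (.node (.node (.node (.node (.leaf (.up 5 1529 [157] 1137 [57,55,44,112])) (.leaf (.up 4 2985 [150] 1935 [88,94,89,206]))) (.node (.leaf (.up 4 886 [157] 1137 [57,140,246])) (.leaf (.up 5 870 [87] 0 [94,123,15])))) (.node (.node (.leaf (.up 5 2575 [80] 0 [87,110,43,182])) (.leaf (.up 6 2564 [87] 0 [87,110,103,35]))) (.node (.leaf (.up 4 2318 [113] 0 [57,94,91,65])) (.leaf (.up 4 3299 [177] 1570 [88,94,116,22]))))) (.node (.node (.node (.leaf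 (.up 4 2610 [113] 0 [88,56,123,213])) (.leaf (.up 4 3383 [150] 1935 [88,56,116,203]))) (.node (.leaf (.up 4 333 [150] 1935 [88,155,120])) (.leaf (.up 4 3205 [150] 1935 [88,56,42,199])))) (.node (.node (.leaf (.up 3 148 [87] 0 [93,90,158])) (.leaf (.up 3 2343 [150] 1935 [87,55,155,97]))) (.leaf (.up 4 3553 [92] 0 [140,36]))))))) (.node (.node (.node (.node (.node (.node (.leaf (.up 5 3336 [150] 1935 [55,104,124])) (.leaf (.up 4 309 [92] 0 [57,55,225]))) (.node (.leaf (.up 3 1927 [87] 0 [57,55,116,204])) (.leaf (.up 4 92 [177] 1570 [57,94,89,234])))) (.node (.node (.leaf (.up 5 1470 [157] 1137 [87,155,25])) (.leaf (.up 3 1503 [177] 1570 [87,104,121]))) (.node (.leaf (.up 4 1983 [157] 1137 [87,94,44,126])) (.leaf (.up 5 2316 [150] 1935 [87,94,91,109]))))) (.node (.node (.node (.leaf (.up 5 1460 [177] 1570 [87,110,90,99])) (.leaf (.up 5 1190 [87] 0 [94,116,225]))) (.node (.leaf (.up 3 2291 [80] 0 [87,176,4])) (.leaf (.up 4 881 [150]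 1935 [88,94,176,248])))) (.node (.node (.leaf (.up 4 2944 [87] 0 [94,103,149])) (.leaf (.up 6 1072 [177] 1570 [87,110,155,73]))) (.leaf (.up 5 3336 [87] 0 [94,140,98]))))) (.node (.node (.node (.node (.leaf (.up 5 1810 [150] 1935 [57,110,123,141])) (.leaf (.up 4 2603 [177] 1570 [55,2]))) (.node (.leaf (.up 6 1127 [157] 1137 [93,140,115])) (.leaf (.up 4 44 [157] 1137 [88,93,42,21])))) (.node (.node (.leaf (.up 3 1927 [177] 1570 [57,55,43,61])) (.leaf (.up 3 3128 [87] 0 [88,93,123,37]))) (.node (.leaf (.up 4 1260 [177] 1570 [57,56,140,161])) (.leaf (.up 3 1290 [92] 0 [88,55,116,179]))))) (.node (.node (.node (.leaf (.up 4 299 [177] 1570 [88,110,90,173])) (.leaf (.up 5 3599 [150] 1935 [88,55,90,201]))) (.node (.leaf (.up 4 2318 [177] 1570 [57,94,89,225])) (.leaf (.up 2 2602 [87] 0 [93,123,136])))) (.node (.node (.leaf (.up 4 1318 [177] 1570 [57,93,176,1])) (.leaf (.up 5 2972 [113] 0 [88,93,140,13]))) (.leaf (.up 3 3743 [113] 0 [87,56,89,199]))))))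 (.node (.node (.node (.node (.node (.leaf (.up 4 1962 [177] 1570 [93,149])) (.leaf (.up 4 1721 [150] 1935 [110,89,221]))) (.node (.leaf (.up 3 2166 [177] 1570 [88,93,123,171])) (.leaf (.up 5 3374 [150] 1935 [110,89,121])))) (.node (.node (.leaf (.up 5 3362 [150] 1935 [88,123,152])) (.leaf (.up 3 645 [150] 1935 [87,55,116,175]))) (.node (.leaf (.up 5 1311 [177] 1570 [88,56,103,163])) (.leaf (.up 5 3748 [87] 0 [87,93,90,106]))))) (.node (.node (.node (.leaf (.up 5 2501 [157] 1137 [110,123,194])) (.leaf (.up 5 1896 [113] 0 [57,56,90,221]))) (.node (.leaf (.up 5 2712 [177] 1570 [87,89,92])) (.leaf (.up 4 1789 [87] 0 [88,94,91,184])))) (.node (.node (.leaf (.up 4 718 [87] 0 [88,56,103,139])) (.leaf (.up 4 1757 [80] 0 [88,56,104,226]))) (.leaf (.up 5 1896 [87] 0 [110,104,222]))))) (.node (.node (.node (.node (.leaf (.up 3 641 [157] 1137 [87,176,65])) (.leaf (.up 6 65 [150] 1935 [88,94,104,185]))) (.node (.leaf (.up 5 914 [87] 0 [88,93,103,171]))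 (.leaf (.up 5 2999 [113] 0 [88,55,44,223])))) (.node (.node (.leaf (.up 4 2230 [157] 1137 [94,43,201])) (.leaf (.up 4 3724 [157] 1137 [88,94,90,221]))) (.leaf (.up 5 3305 [177] 1570 [87,55,155,135])))) (.node (.node (.node (.leaf (.up 3 213 [80] 0 [87,93,89,141])) (.leaf (.up 5 1096 [177] 1570 [43,207]))) (.node (.leaf (.up 5 3784 [113] 0 [87,94,176,169])) (.leaf (.up 4 3299 [157] 1137 [88,56,89,126])))) (.node (.node (.leaf (.up 5 1217 [87] 0 [57,56,140,127])) (.leaf (.up 3 3201 [113] 0 [88,55,123,112]))) (.leaf (.up 5 2645 [177] 1570 [94,155,147])))))))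

noncomputable def trio3_0100 : Tr TStep := .node trio3_01000 trio3_01001

noncomputable def trio3_01010 : Tr TStep :=
  .node (.node (.node (.node (.node (.node (.node (.leaf (.up 2 1189 [80] 0 [87,90,77])) (.leaf (.up 5 1427 [113] 0 [87,94,91,145]))) (.node (.leaf (.up 4 47 [177] 1570 [87,110,90,65])) (.leaf (.up 5 1569 [150] 1935 [88,93,116,168])))) (.node (.node (.leaf (.up 4 702 [80] 0 [87,133])) (.leaf (.up 4 953 [177] 1570 [88,56,140,174]))) (.node (.leaf (.up 4 3341 [113] 0 [93,91,197])) (.leaf (.up 4 1391 [150] 1935 [57,110,104,156]))))) (.node (.node (.node (.leaf (.up 5 1463 [87] 0 [88,110,103,27])) (.leaf (.up 5 1575 [177] 1570 [87,110,243]))) (.node (.leaf (.up 2 2998 [177] 1570 [56,155,96])) (.leaf (.up 5 790 [113] 0 [55,155,132])))) (.node (.node (.leaf (.up 4 2318 [80] 0 [87,176,190])) (.leaf (.up 4 1963 [177] 1570 [57,93,116,59]))) (.leaf (.up 5 1647 [150] 1935 [93,89,243]))))) (.node (.node (.node (.node (.leaf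 (.up 5 864 [177] 1570 [155,126])) (.leaf (.up 6 2546 [92] 0 [55,140,237]))) (.node (.leaf (.up 2 1133 [113] 0 [87,94,103,238])) (.leaf (.up 4 928 [157] 1137 [57,110,176,182])))) (.node (.node (.leaf (.up 5 2891 [113] 0 [44,0])) (.leaf (.up 4 1789 [92] 0 [88,94,44,21]))) (.node (.leaf (.up 4 245 [157] 1137 [88,56,104,191])) (.leaf (.up 4 767 [177] 1570 [56,89,139]))))) (.node (.node (.node (.leaf (.up 5 964 [80] 0 [110,140,207])) (.leaf (.up 3 408 [80] 0 [88,55,121]))) (.node (.leaf (.up 2 223 [113] 0 [57,55,154])) (.leaf (.up 3 2320 [157] 1137 [57,103,205])))) (.node (.node (.leaf (.up 3 858 [87] 0 [87,110,103,147])) (.leaf (.up 3 641 [150] 1935 [87,110,155,65]))) (.leaf (.up 5 2982 [113] 0 [57,93,89,100])))))) (.node (.node (.node (.node (.node (.leaf (.up 1 5 [92] 0 [87,55,103,214])) (.leaf (.up 6 2915 [113] 0 [87,55,43,226]))) (.node (.leaf (.up 5 2274 [150] 1935 [88,55,42,61])) (.leaf (.up 5 2268 [150] 1935 [88,56,90,18]))))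 (.node (.node (.leaf (.up 3 965 [150] 1935 [87,110,103,196])) (.leaf (.up 5 3773 [177] 1570 [55,43,117]))) (.node (.leaf (.up 4 2288 [157] 1137 [93,140,65])) (.leaf (.up 6 2849 [80] 0 [56,91,168]))))) (.node (.node (.node (.leaf (.up 4 3283 [87] 0 [87,56,10])) (.leaf (.up 4 2306 [157] 1137 [88,110,155,99]))) (.node (.leaf (.up 6 594 [87] 0 [87,94,100])) (.leaf (.up 6 17 [92] 0 [88,94,129])))) (.node (.node (.leaf (.up 4 1088 [177] 1570 [57,110,104,2])) (.leaf (.up 5 3296 [92] 0 [110,140,153]))) (.leaf (.up 5 2702 [150] 1935 [87,93,155,246]))))) (.node (.node (.node (.node (.leaf (.up 5 1941 [177] 1570 [88,56,42,240])) (.leaf (.up 5 9 [157] 1137 [88,176,194]))) (.node (.leaf (.up 4 1600 [92] 0 [93,90,34])) (.leaf (.up 5 1213 [177] 1570 [88,110,240])))) (.node (.node (.leaf (.up 5 1773 [177] 1570 [87,94,140,184])) (.leaf (.up 3 2249 [87] 0 [57,56,43,219]))) (.node (.leaf (.up 5 1470 [80] 0 [55,104,192])) (.leaf (.up 5 3538 [177]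 1570 [94,140,152]))))) (.node (.node (.node (.leaf (.up 4 1268 [157] 1137 [57,110,104,154])) (.leaf (.up 5 388 [80] 0 [88,110,103,182]))) (.node (.leaf (.up 6 2216 [87] 0 [88,56,103,173])) (.leaf (.up 4 2061 [92] 0 [88,56,123,150])))) (.node (.node (.leaf (.up 4 122 [80] 0 [93,89,243])) (.leaf (.up 6 817 [177] 1570 [87,55,103,174]))) (.leaf (.up 5 887 [87] 0 [88,93,91,126]))))))) (.node (.node (.node (.node (.node (.node (.leaf (.up 5 2377 [157] 1137 [57,103,144])) (.leaf (.up 4 1962 [157] 1137 [88,56,103,109]))) (.node (.leaf (.up 4 652 [177] 1570 [88,56,140,73])) (.leaf (.up 4 1821 [87] 0 [88,56,103,173])))) (.node (.node (.leaf (.up 5 637 [150] 1935 [56,116,75])) (.leaf (.up 1 7 [87] 0 [87,93,89,5]))) (.node (.leaf (.up 5 2842 [87] 0 [87,56,91,214])) (.leaf (.up 5 3611 [92] 0 [88,110,213]))))) (.node (.node (.node (.leaf (.up 1 1 [177] 1570 [57,94,91,232])) (.leaf (.up 4 2206 [177] 1570 [57,110,103,149]))) (.node (.leaf (.up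 6 860 [92] 0 [87,56,44,138])) (.leaf (.up 5 1805 [150] 1935 [57,55,42,95])))) (.node (.node (.leaf (.up 5 2233 [177] 1570 [87,44,229])) (.leaf (.up 4 2848 [177] 1570 [87,93,140,12]))) (.leaf (.up 5 2846 [177] 1570 [57,103,18]))))) (.node (.node (.node (.node (.leaf (.up 6 3088 [87] 0 [57,94,91,128])) (.leaf (.up 3 3087 [157] 1137 [57,55,43,30]))) (.node (.leaf (.up 5 638 [177] 1570 [87,94,140,117])) (.leaf (.up 4 2772 [92] 0 [57,93,43,210])))) (.node (.node (.leaf (.up 6 3054 [150] 1935 [87,55,90,118])) (.leaf (.up 5 1554 [113] 0 [57,56,91,102]))) (.node (.leaf (.up 6 810 [177] 1570 [57,110,103,199])) (.leaf (.up 5 2982 [150] 1935 [57,56,44,216]))))) (.node (.node (.node (.leaf (.up 5 1092 [92] 0 [123,183])) (.leaf (.up 4 2520 [150] 1935 [88,93,90,109]))) (.node (.leaf (.up 6 1073 [150] 1935 [42,243])) (.leaf (.up 5 2788 [177] 1570 [55,42,197])))) (.node (.node (.leaf (.up 4 3499 [157] 1137 [57,55,104,8])) (.leaf (.up 5 2751 [157]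 1137 [87,55,44,128]))) (.leaf (.up 3 2273 [150] 1935 [88,123,217])))))) (.node (.node (.node (.node (.node (.leaf (.root 8)) (.leaf (.up 6 2863 [157] 1137 [57,110,42,168]))) (.node (.leaf (.up 5 939 [150] 1935 [55,140,163])) (.leaf (.up 3 43 [157] 1137 [55,43,219])))) (.node (.node (.leaf (.up 5 2918 [87] 0 [88,93,90,167])) (.leaf (.up 5 637 [113] 0 [57,110,104,16]))) (.node (.leaf (.up 4 448 [92] 0 [57,56,44,73])) (.leaf (.up 6 1170 [157] 1137 [57,90,143]))))) (.node (.node (.node (.leaf (.up 4 3280 [87] 0 [55,123,215])) (.leaf (.up 3 2273 [157] 1137 [88,56,176,166]))) (.node (.leaf (.up 5 3773 [150] 1935 [110,104,200])) (.leaf (.up 4 2311 [80] 0 [57,104,109])))) (.node (.node (.leaf (.up 5 2571 [177] 1570 [87,56,140,165])) (.leaf (.up 5 1810 [113] 0 [55,123,27]))) (.leaf (.up 4 353 [150] 1935 [57,55,89,31]))))) (.node (.node (.node (.node (.leaf (.up 5 104 [87] 0 [88,56,104,179])) (.leaf (.up 4 2483 [80] 0 [87,94,155,216])))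 (.node (.leaf (.up 3 322 [87] 0 [110,103,221])) (.leaf (.up 3 2238 [92] 0 [88,94,89,31])))) (.node (.node (.leaf (.up 4 302 [113] 0 [88,93,213])) (.leaf (.up 4 44 [87] 0 [88,94,42,228]))) (.leaf (.up 4 122 [87] 0 [87,55,44,142])))) (.node (.node (.node (.leaf (.up 5 2696 [87] 0 [110,140,112])) (.leaf (.up 2 1707 [80] 0 [88,56,140,193]))) (.node (.leaf (.up 4 1099 [150] 1935 [57,110,44,192])) (.leaf (.up 5 2235 [157] 1137 [55,90,61])))) (.node (.node (.leaf (.up 3 1192 [177] 1570 [87,55,42,92])) (.leaf (.up 5 933 [150] 1935 [56,18]))) (.leaf (.up 5 2907 [92] 0 [57,56,155,174])))))))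

noncomputable def trio3_01011 : Tr TStep :=
  .node (.node (.node (.node (.node (.node (.node (.leaf (.up 4 2326 [80] 0 [88,94,91,192])) (.leaf (.up 4 1957 [157] 1137 [87,93,176,203]))) (.node (.leaf (.up 2 2626 [80] 0 [87,94,89,72])) (.leaf (.up 5 1865 [177] 1570 [57,94,103,164])))) (.node (.node (.leaf (.up 5 3359 [87] 0 [94,135])) (.leaf (.up 6 193 [157] 1137 [57,116,191]))) (.node (.leaf (.up 5 3238 [113] 0 [87,94,91,136])) (.leaf (.up 5 2800 [87] 0 [93,116,236]))))) (.node (.node (.node (.leaf (.up 4 585 [87] 0 [87,110,170])) (.leaf (.up 4 3058 [87] 0 [57,55,176,127]))) (.node (.leaf (.up 4 1790 [177] 1570 [93,42,198])) (.leaf (.up 2 298 [150] 1935 [88,110,90,237])))) (.node (.node (.leaf (.up 4 2987 [150] 1935 [87,94,155,30])) (.leaf (.up 4 2015 [92] 0 [87,93,43,59]))) (.leaf (.up 3 133 [87] 0 [87,55,176,106]))))) (.node (.node (.node (.node (.leaf (.up 5 481 [113] 0 [56,65])) (.leaf (.up 6 1508 [177] 1570 [88,90,247])))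 (.node (.leaf (.up 3 1408 [87] 0 [104,98])) (.leaf (.up 1 1 [80] 0 [87,56,42,218])))) (.node (.node (.leaf (.up 2 1359 [157] 1137 [87,94,123,9])) (.leaf (.up 3 569 [177] 1570 [57,94,155,241]))) (.node (.leaf (.up 4 908 [113] 0 [87,56,140,71])) (.leaf (.up 3 1353 [87] 0 [57,93,176,20]))))) (.node (.node (.node (.leaf (.up 5 3362 [113] 0 [93,89,246])) (.leaf (.up 5 321 [92] 0 [57,93,103,76]))) (.node (.leaf (.up 6 3235 [157] 1137 [87,110,123,168])) (.leaf (.up 5 115 [80] 0 [57,93,44,21])))) (.node (.node (.leaf (.up 5 1302 [177] 1570 [57,56,176,46])) (.leaf (.up 4 3205 [113] 0 [88,93,155,15]))) (.leaf (.up 6 551 [92] 0 [88,93,155,219])))))) (.node (.node (.node (.node (.node (.leaf (.up 2 1555 [87] 0 [87,110,18])) (.leaf (.up 4 3605 [87] 0 [57,103,192]))) (.node (.leaf (.up 5 1276 [92] 0 [55,176,180])) (.leaf (.up 3 2961 [177] 1570 [88,91,127])))) (.node (.node (.leaf (.up 5 67 [80] 0 [87,94,90,60])) (.leaf (.up 5 1917 [150] 1935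 [93,104,132]))) (.node (.leaf (.up 5 2597 [157] 1137 [90,159])) (.leaf (.up 4 1853 [87] 0 [88,93,91,46]))))) (.node (.node (.node (.leaf (.up 2 648 [80] 0 [87,93,91,98])) (.leaf (.up 5 1874 [177] 1570 [57,94,195]))) (.node (.leaf (.up 2 1555 [113] 0 [88,55,212])) (.leaf (.up 5 2812 [113] 0 [57,93,116,146])))) (.node (.node (.leaf (.up 2 1359 [150] 1935 [110,138])) (.leaf (.up 4 742 [177] 1570 [55,145]))) (.leaf (.up 5 3160 [80] 0 [57,56,103,185]))))) (.node (.node (.node (.node (.leaf (.up 5 1495 [157] 1137 [87,93,196])) (.leaf (.up 6 860 [177] 1570 [57,94,104,154]))) (.node (.leaf (.up 2 1555 [150] 1935 [87,110,116,2])) (.leaf (.up 6 819 [177] 1570 [57,93,91,148])))) (.node (.node (.leaf (.up 3 2961 [157] 1137 [87,110,42,119])) (.leaf (.up 6 377 [92] 0 [88,42,8]))) (.leaf (.up 5 2132 [177] 1570 [88,55,43,228])))) (.node (.node (.node (.leaf (.up 4 2368 [80] 0 [87,93,103,208])) (.leaf (.up 5 2891 [177] 1570 [88,55,104,232])))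 (.node (.leaf (.up 4 3401 [87] 0 [88,110,44,130])) (.leaf (.up 6 267 [80] 0 [87,56,89,207])))) (.node (.node (.leaf (.up 4 3789 [177] 1570 [88,90,151])) (.leaf (.up 5 1196 [80] 0 [57,140,167]))) (.leaf (.up 4 3324 [87] 0 [87,93,123,239]))))))) (.node (.node (.node (.node (.node (.node (.leaf (.up 4 3118 [87] 0 [87,91,165])) (.leaf (.up 4 1430 [157] 1137 [57,91,198]))) (.node (.leaf (.up 4 1902 [177] 1570 [56,104,139])) (.leaf (.up 4 1074 [157] 1137 [57,55,104,134])))) (.node (.node (.leaf (.up 4 127 [177] 1570 [57,110,123,161])) (.leaf (.up 5 3748 [177] 1570 [109]))) (.node (.leaf (.up 5 2247 [80] 0 [57,93,146])) (.leaf (.up 3 2948 [150] 1935 [87,55,42,75]))))) (.node (.node (.node (.leaf (.up 2 1852 [87] 0 [87,123,7])) (.leaf (.up 4 2673 [157] 1137 [88,103,178]))) (.node (.leaf (.up 5 212 [150] 1935 [56,103,96])) (.leaf (.up 4 782 [113] 0 [88,93,166])))) (.node (.node (.leaf (.up 3 2961 [92] 0 [88,93,103,217])) (.leaf (.up 4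 1456 [92] 0 [56,140,186]))) (.leaf (.up 5 765 [87] 0 [93,89,107]))))) (.node (.node (.node (.node (.leaf (.up 5 3249 [87] 0 [55,104,216])) (.leaf (.up 3 1264 [113] 0 [87,103,186]))) (.node (.leaf (.up 4 3069 [80] 0 [87,55,147])) (.leaf (.up 3 1290 [113] 0 [88,94,230])))) (.node (.node (.leaf (.up 5 572 [150] 1935 [94,155,144])) (.leaf (.up 5 1589 [157] 1137 [88,55,43,8]))) (.node (.leaf (.up 5 2398 [150] 1935 [57,94,44,112])) (.leaf (.up 5 2982 [80] 0 [88,55,116,210]))))) (.node (.node (.node (.leaf (.up 4 729 [177] 1570 [93,89,100])) (.leaf (.up 5 429 [80] 0 [87,93,89,138]))) (.node (.leaf (.up 4 3739 [87] 0 [93,116,221])) (.leaf (.up 5 3622 [87] 0 [88,94,44,202])))) (.node (.node (.leaf (.up 4 433 [177] 1570 [57,94,42,76])) (.leaf (.up 3 3409 [150] 1935 [87,123,224]))) (.leaf (.up 5 1066 [80] 0 [88,90,111])))))) (.node (.node (.node (.node (.node (.leaf (.up 3 523 [150] 1935 [88,104,107])) (.leaf (.up 5 1491 [177] 1570 [55,90])))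 (.node (.leaf (.up 3 2669 [92] 0 [88,93,42,172])) (.leaf (.up 3 1503 [92] 0 [110,140,235])))) (.node (.node (.leaf (.up 5 3096 [177] 1570 [87,56,155,215])) (.leaf (.up 4 1959 [157] 1137 [88,55,44,144]))) (.node (.leaf (.up 4 1371 [92] 0 [56,91,30])) (.leaf (.up 6 1705 [113] 0 [87,93,43,151]))))) (.node (.node (.node (.leaf (.up 7 2548 [150] 1935 [57,93,104,124])) (.leaf (.up 6 1671 [113] 0 [57,90,236]))) (.node (.leaf (.up 1 5 [177] 1570 [87,110,103,161])) (.leaf (.up 5 3359 [150] 1935 [57,55,103,35])))) (.node (.node (.leaf (.up 4 2853 [150] 1935 [88,93,116,226])) (.leaf (.up 5 70 [150] 1935 [94,91,21]))) (.leaf (.up 4 3278 [87] 0 [90,16]))))) (.node (.node (.node (.node (.leaf (.up 4 2222 [177] 1570 [88,55,123,164])) (.leaf (.up 4 2503 [157] 1137 [55,91,224]))) (.node (.leaf (.up 5 39 [113] 0 [87,55,44,25])) (.leaf (.up 5 3122 [177] 1570 [110,116,173])))) (.node (.node (.leaf (.up 5 3160 [92] 0 [88,56,244])) (.leaf (.up 4 2448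 [87] 0 [93,43,210]))) (.leaf (.up 6 3054 [113] 0 [88,94,140,34])))) (.node (.node (.node (.leaf (.up 5 2999 [92] 0 [57,94,42,225])) (.leaf (.up 4 2047 [87] 0 [87,110,44,10]))) (.node (.leaf (.up 3 2192 [87] 0 [88,94,91,163])) (.leaf (.up 6 2546 [177] 1570 [88,56,123,177])))) (.node (.node (.leaf (.up 2 2757 [157] 1137 [87,93,176,148])) (.leaf (.up 6 2920 [87] 0 [87,93,91,142]))) (.leaf (.up 5 78 [177] 1570 [87,110,43,229])))))))

noncomputable def trio3_0101 : Tr TStep := .node trio3_01010 trio3_01011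

noncomputable def trio3_010 : Tr TStep := .node trio3_0100 trio3_0101

noncomputable def trio3_01100 : Tr TStep :=
  .node (.node (.node (.node (.node (.node (.node (.leaf (.up 4 3258 [177] 1570 [88,93,43,115])) (.leaf (.up 6 725 [87] 0 [93,123,204]))) (.node (.leaf (.up 4 1721 [157] 1137 [57,56,44,213])) (.leaf (.up 5 171 [113] 0 [88,110,140,151])))) (.node (.node (.leaf (.up 5 3606 [113] 0 [87,89,133])) (.leaf (.up 4 2758 [113] 0 [88,56,103,35]))) (.node (.leaf (.up 5 2751 [113] 0 [88,93,123,121])) (.leaf (.up 4 1839 [157] 1137 [56,176,149]))))) (.node (.node (.node (.leaf (.up 6 1055 [92] 0 [88,93,123,121])) (.leaf (.up 5 823 [150] 1935 [56,42,180]))) (.node (.leaf (.up 6 2477 [157] 1137 [57,94,43,121])) (.leaf (.up 5 3126 [87] 0 [88,56,44,208])))) (.node (.node (.leaf (.up 6 2618 [157] 1137 [87,55,116,210])) (.leaf (.up 4 2521 [113] 0 [57,110,90,199]))) (.leaf (.up 4 111 [87] 0 [55,42,18]))))) (.node (.node (.node (.node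 (.leaf (.up 1 71 [80] 0 [87,55,140,119])) (.leaf (.up 4 1666 [157] 1137 [87,94,155,117]))) (.node (.leaf (.up 6 1069 [177] 1570 [88,56,104,225])) (.leaf (.up 6 1568 [92] 0 [87,93,176,10])))) (.node (.node (.leaf (.up 4 3499 [150] 1935 [57,93,43,11])) (.leaf (.up 6 791 [177] 1570 [57,94,103,159]))) (.node (.leaf (.up 3 2964 [113] 0 [57,94,103,159])) (.leaf (.up 4 2667 [150] 1935 [57,55,44,102]))))) (.node (.node (.node (.leaf (.up 5 53 [177] 1570 [88,94,44,136])) (.leaf (.up 4 198 [92] 0 [88,93,103,77]))) (.node (.leaf (.up 5 1167 [92] 0 [88,94,90,186])) (.leaf (.up 5 1833 [157] 1137 [88,56,176,159])))) (.node (.node (.leaf (.up 5 1014 [87] 0 [94,176,216])) (.leaf (.up 6 3269 [80] 0 [88,140,27]))) (.leaf (.up 6 2583 [157] 1137 [57,56,123,210])))))) (.node (.node (.node (.node (.node (.leaf (.up 4 3537 [177] 1570 [57,110,91,227])) (.leaf (.up 4 2855 [87] 0 [87,110,116,174]))) (.node (.leaf (.up 5 362 [150] 1935 [57,125])) (.leaf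 (.up 2 223 [150] 1935 [110,90,124])))) (.node (.node (.leaf (.up 6 1716 [87] 0 [88,93,104,101])) (.leaf (.up 5 2139 [87] 0 [88,93,42,226]))) (.node (.leaf (.up 3 1922 [150] 1935 [57,94,123,105])) (.leaf (.up 5 3062 [177] 1570 [87,94,140,163]))))) (.node (.node (.node (.leaf (.up 5 1977 [177] 1570 [94,155,5])) (.leaf (.up 5 337 [177] 1570 [55,91,168]))) (.node (.leaf (.up 2 3733 [150] 1935 [57,93,155,8])) (.leaf (.up 6 3698 [150] 1935 [57,94,89,243])))) (.node (.node (.leaf (.up 4 673 [177] 1570 [56,42,10])) (.leaf (.up 3 2569 [177] 1570 [57,110,116,142]))) (.leaf (.up 5 1327 [177] 1570 [88,93,43,188]))))) (.node (.node (.node (.node (.leaf (.up 3 3142 [177] 1570 [57,55,155,99])) (.leaf (.up 5 328 [80] 0 [93,44,10]))) (.node (.leaf (.up 6 557 [80] 0 [87,55,103,129])) (.leaf (.up 5 356 [113] 0 [93,116,226])))) (.node (.node (.leaf (.up 2 1103 [87] 0 [88,56,155,187])) (.leaf (.up 3 709 [92] 0 [88,56,90,204]))) (.node (.leaf (.up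 5 851 [177] 1570 [88,93,140,75])) (.leaf (.up 6 492 [92] 0 [88,56,43,109]))))) (.node (.node (.node (.leaf (.up 4 122 [113] 0 [87,94,44,191])) (.leaf (.up 4 409 [87] 0 [93,116,233]))) (.node (.leaf (.up 5 39 [157] 1137 [88,89,182])) (.leaf (.up 3 2660 [150] 1935 [94,104,136])))) (.node (.node (.leaf (.up 5 2955 [157] 1137 [87,43,171])) (.leaf (.up 6 3279 [92] 0 [57,93,90,163]))) (.leaf (.up 3 2725 [177] 1570 [56,91,150]))))))) (.node (.node (.node (.node (.node (.node (.leaf (.up 2 2798 [177] 1570 [87,55,90,191])) (.leaf (.up 5 2792 [87] 0 [110,123,184]))) (.node (.leaf (.up 6 2995 [92] 0 [55,43,209])) (.leaf (.up 4 2944 [113] 0 [57,55,176,217])))) (.node (.node (.leaf (.up 5 1731 [92] 0 [88,93,91,187])) (.leaf (.up 5 1797 [157] 1137 [57,75]))) (.node (.leaf (.up 5 667 [87] 0 [87,94,89,34])) (.leaf (.up 4 1570 [157] 1137 [90,182]))))) (.node (.node (.node (.leaf (.up 5 1836 [113] 0 [57,93,140,107])) (.leaf (.up 4 44 [150] 1935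 [57,123,211]))) (.node (.leaf (.up 3 1620 [177] 1570 [57,55,104,168])) (.leaf (.up 5 3023 [80] 0 [87,93,89,148])))) (.node (.node (.leaf (.up 4 3265 [177] 1570 [88,103,92])) (.leaf (.up 5 3748 [150] 1935 [87,94,43,156]))) (.leaf (.up 3 2392 [80] 0 [87,55,44,37]))))) (.node (.node (.node (.node (.leaf (.up 3 3743 [92] 0 [87,94,44,177])) (.leaf (.up 4 457 [113] 0 [87,56,116,31]))) (.node (.leaf (.up 4 2264 [92] 0 [88,93,116,121])) (.leaf (.up 4 1651 [177] 1570 [110,42,12])))) (.node (.node (.leaf (.up 4 3140 [87] 0 [93,42,0])) (.leaf (.up 5 388 [87] 0 [103,11]))) (.node (.leaf (.up 6 830 [113] 0 [87,226])) (.leaf (.up 3 1018 [177] 1570 [110,155,160]))))) (.node (.node (.node (.leaf (.up 5 3104 [157] 1137 [88,140,29])) (.leaf (.up 3 1544 [92] 0 [57,56,90,129]))) (.node (.leaf (.up 5 758 [177] 1570 [57,55,116,113])) (.leaf (.up 5 2153 [177] 1570 [110,91,146])))) (.node (.node (.leaf (.up 5 56 [80] 0 [57,104,74])) (.leaf (.up 4 500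 [177] 1570 [57,89,236]))) (.leaf (.up 4 805 [92] 0 [87,56,176,141])))))) (.node (.node (.node (.node (.node (.leaf (.up 2 74 [157] 1137 [57,116,171])) (.leaf (.up 4 3197 [113] 0 [57,55,174]))) (.node (.leaf (.up 4 1651 [92] 0 [87,94,90,243])) (.leaf (.up 3 1050 [157] 1137 [87,110,116,242])))) (.node (.node (.leaf (.up 1 1 [87] 0 [94,89,235])) (.leaf (.up 2 1442 [157] 1137 [88,93,43,186]))) (.node (.leaf (.up 3 709 [87] 0 [110,140,169])) (.leaf (.up 4 2151 [177] 1570 [87,55,123,72]))))) (.node (.node (.node (.leaf (.up 3 807 [113] 0 [56,43,35])) (.leaf (.up 5 3104 [150] 1935 [88,110,90,127]))) (.node (.leaf (.up 2 2798 [113] 0 [57,56,104,196])) (.leaf (.up 6 1336 [92] 0 [88,94,103,223])))) (.node (.node (.leaf (.up 4 1845 [177] 1570 [88,56,89,171])) (.leaf (.up 4 3174 [177] 1570 [88,94,43,65]))) (.leaf (.up 3 213 [150] 1935 [57,93,44,36]))))) (.node (.node (.node (.node (.leaf (.up 5 3773 [157] 1137 [57,94,89,232])) (.leaf (.up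 4 3159 [150] 1935 [93,104,113]))) (.node (.leaf (.up 5 596 [92] 0 [87,94,104,35])) (.leaf (.up 3 3635 [113] 0 [87,55,116,226])))) (.node (.node (.leaf (.up 3 2125 [157] 1137 [55,155,189])) (.leaf (.up 4 1757 [92] 0 [87,93,91,220]))) (.leaf (.up 4 3569 [177] 1570 [57,55,44,30])))) (.node (.node (.node (.leaf (.up 5 926 [113] 0 [110,146])) (.leaf (.up 3 1815 [87] 0 [57,56,90,60]))) (.node (.leaf (.up 6 1037 [87] 0 [57,93,140,102])) (.leaf (.up 4 2072 [113] 0 [140,30])))) (.node (.node (.leaf (.up 4 728 [87] 0 [88,56,116,27])) (.leaf (.up 5 3342 [113] 0 [57,56,90,183]))) (.leaf (.up 6 1386 [157] 1137 [57,42,77])))))))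

noncomputable def trio3_01101 : Tr TStep :=
  .node (.node (.node (.node (.node (.node (.node (.leaf (.up 6 1022 [87] 0 [55,176,186])) (.leaf (.up 5 2575 [87] 0 [88,110,89,121]))) (.node (.leaf (.up 5 1649 [113] 0 [57,93,155,189])) (.leaf (.up 6 3366 [87] 0 [87,56,44,224])))) (.node (.node (.leaf (.up 4 409 [113] 0 [57,93,89,219])) (.leaf (.up 5 2513 [177] 1570 [93,91,102]))) (.node (.leaf (.up 5 3160 [150] 1935 [88,55,176,167])) (.leaf (.up 4 137 [92] 0 [93,43,18]))))) (.node (.node (.node (.leaf (.up 5 321 [113] 0 [94,89,102])) (.leaf (.up 3 14 [177] 1570 [57,91,131]))) (.node (.leaf (.up 4 85 [177] 1570 [88,94,123,61])) (.leaf (.up 5 1119 [87] 0 [88,110,123,13])))) (.node (.node (.leaf (.up 4 448 [80] 0 [55,140,8])) (.leaf (.up 5 2213 [87] 0 [56,44,248]))) (.leaf (.up 6 65 [157] 1137 [55,155,166]))))) (.node (.node (.node (.node (.leaf (.up 5 3767 [113] 0 [110,116,119])) (.leaf (.up 4 207 [87] 0 [93,103,181]))) (.node (.leaf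 (.up 5 3399 [87] 0 [57,93,104,189])) (.leaf (.up 6 2724 [80] 0 [57,56,116,209])))) (.node (.node (.leaf (.up 4 1839 [150] 1935 [57,176,112])) (.leaf (.up 4 342 [92] 0 [88,103,235]))) (.node (.leaf (.up 4 1172 [177] 1570 [87,93,90,236])) (.leaf (.up 3 1290 [80] 0 [88,110,91,108]))))) (.node (.node (.node (.leaf (.up 5 1314 [157] 1137 [87,94,44,212])) (.leaf (.up 4 3425 [157] 1137 [88,94,91,247]))) (.node (.leaf (.up 3 38 [80] 0 [87,110,116,133])) (.leaf (.up 4 3449 [150] 1935 [88,56,90,247])))) (.node (.node (.leaf (.up 5 948 [150] 1935 [87,123,148])) (.leaf (.up 6 1058 [113] 0 [87,104,192]))) (.leaf (.up 4 981 [157] 1137 [57,110,103,150])))))) (.node (.node (.node (.node (.node (.leaf (.up 4 805 [87] 0 [56,91,59])) (.leaf (.up 4 245 [87] 0 [87,110,123,224]))) (.node (.leaf (.up 4 2830 [113] 0 [87,103,207])) (.leaf (.up 4 2772 [150] 1935 [55,89,73])))) (.node (.node (.leaf (.up 5 453 [113] 0 [94,104,3])) (.leaf (.up 5 3246 [150]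 1935 [87,56,90,178]))) (.node (.leaf (.up 6 2864 [150] 1935 [87,94,43,146])) (.leaf (.up 6 551 [87] 0 [88,94,155,33]))))) (.node (.node (.node (.leaf (.up 3 761 [157] 1137 [42,215])) (.leaf (.up 4 1501 [157] 1137 [57,110,44,239]))) (.node (.leaf (.up 5 870 [150] 1935 [87,56,123,119])) (.leaf (.up 5 2298 [92] 0 [87,55,89,196])))) (.node (.node (.leaf (.up 5 374 [177] 1570 [93,155,223])) (.leaf (.up 4 694 [157] 1137 [55,140,242]))) (.leaf (.up 5 1251 [87] 0 [88,93,104,73]))))) (.node (.node (.node (.node (.leaf (.up 4 1863 [157] 1137 [93,103,245])) (.leaf (.up 5 768 [92] 0 [88,56,104,186]))) (.node (.leaf (.up 4 68 [150] 1935 [87,56,176,46])) (.leaf (.up 4 1086 [150] 1935 [88,110,44,34])))) (.node (.node (.leaf (.up 5 625 [157] 1137 [110,140,21])) (.leaf (.up 5 1461 [177] 1570 [57,93,43,208]))) (.leaf (.up 4 3705 [80] 0 [57,55,104,112])))) (.node (.node (.node (.leaf (.up 5 2081 [87] 0 [93,155,118])) (.leaf (.up 5 367 [92] 0 [94,116,130])))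 (.node (.leaf (.up 6 2724 [92] 0 [87,93,90,138])) (.leaf (.up 5 3694 [87] 0 [57,55,104,60])))) (.node (.node (.leaf (.up 5 1427 [150] 1935 [103,188])) (.leaf (.up 3 1408 [80] 0 [57,93,91,225]))) (.leaf (.up 4 238 [177] 1570 [87,55,43,95]))))))) (.node (.node (.node (.node (.node (.node (.leaf (.up 5 2894 [113] 0 [57,94,140,111])) (.leaf (.up 4 3069 [87] 0 [88,93,123,201]))) (.node (.leaf (.up 5 1251 [150] 1935 [57,56,89,168])) (.leaf (.up 4 1138 [92] 0 [93,103,194])))) (.node (.node (.leaf (.up 6 3268 [87] 0 [93,140,164])) (.leaf (.up 4 673 [87] 0 [88,94,140,6]))) (.node (.leaf (.up 5 444 [87] 0 [87,94,173])) (.leaf (.up 3 580 [87] 0 [87,155,22]))))) (.node (.node (.node (.leaf (.up 5 3362 [177] 1570 [88,140,2])) (.leaf (.up 4 2855 [157] 1137 [57,110,91,239]))) (.node (.leaf (.up 5 2454 [92] 0 [57,93,123,202])) (.leaf (.up 4 659 [87] 0 [57,56,43,5])))) (.node (.node (.leaf (.up 5 3469 [177] 1570 [88,90,11])) (.leaf (.up 5 574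 [157] 1137 [57,55,176,192]))) (.leaf (.up 5 2245 [113] 0 [94,103,114]))))) (.node (.node (.node (.node (.leaf (.up 5 2622 [87] 0 [104,25])) (.leaf (.up 3 3635 [177] 1570 [57,93,90,187]))) (.node (.leaf (.up 4 2241 [157] 1137 [87,110,116,201])) (.leaf (.up 3 834 [157] 1137 [57,110,42,118])))) (.node (.node (.leaf (.up 3 1382 [150] 1935 [56,89,165])) (.leaf (.up 4 2270 [113] 0 [87,56,90,23]))) (.node (.leaf (.up 6 3708 [150] 1935 [93,103,246])) (.leaf (.up 5 2197 [177] 1570 [87,94,116,112]))))) (.node (.node (.node (.leaf (.up 6 854 [92] 0 [94,104,6])) (.leaf (.up 4 2313 [92] 0 [88,55,89,37]))) (.node (.leaf (.up 4 3413 [150] 1935 [88,94,155,4])) (.leaf (.up 5 3236 [87] 0 [94,155,129])))) (.node (.node (.leaf (.up 6 1412 [113] 0 [57,94,103,151])) (.leaf (.up 1 2 [80] 0 [87,94,42,31]))) (.leaf (.up 5 407 [177] 1570 [87,55,103,168])))))) (.node (.node (.node (.node (.node (.leaf (.up 5 951 [113] 0 [55,116,238])) (.leaf (.up 2 1774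 [80] 0 [88,176,243]))) (.node (.leaf (.up 4 2845 [87] 0 [57,56,123,120])) (.leaf (.up 5 1798 [150] 1935 [88,55,140,200])))) (.node (.node (.leaf (.up 6 3754 [150] 1935 [57,155,175])) (.leaf (.up 6 827 [87] 0 [56,42,142]))) (.node (.leaf (.up 1 15 [113] 0 [88,110,89,100])) (.leaf (.up 3 1592 [80] 0 [88,55,176,198]))))) (.node (.node (.node (.leaf (.up 4 729 [113] 0 [87,110,176,216])) (.leaf (.up 5 838 [113] 0 [57,56,44,0]))) (.node (.leaf (.up 5 1903 [150] 1935 [88,93,91,210])) (.leaf (.up 5 1686 [113] 0 [57,94,123,77])))) (.node (.node (.leaf (.up 3 3648 [92] 0 [87,94,42,231])) (.leaf (.up 5 596 [157] 1137 [57,93,71]))) (.leaf (.up 5 2373 [87] 0 [57,94,140,167]))))) (.node (.node (.node (.node (.leaf (.up 4 229 [157] 1137 [57,155,109])) (.leaf (.up 5 2102 [87] 0 [93,44,125]))) (.node (.leaf (.up 6 2627 [150] 1935 [87,93,140,165])) (.leaf (.up 6 1469 [157] 1137 [55,162])))) (.node (.node (.leaf (.up 4 2311 [87] 0 [57,55,43,214]))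 (.leaf (.up 4 192 [177] 1570 [57,110,209]))) (.leaf (.up 5 2247 [92] 0 [123,204])))) (.node (.node (.node (.leaf (.up 5 677 [157] 1137 [87,110,104,142])) (.leaf (.up 3 3319 [150] 1935 [87,55,103,180]))) (.node (.leaf (.up 4 1200 [157] 1137 [87,110,123,75])) (.leaf (.up 5 501 [157] 1137 [88,43,34])))) (.node (.node (.leaf (.up 4 1423 [92] 0 [57,94,42,12])) (.leaf (.up 4 799 [157] 1137 [87,55,235]))) (.leaf (.up 4 1853 [157] 1137 [88,93,140,135])))))))

noncomputable def trio3_0110 : Tr TStep := .node trio3_01100 trio3_01101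

noncomputable def trio3_01110 : Tr TStep :=
  .node (.node (.node (.node (.node (.node (.node (.leaf (.up 2 3226 [177] 1570 [57,91,118])) (.leaf (.up 6 489 [92] 0 [88,56,103,111]))) (.node (.leaf (.up 5 3783 [150] 1935 [57,94,104,168])) (.leaf (.up 5 3439 [177] 1570 [88,94,151])))) (.node (.node (.leaf (.up 5 789 [177] 1570 [55,44,1])) (.leaf (.up 3 1528 [113] 0 [87,93,104,141]))) (.node (.leaf (.up 5 954 [87] 0 [88,94,90,240])) (.leaf (.up 3 314 [113] 0 [88,55,44,105]))))) (.node (.node (.node (.leaf (.up 4 334 [80] 0 [87,55,42,119])) (.leaf (.up 3 641 [177] 1570 [88,55,176,170]))) (.node (.leaf (.up 6 3708 [113] 0 [87,94,43,178])) (.leaf (.up 4 1600 [150] 1935 [57,56,176,61])))) (.node (.node (.leaf (.up 3 3409 [177] 1570 [88,110,155,247])) (.leaf (.up 3 133 [92] 0 [91,20]))) (.leaf (.up 5 926 [157] 1137 [88,55,89,159]))))) (.node (.node (.node (.node (.leaf (.up 4 44 [92] 0 [57,110,89,0])) (.leaf (.up 5 1896 [150] 1935 [56,140,109])))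 (.node (.leaf (.up 5 1043 [150] 1935 [88,55,103,101])) (.leaf (.up 4 1853 [80] 0 [88,93,97])))) (.node (.node (.leaf (.up 5 2668 [157] 1137 [57,140,7])) (.leaf (.up 4 261 [177] 1570 [87,93,89,162]))) (.node (.leaf (.up 4 2306 [87] 0 [57,94,104,36])) (.leaf (.up 3 38 [113] 0 [57,93,44,219]))))) (.node (.node (.node (.leaf (.up 4 1258 [177] 1570 [55,103,186])) (.leaf (.up 2 2626 [113] 0 [87,110,140,122]))) (.node (.leaf (.up 4 1775 [92] 0 [90,21])) (.leaf (.up 5 3767 [150] 1935 [56,91,117])))) (.node (.node (.leaf (.up 6 693 [150] 1935 [88,55,90,72])) (.leaf (.up 1 7 [113] 0 [176,96]))) (.leaf (.up 5 2369 [92] 0 [87,140,23])))))) (.node (.node (.node (.node (.node (.leaf (.up 4 659 [113] 0 [87,56,43,119])) (.leaf (.up 6 3257 [80] 0 [87,93,42,92]))) (.node (.leaf (.up 3 420 [150] 1935 [94,201])) (.leaf (.up 5 2148 [157] 1137 [87,94,103,203])))) (.node (.node (.leaf (.up 5 2038 [92] 0 [87,42,185])) (.leaf (.up 5 3767 [177] 1570 [55,155,136])))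 (.node (.leaf (.up 6 2638 [157] 1137 [87,44,185])) (.leaf (.up 4 2610 [150] 1935 [94,155,6]))))) (.node (.node (.node (.leaf (.up 3 645 [157] 1137 [57,116,166])) (.leaf (.up 5 453 [177] 1570 [42,107]))) (.node (.leaf (.up 3 2556 [157] 1137 [55,155,233])) (.leaf (.up 4 2644 [87] 0 [104,157])))) (.node (.node (.leaf (.up 5 851 [92] 0 [57,55,90,142])) (.leaf (.up 4 1002 [177] 1570 [56,43,124]))) (.leaf (.up 4 3523 [150] 1935 [56,103,117]))))) (.node (.node (.node (.node (.leaf (.up 5 142 [177] 1570 [88,93,116,169])) (.leaf (.up 5 2153 [87] 0 [57,56,116,205]))) (.node (.leaf (.up 5 3158 [177] 1570 [88,110,116,241])) (.leaf (.up 3 1544 [150] 1935 [88,94,44,76])))) (.node (.node (.leaf (.up 3 2579 [113] 0 [88,56,140,231])) (.leaf (.up 6 990 [92] 0 [88,93,42,119]))) (.node (.leaf (.up 5 3472 [157] 1137 [110,140,97])) (.leaf (.up 4 2845 [157] 1137 [88,90,112]))))) (.node (.node (.node (.leaf (.up 3 1162 [177] 1570 [87,110,116,216])) (.leaf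 (.up 2 619 [92] 0 [56,104,35]))) (.node (.leaf (.up 4 555 [113] 0 [88,94,44,115])) (.leaf (.up 6 2613 [113] 0 [57,140,222])))) (.node (.node (.leaf (.up 2 648 [177] 1570 [88,55,44,160])) (.leaf (.up 6 495 [177] 1570 [93,116,205]))) (.leaf (.up 5 324 [177] 1570 [87,55,43,3]))))))) (.node (.node (.node (.node (.node (.node (.leaf (.up 2 2626 [150] 1935 [88,94,116,153])) (.leaf (.up 4 3341 [92] 0 [57,55,172]))) (.node (.leaf (.up 4 2677 [177] 1570 [56,155,171])) (.leaf (.up 3 3319 [113] 0 [88,110,116,210])))) (.node (.node (.leaf (.up 5 2100 [150] 1935 [93,116,74])) (.leaf (.up 2 619 [80] 0 [88,55,91,141]))) (.node (.leaf (.up 3 3117 [177] 1570 [94,91,114])) (.leaf (.up 6 1247 [92] 0 [88,93,91]))))) (.node (.node (.node (.leaf (.up 3 2700 [177] 1570 [87,55,90,0])) (.leaf (.up 5 2536 [150] 1935 [88,94,91,137]))) (.node (.leaf (.up 4 155 [150] 1935 [57,176,61])) (.leaf (.up 4 2264 [87] 0 [88,176,112])))) (.node (.node (.leaf (.up 5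 735 [92] 0 [88,55,140,109])) (.leaf (.up 5 1149 [177] 1570 [57,55,155,199]))) (.leaf (.up 6 1244 [157] 1137 [57,55,122]))))) (.node (.node (.node (.node (.leaf (.up 1 106 [87] 0 [57,56,155,115])) (.leaf (.up 3 255 [177] 1570 [88,90,196]))) (.node (.leaf (.up 5 985 [177] 1570 [57,56,163])) (.leaf (.up 4 1772 [177] 1570 [57,110,140,30])))) (.node (.node (.leaf (.up 3 3128 [80] 0 [57,56,89,145])) (.leaf (.up 5 3210 [177] 1570 [88,94,91,132]))) (.node (.leaf (.up 4 2503 [113] 0 [88,55,44,226])) (.leaf (.up 5 1499 [177] 1570 [57,110,155,15]))))) (.node (.node (.node (.leaf (.up 4 2610 [92] 0 [88,94,155,206])) (.leaf (.up 5 1936 [177] 1570 [88,56,233]))) (.node (.leaf (.up 4 1582 [150] 1935 [88,55,140,220])) (.leaf (.up 4 2987 [92] 0 [93,89,119])))) (.node (.node (.leaf (.up 2 1189 [87] 0 [87,93,123,218])) (.leaf (.up 4 2969 [177] 1570 [56,103,12]))) (.leaf (.up 3 2291 [87] 0 [55,155,229])))))) (.node (.node (.node (.node (.node (.leaf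 (.up 3 923 [87] 0 [57,110,43,127])) (.leaf (.up 5 3126 [157] 1137 [87,89,132]))) (.node (.leaf (.up 5 449 [113] 0 [87,89,125])) (.leaf (.up 4 1789 [113] 0 [87,55,91,72])))) (.node (.node (.leaf (.up 5 1217 [157] 1137 [87,56,155,147])) (.leaf (.up 5 3496 [92] 0 [87,176,134]))) (.node (.leaf (.up 3 2249 [157] 1137 [57,56,43,118])) (.leaf (.up 4 3140 [177] 1570 [57,55,90,146]))))) (.node (.node (.node (.leaf (.up 6 1723 [87] 0 [87,110,43,115])) (.leaf (.up 5 915 [80] 0 [87,110,43,235]))) (.node (.leaf (.up 3 2529 [157] 1137 [87,94,123,208])) (.leaf (.up 5 949 [150] 1935 [88,56,155,15])))) (.node (.node (.leaf (.up 3 1636 [113] 0 [88,55,103,46])) (.leaf (.up 4 3315 [92] 0 [57,55,116,205]))) (.leaf (.up 3 3743 [150] 1935 [110,155,212]))))) (.node (.node (.node (.node (.leaf (.up 3 884 [87] 0 [57,56,140,75])) (.leaf (.up 3 102 [92] 0 [87,56,90,245]))) (.node (.leaf (.up 4 1371 [80] 0 [87,55,91,206])) (.leaf (.up 5 3242 [113] 0 [87,56,176,232]))))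 (.node (.node (.leaf (.up 5 3784 [150] 1935 [88,93,44,60])) (.leaf (.up 1 5 [87] 0 [88,94,90,145]))) (.leaf (.up 1 5 [150] 1935 [88,93,91,192])))) (.node (.node (.node (.leaf (.up 5 3060 [157] 1137 [55,116,161])) (.leaf (.up 4 3159 [157] 1137 [88,91,69]))) (.node (.leaf (.up 5 1714 [80] 0 [56,116,239])) (.leaf (.up 5 1836 [157] 1137 [110,236])))) (.node (.node (.leaf (.up 5 2495 [87] 0 [57,56,176,113])) (.leaf (.up 5 3060 [177] 1570 [87,56,90,95]))) (.leaf (.up 5 3785 [87] 0 [88,93,104,21])))))))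

noncomputable def trio3_01111 : Tr TStep :=
  .node (.node (.node (.node (.node (.node (.node (.leaf (.up 3 3319 [87] 0 [93,116,167])) (.leaf (.up 4 1099 [113] 0 [89,143]))) (.node (.leaf (.up 6 3455 [150] 1935 [87,94,155,138])) (.leaf (.up 5 3077 [157] 1137 [56,89,130])))) (.node (.node (.leaf (.up 5 1857 [87] 0 [88,55,176,99])) (.leaf (.up 5 263 [92] 0 [57,93,140,152]))) (.node (.leaf (.up 6 2739 [87] 0 [57,56,121])) (.leaf (.up 5 2369 [177] 1570 [87,55,162]))))) (.node (.node (.node (.leaf (.up 5 442 [157] 1137 [87,55,90,101])) (.leaf (.up 4 555 [92] 0 [55,140,118]))) (.node (.leaf (.up 3 1528 [177] 1570 [57,94,155,164])) (.leaf (.up 4 1318 [87] 0 [87,93,89,101])))) (.node (.node (.leaf (.up 6 1384 [177] 1570 [55,215])) (.leaf (.up 4 2311 [150] 1935 [88,94,90,233]))) (.leaf (.up 6 3027 [150] 1935 [87,56,91,177]))))) (.node (.node (.node (.node (.leaf (.up 5 1659 [157] 1137 [123,69])) (.leaf (.up 3 2647 [177] 1570 [44,236])))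 (.node (.leaf (.up 3 237 [87] 0 [55,43,162])) (.leaf (.up 5 453 [92] 0 [87,56,103,240])))) (.node (.node (.leaf (.up 4 2020 [113] 0 [87,235])) (.leaf (.up 6 3019 [177] 1570 [87,94,176,8]))) (.node (.leaf (.up 5 2346 [113] 0 [87,140,217])) (.leaf (.up 4 1952 [87] 0 [87,93,155,233]))))) (.node (.node (.node (.leaf (.up 5 284 [157] 1137 [87,56,176,225])) (.leaf (.up 5 3594 [177] 1570 [57,155,220]))) (.node (.leaf (.up 5 1271 [157] 1137 [57,56,140,102])) (.leaf (.up 5 898 [113] 0 [87,56,90,106])))) (.node (.node (.leaf (.up 4 2270 [87] 0 [56,89,215])) (.leaf (.up 5 3753 [80] 0 [57,93,89,141]))) (.leaf (.up 5 2654 [87] 0 [87,56,155,185])))))) (.node (.node (.node (.node (.node (.leaf (.up 6 2404 [157] 1137 [88,90,124])) (.leaf (.up 6 201 [157] 1137 [88,55,176,100]))) (.node (.leaf (.up 3 196 [177] 1570 [88,56,90,112])) (.leaf (.up 5 2474 [177] 1570 [88,110,44,238])))) (.node (.node (.leaf (.up 4 245 [80] 0 [87,55,155,186])) (.leaf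 (.up 4 2061 [87] 0 [57,93,104,109]))) (.node (.leaf (.up 6 3519 [87] 0 [88,94,104,99])) (.leaf (.up 4 2225 [87] 0 [87,93,104,246]))))) (.node (.node (.node (.leaf (.up 2 2173 [150] 1935 [57,123,0])) (.leaf (.up 4 3705 [92] 0 [87,179]))) (.node (.leaf (.up 4 1957 [87] 0 [90,150])) (.leaf (.up 5 1070 [80] 0 [87,56,90,146])))) (.node (.node (.leaf (.up 5 2399 [177] 1570 [87,56,155,108])) (.leaf (.up 4 1404 [157] 1137 [87,56,91,154]))) (.leaf (.up 4 1258 [150] 1935 [87,93,103,201]))))) (.node (.node (.node (.node (.leaf (.up 3 1815 [150] 1935 [87,56,140,222])) (.leaf (.up 3 3 [177] 1570 [57,56,90,243]))) (.node (.leaf (.up 6 513 [113] 0 [87,94,121])) (.leaf (.up 5 2495 [113] 0 [116,122])))) (.node (.node (.leaf (.up 2 961 [92] 0 [87,93,140,170])) (.leaf (.up 5 2842 [92] 0 [94,104,193]))) (.leaf (.up 6 693 [113] 0 [87,110,43,218])))) (.node (.node (.node (.leaf (.up 3 1571 [92] 0 [88,94,155,134])) (.leaf (.up 4 3750 [113] 0 [88,94,90,167])))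 (.node (.leaf (.up 4 972 [177] 1570 [87,94,89,69])) (.leaf (.up 5 2698 [157] 1137 [104,174])))) (.node (.node (.leaf (.up 5 2366 [157] 1137 [57,94,44])) (.leaf (.up 5 3336 [113] 0 [88,155,125]))) (.leaf (.up 4 901 [80] 0 [94,89,238]))))))) (.node (.node (.node (.node (.node (.node (.leaf (.up 5 665 [177] 1570 [88,55,123,235])) (.leaf (.up 5 3721 [150] 1935 [88,91,16]))) (.node (.leaf (.up 3 2604 [177] 1570 [87,110,91,178])) (.leaf (.up 5 1969 [177] 1570 [87,94,116,170])))) (.node (.node (.leaf (.up 4 742 [87] 0 [88,140,248])) (.leaf (.up 4 1768 [87] 0 [57,43,166]))) (.node (.leaf (.up 3 2556 [177] 1570 [87,55,116,98])) (.leaf (.up 5 1190 [150] 1935 [94,163]))))) (.node (.node (.node (.leaf (.up 5 1708 [80] 0 [57,55,42,121])) (.leaf (.up 4 261 [92] 0 [104,4]))) (.node (.leaf (.up 5 453 [150] 1935 [87,56,43,237])) (.leaf (.up 4 3037 [177] 1570 [87,91,121])))) (.node (.node (.leaf (.up 5 1819 [150] 1935 [57,110,104,145])) (.leaf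 (.up 5 1857 [177] 1570 [57,93,89,242]))) (.leaf (.up 4 1483 [113] 0 [88,55,104,143]))))) (.node (.node (.node (.node (.leaf (.up 5 2843 [177] 1570 [88,110,104,161])) (.leaf (.up 2 2798 [87] 0 [93,103,225]))) (.node (.leaf (.up 5 2356 [157] 1137 [94,44,30])) (.leaf (.up 6 2086 [87] 0 [87,55,103,23])))) (.node (.node (.leaf (.up 3 974 [87] 0 [87,94,43,143])) (.leaf (.up 5 2393 [157] 1137 [55,90,105]))) (.node (.leaf (.up 5 887 [177] 1570 [57,110,91,174])) (.leaf (.up 4 3528 [177] 1570 [87,94,104,160]))))) (.node (.node (.node (.leaf (.up 2 74 [87] 0 [88,110,91,246])) (.leaf (.up 4 1735 [113] 0 [94,8]))) (.node (.leaf (.up 4 122 [177] 1570 [55,42,233])) (.leaf (.up 6 1862 [87] 0 [87,56,104,11])))) (.node (.node (.leaf (.up 2 2173 [87] 0 [110,90,230])) (.leaf (.up 5 1117 [157] 1137 [87,55,126]))) (.leaf (.up 5 813 [177] 1570 [88,110,89,158])))))) (.node (.node (.node (.node (.node (.leaf (.up 5 259 [177] 1570 [87,55,89,31])) (.leaf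 (.up 6 3716 [80] 0 [87,110,43,191]))) (.node (.leaf (.up 5 2982 [177] 1570 [87,56,90,6])) (.leaf (.up 5 835 [157] 1137 [87,110,89,130])))) (.node (.node (.leaf (.up 4 439 [80] 0 [57,93,123,246])) (.leaf (.up 5 1167 [80] 0 [110,116,248]))) (.node (.leaf (.up 6 2375 [87] 0 [90,112])) (.leaf (.up 6 54 [157] 1137 [57,110,104,153]))))) (.node (.node (.node (.leaf (.up 5 456 [157] 1137 [93,123,33])) (.leaf (.up 1 15 [150] 1935 [87,94,91,162]))) (.node (.leaf (.up 5 1167 [157] 1137 [110,43,96])) (.leaf (.up 5 3108 [150] 1935 [87,56,123,132])))) (.node (.node (.leaf (.up 4 2855 [113] 0 [88,55,42,229])) (.leaf (.up 5 838 [150] 1935 [88,93,155,236]))) (.leaf (.up 4 2020 [80] 0 [110,116,173]))))) (.node (.node (.node (.node (.leaf (.up 4 137 [113] 0 [88,93,116,35])) (.leaf (.up 5 677 [80] 0 [57,56,104,96]))) (.node (.leaf (.up 3 3179 [150] 1935 [57,56,91,242])) (.leaf (.up 4 2072 [150] 1935 [87,93,176,117])))) (.node (.node (.leaf (.up 5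 2129 [150] 1935 [57,55,155,145])) (.leaf (.up 6 149 [87] 0 [88,93,44,152]))) (.leaf (.up 3 2935 [87] 0 [87,94,116,147])))) (.node (.node (.node (.leaf (.up 5 2910 [80] 0 [57,55,65])) (.leaf (.up 6 2763 [87] 0 [87,55,90,11]))) (.node (.leaf (.up 5 3784 [177] 1570 [88,55,104,36])) (.leaf (.up 6 17 [87] 0 [88,94,42,130])))) (.node (.node (.leaf (.up 5 2675 [177] 1570 [87,93,90,210])) (.leaf (.up 5 668 [157] 1137 [88,55,44,7]))) (.leaf (.up 4 152 [150] 1935 [110,42,139])))))))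

noncomputable def trio3_0111 : Tr TStep := .node trio3_01110 trio3_01111

noncomputable def trio3_011 : Tr TStep := .node trio3_0110 trio3_0111

noncomputable def trio3_01 : Tr TStep := .node trio3_010 trio3_011

noncomputable def trio3_0 : Tr TStep := .node trio3_00 trio3_01

noncomputable def trio3_10000 : Tr TStep :=
  .node (.node (.node (.node (.node (.node (.node (.leaf (.root 1)) (.leaf (.up 5 373 [177] 1570 [87,94,103,195]))) (.node (.leaf (.up 6 1938 [150] 1935 [87,94,175])) (.leaf (.up 5 1674 [177] 1570 [88,56,89,175])))) (.node (.node (.leaf (.up 5 3129 [87] 0 [103,207])) (.leaf (.up 5 3531 [177] 1570 [56,89,1]))) (.node (.leaf (.up 4 1404 [113] 0 [110,89,203])) (.leaf (.up 3 858 [177] 1570 [88,93,102]))))) (.node (.node (.node (.leaf (.up 5 119 [150] 1935 [94,104,95])) (.leaf (.up 3 1940 [150] 1935 [57,93,155,72]))) (.node (.leaf (.up 4 44 [80] 0 [88,42,10])) (.leaf (.up 5 2710 [177] 1570 [88,94,104,196])))) (.node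 (.node (.leaf (.up 4 2855 [150] 1935 [57,93,198])) (.leaf (.up 5 1224 [177] 1570 [88,93,89,157]))) (.leaf (.up 4 3346 [157] 1137 [56,103,159]))))) (.node (.node (.node (.node (.leaf (.up 6 1114 [157] 1137 [93,155,226])) (.leaf (.up 5 2006 [113] 0 [88,55,61]))) (.node (.leaf (.up 6 918 [80] 0 [88,116,126])) (.leaf (.up 2 134 [177] 1570 [88,140,130])))) (.node (.node (.leaf (.up 2 452 [150] 1935 [55,123,109])) (.leaf (.up 4 945 [177] 1570 [57,55,140,208]))) (.node (.leaf (.up 6 3237 [87] 0 [44,100])) (.leaf (.up 5 3232 [87] 0 [88,56,140,92]))))) (.node (.node (.node (.leaf (.up 5 2419 [87] 0 [56,44,211])) (.leaf (.up 5 1917 [113] 0 [88,55,44,6]))) (.node (.leaf (.up 5 806 [87] 0 [88,110,104,170])) (.leaf (.up 6 3510 [92] 0 [88,93,176,181])))) (.node (.node (.leaf (.up 3 2455 [92] 0 [57,44,23])) (.leaf (.up 4 3383 [157] 1137 [110,104,106]))) (.leaf (.up 5 365 [113] 0 [88,110,89,11])))))) (.node (.node (.node (.node (.node (.leaf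 (.up 5 954 [177] 1570 [88,93,176,248])) (.leaf (.up 5 1196 [87] 0 [56,140,216]))) (.node (.leaf (.up 5 2484 [113] 0 [87,93,44,122])) (.leaf (.up 4 2326 [150] 1935 [56,89,114])))) (.node (.node (.leaf (.up 6 856 [177] 1570 [57,55,90,142])) (.leaf (.up 4 500 [150] 1935 [57,110,176,11]))) (.node (.leaf (.up 4 498 [150] 1935 [57,56,176,118])) (.leaf (.up 5 1770 [157] 1137 [110,90,69]))))) (.node (.node (.node (.leaf (.up 4 137 [80] 0 [57,89,160])) (.leaf (.up 4 690 [157] 1137 [57,94,230]))) (.node (.leaf (.up 5 168 [150] 1935 [56,109])) (.leaf (.up 6 2834 [150] 1935 [87,56,6])))) (.node (.node (.leaf (.up 4 2318 [92] 0 [88,110,140,20])) (.leaf (.up 6 2631 [80] 0 [56,44,185]))) (.leaf (.up 4 2882 [177] 1570 [57,94,123,182]))))) (.node (.node (.node (.node (.leaf (.up 5 3442 [113] 0 [87,110,104,168])) (.leaf (.up 3 1544 [177] 1570 [57,110,91,226]))) (.node (.leaf (.up 4 1570 [87] 0 [110,104,241])) (.leaf (.up 3 237 [113] 0 [57,44,29]))))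 (.node (.node (.leaf (.up 4 2228 [177] 1570 [93,42,74])) (.leaf (.up 5 1537 [157] 1137 [87,90,46]))) (.node (.leaf (.up 6 1851 [92] 0 [110,116])) (.leaf (.up 5 144 [177] 1570 [88,155,240]))))) (.node (.node (.node (.leaf (.up 4 229 [92] 0 [87,43,1])) (.leaf (.up 5 3104 [87] 0 [57,55,103,127]))) (.node (.leaf (.up 3 1544 [87] 0 [88,110,43,154])) (.leaf (.up 5 2742 [87] 0 [43,135])))) (.node (.node (.leaf (.up 1 15 [177] 1570 [93,244])) (.leaf (.up 4 333 [92] 0 [88,116,239]))) (.leaf (.up 4 2020 [87] 0 [88,93,104,245]))))))) (.node (.node (.node (.node (.node (.node (.leaf (.up 5 3434 [150] 1935 [57,55,176,192])) (.leaf (.up 4 560 [92] 0 [56,43,231]))) (.node (.leaf (.up 4 1721 [177] 1570 [87,55,176,237])) (.leaf (.up 3 3128 [157] 1137 [88,56,123,167])))) (.node (.node (.leaf (.up 4 3639 [92] 0 [110,123,177])) (.leaf (.up 3 974 [157] 1137 [57,55,91,135]))) (.node (.leaf (.up 4 1839 [80] 0 [110,123,165])) (.leaf (.up 5 451 [150]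 1935 [87,56,125]))))) (.node (.node (.node (.leaf (.up 6 2477 [87] 0 [88,110,89,216])) (.leaf (.up 5 3184 [87] 0 [88,55,116,136]))) (.node (.leaf (.up 4 3738 [157] 1137 [93,43,209])) (.leaf (.up 5 1068 [87] 0 [93,140,154])))) (.node (.node (.leaf (.up 3 2192 [80] 0 [57,56,155,165])) (.leaf (.up 5 1819 [92] 0 [88,56,43,190]))) (.leaf (.up 5 434 [113] 0 [88,110,91,238]))))) (.node (.node (.node (.node (.leaf (.up 3 196 [157] 1137 [88,94,90,168])) (.leaf (.up 5 2702 [80] 0 [91,227]))) (.node (.leaf (.up 6 2189 [92] 0 [88,56,155,22])) (.leaf (.up 6 693 [92] 0 [88,110,42,121])))) (.node (.node (.leaf (.up 3 446 [177] 1570 [88,55,90,198])) (.leaf (.up 4 3259 [157] 1137 [87,55,44,247]))) (.node (.leaf (.up 5 2692 [80] 0 [87,110,116,228])) (.leaf (.up 4 3762 [113] 0 [93,123,105]))))) (.node (.node (.node (.leaf (.up 3 350 [177] 1570 [88,93,43,200])) (.leaf (.up 4 801 [177] 1570 [88,110,42,75]))) (.node (.leaf (.up 6 2784 [113] 0 [57,110,176,135]))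 (.leaf (.up 5 1070 [87] 0 [87,110,104,230])))) (.node (.node (.leaf (.up 2 525 [113] 0 [87,43,75])) (.leaf (.up 5 3327 [177] 1570 [56,90,165]))) (.leaf (.up 3 884 [157] 1137 [88,176,217])))))) (.node (.node (.node (.node (.node (.leaf (.up 5 3692 [113] 0 [57,94,104,202])) (.leaf (.up 3 1940 [157] 1137 [110,176,187]))) (.node (.leaf (.up 5 2021 [157] 1137 [88,89,173])) (.leaf (.up 4 1818 [150] 1935 [87,155,46])))) (.node (.node (.leaf (.up 5 2095 [113] 0 [87,56,90,35])) (.leaf (.up 5 780 [157] 1137 [88,93,42,146]))) (.node (.leaf (.up 5 780 [87] 0 [93,44,243])) (.leaf (.up 5 2102 [150] 1935 [88,157]))))) (.node (.node (.node (.leaf (.up 3 2579 [87] 0 [87,55,176,204])) (.leaf (.up 5 1061 [113] 0 [87,94,42,159]))) (.node (.leaf (.up 5 70 [157] 1137 [57,56,89,204])) (.leaf (.up 3 1316 [113] 0 [57,94,155,30])))) (.node (.node (.leaf (.up 5 3164 [157] 1137 [57,56,140,29])) (.leaf (.up 4 1310 [87] 0 [88,56,104,188]))) (.leaf (.up 5 2594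 [150] 1935 [42,236]))))) (.node (.node (.node (.node (.leaf (.up 2 134 [113] 0 [87,55,116,188])) (.leaf (.up 2 1103 [177] 1570 [93,43,95]))) (.node (.leaf (.up 5 2783 [80] 0 [55,176,205])) (.leaf (.up 6 2407 [87] 0 [88,89,30])))) (.node (.node (.leaf (.up 6 3241 [87] 0 [88,116,201])) (.leaf (.up 6 2088 [177] 1570 [57,56,90,238]))) (.leaf (.up 3 2908 [150] 1935 [88,94,42,164])))) (.node (.node (.node (.leaf (.up 4 1451 [80] 0 [87,56,90,235])) (.leaf (.up 2 2602 [150] 1935 [94,176,133]))) (.node (.leaf (.up 5 3715 [87] 0 [87,56,90,237])) (.leaf (.up 3 685 [177] 1570 [87,110,71])))) (.node (.node (.leaf (.up 5 1440 [80] 0 [57,55,116])) (.leaf (.up 5 1213 [113] 0 [110,101]))) (.leaf (.up 4 2312 [150] 1935 [94,42,7])))))))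

noncomputable def trio3_10001 : Tr TStep :=
  .node (.node (.node (.node (.node (.node (.node (.leaf (.up 5 1021 [177] 1570 [88,56,116,99])) (.leaf (.up 5 735 [150] 1935 [56,91,114]))) (.node (.leaf (.up 2 2430 [87] 0 [87,93,91,141])) (.leaf (.up 3 2764 [80] 0 [57,55,103,18])))) (.node (.node (.leaf (.up 3 2392 [150] 1935 [94,89,190])) (.leaf (.up 6 3052 [157] 1137 [57,91,134]))) (.node (.leaf (.up 4 3401 [177] 1570 [88,44,144])) (.leaf (.up 6 2934 [177] 1570 [88,56,140,35]))))) (.node (.node (.node (.leaf (.up 4 1933 [80] 0 [87,93,173])) (.leaf (.up 5 1797 [113] 0 [88,56,140,5]))) (.node (.leaf (.up 4 30 [150] 1935 [88,43,178])) (.leaf (.up 3 2921 [92] 0 [88,110,116,76])))) (.node (.node (.leaf (.up 6 752 [157] 1137 [88,94,44,227])) (.leaf (.up 4 2714 [150] 1935 [88,123,125]))) (.leaf (.up 3 1528 [92] 0 [57,93,176,112]))))) (.node (.node (.node (.node (.leaf (.up 4 981 [150] 1935 [204])) (.leaf (.up 4 3598 [177] 1570 [110,104,211])))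 (.node (.leaf (.up 3 1242 [177] 1570 [88,55,176,175])) (.leaf (.up 3 2256 [92] 0 [57,140,186])))) (.node (.node (.leaf (.up 4 111 [92] 0 [88,94,155,202])) (.leaf (.up 3 3743 [157] 1137 [57,94,104,29]))) (.node (.leaf (.up 5 741 [177] 1570 [88,43,111])) (.leaf (.up 6 3448 [157] 1137 [57,110,155,195]))))) (.node (.node (.node (.leaf (.up 4 111 [113] 0 [57,93,140,158])) (.leaf (.up 6 1000 [157] 1137 [110,44,149]))) (.node (.leaf (.up 6 310 [150] 1935 [88,94,123,174])) (.leaf (.up 5 898 [150] 1935 [57,56,176,137])))) (.node (.node (.leaf (.up 4 2241 [113] 0 [55,176,160])) (.leaf (.up 2 1707 [87] 0 [57,110,44,12]))) (.leaf (.up 5 443 [177] 1570 [87,56,91,121])))))) (.node (.node (.node (.node (.node (.leaf (.up 5 361 [87] 0 [87,55,89,213])) (.leaf (.up 4 560 [87] 0 [88,110,103,213]))) (.node (.leaf (.up 5 3531 [113] 0 [57,94,155,105])) (.leaf (.up 5 564 [113] 0 [87,94,155,213])))) (.node (.node (.leaf (.up 5 3238 [92] 0 [87,56,104,137]))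 (.leaf (.up 4 2206 [150] 1935 [103,227]))) (.node (.leaf (.up 5 1210 [177] 1570 [87,110,103,163])) (.leaf (.up 3 1503 [80] 0 [88,55,42,161]))))) (.node (.node (.node (.leaf (.up 4 3181 [157] 1137 [87,94,43,13])) (.leaf (.up 4 1789 [80] 0 [88,56,42,124]))) (.node (.leaf (.up 4 1391 [157] 1137 [57,110,89,128])) (.leaf (.up 2 2798 [80] 0 [57,56,103,187])))) (.node (.node (.leaf (.up 4 3588 [150] 1935 [57,56,43,95])) (.leaf (.up 5 2377 [87] 0 [55,44,72]))) (.leaf (.up 6 3597 [157] 1137 [57,110,104,197]))))) (.node (.node (.node (.node (.leaf (.up 3 1290 [157] 1137 [43,60])) (.leaf (.up 6 1804 [80] 0 [88,93,43,205]))) (.node (.leaf (.up 5 3244 [92] 0 [155,162])) (.leaf (.up 4 1733 [177] 1570 [57,56,103,174])))) (.node (.node (.leaf (.up 5 1142 [113] 0 [88,94,155,183])) (.leaf (.up 3 2961 [80] 0 [88,110,123,244]))) (.node (.leaf (.up 4 801 [157] 1137 [57,93,89,149])) (.leaf (.up 5 1070 [150] 1935 [87,56,44,173]))))) (.node (.node (.node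 (.leaf (.up 5 491 [150] 1935 [57,110,90,235])) (.leaf (.up 4 3589 [80] 0 [88,110,123,27]))) (.node (.leaf (.up 6 1827 [177] 1570 [88,110,91,37])) (.leaf (.up 3 531 [177] 1570 [57,93,43,105])))) (.node (.node (.leaf (.up 5 3524 [177] 1570 [87,118])) (.leaf (.up 4 2060 [177] 1570 [88,110,123,2]))) (.leaf (.up 5 963 [177] 1570 [88,94,140,166]))))))) (.node (.node (.node (.node (.node (.node (.leaf (.up 4 302 [150] 1935 [87,93,104,149])) (.leaf (.up 5 2121 [80] 0 [57,55,140,25]))) (.node (.leaf (.up 5 2377 [80] 0 [88,55,140,170])) (.leaf (.up 5 735 [87] 0 [87,110,42,174])))) (.node (.node (.leaf (.up 5 657 [92] 0 [88,93,103,212])) (.leaf (.up 5 2429 [150] 1935 [88,93,44,185]))) (.node (.leaf (.up 4 2937 [80] 0 [87,94,90,169])) (.leaf (.up 5 2955 [87] 0 [87,93,90,34]))))) (.node (.node (.node (.leaf (.up 6 3308 [157] 1137 [110,91,226])) (.leaf (.up 6 2097 [177] 1570 [94,103,161]))) (.node (.leaf (.up 4 2270 [150] 1935 [87,110,90,126]))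 (.leaf (.up 2 3663 [87] 0 [110,176,118])))) (.node (.node (.leaf (.up 5 926 [150] 1935 [88,56,42,182])) (.leaf (.up 5 3068 [87] 0 [57,110,116,31]))) (.leaf (.up 5 429 [150] 1935 [110,103,136]))))) (.node (.node (.node (.node (.leaf (.up 4 1172 [150] 1935 [240])) (.leaf (.up 3 579 [157] 1137 [88,55,176,35]))) (.node (.leaf (.up 5 939 [113] 0 [87,93,90,180])) (.leaf (.up 4 605 [87] 0 [87,56,103,135])))) (.node (.node (.leaf (.up 4 3762 [87] 0 [93,103,37])) (.leaf (.up 5 304 [150] 1935 [87,56,176,233]))) (.node (.leaf (.up 5 2129 [92] 0 [94,43,74])) (.leaf (.up 4 1086 [113] 0 [88,110,90,136]))))) (.node (.node (.node (.leaf (.up 3 2604 [157] 1137 [88,94,43,156])) (.leaf (.up 2 2780 [113] 0 [87,176,61]))) (.node (.leaf (.up 4 901 [87] 0 [57,93,133])) (.leaf (.up 6 1010 [113] 0 [87,94,44,158])))) (.node (.node (.leaf (.up 3 2363 [177] 1570 [88,93,90,174])) (.leaf (.up 3 1503 [113] 0 [93,103,222]))) (.leaf (.up 4 1830 [177] 1570 [87,110,91,183]))))))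 (.node (.node (.node (.node (.node (.leaf (.up 4 393 [177] 1570 [57,93,91,224])) (.leaf (.up 5 2533 [157] 1137 [88,103,222]))) (.node (.leaf (.up 4 2195 [80] 0 [88,55,104,172])) (.leaf (.up 5 3025 [87] 0 [88,93,89,106])))) (.node (.node (.leaf (.up 4 1284 [177] 1570 [88,110,44,203])) (.leaf (.up 3 645 [87] 0 [57,93,89,0]))) (.node (.leaf (.up 4 800 [177] 1570 [87,44,179])) (.leaf (.up 5 1329 [87] 0 [57,55,44,33]))))) (.node (.node (.node (.leaf (.up 6 3043 [80] 0 [110,176,30])) (.leaf (.up 2 1654 [157] 1137 [57,55,103,209]))) (.node (.leaf (.up 4 1775 [157] 1137 [88,110,162])) (.leaf (.up 5 1040 [150] 1935 [88,43,171])))) (.node (.node (.leaf (.up 3 2256 [177] 1570 [57,94,116,167])) (.leaf (.up 4 2845 [92] 0 [56,116,240]))) (.leaf (.up 6 3754 [80] 0 [57,93,104,182]))))) (.node (.node (.node (.node (.leaf (.up 5 2894 [80] 0 [87,42,159])) (.leaf (.up 5 2668 [150] 1935 [87,116,16]))) (.node (.leaf (.up 3 738 [157] 1137 [87,110,104,127]))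 (.leaf (.up 4 3638 [150] 1935 [110,116,151])))) (.node (.node (.leaf (.up 6 2957 [150] 1935 [87,55,89,239])) (.leaf (.up 5 2754 [157] 1137 [110,140,46]))) (.leaf (.up 6 1965 [87] 0 [57,56,103,201])))) (.node (.node (.node (.leaf (.up 2 961 [113] 0 [88,56,140,9])) (.leaf (.up 5 1285 [177] 1570 [57,93,90,159]))) (.node (.leaf (.up 6 3754 [177] 1570 [57,94,105])) (.leaf (.up 3 709 [150] 1935 [87,110,44,247])))) (.node (.node (.leaf (.up 3 2659 [177] 1570 [55,103,37])) (.leaf (.up 4 2060 [87] 0 [110,43,33]))) (.leaf (.up 6 548 [87] 0 [93,103,198])))))))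

noncomputable def trio3_1000 : Tr TStep := .node trio3_10000 trio3_10001

noncomputable def trio3_10010 : Tr TStep :=
  .node (.node (.node (.node (.node (.node (.node (.leaf (.up 4 1138 [177] 1570 [87,94,43,156])) (.leaf (.up 4 448 [177] 1570 [87,93,176,13]))) (.node (.leaf (.up 6 3433 [150] 1935 [88,94,240])) (.leaf (.up 5 780 [150] 1935 [93,155,238])))) (.node (.node (.leaf (.up 2 1707 [157] 1137 [87,56,90,217])) (.leaf (.up 2 2780 [87] 0 [55,140,225]))) (.node (.leaf (.up 4 1962 [87] 0 [87,176,21])) (.leaf (.up 5 2858 [113] 0 [88,94,176,109]))))) (.node (.node (.node (.leaf (.up 5 2211 [157] 1137 [55,91,107])) (.leaf (.up 3 3377 [177] 1570 [87,110,91,246]))) (.node (.leaf (.up 5 2955 [150] 1935 [88,56,90,211])) (.leaf (.up 5 2245 [87] 0 [57,94,155,186])))) (.node (.node (.leaf (.up 5 2285 [92] 0 [88,55,140,166])) (.leaf (.up 4 1200 [150] 1935 [88,93,155,5]))) (.leaf (.up 5 535 [177] 1570 [93,42,132]))))) (.node (.node (.node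 (.node (.leaf (.up 3 884 [177] 1570 [57,90,178])) (.leaf (.up 5 3333 [157] 1137 [88,42,7]))) (.node (.leaf (.up 5 758 [80] 0 [103,224])) (.leaf (.up 5 2144 [92] 0 [87,94,43,198])))) (.node (.node (.leaf (.up 5 151 [92] 0 [87,94,155,160])) (.leaf (.up 6 1861 [157] 1137 [88,110,155,92]))) (.node (.leaf (.up 6 1204 [157] 1137 [87,44,213])) (.leaf (.up 4 3709 [92] 0 [87,43,218]))))) (.node (.node (.node (.leaf (.up 3 3291 [87] 0 [88,94,43,186])) (.leaf (.up 4 782 [177] 1570 [87,55,103,239]))) (.node (.leaf (.up 4 2507 [157] 1137 [110,140,133])) (.leaf (.up 2 2780 [80] 0 [88,93,123,76])))) (.node (.node (.leaf (.up 4 1698 [87] 0 [87,55,43,111])) (.leaf (.up 4 500 [87] 0 [57,43,4]))) (.leaf (.up 4 1318 [113] 0 [55,90,1])))))) (.node (.node (.node (.node (.node (.leaf (.up 4 850 [80] 0 [57,94,44,122])) (.leaf (.up 4 3605 [177] 1570 [87,94,103,226]))) (.node (.leaf (.up 2 3663 [113] 0 [87,56,116,248])) (.leaf (.up 5 2858 [150] 1935 [57,104,4]))))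 (.node (.node (.leaf (.up 3 940 [113] 0 [57,55,176,117])) (.leaf (.up 6 2724 [157] 1137 [55,176,12]))) (.node (.leaf (.up 5 2681 [177] 1570 [57,56,104,73])) (.leaf (.up 5 887 [80] 0 [57,55,155,121]))))) (.node (.node (.node (.leaf (.up 4 524 [113] 0 [87,94,42,222])) (.leaf (.up 4 1456 [177] 1570 [55,91,11]))) (.node (.leaf (.up 2 3559 [157] 1137 [123,220])) (.leaf (.up 3 974 [150] 1935 [88,94,89,223])))) (.node (.node (.leaf (.up 5 1836 [80] 0 [88,93,91,247])) (.leaf (.up 6 109 [80] 0 [87,93,89,197]))) (.leaf (.up 4 2507 [87] 0 [87,110,116,213]))))) (.node (.node (.node (.node (.leaf (.up 5 3472 [150] 1935 [88,93,245])) (.leaf (.up 2 2236 [87] 0 [87,110,123,229]))) (.node (.leaf (.up 2 2626 [87] 0 [88,93,140,113])) (.leaf (.up 6 2981 [150] 1935 [57,56,116,105])))) (.node (.node (.leaf (.up 5 2712 [87] 0 [87,94,176,207])) (.leaf (.up 5 2081 [113] 0 [57,110,89,226]))) (.node (.leaf (.up 4 2326 [87] 0 [94,116,36])) (.leaf (.up 4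 945 [92] 0 [93,42,215]))))) (.node (.node (.node (.leaf (.up 3 3743 [80] 0 [56,116,137])) (.leaf (.up 5 2285 [80] 0 [57,110,103,129]))) (.node (.leaf (.up 5 2768 [157] 1137 [57,116,217])) (.leaf (.up 5 758 [157] 1137 [87,110,103,21])))) (.node (.node (.leaf (.up 4 605 [177] 1570 [110,90,165])) (.leaf (.up 3 2392 [157] 1137 [57,94,43,221]))) (.leaf (.up 5 1823 [177] 1570 [87,94,116,227]))))))) (.node (.node (.node (.node (.node (.node (.leaf (.up 6 1010 [92] 0 [43,222])) (.leaf (.up 5 361 [113] 0 [56,155,188]))) (.node (.leaf (.up 5 2832 [87] 0 [110,155,119])) (.leaf (.up 3 2446 [157] 1137 [94,177])))) (.node (.node (.leaf (.up 5 2926 [157] 1137 [110,116,153])) (.leaf (.up 5 53 [157] 1137 [87,94,140,159]))) (.node (.leaf (.up 6 1681 [80] 0 [55,155,76])) (.leaf (.up 5 1027 [92] 0 [57,93,155,226]))))) (.node (.node (.node (.leaf (.up 5 1213 [157] 1137 [57,110,44,167])) (.leaf (.up 4 457 [157] 1137 [88,55,43,171]))) (.node (.leaf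 (.up 4 1821 [157] 1137 [87,110,89,20])) (.leaf (.up 6 1550 [92] 0 [87,55,43,71])))) (.node (.node (.leaf (.up 4 488 [177] 1570 [87,94,90,192])) (.leaf (.up 5 1005 [92] 0 [94,103,161]))) (.leaf (.up 4 850 [150] 1935 [56,116,207]))))) (.node (.node (.node (.node (.leaf (.up 3 1018 [80] 0 [1])) (.leaf (.up 3 2669 [157] 1137 [87,110,123,2]))) (.node (.leaf (.up 4 2777 [150] 1935 [88,56,155,46])) (.leaf (.up 5 2437 [87] 0 [116,149])))) (.node (.node (.leaf (.up 3 2662 [80] 0 [57,55,116,5])) (.leaf (.up 5 2323 [157] 1137 [93,103,5]))) (.node (.leaf (.up 5 3779 [177] 1570 [88,56,186])) (.leaf (.up 4 2230 [87] 0 [87,110,104,59]))))) (.node (.node (.node (.leaf (.up 4 358 [177] 1570 [88,56,140,2])) (.leaf (.up 6 1072 [87] 0 [56,155,4]))) (.node (.leaf (.up 2 995 [150] 1935 [88,110,104,192])) (.leaf (.up 3 3648 [87] 0 [57,55,89,99])))) (.node (.node (.leaf (.up 5 3327 [150] 1935 [88,55,42,178])) (.leaf (.up 3 666 [92] 0 [89,229]))) (.leaf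 (.up 6 2613 [80] 0 [87,123,201])))))) (.node (.node (.node (.node (.node (.leaf (.up 5 2381 [92] 0 [110,91,199])) (.leaf (.up 4 19 [150] 1935 [88,94,42,141]))) (.node (.leaf (.up 4 1901 [150] 1935 [88,94,91,154])) (.leaf (.up 4 1570 [113] 0 [88,208])))) (.node (.node (.leaf (.up 5 6 [87] 0 [57,56,91,112])) (.leaf (.up 4 3764 [177] 1570 [57,94,91,167]))) (.node (.leaf (.up 4 1966 [150] 1935 [57,110,103,181])) (.leaf (.up 4 3709 [177] 1570 [57,18]))))) (.node (.node (.node (.leaf (.up 4 111 [150] 1935 [88,93,197])) (.leaf (.up 6 2337 [113] 0 [93,90,46]))) (.node (.leaf (.up 6 3691 [177] 1570 [88,56,91,0])) (.leaf (.up 5 1213 [87] 0 [57,56,44,197])))) (.node (.node (.leaf (.up 5 3227 [113] 0 [57,56,91,194])) (.leaf (.up 2 3663 [157] 1137 [110,140,102]))) (.leaf (.up 5 3313 [157] 1137 [88,44,5]))))) (.node (.node (.node (.node (.leaf (.up 5 3768 [87] 0 [57,94,43,193])) (.leaf (.up 2 3226 [92] 0 [88,93,44,61]))) (.node (.leaf (.up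 6 1693 [150] 1935 [88,110,104,73])) (.leaf (.up 4 1959 [87] 0 [87,110,43,216])))) (.node (.node (.leaf (.up 5 1361 [87] 0 [87,110,90,186])) (.leaf (.up 5 3177 [177] 1570 [55,89,215]))) (.leaf (.up 6 2598 [92] 0 [93,155,248])))) (.node (.node (.node (.leaf (.up 5 2894 [87] 0 [57,110,91,133])) (.leaf (.up 5 1148 [177] 1570 [55,91,169]))) (.node (.leaf (.up 4 3585 [113] 0 [57,94,44,6])) (.leaf (.up 1 5 [157] 1137 [88,94,90,153])))) (.node (.node (.leaf (.up 4 1111 [113] 0 [88,56,42,10])) (.leaf (.up 3 1350 [157] 1137 [57,43,248]))) (.leaf (.up 5 914 [177] 1570 [88,90,165])))))))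

noncomputable def trio3_10011 : Tr TStep :=
  .node (.node (.node (.node (.node (.node (.node (.leaf (.up 5 151 [113] 0 [87,110,103,245])) (.leaf (.up 5 284 [150] 1935 [87,94,234]))) (.node (.leaf (.up 6 275 [113] 0 [57,172])) (.leaf (.up 6 2079 [177] 1570 [57,56,43,148])))) (.node (.node (.leaf (.up 5 944 [157] 1137 [94,116,180])) (.leaf (.up 5 1985 [157] 1137 [87,55,89,76]))) (.node (.leaf (.up 5 3170 [177] 1570 [87,55,103,99])) (.leaf (.up 5 185 [113] 0 [88,93,89,195]))))) (.node (.node (.node (.leaf (.up 4 1902 [87] 0 [93,91,119])) (.leaf (.up 2 2602 [113] 0 [57,55,123,13]))) (.node (.leaf (.up 6 306 [87] 0 [88,56,155,204])) (.leaf (.up 3 988 [157] 1137 [110,103,163])))) (.node (.node (.leaf (.up 4 661 [87] 0 [57,144])) (.leaf (.up 4 1772 [80] 0 [57,55,43,27]))) (.leaf (.up 2 1774 [150] 1935 [57,110,116,241]))))) (.node (.node (.node (.node (.leaf (.up 5 1457 [87] 0 [93,104,171])) (.leaf (.up 2 2236 [113] 0 [94,43,233])))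 (.node (.leaf (.up 5 1171 [177] 1570 [93,43,217])) (.leaf (.up 3 285 [87] 0 [56,123,197])))) (.node (.node (.leaf (.up 4 1582 [113] 0 [87,93,20])) (.leaf (.up 4 892 [157] 1137 [88,55,89,197]))) (.node (.leaf (.up 3 923 [157] 1137 [88,94,176,222])) (.leaf (.up 5 3783 [157] 1137 [88,116,196]))))) (.node (.node (.node (.leaf (.up 3 965 [92] 0 [87,93,104,189])) (.leaf (.up 4 1009 [92] 0 [88,93,91,195]))) (.node (.leaf (.up 4 981 [113] 0 [87,91,235])) (.leaf (.up 6 2739 [177] 1570 [57,110,155,170])))) (.node (.node (.leaf (.up 5 456 [150] 1935 [57,110,42,12])) (.leaf (.up 3 1225 [177] 1570 [88,56,176,25]))) (.leaf (.up 5 239 [150] 1935 [93,232])))))) (.node (.node (.node (.node (.node (.leaf (.up 4 2520 [113] 0 [87,110,103,4])) (.leaf (.up 3 3339 [87] 0 [87,93,237]))) (.node (.leaf (.up 4 387 [177] 1570 [88,93,91,8])) (.leaf (.up 4 871 [92] 0 [57,56,140,188])))) (.node (.node (.leaf (.up 4 3325 [150] 1935 [87,110,103,77])) (.leaf (.up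 4 901 [150] 1935 [88,55,104,200]))) (.node (.leaf (.up 5 3768 [113] 0 [88,55,155,235])) (.leaf (.up 5 444 [157] 1137 [176,2]))))) (.node (.node (.node (.leaf (.up 6 1035 [80] 0 [57,94,90,214])) (.leaf (.up 4 1456 [87] 0 [87,56,104,223]))) (.node (.leaf (.up 5 1470 [113] 0 [94,155,175])) (.leaf (.up 5 1589 [80] 0 [57,55,90,130])))) (.node (.node (.leaf (.up 5 1624 [157] 1137 [87,93,123,209])) (.leaf (.up 6 1337 [87] 0 [88,55,90,229]))) (.leaf (.up 3 2606 [87] 0 [155,218]))))) (.node (.node (.node (.node (.leaf (.up 5 2939 [157] 1137 [88,55,104,166])) (.leaf (.up 5 3253 [177] 1570 [93,123,157]))) (.node (.leaf (.up 5 948 [157] 1137 [110,155,234])) (.leaf (.up 5 2495 [150] 1935 [87,42,157])))) (.node (.node (.leaf (.up 3 148 [177] 1570 [88,103,160])) (.leaf (.up 3 1264 [80] 0 [55,44,122]))) (.leaf (.up 4 1821 [113] 0 [88,93,176,29])))) (.node (.node (.node (.leaf (.up 5 1113 [150] 1935 [88,56,155,120])) (.leaf (.up 3 3635 [80] 0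 [55,42,149]))) (.node (.leaf (.up 5 3214 [150] 1935 [57,56,44,99])) (.leaf (.up 1 0 [113] 0 [88,93,91,132])))) (.node (.node (.leaf (.up 4 1582 [157] 1137 [88,94,43,108])) (.leaf (.up 5 3137 [80] 0 [88,93,44,228]))) (.leaf (.up 4 871 [177] 1570 [88,242]))))))) (.node (.node (.node (.node (.node (.node (.leaf (.up 3 213 [157] 1137 [87,56,123,147])) (.leaf (.up 3 2569 [157] 1137 [57,104,225]))) (.node (.leaf (.up 5 3250 [80] 0 [94,43,120])) (.leaf (.up 4 1159 [177] 1570 [93,123,183])))) (.node (.node (.leaf (.up 2 2757 [87] 0 [88,56,103,244])) (.leaf (.up 3 3201 [177] 1570 [57,93,43,183]))) (.node (.leaf (.up 5 3374 [87] 0 [116,234])) (.leaf (.up 4 3585 [80] 0 [57,55,44,241]))))) (.node (.node (.node (.leaf (.up 3 738 [177] 1570 [87,91,128])) (.leaf (.up 4 1318 [92] 0 [88,55,92]))) (.node (.leaf (.up 5 2413 [113] 0 [43,165])) (.leaf (.up 6 2598 [177] 1570 [88,93,140,181])))) (.node (.node (.leaf (.up 4 533 [87] 0 [110,44,165]))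 (.leaf (.up 1 12 [113] 0 [87,94,116,185]))) (.leaf (.up 5 2999 [80] 0 [57,110,123,35]))))) (.node (.node (.node (.node (.leaf (.up 4 2015 [177] 1570 [57,93,89,74])) (.leaf (.up 4 3705 [150] 1935 [43,240]))) (.node (.leaf (.up 5 2871 [150] 1935 [57,56,89,122])) (.leaf (.up 5 1819 [87] 0 [110,44,168])))) (.node (.node (.leaf (.up 3 1307 [92] 0 [87,94,176,147])) (.leaf (.up 4 3567 [80] 0 [57,93,155,115]))) (.node (.leaf (.up 3 3354 [177] 1570 [88,93,168])) (.leaf (.up 5 2227 [177] 1570 [57,42,159]))))) (.node (.node (.node (.leaf (.up 4 533 [150] 1935 [87,89,6])) (.leaf (.up 5 2118 [157] 1137 [88,55,43,189]))) (.node (.leaf (.up 4 3517 [157] 1137 [88,56,116,165])) (.leaf (.up 4 1666 [87] 0 [88,94,43,194])))) (.node (.node (.leaf (.up 3 196 [87] 0 [110,90,46])) (.leaf (.up 3 1815 [157] 1137 [57,93,194]))) (.leaf (.up 4 928 [113] 0 [88,110,44,157])))))) (.node (.node (.node (.node (.node (.leaf (.up 5 1652 [87] 0 [87,103,37])) (.leaf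 (.up 5 1744 [177] 1570 [57,56,115]))) (.node (.leaf (.up 3 20 [113] 0 [110,176,169])) (.leaf (.up 3 2392 [87] 0 [57,110,151])))) (.node (.node (.leaf (.up 5 1333 [150] 1935 [88,176,15])) (.leaf (.up 4 3325 [113] 0 [87,56,211]))) (.node (.leaf (.up 3 843 [87] 0 [57,94,123,16])) (.leaf (.up 3 1316 [177] 1570 [57,55,44,4]))))) (.node (.node (.node (.leaf (.up 5 821 [157] 1137 [87,55,176,75])) (.leaf (.up 5 336 [157] 1137 [87,93,43,240]))) (.node (.leaf (.up 2 1555 [157] 1137 [57,55,42,216])) (.leaf (.up 3 10 [177] 1570 [56,104,100])))) (.node (.node (.leaf (.up 5 2140 [157] 1137 [88,110,176,144])) (.leaf (.up 3 2455 [150] 1935 [88,94,176,236]))) (.leaf (.up 4 334 [177] 1570 [87,123,131]))))) (.node (.node (.node (.node (.leaf (.up 5 1477 [80] 0 [87,93,155,165])) (.leaf (.up 6 1109 [87] 0 [57,110,104,117]))) (.node (.leaf (.up 5 2441 [113] 0 [88,93,43,101])) (.leaf (.up 5 2792 [150] 1935 [57,56,104,22])))) (.node (.node (.leaf (.up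 2 74 [113] 0 [93,91,112])) (.leaf (.up 6 275 [87] 0 [87,94,103,141]))) (.leaf (.up 5 131 [92] 0 [88,56,140,161])))) (.node (.node (.node (.leaf (.up 4 1809 [87] 0 [88,93,140,238])) (.leaf (.up 5 2341 [87] 0 [88,225]))) (.node (.leaf (.up 4 2470 [113] 0 [88,93,43,141])) (.leaf (.up 6 2598 [80] 0 [110,155,30])))) (.node (.node (.leaf (.up 3 2935 [92] 0 [57,93,91,121])) (.leaf (.up 4 2520 [177] 1570 [57,110,123,128]))) (.leaf (.up 5 3236 [113] 0 [88,110,176,184])))))))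

noncomputable def trio3_1001 : Tr TStep := .node trio3_10010 trio3_10011

noncomputable def trio3_100 : Tr TStep := .node trio3_1000 trio3_1001

noncomputable def trio3_10100 : Tr TStep :=
  .node (.node (.node (.node (.node (.node (.node (.leaf (.root 3)) (.leaf (.up 5 1470 [87] 0 [57,93,176,122]))) (.node (.leaf (.up 4 1364 [92] 0 [57,110,116,233])) (.leaf (.up 4 1582 [177] 1570 [87,56,90,208])))) (.node (.node (.leaf (.up 5 2891 [80] 0 [87,55,116,178])) (.leaf (.up 5 924 [177] 1570 [42,237]))) (.node (.leaf (.up 4 192 [113] 0 [88,93,43,163])) (.leaf (.up 3 940 [87] 0 [57,94,183]))))) (.node (.node (.node (.leaf (.up 3 1382 [177] 1570 [57,93,90,143])) (.leaf (.up 4 1391 [113] 0 [87,94,42,149]))) (.node (.leaf (.up 4 412 [150] 1935 [89,196])) (.leaf (.up 4 80 [150] 1935 [57,93,123,231])))) (.node (.node (.leaf (.up 4 462 [177] 1570 [56,176,183])) (.leaf (.up 4 64 [177] 1570 [88,110,176]))) (.leaf (.up 4 1845 [92] 0 [55,231])))))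 (.node (.node (.node (.node (.leaf (.up 2 2780 [177] 1570 [55,42,159])) (.leaf (.up 4 2896 [87] 0 [88,56,89,112]))) (.node (.leaf (.up 5 2444 [177] 1570 [56,91,209])) (.leaf (.up 3 965 [177] 1570 [110,43,245])))) (.node (.node (.leaf (.up 2 2998 [113] 0 [57,94,170])) (.leaf (.up 6 1613 [177] 1570 [57,56,90,221]))) (.node (.leaf (.up 5 2668 [80] 0 [88,56,90,177])) (.leaf (.up 3 2764 [87] 0 [87,55,44,213]))))) (.node (.node (.node (.leaf (.up 5 818 [87] 0 [88,93,103,222])) (.leaf (.up 4 3537 [80] 0 [87,110,44,242]))) (.node (.leaf (.up 4 1757 [87] 0 [56,43,158])) (.leaf (.up 5 374 [87] 0 [56,103,153])))) (.node (.node (.leaf (.up 3 579 [177] 1570 [88,93,42,187])) (.leaf (.up 5 2226 [177] 1570 [57,55,176,189]))) (.leaf (.up 5 1833 [177] 1570 [57,110,91,100])))))) (.node (.node (.node (.node (.node (.leaf (.up 5 39 [87] 0 [57,91,218])) (.leaf (.up 5 2233 [80] 0 [88,93,42]))) (.node (.leaf (.up 4 1451 [113] 0 [87,55,116,232])) (.leaf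 (.up 6 3550 [92] 0 [55,90,195])))) (.node (.node (.leaf (.up 3 1815 [80] 0 [57,90,144])) (.leaf (.up 4 343 [150] 1935 [87,55,90,234]))) (.node (.leaf (.up 3 974 [92] 0 [55,89,107])) (.leaf (.up 5 347 [150] 1935 [88,55,176,29]))))) (.node (.node (.node (.leaf (.up 4 500 [157] 1137 [87,110,89,181])) (.leaf (.up 4 3197 [87] 0 [88,56,116,211]))) (.node (.leaf (.up 5 754 [92] 0 [88,93,140,237])) (.leaf (.up 4 3734 [150] 1935 [88,110,91,180])))) (.node (.node (.leaf (.up 5 2132 [80] 0 [57,55,103,61])) (.leaf (.up 4 928 [150] 1935 [93,176,197]))) (.leaf (.up 5 2906 [87] 0 [87,55,172]))))) (.node (.node (.node (.node (.leaf (.up 5 2366 [150] 1935 [94,176,16])) (.leaf (.up 4 1172 [92] 0 [56,42,11]))) (.node (.leaf (.up 5 1029 [177] 1570 [88,55,116,180])) (.leaf (.up 5 948 [92] 0 [57,56,140,220])))) (.node (.node (.leaf (.up 2 452 [92] 0 [87,110,140,60])) (.leaf (.up 1 2 [92] 0 [57,110,44,3]))) (.node (.leaf (.up 3 2764 [92] 0 [44,35]))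 (.leaf (.up 5 1832 [113] 0 [88,110,42,119]))))) (.node (.node (.node (.leaf (.up 4 503 [177] 1570 [55,103,214])) (.leaf (.up 4 560 [113] 0 [87,43,218]))) (.node (.leaf (.up 4 1451 [150] 1935 [110,155,193])) (.leaf (.up 2 2757 [177] 1570 [57,55,155,138])))) (.node (.node (.leaf (.up 2 2873 [177] 1570 [43,6])) (.leaf (.up 2 995 [113] 0 [57,93,44,128]))) (.leaf (.up 3 2392 [113] 0 [87,140,241]))))))) (.node (.node (.node (.node (.node (.node (.leaf (.up 5 2836 [177] 1570 [116,217])) (.leaf (.up 5 1704 [157] 1137 [88,116,130]))) (.node (.leaf (.up 4 1572 [177] 1570 [87,93,176,113])) (.leaf (.up 2 2430 [113] 0 [57,103,190])))) (.node (.node (.leaf (.up 4 1909 [150] 1935 [88,94,140,214])) (.leaf (.up 4 2015 [150] 1935 [88,55,140,102]))) (.node (.leaf (.up 5 1040 [113] 0 [88,93,116,133])) (.leaf (.up 4 2769 [177] 1570 [55,89,200]))))) (.node (.node (.node (.leaf (.up 3 3291 [150] 1935 [88,93,90,27])) (.leaf (.up 4 1598 [177] 1570 [87,110,155,146])))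 (.node (.leaf (.up 6 1723 [92] 0 [87,93,140,99])) (.leaf (.up 5 1495 [80] 0 [88,56,123,148])))) (.node (.node (.leaf (.up 3 1432 [157] 1137 [88,94,44,208])) (.leaf (.up 3 2273 [80] 0 [88,93,89,198]))) (.leaf (.up 2 2602 [157] 1137 [57,55,44,18]))))) (.node (.node (.node (.node (.leaf (.up 6 557 [150] 1935 [56,140,5])) (.leaf (.up 4 2206 [113] 0 [88,110,89,202]))) (.node (.leaf (.up 1 7 [157] 1137 [94,155,150])) (.leaf (.up 5 2832 [177] 1570 [110,116,179])))) (.node (.node (.leaf (.up 4 2133 [177] 1570 [88,55,123,117])) (.leaf (.up 2 2873 [157] 1137 [88,176,151]))) (.node (.leaf (.up 1 5 [80] 0 [87,94,91,122])) (.leaf (.up 5 530 [87] 0 [57,110,91,146]))))) (.node (.node (.node (.leaf (.up 3 666 [87] 0 [88,55,42,226])) (.leaf (.up 5 926 [80] 0 [87,55,140,219]))) (.node (.leaf (.up 6 3533 [87] 0 [88,155,106])) (.leaf (.up 5 3748 [157] 1137 [88,155,111])))) (.node (.node (.leaf (.up 4 1330 [177] 1570 [87,56,103,31])) (.leaf (.up 5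 546 [92] 0 [88,55,42,73]))) (.leaf (.up 3 1264 [177] 1570 [88,110,140,11])))))) (.node (.node (.node (.node (.node (.leaf (.up 5 2907 [87] 0 [87,110,91,25])) (.leaf (.up 5 3761 [87] 0 [87,110,140,111]))) (.node (.leaf (.up 5 3442 [157] 1137 [57,93,90,30])) (.leaf (.up 6 1671 [150] 1935 [110,44,95])))) (.node (.node (.leaf (.up 4 3499 [113] 0 [87,55,176,153])) (.leaf (.up 5 790 [150] 1935 [57,93,91,145]))) (.node (.leaf (.up 6 1697 [177] 1570 [88,55,90,192])) (.leaf (.up 4 2610 [177] 1570 [88,110,116,114]))))) (.node (.node (.node (.leaf (.up 4 1651 [80] 0 [88,44,10])) (.leaf (.up 4 728 [113] 0 [56,15]))) (.node (.leaf (.up 4 3205 [177] 1570 [88,103,181])) (.leaf (.up 4 433 [87] 0 [57,110,91,73])))) (.node (.node (.leaf (.up 6 1843 [177] 1570 [94,91,22])) (.leaf (.up 5 1941 [87] 0 [57,94,42,217]))) (.leaf (.up 5 1527 [87] 0 [57,110,43,227]))))) (.node (.node (.node (.node (.leaf (.up 3 237 [80] 0 [57,123,12])) (.leaf (.up 4 3197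 [92] 0 [87,93,109]))) (.node (.leaf (.up 4 2925 [113] 0 [55,89,18])) (.leaf (.up 4 2937 [87] 0 [57,55,89,179])))) (.node (.node (.leaf (.up 4 1435 [113] 0 [87,56,103])) (.leaf (.up 2 1133 [80] 0 [110,123,2]))) (.leaf (.up 5 3572 [150] 1935 [55,89,227])))) (.node (.node (.node (.leaf (.up 4 829 [157] 1137 [57,94,104,161])) (.leaf (.up 4 503 [87] 0 [57,93,44,171]))) (.node (.leaf (.up 4 387 [113] 0 [88,43,216])) (.leaf (.up 5 482 [92] 0 [56,90,128])))) (.node (.node (.leaf (.up 5 1347 [80] 0 [88,43,113])) (.leaf (.up 5 625 [150] 1935 [88,110,44,20]))) (.leaf (.up 4 1423 [177] 1570 [93,140,133])))))))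

noncomputable def trio3_10101 : Tr TStep :=
  .node (.node (.node (.node (.node (.node (.node (.leaf (.up 4 1391 [92] 0 [88,110,90,134])) (.leaf (.up 6 3707 [177] 1570 [87,103,194]))) (.node (.leaf (.up 5 741 [157] 1137 [57,55,44,171])) (.leaf (.up 5 1027 [87] 0 [88,55,42,156])))) (.node (.node (.leaf (.up 3 2291 [92] 0 [57,155,102])) (.leaf (.up 5 482 [113] 0 [88,56,140,157]))) (.node (.leaf (.up 5 2484 [157] 1137 [57,94,44,220])) (.leaf (.up 3 38 [150] 1935 [94,44,100]))))) (.node (.node (.node (.leaf (.up 4 3024 [177] 1570 [57,93,44,156])) (.leaf (.up 4 166 [150] 1935 [88,155,193]))) (.node (.leaf (.up 4 1970 [87] 0 [94,65])) (.leaf (.up 4 2060 [80] 0 [88,94,155,27])))) (.node (.node (.leaf (.up 4 1430 [150] 1935 [57,123,207])) (.leaf (.up 6 3422 [92] 0 [55,90,174]))) (.leaf (.up 3 3679 [157] 1137 [57,55,104,151]))))) (.node (.node (.node (.node (.leaf (.up 5 3211 [157] 1137 [110,104,108])) (.leaf (.up 4 1435 [87] 0 [57,110,140,115])))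 (.node (.leaf (.up 5 1061 [92] 0 [87,110,155,27])) (.leaf (.up 5 2098 [87] 0 [88,94,116,211])))) (.node (.node (.leaf (.up 3 2201 [177] 1570 [87,110,116,144])) (.leaf (.up 6 164 [157] 1137 [93,176,216]))) (.node (.leaf (.up 5 2390 [92] 0 [87,110,43,173])) (.leaf (.up 1 5 [113] 0 [87,155,193]))))) (.node (.node (.node (.leaf (.up 5 429 [177] 1570 [88,93,140,141])) (.leaf (.up 6 2546 [87] 0 [93,89,223]))) (.node (.leaf (.up 5 2929 [87] 0 [88,56,176,75])) (.leaf (.up 5 2713 [80] 0 [94,104,217])))) (.node (.node (.leaf (.up 6 136 [177] 1570 [88,110,123,195])) (.leaf (.up 5 244 [113] 0 [88,93,90,69]))) (.leaf (.up 4 1953 [87] 0 [57,56,123,102])))))) (.node (.node (.node (.node (.node (.leaf (.up 3 738 [87] 0 [94,43,201])) (.leaf (.up 3 3 [80] 0 [87,56,123,105]))) (.node (.leaf (.up 5 1319 [92] 0 [87,123,145])) (.leaf (.up 4 659 [177] 1570 [57,110,89,77])))) (.node (.node (.leaf (.up 5 1333 [92] 0 [57,110,103,163])) (.leaf (.up 4 2225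 [177] 1570 [110,91,192]))) (.node (.leaf (.up 4 3162 [92] 0 [56,176,112])) (.leaf (.up 4 2206 [87] 0 [87,56,140,46]))))) (.node (.node (.node (.leaf (.up 4 1473 [87] 0 [87,93,155,177])) (.leaf (.up 4 1358 [92] 0 [87,93,123,119]))) (.node (.leaf (.up 4 3497 [177] 1570 [55,116,186])) (.leaf (.up 3 346 [87] 0 [94,91,127])))) (.node (.node (.leaf (.up 4 2969 [113] 0 [87,94,103,61])) (.leaf (.up 6 1013 [157] 1137 [57,94,44,145]))) (.leaf (.up 4 508 [177] 1570 [93,155,0]))))) (.node (.node (.node (.node (.leaf (.up 2 452 [87] 0 [57,140,170])) (.leaf (.up 4 1074 [177] 1570 [94,90,111]))) (.node (.leaf (.up 5 3122 [157] 1137 [110,5])) (.leaf (.up 5 2495 [80] 0 [94,155,120])))) (.node (.node (.leaf (.up 5 104 [177] 1570 [87,94,90,129])) (.leaf (.up 4 2060 [113] 0 [87,116,163]))) (.leaf (.up 4 1698 [92] 0 [87,110,42,192])))) (.node (.node (.node (.leaf (.up 5 2399 [92] 0 [94,123,124])) (.leaf (.up 5 1196 [92] 0 [87,94,89,213]))) (.node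 (.leaf (.up 5 171 [92] 0 [88,110,22])) (.leaf (.up 5 1929 [177] 1570 [88,110,140,65])))) (.node (.node (.leaf (.up 3 2273 [87] 0 [57,55,42,245])) (.leaf (.up 4 928 [177] 1570 [55,89,125]))) (.leaf (.up 4 1265 [177] 1570 [57,94,176,111]))))))) (.node (.node (.node (.node (.node (.node (.leaf (.up 4 302 [80] 0 [110,43,171])) (.leaf (.up 3 991 [113] 0 [87,94,90,152]))) (.node (.leaf (.up 6 3308 [80] 0 [87,56,140,98])) (.leaf (.up 4 2061 [80] 0 [123,131])))) (.node (.node (.leaf (.up 5 1276 [113] 0 [94,140,165])) (.leaf (.up 5 893 [87] 0 [57,56,176,192]))) (.node (.leaf (.up 4 92 [150] 1935 [88,94,89,12])) (.leaf (.up 4 2047 [113] 0 [93,103,196]))))) (.node (.node (.node (.leaf (.up 3 580 [177] 1570 [87,103,215])) (.leaf (.up 5 744 [150] 1935 [88,55,104,167]))) (.node (.leaf (.up 4 323 [177] 1570 [88,110,183])) (.leaf (.up 5 1499 [87] 0 [87,55,44,109])))) (.node (.node (.leaf (.up 4 464 [177] 1570 [87,110,140,129])) (.leaf (.up 5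 1005 [150] 1935 [57,94,44,113]))) (.leaf (.up 3 2192 [177] 1570 [88,55,42,217]))))) (.node (.node (.node (.node (.leaf (.up 5 1346 [87] 0 [87,55,43,33])) (.leaf (.up 5 1737 [150] 1935 [88,94,155,18]))) (.node (.leaf (.up 5 407 [157] 1137 [88,55,91,74])) (.leaf (.up 4 2993 [177] 1570 [57,94,44,199])))) (.node (.node (.leaf (.up 5 2413 [92] 0 [93,116,227])) (.leaf (.up 5 613 [177] 1570 [93,44,177]))) (.node (.leaf (.up 5 1773 [92] 0 [93,104,4])) (.leaf (.up 6 197 [177] 1570 [57,94,91,218]))))) (.node (.node (.node (.leaf (.up 6 3535 [177] 1570 [87,110,43,179])) (.leaf (.up 5 3068 [177] 1570 [55,113]))) (.node (.leaf (.up 4 524 [150] 1935 [94,90,21])) (.leaf (.up 5 3440 [177] 1570 [57,93,42,142])))) (.node (.node (.leaf (.up 4 2969 [87] 0 [93,90,206])) (.leaf (.up 4 673 [113] 0 [57,55,176,210]))) (.leaf (.up 6 2782 [113] 0 [87,56,104,13])))))) (.node (.node (.node (.node (.node (.leaf (.up 4 245 [113] 0 [57,55,140,223])) (.leaf (.up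 6 2724 [113] 0 [88,110,44,121]))) (.node (.leaf (.up 5 328 [92] 0 [176,214])) (.leaf (.up 5 2524 [157] 1137 [55,90,31])))) (.node (.node (.leaf (.up 3 285 [157] 1137 [87,56,104,166])) (.leaf (.up 3 1192 [87] 0 [88,55,91,198]))) (.node (.leaf (.up 6 3332 [157] 1137 [88,103,181])) (.leaf (.up 5 3012 [177] 1570 [57,94,43,218]))))) (.node (.node (.node (.leaf (.up 4 2896 [150] 1935 [94,43,109])) (.leaf (.up 5 3692 [177] 1570 [110,123,23]))) (.node (.leaf (.up 5 3211 [87] 0 [87,55,176,73])) (.leaf (.up 4 892 [80] 0 [57,93,176,3])))) (.node (.node (.leaf (.up 5 1773 [150] 1935 [57,110,103,199])) (.leaf (.up 3 1316 [80] 0 [44,246]))) (.leaf (.up 3 1076 [87] 0 [93,90,61]))))) (.node (.node (.node (.node (.leaf (.up 3 3231 [150] 1935 [57,110,140,30])) (.leaf (.up 4 3089 [177] 1570 [87,94,116,242]))) (.node (.leaf (.up 5 2771 [157] 1137 [87,94,44,132])) (.leaf (.up 4 3183 [177] 1570 [88,55,116,18])))) (.node (.node (.leaf (.up 6 296 [157]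 1137 [57,89,173])) (.leaf (.up 5 3238 [150] 1935 [57,110,140,157]))) (.leaf (.up 3 709 [113] 0 [88,93,104,183])))) (.node (.node (.node (.leaf (.up 4 1182 [113] 0 [88,176,195])) (.leaf (.up 6 2687 [80] 0 [57,55,44,124]))) (.node (.leaf (.up 5 823 [80] 0 [57,55,42,99])) (.leaf (.up 3 3128 [113] 0 [87,93,89,236])))) (.node (.node (.leaf (.up 5 1495 [113] 0 [110,123,219])) (.leaf (.up 5 736 [87] 0 [56,43,239]))) (.leaf (.up 3 1620 [157] 1137 [57,56,104,164])))))))

noncomputable def trio3_1010 : Tr TStep := .node trio3_10100 trio3_10101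

noncomputable def trio3_10110 : Tr TStep :=
  .node (.node (.node (.node (.node (.node (.node (.leaf (.up 5 596 [80] 0 [57,56,176,74])) (.leaf (.up 3 580 [157] 1137 [87,94,43,154]))) (.node (.leaf (.up 5 3622 [92] 0 [88,110,89,147])) (.leaf (.up 4 3353 [177] 1570 [87,56,42,65])))) (.node (.node (.leaf (.up 1 106 [92] 0 [87,55,181])) (.leaf (.up 5 2437 [177] 1570 [110,43,212]))) (.node (.leaf (.up 5 3177 [157] 1137 [87,56,103,31])) (.leaf (.up 5 3177 [87] 0 [88,93,90,134]))))) (.node (.node (.node (.leaf (.up 5 373 [80] 0 [57,110,90,35])) (.leaf (.up 6 610 [87] 0 [87,55,123,178]))) (.node (.leaf (.up 5 2788 [87] 0 [55,104,171])) (.leaf (.up 3 1050 [177] 1570 [88,56,123,161])))) (.node (.node (.leaf (.up 6 2938 [113] 0 [88,93,176,106])) (.leaf (.up 5 3359 [157] 1137 [94,44,193]))) (.leaf (.up 4 3537 [92] 0 [55,103,243]))))) (.node (.node (.node (.node (.leaf (.up 4 1111 [150] 1935 [93,176,77])) (.leaf (.up 5 1711 [177] 1570 [57,90,97])))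 (.node (.leaf (.up 4 155 [157] 1137 [87,56,155,46])) (.leaf (.up 5 1955 [150] 1935 [93,90,233])))) (.node (.node (.leaf (.up 5 3759 [113] 0 [88,55,103,216])) (.leaf (.up 4 293 [177] 1570 [55,140,5]))) (.node (.leaf (.up 5 3783 [87] 0 [116,209])) (.leaf (.up 5 1213 [80] 0 [87,93,123,229]))))) (.node (.node (.node (.leaf (.up 5 3327 [157] 1137 [87,55,91,240])) (.leaf (.up 5 60 [150] 1935 [87,93,91,163]))) (.node (.leaf (.up 5 2098 [157] 1137 [55,140,73])) (.leaf (.up 4 1118 [113] 0 [55,155,211])))) (.node (.node (.leaf (.up 5 3132 [150] 1935 [88,93,104,228])) (.leaf (.up 5 1043 [177] 1570 [88,42,212]))) (.leaf (.up 3 1922 [87] 0 [93,140,194])))))) (.node (.node (.node (.node (.node (.leaf (.up 6 3514 [87] 0 [44,97])) (.leaf (.up 2 74 [150] 1935 [87,110,104,15]))) (.node (.leaf (.up 4 1761 [157] 1137 [87,56,193])) (.leaf (.up 4 981 [80] 0 [57,56,120])))) (.node (.node (.leaf (.up 6 693 [157] 1137 [57,91,182])) (.leaf (.up 4 3401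 [157] 1137 [87,56,91,127]))) (.node (.leaf (.up 5 1276 [80] 0 [57,55,103,186])) (.leaf (.up 5 776 [150] 1935 [87,93,90,130]))))) (.node (.node (.node (.leaf (.up 3 1544 [80] 0 [93,103,174])) (.leaf (.up 4 2188 [177] 1570 [88,155,117]))) (.node (.leaf (.up 4 313 [80] 0 [88,44,212])) (.leaf (.up 4 3665 [177] 1570 [87,56,43,107])))) (.node (.node (.leaf (.up 5 1877 [92] 0 [55,42,180])) (.leaf (.up 4 2286 [150] 1935 [87,94,176,239]))) (.leaf (.up 6 701 [80] 0 [103,200]))))) (.node (.node (.node (.node (.leaf (.up 4 782 [80] 0 [87,94,116,213])) (.leaf (.up 5 939 [87] 0 [110,43,97]))) (.node (.leaf (.up 4 309 [113] 0 [93,91,199])) (.leaf (.up 1 106 [150] 1935 [94,123,4])))) (.node (.node (.leaf (.up 6 2573 [157] 1137 [57,56,104,10])) (.leaf (.up 3 213 [113] 0 [57,93,42,198]))) (.node (.leaf (.up 6 3763 [177] 1570 [110,123,0])) (.leaf (.up 3 1449 [157] 1137 [57,56,89,37]))))) (.node (.node (.node (.leaf (.up 5 2052 [157] 1137 [87,56,176,207]))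 (.leaf (.up 5 2996 [177] 1570 [87,110,44,146]))) (.node (.leaf (.up 4 3571 [87] 0 [57,93,123,69])) (.leaf (.up 5 3180 [177] 1570 [56,103,200])))) (.node (.node (.leaf (.up 5 2441 [87] 0 [88,140,101])) (.leaf (.up 3 2192 [157] 1137 [57,93,91,208]))) (.leaf (.up 4 3523 [157] 1137 [93,91,198]))))))) (.node (.node (.node (.node (.node (.node (.leaf (.up 5 3336 [177] 1570 [94,91,149])) (.leaf (.up 5 2457 [150] 1935 [57,110,123,158]))) (.node (.leaf (.up 5 3603 [177] 1570 [57,56,176,221])) (.leaf (.up 2 298 [113] 0 [88,94,44,210])))) (.node (.node (.leaf (.up 5 2768 [177] 1570 [57,176,35])) (.leaf (.up 5 3572 [92] 0 [87,56,91,21]))) (.node (.leaf (.up 6 3119 [177] 1570 [88,110,44,74])) (.leaf (.up 6 1414 [87] 0 [87,55,43,231]))))) (.node (.node (.node (.leaf (.up 5 1463 [150] 1935 [88,55,42,31])) (.leaf (.up 5 2057 [113] 0 [87,93,140,230]))) (.node (.leaf (.up 4 2593 [80] 0 [110,116,195])) (.leaf (.up 4 686 [150] 1935 [87,94,140,230]))))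 (.node (.node (.leaf (.up 4 3764 [157] 1137 [57,110,42,109])) (.leaf (.up 3 569 [157] 1137 [87,176,162]))) (.leaf (.up 6 1072 [92] 0 [87,90,210]))))) (.node (.node (.node (.node (.leaf (.up 5 2596 [87] 0 [93,235])) (.leaf (.up 5 604 [87] 0 [103,5]))) (.node (.leaf (.up 3 300 [92] 0 [87,55,116,97])) (.leaf (.up 6 2911 [150] 1935 [88,42,230])))) (.node (.node (.leaf (.up 2 1654 [87] 0 [57,110,91,142])) (.leaf (.up 2 2757 [150] 1935 [55,103,144]))) (.node (.leaf (.up 4 2072 [87] 0 [88,155,166])) (.leaf (.up 5 131 [87] 0 [93,116,203]))))) (.node (.node (.node (.leaf (.up 4 1086 [177] 1570 [87,110,44,124])) (.leaf (.up 5 736 [177] 1570 [123,98]))) (.node (.leaf (.up 5 501 [177] 1570 [57,123,209])) (.leaf (.up 4 229 [177] 1570 [88,55,155,113])))) (.node (.node (.leaf (.up 6 2337 [150] 1935 [88,93,43,204])) (.leaf (.up 2 1133 [92] 0 [87,104,167]))) (.leaf (.up 5 870 [113] 0 [88,55,116,187])))))) (.node (.node (.node (.node (.node (.leaf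 (.up 5 546 [87] 0 [88,55,91,225])) (.leaf (.up 4 2987 [87] 0 [88,93,89,12]))) (.node (.leaf (.up 1 7 [177] 1570 [93,123,129])) (.leaf (.up 3 1316 [150] 1935 [57,103,145])))) (.node (.node (.leaf (.up 6 1908 [80] 0 [87,55,91,129])) (.leaf (.up 2 1189 [177] 1570 [57,104,245]))) (.node (.leaf (.up 5 3112 [80] 0 [94,123])) (.leaf (.up 5 180 [177] 1570 [57,93,140,132]))))) (.node (.node (.node (.leaf (.up 4 99 [177] 1570 [57,93,42,145])) (.leaf (.up 4 3181 [177] 1570 [87,110,140,101]))) (.node (.leaf (.up 5 456 [177] 1570 [87,94,42,236])) (.leaf (.up 4 886 [177] 1570 [88,55,12])))) (.node (.node (.leaf (.up 2 174 [177] 1570 [88,55,123,12])) (.leaf (.up 3 974 [80] 0 [110,43,215]))) (.leaf (.up 3 965 [87] 0 [57,56,43,115]))))) (.node (.node (.node (.node (.leaf (.up 2 614 [177] 1570 [93,89,192])) (.leaf (.up 4 1600 [157] 1137 [57,55,91,96]))) (.node (.leaf (.up 5 944 [150] 1935 [88,110,89,168])) (.leaf (.up 3 213 [92] 0 [103,214]))))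 (.node (.node (.leaf (.up 4 123 [92] 0 [87,56,90,168])) (.leaf (.up 5 894 [87] 0 [57,94,140,15]))) (.leaf (.up 4 137 [177] 1570 [94,42,61])))) (.node (.node (.node (.leaf (.up 5 453 [157] 1137 [57,56,43,181])) (.leaf (.up 4 524 [157] 1137 [57,93,90,122]))) (.node (.leaf (.up 5 1714 [87] 0 [88,55,140,226])) (.leaf (.up 5 1061 [150] 1935 [87,55,89,25])))) (.node (.node (.leaf (.up 4 3651 [177] 1570 [57,56,43,207])) (.leaf (.up 5 2792 [113] 0 [140,15]))) (.leaf (.up 6 538 [113] 0 [87,94,103,29])))))))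

noncomputable def trio3_10111 : Tr TStep :=
  .node (.node (.node (.node (.node (.node (.node (.leaf (.up 2 1707 [177] 1570 [87,55,43,200])) (.leaf (.up 5 3298 [113] 0 [87,93,43,227]))) (.node (.leaf (.up 3 2335 [157] 1137 [57,110,116,127])) (.leaf (.up 5 2524 [177] 1570 [88,55,123,74])))) (.node (.node (.leaf (.up 5 2245 [150] 1935 [88,56,104,233])) (.leaf (.up 5 1819 [80] 0 [55,155,192]))) (.node (.leaf (.up 4 702 [87] 0 [90,114])) (.leaf (.up 3 884 [113] 0 [88,42,111]))))) (.node (.node (.node (.leaf (.up 2 298 [87] 0 [57,55,116,225])) (.leaf (.up 5 2742 [157] 1137 [94,155,101]))) (.node (.leaf (.up 5 2268 [113] 0 [57,110,140,149])) (.leaf (.up 3 29 [177] 1570 [110,176,35])))) (.node (.node (.leaf (.up 6 1720 [150] 1935 [57,94,91])) (.leaf (.up 3 322 [177] 1570 [87,93,44,217]))) (.leaf (.up 3 1264 [92] 0 [88,55,90,101]))))) (.node (.node (.node (.node (.leaf (.up 6 249 [177] 1570 [87,93,89,113])) (.leaf (.up 5 3250 [87] 0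 [88,55,103,196]))) (.node (.leaf (.up 5 818 [150] 1935 [87,55,44,109])) (.leaf (.up 5 2298 [177] 1570 [88,56,103,162])))) (.node (.node (.leaf (.up 5 3423 [92] 0 [57,55,123,96])) (.leaf (.up 3 843 [177] 1570 [57,93,42,76]))) (.node (.leaf (.up 5 1918 [177] 1570 [140,97])) (.leaf (.up 6 2231 [177] 1570 [57,55,44,208]))))) (.node (.node (.node (.leaf (.up 2 614 [150] 1935 [88,55,42,143])) (.leaf (.up 3 2417 [177] 1570 [87,55,116,233]))) (.node (.leaf (.up 4 2448 [157] 1137 [88,110,44,131])) (.leaf (.up 6 2303 [157] 1137 [57,110,116,6])))) (.node (.node (.leaf (.up 3 2733 [87] 0 [110,116,230])) (.leaf (.up 6 712 [113] 0 [88,94,116,114]))) (.leaf (.up 5 1296 [113] 0 [57,55,155,1])))))) (.node (.node (.node (.node (.node (.leaf (.up 4 19 [157] 1137 [87,94,116,168])) (.leaf (.up 5 893 [113] 0 [57,116,21]))) (.node (.leaf (.up 4 2969 [92] 0 [88,42,142])) (.leaf (.up 3 1353 [80] 0 [88,110,91,95])))) (.node (.node (.leaf (.up 3 834 [177]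 1570 [116,164])) (.leaf (.up 5 3112 [113] 0 [140,114]))) (.node (.leaf (.up 6 3203 [113] 0 [87,110,42,99])) (.leaf (.up 6 1883 [87] 0 [88,55,123,230]))))) (.node (.node (.node (.leaf (.up 5 2918 [177] 1570 [88,110,116,182])) (.leaf (.up 2 452 [157] 1137 [57,110,140,126]))) (.node (.leaf (.up 4 2234 [177] 1570 [87,90,145])) (.leaf (.up 4 3665 [157] 1137 [88,56,42,213])))) (.node (.node (.leaf (.up 5 3689 [157] 1137 [88,110,91,101])) (.leaf (.up 4 478 [92] 0 [88,56,42,199]))) (.leaf (.up 4 1258 [157] 1137 [57,116,124]))))) (.node (.node (.node (.node (.leaf (.up 4 1111 [80] 0 [55,6])) (.leaf (.up 4 3553 [87] 0 [87,56,42,191]))) (.node (.leaf (.up 5 2852 [87] 0 [57,55,89,229])) (.leaf (.up 4 421 [150] 1935 [93,42,216])))) (.node (.node (.leaf (.up 3 2280 [157] 1137 [57,116,217])) (.leaf (.up 5 2842 [113] 0 [88,55,190]))) (.leaf (.up 3 1817 [177] 1570 [87,55,89,18])))) (.node (.node (.node (.leaf (.up 1 15 [157] 1137 [87,94,155,248]))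 (.leaf (.up 5 1797 [80] 0 [88,56,91,135]))) (.node (.leaf (.up 3 3410 [92] 0 [88,56,104,158])) (.leaf (.up 4 2470 [150] 1935 [90,77])))) (.node (.node (.leaf (.up 5 3779 [113] 0 [88,56,123,217])) (.leaf (.up 3 2348 [157] 1137 [55,104,199]))) (.leaf (.up 4 421 [87] 0 [88,110,176,199]))))))) (.node (.node (.node (.node (.node (.node (.leaf (.up 5 754 [80] 0 [88,94,176,241])) (.leaf (.up 6 1672 [157] 1137 [94,44,204]))) (.node (.leaf (.up 5 2745 [177] 1570 [90,186])) (.leaf (.up 5 3077 [87] 0 [56,140,174])))) (.node (.node (.leaf (.up 3 408 [157] 1137 [87,89,108])) (.leaf (.up 5 1477 [87] 0 [110,44,157]))) (.node (.leaf (.up 5 914 [157] 1137 [56,44,157])) (.leaf (.up 5 1113 [92] 0 [57,56,176,75]))))) (.node (.node (.node (.leaf (.up 4 3589 [150] 1935 [116,11])) (.leaf (.up 5 2095 [92] 0 [57,55,103,189]))) (.node (.leaf (.up 4 1473 [150] 1935 [87,55,155,46])) (.leaf (.up 3 1829 [92] 0 [88,94,91,30])))) (.node (.node (.leaf (.up 3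 420 [113] 0 [87,110,91,120])) (.leaf (.up 5 2702 [113] 0 [57,55,103,193]))) (.leaf (.up 3 3410 [177] 1570 [93,103,165]))))) (.node (.node (.node (.node (.leaf (.up 5 1093 [177] 1570 [88,110,43,136])) (.leaf (.up 4 311 [177] 1570 [104,230]))) (.node (.leaf (.up 4 19 [177] 1570 [57,56,91,226])) (.leaf (.up 4 1483 [87] 0 [88,110,140,194])))) (.node (.node (.leaf (.up 5 2953 [177] 1570 [88,55,42,162])) (.leaf (.up 5 263 [177] 1570 [88,110,44,74]))) (.node (.leaf (.up 5 2597 [87] 0 [56,44,95])) (.leaf (.up 4 928 [80] 0 [57,94,104,59]))))) (.node (.node (.node (.leaf (.up 3 709 [157] 1137 [57,55,199])) (.leaf (.up 5 3029 [87] 0 [87,110,215]))) (.node (.leaf (.up 5 367 [80] 0 [88,110,104,72])) (.leaf (.up 3 1528 [87] 0 [110,43,71])))) (.node (.node (.leaf (.up 7 1132 [92] 0 [110,91,161])) (.leaf (.up 4 3162 [177] 1570 [87,94,42,141]))) (.leaf (.up 5 1710 [150] 1935 [56,42,222])))))) (.node (.node (.node (.node (.node (.leaf (.up 5 3057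 [157] 1137 [87,93,43,215])) (.leaf (.up 1 2 [113] 0 [88,56,89,111]))) (.node (.leaf (.up 4 3638 [92] 0 [87,93,91,95])) (.leaf (.up 3 580 [80] 0 [110,140,132])))) (.node (.node (.leaf (.up 4 524 [87] 0 [88,56,116,196])) (.leaf (.up 5 1808 [157] 1137 [57,93,90,27]))) (.node (.leaf (.up 6 3059 [157] 1137 [57,55,42,21])) (.leaf (.up 3 413 [177] 1570 [103,98]))))) (.node (.node (.node (.leaf (.up 3 2789 [177] 1570 [55,116,175])) (.leaf (.up 4 945 [87] 0 [87,94,103,245]))) (.node (.leaf (.up 4 702 [113] 0 [87,55,155,214])) (.leaf (.up 5 388 [113] 0 [88,110,104,152])))) (.node (.node (.leaf (.up 4 261 [87] 0 [57,116,59])) (.leaf (.up 3 2238 [157] 1137 [56,42,20]))) (.leaf (.up 4 1839 [92] 0 [88,103,96]))))) (.node (.node (.node (.node (.leaf (.up 4 2987 [157] 1137 [87,94,91,124])) (.leaf (.up 5 872 [177] 1570 [88,176,196]))) (.node (.leaf (.up 6 3332 [87] 0 [56,123,219])) (.leaf (.up 3 2908 [177] 1570 [57,93,140,0])))) (.node (.node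 (.leaf (.up 4 309 [157] 1137 [88,56,89,248])) (.leaf (.up 4 3058 [177] 1570 [57,89,136]))) (.leaf (.up 3 2125 [177] 1570 [88,110,116,97])))) (.node (.node (.node (.leaf (.up 6 1906 [87] 0 [56,104,198])) (.leaf (.up 5 2832 [80] 0 [87,94,43,227]))) (.node (.leaf (.up 5 2171 [177] 1570 [57,44,23])) (.leaf (.up 5 2325 [177] 1570 [87,56,37])))) (.node (.node (.leaf (.up 4 1351 [157] 1137 [57,93,89,127])) (.leaf (.up 3 761 [177] 1570 [88,43,37]))) (.leaf (.up 3 2238 [113] 0 [87,94,155,118])))))))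

noncomputable def trio3_1011 : Tr TStep := .node trio3_10110 trio3_10111

noncomputable def trio3_101 : Tr TStep := .node trio3_1010 trio3_1011

noncomputable def trio3_10 : Tr TStep := .node trio3_100 trio3_101

noncomputable def trio3_11000 : Tr TStep :=
  .node (.node (.node (.node (.node (.node (.node (.leaf (.up 2 3226 [157] 1137 [87,94,44,181])) (.leaf (.up 5 1553 [177] 1570 [88,93,90,220]))) (.node (.leaf (.up 4 92 [92] 0 [94,176,36])) (.leaf (.up 5 3395 [92] 0 [90,149])))) (.node (.node (.leaf (.up 4 2503 [92] 0 [88,123,220])) (.leaf (.up 5 3223 [87] 0 [57,110,104,148]))) (.node (.leaf (.up 5 3158 [80] 0 [57,55,176,183])) (.leaf (.up 6 918 [157] 1137 [57,56,42,13]))))) (.node (.node (.node (.leaf (.up 4 3762 [150] 1935 [57,55,42,124])) (.leaf (.up 5 2892 [177] 1570 [88,110,104,244]))) (.node (.leaf (.up 5 954 [80] 0 [110,91,225])) (.leaf (.up 6 3203 [150] 1935 [57,110,90,96])))) (.node (.node (.leaf (.up 5 1008 [87] 0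 [87,110,155,130])) (.leaf (.up 3 2166 [157] 1137 [123,169]))) (.leaf (.up 5 168 [113] 0 [55,44,163]))))) (.node (.node (.node (.node (.leaf (.up 4 1284 [157] 1137 [88,56,42,5])) (.leaf (.up 5 384 [157] 1137 [110,176,72]))) (.node (.leaf (.up 2 1555 [92] 0 [88,94,90,200])) (.leaf (.up 5 1419 [177] 1570 [57,56,90,29])))) (.node (.node (.leaf (.up 6 1626 [177] 1570 [88,94,176,23])) (.leaf (.up 5 746 [177] 1570 [87,93,90,113]))) (.node (.leaf (.up 5 1440 [113] 0 [88,211])) (.leaf (.up 4 3278 [177] 1570 [88,56,90,169]))))) (.node (.node (.node (.leaf (.up 3 1290 [150] 1935 [56,43,247])) (.leaf (.up 6 63 [80] 0 [88,94,42,226]))) (.node (.leaf (.up 5 758 [92] 0 [87,110,89,177])) (.leaf (.up 5 3484 [92] 0 [87,93,90,207])))) (.node (.node (.leaf (.up 5 1341 [177] 1570 [94,116,229])) (.leaf (.up 2 1555 [80] 0 [88,93,155,30]))) (.leaf (.up 5 1951 [150] 1935 [88,44,195])))))) (.node (.node (.node (.node (.node (.leaf (.up 4 2635 [177] 1570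 [87,110,123,229])) (.leaf (.up 5 3164 [113] 0 [57,94,104,162]))) (.node (.leaf (.up 6 699 [87] 0 [57,94,116,75])) (.leaf (.up 4 2461 [87] 0 [87,55,155,142])))) (.node (.node (.leaf (.up 2 1442 [113] 0 [87,93,91,141])) (.leaf (.up 5 2304 [177] 1570 [57,123,192]))) (.node (.leaf (.up 6 2315 [157] 1137 [56,44,145])) (.leaf (.up 3 196 [150] 1935 [88,110,104,139]))))) (.node (.node (.node (.leaf (.up 3 102 [80] 0 [57,55,44,158])) (.leaf (.up 4 1391 [80] 0 [87,94,90,239]))) (.node (.leaf (.up 4 1111 [157] 1137 [88,56,91,23])) (.leaf (.up 4 3638 [157] 1137 [57,110,44,189])))) (.node (.node (.leaf (.up 4 1284 [150] 1935 [88,94,116,126])) (.leaf (.up 4 2195 [113] 0 [87,56,104,234]))) (.leaf (.up 5 809 [87] 0 [93,226]))))) (.node (.node (.node (.node (.leaf (.up 3 3291 [113] 0 [88,126])) (.leaf (.up 6 2477 [150] 1935 [87,93,176,73]))) (.node (.leaf (.up 5 1649 [177] 1570 [88,110,123,132])) (.leaf (.up 5 1061 [177] 1570 [110,103,203]))))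 (.node (.node (.leaf (.up 4 1963 [92] 0 [94,89,200])) (.leaf (.up 5 1680 [113] 0 [57,93,116,132]))) (.node (.leaf (.up 4 659 [80] 0 [87,94,104,192])) (.leaf (.up 4 19 [92] 0 [87,55,123,199]))))) (.node (.node (.node (.leaf (.up 4 333 [87] 0 [56,99])) (.leaf (.up 5 2745 [150] 1935 [87,110,42,37]))) (.node (.leaf (.up 5 3111 [87] 0 [55,43,29])) (.leaf (.up 3 408 [177] 1570 [87,55,91,230])))) (.node (.node (.leaf (.up 4 3605 [80] 0 [57,94,103,144])) (.leaf (.up 4 387 [87] 0 [87,110,91,226]))) (.leaf (.up 5 39 [150] 1935 [94,176,7]))))))) (.node (.node (.node (.node (.node (.node (.leaf (.up 5 2437 [113] 0 [57,110,42,196])) (.leaf (.up 5 442 [150] 1935 [94,123,188]))) (.node (.leaf (.up 5 3362 [92] 0 [87,91,193])) (.leaf (.up 6 54 [177] 1570 [87,110,44,201])))) (.node (.node (.leaf (.up 5 1226 [157] 1137 [57,42,132])) (.leaf (.up 5 2698 [87] 0 [57,94,90,29]))) (.node (.leaf (.up 2 1701 [177] 1570 [91,245])) (.leaf (.up 4 1735 [92]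 0 [88,56,42,170]))))) (.node (.node (.node (.leaf (.up 5 3068 [113] 0 [87,56,155,34])) (.leaf (.up 6 2636 [80] 0 [57,176,115]))) (.node (.leaf (.up 6 2337 [87] 0 [94,140,180])) (.leaf (.up 5 1280 [87] 0 [87,55,90,3])))) (.node (.node (.leaf (.up 6 2940 [92] 0 [57,110,176,227])) (.leaf (.up 5 1067 [157] 1137 [57,91,248]))) (.leaf (.up 5 2121 [150] 1935 [88,94,123,139]))))) (.node (.node (.node (.node (.leaf (.up 4 439 [87] 0 [56,176,163])) (.leaf (.up 4 1570 [92] 0 [93,42,27]))) (.node (.leaf (.up 5 3129 [80] 0 [88,110,75])) (.leaf (.up 5 1217 [113] 0 [88,94,103,111])))) (.node (.node (.leaf (.up 5 2794 [177] 1570 [88,94,123,188])) (.leaf (.up 5 244 [150] 1935 [87,93,91,222]))) (.node (.leaf (.up 5 2111 [177] 1570 [88,56,140,117])) (.leaf (.up 6 1059 [113] 0 [93,104,197]))))) (.node (.node (.node (.leaf (.up 2 223 [157] 1137 [55,43,207])) (.leaf (.up 5 2990 [150] 1935 [94,140,214]))) (.node (.leaf (.up 4 1990 [80] 0 [87,110,42,225]))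 (.leaf (.up 5 887 [92] 0 [57,94,104,153])))) (.node (.node (.leaf (.up 5 3249 [157] 1137 [94,44,230])) (.leaf (.up 6 687 [177] 1570 [87,55,155,130]))) (.leaf (.up 4 2944 [177] 1570 [57,155,232])))))) (.node (.node (.node (.node (.node (.leaf (.up 3 1979 [113] 0 [57,55,155,158])) (.leaf (.up 4 2470 [87] 0 [87,94,176,142]))) (.node (.leaf (.up 5 2652 [113] 0 [94,116,166])) (.leaf (.up 6 1073 [87] 0 [87,155,31])))) (.node (.node (.leaf (.up 4 1839 [113] 0 [93,44,232])) (.leaf (.up 2 527 [113] 0 [110,104,217]))) (.node (.leaf (.up 5 1457 [157] 1137 [94,103,209])) (.leaf (.up 6 3121 [92] 0 [87,56,90,179]))))) (.node (.node (.node (.leaf (.up 5 341 [80] 0 [88,93,140,124])) (.leaf (.up 4 2677 [157] 1137 [55,42,120]))) (.node (.leaf (.up 5 2346 [157] 1137 [88,176,11])) (.leaf (.up 4 1358 [87] 0 [57,56,43,138])))) (.node (.node (.leaf (.up 5 3029 [150] 1935 [57,55,43,227])) (.leaf (.up 5 363 [177] 1570 [88,93,42,141]))) (.leaf (.up 6 1965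 [177] 1570 [57,56,136]))))) (.node (.node (.node (.node (.leaf (.up 4 2286 [177] 1570 [88,93,90,216])) (.leaf (.up 5 1527 [92] 0 [123,208]))) (.node (.leaf (.up 4 1451 [87] 0 [57,55,89,11])) (.leaf (.up 3 133 [150] 1935 [93,140,106])))) (.node (.node (.leaf (.up 5 1440 [87] 0 [88,55,155,221])) (.leaf (.up 5 3210 [92] 0 [87,93,44,75]))) (.leaf (.up 6 2887 [177] 1570 [87,93,44,168])))) (.node (.node (.node (.leaf (.up 5 2822 [87] 0 [87,93,104])) (.leaf (.up 6 609 [157] 1137 [87,103,235]))) (.node (.leaf (.up 6 2023 [157] 1137 [57,93,140,174])) (.leaf (.up 5 2006 [150] 1935 [57,93,43,224])))) (.node (.node (.leaf (.up 1 71 [87] 0 [88,94,89,124])) (.leaf (.up 5 56 [150] 1935 [87,110,176,15]))) (.leaf (.up 5 58 [177] 1570 [88,93,123,185])))))))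

noncomputable def trio3_11001 : Tr TStep :=
  .node (.node (.node (.node (.node (.node (.node (.leaf (.up 3 1571 [80] 0 [87,93,140,120])) (.leaf (.up 5 277 [177] 1570 [88,94,89,133]))) (.node (.leaf (.up 4 978 [177] 1570 [56,42,132])) (.leaf (.up 5 3443 [113] 0 [57,56,44,126])))) (.node (.node (.leaf (.up 2 614 [113] 0 [88,110,90,248])) (.leaf (.up 2 619 [177] 1570 [87,44,158]))) (.node (.leaf (.up 1 15 [92] 0 [57,140,128])) (.leaf (.up 4 311 [150] 1935 [88,55,103,238]))))) (.node (.node (.node (.leaf (.up 5 1649 [92] 0 [87,94,155,215])) (.leaf (.up 4 3315 [87] 0 [110,91,210]))) (.node (.leaf (.up 6 495 [157] 1137 [87,94,103,232])) (.leaf (.up 4 2845 [113] 0 [88,93,116,167])))) (.node (.node (.leaf (.up 5 821 [87] 0 [93,123,215])) (.leaf (.up 6 2857 [87] 0 [87,56,44,101]))) (.leaf (.up 4 457 [87] 0 [57,56,42,129]))))) (.node (.node (.node (.node (.leaf (.up 6 2207 [157] 1137 [87,56,176,226])) (.leaf (.up 3 2035 [177] 1570 [57,110,103,187])))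 (.node (.leaf (.up 4 3069 [113] 0 [87,56,212])) (.leaf (.up 5 1553 [92] 0 [93,104,75])))) (.node (.node (.leaf (.up 3 2329 [177] 1570 [57,55,116,126])) (.leaf (.up 4 2203 [177] 1570 [57,110,103,59]))) (.node (.leaf (.up 5 2918 [113] 0 [57,110,42,30])) (.leaf (.up 4 1735 [80] 0 [57,103,232]))))) (.node (.node (.node (.leaf (.up 5 1226 [150] 1935 [88,55,43,168])) (.leaf (.up 3 1829 [177] 1570 [110,43,109]))) (.node (.leaf (.up 4 299 [87] 0 [87,94,140,229])) (.leaf (.up 4 3389 [150] 1935 [110,89,111])))) (.node (.node (.leaf (.up 4 2318 [87] 0 [88,93,42,141])) (.leaf (.up 5 1686 [150] 1935 [57,55,176,181]))) (.leaf (.up 5 2929 [92] 0 [87,98])))))) (.node (.node (.node (.node (.node (.leaf (.up 6 1862 [157] 1137 [88,93,89,119])) (.leaf (.up 5 1644 [177] 1570 [88,93,140,194]))) (.node (.leaf (.up 6 2279 [157] 1137 [87,56,91,147])) (.leaf (.up 6 3332 [150] 1935 [110,155,236])))) (.node (.node (.leaf (.up 4 1775 [80] 0 [91,194])) (.leaf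 (.up 6 725 [177] 1570 [110,44,228]))) (.node (.leaf (.up 5 2144 [87] 0 [87,116,244])) (.leaf (.up 6 3392 [113] 0 [57,93,123,189]))))) (.node (.node (.node (.leaf (.up 5 1832 [80] 0 [87,55,104,37])) (.leaf (.up 5 2702 [92] 0 [88,56,104,6]))) (.node (.leaf (.up 2 2430 [150] 1935 [88,93,176,13])) (.leaf (.up 6 492 [80] 0 [57,94,89,191])))) (.node (.node (.leaf (.up 4 2015 [157] 1137 [57,93,123,21])) (.leaf (.up 4 3178 [177] 1570 [88,176,1]))) (.leaf (.up 5 277 [150] 1935 [88,93,43,22]))))) (.node (.node (.node (.node (.leaf (.up 5 1794 [177] 1570 [87,110,90,77])) (.leaf (.up 5 1797 [92] 0 [88,94,42,154]))) (.node (.leaf (.up 5 3111 [80] 0 [57,43,113])) (.leaf (.up 3 3410 [87] 0 [88,110,89,201])))) (.node (.node (.leaf (.up 5 3210 [87] 0 [87,55,103,138])) (.leaf (.up 4 152 [113] 0 [110,140,156]))) (.leaf (.up 5 2910 [87] 0 [88,56,152])))) (.node (.node (.node (.leaf (.up 4 1538 [177] 1570 [43,158])) (.leaf (.up 6 1988 [87] 0 [57,94,103,237])))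 (.node (.leaf (.up 4 3709 [80] 0 [57,59])) (.leaf (.up 4 859 [157] 1137 [88,55,89,209])))) (.node (.node (.leaf (.up 5 625 [92] 0 [88,93,44,109])) (.leaf (.up 5 1329 [177] 1570 [55,34]))) (.leaf (.up 5 9 [150] 1935 [57,110,140,106]))))))) (.node (.node (.node (.node (.node (.node (.leaf (.up 5 2668 [87] 0 [93,42,74])) (.leaf (.up 5 2095 [177] 1570 [87,93,103,214]))) (.node (.leaf (.up 5 429 [92] 0 [57,110,43,184])) (.leaf (.up 3 2343 [113] 0 [93,123,209])))) (.node (.node (.leaf (.up 5 938 [92] 0 [94,103,74])) (.leaf (.up 3 2481 [157] 1137 [93,155,8]))) (.node (.leaf (.up 6 1767 [150] 1935 [88,110,123,214])) (.leaf (.up 2 3733 [177] 1570 [87,56,90,23]))))) (.node (.node (.node (.leaf (.up 4 1721 [87] 0 [56,89,186])) (.leaf (.up 5 2287 [157] 1137 [57,103,220]))) (.node (.leaf (.up 4 1260 [87] 0 [88,94,176,215])) (.leaf (.up 4 1364 [87] 0 [88,94,34])))) (.node (.node (.leaf (.up 5 2443 [177] 1570 [116,244])) (.leaf (.up 5 1477 [150]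 1935 [87,94,91,243]))) (.leaf (.up 5 893 [150] 1935 [88,93,3]))))) (.node (.node (.node (.node (.leaf (.up 3 446 [157] 1137 [88,55,104,5])) (.leaf (.up 4 1735 [157] 1137 [88,110,42,4]))) (.node (.leaf (.up 5 3531 [157] 1137 [87,94,176,225])) (.leaf (.up 5 3792 [150] 1935 [87,94,103,185])))) (.node (.node (.leaf (.up 5 2596 [150] 1935 [93,91,25])) (.leaf (.up 5 546 [150] 1935 [88,93,140,199]))) (.node (.leaf (.up 4 2234 [87] 0 [94,44,137])) (.leaf (.up 5 2622 [150] 1935 [87,56,103,97]))))) (.node (.node (.node (.leaf (.up 6 2108 [157] 1137 [57,110,89,242])) (.leaf (.up 3 2455 [157] 1137 [57,116,230]))) (.node (.leaf (.up 5 1190 [157] 1137 [57,94,89,146])) (.leaf (.up 6 600 [113] 0 [87,56,104,133])))) (.node (.node (.leaf (.up 4 2772 [80] 0 [57,110,91,217])) (.leaf (.up 5 3549 [177] 1570 [88,56,89,190]))) (.leaf (.up 5 677 [150] 1935 [57,55,140,225])))))) (.node (.node (.node (.node (.node (.leaf (.up 4 195 [177] 1570 [110,123,186]))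 (.leaf (.up 5 2285 [87] 0 [88,55,103,174]))) (.node (.leaf (.up 6 431 [92] 0 [88,103,141])) (.leaf (.up 5 2184 [87] 0 [87,126])))) (.node (.node (.leaf (.up 4 1074 [150] 1935 [57,56,104,92])) (.leaf (.up 4 673 [150] 1935 [57,93,89,205]))) (.node (.leaf (.up 3 1503 [157] 1137 [110,140,33])) (.leaf (.up 6 2920 [157] 1137 [88,110,91,147]))))) (.node (.node (.node (.leaf (.up 4 2969 [150] 1935 [93,42,189])) (.leaf (.up 4 729 [87] 0 [93,103,101]))) (.node (.leaf (.up 6 17 [80] 0 [57,55,103,69])) (.leaf (.up 4 2061 [177] 1570 [55,90,196])))) (.node (.node (.leaf (.up 6 1931 [157] 1137 [93,91,223])) (.leaf (.up 4 3345 [177] 1570 [93,193]))) (.leaf (.up 4 1821 [150] 1935 [87,110,103,135]))))) (.node (.node (.node (.node (.leaf (.up 5 2235 [150] 1935 [155,69])) (.leaf (.up 2 1402 [157] 1137 [87,110,104,97]))) (.node (.leaf (.up 6 2207 [87] 0 [93,140,199])) (.leaf (.up 3 148 [157] 1137 [87,93,156])))) (.node (.node (.leaf (.up 6 3754 [113]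 0 [56,42,3])) (.leaf (.up 5 625 [113] 0 [57,176,148]))) (.leaf (.up 4 3021 [177] 1570 [87,90,142])))) (.node (.node (.node (.leaf (.up 3 1920 [80] 0 [57,94,116,160])) (.leaf (.up 5 2892 [157] 1137 [88,55,42,21]))) (.node (.leaf (.up 5 3647 [150] 1935 [57,110,42,191])) (.leaf (.up 3 408 [92] 0 [55,43,34])))) (.node (.node (.leaf (.up 5 1498 [177] 1570 [88,55,123,177])) (.leaf (.up 5 2906 [92] 0 [140,237]))) (.leaf (.up 2 2798 [92] 0 [57,94,103,167])))))))

noncomputable def trio3_1100 : Tr TStep := .node trio3_11000 trio3_11001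

noncomputable def trio3_11010 : Tr TStep :=
  .node (.node (.node (.node (.node (.node (.node (.leaf (.up 2 527 [87] 0 [88,103,145])) (.leaf (.up 4 1962 [80] 0 [57,56,44,0]))) (.node (.leaf (.up 5 67 [150] 1935 [88,94,155,100])) (.leaf (.up 6 1841 [80] 0 [110,91,120])))) (.node (.node (.leaf (.up 2 3559 [177] 1570 [57,91,238])) (.leaf (.up 4 1853 [150] 1935 [94,176,9]))) (.node (.leaf (.up 4 3589 [177] 1570 [88,56,43,171])) (.leaf (.up 5 3184 [92] 0 [87,110,130]))))) (.node (.node (.node (.leaf (.up 5 870 [157] 1137 [56,116,226])) (.leaf (.up 5 3721 [113] 0 [55,123,146]))) (.node (.leaf (.up 4 124 [113] 0 [88,93,42,99])) (.leaf (.up 2 3545 [177] 1570 [57,110,140,200])))) (.node (.node (.leaf (.up 5 2098 [113] 0 [93,90,230])) (.leaf (.up 2 2430 [157] 1137 [87,103,59]))) (.leaf (.up 5 1082 [157] 1137 [88,94,44,111]))))) (.node (.node (.node (.node (.leaf (.up 6 2880 [177] 1570 [55,176,226])) (.leaf (.up 5 3643 [157] 1137 [88,94,103,216])))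 (.node (.leaf (.up 5 1495 [87] 0 [57,94,91,118])) (.leaf (.up 4 1002 [92] 0 [88,56,103,119])))) (.node (.node (.leaf (.up 2 1852 [157] 1137 [87,55,116,18])) (.leaf (.up 5 1977 [87] 0 [56,44,22]))) (.node (.leaf (.up 6 1247 [177] 1570 [88,155,198])) (.leaf (.up 5 1339 [113] 0 [88,110,42,73]))))) (.node (.node (.node (.leaf (.up 3 1432 [150] 1935 [88,110,91,126])) (.leaf (.up 4 1017 [157] 1137 [110,43,31]))) (.node (.leaf (.up 4 1732 [157] 1137 [43,186])) (.leaf (.up 5 2597 [177] 1570 [88,55,103,236])))) (.node (.node (.leaf (.up 5 2287 [177] 1570 [88,93,103,204])) (.leaf (.up 4 3585 [177] 1570 [56,116,231]))) (.leaf (.up 5 2768 [92] 0 [140,189])))))) (.node (.node (.node (.node (.node (.leaf (.up 4 1698 [80] 0 [87,55,42,11])) (.leaf (.up 5 60 [80] 0 [57,110,155,144]))) (.node (.leaf (.up 3 1227 [177] 1570 [93,90,122])) (.leaf (.up 5 1955 [157] 1137 [88,55,90,22])))) (.node (.node (.leaf (.up 5 3296 [80] 0 [110,123,207])) (.leaf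 (.up 3 3648 [80] 0 [57,56,44,201]))) (.node (.leaf (.up 5 2893 [177] 1570 [87,89,98])) (.leaf (.up 5 1495 [150] 1935 [57,110,140,190]))))) (.node (.node (.node (.leaf (.up 4 3299 [113] 0 [88,93,89,133])) (.leaf (.up 4 2448 [150] 1935 [88,110,43,225]))) (.node (.leaf (.up 6 1211 [157] 1137 [57,104,169])) (.leaf (.up 5 3773 [87] 0 [88,110,90,132])))) (.node (.node (.leaf (.up 2 2173 [157] 1137 [88,110,155,146])) (.leaf (.up 4 2264 [177] 1570 [57,93,103,162]))) (.leaf (.up 4 3750 [150] 1935 [57,90,122]))))) (.node (.node (.node (.node (.leaf (.up 6 602 [177] 1570 [88,94,91,244])) (.leaf (.up 4 260 [87] 0 [57,93,103,142]))) (.node (.leaf (.up 2 1707 [150] 1935 [88,94,42,137])) (.leaf (.up 5 2570 [177] 1570 [88,89,128])))) (.node (.node (.leaf (.up 5 1798 [113] 0 [87,44,198])) (.leaf (.up 5 2377 [150] 1935 [88,90,22]))) (.node (.leaf (.up 5 2818 [87] 0 [87,93,176,234])) (.leaf (.up 6 3424 [113] 0 [88,55,43,108]))))) (.node (.node (.node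 (.leaf (.up 4 299 [92] 0 [88,55,91])) (.leaf (.up 3 2455 [113] 0 [94,116,33]))) (.node (.leaf (.up 3 2446 [177] 1570 [57,93,91,95])) (.leaf (.up 4 1284 [92] 0 [88,103,92])))) (.node (.node (.leaf (.up 6 2658 [80] 0 [57,93,103,163])) (.leaf (.up 5 1797 [87] 0 [57,110,42,33]))) (.leaf (.up 6 3384 [80] 0 [56,44,243]))))))) (.node (.node (.node (.node (.node (.node (.leaf (.up 2 452 [113] 0 [88,55,123,234])) (.leaf (.up 4 608 [177] 1570 [55,42,36]))) (.node (.leaf (.up 4 478 [113] 0 [57,94,44,175])) (.leaf (.up 6 3308 [113] 0 [88,93,155,192])))) (.node (.node (.leaf (.up 3 2343 [80] 0 [88,116,159])) (.leaf (.up 3 3356 [150] 1935 [87,94,42,99]))) (.node (.leaf (.up 3 2538 [157] 1137 [57,93,90,189])) (.leaf (.up 4 393 [157] 1137 [57,155,125]))))) (.node (.node (.node (.leaf (.up 3 295 [177] 1570 [87,43,23])) (.leaf (.up 6 2375 [113] 0 [87,56,44,147]))) (.node (.leaf (.up 4 3258 [157] 1137 [176,106])) (.leaf (.up 5 3004 [157] 1137 [87,94,91,153]))))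 (.node (.node (.leaf (.up 2 995 [157] 1137 [110,116,144])) (.leaf (.up 4 19 [113] 0 [88,94,176,190]))) (.leaf (.up 6 3433 [113] 0 [93,90,121]))))) (.node (.node (.node (.node (.leaf (.up 4 92 [87] 0 [88,110,140,158])) (.leaf (.up 4 245 [150] 1935 [87,110,73]))) (.node (.leaf (.up 4 2830 [150] 1935 [88,94,103,212])) (.leaf (.up 6 857 [177] 1570 [87,94,5])))) (.node (.node (.leaf (.up 4 3449 [113] 0 [88,93,43,102])) (.leaf (.up 4 1515 [177] 1570 [88,93,140,197]))) (.node (.leaf (.up 1 2 [87] 0 [87,56,42,225])) (.leaf (.up 5 3759 [150] 1935 [87,155,164]))))) (.node (.node (.node (.leaf (.up 5 3347 [157] 1137 [103,154])) (.leaf (.up 5 872 [157] 1137 [87,94,155,186]))) (.node (.leaf (.up 3 2238 [177] 1570 [87,94,123,117])) (.leaf (.up 3 2343 [92] 0 [55,140,97])))) (.node (.node (.leaf (.up 4 1362 [177] 1570 [88,56,90,118])) (.leaf (.up 3 2273 [92] 0 [57,110,103,150]))) (.leaf (.up 3 1370 [177] 1570 [87,55,123,218])))))) (.node (.node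 (.node (.node (.node (.leaf (.up 4 728 [92] 0 [87,56,106])) (.leaf (.up 6 220 [157] 1137 [87,110,140,142]))) (.node (.leaf (.up 6 2491 [80] 0 [88,103,95])) (.leaf (.up 2 2757 [80] 0 [43,99])))) (.node (.node (.leaf (.up 1 2 [157] 1137 [57,94,31])) (.leaf (.up 3 3525 [177] 1570 [88,56,103,174]))) (.node (.leaf (.up 2 477 [87] 0 [87,94,31])) (.leaf (.up 5 2859 [87] 0 [56,177]))))) (.node (.node (.node (.leaf (.up 4 238 [157] 1137 [57,94,89,159])) (.leaf (.up 5 254 [177] 1570 [87,110,123,23]))) (.node (.leaf (.up 4 1818 [113] 0 [88,94,104,199])) (.leaf (.up 5 56 [87] 0 [55,123,184])))) (.node (.node (.leaf (.up 4 111 [80] 0 [87,110,90,168])) (.leaf (.up 6 1187 [113] 0 [57,93,116,187]))) (.leaf (.up 6 1988 [150] 1935 [55,176,180]))))) (.node (.node (.node (.node (.leaf (.up 5 3057 [87] 0 [57,89,234])) (.leaf (.up 5 2197 [80] 0 [87,94,42,129]))) (.node (.leaf (.up 5 1113 [113] 0 [88,94,155,228])) (.leaf (.up 5 3068 [150] 1935 [87,56,44,106]))))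 (.node (.node (.leaf (.up 5 1514 [87] 0 [88,110,42,138])) (.leaf (.up 4 3026 [150] 1935 [87,55,104,184]))) (.leaf (.up 5 3412 [87] 0 [87,55,140,113])))) (.node (.node (.node (.leaf (.up 4 2941 [87] 0 [88,94,90,224])) (.leaf (.up 5 2006 [87] 0 [94,140,224]))) (.node (.leaf (.up 3 2921 [87] 0 [57,94,42,105])) (.leaf (.up 5 3004 [150] 1935 [87,55,176,182])))) (.node (.node (.leaf (.up 5 1136 [87] 0 [87,93,89,159])) (.leaf (.up 5 3721 [87] 0 [42,174]))) (.leaf (.up 6 2957 [157] 1137 [110,131])))))))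

noncomputable def trio3_11011 : Tr TStep :=
  .node (.node (.node (.node (.node (.node (.node (.leaf (.up 5 2696 [80] 0 [110,91,232])) (.leaf (.up 5 2005 [150] 1935 [90,201]))) (.node (.leaf (.up 6 507 [150] 1935 [93,89,35])) (.leaf (.up 5 625 [177] 1570 [110,155,179])))) (.node (.node (.leaf (.up 5 809 [177] 1570 [94,44,76])) (.leaf (.up 4 2368 [150] 1935 [57,110,123,220]))) (.node (.leaf (.up 7 2473 [150] 1935 [88,94,140,223])) (.leaf (.up 4 1530 [157] 1137 [155,25]))))) (.node (.node (.node (.leaf (.up 2 74 [92] 0 [87,56,91,16])) (.leaf (.up 5 2465 [177] 1570 [87,94,43,142]))) (.node (.leaf (.up 2 1402 [87] 0 [88,55,176,168])) (.leaf (.up 3 283 [113] 0 [87,94,90,212])))) (.node (.node (.leaf (.up 4 439 [157] 1137 [88,56,42,142])) (.leaf (.up 4 1074 [87] 0 [88,55,104,46]))) (.leaf (.up 4 3639 [177] 1570 [110,116,142]))))) (.node (.node (.node (.node (.leaf (.up 3 2964 [87] 0 [104,113])) (.leaf (.up 3 346 [177] 1570 [87,93,124])))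 (.node (.leaf (.up 5 2006 [80] 0 [88,55,176,128])) (.leaf (.up 4 3526 [177] 1570 [56,158])))) (.node (.node (.leaf (.up 4 3537 [113] 0 [57,91,95])) (.leaf (.up 5 1167 [150] 1935 [87,55,176,203]))) (.node (.leaf (.up 6 2564 [177] 1570 [56,123,167])) (.leaf (.up 3 237 [150] 1935 [104,181]))))) (.node (.node (.node (.leaf (.up 4 353 [113] 0 [89,207])) (.leaf (.up 5 1836 [150] 1935 [87,94,123,208]))) (.node (.leaf (.up 3 1571 [87] 0 [57,55,155,107])) (.leaf (.up 5 2121 [92] 0 [88,110,89,118])))) (.node (.node (.leaf (.up 2 2998 [150] 1935 [57,43,107])) (.leaf (.up 5 1708 [113] 0 [88,55,42,76]))) (.leaf (.up 3 2320 [113] 0 [110,103,115])))))) (.node (.node (.node (.node (.node (.leaf (.up 4 2975 [87] 0 [110,91,141])) (.leaf (.up 4 1138 [113] 0 [87,94,42,157]))) (.node (.leaf (.up 6 2636 [87] 0 [88,93,91,119])) (.leaf (.up 6 1150 [157] 1137 [88,110,140,163])))) (.node (.node (.leaf (.up 5 657 [157] 1137 [93,90,215])) (.leaf (.up 6 2877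 [87] 0 [87,56,43,209]))) (.node (.leaf (.up 4 80 [177] 1570 [56,140,201])) (.leaf (.up 6 2490 [150] 1935 [94,176,145]))))) (.node (.node (.node (.leaf (.up 4 2326 [92] 0 [87,116,171])) (.leaf (.up 5 274 [113] 0 [57,55,42,11]))) (.node (.leaf (.up 3 2291 [177] 1570 [87,55,91,114])) (.leaf (.up 4 1430 [87] 0 [56,116,187])))) (.node (.node (.leaf (.up 3 738 [150] 1935 [57,94,116,92])) (.leaf (.up 4 3197 [157] 1137 [57,110,116,224]))) (.leaf (.up 5 1101 [177] 1570 [110,176,139]))))) (.node (.node (.node (.node (.leaf (.up 4 2313 [80] 0 [57,155,35])) (.leaf (.up 5 1819 [177] 1570 [88,110,91,151]))) (.node (.leaf (.up 5 3395 [177] 1570 [56,90,206])) (.leaf (.up 2 1402 [92] 0 [87,56,89,171])))) (.node (.node (.leaf (.up 6 2849 [150] 1935 [55,42,246])) (.leaf (.up 4 1032 [92] 0 [88,56,90,146]))) (.leaf (.up 4 2312 [87] 0 [87,90,237])))) (.node (.node (.node (.leaf (.up 6 3121 [157] 1137 [87,93,91,13])) (.leaf (.up 4 2368 [113] 0 [57,55,173])))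 (.node (.leaf (.up 4 1138 [150] 1935 [88,56,42,147])) (.leaf (.up 4 1721 [92] 0 [155,166])))) (.node (.node (.leaf (.up 2 2798 [150] 1935 [87,94,44,162])) (.leaf (.up 6 3489 [150] 1935 [56,89,77]))) (.leaf (.up 5 70 [80] 0 [87,93,90,242]))))))) (.node (.node (.node (.node (.node (.node (.leaf (.up 4 782 [92] 0 [57,93,103,75])) (.leaf (.up 5 1527 [80] 0 [56,89,188]))) (.node (.leaf (.up 6 2000 [80] 0 [87,110,103,246])) (.leaf (.up 5 1067 [177] 1570 [87,55,140,151])))) (.node (.node (.leaf (.up 3 2961 [113] 0 [94,147])) (.leaf (.up 2 525 [177] 1570 [88,43,215]))) (.node (.leaf (.up 5 3442 [87] 0 [87,56,91,6])) (.leaf (.up 4 2503 [80] 0 [110,155,117]))))) (.node (.node (.node (.leaf (.up 5 171 [150] 1935 [88,55,90,149])) (.leaf (.up 2 1852 [113] 0 [56,44,197]))) (.node (.leaf (.up 4 2855 [80] 0 [57,110,155,60])) (.leaf (.up 2 2757 [113] 0 [88,55,44,135])))) (.node (.node (.leaf (.up 5 1750 [113] 0 [42,121])) (.leaf (.up 5 2274 [113]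 0 [110,181]))) (.leaf (.up 5 1703 [157] 1137 [87,110,42,225]))))) (.node (.node (.node (.node (.leaf (.up 5 1333 [113] 0 [88,110,90,61])) (.leaf (.up 4 659 [92] 0 [57,55,140,37]))) (.node (.leaf (.up 5 1008 [113] 0 [91,35])) (.leaf (.up 3 666 [177] 1570 [88,94,220])))) (.node (.node (.leaf (.up 5 2095 [150] 1935 [88,155,108])) (.leaf (.up 4 2188 [80] 0 [88,93,89,131]))) (.node (.leaf (.up 5 3423 [157] 1137 [88,93,141])) (.leaf (.up 5 2712 [150] 1935 [88,56,89,9]))))) (.node (.node (.node (.leaf (.up 4 3709 [113] 0 [110,140,148])) (.leaf (.up 5 2095 [157] 1137 [56,91,170]))) (.node (.leaf (.up 5 3236 [150] 1935 [93,90,95])) (.leaf (.up 5 3678 [157] 1137 [88,94,103,187])))) (.node (.node (.leaf (.up 4 1698 [150] 1935 [87,42,30])) (.leaf (.up 5 2342 [177] 1570 [87,110,42,157]))) (.leaf (.up 2 298 [80] 0 [59])))))) (.node (.node (.node (.node (.node (.leaf (.up 3 2733 [177] 1570 [87,110,90,136])) (.leaf (.up 4 3069 [150] 1935 [87,55,89,31])))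 (.node (.leaf (.up 5 3182 [177] 1570 [87,55,43,5])) (.leaf (.up 4 80 [157] 1137 [57,110,103,146])))) (.node (.node (.leaf (.up 5 3129 [150] 1935 [56,116,77])) (.leaf (.up 6 537 [92] 0 [57,56,116,137]))) (.node (.leaf (.up 4 311 [87] 0 [93,44,211])) (.leaf (.up 5 1319 [150] 1935 [57,93,176,76]))))) (.node (.node (.node (.leaf (.up 5 290 [157] 1137 [57,55,90,188])) (.leaf (.up 5 442 [113] 0 [56,116,217]))) (.node (.leaf (.up 5 2091 [177] 1570 [87,94,42,142])) (.leaf (.up 6 1827 [113] 0 [87,93,44,208])))) (.node (.node (.leaf (.up 5 1714 [113] 0 [57,56,123,188])) (.leaf (.up 4 1111 [87] 0 [88,55,123,210]))) (.leaf (.up 4 2714 [113] 0 [155,198]))))) (.node (.node (.node (.node (.leaf (.up 4 2640 [87] 0 [87,56,91,61])) (.leaf (.up 5 3397 [177] 1570 [57,110,91,138]))) (.node (.leaf (.up 5 1616 [87] 0 [87,94,44,136])) (.leaf (.up 5 3442 [150] 1935 [88,176,178])))) (.node (.node (.leaf (.up 5 2213 [177] 1570 [55,89,198])) (.leaf (.up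 6 2065 [177] 1570 [57,94,89,221]))) (.leaf (.up 6 3054 [87] 0 [88,110,116,96])))) (.node (.node (.node (.leaf (.up 5 1779 [87] 0 [87,55,42,164])) (.leaf (.up 4 3762 [92] 0 [87,56,103,191]))) (.node (.leaf (.up 5 1329 [157] 1137 [88,55,140,11])) (.leaf (.up 5 2696 [177] 1570 [57,93,91,154])))) (.node (.node (.leaf (.up 6 1804 [87] 0 [88,56,123,238])) (.leaf (.up 5 1621 [113] 0 [87,110,155,10]))) (.leaf (.up 5 3296 [113] 0 [57,94,123,157])))))))

noncomputable def trio3_1101 : Tr TStep := .node trio3_11010 trio3_11011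

noncomputable def trio3_110 : Tr TStep := .node trio3_1100 trio3_1101

noncomputable def trio3_11100 : Tr TStep :=
  .node (.node (.node (.node (.node (.node (.node (.leaf (.root 4)) (.leaf (.up 6 414 [92] 0 [87,43,132]))) (.node (.leaf (.up 5 1569 [113] 0 [87,93,43,25])) (.leaf (.up 5 449 [80] 0 [88,94,43,229])))) (.node (.node (.leaf (.up 5 3023 [92] 0 [87,93,44,229])) (.leaf (.up 6 3701 [80] 0 [93,44,74]))) (.node (.leaf (.up 5 3443 [80] 0 [87,42,126])) (.leaf (.up 6 1705 [150] 1935 [93,44,168]))))) (.node (.node (.node (.leaf (.up 4 152 [157] 1137 [56,99])) (.leaf (.up 3 3635 [87] 0 [90,71]))) (.node (.leaf (.up 5 2226 [92] 0 [88,56,104,20])) (.leaf (.up 5 1810 [177] 1570 [88,55,89,226])))) (.node (.node (.leaf (.up 5 167 [157] 1137 [57,56,103,25])) (.leaf (.up 6 2857 [150] 1935 [87,56,123,22]))) (.leaf (.up 3 3387 [157] 1137 [88,43,65]))))) (.node (.node (.node (.node (.leaf (.up 5 985 [92] 0 [87,93,89,165])) (.leaf (.up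 5 2740 [177] 1570 [57,55,176,214]))) (.node (.leaf (.up 3 1927 [80] 0 [57,94,123,60])) (.leaf (.up 6 220 [87] 0 [87,110,44,188])))) (.node (.node (.leaf (.up 6 1241 [92] 0 [87,110,91,165])) (.leaf (.up 6 3725 [150] 1935 [110,103,99]))) (.node (.leaf (.up 5 3694 [177] 1570 [90,207])) (.leaf (.up 5 1068 [92] 0 [87,94,222]))))) (.node (.node (.node (.leaf (.up 5 3480 [157] 1137 [57,55,104,199])) (.leaf (.up 5 677 [113] 0 [104,97]))) (.node (.leaf (.up 5 2316 [157] 1137 [87,42,7])) (.leaf (.up 5 2260 [150] 1935 [57,110,42,213])))) (.node (.node (.leaf (.up 4 500 [113] 0 [110,140,77])) (.leaf (.up 6 612 [157] 1137 [88,176,137]))) (.leaf (.up 2 1701 [157] 1137 [87,42,246])))))) (.node (.node (.node (.node (.node (.leaf (.root 7)) (.leaf (.up 5 1719 [157] 1137 [57,94,43,229]))) (.node (.leaf (.up 2 2757 [92] 0 [57,56,116,245])) (.leaf (.up 5 2999 [177] 1570 [55,104,18])))) (.node (.node (.leaf (.up 5 3423 [87] 0 [88,93,43,30])) (.leaf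 (.up 5 1271 [177] 1570 [87,94,42,46]))) (.node (.leaf (.up 6 2224 [177] 1570 [90,97])) (.leaf (.up 3 940 [157] 1137 [57,110,155,108]))))) (.node (.node (.node (.leaf (.up 3 2964 [80] 0 [93,155,182])) (.leaf (.up 5 2894 [150] 1935 [88,110,90,214]))) (.node (.leaf (.up 3 884 [150] 1935 [88,94,42,29])) (.leaf (.up 4 333 [113] 0 [87,94,43,109])))) (.node (.node (.leaf (.up 6 2897 [87] 0 [57,55,140,165])) (.leaf (.up 5 1527 [150] 1935 [57,56,42,164]))) (.leaf (.up 3 3409 [87] 0 [93,140,238]))))) (.node (.node (.node (.node (.leaf (.up 4 1901 [157] 1137 [110,103,197])) (.leaf (.up 4 1600 [87] 0 [91,246]))) (.node (.leaf (.up 4 2305 [177] 1570 [94,89,192])) (.leaf (.up 6 3279 [177] 1570 [57,93,10])))) (.node (.node (.leaf (.up 4 2270 [157] 1137 [87,55,123,220])) (.leaf (.up 6 3220 [80] 0 [88,123,71]))) (.node (.leaf (.up 3 2764 [177] 1570 [87,56,42,152])) (.leaf (.up 4 3567 [87] 0 [88,89,207]))))) (.node (.node (.node (.leaf (.up 5 1805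 [92] 0 [93,176,192])) (.leaf (.up 3 3231 [87] 0 [93,155,202]))) (.node (.leaf (.up 5 835 [87] 0 [88,94,90,121])) (.leaf (.up 5 2258 [177] 1570 [87,55,89,171])))) (.node (.node (.leaf (.up 5 171 [80] 0 [87,93,42,20])) (.leaf (.up 5 1346 [113] 0 [88,94,43,169]))) (.leaf (.up 6 2724 [150] 1935 [87,55,42,170]))))))) (.node (.node (.node (.node (.node (.node (.leaf (.up 4 1172 [87] 0 [87,110,176,107])) (.leaf (.up 4 981 [92] 0 [57,93,44,213]))) (.node (.leaf (.up 6 2321 [157] 1137 [110,103,118])) (.leaf (.up 4 716 [177] 1570 [89,127])))) (.node (.node (.leaf (.up 5 546 [157] 1137 [57,110,42,144])) (.leaf (.up 6 3614 [87] 0 [87,93,116,65]))) (.node (.leaf (.up 4 3026 [87] 0 [87,110,155,4])) (.leaf (.up 5 2381 [150] 1935 [94,42,182]))))) (.node (.node (.node (.leaf (.up 2 1442 [87] 0 [57,56,176,142])) (.leaf (.up 2 74 [177] 1570 [57,93,44,230]))) (.node (.leaf (.up 4 1086 [80] 0 [110,123,60])) (.leaf (.up 6 1792 [87] 0 [57,93,90,120]))))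 (.node (.node (.leaf (.up 2 134 [87] 0 [55,91,172])) (.leaf (.up 3 2392 [177] 1570 [88,55,43,9]))) (.leaf (.up 3 2964 [177] 1570 [104,212]))))) (.node (.node (.node (.node (.leaf (.up 4 1909 [87] 0 [87,110,123,244])) (.leaf (.up 5 1836 [177] 1570 [87,56,44,160]))) (.node (.leaf (.up 4 2896 [113] 0 [88,110,42,210])) (.leaf (.up 5 2398 [113] 0 [57,55,155,164])))) (.node (.node (.leaf (.up 6 1114 [87] 0 [57,94,43,156])) (.leaf (.up 6 1655 [157] 1137 [57,93,42,242]))) (.node (.leaf (.up 4 586 [177] 1570 [57,55,123,60])) (.leaf (.up 6 2375 [80] 0 [116,209]))))) (.node (.node (.node (.leaf (.up 4 906 [177] 1570 [88,93,104,170])) (.leaf (.up 5 2751 [87] 0 [56,123,4]))) (.node (.leaf (.up 6 2224 [157] 1137 [87,110,89,18])) (.leaf (.up 5 3761 [177] 1570 [57,104,96])))) (.node (.node (.leaf (.up 4 3259 [113] 0 [87,174])) (.leaf (.up 6 3308 [150] 1935 [57,94,123,100]))) (.leaf (.up 3 965 [80] 0 [56,103,195])))))) (.node (.node (.node (.node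 (.node (.leaf (.up 5 3641 [92] 0 [57,94,91,234])) (.leaf (.up 3 2538 [87] 0 [57,94,140,167]))) (.node (.leaf (.up 5 2385 [177] 1570 [176,182])) (.leaf (.up 6 2471 [92] 0 [57,94,102])))) (.node (.node (.leaf (.up 5 3753 [92] 0 [88,56,91,129])) (.leaf (.up 5 1797 [150] 1935 [88,110,155,188]))) (.node (.leaf (.up 5 362 [113] 0 [88,42,7])) (.leaf (.up 5 3223 [150] 1935 [87,110,123,27]))))) (.node (.node (.node (.leaf (.up 5 2100 [157] 1137 [88,176,16])) (.leaf (.up 5 735 [80] 0 [57,55,43,1]))) (.node (.leaf (.up 5 3379 [177] 1570 [94,43,34])) (.leaf (.up 3 3356 [87] 0 [87,89,65])))) (.node (.node (.leaf (.up 3 858 [157] 1137 [155,171])) (.leaf (.up 5 2413 [80] 0 [87,55,46]))) (.leaf (.up 4 1933 [113] 0 [87,110,44,113]))))) (.node (.node (.node (.node (.leaf (.up 5 823 [87] 0 [87,55,104,150])) (.leaf (.up 5 67 [177] 1570 [56,176,145]))) (.node (.leaf (.up 5 2926 [177] 1570 [88,55,43,16])) (.leaf (.up 4 3383 [80] 0 [87,56,103,149]))))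 (.node (.node (.leaf (.up 5 2194 [150] 1935 [90,209])) (.leaf (.up 4 2448 [80] 0 [57,94,89,227]))) (.leaf (.up 5 2211 [80] 0 [87,55,90,36])))) (.node (.node (.node (.leaf (.up 6 2981 [157] 1137 [55,140,217])) (.leaf (.up 6 3257 [87] 0 [88,55,155,167]))) (.node (.leaf (.up 5 898 [87] 0 [88,110,103,216])) (.leaf (.up 1 1 [113] 0 [57,94,91,131])))) (.node (.node (.leaf (.up 4 700 [177] 1570 [88,110,176,100])) (.leaf (.up 4 2667 [113] 0 [55,91,230]))) (.leaf (.up 5 780 [80] 0 [87,94,37])))))))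

noncomputable def trio3_11101 : Tr TStep :=
  .node (.node (.node (.node (.node (.node (.node (.leaf (.up 2 223 [80] 0 [57,110,123,8])) (.leaf (.up 5 3164 [92] 0 [88,56,104,196]))) (.node (.leaf (.up 5 769 [157] 1137 [87,94,123,156])) (.leaf (.up 5 2005 [157] 1137 [88,110,91,6])))) (.node (.node (.leaf (.up 4 3162 [113] 0 [87,123,108])) (.leaf (.up 5 1300 [177] 1570 [88,110,42,181]))) (.node (.leaf (.up 6 3533 [150] 1935 [87,93,176,129])) (.leaf (.up 5 2910 [92] 0 [87,90,147]))))) (.node (.node (.node (.leaf (.up 4 1053 [87] 0 [87,90,33])) (.leaf (.up 4 2241 [150] 1935 [110,44,33]))) (.node (.leaf (.up 5 3359 [177] 1570 [55,104,202])) (.leaf (.up 4 500 [80] 0 [57,94,103,247])))) (.node (.node (.leaf (.up 5 1167 [113] 0 [88,94,42,214])) (.leaf (.up 5 304 [113] 0 [88,116,100]))) (.leaf (.up 2 2998 [92] 0 [87,55,116,71]))))) (.node (.node (.node (.node (.leaf (.up 4 690 [92] 0 [56,42,122])) (.leaf (.up 5 2441 [150] 1935 [87,93,140,76])))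 (.node (.leaf (.up 5 1857 [150] 1935 [57,116,211])) (.leaf (.up 4 892 [87] 0 [57,94,103,225])))) (.node (.node (.leaf (.up 3 738 [92] 0 [56,90,209])) (.leaf (.up 5 2818 [177] 1570 [57,55,43,190]))) (.node (.leaf (.up 5 2181 [150] 1935 [88,55,91,33])) (.leaf (.up 4 3497 [157] 1137 [110,44,170]))))) (.node (.node (.node (.leaf (.up 4 2230 [80] 0 [56,104,183])) (.leaf (.up 2 2236 [177] 1570 [57,94,91,194]))) (.node (.leaf (.up 6 1151 [92] 0 [88,110,155,165])) (.leaf (.up 4 1790 [157] 1137 [88,94,43,5])))) (.node (.node (.leaf (.up 5 735 [157] 1137 [155,235])) (.leaf (.up 5 1061 [87] 0 [87,55,214]))) (.leaf (.up 6 1906 [150] 1935 [88,110,42,248])))))) (.node (.node (.node (.node (.node (.leaf (.up 4 2933 [157] 1137 [57,94,89,159])) (.leaf (.up 5 2996 [157] 1137 [140,183]))) (.node (.leaf (.up 3 580 [92] 0 [55,160])) (.leaf (.up 3 3 [87] 0 [88,94,123,12])))) (.node (.node (.leaf (.up 3 350 [157] 1137 [93,43,144])) (.leaf (.up 2 3561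 [80] 0 [88,93,243]))) (.node (.leaf (.up 6 3424 [150] 1935 [88,93,140,135])) (.leaf (.up 5 1936 [80] 0 [88,55,123,22]))))) (.node (.node (.node (.leaf (.up 3 1168 [177] 1570 [87,93,104,222])) (.leaf (.up 4 1118 [87] 0 [87,56,103,210]))) (.node (.leaf (.up 6 3435 [150] 1935 [56,91,157])) (.leaf (.up 5 515 [177] 1570 [88,94,123,206])))) (.node (.node (.leaf (.up 4 2037 [177] 1570 [56,172])) (.leaf (.up 3 1307 [80] 0 [87,93,123,159]))) (.leaf (.up 5 1679 [87] 0 [87,93,44,206]))))) (.node (.node (.node (.node (.leaf (.up 5 3068 [157] 1137 [88,55,103,29])) (.leaf (.up 3 1544 [113] 0 [57,110,90,218]))) (.node (.leaf (.up 5 180 [157] 1137 [57,104,118])) (.leaf (.up 5 277 [113] 0 [94,140,213])))) (.node (.node (.leaf (.up 5 3531 [150] 1935 [87,110,123,183])) (.leaf (.up 6 3463 [157] 1137 [88,110,123,97]))) (.leaf (.up 4 1959 [113] 0 [57,93,91,69])))) (.node (.node (.node (.leaf (.up 4 1698 [113] 0 [87,56,104,111])) (.leaf (.up 5 1499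 [150] 1935 [93,176,224]))) (.node (.leaf (.up 4 2521 [92] 0 [88,93,176,188])) (.leaf (.up 6 1407 [150] 1935 [110,103,147])))) (.node (.node (.leaf (.up 1 106 [113] 0 [88,55,155,150])) (.leaf (.up 6 3593 [177] 1570 [94,140,98]))) (.leaf (.up 5 939 [80] 0 [87,55,91,168]))))))) (.node (.node (.node (.node (.node (.node (.leaf (.up 4 80 [87] 0 [88,234])) (.leaf (.up 5 3600 [177] 1570 [57,55,142]))) (.node (.leaf (.up 4 945 [157] 1137 [87,55,44,211])) (.leaf (.up 4 1318 [80] 0 [87,176,242])))) (.node (.node (.leaf (.up 4 901 [113] 0 [87,110,177])) (.leaf (.up 6 2189 [113] 0 [88,110,89,114]))) (.node (.leaf (.up 6 1518 [87] 0 [93,91,241])) (.leaf (.up 3 1382 [157] 1137 [57,89,101]))))) (.node (.node (.node (.leaf (.up 3 3 [92] 0 [55,42,21])) (.leaf (.up 5 3436 [177] 1570 [110,103,241]))) (.node (.leaf (.up 5 1057 [150] 1935 [57,55,137])) (.leaf (.up 3 1264 [87] 0 [88,93,104,181])))) (.node (.node (.leaf (.up 4 1451 [177] 1570 [56,149]))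 (.leaf (.up 4 1009 [177] 1570 [94,100]))) (.leaf (.up 5 3539 [87] 0 [93,104,206]))))) (.node (.node (.node (.node (.leaf (.up 5 328 [177] 1570 [57,116,173])) (.leaf (.up 5 1903 [157] 1137 [93,44,118]))) (.node (.leaf (.up 5 2668 [92] 0 [57,110,155,154])) (.leaf (.up 4 1111 [92] 0 [57,55,176,197])))) (.node (.node (.leaf (.up 5 1750 [157] 1137 [87,110,89,2])) (.leaf (.up 4 3324 [150] 1935 [87,93,176,185]))) (.node (.leaf (.up 4 1182 [150] 1935 [56,116,21])) (.leaf (.up 4 1845 [80] 0 [110,89,8]))))) (.node (.node (.node (.leaf (.up 3 580 [150] 1935 [93,123,157])) (.leaf (.up 3 1041 [177] 1570 [87,44,205]))) (.node (.leaf (.up 4 2644 [177] 1570 [155,61])) (.leaf (.up 4 1260 [92] 0 [57,93,103,25])))) (.node (.node (.leaf (.up 4 1371 [177] 1570 [87,56,42,113])) (.leaf (.up 4 152 [87] 0 [55,155,201]))) (.leaf (.up 3 2281 [113] 0 [57,140,183])))))) (.node (.node (.node (.node (.node (.leaf (.up 4 1735 [87] 0 [88,94,91,236])) (.leaf (.up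 5 3130 [92] 0 [88,94,43,37]))) (.node (.leaf (.up 5 3023 [150] 1935 [88,104,183])) (.leaf (.up 5 3042 [177] 1570 [57,116,8])))) (.node (.node (.leaf (.up 3 420 [87] 0 [57,110,42,36])) (.leaf (.up 6 296 [177] 1570 [57,56,43,115]))) (.node (.leaf (.up 5 2712 [92] 0 [87,56,91,31])) (.leaf (.up 5 3242 [150] 1935 [93,103,105]))))) (.node (.node (.node (.leaf (.up 5 1444 [113] 0 [88,93,217])) (.leaf (.up 5 2352 [80] 0 [55,89,164]))) (.node (.leaf (.up 5 2701 [87] 0 [57,94,176,200])) (.leaf (.up 5 1649 [157] 1137 [87,93,104,229])))) (.node (.node (.leaf (.up 4 228 [177] 1570 [87,110,43,239])) (.leaf (.up 2 2626 [157] 1137 [88,42,31]))) (.leaf (.up 4 1775 [87] 0 [44,207]))))) (.node (.node (.node (.node (.leaf (.up 5 3496 [113] 0 [87,110,116,186])) (.leaf (.up 5 290 [113] 0 [88,110,116,121]))) (.node (.leaf (.up 4 800 [87] 0 [89,125])) (.leaf (.up 2 1402 [80] 0 [88,94,91,121])))) (.node (.node (.leaf (.up 6 17 [157] 1137 [87,56,90,152]))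 (.leaf (.up 4 155 [87] 0 [57,55,90,234]))) (.leaf (.up 5 2454 [87] 0 [87,56,42,242])))) (.node (.node (.node (.leaf (.up 3 523 [113] 0 [57,56,89,134])) (.leaf (.up 4 3123 [87] 0 [57,56,91,143]))) (.node (.leaf (.up 4 892 [92] 0 [88,93,44,153])) (.leaf (.up 4 3523 [87] 0 [57,93,42,148])))) (.node (.node (.leaf (.up 5 3531 [87] 0 [57,55,43,13])) (.leaf (.up 6 109 [113] 0 [88,56,44,127]))) (.leaf (.up 6 723 [157] 1137 [87,93,104,25])))))))

noncomputable def trio3_1110 : Tr TStep := .node trio3_11100 trio3_11101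

noncomputable def trio3_11110 : Tr TStep :=
  .node (.node (.node (.node (.node (.node (.node (.leaf (.root 6)) (.leaf (.up 2 1774 [87] 0 [87,55,123,167]))) (.node (.leaf (.up 5 1856 [177] 1570 [88,110,44,69])) (.leaf (.up 2 1774 [113] 0 [57,110,140,92])))) (.node (.node (.leaf (.up 1 7 [92] 0 [88,93,154])) (.leaf (.up 4 1284 [87] 0 [57,94,44,231]))) (.node (.leaf (.up 4 30 [80] 0 [87,110,140,141])) (.leaf (.up 4 245 [177] 1570 [88,42,181]))))) (.node (.node (.node (.leaf (.up 5 3195 [92] 0 [57,94,176,1])) (.leaf (.up 5 1704 [150] 1935 [57,110,91,186]))) (.node (.leaf (.up 5 2121 [157] 1137 [88,55,114])) (.leaf (.up 5 451 [113] 0 [88,110,104,99])))) (.node (.node (.leaf (.up 2 655 [157] 1137 [110,116,27])) (.leaf (.up 6 2631 [177] 1570 [55,90,209]))) (.leaf (.up 6 2163 [157] 1137 [88,110,91,190]))))) (.node (.node (.node (.node (.leaf (.up 3 3356 [177] 1570 [94,104,12])) (.leaf (.up 5 1329 [113] 0 [56,176,244]))) (.node (.leaf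 (.up 4 3123 [177] 1570 [57,93,140,130])) (.leaf (.up 3 2827 [177] 1570 [119])))) (.node (.node (.leaf (.up 1 71 [177] 1570 [88,123,0])) (.leaf (.up 6 3510 [113] 0 [88,110,155,5]))) (.node (.leaf (.up 4 299 [113] 0 [88,103,210])) (.leaf (.up 4 1646 [177] 1570 [87,110,90,142]))))) (.node (.node (.node (.leaf (.up 2 1359 [92] 0 [87,93,89,148])) (.leaf (.up 3 923 [80] 0 [87,110,140,210]))) (.node (.leaf (.up 3 1264 [157] 1137 [57,94,44,183])) (.leaf (.up 4 2311 [92] 0 [87,110,103,223])))) (.node (.node (.leaf (.up 6 3203 [177] 1570 [110,90,158])) (.leaf (.up 6 919 [92] 0 [93,104,23]))) (.leaf (.up 5 790 [92] 0 [88,93,104,177])))))) (.node (.node (.node (.node (.node (.leaf (.up 5 1714 [92] 0 [87,90,200])) (.leaf (.up 5 2892 [80] 0 [57,56,89,183]))) (.node (.leaf (.up 1 12 [157] 1137 [57,93,44,20])) (.leaf (.up 5 2997 [87] 0 [87,94,90,207])))) (.node (.node (.leaf (.up 5 1296 [157] 1137 [56,140,1])) (.leaf (.up 5 308 [177] 1570 [87,55,104,118])))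 (.node (.leaf (.up 4 2137 [87] 0 [88,94,155,170])) (.leaf (.up 1 7 [150] 1935 [56,155,232]))))) (.node (.node (.node (.leaf (.up 4 2410 [177] 1570 [94,91,100])) (.leaf (.up 5 954 [92] 0 [87,94,116,151]))) (.node (.leaf (.up 1 7 [80] 0 [87,55,102])) (.leaf (.up 6 2338 [157] 1137 [56,42,184])))) (.node (.node (.leaf (.up 4 800 [157] 1137 [57,56,90,35])) (.leaf (.up 5 290 [92] 0 [87,55,104,179]))) (.leaf (.up 5 1679 [177] 1570 [88,110,140,152]))))) (.node (.node (.node (.node (.leaf (.up 3 3013 [177] 1570 [87,94,176,219])) (.leaf (.up 5 3250 [177] 1570 [94,116,148]))) (.node (.leaf (.up 5 1008 [157] 1137 [57,43,174])) (.leaf (.up 5 2982 [157] 1137 [57,56,43,113])))) (.node (.node (.leaf (.up 5 821 [80] 0 [57,93,155,133])) (.leaf (.up 5 3077 [177] 1570 [57,56,44,209]))) (.node (.leaf (.up 3 43 [177] 1570 [57,94,140,69])) (.leaf (.up 5 1393 [92] 0 [87,94,43,137]))))) (.node (.node (.node (.leaf (.up 4 3341 [177] 1570 [57,110,43,240]))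 (.leaf (.up 5 625 [87] 0 [110,90,98]))) (.node (.leaf (.up 4 1182 [157] 1137 [87,93,90,169])) (.leaf (.up 5 367 [150] 1935 [88,93,155,9])))) (.node (.node (.leaf (.up 6 2864 [87] 0 [57,93,91,219])) (.leaf (.up 4 161 [177] 1570 [87,55,44,92]))) (.leaf (.up 5 813 [92] 0 [94,155,179]))))))) (.node (.node (.node (.node (.node (.node (.leaf (.up 3 2989 [113] 0 [88,56,90,159])) (.leaf (.up 4 1570 [177] 1570 [87,123,219]))) (.node (.leaf (.up 3 811 [87] 0 [87,110,199])) (.leaf (.up 5 3023 [113] 0 [88,93,116,181])))) (.node (.node (.leaf (.up 3 29 [87] 0 [87,140,233])) (.leaf (.up 4 1520 [157] 1137 [55,155,192]))) (.node (.leaf (.up 6 1879 [177] 1570 [87,89,138])) (.leaf (.up 5 1499 [80] 0 [88,55,43,105]))))) (.node (.node (.node (.leaf (.up 5 1652 [177] 1570 [88,93,42,206])) (.leaf (.up 5 924 [87] 0 [87,94,123,7]))) (.node (.leaf (.up 4 2326 [113] 0 [87,116,72])) (.leaf (.up 4 3573 [157] 1137 [94,155,31])))) (.node (.node (.leaf (.up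 2 223 [92] 0 [87,93,44,145])) (.leaf (.up 5 1477 [177] 1570 [110,196]))) (.leaf (.up 3 102 [177] 1570 [179]))))) (.node (.node (.node (.node (.leaf (.up 4 1099 [177] 1570 [87,110,155,34])) (.leaf (.up 5 456 [113] 0 [87,93,140,201]))) (.node (.leaf (.up 3 10 [87] 0 [87,93,104,208])) (.leaf (.up 5 2536 [87] 0 [87,104,127])))) (.node (.node (.leaf (.up 5 1750 [150] 1935 [57,55,103,46])) (.leaf (.up 5 482 [87] 0 [88,110,140,112]))) (.node (.leaf (.up 4 229 [150] 1935 [56,123,215])) (.leaf (.up 4 3280 [92] 0 [88,55,176,205]))))) (.node (.node (.node (.leaf (.up 5 1486 [177] 1570 [55,103,205])) (.leaf (.up 3 1940 [87] 0 [88,55,89,111]))) (.node (.leaf (.up 4 2470 [157] 1137 [88,93,104,162])) (.leaf (.up 5 2341 [157] 1137 [57,93,173])))) (.node (.node (.leaf (.up 5 1704 [87] 0 [116,150])) (.leaf (.up 5 744 [87] 0 [57,44,122]))) (.leaf (.up 5 3164 [80] 0 [57,103,227])))))) (.node (.node (.node (.node (.node (.leaf (.up 3 1076 [177] 1570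 [57,93,91,185])) (.leaf (.up 5 2554 [87] 0 [88,56,43,214]))) (.node (.leaf (.up 5 596 [87] 0 [56,176,117])) (.leaf (.up 3 2725 [87] 0 [57,93,123,22])))) (.node (.node (.leaf (.up 6 3770 [113] 0 [93,116,228])) (.leaf (.up 6 390 [150] 1935 [57,55,176,185]))) (.node (.leaf (.up 4 2270 [177] 1570 [57,110,44,29])) (.leaf (.up 4 166 [113] 0 [87,93,116,189]))))) (.node (.node (.node (.leaf (.up 4 3613 [177] 1570 [88,55,91,189])) (.leaf (.up 5 2118 [150] 1935 [88,155,102]))) (.node (.leaf (.up 3 38 [87] 0 [88,94,116,22])) (.leaf (.up 4 3401 [80] 0 [87,42,113])))) (.node (.node (.leaf (.up 5 933 [113] 0 [88,93,140,241])) (.leaf (.up 6 1938 [157] 1137 [88,89,29]))) (.leaf (.up 4 1002 [87] 0 [56,103,114]))))) (.node (.node (.node (.node (.leaf (.up 4 1768 [92] 0 [55,116,127])) (.leaf (.up 4 1404 [87] 0 [88,176,170]))) (.node (.leaf (.up 5 1554 [87] 0 [57,93,123])) (.leaf (.up 4 3026 [80] 0 [88,56,103,182])))) (.node (.node (.leaf (.up 5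 572 [87] 0 [87,56,44,214])) (.leaf (.up 5 194 [177] 1570 [56,123,169]))) (.leaf (.up 3 3231 [92] 0 [55,116,36])))) (.node (.node (.node (.leaf (.up 5 2818 [92] 0 [88,55,43,235])) (.leaf (.up 5 1226 [80] 0 [87,110,155,22]))) (.node (.leaf (.up 4 1017 [177] 1570 [88,94,116,182])) (.leaf (.up 3 1353 [177] 1570 [57,55,91,96])))) (.node (.node (.leaf (.up 5 3790 [87] 0 [57,110,123,152])) (.leaf (.up 5 168 [87] 0 [87,93,90,132]))) (.leaf (.up 4 2644 [157] 1137 [95])))))))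

noncomputable def trio3_11111 : Tr TStep :=
  .node (.node (.node (.node (.node (.node (.node (.leaf (.up 5 3060 [87] 0 [87,55,123,96])) (.leaf (.up 5 2211 [150] 1935 [57,93,43,188]))) (.node (.leaf (.up 5 1005 [177] 1570 [87,56,91,175])) (.leaf (.up 5 1448 [87] 0 [87,94,44,161])))) (.node (.node (.leaf (.up 5 2645 [87] 0 [87,56,44,31])) (.leaf (.up 5 3604 [157] 1137 [87,56,44,148]))) (.node (.leaf (.up 3 3128 [150] 1935 [88,55,43,148])) (.leaf (.up 4 1901 [113] 0 [94,176,120]))))) (.node (.node (.node (.leaf (.up 4 2937 [177] 1570 [57,91,99])) (.leaf (.up 2 3561 [92] 0 [88,55,140,171]))) (.node (.leaf (.up 4 850 [113] 0 [87,55,155,121])) (.leaf (.up 4 1138 [80] 0 [93,90,46])))) (.node (.node (.leaf (.up 3 237 [177] 1570 [57,93,89,226])) (.leaf (.up 4 198 [87] 0 [93,43,165]))) (.leaf (.up 4 3021 [87] 0 [57,104,121]))))) (.node (.node (.node (.node (.leaf (.up 5 1805 [157] 1137 [57,93,140,100])) (.leaf (.up 5 2413 [87] 0 [87,93,176,199])))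 (.node (.leaf (.up 4 30 [113] 0 [87,110,140,121])) (.leaf (.up 2 1774 [177] 1570 [56,176,137])))) (.node (.node (.leaf (.up 5 2373 [157] 1137 [87,93,173])) (.leaf (.up 4 3278 [80] 0 [55,42]))) (.node (.leaf (.up 5 3779 [150] 1935 [88,55,123,206])) (.leaf (.up 2 2173 [177] 1570 [56,140,111]))))) (.node (.node (.node (.leaf (.up 5 3501 [113] 0 [110,140,165])) (.leaf (.up 4 1371 [113] 0 [55,140,182]))) (.node (.leaf (.up 5 1880 [177] 1570 [57,56,123,208])) (.leaf (.up 5 1513 [87] 0 [87,56,89,243])))) (.node (.node (.leaf (.up 4 2903 [150] 1935 [56,44,128])) (.leaf (.up 3 2308 [177] 1570 [88,93,42,118]))) (.leaf (.up 4 3140 [92] 0 [57,93,43,159])))))) (.node (.node (.node (.node (.node (.leaf (.up 5 2268 [87] 0 [57,55,140,121])) (.leaf (.up 5 1977 [157] 1137 [94,44,205]))) (.node (.leaf (.up 4 1284 [113] 0 [56,176,184])) (.leaf (.up 4 2985 [87] 0 [88,56,42,177])))) (.node (.node (.leaf (.up 5 2437 [150] 1935 [55,209])) (.leaf (.up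 6 3698 [80] 0 [87,56,176,133]))) (.node (.leaf (.up 5 1068 [150] 1935 [87,93,44,152])) (.leaf (.up 2 1402 [113] 0 [87,110,103,196]))))) (.node (.node (.node (.leaf (.up 5 3496 [150] 1935 [88,104,3])) (.leaf (.up 4 1760 [157] 1137 [56,140,199]))) (.node (.leaf (.up 6 344 [80] 0 [57,90,200])) (.leaf (.up 4 729 [80] 0 [110,43,243])))) (.node (.node (.leaf (.up 5 2398 [87] 0 [87,55,123,177])) (.leaf (.up 5 56 [92] 0 [88,110,90,112]))) (.leaf (.up 5 3511 [177] 1570 [88,56,44,186]))))) (.node (.node (.node (.node (.leaf (.up 1 15 [87] 0 [87,94,90,205])) (.leaf (.up 4 2762 [80] 0 [88,110,91,73]))) (.node (.leaf (.up 5 2859 [177] 1570 [57,42,158])) (.leaf (.up 4 1424 [87] 0 [57,56,124])))) (.node (.node (.leaf (.up 4 1845 [87] 0 [87,94,91,37])) (.leaf (.up 4 92 [157] 1137 [88,110,103,184]))) (.leaf (.up 3 2606 [92] 0 [57,94,89,239])))) (.node (.node (.node (.leaf (.up 6 3698 [157] 1137 [87,110,191])) (.leaf (.up 5 325 [177] 1570 [87,15])))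 (.node (.leaf (.up 2 3561 [177] 1570 [55,140,69])) (.leaf (.up 5 365 [87] 0 [87,90,74])))) (.node (.node (.leaf (.up 2 1852 [92] 0 [110,140,121])) (.leaf (.up 3 314 [150] 1935 [87,56,140,226]))) (.leaf (.up 3 1571 [177] 1570 [87,94,89,167]))))))) (.node (.node (.node (.node (.node (.node (.leaf (.up 5 3689 [87] 0 [57,56,42,99])) (.leaf (.up 4 2326 [177] 1570 [88,90,183]))) (.node (.leaf (.up 5 3108 [177] 1570 [87,55,91,75])) (.leaf (.up 4 2777 [92] 0 [88,110,155,105])))) (.node (.node (.leaf (.up 4 209 [177] 1570 [87,44,231])) (.leaf (.up 4 2060 [92] 0 [88,110,140,198]))) (.node (.leaf (.up 6 1114 [113] 0 [56,123,236])) (.leaf (.up 4 3638 [113] 0 [55,116,201]))))) (.node (.node (.node (.leaf (.up 6 3121 [177] 1570 [88,56,104,242])) (.leaf (.up 4 2772 [113] 0 [93,90,36]))) (.node (.leaf (.up 5 1466 [177] 1570 [88,104,189])) (.leaf (.up 2 983 [177] 1570 [55,44,134])))) (.node (.node (.leaf (.up 4 1957 [150] 1935 [88,110,90,230]))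 (.leaf (.up 4 342 [87] 0 [57,55,44,137]))) (.leaf (.up 5 970 [177] 1570 [88,110,116,198]))))) (.node (.node (.node (.node (.leaf (.up 6 2642 [157] 1137 [110,44,198])) (.leaf (.up 5 2006 [92] 0 [57,55,42,23]))) (.node (.leaf (.up 5 3382 [87] 0 [87,93,103,208])) (.leaf (.up 6 3384 [92] 0 [93,42,73])))) (.node (.node (.leaf (.up 5 2885 [157] 1137 [87,56,103,227])) (.leaf (.up 4 1138 [87] 0 [87,94,123,191]))) (.node (.leaf (.up 5 3779 [87] 0 [56,116,76])) (.leaf (.up 4 1483 [92] 0 [110,177]))))) (.node (.node (.node (.leaf (.up 5 3025 [157] 1137 [88,110,90,174])) (.leaf (.up 4 1570 [150] 1935 [87,111]))) (.node (.leaf (.up 5 2100 [92] 0 [93,89,172])) (.leaf (.up 5 2745 [87] 0 [88,104,198])))) (.node (.node (.leaf (.up 6 2748 [80] 0 [55,140,225])) (.leaf (.up 3 2660 [87] 0 [93,42,246]))) (.leaf (.up 3 974 [113] 0 [56,44,118])))))) (.node (.node (.node (.node (.node (.leaf (.up 3 3319 [177] 1570 [88,110,176,161])) (.leaf (.up 5 3327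 [113] 0 [88,93,42,195]))) (.node (.leaf (.up 5 776 [157] 1137 [57,94,91,153])) (.leaf (.up 4 1966 [87] 0 [88,110,155,159])))) (.node (.node (.leaf (.up 5 250 [113] 0 [57,94,123,235])) (.leaf (.up 5 429 [157] 1137 [57,110,90,108]))) (.node (.leaf (.up 6 121 [177] 1570 [94,89,202])) (.leaf (.up 6 2658 [177] 1570 [57,56,104,190]))))) (.node (.node (.node (.leaf (.up 6 990 [177] 1570 [87,93,103,118])) (.leaf (.up 5 1329 [80] 0 [57,110,43,200]))) (.node (.leaf (.up 5 2842 [80] 0 [55,43,118])) (.leaf (.up 5 1276 [177] 1570 [57,94,44,96])))) (.node (.node (.leaf (.up 4 1957 [113] 0 [88,94,42,16])) (.leaf (.up 4 661 [150] 1935 [87,55,42,171]))) (.leaf (.up 5 2652 [150] 1935 [103,152]))))) (.node (.node (.node (.node (.leaf (.up 2 1402 [177] 1570 [88,104,197])) (.leaf (.up 5 2211 [113] 0 [57,110,42,46]))) (.node (.leaf (.up 4 343 [177] 1570 [57,176,35])) (.leaf (.up 4 690 [177] 1570 [87,56,140,21])))) (.node (.node (.leaf (.up 3 1432 [177]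 1570 [56,91,197])) (.leaf (.up 5 1756 [177] 1570 [57,44,203]))) (.leaf (.up 6 2300 [80] 0 [88,56,116,227])))) (.node (.node (.node (.leaf (.up 4 3401 [113] 0 [57,56,44,156])) (.leaf (.up 5 926 [92] 0 [94,103,1]))) (.node (.leaf (.up 4 555 [150] 1935 [110,104,126])) (.leaf (.up 3 531 [157] 1137 [57,116,21])))) (.node (.node (.leaf (.up 4 176 [92] 0 [116,150])) (.leaf (.up 6 2691 [87] 0 [88,43,35]))) (.leaf (.up 3 2921 [177] 1570 [57,93,91,168])))))))

noncomputable def trio3_1111 : Tr TStep := .node trio3_11110 trio3_11111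

noncomputable def trio3_111 : Tr TStep := .node trio3_1110 trio3_1111

noncomputable def trio3_11 : Tr TStep := .node trio3_110 trio3_111

noncomputable def trio3_1 : Tr TStep := .node trio3_10 trio3_11

noncomputable def trio3_ : Tr TStep := .node trio3_0 trio3_1

noncomputable def vt3_0_0000 : Tr VStep :=
  .node (.node (.node (.node (.node (.node (.node (.leaf (.root 193)) (.leaf (.up 4 1854 1))) (.node (.leaf (.up 5 1359 1)) (.leaf (.up 3 1928 3)))) (.node (.node (.leaf (.up 5 913 3)) (.leaf (.up 2 797 2))) (.node (.leaf (.up 6 254 4)) (.leaf (.up 5 79 1))))) (.node (.node (.node (.leaf (.up 3 501 4)) (.leaf (.up 3 1335 2))) (.node (.leaf (.up 3 48 2)) (.leaf (.up 3 279 2)))) (.node (.node (.leaf (.up 3 1578 2)) (.leaf (.up 3 1045 0))) (.node (.leaf (.up 3 522 2)) (.leaf (.up 3 813 2)))))) (.node (.node (.node (.node (.leaf (.up 4 1069 3)) (.leaf (.up 4 1317 2))) (.node (.leaf (.up 3 1107 0)) (.leaf (.up 5 261 2)))) (.node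 (.node (.leaf (.up 4 628 3)) (.leaf (.up 5 409 3))) (.node (.leaf (.up 5 463 1)) (.leaf (.up 4 640 1))))) (.node (.node (.node (.leaf (.up 4 1871 4)) (.leaf (.up 5 1999 0))) (.node (.leaf (.up 3 1074 2)) (.leaf (.up 3 335 4)))) (.node (.node (.leaf (.up 4 67 3)) (.leaf (.up 2 1598 4))) (.node (.leaf (.up 4 494 3)) (.leaf (.up 5 1839 2))))))) (.node (.node (.node (.node (.node (.leaf (.up 5 940 3)) (.leaf (.up 5 65 3))) (.node (.leaf (.up 5 1731 2)) (.leaf (.up 3 492 3)))) (.node (.node (.leaf (.up 5 115 1)) (.leaf (.up 5 452 0))) (.node (.leaf (.up 5 1112 3)) (.leaf (.up 3 1502 2))))) (.node (.node (.node (.leaf (.up 4 1075 1)) (.leaf (.up 4 630 3))) (.node (.leaf (.up 5 54 3)) (.leaf (.up 3 987 3)))) (.node (.node (.leaf (.up 6 1293 4)) (.leaf (.up 6 311 4))) (.node (.leaf (.up 5 233 2)) (.leaf (.up 3 781 4)))))) (.node (.node (.node (.node (.leaf (.up 5 1789 0)) (.leaf (.up 6 1980 1))) (.node (.leaf (.up 3 705 2)) (.leaf (.up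 1 9 3)))) (.node (.node (.leaf (.up 4 1040 3)) (.leaf (.up 5 1532 2))) (.node (.leaf (.up 6 1469 3)) (.leaf (.up 5 476 2))))) (.node (.node (.node (.leaf (.up 5 1035 0)) (.leaf (.up 4 982 2))) (.node (.leaf (.up 4 467 3)) (.leaf (.up 6 574 3)))) (.node (.node (.leaf (.up 6 179 1)) (.leaf (.up 3 1933 4))) (.node (.leaf (.up 4 1930 3)) (.leaf (.up 5 1889 0)))))))) (.node (.node (.node (.node (.node (.node (.leaf (.up 4 1590 1)) (.leaf (.up 3 1896 2))) (.node (.leaf (.up 2 623 2)) (.leaf (.up 4 878 0)))) (.node (.node (.leaf (.up 4 1883 3)) (.leaf (.up 5 822 1))) (.node (.leaf (.up 4 1421 0)) (.leaf (.up 4 520 1))))) (.node (.node (.node (.leaf (.up 5 607 2)) (.leaf (.up 5 771 4))) (.node (.leaf (.up 3 1287 1)) (.leaf (.up 4 373 3)))) (.node (.node (.leaf (.up 4 754 0)) (.leaf (.up 5 313 1))) (.node (.leaf (.up 4 1217 3)) (.leaf (.up 4 7 1)))))) (.node (.node (.node (.node (.leaf (.up 4 231 3)) (.leaf (.up 4 1974 1))) (.node (.leaf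 (.up 5 330 3)) (.leaf (.up 5 1672 1)))) (.node (.node (.leaf (.up 4 694 1)) (.leaf (.up 5 1672 4))) (.node (.leaf (.up 5 1811 3)) (.leaf (.up 5 1278 3))))) (.node (.node (.node (.leaf (.up 5 296 0)) (.leaf (.up 5 317 3))) (.node (.leaf (.up 5 637 2)) (.leaf (.up 4 1159 1)))) (.node (.node (.leaf (.up 3 185 1)) (.leaf (.up 4 1995 0))) (.node (.leaf (.up 5 71 2)) (.leaf (.up 5 1737 3))))))) (.node (.node (.node (.node (.node (.leaf (.up 2 1315 0)) (.leaf (.up 4 1226 4))) (.node (.leaf (.up 4 140 2)) (.leaf (.up 5 1318 3)))) (.node (.node (.leaf (.up 4 1686 2)) (.leaf (.up 4 1969 2))) (.node (.leaf (.up 3 1921 4)) (.leaf (.up 5 1609 0))))) (.node (.node (.node (.leaf (.up 4 1652 1)) (.leaf (.up 5 822 0))) (.node (.leaf (.up 4 1180 2)) (.leaf (.up 4 1029 1)))) (.node (.node (.leaf (.up 5 1493 0)) (.leaf (.up 3 229 3))) (.node (.leaf (.up 3 507 4)) (.leaf (.up 3 1921 2)))))) (.node (.node (.node (.node (.leaf (.up 5 1610 4)) (.leaf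 (.up 2 26 0))) (.node (.leaf (.up 3 1136 4)) (.leaf (.up 5 1427 0)))) (.node (.node (.leaf (.up 5 769 4)) (.leaf (.up 6 538 0))) (.node (.leaf (.up 5 375 3)) (.leaf (.up 3 666 3))))) (.node (.node (.node (.leaf (.up 3 48 4)) (.leaf (.up 4 1881 3))) (.node (.leaf (.up 3 522 4)) (.leaf (.up 4 1738 1)))) (.node (.node (.leaf (.up 4 1403 4)) (.leaf (.up 5 236 0))) (.node (.leaf (.up 5 970 1)) (.leaf (.up 3 899 2))))))))

noncomputable def vt3_0_0001 : Tr VStep :=
  .node (.node (.node (.node (.node (.node (.node (.leaf (.root 538)) (.leaf (.up 5 272 4))) (.node (.leaf (.up 3 1636 0)) (.leaf (.up 4 647 0)))) (.node (.node (.leaf (.up 3 97 1)) (.leaf (.up 4 814 1))) (.node (.leaf (.up 5 721 3)) (.leaf (.up 3 135 0))))) (.node (.node (.node (.leaf (.up 4 283 0)) (.leaf (.up 4 1898 4))) (.node (.leaf (.up 3 364 2)) (.leaf (.up 4 75 2)))) (.node (.node (.leaf (.up 5 331 3)) (.leaf (.up 6 1617 2))) (.node (.leaf (.up 5 1057 4)) (.leaf (.up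 2 625 0)))))) (.node (.node (.node (.node (.leaf (.up 3 1374 2)) (.leaf (.up 5 1837 3))) (.node (.leaf (.up 5 1389 3)) (.leaf (.up 4 861 0)))) (.node (.node (.leaf (.up 4 55 0)) (.leaf (.up 6 1603 2))) (.node (.leaf (.up 4 820 3)) (.leaf (.up 5 611 2))))) (.node (.node (.node (.leaf (.up 6 193 0)) (.leaf (.up 4 464 4))) (.node (.leaf (.up 5 1882 3)) (.leaf (.up 5 1207 3)))) (.node (.node (.leaf (.up 3 705 0)) (.leaf (.up 2 1570 0))) (.node (.leaf (.up 5 259 3)) (.leaf (.up 5 1651 2))))))) (.node (.node (.node (.node (.node (.leaf (.up 4 1226 0)) (.leaf (.up 4 41 0))) (.node (.leaf (.up 4 323 0)) (.leaf (.up 5 257 3)))) (.node (.node (.leaf (.up 4 1738 0)) (.leaf (.up 4 355 1))) (.node (.leaf (.up 4 786 1)) (.leaf (.up 4 1952 0))))) (.node (.node (.node (.leaf (.up 5 374 3)) (.leaf (.up 2 1315 1))) (.node (.leaf (.up 6 911 2)) (.leaf (.up 5 822 3)))) (.node (.node (.leaf (.up 5 1839 3)) (.leaf (.up 4 914 4))) (.node (.leaf (.up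 3 1666 3)) (.leaf (.up 6 146 2)))))) (.node (.node (.node (.node (.leaf (.up 5 1708 1)) (.leaf (.up 3 1507 1))) (.node (.leaf (.up 3 777 3)) (.leaf (.up 5 1146 0)))) (.node (.node (.leaf (.up 3 1896 4)) (.leaf (.up 5 1011 0))) (.node (.leaf (.up 5 477 1)) (.leaf (.up 2 1658 0))))) (.node (.node (.node (.leaf (.up 3 1187 1)) (.leaf (.up 3 773 0))) (.node (.leaf (.up 2 623 0)) (.leaf (.up 4 1676 0)))) (.node (.node (.leaf (.up 4 1738 3)) (.leaf (.up 5 1320 4))) (.node (.leaf (.up 5 1895 3)) (.leaf (.up 4 1162 3)))))))) (.node (.node (.node (.node (.node (.node (.leaf (.up 4 998 4)) (.leaf (.up 5 2012 4))) (.node (.leaf (.up 5 476 4)) (.leaf (.up 4 943 3)))) (.node (.node (.leaf (.up 4 1974 3)) (.leaf (.up 4 361 1))) (.node (.leaf (.up 2 1632 0)) (.leaf (.up 5 87 1))))) (.node (.node (.node (.leaf (.up 4 1638 1)) (.leaf (.up 4 2044 0))) (.node (.leaf (.up 4 629 3)) (.leaf (.up 3 1540 2)))) (.node (.node (.leaf (.up 4 1409 3)) (.leaf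 (.up 4 870 1))) (.node (.leaf (.up 3 279 1)) (.leaf (.up 5 1751 4)))))) (.node (.node (.node (.node (.leaf (.up 4 10 3)) (.leaf (.up 4 1513 1))) (.node (.leaf (.up 6 1841 2)) (.leaf (.up 5 586 3)))) (.node (.node (.leaf (.up 3 299 2)) (.leaf (.up 4 1069 4))) (.node (.leaf (.up 5 2046 3)) (.leaf (.up 4 1043 3))))) (.node (.node (.node (.leaf (.up 4 573 3)) (.leaf (.up 4 464 3))) (.node (.leaf (.up 5 912 3)) (.leaf (.up 4 943 0)))) (.node (.node (.leaf (.up 5 197 0)) (.leaf (.up 6 599 4))) (.node (.leaf (.up 4 1481 3)) (.leaf (.up 3 431 0))))))) (.node (.node (.node (.node (.node (.leaf (.up 5 1931 3)) (.leaf (.up 6 1126 3))) (.node (.leaf (.up 4 464 2)) (.leaf (.up 5 1956 0)))) (.node (.node (.leaf (.up 5 107 1)) (.leaf (.up 3 45 0))) (.node (.leaf (.up 3 341 1)) (.leaf (.up 4 914 3))))) (.node (.node (.node (.leaf (.up 4 1468 3)) (.leaf (.up 4 21 4))) (.node (.leaf (.up 3 1472 2)) (.leaf (.up 4 2044 3)))) (.node (.node (.leaf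 (.up 2 997 3)) (.leaf (.up 1 8 3))) (.node (.leaf (.up 4 945 0)) (.leaf (.up 4 21 1)))))) (.node (.node (.node (.node (.leaf (.up 4 1812 0)) (.leaf (.up 5 1956 1))) (.node (.leaf (.up 4 1749 4)) (.leaf (.up 3 1269 2)))) (.node (.node (.leaf (.up 4 55 3)) (.leaf (.up 4 491 1))) (.node (.leaf (.up 4 410 3)) (.leaf (.up 5 1956 4))))) (.node (.node (.node (.leaf (.up 4 1764 1)) (.leaf (.up 5 1972 3))) (.node (.leaf (.up 3 175 4)) (.leaf (.up 3 229 2)))) (.node (.node (.leaf (.up 4 2008 2)) (.leaf (.up 5 493 3))) (.node (.leaf (.up 3 941 3)) (.leaf (.up 5 1672 0))))))))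

noncomputable def vt3_0_000 : Tr VStep := .node vt3_0_0000 vt3_0_0001

noncomputable def vt3_0_0010 : Tr VStep :=
  .node (.node (.node (.node (.node (.node (.node (.leaf (.up 6 1018 4)) (.leaf (.up 6 843 1))) (.node (.leaf (.up 5 1288 3)) (.leaf (.up 2 1530 4)))) (.node (.node (.leaf (.up 4 1611 1)) (.leaf (.up 3 124 0))) (.node (.leaf (.up 3 530 2)) (.leaf (.up 5 177 4))))) (.node (.node (.node (.leaf (.up 4 1408 4)) (.leaf (.up 4 1407 3))) (.node (.leaf (.up 4 1855 3)) (.leaf (.up 4 896 4)))) (.node (.node (.leaf (.up 4 1092 1)) (.leaf (.up 3 773 2))) (.node (.leaf (.up 4 1538 2)) (.leaf (.up 5 651 3)))))) (.node (.node (.node (.node (.leaf (.up 4 10 2)) (.leaf (.up 3 301 2))) (.node (.leaf (.up 5 1066 2)) (.leaf (.up 6 1293 2)))) (.node (.node (.leaf (.up 5 1156 1)) (.leaf (.up 4 1995 1))) (.node (.leaf (.up 5 1552 2)) (.leaf (.up 6 345 3))))) (.node (.node (.node (.leaf (.up 4 1911 3)) (.leaf (.up 5 336 0))) (.node (.leaf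 (.up 5 1754 3)) (.leaf (.up 3 1335 3)))) (.node (.node (.leaf (.up 4 1568 2)) (.leaf (.up 5 707 3))) (.node (.leaf (.up 6 570 0)) (.leaf (.up 4 1753 0))))))) (.node (.node (.node (.node (.node (.leaf (.up 3 440 0)) (.leaf (.up 3 1371 0))) (.node (.leaf (.up 5 115 4)) (.leaf (.up 5 1097 4)))) (.node (.node (.leaf (.up 5 1233 2)) (.leaf (.up 4 824 4))) (.node (.leaf (.up 4 1336 1)) (.leaf (.up 5 722 0))))) (.node (.node (.node (.leaf (.up 4 246 3)) (.leaf (.up 1 9 4))) (.node (.leaf (.up 5 376 1)) (.leaf (.up 4 694 3)))) (.node (.node (.leaf (.up 5 376 4)) (.leaf (.up 5 1453 0))) (.node (.leaf (.up 5 1223 0)) (.leaf (.up 4 36 0)))))) (.node (.node (.node (.node (.leaf (.up 5 1267 4)) (.leaf (.up 4 1153 0))) (.node (.leaf (.up 3 440 1)) (.leaf (.up 2 2030 2)))) (.node (.node (.leaf (.up 3 440 4)) (.leaf (.up 4 1410 4))) (.node (.leaf (.up 5 1267 2)) (.leaf (.up 5 1976 4))))) (.node (.node (.node (.leaf (.up 4 649 1)) (.leaf (.up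 4 766 3))) (.node (.leaf (.up 6 1821 0)) (.leaf (.up 3 1022 0)))) (.node (.node (.leaf (.up 5 148 0)) (.leaf (.up 4 1016 4))) (.node (.leaf (.up 5 1767 3)) (.leaf (.up 4 450 4)))))))) (.node (.node (.node (.node (.node (.node (.leaf (.up 4 1179 0)) (.leaf (.up 5 268 1))) (.node (.leaf (.up 4 450 3)) (.leaf (.up 5 822 4)))) (.node (.node (.leaf (.up 4 1691 0)) (.leaf (.up 5 1859 1))) (.node (.leaf (.up 4 1947 3)) (.leaf (.up 3 1142 3))))) (.node (.node (.node (.leaf (.up 4 76 1)) (.leaf (.up 3 654 0))) (.node (.leaf (.up 5 374 4)) (.leaf (.up 4 573 1)))) (.node (.node (.leaf (.up 5 1543 4)) (.leaf (.up 4 573 4))) (.node (.leaf (.up 6 1853 1)) (.leaf (.up 3 1287 0)))))) (.node (.node (.node (.node (.leaf (.up 2 394 3)) (.leaf (.up 3 418 0))) (.node (.leaf (.up 5 438 4)) (.leaf (.up 4 765 1)))) (.node (.node (.leaf (.up 5 1731 1)) (.leaf (.up 4 765 4))) (.node (.leaf (.up 5 1277 4)) (.leaf (.up 5 1427 3))))) (.node (.node (.node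 (.leaf (.up 4 957 3)) (.leaf (.up 5 80 3))) (.node (.leaf (.up 3 528 3)) (.leaf (.up 5 1014 4)))) (.node (.node (.leaf (.up 5 189 4)) (.leaf (.up 4 1159 4))) (.node (.leaf (.up 4 647 4)) (.leaf (.up 5 1956 3))))))) (.node (.node (.node (.node (.node (.leaf (.up 4 14 1)) (.leaf (.up 5 387 2))) (.node (.leaf (.up 5 1156 2)) (.leaf (.up 5 1443 2)))) (.node (.node (.leaf (.up 4 462 4)) (.leaf (.up 4 1524 4))) (.node (.leaf (.up 3 1077 0)) (.leaf (.up 3 530 3))))) (.node (.node (.node (.leaf (.up 5 330 0)) (.leaf (.up 5 1427 2))) (.node (.leaf (.up 5 197 4)) (.leaf (.up 5 1660 3)))) (.node (.node (.leaf (.up 5 1972 4)) (.leaf (.up 5 1961 0))) (.node (.leaf (.up 5 1731 0)) (.leaf (.up 4 37 3)))))) (.node (.node (.node (.node (.leaf (.up 2 2030 3)) (.leaf (.up 4 398 1))) (.node (.leaf (.up 3 5 4)) (.leaf (.up 3 780 0)))) (.node (.node (.leaf (.up 6 1908 4)) (.leaf (.up 4 1979 2))) (.node (.leaf (.up 2 26 3)) (.leaf (.up 5 268 0)))))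 (.node (.node (.node (.leaf (.up 5 1497 3)) (.leaf (.up 3 1139 0))) (.node (.leaf (.up 4 1174 2)) (.leaf (.up 5 506 0)))) (.node (.node (.leaf (.up 4 652 2)) (.leaf (.up 3 1486 1))) (.node (.leaf (.up 4 820 4)) (.leaf (.up 5 448 3))))))))

noncomputable def vt3_0_0011 : Tr VStep :=
  .node (.node (.node (.node (.node (.node (.node (.leaf (.up 5 1364 2)) (.leaf (.up 3 1139 2))) (.node (.leaf (.up 5 869 1)) (.leaf (.up 5 42 1)))) (.node (.node (.leaf (.up 4 1906 0)) (.leaf (.up 4 1883 1))) (.node (.leaf (.up 2 1582 4)) (.leaf (.up 5 81 3))))) (.node (.node (.node (.leaf (.up 3 84 1)) (.leaf (.up 5 99 2))) (.node (.leaf (.up 3 525 0)) (.leaf (.up 3 1087 3)))) (.node (.node (.leaf (.up 4 38 3)) (.leaf (.up 5 1620 4))) (.node (.leaf (.up 3 84 4)) (.leaf (.up 4 1134 4)))))) (.node (.node (.node (.node (.leaf (.up 3 1192 0)) (.leaf (.up 3 987 1))) (.node (.leaf (.up 5 426 1)) (.leaf (.up 4 485 4)))) (.node (.node (.leaf (.up 5 1012 3))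 (.leaf (.up 5 25 3))) (.node (.leaf (.up 5 148 4)) (.leaf (.up 6 1194 1))))) (.node (.node (.node (.leaf (.up 5 1946 3)) (.leaf (.up 5 1445 4))) (.node (.leaf (.up 5 983 0)) (.leaf (.up 4 1844 0)))) (.node (.node (.leaf (.up 5 1118 0)) (.leaf (.up 4 1947 1))) (.node (.leaf (.up 6 471 0)) (.leaf (.up 3 899 3))))))) (.node (.node (.node (.node (.node (.leaf (.up 5 236 4)) (.leaf (.up 5 449 3))) (.node (.leaf (.up 5 296 1)) (.leaf (.up 5 1772 4)))) (.node (.node (.leaf (.up 4 1421 2)) (.leaf (.up 6 1194 2))) (.node (.leaf (.up 3 1500 0)) (.leaf (.up 4 935 4))))) (.node (.node (.node (.leaf (.up 4 27 3)) (.leaf (.up 3 684 4))) (.node (.leaf (.up 2 1322 0)) (.leaf (.up 4 1696 2)))) (.node (.node (.leaf (.up 4 1602 3)) (.leaf (.up 5 1817 1))) (.node (.leaf (.up 4 1834 0)) (.leaf (.up 5 1026 3)))))) (.node (.node (.node (.node (.leaf (.up 6 911 0)) (.leaf (.up 4 1900 0))) (.node (.leaf (.up 3 1542 0)) (.leaf (.up 5 393 3)))) (.node (.node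 (.leaf (.up 2 797 4)) (.leaf (.up 5 1661 3))) (.node (.leaf (.up 5 295 4)) (.leaf (.up 3 229 0))))) (.node (.node (.node (.leaf (.up 4 1957 2)) (.leaf (.up 3 1666 2))) (.node (.leaf (.up 5 488 1)) (.leaf (.up 4 19 0)))) (.node (.node (.leaf (.up 2 1439 2)) (.leaf (.up 5 1946 0))) (.node (.leaf (.up 5 1776 0)) (.leaf (.up 4 1256 1)))))))) (.node (.node (.node (.node (.node (.node (.leaf (.up 4 130 3)) (.leaf (.up 5 879 3))) (.node (.leaf (.up 5 303 3)) (.leaf (.up 5 621 1)))) (.node (.node (.leaf (.up 6 289 2)) (.leaf (.up 5 1334 3))) (.node (.leaf (.up 4 255 0)) (.leaf (.up 4 1179 3))))) (.node (.node (.node (.leaf (.up 4 693 3)) (.leaf (.up 3 348 1))) (.node (.leaf (.up 1 9 0)) (.leaf (.up 5 1258 0)))) (.node (.node (.leaf (.up 3 1116 1)) (.leaf (.up 5 1811 1))) (.node (.leaf (.up 4 1345 3)) (.leaf (.up 4 674 4)))))) (.node (.node (.node (.node (.leaf (.up 5 297 4)) (.leaf (.up 2 1598 2))) (.node (.leaf (.up 3 202 3)) (.leaf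 (.up 4 807 3)))) (.node (.node (.leaf (.up 2 1315 2)) (.leaf (.up 5 2003 1))) (.node (.leaf (.up 5 259 2)) (.leaf (.up 4 36 2))))) (.node (.node (.node (.leaf (.up 3 1875 4)) (.leaf (.up 3 185 0))) (.node (.leaf (.up 4 467 0)) (.leaf (.up 5 272 3)))) (.node (.node (.leaf (.up 4 1289 3)) (.leaf (.up 2 1570 4))) (.node (.leaf (.up 2 1188 3)) (.leaf (.up 4 1865 3))))))) (.node (.node (.node (.node (.node (.leaf (.up 4 593 1)) (.leaf (.up 6 1202 0))) (.node (.leaf (.up 5 1050 4)) (.leaf (.up 5 1190 3)))) (.node (.node (.leaf (.up 2 962 2)) (.leaf (.up 6 1714 0))) (.node (.leaf (.up 4 337 4)) (.leaf (.up 6 827 0))))) (.node (.node (.node (.leaf (.up 5 1233 3)) (.leaf (.up 6 785 1))) (.node (.leaf (.up 4 1404 3)) (.leaf (.up 6 973 0)))) (.node (.node (.leaf (.up 4 167 0)) (.leaf (.up 3 299 4))) (.node (.leaf (.up 4 1326 0)) (.leaf (.up 5 725 2)))))) (.node (.node (.node (.node (.leaf (.up 2 1530 2)) (.leaf (.up 4 1262 3))) (.node (.leaf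 (.up 5 1026 0)) (.leaf (.up 4 1690 4)))) (.node (.node (.leaf (.up 5 1489 4)) (.leaf (.up 3 1896 0))) (.node (.leaf (.up 4 1538 0)) (.leaf (.up 4 794 3))))) (.node (.node (.node (.leaf (.up 5 1332 3)) (.leaf (.up 4 1753 3))) (.node (.leaf (.up 4 1482 2)) (.leaf (.up 5 535 0)))) (.node (.node (.leaf (.up 4 877 3)) (.leaf (.up 4 759 2))) (.node (.leaf (.up 4 401 4)) (.leaf (.up 3 301 3))))))))

noncomputable def vt3_0_001 : Tr VStep := .node vt3_0_0010 vt3_0_0011

noncomputable def vt3_0_00 : Tr VStep := .node vt3_0_000 vt3_0_001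

noncomputable def vt3_0_0100 : Tr VStep :=
  .node (.node (.node (.node (.node (.node (.node (.leaf (.root 164)) (.leaf (.up 4 1993 3))) (.node (.leaf (.up 4 1824 1)) (.leaf (.up 3 1636 3)))) (.node (.node (.leaf (.up 5 637 3)) (.leaf (.up 5 1267 0))) (.node (.leaf (.up 6 976 3)) (.leaf (.up 5 378 0))))) (.node (.node (.node (.leaf (.up 3 1045 4)) (.leaf (.up 3 1534 3))) (.node (.leaf (.up 6 1982 3)) (.leaf (.up 2 1632 1)))) (.node (.node (.leaf (.up 5 732 2)) (.leaf (.up 3 1019 2))) (.node (.leaf (.up 6 868 4)) (.leaf (.up 3 522 3)))))) (.node (.node (.node (.node (.leaf (.up 5 1473 3)) (.leaf (.up 4 467 2))) (.node (.leaf (.up 5 1132 3)) (.leaf (.up 3 1921 3)))) (.node (.node (.leaf (.up 4 414 4)) (.leaf (.up 5 117 3))) (.node (.leaf (.up 6 932 4)) (.leaf (.up 4 1993 2))))) (.node (.node (.node (.leaf (.up 3 316 0)) (.leaf (.up 6 1425 1))) (.node (.leaf (.up 5 196 2)) (.leaf (.up 4 483 2)))) (.node (.node (.leaf (.up 3 431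 3)) (.leaf (.up 4 2015 0))) (.node (.leaf (.up 1 2 3)) (.leaf (.up 5 736 1))))))) (.node (.node (.node (.node (.node (.leaf (.up 3 1107 1)) (.leaf (.up 3 429 3))) (.node (.leaf (.up 4 1005 3)) (.leaf (.up 1 0 3)))) (.node (.node (.leaf (.up 5 1687 4)) (.leaf (.up 5 1288 2))) (.node (.leaf (.up 5 1197 4)) (.leaf (.up 5 296 2))))) (.node (.node (.node (.leaf (.up 5 517 2)) (.leaf (.up 3 1299 1))) (.node (.leaf (.up 3 1890 1)) (.leaf (.up 4 1069 1)))) (.node (.node (.leaf (.up 2 237 4)) (.leaf (.up 5 280 2))) (.node (.leaf (.up 3 301 1)) (.leaf (.up 4 1134 3)))))) (.node (.node (.node (.node (.leaf (.up 5 535 2)) (.leaf (.up 3 348 4))) (.node (.leaf (.up 4 520 3)) (.leaf (.up 4 870 4)))) (.node (.node (.leaf (.up 3 45 2)) (.leaf (.up 4 1047 4))) (.node (.leaf (.up 5 493 1)) (.leaf (.up 2 1322 2))))) (.node (.node (.node (.leaf (.up 4 1171 1)) (.leaf (.up 4 760 0))) (.node (.leaf (.up 4 914 0)) (.leaf (.up 5 978 3)))) (.node (.node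 (.leaf (.up 4 1995 3)) (.leaf (.up 5 621 4))) (.node (.leaf (.up 4 29 2)) (.leaf (.up 5 87 4)))))))) (.node (.node (.node (.node (.node (.node (.leaf (.up 3 1187 4)) (.leaf (.up 4 1271 0))) (.node (.leaf (.up 2 1383 1)) (.leaf (.up 6 382 0)))) (.node (.node (.leaf (.up 5 488 4)) (.leaf (.up 5 1370 3))) (.node (.leaf (.up 3 1187 2)) (.leaf (.up 4 1412 2))))) (.node (.node (.node (.leaf (.up 5 738 0)) (.leaf (.up 2 1537 0))) (.node (.leaf (.up 3 1896 1)) (.leaf (.up 5 942 2)))) (.node (.node (.leaf (.up 4 1152 3)) (.leaf (.up 4 936 4))) (.node (.leaf (.up 3 1325 3)) (.leaf (.up 4 1728 3)))))) (.node (.node (.node (.node (.leaf (.up 4 1686 1)) (.leaf (.up 3 1325 0))) (.node (.leaf (.up 5 667 2)) (.leaf (.up 5 1049 4)))) (.node (.node (.leaf (.up 4 1153 2)) (.leaf (.up 5 1215 3))) (.node (.leaf (.up 5 161 2)) (.leaf (.up 5 338 4))))) (.node (.node (.node (.leaf (.up 4 824 0)) (.leaf (.up 3 209 3))) (.node (.leaf (.up 4 1713 0)) (.leaf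 (.up 5 611 4)))) (.node (.node (.leaf (.up 5 296 4)) (.leaf (.up 5 409 1))) (.node (.leaf (.up 4 786 4)) (.leaf (.up 4 167 1))))))) (.node (.node (.node (.node (.node (.leaf (.up 4 1674 3)) (.leaf (.up 2 1383 3))) (.node (.leaf (.up 4 1834 1)) (.leaf (.up 4 1226 3)))) (.node (.node (.leaf (.up 4 608 2)) (.leaf (.up 4 464 0))) (.node (.leaf (.up 6 382 3)) (.leaf (.up 5 1895 2))))) (.node (.node (.node (.leaf (.up 6 1098 2)) (.leaf (.up 5 1389 2))) (.node (.leaf (.up 4 1317 1)) (.leaf (.up 5 1789 3)))) (.node (.node (.leaf (.up 6 1648 2)) (.leaf (.up 4 283 1))) (.node (.leaf (.up 6 588 0)) (.leaf (.up 4 37 1)))))) (.node (.node (.node (.node (.leaf (.up 5 1112 2)) (.leaf (.up 3 522 0))) (.node (.leaf (.up 5 120 2)) (.leaf (.up 5 1450 4)))) (.node (.node (.leaf (.up 5 1634 2)) (.leaf (.up 4 10 0))) (.node (.leaf (.up 5 938 1)) (.leaf (.up 3 229 1))))) (.node (.node (.node (.leaf (.up 4 1055 0)) (.leaf (.up 5 1717 3))) (.node (.leaf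 (.up 3 1269 3)) (.leaf (.up 5 1397 0)))) (.node (.node (.leaf (.up 5 769 3)) (.leaf (.up 5 1185 4))) (.node (.leaf (.up 3 684 3)) (.leaf (.up 4 1691 4))))))))

noncomputable def vt3_0_0101 : Tr VStep :=
  .node (.node (.node (.node (.node (.node (.node (.leaf (.up 3 202 4)) (.leaf (.up 5 1264 4))) (.node (.leaf (.up 2 394 2)) (.leaf (.up 4 1738 4)))) (.node (.node (.leaf (.up 4 1021 0)) (.leaf (.up 5 321 1))) (.node (.leaf (.up 4 1979 4)) (.leaf (.up 5 127 1))))) (.node (.node (.node (.leaf (.up 3 1614 1)) (.leaf (.up 3 1299 3))) (.node (.leaf (.up 3 1875 3)) (.leaf (.up 3 1087 1)))) (.node (.node (.leaf (.up 1 1 1)) (.leaf (.up 5 846 1))) (.node (.leaf (.up 4 1952 2)) (.leaf (.up 3 1671 2)))))) (.node (.node (.node (.node (.leaf (.up 6 1648 4)) (.leaf (.up 5 586 4))) (.node (.leaf (.up 4 1968 1)) (.leaf (.up 4 1900 3)))) (.node (.node (.leaf (.up 4 914 2)) (.leaf (.up 4 1732 0))) (.node (.leaf (.up 5 1970 2)) (.leaf (.up 5 309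 3))))) (.node (.node (.node (.leaf (.up 2 1464 2)) (.leaf (.up 3 1270 3))) (.node (.leaf (.up 5 408 2)) (.leaf (.up 3 1371 3)))) (.node (.node (.leaf (.up 3 209 0)) (.leaf (.up 3 1074 0))) (.node (.leaf (.up 4 930 2)) (.leaf (.up 5 443 0))))))) (.node (.node (.node (.node (.node (.leaf (.up 4 1865 2)) (.leaf (.up 4 1347 1))) (.node (.leaf (.up 5 873 2)) (.leaf (.up 2 237 3)))) (.node (.node (.leaf (.up 3 1074 4)) (.leaf (.up 1 8 4))) (.node (.leaf (.up 4 1369 3)) (.leaf (.up 3 116 2))))) (.node (.node (.node (.leaf (.up 4 1027 1)) (.leaf (.up 5 207 0))) (.node (.leaf (.up 4 1913 2)) (.leaf (.up 5 259 4)))) (.node (.node (.leaf (.up 4 355 2)) (.leaf (.up 4 1326 3))) (.node (.leaf (.up 4 1347 2)) (.leaf (.up 5 1155 3)))))) (.node (.node (.node (.node (.leaf (.up 5 840 3)) (.leaf (.up 4 620 2))) (.node (.leaf (.up 4 649 0)) (.leaf (.up 4 264 3)))) (.node (.node (.leaf (.up 3 1280 0)) (.leaf (.up 4 483 0))) (.node (.leaf (.up 5 1361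 2)) (.leaf (.up 3 1142 2))))) (.node (.node (.node (.leaf (.up 4 1883 2)) (.leaf (.up 4 658 3))) (.node (.leaf (.up 3 899 4)) (.leaf (.up 4 1180 0)))) (.node (.node (.leaf (.up 5 1830 3)) (.leaf (.up 6 789 0))) (.node (.leaf (.up 5 321 2)) (.leaf (.up 4 754 1)))))))) (.node (.node (.node (.node (.node (.node (.leaf (.up 1 3 3)) (.leaf (.up 4 1353 1))) (.node (.leaf (.up 5 1848 1)) (.leaf (.up 5 6 4)))) (.node (.node (.leaf (.up 6 479 2)) (.leaf (.up 4 1911 4))) (.node (.leaf (.up 3 1136 0)) (.leaf (.up 4 147 0))))) (.node (.node (.node (.leaf (.up 3 124 4)) (.leaf (.up 6 1516 0))) (.node (.leaf (.up 2 981 2)) (.leaf (.up 3 116 3)))) (.node (.node (.leaf (.up 3 1335 4)) (.leaf (.up 4 1920 3))) (.node (.leaf (.up 3 1472 3)) (.leaf (.up 4 55 1)))))) (.node (.node (.node (.node (.leaf (.up 5 547 0)) (.leaf (.up 4 1926 1))) (.node (.leaf (.up 4 75 3)) (.leaf (.up 5 736 2)))) (.node (.node (.leaf (.up 4 1983 3)) (.leaf (.up 4 1106 3)))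 (.node (.leaf (.up 5 1450 0)) (.leaf (.up 4 1535 3))))) (.node (.node (.node (.leaf (.up 5 213 0)) (.leaf (.up 5 60 3))) (.node (.leaf (.up 5 1276 4)) (.leaf (.up 4 401 3)))) (.node (.node (.leaf (.up 5 725 0)) (.leaf (.up 4 1590 0))) (.node (.leaf (.up 4 1517 2)) (.leaf (.up 4 1226 2))))))) (.node (.node (.node (.node (.node (.leaf (.up 5 262 2)) (.leaf (.up 6 911 4))) (.node (.leaf (.up 5 1318 2)) (.leaf (.up 5 437 4)))) (.node (.node (.leaf (.up 4 766 4)) (.leaf (.up 3 979 3))) (.node (.leaf (.up 5 196 4)) (.leaf (.up 5 1972 0))))) (.node (.node (.node (.leaf (.up 5 463 4)) (.leaf (.up 6 1981 3))) (.node (.leaf (.up 5 929 0)) (.leaf (.up 3 1077 1)))) (.node (.node (.leaf (.up 4 521 3)) (.leaf (.up 6 484 3))) (.node (.leaf (.up 3 780 2)) (.leaf (.up 5 644 4)))))) (.node (.node (.node (.node (.leaf (.up 4 1922 3)) (.leaf (.up 4 1135 3))) (.node (.leaf (.up 5 141 0)) (.leaf (.up 1 3 2)))) (.node (.node (.leaf (.up 4 1854 2)) (.leaf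 (.up 5 900 1))) (.node (.leaf (.up 3 501 1)) (.leaf (.up 6 698 1))))) (.node (.node (.node (.leaf (.up 5 1163 1)) (.leaf (.up 5 51 2))) (.node (.leaf (.up 5 635 0)) (.leaf (.up 4 373 4)))) (.node (.node (.leaf (.up 4 814 2)) (.leaf (.up 1 1 3))) (.node (.leaf (.up 5 577 3)) (.leaf (.up 5 428 3))))))))

noncomputable def vt3_0_010 : Tr VStep := .node vt3_0_0100 vt3_0_0101

noncomputable def vt3_0_0110 : Tr VStep :=
  .node (.node (.node (.node (.node (.node (.node (.leaf (.up 4 1353 3)) (.leaf (.up 5 1700 3))) (.node (.leaf (.up 5 262 0)) (.leaf (.up 2 26 1)))) (.node (.node (.leaf (.up 4 1060 1)) (.leaf (.up 4 620 0))) (.node (.leaf (.up 3 363 4)) (.leaf (.up 5 1621 1))))) (.node (.node (.node (.leaf (.up 4 1262 2)) (.leaf (.up 3 666 0))) (.node (.leaf (.up 4 1747 3)) (.leaf (.up 2 1632 4)))) (.node (.node (.leaf (.up 5 295 3)) (.leaf (.up 4 154 0))) (.node (.leaf (.up 4 138 3)) (.leaf (.up 3 979 2)))))) (.node (.node (.node (.node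 (.leaf (.up 4 1196 3)) (.leaf (.up 5 438 0))) (.node (.leaf (.up 3 666 4)) (.leaf (.up 3 507 2)))) (.node (.node (.leaf (.up 5 1515 4)) (.leaf (.up 5 280 3))) (.node (.leaf (.up 5 732 0)) (.leaf (.up 5 1599 0))))) (.node (.node (.node (.leaf (.up 4 1691 3)) (.leaf (.up 5 736 4))) (.node (.leaf (.up 4 1846 3)) (.leaf (.up 5 1515 2)))) (.node (.node (.leaf (.up 4 194 3)) (.leaf (.up 5 320 0))) (.node (.leaf (.up 5 1782 2)) (.leaf (.up 6 1425 4))))))) (.node (.node (.node (.node (.node (.leaf (.up 3 813 3)) (.leaf (.up 5 915 4))) (.node (.leaf (.up 4 640 3)) (.leaf (.up 5 1818 2)))) (.node (.node (.leaf (.up 5 1396 3)) (.leaf (.up 4 1689 3))) (.node (.leaf (.up 5 1241 3)) (.leaf (.up 4 1844 3))))) (.node (.node (.node (.leaf (.up 4 467 4)) (.leaf (.up 4 759 3))) (.node (.leaf (.up 6 557 2)) (.leaf (.up 5 778 2)))) (.node (.node (.leaf (.up 5 1859 3)) (.leaf (.up 6 1296 2))) (.node (.leaf (.up 5 1698 4)) (.leaf (.up 5 1283 3))))))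 (.node (.node (.node (.node (.leaf (.up 6 712 3)) (.leaf (.up 5 1848 2))) (.node (.leaf (.up 4 575 2)) (.leaf (.up 3 792 0)))) (.node (.node (.leaf (.up 5 1190 1)) (.leaf (.up 5 1169 0))) (.node (.leaf (.up 3 5 2)) (.leaf (.up 5 280 0))))) (.node (.node (.node (.leaf (.up 4 255 3)) (.leaf (.up 4 786 3))) (.node (.leaf (.up 5 338 3)) (.leaf (.up 4 1800 2)))) (.node (.node (.leaf (.up 5 546 4)) (.leaf (.up 4 1355 3))) (.node (.leaf (.up 3 1045 2)) (.leaf (.up 4 1006 0)))))))) (.node (.node (.node (.node (.node (.node (.leaf (.up 4 1713 2)) (.leaf (.up 4 616 0))) (.node (.leaf (.up 6 46 3)) (.leaf (.up 5 963 3)))) (.node (.node (.leaf (.up 4 1635 1)) (.leaf (.up 6 104 0))) (.node (.leaf (.up 6 1959 4)) (.leaf (.up 5 1434 3))))) (.node (.node (.node (.leaf (.up 3 1149 0)) (.leaf (.up 3 662 4))) (.node (.leaf (.up 2 797 1)) (.leaf (.up 3 1303 0)))) (.node (.node (.leaf (.up 4 1517 3)) (.leaf (.up 4 1536 3))) (.node (.leaf (.up 5 1088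 3)) (.leaf (.up 4 1965 3)))))) (.node (.node (.node (.node (.leaf (.up 6 691 2)) (.leaf (.up 5 428 1))) (.node (.leaf (.up 5 989 1)) (.leaf (.up 5 1972 2)))) (.node (.node (.leaf (.up 4 807 4)) (.leaf (.up 6 1821 4))) (.node (.leaf (.up 5 1938 3)) (.leaf (.up 6 1757 1))))) (.node (.node (.node (.leaf (.up 4 593 3)) (.leaf (.up 4 931 1))) (.node (.leaf (.up 5 1020 3)) (.leaf (.up 6 17 3)))) (.node (.node (.leaf (.up 6 1959 0)) (.leaf (.up 5 2021 3))) (.node (.leaf (.up 3 185 2)) (.leaf (.up 4 861 4))))))) (.node (.node (.node (.node (.node (.leaf (.up 4 1106 2)) (.leaf (.up 5 1375 4))) (.node (.leaf (.up 5 1610 3)) (.leaf (.up 3 341 2)))) (.node (.node (.leaf (.up 4 1070 1)) (.leaf (.up 4 595 3))) (.node (.leaf (.up 4 19 3)) (.leaf (.up 3 1022 3))))) (.node (.node (.node (.leaf (.up 5 1823 4)) (.leaf (.up 6 357 2))) (.node (.leaf (.up 3 1149 3)) (.leaf (.up 5 1936 3)))) (.node (.node (.leaf (.up 4 905 3)) (.leaf (.up 6 1390 1)))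 (.node (.leaf (.up 5 1823 1)) (.leaf (.up 3 48 0)))))) (.node (.node (.node (.node (.leaf (.up 4 1538 3)) (.leaf (.up 2 997 4))) (.node (.leaf (.up 3 1136 2)) (.leaf (.up 5 1090 3)))) (.node (.node (.leaf (.up 4 630 0)) (.leaf (.up 5 1454 1))) (.node (.leaf (.up 3 502 3)) (.leaf (.up 4 1172 4))))) (.node (.node (.node (.leaf (.up 3 1077 3)) (.leaf (.up 2 1439 4))) (.node (.leaf (.up 4 1801 0)) (.leaf (.up 4 1957 4)))) (.node (.node (.leaf (.up 2 1658 2)) (.leaf (.up 5 385 3))) (.node (.leaf (.up 4 1289 0)) (.leaf (.up 6 44 3))))))))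

noncomputable def vt3_0_0111 : Tr VStep :=
  .node (.node (.node (.node (.node (.node (.node (.leaf (.up 3 418 2)) (.leaf (.up 3 891 1))) (.node (.leaf (.up 4 747 0)) (.leaf (.up 5 581 1)))) (.node (.node (.leaf (.up 4 1021 3)) (.leaf (.up 3 1486 4))) (.node (.leaf (.up 4 1861 1)) (.leaf (.up 6 445 3))))) (.node (.node (.node (.leaf (.up 5 571 1)) (.leaf (.up 5 1173 2))) (.node (.leaf (.up 2 1598 3)) (.leaf (.up 5 1491 3)))) (.node (.node (.leaf (.up 3 1928 2)) (.leaf (.up 5 1711 2))) (.node (.leaf (.up 4 103 3)) (.leaf (.up 4 398 4)))))) (.node (.node (.node (.node (.leaf (.up 5 517 4)) (.leaf (.up 4 1159 2))) (.node (.leaf (.up 4 817 0)) (.leaf (.up 2 1537 3)))) (.node (.node (.leaf (.up 5 1946 2)) (.leaf (.up 3 884 4))) (.node (.leaf (.up 4 305 0)) (.leaf (.up 5 88 3))))) (.node (.node (.node (.leaf (.up 5 1102 0)) (.leaf (.up 5 151 2))) (.node (.leaf (.up 4 458 1)) (.leaf (.up 5 1207 2)))) (.node (.node (.leaf (.up 3 1614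 0)) (.leaf (.up 2 962 3))) (.node (.leaf (.up 5 967 0)) (.leaf (.up 2 623 3))))))) (.node (.node (.node (.node (.node (.leaf (.up 5 960 3)) (.leaf (.up 3 45 3))) (.node (.leaf (.up 4 1846 4)) (.leaf (.up 1 8 1)))) (.node (.node (.leaf (.up 5 71 4)) (.leaf (.up 3 1149 4))) (.node (.leaf (.up 3 1371 2)) (.leaf (.up 5 1148 2))))) (.node (.node (.node (.leaf (.up 4 886 4)) (.leaf (.up 6 825 1))) (.node (.leaf (.up 5 328 1)) (.leaf (.up 6 985 0)))) (.node (.node (.leaf (.up 5 1593 1)) (.leaf (.up 4 1100 2))) (.node (.leaf (.up 4 1338 0)) (.leaf (.up 6 61 4)))))) (.node (.node (.node (.node (.leaf (.up 5 1859 2)) (.leaf (.up 3 1636 2))) (.node (.leaf (.up 5 396 4)) (.leaf (.up 6 245 0)))) (.node (.node (.leaf (.up 5 1789 4)) (.leaf (.up 5 1118 2))) (.node (.leaf (.up 3 1991 1)) (.leaf (.up 5 253 4))))) (.node (.node (.node (.leaf (.up 4 18 3)) (.leaf (.up 3 502 1))) (.node (.leaf (.up 6 903 1)) (.leaf (.up 5 1620 2)))) (.node (.node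 (.leaf (.up 3 135 4)) (.leaf (.up 6 1977 1))) (.node (.leaf (.up 3 1480 1)) (.leaf (.up 1 3 0)))))))) (.node (.node (.node (.node (.node (.node (.leaf (.up 4 627 1)) (.leaf (.up 3 316 1))) (.node (.leaf (.up 6 973 2)) (.leaf (.up 1 2 1)))) (.node (.node (.leaf (.up 5 1848 4)) (.leaf (.up 5 1264 2))) (.node (.leaf (.up 4 1690 3)) (.leaf (.up 5 1613 1))))) (.node (.node (.node (.leaf (.up 3 124 1)) (.leaf (.up 5 51 4))) (.node (.leaf (.up 4 1587 4)) (.leaf (.up 3 525 1)))) (.node (.node (.leaf (.up 3 1280 3)) (.leaf (.up 4 1404 1))) (.node (.leaf (.up 5 1197 3)) (.leaf (.up 5 1856 3)))))) (.node (.node (.node (.node (.leaf (.up 5 139 3)) (.leaf (.up 4 870 3))) (.node (.leaf (.up 5 1999 2)) (.leaf (.up 5 1768 2)))) (.node (.node (.leaf (.up 5 1779 1)) (.leaf (.up 2 1464 4))) (.node (.leaf (.up 5 1919 3)) (.leaf (.up 3 1170 3))))) (.node (.node (.node (.leaf (.up 5 1610 0)) (.leaf (.up 4 337 3))) (.node (.leaf (.up 5 991 2)) (.leaf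 (.up 4 760 2)))) (.node (.node (.leaf (.up 5 1276 1)) (.leaf (.up 2 962 4))) (.node (.leaf (.up 4 485 2)) (.leaf (.up 4 1701 3))))))) (.node (.node (.node (.node (.node (.leaf (.up 4 1294 2)) (.leaf (.up 4 1065 2))) (.node (.leaf (.up 5 506 4)) (.leaf (.up 1 9 2)))) (.node (.node (.leaf (.up 4 1844 2)) (.leaf (.up 4 689 4))) (.node (.leaf (.up 3 1480 0)) (.leaf (.up 3 299 0))))) (.node (.node (.node (.leaf (.up 6 286 2)) (.leaf (.up 4 57 2))) (.node (.leaf (.up 4 1920 4)) (.leaf (.up 4 954 4)))) (.node (.node (.leaf (.up 5 695 0)) (.leaf (.up 5 137 3))) (.node (.leaf (.up 4 1854 0)) (.leaf (.up 5 1571 2)))))) (.node (.node (.node (.node (.leaf (.up 5 753 1)) (.leaf (.up 5 320 4))) (.node (.leaf (.up 5 1856 4)) (.leaf (.up 4 890 4)))) (.node (.node (.leaf (.up 5 49 4)) (.leaf (.up 5 1035 4))) (.node (.leaf (.up 4 1408 1)) (.leaf (.up 5 758 3))))) (.node (.node (.node (.leaf (.up 5 1240 3)) (.leaf (.up 4 945 1))) (.node (.leaf (.up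 3 316 2)) (.leaf (.up 3 1280 4)))) (.node (.node (.leaf (.up 4 877 0)) (.leaf (.up 2 625 4))) (.node (.leaf (.up 2 1137 4)) (.leaf (.up 4 75 4))))))))

noncomputable def vt3_0_011 : Tr VStep := .node vt3_0_0110 vt3_0_0111

noncomputable def vt3_0_01 : Tr VStep := .node vt3_0_010 vt3_0_011

noncomputable def vt3_0_0 : Tr VStep := .node vt3_0_00 vt3_0_01

noncomputable def vt3_0_1000 : Tr VStep :=
  .node (.node (.node (.node (.node (.node (.node (.leaf (.root 494)) (.leaf (.up 5 571 4))) (.node (.leaf (.up 5 1448 3)) (.leaf (.up 1 1 4)))) (.node (.node (.leaf (.up 4 604 3)) (.leaf (.up 3 433 3))) (.node (.leaf (.up 4 1784 0)) (.leaf (.up 4 573 2))))) (.node (.node (.node (.leaf (.up 5 1586 3)) (.leaf (.up 3 202 1))) (.node (.leaf (.up 5 577 4)) (.leaf (.up 4 1138 3)))) (.node (.node (.leaf (.up 4 1482 1)) (.leaf (.up 3 525 2))) (.node (.leaf (.up 4 1038 0)) (.leaf (.up 2 237 0)))))) (.node (.node (.node (.node (.leaf (.up 4 1504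 3)) (.leaf (.up 4 37 2))) (.node (.leaf (.up 4 1101 3)) (.leaf (.up 4 1029 2)))) (.node (.node (.leaf (.up 4 824 2)) (.leaf (.up 3 84 3))) (.node (.leaf (.up 5 532 3)) (.leaf (.up 5 1599 2))))) (.node (.node (.node (.leaf (.up 5 330 1)) (.leaf (.up 3 1077 2))) (.node (.leaf (.up 2 1658 3)) (.leaf (.up 4 21 2)))) (.node (.node (.leaf (.up 4 398 3)) (.leaf (.up 4 1968 4))) (.node (.leaf (.up 5 1492 0)) (.leaf (.up 5 1396 1))))))) (.node (.node (.node (.node (.node (.leaf (.up 5 1970 4)) (.leaf (.up 4 1732 2))) (.node (.leaf (.up 5 991 0)) (.leaf (.up 5 438 1)))) (.node (.node (.leaf (.up 5 1497 2)) (.leaf (.up 5 1731 4))) (.node (.leaf (.up 6 479 0)) (.leaf (.up 4 1656 3))))) (.node (.node (.node (.leaf (.up 4 456 1)) (.leaf (.up 4 67 0))) (.node (.leaf (.up 3 507 3)) (.leaf (.up 4 1482 0)))) (.node (.node (.leaf (.up 4 1696 0)) (.leaf (.up 3 185 4))) (.node (.leaf (.up 4 1513 2)) (.leaf (.up 5 643 4)))))) (.node (.node (.node (.node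 (.leaf (.up 2 993 2)) (.leaf (.up 4 105 3))) (.node (.leaf (.up 5 54 1)) (.leaf (.up 4 1800 4)))) (.node (.node (.leaf (.up 6 1863 1)) (.leaf (.up 6 1584 3))) (.node (.leaf (.up 3 5 0)) (.leaf (.up 4 1244 2))))) (.node (.node (.node (.leaf (.up 4 1906 4)) (.leaf (.up 4 72 1))) (.node (.leaf (.up 5 30 3)) (.leaf (.up 4 1040 0)))) (.node (.node (.leaf (.up 5 1483 2)) (.leaf (.up 4 1260 2))) (.node (.leaf (.up 1 3 4)) (.leaf (.up 5 1450 3)))))))) (.node (.node (.node (.node (.node (.node (.leaf (.up 5 207 3)) (.leaf (.up 4 616 2))) (.node (.leaf (.up 4 759 4)) (.leaf (.up 4 655 3)))) (.node (.node (.leaf (.up 4 1410 1)) (.leaf (.up 4 1403 3))) (.node (.leaf (.up 5 1276 0)) (.leaf (.up 4 31 0))))) (.node (.node (.node (.leaf (.up 4 760 3)) (.leaf (.up 4 1656 2))) (.node (.leaf (.up 5 853 3)) (.leaf (.up 5 233 0)))) (.node (.node (.leaf (.up 3 1933 1)) (.leaf (.up 5 1090 2))) (.node (.leaf (.up 4 1715 1)) (.leaf (.up 5 1532 1))))))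 (.node (.node (.node (.node (.leaf (.up 4 298 3)) (.leaf (.up 5 1612 0))) (.node (.leaf (.up 3 135 3)) (.leaf (.up 5 586 2)))) (.node (.node (.leaf (.up 3 175 0)) (.leaf (.up 4 1100 0))) (.node (.leaf (.up 5 1318 0)) (.leaf (.up 5 1331 3))))) (.node (.node (.node (.leaf (.up 2 797 3)) (.leaf (.up 4 240 3))) (.node (.leaf (.up 4 1917 2)) (.leaf (.up 6 1549 4)))) (.node (.node (.leaf (.up 5 1348 3)) (.leaf (.up 4 1722 0))) (.node (.leaf (.up 5 1257 3)) (.leaf (.up 6 1843 1))))))) (.node (.node (.node (.node (.node (.leaf (.up 4 1106 0)) (.leaf (.up 5 177 0))) (.node (.leaf (.up 6 1798 3)) (.leaf (.up 4 1336 0)))) (.node (.node (.leaf (.up 3 1077 4)) (.leaf (.up 4 689 0))) (.node (.leaf (.up 3 987 0)) (.leaf (.up 5 1848 0))))) (.node (.node (.node (.leaf (.up 4 1180 3)) (.leaf (.up 4 830 4))) (.node (.leaf (.up 3 813 0)) (.leaf (.up 3 1998 0)))) (.node (.node (.leaf (.up 2 1188 0)) (.leaf (.up 5 71 0))) (.node (.leaf (.up 3 301 0))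 (.leaf (.up 3 1486 0)))))) (.node (.node (.node (.node (.leaf (.up 5 1454 2)) (.leaf (.up 1 0 1))) (.node (.leaf (.up 1 1 0)) (.leaf (.up 4 1294 3)))) (.node (.node (.leaf (.up 3 1928 0)) (.leaf (.up 4 875 0))) (.node (.leaf (.up 5 1086 1)) (.leaf (.up 5 855 3))))) (.node (.node (.node (.leaf (.up 5 320 1)) (.leaf (.up 4 1412 4))) (.node (.leaf (.up 4 759 0)) (.leaf (.up 4 817 1)))) (.node (.node (.leaf (.up 3 1269 4)) (.leaf (.up 5 207 4))) (.node (.leaf (.up 5 1956 2)) (.leaf (.up 5 352 3))))))))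

noncomputable def vt3_0_1001 : Tr VStep :=
  .node (.node (.node (.node (.node (.node (.node (.leaf (.root 183)) (.leaf (.up 4 1403 2))) (.node (.leaf (.up 3 124 2)) (.leaf (.up 5 1014 0)))) (.node (.node (.leaf (.up 4 689 3)) (.leaf (.up 3 348 3))) (.node (.leaf (.up 2 981 4)) (.leaf (.up 3 502 0))))) (.node (.node (.node (.leaf (.up 4 76 2)) (.leaf (.up 3 363 2))) (.node (.leaf (.up 3 1507 0)) (.leaf (.up 4 1355 2)))) (.node (.node (.leaf (.up 4 1941 1)) (.leaf (.up 4 875 3))) (.node (.leaf (.up 3 299 3)) (.leaf (.up 5 710 3)))))) (.node (.node (.node (.node (.leaf (.up 6 1293 3)) (.leaf (.up 4 1957 0))) (.node (.leaf (.up 4 36 1)) (.leaf (.up 4 1369 2)))) (.node (.node (.leaf (.up 4 612 2)) (.leaf (.up 3 185 3))) (.node (.leaf (.up 6 1643 1)) (.leaf (.up 3 341 4))))) (.node (.node (.node (.leaf (.up 5 1124 4)) (.leaf (.up 6 1239 3))) (.node (.leaf (.up 5 1687 3)) (.leaf (.up 4 612 4)))) (.node (.node (.leaf (.up 4 355 3))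 (.leaf (.up 3 1875 0))) (.node (.leaf (.up 5 1593 0)) (.leaf (.up 3 803 3))))))) (.node (.node (.node (.node (.node (.leaf (.up 3 1303 4)) (.leaf (.up 3 301 4))) (.node (.leaf (.up 5 1837 4)) (.leaf (.up 5 1233 0)))) (.node (.node (.leaf (.up 4 1979 0)) (.leaf (.up 5 1848 3))) (.node (.leaf (.up 5 1400 3)) (.leaf (.up 5 1628 4))))) (.node (.node (.node (.leaf (.up 4 877 4)) (.leaf (.up 5 942 0))) (.node (.leaf (.up 5 278 3)) (.leaf (.up 5 1389 4)))) (.node (.node (.leaf (.up 6 149 2)) (.leaf (.up 5 1687 1))) (.node (.leaf (.up 4 1871 3)) (.leaf (.up 4 38 4)))))) (.node (.node (.node (.node (.leaf (.up 3 941 4)) (.leaf (.up 3 1943 4))) (.node (.leaf (.up 5 488 0)) (.leaf (.up 5 297 3)))) (.node (.node (.leaf (.up 3 135 2)) (.leaf (.up 5 732 4))) (.node (.leaf (.up 4 1244 4)) (.leaf (.up 4 1904 3))))) (.node (.node (.node (.leaf (.up 4 344 1)) (.leaf (.up 4 628 0))) (.node (.leaf (.up 5 798 0)) (.leaf (.up 5 798 3)))) (.node (.node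 (.leaf (.up 4 1175 0)) (.leaf (.up 3 116 0))) (.node (.leaf (.up 6 286 0)) (.leaf (.up 5 400 2)))))))) (.node (.node (.node (.node (.node (.node (.leaf (.up 4 34 3)) (.leaf (.up 4 820 2))) (.node (.leaf (.up 4 1587 2)) (.leaf (.up 4 1812 2)))) (.node (.node (.leaf (.up 4 41 2)) (.leaf (.up 3 1170 1))) (.node (.leaf (.up 4 1305 4)) (.leaf (.up 4 1326 2))))) (.node (.node (.node (.leaf (.up 4 533 3)) (.leaf (.up 5 40 4))) (.node (.leaf (.up 5 547 2)) (.leaf (.up 3 492 1)))) (.node (.node (.leaf (.up 4 1100 3)) (.leaf (.up 6 1379 4))) (.node (.leaf (.up 4 1260 1)) (.leaf (.up 4 1881 4)))))) (.node (.node (.node (.node (.leaf (.up 4 861 1)) (.leaf (.up 4 1441 0))) (.node (.leaf (.up 5 611 1)) (.leaf (.up 5 40 0)))) (.node (.node (.leaf (.up 5 409 4)) (.leaf (.up 3 1139 3))) (.node (.leaf (.up 4 1587 3)) (.leaf (.up 3 1502 3))))) (.node (.node (.node (.leaf (.up 5 338 1)) (.leaf (.up 4 29 3))) (.node (.leaf (.up 6 146 4)) (.leaf (.up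 3 1192 4)))) (.node (.node (.leaf (.up 6 1821 1)) (.leaf (.up 4 1106 1))) (.node (.leaf (.up 5 1497 4)) (.leaf (.up 4 483 4))))))) (.node (.node (.node (.node (.node (.leaf (.up 3 987 4)) (.leaf (.up 5 1451 3))) (.node (.leaf (.up 5 2027 3)) (.leaf (.up 4 1749 0)))) (.node (.node (.leaf (.up 4 31 3)) (.leaf (.up 3 348 0))) (.node (.leaf (.up 5 54 0)) (.leaf (.up 5 607 3))))) (.node (.node (.node (.leaf (.up 2 1137 3)) (.leaf (.up 5 426 0))) (.node (.leaf (.up 3 1500 3)) (.leaf (.up 5 929 1)))) (.node (.node (.leaf (.up 4 1865 0)) (.leaf (.up 5 938 0))) (.node (.leaf (.up 4 704 0)) (.leaf (.up 5 1571 0)))))) (.node (.node (.node (.node (.leaf (.up 5 272 1)) (.leaf (.up 5 1493 2))) (.node (.leaf (.up 4 1883 4)) (.leaf (.up 3 1807 0)))) (.node (.node (.leaf (.up 5 506 3)) (.leaf (.up 4 1040 1))) (.node (.leaf (.up 3 492 0)) (.leaf (.up 3 1578 4))))) (.node (.node (.node (.leaf (.up 4 1171 0)) (.leaf (.up 4 1657 3))) (.node (.leaf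 (.up 6 289 4)) (.leaf (.up 5 1509 2)))) (.node (.node (.leaf (.up 6 973 3)) (.leaf (.up 4 624 0))) (.node (.leaf (.up 4 1134 1)) (.leaf (.up 4 2015 2))))))))

noncomputable def vt3_0_100 : Tr VStep := .node vt3_0_1000 vt3_0_1001

noncomputable def vt3_0_1010 : Tr VStep :=
  .node (.node (.node (.node (.node (.node (.node (.leaf (.up 2 2030 0)) (.leaf (.up 3 781 0))) (.node (.leaf (.up 4 1217 1)) (.leaf (.up 5 1140 4)))) (.node (.node (.leaf (.up 4 817 3)) (.leaf (.up 3 773 4))) (.node (.leaf (.up 2 668 3)) (.leaf (.up 4 369 3))))) (.node (.node (.node (.leaf (.up 4 2032 1)) (.leaf (.up 3 507 0))) (.node (.leaf (.up 5 145 0)) (.leaf (.up 4 31 2)))) (.node (.node (.leaf (.up 5 262 3)) (.leaf (.up 3 1019 0))) (.node (.leaf (.up 6 895 4)) (.leaf (.up 4 1861 4)))))) (.node (.node (.node (.node (.leaf (.up 6 1588 0)) (.leaf (.up 4 1069 2))) (.node (.leaf (.up 4 298 2)) (.leaf (.up 4 13 2)))) (.node (.node (.leaf (.up 4 724 3)) (.leaf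 (.up 4 215 0))) (.node (.leaf (.up 4 889 3)) (.leaf (.up 3 1374 0))))) (.node (.node (.node (.leaf (.up 4 1722 3)) (.leaf (.up 5 1367 3))) (.node (.leaf (.up 4 1338 2)) (.leaf (.up 5 1448 0)))) (.node (.node (.leaf (.up 5 227 3)) (.leaf (.up 5 63 1))) (.node (.leaf (.up 5 590 1)) (.leaf (.up 5 257 1))))))) (.node (.node (.node (.node (.node (.leaf (.up 3 780 3)) (.leaf (.up 5 225 3))) (.node (.leaf (.up 4 673 3)) (.leaf (.up 5 419 0)))) (.node (.node (.leaf (.up 4 1676 4)) (.leaf (.up 3 1578 0))) (.node (.leaf (.up 5 1856 0)) (.leaf (.up 4 140 4))))) (.node (.node (.node (.leaf (.up 4 575 0)) (.leaf (.up 6 726 3))) (.node (.leaf (.up 3 987 2)) (.leaf (.up 3 891 3)))) (.node (.node (.leaf (.up 3 1890 3)) (.leaf (.up 4 1244 0))) (.node (.leaf (.up 5 1743 3)) (.leaf (.up 3 341 0)))))) (.node (.node (.node (.node (.leaf (.up 5 1405 1)) (.leaf (.up 5 1586 1))) (.node (.leaf (.up 6 1863 4)) (.leaf (.up 5 169 3)))) (.node (.node (.leaf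 (.up 5 54 4)) (.leaf (.up 4 2032 0))) (.node (.leaf (.up 4 1690 0)) (.leaf (.up 4 1590 4))))) (.node (.node (.node (.leaf (.up 2 997 0)) (.leaf (.up 6 1853 4))) (.node (.leaf (.up 5 317 4)) (.leaf (.up 3 1287 4)))) (.node (.node (.leaf (.up 3 1671 3)) (.leaf (.up 4 630 4))) (.node (.leaf (.up 1 3 1)) (.leaf (.up 4 76 4)))))))) (.node (.node (.node (.node (.node (.node (.leaf (.up 3 418 3)) (.leaf (.up 2 1632 2))) (.node (.leaf (.up 3 1666 4)) (.leaf (.up 4 576 2)))) (.node (.node (.leaf (.up 4 2043 3)) (.leaf (.up 3 777 0))) (.node (.leaf (.up 5 611 0)) (.leaf (.up 4 1664 0))))) (.node (.node (.node (.leaf (.up 5 1820 0)) (.leaf (.up 4 1784 1))) (.node (.leaf (.up 4 1911 2)) (.leaf (.up 5 469 3)))) (.node (.node (.leaf (.up 4 1016 1)) (.leaf (.up 6 947 4))) (.node (.leaf (.up 5 710 1)) (.leaf (.up 3 1142 0)))))) (.node (.node (.node (.node (.leaf (.up 5 837 2)) (.leaf (.up 5 610 2))) (.node (.leaf (.up 5 1097 1)) (.leaf (.up 4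 1602 2)))) (.node (.node (.leaf (.up 2 1566 3)) (.leaf (.up 5 88 2))) (.node (.leaf (.up 4 1971 3)) (.leaf (.up 5 1882 0))))) (.node (.node (.node (.leaf (.up 4 624 3)) (.leaf (.up 5 549 0))) (.node (.leaf (.up 4 1602 4)) (.leaf (.up 3 48 3)))) (.node (.node (.leaf (.up 4 1065 3)) (.leaf (.up 4 37 0))) (.node (.leaf (.up 1 9 1)) (.leaf (.up 6 1641 3))))))) (.node (.node (.node (.node (.node (.leaf (.up 6 1291 4)) (.leaf (.up 2 1582 0))) (.node (.leaf (.up 5 388 2)) (.leaf (.up 4 935 0)))) (.node (.node (.leaf (.up 4 954 1)) (.leaf (.up 4 1070 0))) (.node (.leaf (.up 5 644 1)) (.leaf (.up 5 991 3))))) (.node (.node (.node (.leaf (.up 6 1521 3)) (.leaf (.up 4 147 2))) (.node (.leaf (.up 3 1116 3)) (.leaf (.up 4 337 0)))) (.node (.node (.leaf (.up 4 936 3)) (.leaf (.up 5 1752 0))) (.node (.leaf (.up 5 517 3)) (.leaf (.up 5 488 3)))))) (.node (.node (.node (.node (.leaf (.up 4 945 4)) (.leaf (.up 3 1486 3))) (.node (.leaf (.up 3 395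 4)) (.leaf (.up 4 1355 1)))) (.node (.node (.leaf (.up 3 279 0)) (.leaf (.up 4 704 4))) (.node (.leaf (.up 4 75 1)) (.leaf (.up 4 1691 2))))) (.node (.node (.node (.leaf (.up 5 1483 4)) (.leaf (.up 2 1658 1))) (.node (.leaf (.up 4 1128 0)) (.leaf (.up 5 177 2)))) (.node (.node (.leaf (.up 2 993 0)) (.leaf (.up 5 1707 2))) (.node (.leaf (.up 5 992 3)) (.leaf (.up 4 13 3))))))))

noncomputable def vt3_0_1011 : Tr VStep :=
  .node (.node (.node (.node (.node (.node (.node (.leaf (.up 3 84 2)) (.leaf (.up 6 371 2))) (.node (.leaf (.up 2 394 0)) (.leaf (.up 5 1489 1)))) (.node (.node (.leaf (.up 3 988 3)) (.leaf (.up 5 49 3))) (.node (.leaf (.up 2 625 3)) (.leaf (.up 4 412 3))))) (.node (.node (.node (.leaf (.up 4 1092 2)) (.leaf (.up 6 1379 2))) (.node (.leaf (.up 5 892 0)) (.leaf (.up 4 323 2)))) (.node (.node (.leaf (.up 3 1269 0)) (.leaf (.up 3 175 1))) (.node (.leaf (.up 5 70 3)) (.leaf (.up 2 1439 0)))))) (.node (.node (.node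 (.node (.leaf (.up 5 1497 0)) (.leaf (.up 3 1933 3))) (.node (.leaf (.up 5 118 2)) (.leaf (.up 4 1568 3)))) (.node (.node (.leaf (.up 5 2009 0)) (.leaf (.up 5 1818 4))) (.node (.leaf (.up 6 588 2)) (.leaf (.up 4 337 1))))) (.node (.node (.node (.leaf (.up 5 1839 0)) (.leaf (.up 5 1067 4))) (.node (.leaf (.up 6 555 4)) (.leaf (.up 4 1345 2)))) (.node (.node (.leaf (.up 4 14 3)) (.leaf (.up 4 608 1))) (.node (.leaf (.up 5 419 3)) (.leaf (.up 5 590 3))))))) (.node (.node (.node (.node (.node (.leaf (.up 2 993 3)) (.leaf (.up 3 1991 0))) (.node (.leaf (.up 5 1687 2)) (.leaf (.up 3 1890 4)))) (.node (.node (.leaf (.up 2 1464 3)) (.leaf (.up 2 237 1))) (.node (.leaf (.up 2 668 1)) (.leaf (.up 4 467 1))))) (.node (.node (.node (.leaf (.up 6 1816 4)) (.leaf (.up 4 1920 2))) (.node (.leaf (.up 4 647 2)) (.leaf (.up 5 1427 1)))) (.node (.node (.leaf (.up 2 1935 3)) (.leaf (.up 4 1122 3))) (.node (.leaf (.up 2 1570 3)) (.leaf (.up 3 1107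 4)))))) (.node (.node (.node (.node (.leaf (.up 4 2008 4)) (.leaf (.up 5 994 4))) (.node (.leaf (.up 4 1911 0)) (.leaf (.up 5 68 3)))) (.node (.node (.leaf (.up 5 1117 3)) (.leaf (.up 4 1968 3))) (.node (.leaf (.up 3 175 2)) (.leaf (.up 4 1171 4))))) (.node (.node (.node (.leaf (.up 1 8 0)) (.leaf (.up 5 1432 4))) (.node (.leaf (.up 4 1409 0)) (.leaf (.up 4 627 3)))) (.node (.node (.leaf (.up 4 520 0)) (.leaf (.up 3 440 2))) (.node (.leaf (.up 3 1921 0)) (.leaf (.up 5 1432 2)))))))) (.node (.node (.node (.node (.node (.node (.leaf (.up 3 335 3)) (.leaf (.up 4 674 3))) (.node (.leaf (.up 5 571 2)) (.leaf (.up 4 29 4)))) (.node (.node (.leaf (.up 4 936 1)) (.leaf (.up 4 1900 4))) (.node (.leaf (.up 1 1 2)) (.leaf (.up 5 1389 0))))) (.node (.node (.node (.leaf (.up 4 103 4)) (.leaf (.up 4 18 0))) (.node (.leaf (.up 5 725 3)) (.leaf (.up 6 1435 0)))) (.node (.node (.leaf (.up 5 49 2)) (.leaf (.up 3 530 0))) (.node (.leaf (.up 5 1041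 2)) (.leaf (.up 4 982 1)))))) (.node (.node (.node (.node (.leaf (.up 4 167 4)) (.leaf (.up 4 830 0))) (.node (.leaf (.up 5 1593 2)) (.leaf (.up 4 746 3)))) (.node (.node (.leaf (.up 5 1779 3)) (.leaf (.up 5 318 0))) (.node (.leaf (.up 3 84 0)) (.leaf (.up 5 1207 0))))) (.node (.node (.node (.leaf (.up 6 669 3)) (.leaf (.up 4 456 0))) (.node (.leaf (.up 4 816 3)) (.leaf (.up 5 1089 0)))) (.node (.node (.leaf (.up 4 1075 2)) (.leaf (.up 6 1300 2))) (.node (.leaf (.up 4 19 2)) (.leaf (.up 5 1430 4))))))) (.node (.node (.node (.node (.node (.leaf (.up 5 1835 3)) (.leaf (.up 6 1222 3))) (.node (.leaf (.up 3 1670 3)) (.leaf (.up 6 511 2)))) (.node (.node (.leaf (.up 4 485 1)) (.leaf (.up 5 682 1))) (.node (.leaf (.up 5 738 2)) (.leaf (.up 5 586 0))))) (.node (.node (.node (.leaf (.up 4 982 0)) (.leaf (.up 5 1777 3))) (.node (.leaf (.up 4 1006 4)) (.leaf (.up 5 1884 3)))) (.node (.node (.leaf (.up 5 837 3)) (.leaf (.up 5 165 1))) (.node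 (.leaf (.up 3 744 3)) (.leaf (.up 5 261 3)))))) (.node (.node (.node (.node (.leaf (.up 5 276 4)) (.leaf (.up 2 1315 3))) (.node (.leaf (.up 4 814 4)) (.leaf (.up 4 1812 1)))) (.node (.node (.leaf (.up 4 704 2)) (.leaf (.up 4 890 3))) (.node (.leaf (.up 5 532 1)) (.leaf (.up 3 1991 2))))) (.node (.node (.node (.leaf (.up 4 1898 1)) (.leaf (.up 4 1812 3))) (.node (.leaf (.up 3 202 2)) (.leaf (.up 4 870 0)))) (.node (.node (.leaf (.up 5 549 4)) (.leaf (.up 5 618 1))) (.node (.leaf (.up 3 781 3)) (.leaf (.up 5 983 2))))))))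

noncomputable def vt3_0_101 : Tr VStep := .node vt3_0_1010 vt3_0_1011

noncomputable def vt3_0_10 : Tr VStep := .node vt3_0_100 vt3_0_101

noncomputable def vt3_0_1100 : Tr VStep :=
  .node (.node (.node (.node (.node (.node (.node (.leaf (.root 276)) (.leaf (.up 3 209 2))) (.node (.leaf (.up 4 1092 3)) (.leaf (.up 5 1961 3)))) (.node (.node (.leaf (.up 4 944 3)) (.leaf (.up 4 747 2))) (.node (.leaf (.up 4 1256 0)) (.leaf (.up 5 11 0))))) (.node (.node (.node (.leaf (.up 5 2014 3)) (.leaf (.up 4 677 1))) (.node (.leaf (.up 4 1054 0)) (.leaf (.up 5 225 2)))) (.node (.node (.leaf (.up 4 1957 1)) (.leaf (.up 5 1258 1))) (.node (.leaf (.up 2 1566 0)) (.leaf (.up 4 765 0)))))) (.node (.node (.node (.node (.leaf (.up 3 1371 4)) (.leaf (.up 5 1235 2))) (.node (.leaf (.up 4 1441 3)) (.leaf (.up 5 1612 3)))) (.node (.node (.leaf (.up 3 1998 2)) (.leaf (.up 3 440 3))) (.node (.leaf (.up 4 1006 2)) (.leaf (.up 4 21 3))))) (.node (.node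 (.node (.leaf (.up 6 77 0)) (.leaf (.up 6 106 1))) (.node (.leaf (.up 4 283 4)) (.leaf (.up 4 1147 3)))) (.node (.node (.leaf (.up 5 990 2)) (.leaf (.up 6 911 3))) (.node (.leaf (.up 4 1108 1)) (.leaf (.up 4 1753 2))))))) (.node (.node (.node (.node (.node (.leaf (.up 6 789 2)) (.leaf (.up 5 562 2))) (.node (.leaf (.up 4 150 1)) (.leaf (.up 4 1106 4)))) (.node (.node (.leaf (.up 4 1606 0)) (.leaf (.up 1 8 2))) (.node (.leaf (.up 2 1315 4)) (.leaf (.up 4 1940 3))))) (.node (.node (.node (.leaf (.up 4 935 1)) (.leaf (.up 2 1570 2))) (.node (.leaf (.up 5 23 3)) (.leaf (.up 5 2010 0)))) (.node (.node (.leaf (.up 4 355 4)) (.leaf (.up 4 1038 3))) (.node (.leaf (.up 3 1614 3)) (.leaf (.up 5 1443 3)))))) (.node (.node (.node (.node (.leaf (.up 4 1256 4)) (.leaf (.up 5 40 1))) (.node (.leaf (.up 4 21 0)) (.leaf (.up 3 1270 0)))) (.node (.node (.leaf (.up 3 1325 2)) (.leaf (.up 5 2012 3))) (.node (.leaf (.up 4 533 0)) (.leaf (.up 4 1881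 1))))) (.node (.node (.node (.leaf (.up 4 775 2)) (.leaf (.up 4 905 0))) (.node (.leaf (.up 5 1831 2)) (.leaf (.up 3 1170 4)))) (.node (.node (.leaf (.up 3 1542 3)) (.leaf (.up 2 26 2))) (.node (.leaf (.up 3 1507 4)) (.leaf (.up 5 1024 0)))))))) (.node (.node (.node (.node (.node (.node (.leaf (.up 3 1325 4)) (.leaf (.up 3 279 4))) (.node (.leaf (.up 4 1260 0)) (.leaf (.up 3 813 4)))) (.node (.node (.leaf (.up 5 869 0)) (.leaf (.up 2 1188 2))) (.node (.leaf (.up 4 1747 1)) (.leaf (.up 4 1338 3))))) (.node (.node (.node (.leaf (.up 3 941 1)) (.leaf (.up 3 654 2))) (.node (.leaf (.up 4 697 3)) (.leaf (.up 5 476 1)))) (.node (.node (.leaf (.up 6 1564 4)) (.leaf (.up 4 1696 3))) (.node (.leaf (.up 4 1244 1)) (.leaf (.up 4 1172 2)))))) (.node (.node (.node (.node (.leaf (.up 4 877 1)) (.leaf (.up 2 668 2))) (.node (.leaf (.up 3 363 3)) (.leaf (.up 5 646 3)))) (.node (.node (.leaf (.up 5 385 2)) (.leaf (.up 5 166 2))) (.node (.leaf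 (.up 4 1441 2)) (.leaf (.up 2 981 0))))) (.node (.node (.node (.leaf (.up 4 1517 4)) (.leaf (.up 4 1676 2))) (.node (.leaf (.up 6 2007 4)) (.leaf (.up 3 803 0)))) (.node (.node (.leaf (.up 3 1192 3)) (.leaf (.up 4 1180 4))) (.node (.leaf (.up 2 668 4)) (.leaf (.up 4 150 2))))))) (.node (.node (.node (.node (.node (.leaf (.up 4 1602 0)) (.leaf (.up 3 1149 2))) (.node (.leaf (.up 5 1770 3)) (.leaf (.up 3 1287 3)))) (.node (.node (.leaf (.up 5 1090 0)) (.leaf (.up 4 755 3))) (.node (.leaf (.up 6 1007 4)) (.leaf (.up 5 1320 0))))) (.node (.node (.node (.leaf (.up 5 330 2)) (.leaf (.up 5 87 0))) (.node (.leaf (.up 5 317 0)) (.leaf (.up 3 1502 0)))) (.node (.node (.leaf (.up 6 809 3)) (.leaf (.up 5 196 3))) (.node (.leaf (.up 5 644 3)) (.leaf (.up 3 431 4)))))) (.node (.node (.node (.node (.leaf (.up 4 344 2)) (.leaf (.up 2 1566 4))) (.node (.leaf (.up 3 1807 3)) (.leaf (.up 4 1060 4)))) (.node (.node (.leaf (.up 5 1432 0)) (.leaf (.up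 5 379 0))) (.node (.leaf (.up 5 1858 2)) (.leaf (.up 6 699 3))))) (.node (.node (.node (.leaf (.up 5 1118 4)) (.leaf (.up 4 1135 2))) (.node (.leaf (.up 3 1636 4)) (.leaf (.up 4 1749 3)))) (.node (.node (.leaf (.up 4 1906 2)) (.leaf (.up 5 1621 2))) (.node (.leaf (.up 4 865 3)) (.leaf (.up 3 1540 0))))))))

noncomputable def vt3_0_1101 : Tr VStep :=
  .node (.node (.node (.node (.node (.node (.node (.leaf (.up 4 140 0)) (.leaf (.up 4 1135 0))) (.node (.leaf (.up 4 1285 0)) (.leaf (.up 5 1453 2)))) (.node (.node (.leaf (.up 4 652 0)) (.leaf (.up 5 176 3))) (.node (.leaf (.up 4 752 3)) (.leaf (.up 3 1943 2))))) (.node (.node (.node (.leaf (.up 4 1854 4)) (.leaf (.up 4 1689 0))) (.node (.leaf (.up 4 1694 3)) (.leaf (.up 5 452 1)))) (.node (.node (.leaf (.up 2 1530 1)) (.leaf (.up 4 647 3))) (.node (.leaf (.up 5 79 4)) (.leaf (.up 4 1141 4)))))) (.node (.node (.node (.node (.leaf (.up 3 1192 2)) (.leaf (.up 5 1423 2))) (.node (.leaf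 (.up 5 136 2)) (.leaf (.up 3 431 2)))) (.node (.node (.leaf (.up 4 1338 1)) (.leaf (.up 3 341 3))) (.node (.leaf (.up 5 690 2)) (.leaf (.up 5 248 3))))) (.node (.node (.node (.leaf (.up 5 378 1)) (.leaf (.up 5 1859 0))) (.node (.leaf (.up 5 958 4)) (.leaf (.up 4 1174 3)))) (.node (.node (.leaf (.up 6 1845 1)) (.leaf (.up 4 1347 0))) (.node (.leaf (.up 4 1065 0)) (.leaf (.up 3 202 0))))))) (.node (.node (.node (.node (.node (.leaf (.up 5 585 2)) (.leaf (.up 4 878 2))) (.node (.leaf (.up 5 546 0)) (.leaf (.up 5 1729 0)))) (.node (.node (.leaf (.up 2 1464 1)) (.leaf (.up 5 328 0))) (.node (.leaf (.up 3 1107 2)) (.leaf (.up 4 1913 3))))) (.node (.node (.node (.leaf (.up 5 504 1)) (.leaf (.up 5 695 1))) (.node (.leaf (.up 5 198 1)) (.leaf (.up 4 905 1)))) (.node (.node (.leaf (.up 6 1123 2)) (.leaf (.up 4 2044 4))) (.node (.leaf (.up 4 67 2)) (.leaf (.up 4 356 2)))))) (.node (.node (.node (.node (.leaf (.up 4 1611 2)) (.leaf (.up 4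 1900 2))) (.node (.leaf (.up 4 1016 0)) (.leaf (.up 5 197 3)))) (.node (.node (.leaf (.up 2 1137 0)) (.leaf (.up 6 146 0))) (.node (.leaf (.up 3 316 4)) (.leaf (.up 5 374 2))))) (.node (.node (.node (.leaf (.up 4 55 4)) (.leaf (.up 5 892 2))) (.node (.leaf (.up 3 525 4)) (.leaf (.up 4 1517 0)))) (.node (.node (.leaf (.up 3 1671 0)) (.leaf (.up 4 612 0))) (.node (.leaf (.up 5 1089 2)) (.leaf (.up 4 1801 1)))))))) (.node (.node (.node (.node (.node (.node (.leaf (.up 3 1928 4)) (.leaf (.up 5 547 3))) (.node (.leaf (.up 5 99 3)) (.leaf (.up 5 396 1)))) (.node (.node (.leaf (.up 3 1943 3)) (.leaf (.up 5 1789 1))) (.node (.leaf (.up 4 255 2)) (.leaf (.up 5 1987 1))))) (.node (.node (.node (.leaf (.up 5 1017 3)) (.leaf (.up 3 1480 4))) (.node (.leaf (.up 4 1749 2)) (.leaf (.up 3 899 1)))) (.node (.node (.leaf (.up 5 207 2)) (.leaf (.up 5 1613 3))) (.node (.leaf (.up 6 1263 2)) (.leaf (.up 3 1480 2)))))) (.node (.node (.node (.node (.leaf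 (.up 5 306 1)) (.leaf (.up 4 1969 0))) (.node (.leaf (.up 6 390 3)) (.leaf (.up 5 568 0)))) (.node (.node (.leaf (.up 4 1917 1)) (.leaf (.up 2 1439 3))) (.node (.leaf (.up 4 2015 3)) (.leaf (.up 3 1074 3))))) (.node (.node (.node (.leaf (.up 6 829 1)) (.leaf (.up 4 497 3))) (.node (.leaf (.up 4 1069 0)) (.leaf (.up 5 328 4)))) (.node (.node (.leaf (.up 5 1093 3)) (.leaf (.up 5 1593 4))) (.node (.leaf (.up 2 237 2)) (.leaf (.up 4 458 2))))))) (.node (.node (.node (.node (.node (.leaf (.up 5 1455 0)) (.leaf (.up 5 1095 3))) (.node (.leaf (.up 4 38 0)) (.leaf (.up 5 257 2)))) (.node (.node (.leaf (.up 5 499 3)) (.leaf (.up 6 1200 1))) (.node (.leaf (.up 5 330 4)) (.leaf (.up 6 827 2))))) (.node (.node (.node (.leaf (.up 4 1437 3)) (.leaf (.up 4 305 2))) (.node (.leaf (.up 5 635 4)) (.leaf (.up 4 1587 0)))) (.node (.node (.leaf (.up 4 1369 0)) (.leaf (.up 4 41 3))) (.node (.leaf (.up 6 208 0)) (.leaf (.up 3 1921 1)))))) (.node (.node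 (.node (.node (.leaf (.up 4 1141 0)) (.leaf (.up 3 48 1))) (.node (.leaf (.up 4 1060 2)) (.leaf (.up 4 1311 0)))) (.node (.node (.leaf (.up 4 1482 4)) (.leaf (.up 3 1019 3))) (.node (.leaf (.up 2 1566 2)) (.leaf (.up 5 1823 0))))) (.node (.node (.node (.leaf (.up 6 1044 2)) (.leaf (.up 3 705 4))) (.node (.leaf (.up 4 1217 4)) (.leaf (.up 5 769 1)))) (.node (.node (.leaf (.up 2 1582 2)) (.leaf (.up 3 1136 1))) (.node (.leaf (.up 2 394 4)) (.leaf (.up 3 97 3))))))))

noncomputable def vt3_0_110 : Tr VStep := .node vt3_0_1100 vt3_0_1101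

noncomputable def vt3_0_1110 : Tr VStep :=
  .node (.node (.node (.node (.node (.node (.node (.leaf (.up 3 1534 0)) (.leaf (.up 5 942 4))) (.node (.leaf (.up 5 1454 4)) (.leaf (.up 4 1732 3)))) (.node (.node (.leaf (.up 5 733 3)) (.leaf (.up 2 797 0))) (.node (.leaf (.up 3 229 4)) (.leaf (.up 5 157 3))))) (.node (.node (.node (.leaf (.up 2 1439 1)) (.leaf (.up 3 1374 3))) (.node (.leaf (.up 3 1486 2)) (.leaf (.up 2 2030 1)))) (.node (.node (.leaf (.up 5 1288 0)) (.leaf (.up 4 491 0))) (.node (.leaf (.up 5 327 3)) (.leaf (.up 4 677 4)))))) (.node (.node (.node (.node (.leaf (.up 4 1060 0)) (.leaf (.up 4 1676 3))) (.node (.leaf (.up 3 1500 2)) (.leaf (.up 4 1275 2)))) (.node (.node (.leaf (.up 4 824 3)) (.leaf (.up 5 213 3))) (.node (.leaf (.up 3 941 0)) (.leaf (.up 5 376 3))))) (.node (.node (.node (.leaf (.up 6 1876 4)) (.leaf (.up 4 878 4))) (.node (.leaf (.up 5 859 0)) (.leaf (.up 5 235 2)))) (.node (.node (.leaf (.up 4 1234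 0)) (.leaf (.up 5 49 0))) (.node (.leaf (.up 4 37 4)) (.leaf (.up 2 1464 0))))))) (.node (.node (.node (.node (.node (.leaf (.up 5 736 3)) (.leaf (.up 4 269 3))) (.node (.leaf (.up 5 1251 1)) (.leaf (.up 5 160 3)))) (.node (.node (.leaf (.up 4 914 1)) (.leaf (.up 5 1024 2))) (.node (.leaf (.up 3 684 1)) (.leaf (.up 4 483 1))))) (.node (.node (.node (.leaf (.up 3 781 2)) (.leaf (.up 5 1127 4))) (.node (.leaf (.up 5 1772 1)) (.leaf (.up 5 1546 2)))) (.node (.node (.leaf (.up 6 311 2)) (.leaf (.up 5 16 2))) (.node (.leaf (.up 3 1303 2)) (.leaf (.up 5 837 0)))))) (.node (.node (.node (.node (.leaf (.up 3 773 3)) (.leaf (.up 4 232 3))) (.node (.leaf (.up 4 1855 2)) (.leaf (.up 5 325 3)))) (.node (.node (.leaf (.up 5 259 0)) (.leaf (.up 1 2 2))) (.node (.leaf (.up 4 1285 2)) (.leaf (.up 4 982 4))))) (.node (.node (.node (.leaf (.up 3 1807 2)) (.leaf (.up 5 733 4))) (.node (.leaf (.up 5 1148 0)) (.leaf (.up 4 520 2)))) (.node (.node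 (.leaf (.up 5 940 4)) (.leaf (.up 4 1158 3))) (.node (.leaf (.up 4 620 1)) (.leaf (.up 5 291 1)))))))) (.node (.node (.node (.node (.node (.node (.leaf (.up 4 344 4)) (.leaf (.up 3 662 2))) (.node (.leaf (.up 4 627 0)) (.leaf (.up 5 526 3)))) (.node (.node (.leaf (.up 2 1530 0)) (.leaf (.up 2 1530 3))) (.node (.leaf (.up 5 115 0)) (.leaf (.up 5 1111 3))))) (.node (.node (.node (.leaf (.up 4 2008 1)) (.leaf (.up 3 792 4))) (.node (.leaf (.up 5 1766 1)) (.leaf (.up 4 57 3)))) (.node (.node (.leaf (.up 6 1056 3)) (.leaf (.up 6 1007 0))) (.node (.leaf (.up 4 1421 3)) (.leaf (.up 2 1632 3)))))) (.node (.node (.node (.node (.leaf (.up 4 1568 0)) (.leaf (.up 4 582 3))) (.node (.leaf (.up 5 915 2)) (.leaf (.up 5 482 4)))) (.node (.node (.leaf (.up 5 2034 3)) (.leaf (.up 4 1055 3))) (.node (.leaf (.up 4 147 4)) (.leaf (.up 5 1354 0))))) (.node (.node (.node (.leaf (.up 3 1303 1)) (.leaf (.up 5 644 2))) (.node (.leaf (.up 4 930 4)) (.leaf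 (.up 4 1468 0)))) (.node (.node (.leaf (.up 5 409 2)) (.leaf (.up 5 233 4))) (.node (.leaf (.up 4 1128 3)) (.leaf (.up 5 297 1))))))) (.node (.node (.node (.node (.node (.leaf (.up 3 1578 3)) (.leaf (.up 5 1233 4))) (.node (.leaf (.up 5 1927 3)) (.leaf (.up 5 1515 1)))) (.node (.node (.leaf (.up 5 733 0)) (.leaf (.up 2 1598 0))) (.node (.leaf (.up 5 1946 4)) (.leaf (.up 6 563 3))))) (.node (.node (.node (.leaf (.up 5 1053 3)) (.leaf (.up 4 2032 3))) (.node (.leaf (.up 4 1456 3)) (.leaf (.up 5 1629 3)))) (.node (.node (.leaf (.up 5 986 1)) (.leaf (.up 5 1631 2))) (.node (.leaf (.up 6 1442 0)) (.leaf (.up 5 321 0)))))) (.node (.node (.node (.node (.leaf (.up 5 1999 3)) (.leaf (.up 4 1058 3))) (.node (.leaf (.up 5 1634 3)) (.leaf (.up 5 87 2)))) (.node (.node (.leaf (.up 4 775 0)) (.leaf (.up 4 1824 4))) (.node (.leaf (.up 6 842 2)) (.leaf (.up 3 363 1))))) (.node (.node (.node (.leaf (.up 5 1882 1)) (.leaf (.up 3 1045 1))) (.node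 (.leaf (.up 3 1636 1)) (.leaf (.up 5 1976 3)))) (.node (.node (.leaf (.up 4 497 0)) (.leaf (.up 4 76 3))) (.node (.leaf (.up 5 1882 2)) (.leaf (.up 5 1661 2))))))))

noncomputable def vt3_0_1111 : Tr VStep :=
  .node (.node (.node (.node (.node (.node (.node (.leaf (.up 4 1555 0)) (.leaf (.up 4 752 0))) (.node (.leaf (.up 4 922 0)) (.leaf (.up 4 817 4)))) (.node (.node (.leaf (.up 4 896 1)) (.leaf (.up 4 240 0))) (.node (.leaf (.up 4 576 4)) (.leaf (.up 2 1658 4))))) (.node (.node (.node (.leaf (.up 6 843 4)) (.leaf (.up 5 6 0))) (.node (.leaf (.up 3 364 0)) (.leaf (.up 4 1355 4)))) (.node (.node (.leaf (.up 4 1536 4)) (.leaf (.up 4 704 1))) (.node (.leaf (.up 5 426 3)) (.leaf (.up 1 0 4)))))) (.node (.node (.node (.node (.leaf (.up 4 1993 0)) (.leaf (.up 4 1969 4))) (.node (.leaf (.up 2 1598 1)) (.leaf (.up 4 1996 3)))) (.node (.node (.leaf (.up 2 981 3)) (.leaf (.up 4 298 0))) (.node (.leaf (.up 4 1722 2)) (.leaf (.up 3 1187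 0))))) (.node (.node (.node (.leaf (.up 4 1979 3)) (.leaf (.up 5 476 0))) (.node (.leaf (.up 4 1995 4)) (.leaf (.up 4 1531 3)))) (.node (.node (.leaf (.up 4 1855 0)) (.leaf (.up 3 988 0))) (.node (.leaf (.up 4 640 4)) (.leaf (.up 4 1722 4))))))) (.node (.node (.node (.node (.node (.leaf (.up 3 525 3)) (.leaf (.up 5 184 4))) (.node (.leaf (.up 5 1720 4)) (.leaf (.up 6 1523 1)))) (.node (.node (.leaf (.up 4 1108 3)) (.leaf (.up 6 2007 0))) (.node (.leaf (.up 5 1011 4)) (.leaf (.up 4 1993 4))))) (.node (.node (.node (.leaf (.up 2 962 0)) (.leaf (.up 4 886 2))) (.node (.leaf (.up 4 1611 0)) (.leaf (.up 4 2044 1)))) (.node (.node (.leaf (.up 2 962 1)) (.leaf (.up 4 905 4))) (.node (.leaf (.up 3 1998 3)) (.leaf (.up 6 1059 3)))))) (.node (.node (.node (.node (.leaf (.up 5 568 4)) (.leaf (.up 3 5 3))) (.node (.leaf (.up 1 2 4)) (.leaf (.up 5 388 0)))) (.node (.node (.leaf (.up 6 1457 3)) (.leaf (.up 5 1628 3))) (.node (.leaf (.up 4 1353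 4)) (.leaf (.up 5 900 0))))) (.node (.node (.node (.leaf (.up 5 1090 4)) (.leaf (.up 5 562 3))) (.node (.leaf (.up 4 1656 4)) (.leaf (.up 5 1331 1)))) (.node (.node (.leaf (.up 4 1926 3)) (.leaf (.up 4 1275 0))) (.node (.leaf (.up 5 51 1)) (.leaf (.up 4 1801 4)))))))) (.node (.node (.node (.node (.node (.node (.leaf (.up 3 1928 1)) (.leaf (.up 3 1991 4))) (.node (.leaf (.up 4 414 0)) (.leaf (.up 5 2026 2)))) (.node (.node (.leaf (.up 4 215 2)) (.leaf (.up 3 1303 3))) (.node (.leaf (.up 4 1271 2)) (.leaf (.up 4 1917 0))))) (.node (.node (.node (.leaf (.up 5 1789 2)) (.leaf (.up 5 2010 2))) (.node (.leaf (.up 5 733 2)) (.leaf (.up 5 1931 0)))) (.node (.node (.leaf (.up 5 1223 2)) (.leaf (.up 1 2 0))) (.node (.leaf (.up 4 360 0)) (.leaf (.up 5 448 2)))))) (.node (.node (.node (.node (.leaf (.up 5 1485 0)) (.leaf (.up 5 381 4))) (.node (.leaf (.up 4 1917 4)) (.leaf (.up 4 774 3)))) (.node (.node (.leaf (.up 5 1823 3)) (.leaf (.up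 4 814 0))) (.node (.leaf (.up 6 1714 3)) (.leaf (.up 5 1375 3))))) (.node (.node (.node (.leaf (.up 6 829 4)) (.leaf (.up 5 984 0))) (.node (.leaf (.up 5 690 0)) (.leaf (.up 4 305 3)))) (.node (.node (.leaf (.up 5 1320 3)) (.leaf (.up 5 482 2))) (.node (.leaf (.up 4 1100 4)) (.leaf (.up 3 1896 3))))))) (.node (.node (.node (.node (.node (.leaf (.up 4 816 0)) (.leaf (.up 2 1322 3))) (.node (.leaf (.up 3 116 4)) (.leaf (.up 4 1289 2)))) (.node (.node (.leaf (.up 4 158 3)) (.leaf (.up 5 197 1))) (.node (.leaf (.up 6 1209 0)) (.leaf (.up 3 507 1))))) (.node (.node (.node (.leaf (.up 4 1054 2)) (.leaf (.up 4 1317 0))) (.node (.leaf (.up 5 1103 0)) (.leaf (.up 5 172 0)))) (.node (.node (.leaf (.up 5 383 4)) (.leaf (.up 5 1829 0))) (.node (.leaf (.up 4 772 3)) (.leaf (.up 3 803 2)))))) (.node (.node (.node (.node (.leaf (.up 4 746 0)) (.leaf (.up 5 1093 1))) (.node (.leaf (.up 5 1679 3)) (.leaf (.up 4 896 0)))) (.node (.node (.leaf (.up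 4 1590 2)) (.leaf (.up 3 522 1))) (.node (.leaf (.up 5 214 3)) (.leaf (.up 4 817 2))))) (.node (.node (.node (.leaf (.up 3 654 4)) (.leaf (.up 4 1784 3))) (.node (.leaf (.up 5 1208 3)) (.leaf (.up 5 374 0)))) (.node (.node (.leaf (.up 5 550 2)) (.leaf (.up 3 5 1))) (.node (.leaf (.up 3 1542 2)) (.leaf (.up 4 886 0))))))))

noncomputable def vt3_0_111 : Tr VStep := .node vt3_0_1110 vt3_0_1111

noncomputable def vt3_0_11 : Tr VStep := .node vt3_0_110 vt3_0_111

noncomputable def vt3_0_1 : Tr VStep := .node vt3_0_10 vt3_0_11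

noncomputable def vt3_0_ : Tr VStep := .node vt3_0_0 vt3_0_1

noncomputable def vt3_1_0000 : Tr VStep :=
  .node (.node (.node (.node (.node (.node (.node (.leaf (.root 194)) (.leaf (.up 3 1325 2))) (.node (.leaf (.up 1 58 1)) (.leaf (.up 1 140 3)))) (.node (.node (.leaf (.up 2 1907 3)) (.leaf (.up 1 167 0))) (.node (.leaf (.up 3 464 3)) (.leaf (.up 3 1452 2))))) (.node (.node (.node (.leaf (.up 2 535 2)) (.leaf (.up 1 220 3))) (.node (.leaf (.up 1 63 1)) (.leaf (.up 2 1068 2)))) (.node (.node (.leaf (.root 462)) (.leaf (.up 2 1175 1))) (.node (.leaf (.up 3 1827 3)) (.leaf (.up 2 1472 3)))))) (.node (.node (.node (.node (.leaf (.root 442)) (.leaf (.up 1 204 3))) (.node (.leaf (.root 380)) (.leaf (.up 2 1647 3)))) (.node (.node (.leaf (.up 2 938 2)) (.leaf (.up 1 12 1))) (.node (.leaf (.up 1 68 0)) (.leaf (.up 2 1425 2))))) (.node (.node (.node (.leaf (.root 3030)) (.leaf (.up 2 1599 3))) (.node (.leaf (.up 2 639 3)) (.leaf (.up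 2 156 3)))) (.node (.node (.leaf (.up 3 1310 2)) (.leaf (.up 1 9 1))) (.node (.leaf (.up 2 683 2)) (.leaf (.up 2 805 2))))))) (.node (.node (.node (.node (.node (.leaf (.root 364)) (.leaf (.up 1 131 0))) (.node (.leaf (.up 2 842 1)) (.leaf (.up 2 1056 3)))) (.node (.node (.leaf (.up 2 1874 2)) (.leaf (.up 3 316 3))) (.node (.leaf (.up 2 1644 1)) (.leaf (.up 3 361 2))))) (.node (.node (.node (.leaf (.root 3200)) (.leaf (.up 2 705 1))) (.node (.leaf (.up 1 48 3)) (.leaf (.up 2 723 3)))) (.node (.node (.leaf (.root 252)) (.leaf (.up 3 1999 3))) (.node (.leaf (.up 1 416 0)) (.leaf (.up 2 364 3)))))) (.node (.node (.node (.node (.leaf (.up 2 1667 3)) (.leaf (.up 1 469 2))) (.node (.leaf (.up 1 32 3)) (.leaf (.up 1 495 1)))) (.node (.node (.leaf (.up 2 1351 1)) (.leaf (.up 3 1761 2))) (.node (.leaf (.up 3 927 3)) (.leaf (.up 3 340 2))))) (.node (.node (.node (.leaf (.up 2 112 3)) (.leaf (.up 2 1631 1))) (.node (.leaf (.up 2 346 2))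 (.leaf (.up 2 212 2)))) (.node (.node (.leaf (.up 2 475 2)) (.leaf (.up 2 300 3))) (.node (.leaf (.up 3 1388 3)) (.leaf (.up 2 1935 3)))))))) (.node (.node (.node (.node (.node (.node (.leaf (.root 4542)) (.leaf (.up 1 161 0))) (.node (.leaf (.up 3 427 3)) (.leaf (.up 3 1217 2)))) (.node (.node (.leaf (.up 2 1486 2)) (.leaf (.up 2 1088 2))) (.node (.leaf (.up 3 532 3)) (.leaf (.up 3 1013 2))))) (.node (.node (.node (.leaf (.root 284)) (.leaf (.up 2 1472 2))) (.node (.leaf (.up 2 1880 3)) (.leaf (.up 2 1467 3)))) (.node (.node (.leaf (.up 2 890 2)) (.leaf (.up 1 167 3))) (.node (.leaf (.up 1 68 1)) (.leaf (.up 2 1540 3)))))) (.node (.node (.node (.node (.leaf (.root 2527)) (.leaf (.up 1 119 1))) (.node (.leaf (.up 1 66 0)) (.leaf (.up 2 1451 3)))) (.node (.node (.leaf (.up 1 70 0)) (.leaf (.up 3 183 3))) (.node (.leaf (.up 1 582 0)) (.leaf (.up 3 968 2))))) (.node (.node (.node (.leaf (.up 3 1139 2)) (.leaf (.up 1 114 1))) (.node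 (.leaf (.up 2 966 2)) (.leaf (.up 2 1991 1)))) (.node (.node (.leaf (.up 2 839 2)) (.leaf (.up 2 1604 3))) (.node (.leaf (.up 2 516 3)) (.leaf (.up 3 1404 2))))))) (.node (.node (.node (.node (.node (.leaf (.root 4560)) (.leaf (.up 2 1969 2))) (.node (.leaf (.up 2 1559 1)) (.leaf (.up 1 4 2)))) (.node (.node (.leaf (.up 1 27 3)) (.leaf (.up 1 133 0))) (.node (.leaf (.up 2 817 1)) (.leaf (.up 2 1290 1))))) (.node (.node (.node (.leaf (.up 1 139 2)) (.leaf (.up 2 261 2))) (.node (.leaf (.up 2 1854 2)) (.leaf (.up 2 279 3)))) (.node (.node (.leaf (.up 2 1153 1)) (.leaf (.up 2 698 1))) (.node (.leaf (.up 1 10 2)) (.leaf (.up 3 388 2)))))) (.node (.node (.node (.node (.leaf (.up 1 98 0)) (.leaf (.up 2 775 1))) (.node (.leaf (.up 1 439 2)) (.leaf (.up 1 57 2)))) (.node (.node (.leaf (.up 1 26 1)) (.leaf (.up 1 184 2))) (.node (.leaf (.up 2 1667 2)) (.leaf (.up 2 404 1))))) (.node (.node (.node (.leaf (.up 2 948 3)) (.leaf (.up 2 343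 3))) (.node (.leaf (.up 2 652 1)) (.leaf (.up 3 1677 2)))) (.node (.node (.leaf (.up 1 11 3)) (.leaf (.up 2 1572 1))) (.node (.leaf (.up 3 1704 3)) (.leaf (.up 2 401 1))))))))

noncomputable def vt3_1_0001 : Tr VStep :=
  .node (.node (.node (.node (.node (.node (.node (.leaf (.root 396)) (.leaf (.up 3 957 3))) (.node (.leaf (.up 3 1773 2)) (.leaf (.up 2 1103 1)))) (.node (.node (.leaf (.up 2 1644 2)) (.leaf (.up 1 2 3))) (.node (.leaf (.up 2 1874 1)) (.leaf (.up 2 1697 3))))) (.node (.node (.node (.leaf (.up 3 2028 2)) (.leaf (.up 2 1634 2))) (.node (.leaf (.up 1 89 2)) (.leaf (.up 2 1005 3)))) (.node (.node (.leaf (.up 1 216 2)) (.leaf (.up 1 342 2))) (.node (.leaf (.up 2 1901 2)) (.leaf (.up 2 1763 2)))))) (.node (.node (.node (.node (.leaf (.up 3 357 2)) (.leaf (.up 1 235 2))) (.node (.leaf (.up 3 286 3)) (.leaf (.up 1 209 1)))) (.node (.node (.leaf (.up 2 1145 1)) (.leaf (.up 2 578 1))) (.node (.leaf (.up 3 673 3)) (.leaf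 (.up 1 66 3))))) (.node (.node (.node (.leaf (.up 2 346 1)) (.leaf (.up 2 1631 2))) (.node (.leaf (.up 3 100 2)) (.leaf (.up 2 212 1)))) (.node (.node (.leaf (.up 2 229 2)) (.leaf (.up 1 18 3))) (.node (.leaf (.up 2 969 1)) (.leaf (.up 2 1713 3))))))) (.node (.node (.node (.node (.node (.leaf (.root 342)) (.leaf (.up 1 138 1))) (.node (.leaf (.up 2 260 1)) (.leaf (.up 1 139 0)))) (.node (.node (.leaf (.up 2 1613 3)) (.leaf (.up 1 143 0))) (.node (.leaf (.up 1 238 3)) (.leaf (.up 3 1170 2))))) (.node (.node (.node (.leaf (.root 4842)) (.leaf (.up 1 143 1))) (.node (.leaf (.up 3 1442 3)) (.leaf (.up 2 1298 2)))) (.node (.node (.leaf (.up 1 190 3)) (.leaf (.up 2 1449 1))) (.node (.leaf (.up 2 1565 3)) (.leaf (.up 2 1278 3)))))) (.node (.node (.node (.node (.leaf (.up 2 785 3)) (.leaf (.up 3 498 3))) (.node (.leaf (.up 1 533 2)) (.leaf (.up 3 923 2)))) (.node (.node (.leaf (.up 2 660 2)) (.leaf (.up 1 306 1))) (.node (.leaf (.up 2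 1549 3)) (.leaf (.up 2 1262 3))))) (.node (.node (.node (.leaf (.up 2 788 2)) (.leaf (.up 2 1793 3))) (.node (.leaf (.up 2 833 3)) (.leaf (.up 2 418 3)))) (.node (.node (.leaf (.up 2 1056 2)) (.leaf (.up 3 1214 3))) (.node (.leaf (.up 1 185 1)) (.leaf (.up 2 1666 1)))))))) (.node (.node (.node (.node (.node (.node (.leaf (.root 2862)) (.leaf (.up 3 121 3))) (.node (.leaf (.up 2 1833 1)) (.leaf (.up 1 169 0)))) (.node (.node (.leaf (.up 1 53 2)) (.leaf (.up 1 173 0))) (.node (.leaf (.up 3 1920 2)) (.leaf (.up 3 1550 2))))) (.node (.node (.node (.leaf (.root 278)) (.leaf (.up 3 1674 3))) (.node (.leaf (.up 2 1536 2)) (.leaf (.up 2 279 1)))) (.node (.node (.leaf (.up 3 1665 2)) (.leaf (.up 2 1807 2))) (.node (.leaf (.up 2 373 3)) (.leaf (.up 3 186 2)))))) (.node (.node (.node (.node (.leaf (.up 1 74 0)) (.leaf (.up 2 1690 3))) (.node (.leaf (.up 1 137 2)) (.leaf (.up 1 57 3)))) (.node (.node (.leaf (.up 1 8 2)) (.leaf (.up 2 390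 2))) (.node (.leaf (.up 2 1681 1)) (.leaf (.up 1 170 1))))) (.node (.node (.node (.leaf (.root 292)) (.leaf (.up 1 6 2))) (.node (.leaf (.up 2 1065 3)) (.leaf (.up 2 1417 1)))) (.node (.node (.leaf (.up 2 309 3)) (.leaf (.up 2 1842 2))) (.node (.leaf (.up 3 265 2)) (.leaf (.up 2 175 1))))))) (.node (.node (.node (.node (.node (.leaf (.root 5644)) (.leaf (.up 1 137 0))) (.node (.leaf (.up 1 149 3)) (.leaf (.up 3 1535 2)))) (.node (.node (.leaf (.up 2 1417 3)) (.leaf (.up 2 1406 2))) (.node (.leaf (.up 2 383 1)) (.leaf (.up 1 141 0))))) (.node (.node (.node (.leaf (.root 516)) (.leaf (.up 2 1278 2))) (.node (.leaf (.up 2 1638 3)) (.leaf (.up 2 1157 3)))) (.node (.node (.leaf (.up 2 890 3)) (.leaf (.up 1 244 1))) (.node (.leaf (.up 2 1521 2)) (.leaf (.up 2 1850 3)))))) (.node (.node (.node (.node (.leaf (.root 2942)) (.leaf (.up 3 566 3))) (.node (.leaf (.up 2 1654 3)) (.leaf (.up 2 1173 3)))) (.node (.node (.leaf (.up 2 596 1))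 (.leaf (.up 2 393 3))) (.node (.leaf (.up 2 1481 3)) (.leaf (.up 2 1834 3))))) (.node (.node (.node (.leaf (.root 376)) (.leaf (.up 3 1221 3))) (.node (.leaf (.up 1 133 3)) (.leaf (.up 2 1785 1)))) (.node (.node (.leaf (.up 2 633 2)) (.leaf (.up 2 1914 3))) (.node (.leaf (.up 2 826 3)) (.leaf (.up 3 1090 2))))))))

noncomputable def vt3_1_000 : Tr VStep := .node vt3_1_0000 vt3_1_0001

noncomputable def vt3_1_0010 : Tr VStep :=
  .node (.node (.node (.node (.node (.node (.node (.leaf (.root 2866)) (.leaf (.up 2 309 1))) (.node (.leaf (.up 1 187 1)) (.leaf (.up 1 11 2)))) (.node (.node (.leaf (.up 1 125 3)) (.leaf (.up 1 138 2))) (.node (.leaf (.up 2 1713 2)) (.leaf (.up 3 1855 2))))) (.node (.node (.node (.leaf (.root 476)) (.leaf (.up 2 304 1))) (.node (.leaf (.up 1 190 1)) (.leaf (.up 2 369 3)))) (.node (.node (.leaf (.up 2 557 1)) (.leaf (.up 2 1133 3))) (.node (.leaf (.up 1 5 2)) (.leaf (.up 3 395 2)))))) (.node (.node (.node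 (.node (.leaf (.root 2587)) (.leaf (.up 2 1451 1))) (.node (.leaf (.up 2 898 3)) (.leaf (.up 1 54 2)))) (.node (.node (.leaf (.up 2 1694 3)) (.leaf (.up 1 141 1))) (.node (.leaf (.up 1 61 3)) (.leaf (.up 2 1848 1))))) (.node (.node (.node (.leaf (.up 1 185 2)) (.leaf (.up 1 305 3))) (.node (.leaf (.up 2 1056 1)) (.leaf (.up 2 1666 2)))) (.node (.node (.leaf (.up 2 1715 1)) (.leaf (.up 2 654 3))) (.node (.leaf (.up 1 56 2)) (.leaf (.up 2 1069 3))))))) (.node (.node (.node (.node (.node (.leaf (.root 2700)) (.leaf (.up 2 891 2))) (.node (.leaf (.up 2 1344 2)) (.leaf (.up 1 387 0)))) (.node (.node (.leaf (.up 2 1473 2)) (.leaf (.up 2 1103 2))) (.node (.leaf (.up 2 626 3)) (.leaf (.up 1 145 3))))) (.node (.node (.node (.leaf (.root 468)) (.leaf (.up 1 576 1))) (.node (.leaf (.up 1 164 0)) (.leaf (.up 2 1501 3)))) (.node (.node (.leaf (.up 1 160 0)) (.leaf (.up 2 1894 1))) (.node (.leaf (.up 2 1153 3)) (.leaf (.up 2 1634 3)))))) (.node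 (.node (.node (.node (.leaf (.up 2 397 3)) (.leaf (.up 2 838 2))) (.node (.leaf (.up 3 1405 2)) (.leaf (.up 3 1485 3)))) (.node (.node (.leaf (.up 2 1532 2)) (.leaf (.up 1 209 3))) (.node (.leaf (.up 2 1169 3)) (.leaf (.up 2 967 2))))) (.node (.node (.node (.leaf (.root 290)) (.leaf (.up 2 1437 3))) (.node (.leaf (.up 2 969 2)) (.leaf (.up 2 830 3)))) (.node (.node (.leaf (.up 2 1475 1)) (.leaf (.up 2 1570 3))) (.node (.leaf (.up 2 1277 2)) (.leaf (.up 2 1395 2)))))))) (.node (.node (.node (.node (.node (.node (.leaf (.up 1 6 3)) (.leaf (.up 2 487 2))) (.node (.leaf (.up 2 2012 2)) (.leaf (.up 3 1094 3)))) (.node (.node (.leaf (.up 2 1885 2)) (.leaf (.up 2 346 3))) (.node (.leaf (.up 1 192 1)) (.leaf (.up 3 358 2))))) (.node (.node (.node (.leaf (.root 4592)) (.leaf (.up 2 1133 1))) (.node (.leaf (.up 1 86 3)) (.leaf (.up 2 693 3)))) (.node (.node (.leaf (.up 1 130 0)) (.leaf (.up 2 1961 3))) (.node (.leaf (.up 2 1001 3)) (.leaf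 (.up 3 2002 2)))))) (.node (.node (.node (.node (.leaf (.root 368)) (.leaf (.up 2 474 2))) (.node (.leaf (.up 1 70 3)) (.leaf (.up 2 1647 2)))) (.node (.node (.leaf (.up 2 1003 1)) (.leaf (.up 3 1774 2))) (.node (.leaf (.up 2 1017 3)) (.leaf (.up 2 347 2))))) (.node (.node (.node (.leaf (.up 1 22 3)) (.leaf (.up 2 757 3))) (.node (.leaf (.up 2 1717 3)) (.leaf (.up 2 219 2)))) (.node (.node (.leaf (.up 2 1006 1)) (.leaf (.up 1 90 2))) (.node (.leaf (.up 2 1290 3)) (.leaf (.up 2 608 1))))))) (.node (.node (.node (.node (.node (.leaf (.up 2 1196 2)) (.leaf (.up 2 1314 2))) (.node (.leaf (.up 2 793 2)) (.leaf (.up 1 173 1)))) (.node (.node (.leaf (.up 3 920 2)) (.leaf (.up 2 534 2))) (.node (.leaf (.up 2 1069 2)) (.leaf (.up 3 1443 2))))) (.node (.node (.node (.leaf (.up 3 601 3)) (.leaf (.up 2 1821 1))) (.node (.leaf (.up 2 1274 3)) (.leaf (.up 1 168 1)))) (.node (.node (.leaf (.up 2 486 3)) (.leaf (.up 2 773 3))) (.node (.leaf (.up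 1 162 0)) (.leaf (.up 2 1446 3)))))) (.node (.node (.node (.node (.leaf (.root 280)) (.leaf (.up 1 170 3))) (.node (.leaf (.up 2 1258 3)) (.leaf (.up 3 1545 3)))) (.node (.node (.leaf (.up 2 155 1)) (.leaf (.up 2 789 3))) (.node (.leaf (.up 2 1040 2)) (.leaf (.up 3 1438 2))))) (.node (.node (.node (.leaf (.root 5310)) (.leaf (.up 3 939 2))) (.node (.leaf (.up 2 1424 2)) (.leaf (.up 2 1078 1)))) (.node (.node (.leaf (.up 3 1297 2)) (.leaf (.up 2 1510 3))) (.node (.leaf (.up 2 676 2)) (.leaf (.up 3 810 2))))))))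

noncomputable def vt3_1_0011 : Tr VStep :=
  .node (.node (.node (.node (.node (.node (.node (.leaf (.root 4728)) (.leaf (.up 2 891 1))) (.node (.leaf (.up 2 1150 2)) (.leaf (.up 3 1520 2)))) (.node (.node (.leaf (.up 2 1279 2)) (.leaf (.up 3 1393 2))) (.node (.leaf (.up 2 842 2)) (.leaf (.up 3 708 2))))) (.node (.node (.node (.leaf (.root 520)) (.leaf (.up 1 576 3))) (.node (.leaf (.up 1 140 0)) (.leaf (.up 2 1251 3)))) (.node (.node (.leaf (.up 3 796 3)) (.leaf (.up 2 1624 1))) (.node (.leaf (.up 2 1534 2)) (.leaf (.up 3 1136 2)))))) (.node (.node (.node (.node (.leaf (.up 2 179 3)) (.leaf (.up 2 592 3))) (.node (.leaf (.up 3 1091 2)) (.leaf (.up 1 80 1)))) (.node (.node (.leaf (.up 2 1218 2)) (.leaf (.up 1 495 3))) (.node (.leaf (.up 2 1455 3)) (.leaf (.up 2 761 2))))) (.node (.node (.node (.leaf (.root 248)) (.leaf (.up 2 1187 3))) (.node (.leaf (.up 1 227 3)) (.leaf (.up 2 512 3)))) (.node (.node (.leaf (.up 2 1277 1)) (.leaf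 (.up 3 1016 2))) (.node (.leaf (.up 2 1475 2)) (.leaf (.up 2 1395 1))))))) (.node (.node (.node (.node (.node (.leaf (.up 2 1806 2)) (.leaf (.up 1 11 1))) (.node (.leaf (.up 1 187 2)) (.leaf (.up 2 309 2)))) (.node (.node (.leaf (.up 1 58 2)) (.leaf (.up 2 928 3))) (.node (.leaf (.up 2 1187 1)) (.leaf (.up 3 1283 3))))) (.node (.node (.node (.leaf (.root 398)) (.leaf (.up 1 14 1))) (.node (.leaf (.up 1 384 1)) (.leaf (.up 2 1979 1)))) (.node (.node (.leaf (.up 3 1678 2)) (.leaf (.up 2 1320 1))) (.node (.leaf (.up 1 168 0)) (.leaf (.up 3 181 2)))))) (.node (.node (.node (.node (.leaf (.up 2 1843 2)) (.leaf (.up 2 1173 1))) (.node (.leaf (.up 2 700 3)) (.leaf (.up 1 95 3)))) (.node (.node (.leaf (.up 1 7 2)) (.leaf (.up 2 393 2))) (.node (.leaf (.up 1 61 1)) (.leaf (.up 3 1596 2))))) (.node (.node (.node (.leaf (.root 300)) (.leaf (.up 1 9 2))) (.node (.leaf (.up 2 1103 3)) (.leaf (.up 2 805 1)))) (.node (.node (.leaf (.up 2 1715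 2)) (.leaf (.up 2 944 3))) (.node (.leaf (.up 1 56 1)) (.leaf (.up 2 1299 3)))))))) (.node (.node (.node (.node (.node (.node (.leaf (.root 246)) (.leaf (.up 2 1911 3))) (.node (.leaf (.up 2 823 3)) (.leaf (.up 1 403 1)))) (.node (.node (.leaf (.up 3 1579 3)) (.leaf (.up 2 808 2))) (.node (.leaf (.up 2 1299 2)) (.leaf (.up 3 1181 2))))) (.node (.node (.node (.leaf (.up 1 24 1)) (.leaf (.up 2 1571 1))) (.node (.leaf (.up 2 1171 2)) (.leaf (.up 3 1309 2)))) (.node (.node (.leaf (.up 1 216 3)) (.leaf (.up 2 773 1))) (.node (.leaf (.up 1 138 0)) (.leaf (.up 3 553 2)))))) (.node (.node (.node (.node (.leaf (.root 486)) (.leaf (.up 2 404 3))) (.node (.leaf (.up 2 1492 3)) (.leaf (.up 3 916 2)))) (.node (.node (.leaf (.up 2 421 1)) (.leaf (.up 2 789 2))) (.node (.leaf (.up 2 1326 2)) (.leaf (.up 3 1160 3))))) (.node (.node (.node (.leaf (.root 4894)) (.leaf (.up 2 1895 3))) (.node (.leaf (.up 2 1198 2)) (.leaf (.up 2 1288 1)))) (.node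 (.node (.leaf (.up 1 416 1)) (.leaf (.up 2 1240 3))) (.node (.leaf (.up 1 152 3)) (.leaf (.up 1 46 1))))))) (.node (.node (.node (.node (.node (.leaf (.root 226)) (.leaf (.up 2 987 3))) (.node (.leaf (.up 2 1762 2)) (.leaf (.up 2 739 1)))) (.node (.node (.leaf (.up 2 1635 2)) (.leaf (.up 2 112 1))) (.node (.leaf (.up 1 470 2)) (.leaf (.up 2 88 2))))) (.node (.node (.node (.leaf (.up 3 2019 2)) (.leaf (.up 2 1320 3))) (.node (.leaf (.up 1 86 2)) (.leaf (.up 2 907 3)))) (.node (.node (.leaf (.up 1 170 0)) (.leaf (.up 2 117 1))) (.node (.leaf (.up 2 727 3)) (.leaf (.up 3 52 3)))))) (.node (.node (.node (.node (.leaf (.up 2 2035 1)) (.leaf (.up 1 228 2))) (.node (.leaf (.up 1 70 1)) (.leaf (.up 2 1661 1)))) (.node (.node (.leaf (.up 3 1124 3)) (.leaf (.up 2 1262 1))) (.node (.leaf (.up 2 711 3)) (.leaf (.up 1 36 3))))) (.node (.node (.node (.leaf (.up 2 2038 1)) (.leaf (.up 2 971 3))) (.node (.leaf (.up 3 107 2)) (.leaf (.up 2 1384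 3)))) (.node (.node (.leaf (.up 3 663 3)) (.leaf (.up 1 116 3))) (.node (.leaf (.up 2 1887 2)) (.leaf (.up 2 862 1))))))))

noncomputable def vt3_1_001 : Tr VStep := .node vt3_1_0010 vt3_1_0011

noncomputable def vt3_1_00 : Tr VStep := .node vt3_1_000 vt3_1_001

noncomputable def vt3_1_0100 : Tr VStep :=
  .node (.node (.node (.node (.node (.node (.node (.leaf (.root 5744)) (.leaf (.up 2 88 1))) (.node (.leaf (.up 1 470 1)) (.leaf (.up 2 112 2)))) (.node (.node (.leaf (.up 2 383 2)) (.leaf (.up 2 1406 1))) (.node (.leaf (.up 3 1738 2)) (.leaf (.up 3 1860 2))))) (.node (.node (.node (.leaf (.root 298)) (.leaf (.up 2 369 2))) (.node (.leaf (.up 2 467 1)) (.leaf (.up 1 28 3)))) (.node (.node (.leaf (.up 2 832 1)) (.leaf (.up 2 1280 3))) (.node (.leaf (.up 1 126 2)) (.leaf (.up 2 496 2)))))) (.node (.node (.node (.node (.leaf (.root 3834)) (.leaf (.up 2 1222 1))) (.node (.leaf (.up 1 80 0)) (.leaf (.up 1 12 3)))) (.node (.node (.leaf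 (.up 1 84 0)) (.leaf (.up 1 204 2))) (.node (.leaf (.up 2 336 3)) (.leaf (.up 3 1913 2))))) (.node (.node (.node (.leaf (.up 2 760 1)) (.leaf (.up 1 92 3))) (.node (.leaf (.up 2 1357 1)) (.leaf (.up 2 1785 2)))) (.node (.node (.leaf (.up 2 2038 2)) (.leaf (.up 2 995 3))) (.node (.leaf (.up 2 1955 3)) (.leaf (.up 2 1344 3))))))) (.node (.node (.node (.node (.node (.leaf (.root 4286)) (.leaf (.up 2 808 1))) (.node (.leaf (.up 1 160 3)) (.leaf (.up 1 147 0)))) (.node (.node (.leaf (.up 1 53 1)) (.leaf (.up 1 151 0))) (.node (.leaf (.up 2 799 3)) (.leaf (.up 3 897 2))))) (.node (.node (.node (.leaf (.root 554)) (.leaf (.up 1 531 3))) (.node (.leaf (.up 2 911 2)) (.leaf (.up 2 513 2)))) (.node (.node (.leaf (.up 1 48 1)) (.leaf (.up 2 640 2))) (.node (.leaf (.up 2 1211 2)) (.leaf (.up 2 1807 3)))))) (.node (.node (.node (.node (.leaf (.root 2838)) (.leaf (.up 2 829 2))) (.node (.leaf (.up 2 1286 2)) (.leaf (.up 1 3 1)))) (.node (.node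 (.leaf (.up 2 1415 2)) (.leaf (.up 2 444 3))) (.node (.leaf (.up 1 116 0)) (.leaf (.up 3 956 2))))) (.node (.node (.node (.leaf (.up 2 1031 2)) (.leaf (.up 2 1417 2))) (.node (.leaf (.up 2 176 3)) (.leaf (.up 1 6 1)))) (.node (.node (.leaf (.up 2 1198 1)) (.leaf (.up 3 701 2))) (.node (.leaf (.up 2 1158 2)) (.leaf (.up 2 1288 2)))))))) (.node (.node (.node (.node (.node (.node (.leaf (.root 192)) (.leaf (.up 2 412 2))) (.node (.leaf (.up 2 1163 1)) (.leaf (.up 3 1323 3)))) (.node (.node (.leaf (.up 2 1560 1)) (.leaf (.up 1 35 1))) (.node (.leaf (.up 1 147 2)) (.leaf (.up 2 285 2))))) (.node (.node (.node (.leaf (.up 3 1702 2)) (.leaf (.up 2 1280 1))) (.node (.leaf (.up 2 275 2)) (.leaf (.up 2 157 2)))) (.node (.node (.leaf (.root 478)) (.leaf (.up 1 28 2))) (.node (.leaf (.up 2 644 3)) (.leaf (.up 2 1961 2)))))) (.node (.node (.node (.node (.leaf (.up 3 1928 3)) (.leaf (.up 2 1387 3))) (.node (.leaf (.up 1 21 1)) (.leaf (.up 2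 1582 1)))) (.node (.node (.leaf (.up 2 646 1)) (.leaf (.up 2 1685 2))) (.node (.leaf (.up 1 86 0)) (.leaf (.up 1 119 3))))) (.node (.node (.node (.leaf (.up 2 1691 2)) (.leaf (.up 2 414 1))) (.node (.leaf (.up 1 16 1)) (.leaf (.up 1 160 2)))) (.node (.node (.leaf (.up 2 643 1)) (.leaf (.up 1 33 2))) (.node (.leaf (.up 2 1562 2)) (.leaf (.up 2 781 1))))))) (.node (.node (.node (.node (.node (.leaf (.root 556)) (.leaf (.up 1 145 0))) (.node (.leaf (.up 2 866 2)) (.leaf (.up 2 391 3)))) (.node (.node (.leaf (.root 4350)) (.leaf (.up 2 621 2))) (.node (.leaf (.up 2 219 3)) (.leaf (.up 1 149 0))))) (.node (.node (.node (.leaf (.up 3 820 3)) (.leaf (.up 2 1005 2))) (.node (.leaf (.up 2 1494 2)) (.leaf (.up 3 1112 2)))) (.node (.node (.leaf (.up 1 139 3)) (.leaf (.up 2 616 3))) (.node (.leaf (.up 2 1576 3)) (.leaf (.up 2 876 2)))))) (.node (.node (.node (.node (.leaf (.root 306)) (.leaf (.up 2 455 3))) (.node (.leaf (.up 1 114 0)) (.leaf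 (.up 3 1892 3)))) (.node (.node (.leaf (.up 1 118 0)) (.leaf (.up 2 592 2))) (.node (.leaf (.up 3 1131 2)) (.leaf (.up 1 120 1))))) (.node (.node (.node (.leaf (.up 2 1237 1)) (.leaf (.up 3 976 2))) (.node (.leaf (.up 2 1515 2)) (.leaf (.up 3 407 3)))) (.node (.node (.leaf (.up 2 1386 2)) (.leaf (.up 2 1163 3))) (.node (.leaf (.up 2 203 3)) (.leaf (.up 1 125 1))))))))

noncomputable def vt3_1_0101 : Tr VStep :=
  .node (.node (.node (.node (.node (.node (.node (.leaf (.root 2900)) (.leaf (.up 2 534 1))) (.node (.leaf (.up 2 414 3)) (.leaf (.up 1 187 0)))) (.node (.node (.leaf (.up 3 1154 3)) (.leaf (.up 1 191 0))) (.node (.leaf (.up 2 817 2)) (.leaf (.up 1 133 1))))) (.node (.node (.node (.leaf (.root 454)) (.leaf (.up 1 531 1))) (.node (.leaf (.up 2 1901 3)) (.leaf (.up 2 831 2)))) (.node (.node (.leaf (.up 3 625 3)) (.leaf (.up 2 958 2))) (.node (.leaf (.up 2 1723 1)) (.leaf (.up 3 1035 2)))))) (.node (.node (.node (.node (.leaf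 (.root 4418)) (.leaf (.up 2 829 3))) (.node (.leaf (.up 2 1080 2)) (.leaf (.up 2 317 1)))) (.node (.node (.leaf (.up 2 1209 2)) (.leaf (.up 1 130 3))) (.node (.leaf (.up 1 92 0)) (.leaf (.up 3 1569 3))))) (.node (.node (.node (.leaf (.up 3 1337 2)) (.leaf (.up 2 1486 3))) (.node (.leaf (.up 2 652 2)) (.leaf (.up 2 877 3)))) (.node (.node (.leaf (.up 2 1424 1)) (.leaf (.up 2 1649 3))) (.node (.leaf (.up 2 1464 2)) (.leaf (.up 2 1078 2))))))) (.node (.node (.node (.node (.node (.leaf (.root 4046)) (.leaf (.up 2 370 3))) (.node (.leaf (.up 1 192 2)) (.leaf (.up 3 334 2)))) (.node (.node (.leaf (.up 1 46 3)) (.leaf (.up 2 1088 1))) (.node (.leaf (.up 2 1486 1)) (.leaf (.up 1 159 0))))) (.node (.node (.node (.leaf (.root 518)) (.leaf (.up 3 79 2))) (.node (.leaf (.up 2 237 1)) (.leaf (.up 2 290 3)))) (.node (.node (.leaf (.up 2 1757 3)) (.leaf (.up 2 1093 1))) (.node (.leaf (.up 1 126 3)) (.leaf (.up 2 206 2)))))) (.node (.node (.node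 (.node (.leaf (.up 2 1864 2)) (.leaf (.up 3 1734 2))) (.node (.leaf (.up 1 120 0)) (.leaf (.up 1 306 3)))) (.node (.node (.leaf (.up 2 1741 3)) (.leaf (.up 1 222 1))) (.node (.leaf (.up 2 336 1)) (.leaf (.up 2 1607 2))))) (.node (.node (.node (.leaf (.up 2 966 1)) (.leaf (.up 1 114 2))) (.node (.leaf (.up 2 1314 3)) (.leaf (.up 2 1991 2)))) (.node (.node (.leaf (.up 3 62 3)) (.leaf (.up 2 219 1))) (.node (.leaf (.up 2 1693 3)) (.leaf (.up 2 1150 3)))))))) (.node (.node (.node (.node (.node (.node (.leaf (.root 366)) (.leaf (.up 1 185 0))) (.node (.leaf (.up 2 602 3)) (.leaf (.up 1 185 3)))) (.node (.node (.leaf (.up 3 733 2)) (.leaf (.up 2 621 1))) (.node (.leaf (.up 2 1384 2)) (.leaf (.up 3 1254 2))))) (.node (.node (.node (.leaf (.root 3302)) (.leaf (.up 2 723 2))) (.node (.leaf (.up 2 1193 3)) (.leaf (.up 1 251 1)))) (.node (.node (.leaf (.up 2 437 3)) (.leaf (.up 2 1511 2))) (.node (.leaf (.up 2 988 2)) (.leaf (.up 2 594 2))))))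 (.node (.node (.node (.node (.leaf (.root 490)) (.leaf (.up 1 249 3))) (.node (.leaf (.up 1 90 0)) (.leaf (.up 2 1007 2)))) (.node (.node (.leaf (.up 1 94 0)) (.leaf (.up 2 838 3))) (.node (.leaf (.up 3 1365 2)) (.leaf (.up 3 1509 3))))) (.node (.node (.node (.leaf (.up 2 1515 1)) (.leaf (.up 2 1546 3))) (.node (.leaf (.up 2 1237 2)) (.leaf (.up 1 169 3)))) (.node (.node (.leaf (.up 1 205 1)) (.leaf (.up 2 1461 3))) (.node (.leaf (.up 2 501 3)) (.leaf (.up 3 790 3))))))) (.node (.node (.node (.node (.node (.leaf (.root 432)) (.leaf (.up 1 162 2))) (.node (.leaf (.up 2 1461 1)) (.leaf (.up 2 910 1)))) (.node (.node (.leaf (.up 2 1560 2)) (.leaf (.up 2 285 1))) (.node (.leaf (.up 1 147 1)) (.leaf (.up 1 35 2))))) (.node (.node (.node (.leaf (.up 2 517 1)) (.leaf (.up 2 1093 3))) (.node (.leaf (.up 1 5 3)) (.leaf (.up 2 419 2)))) (.node (.node (.leaf (.up 1 172 2)) (.leaf (.up 2 290 2))) (.node (.leaf (.up 1 150 1)) (.leaf (.up 3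 1687 2)))))) (.node (.node (.node (.node (.leaf (.root 512)) (.leaf (.up 1 159 2))) (.node (.leaf (.up 1 21 3)) (.leaf (.up 2 1834 2)))) (.node (.node (.leaf (.up 3 1289 3)) (.leaf (.up 2 1411 1))) (.node (.leaf (.up 1 126 0)) (.leaf (.up 1 30 2))))) (.node (.node (.node (.leaf (.up 2 1691 1)) (.leaf (.up 1 160 1))) (.node (.leaf (.up 1 16 2)) (.leaf (.up 2 414 2)))) (.node (.node (.leaf (.up 1 145 2)) (.leaf (.up 1 281 3))) (.node (.leaf (.up 2 1828 2)) (.leaf (.up 3 1706 2))))))))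

noncomputable def vt3_1_010 : Tr VStep := .node vt3_1_0100 vt3_1_0101

noncomputable def vt3_1_0110 : Tr VStep :=
  .node (.node (.node (.node (.node (.node (.node (.leaf (.root 234)) (.leaf (.up 3 1366 2))) (.node (.leaf (.up 2 877 2)) (.leaf (.up 2 739 2)))) (.node (.node (.leaf (.up 2 1004 2)) (.leaf (.up 1 439 0))) (.node (.leaf (.up 3 189 3)) (.leaf (.up 3 1495 2))))) (.node (.node (.node (.leaf (.up 2 850 3)) (.leaf (.up 1 220 1))) (.node (.leaf (.up 1 148 0)) (.leaf (.up 2 1111 2)))) (.node (.node (.leaf (.up 1 144 0)) (.leaf (.up 2 1530 1))) (.node (.leaf (.up 2 1140 1)) (.leaf (.up 3 867 2)))))) (.node (.node (.node (.node (.leaf (.root 262)) (.leaf (.up 2 1387 2))) (.node (.leaf (.root 350)) (.leaf (.up 3 734 2)))) (.node (.node (.leaf (.up 2 977 2)) (.leaf (.up 3 542 3))) (.node (.leaf (.up 1 239 1)) (.leaf (.up 3 1514 2))))) (.node (.node (.node (.leaf (.root 2583)) (.leaf (.up 1 119 0))) (.node (.leaf (.up 2 786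 3)) (.leaf (.up 2 497 3)))) (.node (.node (.leaf (.up 2 1887 1)) (.leaf (.up 3 1261 3))) (.node (.leaf (.up 1 173 3)) (.leaf (.up 2 862 2))))))) (.node (.node (.node (.node (.node (.leaf (.up 2 29 2)) (.leaf (.up 1 403 0))) (.node (.leaf (.up 3 1960 2)) (.leaf (.up 2 1357 3)))) (.node (.node (.leaf (.up 2 1833 2)) (.leaf (.up 1 81 3))) (.node (.leaf (.up 2 156 2)) (.leaf (.up 3 274 2))))) (.node (.node (.node (.leaf (.up 3 1705 2)) (.leaf (.up 2 940 1))) (.node (.leaf (.up 2 546 1)) (.leaf (.up 2 958 3)))) (.node (.node (.leaf (.up 2 1089 3)) (.leaf (.up 1 19 2))) (.node (.leaf (.up 2 1576 2)) (.leaf (.up 1 1 3)))))) (.node (.node (.node (.node (.leaf (.up 1 32 2)) (.leaf (.up 2 430 2))) (.node (.leaf (.up 2 1721 1)) (.leaf (.up 1 130 1)))) (.node (.node (.leaf (.up 2 1105 3)) (.leaf (.up 2 1690 2))) (.node (.leaf (.up 1 161 2)) (.leaf (.up 1 17 3))))) (.node (.node (.node (.leaf (.up 2 285 3)) (.leaf (.up 2 1842 1))) (.node (.leaf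 (.up 3 289 2)) (.leaf (.up 2 175 2)))) (.node (.node (.leaf (.up 1 416 2)) (.leaf (.up 1 46 2))) (.node (.leaf (.up 3 1025 3)) (.leaf (.up 2 1762 3)))))))) (.node (.node (.node (.node (.node (.node (.leaf (.root 5204)) (.leaf (.up 2 1158 3))) (.node (.leaf (.up 1 198 3)) (.leaf (.up 2 549 3)))) (.node (.node (.leaf (.root 270)) (.leaf (.up 1 162 1))) (.node (.leaf (.up 2 512 2)) (.leaf (.up 2 910 2))))) (.node (.node (.node (.leaf (.root 566)) (.leaf (.up 2 1467 2))) (.node (.leaf (.up 2 1589 3)) (.leaf (.up 3 526 2)))) (.node (.node (.leaf (.up 2 809 3)) (.leaf (.up 1 167 1))) (.node (.leaf (.up 3 1418 3)) (.leaf (.up 3 1338 2)))))) (.node (.node (.node (.node (.leaf (.root 4974)) (.leaf (.up 2 613 3))) (.node (.leaf (.up 1 148 1)) (.leaf (.up 2 1222 3)))) (.node (.node (.leaf (.root 372)) (.leaf (.up 2 474 3))) (.node (.leaf (.up 3 1434 3)) (.leaf (.up 2 905 1))))) (.node (.node (.node (.leaf (.up 2 1828 1)) (.leaf (.up 3 1174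 3))) (.node (.leaf (.up 1 145 1)) (.leaf (.up 2 565 3)))) (.node (.node (.leaf (.root 3940)) (.leaf (.up 1 113 0))) (.node (.leaf (.up 2 873 3)) (.leaf (.up 3 1287 2))))))) (.node (.node (.node (.node (.node (.leaf (.root 2734)) (.leaf (.up 1 42 3))) (.node (.leaf (.up 2 497 2)) (.leaf (.up 2 1673 3)))) (.node (.node (.leaf (.up 2 368 2)) (.leaf (.up 3 917 3))) (.node (.leaf (.up 3 1733 2)) (.leaf (.up 3 1867 2))))) (.node (.node (.node (.leaf (.up 2 1082 3)) (.leaf (.up 3 1753 3))) (.node (.leaf (.up 2 1861 2)) (.leaf (.up 1 122 3)))) (.node (.node (.leaf (.up 3 1988 2)) (.leaf (.up 3 1382 3))) (.node (.leaf (.up 1 113 2)) (.leaf (.up 3 511 2)))))) (.node (.node (.node (.node (.leaf (.root 4176)) (.leaf (.up 2 618 1))) (.node (.leaf (.up 3 649 3)) (.leaf (.up 1 66 2)))) (.node (.node (.leaf (.up 3 333 2)) (.leaf (.up 1 195 2))) (.node (.leaf (.up 3 310 3)) (.leaf (.up 1 249 1))))) (.node (.node (.node (.leaf (.up 1 205 2)) (.leaf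 (.up 1 58 3))) (.node (.leaf (.up 2 1146 3)) (.leaf (.up 2 1689 3)))) (.node (.node (.leaf (.up 2 370 1)) (.leaf (.up 2 1655 2))) (.node (.leaf (.up 3 76 2)) (.leaf (.up 1 81 0))))))))

noncomputable def vt3_1_0111 : Tr VStep :=
  .node (.node (.node (.node (.node (.node (.node (.leaf (.root 482)) (.leaf (.up 1 173 2))) (.node (.leaf (.up 2 793 1)) (.leaf (.up 2 1314 1)))) (.node (.node (.leaf (.up 2 1559 2)) (.leaf (.up 2 1969 1))) (.node (.leaf (.up 2 418 2)) (.leaf (.up 1 4 1))))) (.node (.node (.node (.leaf (.up 2 1193 1)) (.leaf (.up 3 1059 3))) (.node (.leaf (.up 1 34 2)) (.leaf (.up 2 640 3)))) (.node (.node (.leaf (.up 2 1407 3)) (.leaf (.up 3 301 2))) (.node (.leaf (.up 1 152 0)) (.leaf (.up 1 1 1)))))) (.node (.node (.node (.node (.leaf (.up 1 50 1)) (.leaf (.up 1 144 2))) (.node (.leaf (.up 2 1707 2)) (.leaf (.up 2 444 1)))) (.node (.node (.leaf (.up 2 1391 3)) (.leaf (.up 3 1956 2))) (.node (.leaf (.up 1 415 2)) (.leaf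 (.up 1 17 2))))) (.node (.node (.node (.leaf (.up 1 35 3)) (.leaf (.up 2 1572 2))) (.node (.leaf (.up 3 1664 3)) (.leaf (.up 2 401 2)))) (.node (.node (.leaf (.up 2 924 3)) (.leaf (.up 1 123 0))) (.node (.leaf (.up 2 676 1)) (.leaf (.up 2 2012 3))))))) (.node (.node (.node (.node (.node (.leaf (.root 288)) (.leaf (.up 2 487 1))) (.node (.leaf (.up 3 572 3)) (.leaf (.up 1 223 3)))) (.node (.node (.leaf (.up 2 722 2)) (.leaf (.up 1 415 0))) (.node (.leaf (.up 1 387 3)) (.leaf (.up 3 1257 2))))) (.node (.node (.node (.leaf (.up 2 850 2)) (.leaf (.up 1 143 3))) (.node (.leaf (.up 3 1231 3)) (.leaf (.up 2 1385 2)))) (.node (.node (.leaf (.up 1 184 0)) (.leaf (.up 2 1220 1))) (.node (.leaf (.up 2 1354 1)) (.leaf (.up 3 605 2)))))) (.node (.node (.node (.node (.leaf (.up 2 636 3)) (.leaf (.up 1 159 3))) (.node (.leaf (.up 2 1271 1)) (.leaf (.up 2 716 1)))) (.node (.node (.leaf (.up 2 751 2)) (.leaf (.up 1 95 1))) (.node (.leaf (.up 3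 1370 2)) (.leaf (.up 2 1411 3))))) (.node (.node (.node (.leaf (.root 4406)) (.leaf (.up 1 95 0))) (.node (.leaf (.up 2 556 3)) (.leaf (.up 2 207 3)))) (.node (.node (.leaf (.up 2 1633 1)) (.leaf (.up 1 90 1))) (.node (.leaf (.up 1 403 3)) (.leaf (.up 2 608 2)))))))) (.node (.node (.node (.node (.node (.node (.leaf (.root 2571)) (.leaf (.up 3 276 3))) (.node (.leaf (.up 2 207 2)) (.leaf (.up 3 321 2)))) (.node (.node (.leaf (.up 2 78 2)) (.leaf (.up 2 683 3))) (.node (.leaf (.up 2 866 1)) (.leaf (.up 3 1653 2))))) (.node (.node (.node (.leaf (.up 2 1284 3)) (.leaf (.up 1 64 2))) (.node (.leaf (.up 2 1659 2)) (.leaf (.up 1 122 1)))) (.node (.node (.leaf (.up 1 154 0)) (.leaf (.up 2 745 1))) (.node (.leaf (.up 1 24 3)) (.leaf (.up 3 193 2)))))) (.node (.node (.node (.node (.leaf (.root 3196)) (.leaf (.up 3 1737 2))) (.node (.leaf (.up 3 951 3)) (.leaf (.up 2 1249 1)))) (.node (.node (.leaf (.up 2 1707 3)) (.leaf (.up 2 1096 3)))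 (.node (.leaf (.up 1 8 3)) (.leaf (.up 2 1608 2))))) (.node (.node (.node (.leaf (.root 496)) (.leaf (.up 1 125 0))) (.node (.leaf (.up 2 1348 3)) (.leaf (.up 3 1992 2)))) (.node (.node (.leaf (.up 2 88 3)) (.leaf (.up 2 1655 1))) (.node (.leaf (.up 2 370 2)) (.leaf (.up 3 252 2))))))) (.node (.node (.node (.node (.node (.leaf (.up 2 959 2)) (.leaf (.up 2 1464 3))) (.node (.leaf (.up 3 504 3)) (.leaf (.up 2 795 3)))) (.node (.node (.leaf (.up 2 1163 2)) (.leaf (.up 2 412 1))) (.node (.leaf (.up 1 18 1)) (.leaf (.up 1 164 3))))) (.node (.node (.node (.leaf (.root 436)) (.leaf (.up 2 1157 2))) (.node (.leaf (.up 2 1803 3)) (.leaf (.up 3 816 2)))) (.node (.node (.leaf (.up 2 535 3)) (.leaf (.up 1 244 3))) (.node (.leaf (.up 1 23 1)) (.leaf (.up 3 1028 2)))))) (.node (.node (.node (.node (.leaf (.root 4340)) (.leaf (.up 1 36 1))) (.node (.leaf (.up 3 1079 2)) (.leaf (.up 2 1465 2)))) (.node (.node (.leaf (.up 2 519 3)) (.leaf (.up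 1 228 3))) (.node (.leaf (.up 2 1188 3)) (.leaf (.up 2 1607 3))))) (.node (.node (.node (.leaf (.up 2 1562 1)) (.leaf (.up 1 33 1))) (.node (.leaf (.up 2 643 2)) (.leaf (.up 2 781 2)))) (.node (.node (.leaf (.up 2 514 2)) (.leaf (.up 1 89 0))) (.node (.leaf (.up 2 599 3)) (.leaf (.up 3 1081 2))))))))

noncomputable def vt3_1_011 : Tr VStep := .node vt3_1_0110 vt3_1_0111

noncomputable def vt3_1_01 : Tr VStep := .node vt3_1_010 vt3_1_011

noncomputable def vt3_1_0 : Tr VStep := .node vt3_1_00 vt3_1_01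

noncomputable def vt3_1_1000 : Tr VStep :=
  .node (.node (.node (.node (.node (.node (.node (.leaf (.root 374)) (.leaf (.up 2 153 2))) (.node (.leaf (.up 1 19 3)) (.leaf (.up 2 1536 1)))) (.node (.node (.leaf (.up 2 1571 2)) (.leaf (.up 2 1171 1))) (.node (.leaf (.up 2 940 3)) (.leaf (.up 1 24 2))))) (.node (.node (.node (.leaf (.up 2 1955 2)) (.leaf (.up 1 48 0))) (.node (.leaf (.up 1 22 2)) (.leaf (.up 2 1027 3)))) (.node (.node (.leaf (.up 1 151 2)) (.leaf (.up 1 281 2))) (.node (.leaf (.up 2 1304 1)) (.leaf (.up 3 1708 2)))))) (.node (.node (.node (.node (.leaf (.up 2 298 2)) (.leaf (.up 1 164 2))) (.node (.leaf (.up 2 1695 2)) (.leaf (.up 3 1043 3)))) (.node (.node (.leaf (.up 2 1004 3)) (.leaf (.up 2 271 3))) (.node (.leaf (.up 1 387 1)) (.leaf (.up 3 37 2))))) (.node (.node (.node (.leaf (.up 2 789 1)) (.leaf (.up 2 1326 1))) (.node (.leaf (.up 1 3 3)) (.leaf (.up 2 421 2)))) (.node (.node (.leaf (.up 1 170 2)) (.leaf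 (.up 1 8 1))) (.node (.leaf (.up 2 390 1)) (.leaf (.up 2 1681 2))))))) (.node (.node (.node (.node (.node (.leaf (.root 522)) (.leaf (.up 2 255 3))) (.node (.leaf (.up 2 1215 3)) (.leaf (.up 2 1001 2)))) (.node (.node (.leaf (.up 2 419 3)) (.leaf (.up 2 832 3))) (.node (.leaf (.up 3 1363 2)) (.leaf (.up 1 86 1))))) (.node (.node (.node (.leaf (.root 5914)) (.leaf (.up 3 744 2))) (.node (.leaf (.up 2 1235 2)) (.leaf (.up 1 16 0)))) (.node (.node (.leaf (.up 3 1106 2)) (.leaf (.up 2 1459 3))) (.node (.leaf (.up 2 499 3)) (.leaf (.up 3 617 2)))))) (.node (.node (.node (.node (.leaf (.up 2 1279 3)) (.leaf (.up 2 1564 3))) (.node (.leaf (.up 2 602 2)) (.leaf (.up 1 191 3)))) (.node (.node (.leaf (.up 2 731 2)) (.leaf (.up 2 893 1))) (.node (.leaf (.up 2 1390 2)) (.leaf (.up 3 1248 2))))) (.node (.node (.node (.leaf (.up 3 524 3)) (.leaf (.up 1 239 3))) (.node (.leaf (.up 2 1262 2)) (.leaf (.up 2 1612 3)))) (.node (.node (.leaf (.up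 2 435 3)) (.leaf (.up 2 848 3))) (.node (.leaf (.up 3 986 2)) (.leaf (.up 2 596 2)))))))) (.node (.node (.node (.node (.node (.node (.leaf (.root 4840)) (.leaf (.up 3 1728 2))) (.node (.leaf (.up 1 251 2)) (.leaf (.up 2 373 2)))) (.node (.node (.leaf (.up 1 122 2)) (.leaf (.up 2 1064 3))) (.node (.leaf (.up 1 64 1)) (.leaf (.up 2 1659 1))))) (.node (.node (.node (.leaf (.root 330)) (.leaf (.up 1 116 2))) (.node (.leaf (.up 2 1615 2)) (.leaf (.up 1 50 0)))) (.node (.node (.leaf (.up 1 56 3)) (.leaf (.up 1 54 0))) (.node (.leaf (.up 2 1691 3)) (.leaf (.up 3 245 2)))))) (.node (.node (.node (.node (.leaf (.root 2704)) (.leaf (.up 1 118 1))) (.node (.leaf (.up 1 198 2)) (.leaf (.up 3 2007 3)))) (.node (.node (.leaf (.up 1 40 3)) (.leaf (.up 2 457 2))) (.node (.leaf (.up 2 1246 1)) (.leaf (.up 3 1660 2))))) (.node (.node (.node (.leaf (.root 480)) (.leaf (.up 3 73 2))) (.node (.leaf (.up 2 967 3)) (.leaf (.up 3 292 3)))) (.node (.node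 (.leaf (.up 2 1755 3)) (.leaf (.up 2 1080 3))) (.node (.leaf (.up 1 120 3)) (.leaf (.up 3 200 2))))))) (.node (.node (.node (.node (.node (.leaf (.root 3924)) (.leaf (.up 2 517 2))) (.node (.leaf (.up 3 1086 2)) (.leaf (.up 3 1432 3)))) (.node (.node (.leaf (.root 294)) (.leaf (.up 1 132 3))) (.node (.leaf (.up 1 305 0)) (.leaf (.up 2 644 2))))) (.node (.node (.node (.leaf (.up 3 1343 2)) (.leaf (.up 1 18 0))) (.node (.leaf (.up 2 392 3)) (.leaf (.up 1 40 1)))) (.node (.node (.leaf (.up 2 1152 1)) (.leaf (.up 2 1655 3))) (.node (.leaf (.up 2 1470 2)) (.leaf (.up 1 22 0)))))) (.node (.node (.node (.node (.leaf (.root 4754)) (.leaf (.up 2 568 2))) (.node (.leaf (.up 2 1027 2)) (.leaf (.up 1 470 0)))) (.node (.node (.leaf (.up 1 27 1)) (.leaf (.up 2 1639 3))) (.node (.leaf (.up 2 823 2)) (.leaf (.up 2 196 3))))) (.node (.node (.node (.leaf (.up 3 456 3)) (.leaf (.up 2 811 3))) (.node (.leaf (.up 3 695 2)) (.leaf (.up 2 1416 3))))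 (.node (.node (.leaf (.up 1 30 1)) (.leaf (.up 1 148 3))) (.node (.leaf (.up 2 1411 2)) (.leaf (.up 3 1037 2))))))))

noncomputable def vt3_1_1001 : Tr VStep :=
  .node (.node (.node (.node (.node (.node (.node (.leaf (.root 282)) (.leaf (.up 2 449 3))) (.node (.leaf (.up 2 1409 3)) (.leaf (.up 2 727 2)))) (.node (.node (.leaf (.up 2 157 3)) (.leaf (.up 2 598 2))) (.node (.leaf (.up 2 1133 2)) (.leaf (.up 3 1245 3))))) (.node (.node (.node (.leaf (.root 3966)) (.leaf (.up 2 1842 3))) (.node (.leaf (.up 2 1517 2)) (.leaf (.up 1 56 0)))) (.node (.node (.leaf (.up 1 227 1)) (.leaf (.up 1 60 0))) (.node (.leaf (.up 1 205 3)) (.leaf (.up 3 855 2)))))) (.node (.node (.node (.node (.leaf (.up 2 1473 3)) (.leaf (.up 3 1375 2))) (.node (.leaf (.up 2 866 3)) (.leaf (.up 2 385 3)))) (.node (.node (.leaf (.up 2 997 2)) (.leaf (.up 2 579 1))) (.node (.leaf (.up 2 1104 2)) (.leaf (.up 3 1502 2))))) (.node (.node (.node (.leaf (.root 4248))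 (.leaf (.up 2 1003 2))) (.node (.leaf (.up 2 1425 3)) (.leaf (.up 2 1906 3)))) (.node (.node (.leaf (.up 1 141 3)) (.leaf (.up 1 582 1))) (.node (.leaf (.up 1 223 0)) (.leaf (.up 3 874 2))))))) (.node (.node (.node (.node (.node (.leaf (.up 2 1934 3)) (.leaf (.up 1 139 1))) (.node (.leaf (.up 2 261 1)) (.leaf (.up 2 1854 1)))) (.node (.node (.leaf (.up 2 1821 2)) (.leaf (.up 2 1746 3))) (.node (.leaf (.up 1 168 2)) (.leaf (.up 1 113 3))))) (.node (.node (.node (.leaf (.root 5096)) (.leaf (.up 1 24 0))) (.node (.leaf (.up 3 296 2)) (.leaf (.up 2 1341 3)))) (.node (.node (.leaf (.up 2 915 1)) (.leaf (.up 1 33 3))) (.node (.leaf (.up 2 1062 1)) (.leaf (.up 1 28 0)))))) (.node (.node (.node (.node (.leaf (.up 2 20 2)) (.leaf (.up 2 910 3))) (.node (.leaf (.up 2 1435 1)) (.leaf (.up 2 928 1)))) (.node (.node (.leaf (.up 2 722 3)) (.leaf (.up 1 49 3))) (.node (.leaf (.up 1 149 2)) (.leaf (.up 3 1682 3))))) (.node (.node (.node (.leaf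 (.up 3 1696 2)) (.leaf (.up 2 1040 1))) (.node (.leaf (.up 1 251 0)) (.leaf (.up 2 155 2)))) (.node (.node (.leaf (.up 2 404 2)) (.leaf (.up 1 26 2))) (.node (.leaf (.up 1 184 1)) (.leaf (.up 2 1667 1)))))))) (.node (.node (.node (.node (.node (.node (.leaf (.root 2611)) (.leaf (.up 2 517 3))) (.node (.leaf (.up 2 1280 2)) (.leaf (.up 2 275 1)))) (.node (.node (.leaf (.root 484)) (.leaf (.up 2 442 3))) (.node (.leaf (.up 1 281 0)) (.leaf (.up 2 954 2))))) (.node (.node (.node (.leaf (.up 1 152 1)) (.leaf (.up 1 58 0))) (.node (.leaf (.up 2 948 2)) (.leaf (.up 1 278 1)))) (.node (.node (.leaf (.up 2 1470 1)) (.leaf (.up 3 699 2))) (.node (.leaf (.up 2 1152 2)) (.leaf (.up 3 1294 2)))))) (.node (.node (.node (.node (.leaf (.root 3896)) (.leaf (.up 2 568 1))) (.node (.leaf (.up 2 1341 2)) (.leaf (.up 3 1203 2)))) (.node (.node (.leaf (.up 3 1466 3)) (.leaf (.up 2 1074 2))) (.node (.leaf (.up 2 793 3)) (.leaf (.up 2 506 3))))) (.node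 (.node (.node (.leaf (.up 2 246 3)) (.leaf (.up 1 533 3))) (.node (.leaf (.up 2 905 2)) (.leaf (.up 2 519 2)))) (.node (.node (.leaf (.up 3 841 3)) (.leaf (.up 2 646 2))) (.node (.leaf (.up 2 1685 1)) (.leaf (.up 3 1331 2))))))) (.node (.node (.node (.node (.node (.leaf (.root 5344)) (.leaf (.up 2 1494 1))) (.node (.leaf (.up 2 745 3)) (.leaf (.up 1 10 3)))) (.node (.node (.leaf (.up 3 2037 3)) (.leaf (.up 2 1302 3))) (.node (.leaf (.up 1 342 3)) (.leaf (.up 2 1861 1))))) (.node (.node (.node (.leaf (.root 180)) (.leaf (.up 1 90 3))) (.node (.leaf (.up 2 1050 3)) (.leaf (.up 1 26 0)))) (.node (.node (.leaf (.up 3 262 3)) (.leaf (.up 1 30 0))) (.node (.leaf (.up 3 69 2)) (.leaf (.up 3 459 2)))))) (.node (.node (.node (.node (.leaf (.up 2 1613 2)) (.leaf (.up 1 74 3))) (.node (.leaf (.up 1 198 1)) (.leaf (.up 1 118 2)))) (.node (.node (.leaf (.up 1 278 3)) (.leaf (.up 2 1134 1))) (.node (.leaf (.up 3 1740 2)) (.leaf (.up 2 987 1)))))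 (.node (.node (.node (.leaf (.root 552)) (.leaf (.up 2 1721 3))) (.node (.leaf (.up 1 195 1)) (.leaf (.up 1 26 3)))) (.node (.node (.leaf (.up 2 592 1)) (.leaf (.up 2 1286 3))) (.node (.leaf (.up 1 120 2)) (.leaf (.up 3 502 2))))))))

noncomputable def vt3_1_100 : Tr VStep := .node vt3_1_1000 vt3_1_1001

noncomputable def vt3_1_1010 : Tr VStep :=
  .node (.node (.node (.node (.node (.node (.node (.leaf (.root 4006)) (.leaf (.up 2 861 3))) (.node (.leaf (.up 1 23 0)) (.leaf (.up 2 1534 3)))) (.node (.node (.leaf (.up 1 19 0)) (.leaf (.up 3 226 3))) (.node (.leaf (.up 1 531 0)) (.leaf (.up 3 651 2))))) (.node (.node (.node (.leaf (.root 348)) (.leaf (.up 1 305 1))) (.node (.leaf (.up 1 191 1)) (.leaf (.up 2 781 3)))) (.node (.node (.leaf (.up 2 516 2)) (.leaf (.up 3 1553 3))) (.node (.leaf (.up 2 593 3)) (.leaf (.up 3 1087 2)))))) (.node (.node (.node (.node (.leaf (.up 2 1885 3)) (.leaf (.up 1 244 0))) (.node (.leaf (.up 3 510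 3)) (.leaf (.up 2 797 3)))) (.node (.node (.leaf (.up 2 1165 2)) (.leaf (.up 1 140 1))) (.node (.leaf (.up 3 577 3)) (.leaf (.up 1 162 3))))) (.node (.node (.node (.leaf (.up 2 430 3)) (.leaf (.up 2 1155 2))) (.node (.leaf (.up 3 696 2)) (.leaf (.up 2 1518 3)))) (.node (.node (.leaf (.up 2 529 3)) (.leaf (.up 1 137 1))) (.node (.leaf (.up 3 1202 3)) (.leaf (.up 3 1026 2))))))) (.node (.node (.node (.node (.node (.leaf (.up 2 1298 3)) (.leaf (.up 3 1743 2))) (.node (.leaf (.up 1 244 2)) (.leaf (.up 2 1521 1)))) (.node (.node (.leaf (.up 2 117 2)) (.leaf (.up 2 1102 3))) (.node (.leaf (.up 1 14 3)) (.leaf (.up 3 1614 2))))) (.node (.node (.node (.leaf (.up 2 501 2)) (.leaf (.up 1 123 2))) (.node (.leaf (.up 2 1346 3)) (.leaf (.up 3 1998 2)))) (.node (.node (.leaf (.up 1 94 3)) (.leaf (.up 2 1895 1))) (.node (.leaf (.up 3 1789 3)) (.leaf (.up 3 250 2)))))) (.node (.node (.node (.node (.leaf (.up 2 1916 2)) (.leaf (.up 2 1754 1)))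 (.node (.leaf (.up 1 201 2)) (.leaf (.up 2 1969 3)))) (.node (.node (.leaf (.up 2 78 3)) (.leaf (.up 3 685 3))) (.node (.leaf (.up 2 626 1)) (.leaf (.up 2 1038 3))))) (.node (.node (.node (.leaf (.up 1 228 1)) (.leaf (.up 1 70 2))) (.node (.leaf (.up 2 1661 2)) (.leaf (.up 2 322 3)))) (.node (.node (.leaf (.up 3 1788 2)) (.leaf (.up 2 1906 2))) (.node (.leaf (.up 1 30 3)) (.leaf (.up 2 765 3)))))))) (.node (.node (.node (.node (.node (.node (.leaf (.root 498)) (.leaf (.up 2 153 3))) (.node (.leaf (.root 412)) (.leaf (.up 2 988 1)))) (.node (.node (.leaf (.up 2 745 2)) (.leaf (.up 3 806 3))) (.node (.leaf (.up 1 17 0)) (.leaf (.up 3 1234 2))))) (.node (.node (.node (.leaf (.root 2798)) (.leaf (.up 1 306 0))) (.node (.leaf (.up 2 554 3)) (.leaf (.up 1 201 3)))) (.node (.node (.leaf (.up 3 1117 2)) (.leaf (.up 3 1493 3))) (.node (.leaf (.up 2 1000 2)) (.leaf (.up 3 614 2)))))) (.node (.node (.node (.node (.leaf (.up 2 1177 3)) (.leaf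 (.up 2 1134 2))) (.node (.leaf (.up 2 377 1)) (.leaf (.up 2 987 2)))) (.node (.node (.leaf (.up 3 724 2)) (.leaf (.up 2 1477 3))) (.node (.leaf (.up 3 389 3)) (.leaf (.up 2 870 3))))) (.node (.node (.node (.leaf (.up 2 618 3)) (.leaf (.up 1 137 3))) (.node (.leaf (.up 2 1249 2)) (.leaf (.up 2 1391 2)))) (.node (.node (.leaf (.root 562)) (.leaf (.up 2 1518 2))) (.node (.leaf (.up 2 1910 3)) (.leaf (.up 3 603 2))))))) (.node (.node (.node (.node (.node (.leaf (.root 362)) (.leaf (.up 1 150 2))) (.node (.leaf (.up 1 53 0)) (.leaf (.up 1 172 1)))) (.node (.node (.leaf (.up 1 49 0)) (.leaf (.up 3 1954 2))) (.node (.leaf (.up 3 970 3)) (.leaf (.up 1 23 2))))) (.node (.node (.node (.leaf (.up 2 295 1)) (.leaf (.up 2 1570 2))) (.node (.leaf (.up 1 25 2)) (.leaf (.up 1 169 1)))) (.node (.node (.leaf (.up 1 152 2)) (.leaf (.up 1 278 0))) (.node (.leaf (.up 2 948 1)) (.leaf (.up 3 1699 2)))))) (.node (.node (.node (.node (.leaf (.up 1 53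 3)) (.leaf (.up 2 726 3))) (.node (.leaf (.up 3 1680 2)) (.leaf (.up 2 1074 1)))) (.node (.node (.leaf (.up 1 154 1)) (.leaf (.up 2 1697 1))) (.node (.leaf (.up 2 420 2)) (.leaf (.up 1 42 2))))) (.node (.node (.node (.leaf (.up 2 1465 1)) (.leaf (.up 2 1567 2))) (.node (.leaf (.up 1 36 2)) (.leaf (.up 2 646 3)))) (.node (.node (.leaf (.up 1 159 1)) (.leaf (.up 3 1946 3))) (.node (.leaf (.up 2 1834 1)) (.leaf (.up 2 1694 2))))))))

noncomputable def vt3_1_1011 : Tr VStep :=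
  .node (.node (.node (.node (.node (.node (.node (.leaf (.up 2 1068 3)) (.leaf (.up 2 890 1))) (.node (.leaf (.up 3 655 3)) (.leaf (.up 1 68 2)))) (.node (.node (.leaf (.up 3 331 2)) (.leaf (.up 2 1392 3))) (.node (.leaf (.up 1 27 0)) (.leaf (.up 3 1904 2))))) (.node (.node (.node (.leaf (.root 438)) (.leaf (.up 1 60 3))) (.node (.leaf (.up 2 1148 3)) (.leaf (.up 2 1695 3)))) (.node (.node (.leaf (.up 1 98 1)) (.leaf (.up 2 1649 2))) (.node (.leaf (.up 1 74 2)) (.leaf (.up 3 452 2)))))) (.node (.node (.node (.node (.leaf (.up 2 1602 2)) (.leaf (.up 3 44 3))) (.node (.leaf (.up 2 1642 1)) (.leaf (.up 1 81 1)))) (.node (.node (.leaf (.up 2 368 3)) (.leaf (.up 1 248 0))) (.node (.leaf (.up 3 1731 2)) (.leaf (.up 2 1328 3))))) (.node (.node (.node (.leaf (.root 394)) (.leaf (.up 3 1759 3))) (.node (.leaf (.up 2 1647 1)) (.leaf (.up 1 84 1)))) (.node (.node (.leaf (.up 3 1986 2)) (.leaf (.up 2 1612 2))) (.node (.leaf (.up 1 119 2))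 (.leaf (.up 3 505 2))))))) (.node (.node (.node (.node (.node (.leaf (.up 2 698 2)) (.leaf (.up 1 10 1))) (.node (.leaf (.up 1 63 0)) (.leaf (.up 2 1153 2)))) (.node (.node (.leaf (.up 2 831 3)) (.leaf (.up 2 476 3))) (.node (.leaf (.up 2 1186 1)) (.leaf (.up 3 949 2))))) (.node (.node (.node (.leaf (.root 422)) (.leaf (.up 3 1168 3))) (.node (.leaf (.up 2 955 2)) (.leaf (.up 2 565 2)))) (.node (.node (.leaf (.up 2 826 2)) (.leaf (.up 3 692 2))) (.node (.leaf (.up 2 879 3)) (.leaf (.up 3 1281 2)))))) (.node (.node (.node (.node (.leaf (.up 2 1635 3)) (.leaf (.up 1 220 0))) (.node (.leaf (.up 1 192 3)) (.leaf (.up 2 547 3)))) (.node (.node (.leaf (.up 2 1459 2)) (.leaf (.up 2 434 1))) (.node (.leaf (.up 1 60 1)) (.leaf (.up 1 216 0))))) (.node (.node (.node (.leaf (.up 1 144 3)) (.leaf (.up 2 1469 2))) (.node (.leaf (.up 3 1587 3)) (.leaf (.up 2 1232 3)))) (.node (.node (.leaf (.up 2 775 2)) (.leaf (.up 1 439 1))) (.node (.leaf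 (.up 1 57 1)) (.leaf (.up 3 1340 2)))))))) (.node (.node (.node (.node (.node (.node (.leaf (.up 1 28 1)) (.leaf (.up 2 1291 3))) (.node (.leaf (.up 2 1961 1)) (.leaf (.up 1 402 1)))) (.node (.node (.leaf (.up 1 25 0)) (.leaf (.up 2 1716 3))) (.node (.leaf (.up 1 167 2)) (.leaf (.up 1 23 3))))) (.node (.node (.node (.leaf (.up 1 25 1)) (.leaf (.up 2 1570 1))) (.node (.leaf (.up 2 295 2)) (.leaf (.up 1 169 2)))) (.node (.node (.leaf (.up 2 676 3)) (.leaf (.up 1 40 2))) (.node (.leaf (.up 2 1031 3)) (.leaf (.up 2 1201 1)))))) (.node (.node (.node (.node (.leaf (.up 1 27 2)) (.leaf (.up 2 1000 3))) (.node (.leaf (.up 2 823 1)) (.leaf (.up 2 1355 3)))) (.node (.node (.leaf (.up 2 420 1)) (.leaf (.up 2 1697 2))) (.node (.leaf (.up 1 154 2)) (.leaf (.up 1 42 1))))) (.node (.node (.node (.leaf (.up 3 1711 2)) (.leaf (.up 2 1825 2))) (.node (.leaf (.up 2 347 3)) (.leaf (.up 1 148 2)))) (.node (.node (.leaf (.up 2 1095 3)) (.leaf (.up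 1 21 2))) (.node (.leaf (.up 2 1582 2)) (.leaf (.up 1 7 3))))))) (.node (.node (.node (.node (.node (.leaf (.root 440)) (.leaf (.up 3 423 3))) (.node (.leaf (.up 2 1511 3)) (.leaf (.up 3 728 2)))) (.node (.node (.leaf (.up 1 251 3)) (.leaf (.up 1 113 1))) (.node (.leaf (.up 1 57 0)) (.leaf (.up 2 1211 3))))) (.node (.node (.node (.leaf (.up 2 599 2)) (.leaf (.up 3 1876 3))) (.node (.leaf (.up 2 788 3)) (.leaf (.up 3 1132 2)))) (.node (.node (.leaf (.up 2 1615 1)) (.leaf (.up 1 116 1))) (.node (.leaf (.up 2 726 2)) (.leaf (.up 3 856 2)))))) (.node (.node (.node (.node (.leaf (.root 302)) (.leaf (.up 2 457 1))) (.node (.leaf (.up 3 772 3)) (.leaf (.up 1 222 0)))) (.node (.node (.leaf (.up 2 1560 3)) (.leaf (.up 2 1275 3))) (.node (.leaf (.up 1 187 3)) (.leaf (.up 2 600 3))))) (.node (.node (.node (.leaf (.up 2 618 2)) (.leaf (.up 1 439 3))) (.node (.leaf (.up 1 66 1)) (.leaf (.up 2 1105 2)))) (.node (.node (.leaf (.up 1 235 3))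 (.leaf (.up 2 1232 2))) (.node (.leaf (.up 2 1608 3)) (.leaf (.up 3 869 2))))))))

noncomputable def vt3_1_101 : Tr VStep := .node vt3_1_1010 vt3_1_1011

noncomputable def vt3_1_10 : Tr VStep := .node vt3_1_100 vt3_1_101

noncomputable def vt3_1_1100 : Tr VStep :=
  .node (.node (.node (.node (.node (.node (.node (.leaf (.root 2972)) (.leaf (.up 1 89 1))) (.node (.leaf (.up 2 1648 3)) (.leaf (.up 2 1171 3)))) (.node (.node (.leaf (.up 2 876 3)) (.leaf (.up 2 1349 2))) (.node (.leaf (.up 3 1487 3)) (.leaf (.up 3 752 2))))) (.node (.node (.node (.leaf (.root 230)) (.leaf (.up 1 92 1))) (.node (.leaf (.up 1 131 3)) (.leaf (.up 1 32 0)))) (.node (.node (.leaf (.root 3138)) (.leaf (.up 1 36 0))) (.node (.leaf (.up 2 828 3)) (.leaf (.up 3 1092 2)))))) (.node (.node (.node (.node (.leaf (.up 2 1584 3)) (.leaf (.up 2 1235 3))) (.node (.leaf (.up 1 147 3)) (.leaf (.up 2 624 3)))) (.node (.node (.leaf (.up 2 1270 2)) (.leaf (.up 3 1400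 2))) (.node (.leaf (.up 2 111 1)) (.leaf (.up 3 717 2))))) (.node (.node (.node (.leaf (.root 524)) (.leaf (.up 2 1218 1))) (.node (.leaf (.up 2 1632 3)) (.leaf (.up 2 1155 3)))) (.node (.node (.leaf (.up 2 578 2)) (.leaf (.up 1 415 3))) (.node (.leaf (.up 3 1503 3)) (.leaf (.up 2 1145 2))))))) (.node (.node (.node (.node (.node (.leaf (.root 5226)) (.leaf (.up 2 1716 2))) (.node (.leaf (.up 1 143 2)) (.leaf (.up 1 63 3)))) (.node (.node (.leaf (.up 1 14 2)) (.leaf (.up 1 384 2))) (.node (.leaf (.up 2 1979 2)) (.leaf (.up 2 1589 2))))) (.node (.node (.node (.leaf (.up 2 652 3)) (.leaf (.up 1 0 0))) (.node (.leaf (.up 3 1071 3)) (.leaf (.up 2 1177 1)))) (.node (.node (.leaf (.up 1 49 1)) (.leaf (.up 2 1546 1))) (.node (.leaf (.up 2 271 2)) (.leaf (.up 1 4 0)))))) (.node (.node (.node (.node (.leaf (.up 2 1799 2)) (.leaf (.up 2 1673 2))) (.node (.leaf (.up 2 1593 1)) (.leaf (.up 1 2 1)))) (.node (.node (.leaf (.up 2 291 3)) (.leaf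 (.up 3 960 3))) (.node (.leaf (.up 2 799 1)) (.leaf (.up 3 1544 2))))) (.node (.node (.node (.leaf (.root 296)) (.leaf (.up 1 61 2))) (.node (.leaf (.up 1 227 0)) (.leaf (.up 1 7 1)))) (.node (.node (.leaf (.up 3 1671 2)) (.leaf (.up 2 660 1))) (.node (.leaf (.up 1 306 2)) (.leaf (.up 2 912 3)))))))) (.node (.node (.node (.node (.node (.node (.leaf (.root 420)) (.leaf (.up 2 1064 2))) (.node (.leaf (.root 310)) (.leaf (.up 3 925 2)))) (.node (.node (.leaf (.up 1 168 3)) (.leaf (.up 1 34 1))) (.node (.leaf (.up 2 1547 3)) (.leaf (.up 2 1193 2))))) (.node (.node (.node (.leaf (.root 5330)) (.leaf (.up 1 34 0))) (.node (.leaf (.up 2 839 3)) (.leaf (.up 2 420 3)))) (.node (.node (.leaf (.root 370)) (.leaf (.up 3 1208 3))) (.node (.leaf (.up 1 248 3)) (.leaf (.up 3 541 2)))))) (.node (.node (.node (.node (.leaf (.up 2 1435 2)) (.leaf (.up 3 1045 2))) (.node (.leaf (.up 2 20 1)) (.leaf (.up 2 928 2)))) (.node (.node (.leaf (.up 2 1611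 3)) (.leaf (.up 2 1192 3))) (.node (.leaf (.up 3 232 3)) (.leaf (.up 3 1172 2))))) (.node (.node (.node (.leaf (.up 2 775 3)) (.leaf (.up 1 415 1))) (.node (.leaf (.up 1 17 1)) (.leaf (.up 2 1863 3)))) (.node (.node (.leaf (.up 1 184 3)) (.leaf (.up 2 1209 1))) (.node (.leaf (.up 3 1563 3)) (.leaf (.up 3 544 2))))))) (.node (.node (.node (.node (.node (.leaf (.up 2 1979 3)) (.leaf (.up 2 237 2))) (.node (.leaf (.up 2 280 3)) (.leaf (.up 2 1880 2)))) (.node (.node (.leaf (.up 2 1385 1)) (.leaf (.up 2 850 1))) (.node (.leaf (.up 3 679 3)) (.leaf (.up 1 68 3))))) (.node (.node (.node (.leaf (.up 1 74 1)) (.leaf (.up 2 1649 1))) (.node (.leaf (.up 1 98 2)) (.leaf (.up 1 2 0)))) (.node (.node (.leaf (.up 1 227 2)) (.leaf (.up 1 6 0))) (.node (.leaf (.up 3 1108 3)) (.leaf (.up 3 1752 2)))))) (.node (.node (.node (.node (.leaf (.up 2 344 3)) (.leaf (.up 2 955 3))) (.node (.leaf (.up 3 1771 2)) (.leaf (.up 2 1304 3)))) (.node (.node (.leaf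 (.up 2 1642 2)) (.leaf (.up 1 4 3))) (.node (.leaf (.up 2 1602 1)) (.leaf (.up 1 81 2))))) (.node (.node (.node (.leaf (.up 3 2026 2)) (.leaf (.up 2 751 1))) (.node (.leaf (.up 1 95 2)) (.leaf (.up 2 1003 3)))) (.node (.node (.leaf (.up 1 222 2)) (.leaf (.up 2 336 2))) (.node (.leaf (.up 2 1607 1)) (.leaf (.up 1 84 3))))))))

noncomputable def vt3_1_1101 : Tr VStep :=
  .node (.node (.node (.node (.node (.node (.node (.leaf (.root 4362)) (.leaf (.up 2 535 1))) (.node (.leaf (.up 3 994 3)) (.leaf (.up 1 63 2)))) (.node (.node (.leaf (.up 2 304 2)) (.leaf (.up 1 190 2))) (.node (.leaf (.up 2 93 3)) (.leaf (.up 1 132 1))))) (.node (.node (.node (.leaf (.root 266)) (.leaf (.up 1 40 0))) (.node (.leaf (.up 2 924 1)) (.leaf (.up 2 2034 3)))) (.node (.node (.leaf (.up 2 271 1)) (.leaf (.up 2 1546 2))) (.node (.leaf (.up 1 49 2)) (.leaf (.up 3 447 2)))))) (.node (.node (.node (.node (.leaf (.up 2 1593 2)) (.leaf (.up 2 1673 1))) (.node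 (.leaf (.up 2 1799 1)) (.leaf (.up 1 2 2)))) (.node (.node (.leaf (.up 2 29 3)) (.leaf (.up 1 131 2))) (.node (.leaf (.up 3 1720 2)) (.leaf (.up 2 1050 1))))) (.node (.node (.node (.leaf (.up 1 141 2)) (.leaf (.up 3 1970 3))) (.node (.leaf (.up 2 1848 2)) (.leaf (.up 2 273 3)))) (.node (.node (.leaf (.up 2 1425 1)) (.leaf (.up 2 938 1))) (.node (.leaf (.up 1 12 2)) (.leaf (.up 3 386 2))))))) (.node (.node (.node (.node (.node (.leaf (.up 2 705 2)) (.leaf (.up 3 782 3))) (.node (.leaf (.up 2 1870 3)) (.leaf (.up 2 1274 2)))) (.node (.node (.leaf (.up 2 594 3)) (.leaf (.up 2 1147 2))) (.node (.leaf (.up 1 576 2)) (.leaf (.up 3 974 2))))) (.node (.node (.node (.leaf (.up 3 1141 2)) (.leaf (.up 3 1533 3))) (.node (.leaf (.up 1 236 1)) (.leaf (.up 1 8 0)))) (.node (.node (.leaf (.up 2 833 2)) (.leaf (.up 1 12 0))) (.node (.leaf (.up 2 514 3)) (.leaf (.up 3 1402 2)))))) (.node (.node (.node (.node (.leaf (.up 2 1806 3)) (.leaf (.up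 2 1517 3))) (.node (.leaf (.up 3 429 3)) (.leaf (.up 2 846 3)))) (.node (.node (.leaf (.up 2 1201 3)) (.leaf (.up 1 223 1))) (.node (.leaf (.up 2 337 1)) (.leaf (.up 3 1011 2))))) (.node (.node (.node (.leaf (.root 528)) (.leaf (.up 2 1532 1))) (.node (.leaf (.up 3 1886 3)) (.leaf (.up 2 1469 3)))) (.node (.node (.leaf (.up 2 578 3)) (.leaf (.up 1 161 3))) (.node (.leaf (.up 1 239 0)) (.leaf (.up 2 1351 2)))))))) (.node (.node (.node (.node (.node (.node (.leaf (.root 254)) (.leaf (.up 2 467 2))) (.node (.leaf (.up 3 38 3)) (.leaf (.up 2 1638 2)))) (.node (.node (.leaf (.up 2 1111 1)) (.leaf (.up 3 1767 2))) (.node (.leaf (.up 1 220 2)) (.leaf (.up 3 338 2))))) (.node (.node (.node (.leaf (.up 1 118 3)) (.leaf (.up 2 1895 2))) (.node (.leaf (.up 3 1749 3)) (.leaf (.up 1 42 0)))) (.node (.node (.leaf (.up 2 969 3)) (.leaf (.up 1 46 0))) (.node (.leaf (.up 2 1386 3)) (.leaf (.up 3 2022 2)))))) (.node (.node (.node (.node (.leaf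 (.up 2 102 3)) (.leaf (.up 2 645 3))) (.node (.leaf (.up 2 602 1)) (.leaf (.up 2 1062 3)))) (.node (.node (.leaf (.up 1 201 1)) (.leaf (.up 2 1754 2))) (.node (.leaf (.up 2 1916 1)) (.leaf (.up 3 367 2))))) (.node (.node (.node (.leaf (.up 1 201 0)) (.leaf (.up 2 977 1))) (.node (.leaf (.up 1 54 3)) (.leaf (.up 1 239 2)))) (.node (.node (.leaf (.up 1 204 1)) (.leaf (.up 3 110 2))) (.node (.leaf (.up 1 205 0)) (.leaf (.up 2 322 1))))))) (.node (.node (.node (.node (.node (.leaf (.up 2 513 1)) (.leaf (.up 2 1302 2))) (.node (.leaf (.up 2 1162 3)) (.leaf (.up 2 911 1)))) (.node (.node (.leaf (.up 2 940 2)) (.leaf (.up 2 546 2))) (.node (.leaf (.up 2 1845 3)) (.leaf (.up 2 1494 3))))) (.node (.node (.node (.leaf (.root 3308)) (.leaf (.up 1 10 0))) (.node (.leaf (.up 2 633 3)) (.leaf (.up 1 154 3)))) (.node (.node (.leaf (.up 2 1304 2)) (.leaf (.up 1 281 1))) (.node (.leaf (.up 1 151 1)) (.leaf (.up 1 14 0)))))) (.node (.node (.node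 (.node (.leaf (.root 236)) (.leaf (.up 1 164 1))) (.node (.leaf (.up 2 298 1)) (.leaf (.up 1 138 3)))) (.node (.node (.leaf (.up 2 1909 3)) (.leaf (.up 2 1430 3))) (.node (.leaf (.up 1 470 3)) (.leaf (.up 3 1450 2))))) (.node (.node (.node (.leaf (.root 5496)) (.leaf (.up 1 161 1))) (.node (.leaf (.up 3 1178 3)) (.leaf (.up 2 1657 3)))) (.node (.node (.leaf (.up 2 390 3)) (.leaf (.up 2 1415 1))) (.node (.leaf (.up 3 656 2)) (.leaf (.up 3 798 2))))))))

noncomputable def vt3_1_110 : Tr VStep := .node vt3_1_1100 vt3_1_1101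

noncomputable def vt3_1_1110 : Tr VStep :=
  .node (.node (.node (.node (.node (.node (.node (.leaf (.root 378)) (.leaf (.up 1 216 1))) (.node (.leaf (.up 1 342 1)) (.leaf (.up 2 1901 1)))) (.node (.node (.leaf (.up 2 1624 2)) (.leaf (.up 2 1534 1))) (.node (.leaf (.up 1 3 0)) (.leaf (.up 1 34 3))))) (.node (.node (.node (.leaf (.up 3 302 3)) (.leaf (.up 2 973 3))) (.node (.leaf (.up 3 109 2)) (.leaf (.up 2 1390 3)))) (.node (.node (.leaf (.up 1 236 2)) (.leaf (.up 1 114 3))) (.node (.leaf (.up 2 1074 3)) (.leaf (.up 3 1751 2)))))) (.node (.node (.node (.node (.leaf (.up 2 337 2)) (.leaf (.up 1 223 2))) (.node (.leaf (.up 2 1480 1)) (.leaf (.up 1 228 0)))) (.node (.node (.leaf (.up 2 641 3)) (.leaf (.up 1 98 3))) (.node (.leaf (.up 1 238 1)) (.leaf (.up 1 94 2))))) (.node (.node (.node (.leaf (.up 3 2021 2)) (.leaf (.up 2 1326 3))) (.node (.leaf (.up 1 80 2)) (.leaf (.up 2 909 3)))) (.node (.node (.leaf (.up 1 209 2)) (.leaf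 (.up 2 1681 3))) (.node (.leaf (.up 1 235 1)) (.leaf (.up 1 50 3))))))) (.node (.node (.node (.node (.node (.leaf (.up 2 1449 2)) (.leaf (.up 1 402 3))) (.node (.leaf (.up 2 1490 3)) (.leaf (.up 3 1841 3)))) (.node (.node (.leaf (.up 1 35 0)) (.leaf (.up 2 557 3))) (.node (.leaf (.up 2 1320 2)) (.leaf (.up 3 1190 2))))) (.node (.node (.node (.leaf (.root 4376)) (.leaf (.up 3 659 2))) (.node (.leaf (.up 2 1192 2)) (.leaf (.up 2 1318 2)))) (.node (.node (.leaf (.up 2 1065 2)) (.leaf (.up 2 1246 3))) (.node (.leaf (.up 2 924 2)) (.leaf (.up 3 530 2)))))) (.node (.node (.node (.node (.leaf (.up 2 1426 3)) (.leaf (.up 2 1050 2))) (.node (.leaf (.up 2 817 3)) (.leaf (.up 1 131 1)))) (.node (.node (.leaf (.up 2 672 2)) (.leaf (.up 2 814 2))) (.node (.leaf (.up 2 926 1)) (.leaf (.up 1 192 0))))) (.node (.node (.node (.leaf (.up 3 865 3)) (.leaf (.up 2 1843 1))) (.node (.leaf (.up 2 1173 2)) (.leaf (.up 2 1825 3)))) (.node (.node (.leaf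 (.up 1 222 3)) (.leaf (.up 1 533 1))) (.node (.leaf (.up 2 1661 3)) (.leaf (.up 2 1182 3)))))))) (.node (.node (.node (.node (.node (.node (.leaf (.root 4100)) (.leaf (.up 2 1723 2))) (.node (.leaf (.up 1 5 0)) (.leaf (.up 1 89 3)))) (.node (.node (.leaf (.up 1 1 0)) (.leaf (.up 2 1349 3))) (.node (.leaf (.up 2 261 3)) (.leaf (.up 3 1594 2))))) (.node (.node (.node (.leaf (.root 260)) (.leaf (.up 1 9 3))) (.node (.leaf (.up 2 1588 2)) (.leaf (.up 2 565 1)))) (.node (.node (.leaf (.up 2 1717 2)) (.leaf (.up 2 950 3))) (.node (.leaf (.up 2 2038 3)) (.leaf (.up 3 142 2)))))) (.node (.node (.node (.node (.leaf (.up 2 762 3)) (.leaf (.up 1 25 3))) (.node (.leaf (.up 1 149 1)) (.leaf (.up 3 1722 3)))) (.node (.node (.leaf (.up 1 60 2)) (.leaf (.up 2 434 2))) (.node (.leaf (.up 2 1459 1)) (.leaf (.up 3 1543 2))))) (.node (.node (.node (.leaf (.up 2 444 2)) (.leaf (.up 1 50 2))) (.node (.leaf (.up 1 144 1)) (.leaf (.up 2 1707 1)))) (.node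 (.node (.leaf (.up 3 1672 2)) (.leaf (.up 2 1080 1))) (.node (.leaf (.up 2 317 2)) (.leaf (.up 2 179 2))))))) (.node (.node (.node (.node (.node (.leaf (.up 2 206 1)) (.leaf (.up 2 598 3))) (.node (.leaf (.up 2 1093 2)) (.leaf (.up 3 1269 3)))) (.node (.node (.leaf (.up 2 1220 2)) (.leaf (.up 2 1354 2))) (.node (.leaf (.up 1 33 0)) (.leaf (.up 3 767 2))))) (.node (.node (.node (.leaf (.up 2 1348 2)) (.leaf (.up 2 1189 3))) (.node (.leaf (.up 2 229 3)) (.leaf (.up 3 518 3)))) (.node (.node (.leaf (.root 5078)) (.leaf (.up 3 1022 2))) (.node (.leaf (.up 2 1477 2)) (.leaf (.up 3 1099 2)))))) (.node (.node (.node (.node (.leaf (.root 4222)) (.leaf (.up 2 579 2))) (.node (.leaf (.up 2 997 1)) (.leaf (.up 1 198 0)))) (.node (.node (.leaf (.up 2 1513 3)) (.leaf (.up 2 1802 3))) (.node (.leaf (.up 2 842 3)) (.leaf (.up 1 248 1))))) (.node (.node (.node (.leaf (.up 3 165 3)) (.leaf (.up 1 582 3))) (.node (.leaf (.up 2 716 2)) (.leaf (.up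 2 1253 3)))) (.node (.node (.leaf (.up 3 794 3)) (.leaf (.up 2 1864 1))) (.node (.leaf (.up 2 1465 3)) (.leaf (.up 3 1142 2))))))))

noncomputable def vt3_1_1111 : Tr VStep :=
  .node (.node (.node (.node (.node (.node (.node (.leaf (.up 2 1175 2)) (.leaf (.up 1 172 3))) (.node (.leaf (.up 2 1260 3)) (.leaf (.up 2 684 2)))) (.node (.node (.leaf (.up 1 11 0)) (.leaf (.up 2 557 2))) (.node (.leaf (.up 3 1046 2)) (.leaf (.up 1 5 1))))) (.node (.node (.node (.leaf (.root 5572)) (.leaf (.up 2 1631 3))) (.node (.leaf (.up 2 1430 2)) (.leaf (.up 2 1318 1)))) (.node (.node (.leaf (.up 3 1303 2)) (.leaf (.up 2 1177 2))) (.node (.leaf (.up 1 416 3)) (.leaf (.up 1 0 1)))))) (.node (.node (.node (.node (.leaf (.up 2 1196 3)) (.leaf (.up 1 236 0))) (.node (.leaf (.up 2 799 2)) (.leaf (.up 1 236 3)))) (.node (.node (.leaf (.up 2 926 2)) (.leaf (.up 2 814 1))) (.node (.leaf (.up 2 672 1)) (.leaf (.up 3 1445 2))))) (.node (.node (.node (.leaf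 (.up 1 54 1)) (.leaf (.up 2 912 2))) (.node (.leaf (.up 2 1451 2)) (.leaf (.up 2 1567 3)))) (.node (.node (.leaf (.up 3 480 3)) (.leaf (.up 2 1188 2))) (.node (.leaf (.up 3 671 2)) (.leaf (.up 2 785 2))))))) (.node (.node (.node (.node (.node (.leaf (.up 2 1763 3)) (.leaf (.up 2 476 2))) (.node (.leaf (.up 1 64 3)) (.leaf (.up 3 1641 2)))) (.node (.node (.leaf (.up 2 1894 2)) (.leaf (.up 3 1768 2))) (.node (.leaf (.up 2 1023 3)) (.leaf (.up 3 349 2))))) (.node (.node (.node (.leaf (.up 1 16 3)) (.leaf (.up 2 755 3))) (.node (.leaf (.up 2 1715 3)) (.leaf (.up 2 1104 3)))) (.node (.node (.leaf (.up 3 943 3)) (.leaf (.up 1 92 2))) (.node (.leaf (.up 2 1639 2)) (.leaf (.up 3 2025 2)))))) (.node (.node (.node (.node (.leaf (.up 1 0 3)) (.leaf (.up 2 739 3))) (.node (.leaf (.up 2 1270 1)) (.leaf (.up 1 204 0)))) (.node (.node (.leaf (.up 2 959 3)) (.leaf (.up 1 94 1))) (.node (.leaf (.up 1 238 2)) (.leaf (.up 3 2047 3))))) (.node (.node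 (.node (.leaf (.root 4482)) (.leaf (.up 2 1040 3))) (.node (.leaf (.up 1 80 3)) (.leaf (.up 2 691 3)))) (.node (.node (.leaf (.root 510)) (.leaf (.up 3 97 2))) (.node (.leaf (.up 1 469 1)) (.leaf (.up 3 268 3)))))))) (.node (.node (.node (.node (.node (.node (.leaf (.up 2 496 1)) (.leaf (.up 2 832 2))) (.node (.leaf (.up 3 1403 2)) (.leaf (.up 1 126 1)))) (.node (.node (.leaf (.up 2 1530 2)) (.leaf (.up 2 1140 2))) (.node (.leaf (.up 1 9 0)) (.leaf (.up 3 961 2))))) (.node (.node (.node (.leaf (.root 304)) (.leaf (.up 2 1435 3))) (.node (.leaf (.up 2 475 3)) (.leaf (.up 1 123 1)))) (.node (.node (.leaf (.root 2790)) (.leaf (.up 2 1572 3))) (.node (.leaf (.up 2 1275 2)) (.leaf (.up 3 1397 2)))))) (.node (.node (.node (.node (.leaf (.root 4682)) (.leaf (.up 2 893 2))) (.node (.leaf (.up 2 731 1)) (.leaf (.up 1 238 0)))) (.node (.node (.leaf (.up 2 1239 3)) (.leaf (.up 2 1588 3))) (.node (.leaf (.up 2 626 2)) (.leaf (.up 1 151 3)))))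 (.node (.node (.node (.leaf (.root 470)) (.leaf (.up 2 848 1))) (.node (.leaf (.up 2 1848 3)) (.leaf (.up 2 636 2)))) (.node (.node (.leaf (.up 3 548 3)) (.leaf (.up 2 765 2))) (.node (.leaf (.up 2 1222 2)) (.leaf (.up 3 1352 2))))))) (.node (.node (.node (.node (.node (.leaf (.root 4330)) (.leaf (.up 2 1211 1))) (.node (.leaf (.up 2 900 3)) (.leaf (.up 1 48 2)))) (.node (.node (.leaf (.up 2 1958 1)) (.leaf (.up 2 1147 3))) (.node (.leaf (.up 1 19 1)) (.leaf (.up 2 1576 1))))) (.node (.node (.node (.leaf (.root 308)) (.leaf (.up 1 305 2))) (.node (.leaf (.up 2 1328 1)) (.leaf (.up 3 1668 2)))) (.node (.node (.leaf (.up 2 1955 1)) (.leaf (.up 2 648 3))) (.node (.leaf (.up 1 22 1)) (.leaf (.up 3 432 2)))))) (.node (.node (.node (.node (.leaf (.up 2 964 3)) (.leaf (.up 2 295 3))) (.node (.leaf (.up 1 387 2)) (.leaf (.up 3 13 2)))) (.node (.node (.leaf (.up 1 123 3)) (.leaf (.up 1 140 2))) (.node (.leaf (.up 2 1165 1)) (.leaf (.up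 3 1083 3))))) (.node (.node (.node (.leaf (.up 1 130 2)) (.leaf (.up 1 32 1))) (.node (.leaf (.up 2 430 1)) (.leaf (.up 2 1721 2)))) (.node (.node (.leaf (.up 2 829 1)) (.leaf (.up 2 1286 1))) (.node (.leaf (.up 1 3 2)) (.leaf (.up 2 397 2))))))))

noncomputable def vt3_1_111 : Tr VStep := .node vt3_1_1110 vt3_1_1111

noncomputable def vt3_1_11 : Tr VStep := .node vt3_1_110 vt3_1_111

noncomputable def vt3_1_1 : Tr VStep := .node vt3_1_10 vt3_1_11

noncomputable def vt3_1_ : Tr VStep := .node vt3_1_0 vt3_1_1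

noncomputable def vt3_2_0000 : Tr VStep :=
  .node (.node (.node (.node (.node (.node (.node (.leaf (.root 4982)) (.leaf (.up 4 1995 2))) (.node (.leaf (.up 5 1900 0)) (.leaf (.up 2 1314 0)))) (.node (.node (.leaf (.up 2 1896 0)) (.leaf (.up 4 298 2))) (.node (.leaf (.up 3 1901 0)) (.leaf (.up 4 297 2))))) (.node (.node (.node (.leaf (.up 4 151 2)) (.leaf (.up 5 1334 0))) (.node (.leaf (.up 2 1917 0)) (.leaf (.up 3 1482 2)))) (.node (.node (.leaf (.up 2 1008 1)) (.leaf (.up 2 1335 0))) (.node (.leaf (.up 3 882 1)) (.leaf (.up 3 978 1)))))) (.node (.node (.node (.node (.leaf (.up 4 1055 1)) (.leaf (.up 3 1985 2))) (.node (.leaf (.up 4 1181 1)) (.leaf (.up 3 1085 1)))) (.node (.node (.leaf (.up 4 790 1)) (.leaf (.up 3 1489 0))) (.node (.leaf (.up 2 916 1)) (.leaf (.up 4 291 2))))) (.node (.node (.node (.leaf (.up 4 1167 1)) (.leaf (.up 3 1475 2))) (.node (.leaf (.up 4 1037 1)) (.leaf (.up 2 1197 1)))) (.node (.node (.leaf (.up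 4 902 1)) (.leaf (.up 2 806 1))) (.node (.leaf (.up 4 772 1)) (.leaf (.up 3 932 1))))))) (.node (.node (.node (.node (.node (.leaf (.root 4258)) (.leaf (.up 3 1043 2))) (.node (.leaf (.up 4 334 2)) (.leaf (.up 3 1040 2)))) (.node (.node (.leaf (.up 4 1964 2)) (.leaf (.up 5 1383 0))) (.node (.leaf (.up 4 1967 2)) (.leaf (.up 3 753 2))))) (.node (.node (.node (.leaf (.up 2 1849 0)) (.leaf (.up 2 1399 0))) (.node (.leaf (.up 4 844 2)) (.leaf (.up 3 380 1)))) (.node (.node (.leaf (.up 3 1623 1)) (.leaf (.up 2 240 2))) (.node (.leaf (.up 3 1749 1)) (.leaf (.up 3 243 2)))))) (.node (.node (.node (.node (.leaf (.up 4 327 2)) (.leaf (.up 3 280 1))) (.node (.leaf (.up 3 314 1)) (.leaf (.up 3 410 1)))) (.node (.node (.leaf (.up 4 1958 2)) (.leaf (.up 3 1424 0))) (.node (.leaf (.up 3 1957 2)) (.leaf (.up 3 763 2))))) (.node (.node (.node (.leaf (.up 4 296 1)) (.leaf (.up 3 1408 0))) (.node (.leaf (.up 4 426 1)) (.leaf (.up 3 1413 0)))) (.node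 (.node (.leaf (.up 2 1999 0)) (.leaf (.up 3 1409 0))) (.node (.leaf (.up 3 1994 0)) (.leaf (.up 3 1539 1)))))))) (.node (.node (.node (.node (.node (.node (.leaf (.root 4466)) (.leaf (.up 2 1572 2))) (.node (.leaf (.up 2 1131 1)) (.leaf (.up 4 1575 2)))) (.node (.node (.leaf (.up 4 1435 2)) (.leaf (.up 3 832 1))) (.node (.leaf (.up 3 866 1)) (.leaf (.up 2 198 2))))) (.node (.node (.node (.leaf (.up 2 240 0)) (.leaf (.up 2 702 0))) (.node (.leaf (.up 3 379 2)) (.leaf (.up 2 699 0)))) (.node (.node (.leaf (.up 4 1945 2)) (.leaf (.up 2 976 1))) (.node (.leaf (.up 3 244 0)) (.leaf (.up 3 850 1)))))) (.node (.node (.node (.node (.leaf (.up 1 22 0)) (.leaf (.up 4 1087 1))) (.node (.leaf (.up 2 19 0)) (.leaf (.up 4 1581 2)))) (.node (.node (.leaf (.up 3 918 1)) (.leaf (.up 4 207 2))) (.node (.leaf (.up 3 788 1)) (.leaf (.up 4 948 1))))) (.node (.node (.node (.leaf (.up 1 7 0)) (.leaf (.up 2 1199 1))) (.node (.leaf (.up 1 2 0)) (.leaf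 (.up 3 1069 1)))) (.node (.node (.leaf (.up 1 6 0)) (.leaf (.up 3 584 0))) (.node (.leaf (.up 1 3 0)) (.leaf (.up 3 589 0))))))) (.node (.node (.node (.node (.node (.leaf (.root 3080)) (.leaf (.up 3 1532 2))) (.node (.leaf (.up 2 165 0)) (.leaf (.up 3 747 0)))) (.node (.node (.leaf (.up 3 1607 1)) (.leaf (.up 3 751 0))) (.node (.leaf (.up 4 1600 2)) (.leaf (.up 3 1637 1))))) (.node (.node (.node (.leaf (.up 4 478 1)) (.leaf (.up 3 2046 2))) (.node (.leaf (.up 3 180 0)) (.leaf (.up 3 2045 2)))) (.node (.node (.leaf (.up 4 1089 2)) (.leaf (.up 2 766 0))) (.node (.leaf (.up 4 1090 2)) (.leaf (.up 3 763 0)))))) (.node (.node (.node (.node (.leaf (.up 4 87 0)) (.leaf (.up 3 408 1))) (.node (.leaf (.up 2 171 2)) (.leaf (.up 3 282 1)))) (.node (.node (.leaf (.up 3 1609 2)) (.leaf (.up 3 791 2))) (.node (.leaf (.up 3 1715 1)) (.leaf (.up 3 788 2))))) (.node (.node (.node (.leaf (.up 1 70 0)) (.leaf (.up 4 2036 2))) (.node (.leaf (.up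 4 67 0)) (.leaf (.up 2 2039 2)))) (.node (.node (.leaf (.up 3 1697 1)) (.leaf (.up 4 277 2))) (.node (.leaf (.up 1 66 0)) (.leaf (.up 2 524 0))))))))

noncomputable def vt3_2_0001 : Tr VStep :=
  .node (.node (.node (.node (.node (.node (.node (.leaf (.root 2551)) (.leaf (.up 4 750 2))) (.node (.leaf (.up 4 1971 2)) (.leaf (.up 3 1785 0)))) (.node (.node (.leaf (.up 4 337 2)) (.leaf (.up 4 1039 2))) (.node (.leaf (.up 3 1368 1)) (.leaf (.up 3 1784 0))))) (.node (.node (.node (.leaf (.up 2 1458 2)) (.leaf (.up 2 1773 0))) (.node (.leaf (.up 3 1457 2)) (.leaf (.up 4 239 2)))) (.node (.node (.leaf (.up 4 851 2)) (.leaf (.up 3 1772 0))) (.node (.leaf (.up 3 1191 0)) (.leaf (.up 3 1384 1)))))) (.node (.node (.node (.node (.leaf (.up 4 1978 2)) (.leaf (.up 3 517 1))) (.node (.leaf (.up 2 1977 2)) (.leaf (.up 4 743 2)))) (.node (.node (.leaf (.up 4 347 2)) (.leaf (.up 3 1029 2))) (.node (.leaf (.up 3 344 2)) (.leaf (.up 2 1030 2)))))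 (.node (.node (.node (.leaf (.root 3806)) (.leaf (.up 4 661 1))) (.node (.leaf (.up 3 1105 0)) (.leaf (.up 2 1567 0)))) (.node (.node (.leaf (.up 4 857 2)) (.leaf (.up 4 1543 2))) (.node (.leaf (.up 4 858 2)) (.leaf (.up 4 1310 1))))))) (.node (.node (.node (.node (.node (.leaf (.up 3 1128 2)) (.leaf (.up 3 2004 1))) (.node (.leaf (.up 2 1131 2)) (.leaf (.up 3 1878 1)))) (.node (.node (.leaf (.up 3 125 1)) (.leaf (.up 4 1724 0))) (.node (.leaf (.up 4 650 2)) (.leaf (.up 2 1721 0))))) (.node (.node (.node (.leaf (.up 3 1642 2)) (.leaf (.up 3 1708 0))) (.node (.leaf (.up 3 1255 0)) (.leaf (.up 3 823 2)))) (.node (.node (.leaf (.up 3 1251 0)) (.leaf (.up 2 1709 0))) (.node (.leaf (.up 3 136 2)) (.leaf (.up 4 1704 0)))))) (.node (.node (.node (.node (.leaf (.up 4 1122 2)) (.leaf (.up 2 1954 1))) (.node (.leaf (.up 4 1025 0)) (.leaf (.up 2 1615 0)))) (.node (.node (.leaf (.up 3 1029 0)) (.leaf (.up 2 171 1))) (.node (.leaf (.up 3 640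 2)) (.leaf (.up 1 41 1))))) (.node (.node (.node (.leaf (.up 4 1632 2)) (.leaf (.up 2 1842 1))) (.node (.leaf (.up 3 1808 1)) (.leaf (.up 4 1968 1)))) (.node (.node (.leaf (.up 1 129 2)) (.leaf (.up 4 59 1))) (.node (.leaf (.up 1 25 1)) (.leaf (.up 4 1500 2)))))))) (.node (.node (.node (.node (.node (.node (.leaf (.up 3 595 1)) (.leaf (.up 3 372 0))) (.node (.leaf (.up 3 831 0)) (.leaf (.up 4 770 2)))) (.node (.node (.leaf (.up 2 190 2)) (.leaf (.up 4 1504 2))) (.node (.leaf (.up 5 189 2)) (.leaf (.up 2 1400 1))))) (.node (.node (.node (.leaf (.up 4 1117 2)) (.leaf (.up 3 611 1))) (.node (.leaf (.up 4 1118 2)) (.leaf (.up 3 256 2)))) (.node (.node (.leaf (.up 2 700 2)) (.leaf (.up 4 2018 2))) (.node (.leaf (.up 4 815 0)) (.leaf (.up 5 2017 2)))))) (.node (.node (.node (.node (.leaf (.up 3 973 0)) (.leaf (.up 3 779 2))) (.node (.leaf (.up 4 1622 2)) (.leaf (.up 4 776 2)))) (.node (.node (.leaf (.up 2 1324 1)) (.leaf (.up 2 1420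 1))) (.node (.leaf (.up 3 969 0)) (.leaf (.up 4 1513 2))))) (.node (.node (.node (.leaf (.root 5360)) (.leaf (.up 3 265 2))) (.node (.leaf (.up 3 1108 2)) (.leaf (.up 4 663 1)))) (.node (.node (.leaf (.up 3 1468 1)) (.leaf (.up 4 1308 1))) (.node (.leaf (.up 3 1342 1)) (.leaf (.up 2 406 0))))))) (.node (.node (.node (.node (.node (.leaf (.root 4144)) (.leaf (.up 5 309 0))) (.node (.leaf (.up 4 1412 2)) (.leaf (.up 4 304 0)))) (.node (.node (.leaf (.up 3 870 2)) (.leaf (.up 5 1592 2))) (.node (.leaf (.up 2 869 2)) (.leaf (.up 2 1595 2))))) (.node (.node (.node (.leaf (.up 4 1925 2)) (.leaf (.up 4 731 2))) (.node (.leaf (.up 4 1926 2)) (.leaf (.up 4 728 2)))) (.node (.node (.leaf (.up 3 875 0)) (.leaf (.up 3 293 0))) (.node (.leaf (.up 4 359 2)) (.leaf (.up 3 1081 2)))))) (.node (.node (.node (.node (.leaf (.up 4 908 0)) (.leaf (.up 3 1826 1))) (.node (.leaf (.up 3 1422 2)) (.leaf (.up 2 208 2)))) (.node (.node (.leaf (.up 2 909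 0)) (.leaf (.up 1 43 1))) (.node (.leaf (.up 1 9 1)) (.leaf (.up 4 1585 2))))) (.node (.node (.node (.leaf (.up 4 1935 2)) (.leaf (.up 4 1970 1))) (.node (.leaf (.up 4 1932 2)) (.leaf (.up 2 470 0)))) (.node (.node (.leaf (.up 4 366 2)) (.leaf (.up 4 1072 2))) (.node (.leaf (.up 4 365 2)) (.leaf (.up 4 57 1))))))))

noncomputable def vt3_2_000 : Tr VStep := .node vt3_2_0000 vt3_2_0001

noncomputable def vt3_2_0010 : Tr VStep :=
  .node (.node (.node (.node (.node (.node (.node (.leaf (.root 3328)) (.leaf (.up 3 1444 1))) (.node (.leaf (.up 3 398 0)) (.leaf (.up 4 67 2)))) (.node (.node (.leaf (.up 3 525 1)) (.leaf (.up 3 1697 2))) (.node (.leaf (.up 3 655 1)) (.leaf (.up 4 1698 2))))) (.node (.node (.node (.leaf (.up 3 410 0)) (.leaf (.up 3 578 2))) (.node (.leaf (.up 4 1302 1)) (.leaf (.up 4 577 2)))) (.node (.node (.leaf (.up 4 669 1)) (.leaf (.up 3 1187 2))) (.node (.leaf (.up 3 414 0)) (.leaf (.up 2 976 0)))))) (.node (.node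 (.node (.node (.leaf (.root 4508)) (.leaf (.up 4 1490 1))) (.node (.leaf (.up 3 1303 2)) (.leaf (.up 3 823 0)))) (.node (.node (.leaf (.up 3 635 1)) (.leaf (.up 2 1707 2))) (.node (.leaf (.up 3 376 0)) (.leaf (.up 4 1704 2))))) (.node (.node (.node (.leaf (.up 3 1814 2)) (.leaf (.up 3 584 2))) (.node (.leaf (.up 3 1813 2)) (.leaf (.up 2 806 0)))) (.node (.node (.leaf (.up 3 747 1)) (.leaf (.up 3 587 1))) (.node (.leaf (.up 3 617 1)) (.leaf (.up 3 713 1))))))) (.node (.node (.node (.node (.node (.leaf (.up 4 1734 2)) (.leaf (.up 1 3 1))) (.node (.leaf (.up 1 33 1)) (.leaf (.up 1 129 1)))) (.node (.node (.leaf (.up 4 459 0)) (.leaf (.up 4 1401 2))) (.node (.leaf (.up 3 1832 1)) (.leaf (.up 4 896 0))))) (.node (.node (.node (.leaf (.up 3 51 1)) (.leaf (.up 3 917 0))) (.node (.leaf (.up 3 1223 2)) (.leaf (.up 1 17 1)))) (.node (.node (.leaf (.up 3 1850 1)) (.leaf (.up 2 916 0))) (.node (.leaf (.up 2 550 2)) (.leaf (.up 3 1816 1))))))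 (.node (.node (.node (.node (.leaf (.up 2 317 0)) (.leaf (.up 3 883 0))) (.node (.leaf (.up 2 1743 2)) (.leaf (.up 4 247 1)))) (.node (.node (.leaf (.up 5 45 2)) (.leaf (.up 3 882 0))) (.node (.leaf (.up 1 46 2)) (.leaf (.up 3 2046 1))))) (.node (.node (.node (.leaf (.up 3 1230 2)) (.leaf (.up 3 866 0))) (.node (.leaf (.up 3 1229 2)) (.leaf (.up 3 103 1)))) (.node (.node (.leaf (.up 3 1868 1)) (.leaf (.up 3 867 0))) (.node (.leaf (.up 4 296 0)) (.leaf (.up 3 870 0)))))))) (.node (.node (.node (.node (.node (.node (.leaf (.root 3840)) (.leaf (.up 3 1101 0))) (.node (.leaf (.up 2 1542 0)) (.leaf (.up 4 428 2)))) (.node (.node (.leaf (.up 3 528 2)) (.leaf (.up 3 1100 0))) (.node (.leaf (.up 2 531 2)) (.leaf (.up 3 687 1))))) (.node (.node (.node (.leaf (.up 4 1300 1)) (.leaf (.up 3 1116 0))) (.node (.leaf (.up 3 1776 2)) (.leaf (.up 3 942 2)))) (.node (.node (.leaf (.up 3 18 2)) (.leaf (.up 3 701 1))) (.node (.leaf (.up 1 17 2))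 (.leaf (.up 2 1359 2)))))) (.node (.node (.node (.node (.leaf (.up 3 1522 1)) (.leaf (.up 2 1210 0))) (.node (.leaf (.up 2 1777 0)) (.leaf (.up 4 1488 1)))) (.node (.node (.leaf (.up 3 763 1)) (.leaf (.up 4 603 1))) (.node (.leaf (.up 3 633 1)) (.leaf (.up 4 1863 2))))) (.node (.node (.node (.leaf (.up 3 1785 2)) (.leaf (.up 3 935 2))) (.node (.leaf (.up 3 1786 2)) (.leaf (.up 3 932 2)))) (.node (.node (.leaf (.up 3 619 1)) (.leaf (.up 4 1350 2))) (.node (.leaf (.up 3 745 1)) (.leaf (.up 2 1199 0))))))) (.node (.node (.node (.node (.node (.leaf (.up 1 35 1)) (.leaf (.up 4 631 2))) (.node (.leaf (.up 3 1607 0)) (.leaf (.up 1 1 1)))) (.node (.node (.leaf (.up 5 1603 0)) (.leaf (.up 4 1037 0))) (.node (.leaf (.up 4 459 2)) (.leaf (.up 4 1173 2))))) (.node (.node (.node (.leaf (.up 2 179 1)) (.leaf (.up 2 19 1))) (.node (.leaf (.up 1 49 1)) (.leaf (.up 1 118 2)))) (.node (.node (.leaf (.up 4 1618 0)) (.leaf (.up 4 1684 2))) (.node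 (.leaf (.up 3 1623 0)) (.leaf (.up 4 1687 2)))))) (.node (.node (.node (.node (.leaf (.up 3 1827 2)) (.leaf (.up 4 245 1))) (.node (.leaf (.up 4 1712 0)) (.leaf (.up 2 638 2)))) (.node (.node (.leaf (.up 2 1716 0)) (.leaf (.up 3 2044 1))) (.node (.leaf (.up 4 449 2)) (.leaf (.up 4 1183 2))))) (.node (.node (.node (.leaf (.up 2 1700 0)) (.leaf (.up 4 127 2))) (.node (.leaf (.up 2 1314 2)) (.leaf (.up 3 124 2)))) (.node (.node (.leaf (.up 3 1996 1)) (.leaf (.up 3 1694 2))) (.node (.leaf (.up 3 1870 1)) (.leaf (.up 3 1693 2))))))))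

noncomputable def vt3_2_0011 : Tr VStep :=
  .node (.node (.node (.node (.node (.node (.node (.leaf (.root 4382)) (.leaf (.up 3 30 0))) (.node (.leaf (.up 1 56 2)) (.leaf (.up 4 1382 2)))) (.node (.node (.leaf (.up 4 1754 2)) (.leaf (.up 4 900 2))) (.node (.leaf (.up 3 596 0)) (.leaf (.up 1 26 0))))) (.node (.node (.node (.leaf (.up 3 569 2)) (.leaf (.up 1 15 0))) (.node (.leaf (.up 4 580 0)) (.leaf (.up 1 10 0)))) (.node (.node (.leaf (.up 4 1240 2)) (.leaf (.up 1 14 0))) (.node (.leaf (.up 3 1189 1)) (.leaf (.up 3 1029 1)))))) (.node (.node (.node (.node (.leaf (.up 1 49 2)) (.leaf (.up 2 1391 2))) (.node (.leaf (.up 4 50 2)) (.leaf (.up 3 1002 1)))) (.node (.node (.leaf (.up 4 1744 2)) (.leaf (.up 4 910 2))) (.node (.leaf (.up 3 1747 2)) (.leaf (.up 2 909 2))))) (.node (.node (.node (.leaf (.up 4 563 2)) (.leaf (.up 3 1901 2))) (.node (.leaf (.up 2 691 0)) (.leaf (.up 4 890 1)))) (.node (.node (.leaf (.up 3 1105 1)) (.leaf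 (.up 4 1265 1))) (.node (.leaf (.up 3 1235 1)) (.leaf (.up 2 252 0))))))) (.node (.node (.node (.node (.node (.leaf (.up 5 529 0)) (.leaf (.up 2 1721 1))) (.node (.leaf (.up 3 532 0)) (.leaf (.up 2 1595 1)))) (.node (.node (.leaf (.up 3 528 0)) (.leaf (.up 1 92 2))) (.node (.leaf (.up 5 533 0)) (.leaf (.up 4 91 0))))) (.node (.node (.node (.leaf (.up 5 481 2)) (.leaf (.up 3 1577 1))) (.node (.leaf (.up 2 482 2)) (.leaf (.up 2 1707 1)))) (.node (.node (.leaf (.up 3 384 1)) (.leaf (.up 5 79 0))) (.node (.leaf (.up 3 1795 2)) (.leaf (.up 3 418 1)))))) (.node (.node (.node (.node (.leaf (.up 3 742 0)) (.leaf (.up 2 1743 1))) (.node (.leaf (.up 2 1773 1)) (.leaf (.up 2 1716 2)))) (.node (.node (.leaf (.up 3 358 1)) (.leaf (.up 4 86 2))) (.node (.leaf (.up 4 1291 2)) (.leaf (.up 4 85 2))))) (.node (.node (.node (.leaf (.up 4 491 2)) (.leaf (.up 4 1205 2))) (.node (.leaf (.up 2 488 2)) (.leaf (.up 2 188 0)))) (.node (.node (.leaf (.up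 3 758 0)) (.leaf (.up 3 596 2))) (.node (.leaf (.up 3 372 1)) (.leaf (.up 4 599 2)))))))) (.node (.node (.node (.node (.node (.node (.leaf (.up 4 468 2)) (.leaf (.up 4 926 1))) (.node (.leaf (.up 3 956 1)) (.leaf (.up 4 1161 2)))) (.node (.node (.leaf (.up 2 1845 2)) (.leaf (.up 3 1943 0))) (.node (.leaf (.up 4 1500 0)) (.leaf (.up 5 616 2))))) (.node (.node (.node (.leaf (.up 2 982 2)) (.leaf (.up 4 782 1))) (.node (.leaf (.up 4 981 2)) (.leaf (.up 4 908 1)))) (.node (.node (.leaf (.up 2 1335 2)) (.leaf (.up 4 1031 1))) (.node (.leaf (.up 5 1332 2)) (.leaf (.up 4 1157 1)))))) (.node (.node (.node (.node (.leaf (.root 2591)) (.leaf (.up 2 1000 1))) (.node (.leaf (.up 4 477 2)) (.leaf (.up 4 1155 2)))) (.node (.node (.leaf (.up 4 1855 2)) (.leaf (.up 2 1249 1))) (.node (.leaf (.up 3 1219 1)) (.leaf (.up 3 1123 1))))) (.node (.node (.node (.leaf (.up 3 988 2)) (.leaf (.up 2 888 1))) (.node (.leaf (.up 4 991 2)) (.leaf (.up 2 1909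 0)))) (.node (.node (.leaf (.up 3 1343 0)) (.leaf (.up 3 99 2))) (.node (.leaf (.up 2 1338 0)) (.leaf (.up 4 1267 1))))))) (.node (.node (.node (.node (.node (.leaf (.up 2 524 2)) (.leaf (.up 2 1593 1))) (.node (.leaf (.up 4 527 2)) (.leaf (.up 3 1723 1)))) (.node (.node (.leaf (.up 5 1432 0)) (.leaf (.up 4 304 1))) (.node (.leaf (.up 4 1262 2)) (.leaf (.up 4 434 1))))) (.node (.node (.node (.leaf (.up 1 14 2)) (.leaf (.up 5 1990 0))) (.node (.leaf (.up 1 13 2)) (.leaf (.up 3 1363 2)))) (.node (.node (.leaf (.up 2 1775 2)) (.leaf (.up 2 1991 0))) (.node (.leaf (.up 2 1420 0)) (.leaf (.up 5 1986 0)))))) (.node (.node (.node (.node (.leaf (.up 2 1775 1)) (.leaf (.up 2 1615 1))) (.node (.leaf (.up 3 517 2)) (.leaf (.up 4 1883 2)))) (.node (.node (.leaf (.up 2 1391 0)) (.leaf (.up 3 441 2))) (.node (.leaf (.up 4 1252 2)) (.leaf (.up 4 442 2))))) (.node (.node (.node (.leaf (.up 1 4 2)) (.leaf (.up 3 1370 2))) (.node (.leaf (.up 1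 7 2)) (.leaf (.up 4 1629 1)))) (.node (.node (.leaf (.up 4 1765 2)) (.leaf (.up 2 470 1))) (.node (.leaf (.up 4 1766 2)) (.leaf (.up 2 1845 0))))))))

noncomputable def vt3_2_001 : Tr VStep := .node vt3_2_0010 vt3_2_0011

noncomputable def vt3_2_00 : Tr VStep := .node vt3_2_000 vt3_2_001

noncomputable def vt3_2_0100 : Tr VStep :=
  .node (.node (.node (.node (.node (.node (.node (.leaf (.root 3644)) (.leaf (.up 4 1993 2))) (.node (.leaf (.up 4 1664 0)) (.leaf (.up 3 1230 0)))) (.node (.node (.leaf (.up 4 1142 2)) (.leaf (.up 4 296 2))) (.node (.leaf (.up 3 1409 1)) (.leaf (.up 5 299 2))))) (.node (.node (.node (.leaf (.up 4 1684 0)) (.leaf (.up 2 1242 0))) (.node (.leaf (.up 3 150 2)) (.leaf (.up 5 1247 0)))) (.node (.node (.leaf (.up 3 1652 2)) (.leaf (.up 5 1243 0))) (.node (.leaf (.up 3 1680 0)) (.leaf (.up 3 1457 1)))))) (.node (.node (.node (.node (.leaf (.root 4468)) (.leaf (.up 3 1084 0))) (.node (.leaf (.up 2 766 1))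 (.leaf (.up 3 1081 0)))) (.node (.node (.leaf (.up 2 1397 1)) (.leaf (.up 3 1085 0))) (.node (.leaf (.up 3 1527 1)) (.leaf (.up 5 289 2))))) (.node (.node (.node (.leaf (.up 3 748 1)) (.leaf (.up 3 1069 0))) (.node (.leaf (.up 3 1638 0)) (.leaf (.up 4 1474 2)))) (.node (.node (.leaf (.up 4 1662 2)) (.leaf (.up 3 1068 0))) (.node (.leaf (.up 3 1661 2)) (.leaf (.up 4 803 2))))))) (.node (.node (.node (.node (.node (.leaf (.root 6254)) (.leaf (.up 4 1041 2))) (.node (.leaf (.up 3 1729 0)) (.leaf (.up 4 1167 0)))) (.node (.node (.leaf (.up 4 1966 2)) (.leaf (.up 1 4 1))) (.node (.leaf (.up 2 1965 2)) (.leaf (.up 2 134 1))))) (.node (.node (.node (.leaf (.up 3 1749 0)) (.leaf (.up 4 1555 2))) (.node (.leaf (.up 4 1744 0)) (.leaf (.up 3 1182 0)))) (.node (.node (.leaf (.up 2 52 1)) (.leaf (.up 5 242 2))) (.node (.leaf (.up 4 1455 2)) (.leaf (.up 1 22 1)))))) (.node (.node (.node (.node (.leaf (.up 3 325 2)) (.leaf (.up 3 1149 0))) (.node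 (.leaf (.up 3 1881 1)) (.leaf (.up 4 1144 0)))) (.node (.node (.leaf (.up 4 1956 2)) (.leaf (.up 3 1148 0))) (.node (.leaf (.up 2 80 1)) (.leaf (.up 2 240 1))))) (.node (.node (.node (.leaf (.up 4 839 2)) (.leaf (.up 3 1132 0))) (.node (.leaf (.up 4 1575 0)) (.leaf (.up 3 1897 1)))) (.node (.node (.leaf (.up 1 66 1)) (.leaf (.up 3 1133 0))) (.node (.leaf (.up 4 1445 2)) (.leaf (.up 3 1128 0)))))))) (.node (.node (.node (.node (.node (.node (.leaf (.up 2 888 2)) (.leaf (.up 3 835 0))) (.node (.leaf (.up 3 891 2)) (.leaf (.up 4 1573 2)))) (.node (.node (.leaf (.up 5 268 0)) (.leaf (.up 4 199 2))) (.node (.leaf (.up 3 265 0)) (.leaf (.up 3 1441 1))))) (.node (.node (.node (.leaf (.up 3 284 0)) (.leaf (.up 2 1060 2))) (.node (.leaf (.up 3 281 0)) (.leaf (.up 3 855 0)))) (.node (.node (.leaf (.up 4 1947 2)) (.leaf (.up 3 1459 1))) (.node (.leaf (.up 3 280 0)) (.leaf (.up 5 854 0)))))) (.node (.node (.node (.node (.leaf (.up 2 764 1))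 (.leaf (.up 3 1580 2))) (.node (.leaf (.up 2 638 1)) (.leaf (.up 3 734 1)))) (.node (.node (.leaf (.up 4 1427 2)) (.leaf (.up 3 205 2))) (.node (.leaf (.up 2 1399 1)) (.leaf (.up 4 206 2))))) (.node (.node (.node (.leaf (.up 3 620 1)) (.leaf (.up 3 716 1))) (.node (.leaf (.up 4 371 2)) (.leaf (.up 2 590 1)))) (.node (.node (.leaf (.up 4 1937 2)) (.leaf (.up 3 932 0))) (.node (.leaf (.up 2 1511 1)) (.leaf (.up 3 716 2))))))) (.node (.node (.node (.node (.node (.leaf (.up 3 160 2)) (.leaf (.up 4 770 0))) (.node (.leaf (.up 4 329 0)) (.leaf (.up 4 775 0)))) (.node (.node (.leaf (.up 3 1601 2)) (.leaf (.up 4 799 2))) (.node (.leaf (.up 4 1602 2)) (.leaf (.up 1 6 1))))) (.node (.node (.node (.leaf (.up 5 674 2)) (.leaf (.up 2 787 0))) (.node (.leaf (.up 2 673 2)) (.leaf (.up 4 790 0)))) (.node (.node (.leaf (.up 3 180 1)) (.leaf (.up 1 20 1))) (.node (.leaf (.up 4 1088 2)) (.leaf (.up 3 791 0)))))) (.node (.node (.node (.node (.leaf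 (.up 4 170 2)) (.leaf (.up 4 1524 2))) (.node (.leaf (.up 3 446 0)) (.leaf (.up 2 1008 0)))) (.node (.node (.leaf (.up 3 82 1)) (.leaf (.up 3 789 2))) (.node (.leaf (.up 2 208 1)) (.leaf (.up 4 790 2))))) (.node (.node (.node (.leaf (.up 4 426 0)) (.leaf (.up 4 2038 2))) (.node (.leaf (.up 4 683 2)) (.leaf (.up 3 2037 2)))) (.node (.node (.leaf (.up 4 1097 2)) (.leaf (.up 2 997 0))) (.node (.leaf (.up 4 1098 2)) (.leaf (.up 4 276 2))))))))

noncomputable def vt3_2_0101 : Tr VStep :=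
  .node (.node (.node (.node (.node (.node (.node (.leaf (.root 4476)) (.leaf (.up 3 1808 0))) (.node (.leaf (.up 3 1969 2)) (.leaf (.up 3 1813 0)))) (.node (.node (.leaf (.up 4 339 2)) (.leaf (.up 4 1037 2))) (.node (.leaf (.up 3 1370 0)) (.leaf (.up 4 1038 2))))) (.node (.node (.node (.leaf (.up 2 1359 0)) (.leaf (.up 4 238 2))) (.node (.leaf (.up 3 1459 2)) (.leaf (.up 5 1796 0)))) (.node (.node (.leaf (.up 3 849 2)) (.leaf (.up 5 1792 0))) (.node (.leaf (.up 3 850 2)) (.leaf (.up 3 779 1)))))) (.node (.node (.node (.node (.leaf (.up 4 1976 2)) (.leaf (.up 3 742 2))) (.node (.leaf (.up 5 1979 2)) (.leaf (.up 3 741 2)))) (.node (.node (.leaf (.up 3 1448 0)) (.leaf (.up 4 1031 2))) (.node (.leaf (.up 3 845 1)) (.leaf (.up 3 1005 1))))) (.node (.node (.node (.leaf (.up 3 1466 2)) (.leaf (.up 3 1270 1))) (.node (.leaf (.up 2 1469 0)) (.leaf (.up 5 231 2)))) (.node (.node (.leaf (.up 4 859 2)) (.leaf (.up 2 2039 0))) (.node (.leaf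 (.up 3 1468 0)) (.leaf (.up 2 1542 2))))))) (.node (.node (.node (.node (.node (.leaf (.up 3 279 1)) (.leaf (.up 2 439 1))) (.node (.leaf (.up 4 1129 2)) (.leaf (.up 3 311 2)))) (.node (.node (.leaf (.up 3 651 2)) (.leaf (.up 4 2005 2))) (.node (.leaf (.up 4 648 2)) (.leaf (.up 4 2006 2))))) (.node (.node (.node (.leaf (.up 3 1640 2)) (.leaf (.up 3 295 1))) (.node (.leaf (.up 3 261 1)) (.leaf (.up 3 421 1)))) (.node (.node (.leaf (.up 3 1678 1)) (.leaf (.up 3 1857 0))) (.node (.leaf (.up 3 138 2)) (.leaf (.up 3 1708 1)))))) (.node (.node (.node (.node (.leaf (.up 4 1120 2)) (.leaf (.up 4 449 1))) (.node (.leaf (.up 3 1123 2)) (.leaf (.up 2 317 2)))) (.node (.node (.leaf (.up 3 1640 1)) (.leaf (.up 3 1736 1))) (.node (.leaf (.up 4 1516 0)) (.leaf (.up 2 1954 0))))) (.node (.node (.node (.leaf (.up 5 1634 2)) (.leaf (.up 4 337 1))) (.node (.leaf (.up 2 1633 2)) (.leaf (.up 3 831 2)))) (.node (.node (.leaf (.up 3 1784 1)) (.leaf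 (.up 4 1501 2))) (.node (.leaf (.up 2 1658 1)) (.leaf (.up 3 1502 2)))))))) (.node (.node (.node (.node (.node (.node (.leaf (.root 3550)) (.leaf (.up 3 1168 1))) (.node (.leaf (.up 3 1202 1)) (.leaf (.up 4 768 2)))) (.node (.node (.leaf (.up 2 188 2)) (.leaf (.up 4 1506 2))) (.node (.leaf (.up 3 955 1)) (.leaf (.up 3 156 0))))) (.node (.node (.node (.leaf (.up 3 1184 1)) (.leaf (.up 5 137 0))) (.node (.leaf (.up 3 1116 2)) (.leaf (.up 3 1154 1)))) (.node (.node (.leaf (.up 2 702 2)) (.leaf (.up 3 777 1))) (.node (.leaf (.up 3 701 2)) (.leaf (.up 3 907 1)))))) (.node (.node (.node (.node (.leaf (.up 3 1623 2)) (.leaf (.up 3 777 2))) (.node (.leaf (.up 2 548 0)) (.leaf (.up 4 778 2)))) (.node (.node (.leaf (.up 3 847 1)) (.leaf (.up 2 110 0))) (.node (.leaf (.up 3 973 1)) (.leaf (.up 3 877 1))))) (.node (.node (.node (.leaf (.up 3 560 0)) (.leaf (.up 1 126 0))) (.node (.leaf (.up 3 1108 1)) (.leaf (.up 3 123 0)))) (.node (.node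 (.leaf (.up 2 692 2)) (.leaf (.up 4 127 0))) (.node (.leaf (.up 3 695 2)) (.leaf (.up 3 1021 1))))))) (.node (.node (.node (.node (.node (.leaf (.up 3 1413 2)) (.leaf (.up 2 219 2))) (.node (.leaf (.up 3 1414 2)) (.leaf (.up 1 216 2)))) (.node (.node (.leaf (.up 2 868 2)) (.leaf (.up 1 216 0))) (.node (.leaf (.up 4 871 2)) (.leaf (.up 2 1593 2))))) (.node (.node (.node (.leaf (.up 4 1927 2)) (.leaf (.up 1 200 0))) (.node (.leaf (.up 3 1924 2)) (.leaf (.up 3 293 1)))) (.node (.node (.leaf (.up 3 358 2)) (.leaf (.up 2 1710 1))) (.node (.leaf (.up 2 1676 1)) (.leaf (.up 3 1580 1)))))) (.node (.node (.node (.node (.leaf (.up 3 1423 2)) (.leaf (.up 1 46 0))) (.node (.leaf (.up 2 1420 2)) (.leaf (.up 1 43 0)))) (.node (.node (.leaf (.up 5 878 2)) (.leaf (.up 3 47 0))) (.node (.leaf (.up 3 612 0)) (.leaf (.up 4 1587 2))))) (.node (.node (.node (.leaf (.up 4 1933 2)) (.leaf (.up 4 723 2))) (.node (.leaf (.up 4 1934 2)) (.leaf (.up 2 720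 2)))) (.node (.node (.leaf (.up 3 1656 1)) (.leaf (.up 5 1074 2))) (.node (.leaf (.up 3 1786 1)) (.leaf (.up 3 1073 2))))))))

noncomputable def vt3_2_010 : Tr VStep := .node vt3_2_0100 vt3_2_0101

noncomputable def vt3_2_0110 : Tr VStep :=
  .node (.node (.node (.node (.node (.node (.node (.leaf (.root 3886)) (.leaf (.up 1 66 2))) (.node (.leaf (.up 2 997 1)) (.leaf (.up 1 65 2)))) (.node (.node (.leaf (.up 3 1021 2)) (.leaf (.up 3 1230 1))) (.node (.leaf (.up 3 99 0)) (.leaf (.up 3 1100 1))))) (.node (.node (.node (.leaf (.up 1 118 0)) (.leaf (.up 3 855 1))) (.node (.leaf (.up 4 115 0)) (.leaf (.up 4 579 2)))) (.node (.node (.leaf (.up 3 1278 1)) (.leaf (.up 2 1185 2))) (.node (.leaf (.up 3 1148 1)) (.leaf (.up 3 1244 1)))))) (.node (.node (.node (.node (.leaf (.root 3820)) (.leaf (.up 3 734 0))) (.node (.leaf (.up 2 915 1)) (.leaf (.up 3 819 1)))) (.node (.node (.leaf (.up 4 1015 2)) (.leaf (.up 3 735 0))) (.node (.leaf (.up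 4 1012 2)) (.leaf (.up 3 1082 1))))) (.node (.node (.node (.leaf (.up 1 129 0)) (.leaf (.up 3 719 0))) (.node (.leaf (.up 4 1815 2)) (.leaf (.up 3 714 0)))) (.node (.node (.leaf (.up 3 1160 1)) (.leaf (.up 4 1195 2))) (.node (.leaf (.up 4 1034 1)) (.leaf (.up 4 1192 2))))))) (.node (.node (.node (.node (.node (.leaf (.up 3 1732 2)) (.leaf (.up 4 922 2))) (.node (.leaf (.up 1 35 0)) (.leaf (.up 3 621 0)))) (.node (.node (.leaf (.up 1 37 2)) (.leaf (.up 3 617 0))) (.node (.leaf (.up 1 34 0)) (.leaf (.up 2 1400 2))))) (.node (.node (.node (.leaf (.up 3 55 0)) (.leaf (.up 3 633 0))) (.node (.leaf (.up 3 1746 1)) (.leaf (.up 3 1650 1)))) (.node (.node (.leaf (.up 4 551 2)) (.leaf (.up 4 632 0))) (.node (.leaf (.up 2 548 2)) (.leaf (.up 3 379 1)))))) (.node (.node (.node (.node (.leaf (.up 4 1742 2)) (.leaf (.up 4 912 2))) (.node (.leaf (.up 2 1588 1)) (.leaf (.up 2 915 2)))) (.node (.node (.leaf (.up 2 208 0)) (.leaf (.up 3 670 0)))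 (.node (.leaf (.up 2 317 1)) (.leaf (.up 4 1394 2))))) (.node (.node (.node (.leaf (.up 4 1228 2)) (.leaf (.up 3 654 0))) (.node (.leaf (.up 2 1700 1)) (.leaf (.up 3 651 0)))) (.node (.node (.leaf (.up 3 557 2)) (.leaf (.up 3 655 0))) (.node (.leaf (.up 2 429 1)) (.leaf (.up 3 269 1)))))))) (.node (.node (.node (.node (.node (.node (.leaf (.root 4212)) (.leaf (.up 2 429 2))) (.node (.leaf (.up 2 869 1)) (.leaf (.up 3 1444 0)))) (.node (.node (.leaf (.up 4 530 2)) (.leaf (.up 3 1440 0))) (.node (.leaf (.up 3 1132 1)) (.leaf (.up 2 1871 2))))) (.node (.node (.node (.leaf (.up 2 1777 2)) (.leaf (.up 3 1456 0))) (.node (.leaf (.up 4 1778 2)) (.leaf (.up 4 940 2)))) (.node (.node (.leaf (.up 1 16 2)) (.leaf (.up 3 1457 0))) (.node (.leaf (.up 2 19 2)) (.leaf (.up 3 1116 1)))))) (.node (.node (.node (.node (.leaf (.up 3 1816 0)) (.leaf (.up 4 423 2))) (.node (.leaf (.up 2 787 1)) (.leaf (.up 3 1363 0)))) (.node (.node (.leaf (.up 4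 536 2)) (.leaf (.up 4 1862 2))) (.node (.leaf (.up 4 539 2)) (.leaf (.up 2 1210 1))))) (.node (.node (.node (.leaf (.up 4 1787 2)) (.leaf (.up 4 933 2))) (.node (.leaf (.up 2 1804 0)) (.leaf (.up 3 934 2)))) (.node (.node (.leaf (.up 1 26 2)) (.leaf (.up 3 1348 2))) (.node (.leaf (.up 1 25 2)) (.leaf (.up 3 1066 1))))))) (.node (.node (.node (.node (.node (.leaf (.up 4 1600 1)) (.leaf (.up 3 629 2))) (.node (.leaf (.up 3 1832 2)) (.leaf (.up 3 630 2)))) (.node (.node (.leaf (.up 4 329 1)) (.leaf (.up 4 1172 2))) (.node (.leaf (.up 4 459 1)) (.leaf (.up 3 1175 2))))) (.node (.node (.node (.leaf (.up 4 1744 1)) (.leaf (.up 4 119 2))) (.node (.leaf (.up 4 1618 1)) (.leaf (.up 4 1524 0)))) (.node (.node (.leaf (.up 4 473 1)) (.leaf (.up 5 1520 0))) (.node (.leaf (.up 4 971 2)) (.leaf (.up 4 1685 2)))))) (.node (.node (.node (.node (.leaf (.root 5286)) (.leaf (.up 3 1303 0))) (.node (.leaf (.up 2 1716 1)) (.leaf (.up 4 636 2)))) (.node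 (.node (.leaf (.up 3 319 1)) (.leaf (.up 3 1182 2))) (.node (.leaf (.up 4 451 2)) (.leaf (.up 4 1181 2))))) (.node (.node (.node (.leaf (.up 3 1864 0)) (.leaf (.up 2 1542 1))) (.node (.leaf (.up 2 1572 1)) (.leaf (.up 1 126 2)))) (.node (.node (.leaf (.up 4 962 2)) (.leaf (.up 3 271 1))) (.node (.leaf (.up 3 1868 0)) (.leaf (.up 3 1695 2))))))))

noncomputable def vt3_2_0111 : Tr VStep :=
  .node (.node (.node (.node (.node (.node (.node (.leaf (.root 2938)) (.leaf (.up 3 1405 1))) (.node (.leaf (.up 4 58 2)) (.leaf (.up 4 1380 2)))) (.node (.node (.leaf (.up 2 957 0)) (.leaf (.up 4 902 2))) (.node (.leaf (.up 3 598 1)) (.leaf (.up 3 758 1))))) (.node (.node (.node (.leaf (.up 3 571 2)) (.leaf (.up 3 1893 2))) (.node (.leaf (.up 2 1487 1)) (.leaf (.up 2 1391 1)))) (.node (.node (.leaf (.up 2 1242 2)) (.leaf (.up 2 482 0))) (.node (.leaf (.up 3 937 0)) (.leaf (.up 3 614 1)))))) (.node (.node (.node (.node (.leaf (.up 3 51 2)) (.leaf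 (.up 2 1389 2))) (.node (.leaf (.up 1 48 2)) (.leaf (.up 3 256 0)))) (.node (.node (.leaf (.up 3 1746 2)) (.leaf (.up 4 908 2))) (.node (.leaf (.up 3 847 0)) (.leaf (.up 2 911 2))))) (.node (.node (.node (.leaf (.up 3 561 2)) (.leaf (.up 2 1903 2))) (.node (.leaf (.up 5 562 2)) (.leaf (.up 3 1305 1)))) (.node (.node (.leaf (.up 3 1232 2)) (.leaf (.up 3 398 2))) (.node (.leaf (.up 3 1235 2)) (.leaf (.up 3 528 1))))))) (.node (.node (.node (.node (.node (.leaf (.root 3562)) (.leaf (.up 4 1727 2))) (.node (.leaf (.up 5 1016 0)) (.leaf (.up 4 1724 2)))) (.node (.node (.leaf (.up 5 1020 0)) (.leaf (.up 4 434 0))) (.node (.leaf (.up 4 1017 0)) (.leaf (.up 2 439 0))))) (.node (.node (.node (.leaf (.up 4 483 2)) (.leaf (.up 3 418 0))) (.node (.leaf (.up 3 480 2)) (.leaf (.up 1 200 1)))) (.node (.node (.leaf (.up 3 1005 0)) (.leaf (.up 3 1859 1))) (.node (.leaf (.up 2 1000 0)) (.leaf (.up 3 1985 1)))))) (.node (.node (.node (.node (.leaf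 (.up 1 12 1)) (.leaf (.up 4 1717 2))) (.node (.leaf (.up 2 1000 2)) (.leaf (.up 1 46 1)))) (.node (.node (.leaf (.up 3 779 0)) (.leaf (.up 3 1957 1))) (.node (.leaf (.up 4 782 0)) (.leaf (.up 4 87 2))))) (.node (.node (.node (.leaf (.up 3 156 1)) (.leaf (.up 3 60 1))) (.node (.leaf (.up 3 30 1)) (.leaf (.up 2 190 1)))) (.node (.node (.leaf (.up 4 794 0)) (.leaf (.up 2 1845 1))) (.node (.leaf (.up 4 799 0)) (.leaf (.up 4 337 0)))))))) (.node (.node (.node (.node (.node (.node (.leaf (.up 2 470 2)) (.leaf (.up 2 1658 0))) (.node (.leaf (.up 3 1073 0)) (.leaf (.up 4 1163 2)))) (.node (.node (.leaf (.up 2 1847 2)) (.leaf (.up 3 1659 0))) (.node (.leaf (.up 3 726 1)) (.leaf (.up 3 630 1))))) (.node (.node (.node (.leaf (.up 4 980 2)) (.leaf (.up 2 1389 1))) (.node (.leaf (.up 2 1359 1)) (.leaf (.up 2 1646 0)))) (.node (.node (.leaf (.up 2 1060 0)) (.leaf (.up 3 612 1))) (.node (.leaf (.up 3 582 1)) (.leaf (.up 3 742 1)))))) (.node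 (.node (.node (.node (.leaf (.up 3 1219 0)) (.leaf (.up 3 1154 2))) (.node (.leaf (.up 4 479 2)) (.leaf (.up 4 1153 2)))) (.node (.node (.leaf (.up 3 1853 2)) (.leaf (.up 2 1676 0))) (.node (.leaf (.up 3 1223 0)) (.leaf (.up 4 608 2))))) (.node (.node (.node (.leaf (.up 3 1467 1)) (.leaf (.up 4 1664 2))) (.node (.leaf (.up 2 1337 1)) (.leaf (.up 3 1689 0)))) (.node (.node (.leaf (.up 3 1235 0)) (.leaf (.up 2 97 2))) (.node (.leaf (.up 3 560 1)) (.leaf (.up 4 1688 0))))))) (.node (.node (.node (.node (.node (.leaf (.up 5 1141 0)) (.leaf (.up 2 1595 0))) (.node (.leaf (.up 3 525 2)) (.leaf (.up 1 216 1)))) (.node (.node (.leaf (.up 4 1263 2)) (.leaf (.up 2 1594 0))) (.node (.leaf (.up 5 1137 0)) (.leaf (.up 4 434 2))))) (.node (.node (.node (.leaf (.up 1 12 2)) (.leaf (.up 4 1578 0))) (.node (.leaf (.up 1 15 2)) (.leaf (.up 5 1583 0)))) (.node (.node (.leaf (.up 2 1773 2)) (.leaf (.up 5 1579 0))) (.node (.leaf (.up 3 1774 2)) (.leaf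 (.up 3 1857 1)))))) (.node (.node (.node (.node (.leaf (.root 2912)) (.leaf (.up 4 1882 2))) (.node (.leaf (.up 1 14 1)) (.leaf (.up 3 1881 2)))) (.node (.node (.leaf (.up 4 1155 0)) (.leaf (.up 5 443 2))) (.node (.leaf (.up 4 1254 2)) (.leaf (.up 3 1736 0))))) (.node (.node (.node (.leaf (.up 1 6 2)) (.leaf (.up 2 188 1))) (.node (.leaf (.up 1 5 2)) (.leaf (.up 4 1371 2)))) (.node (.node (.leaf (.up 3 1813 1)) (.leaf (.up 3 1756 0))) (.node (.leaf (.up 3 1943 1)) (.leaf (.up 2 1847 1))))))))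

noncomputable def vt3_2_011 : Tr VStep := .node vt3_2_0110 vt3_2_0111

noncomputable def vt3_2_01 : Tr VStep := .node vt3_2_010 vt3_2_011

noncomputable def vt3_2_0 : Tr VStep := .node vt3_2_00 vt3_2_01

noncomputable def vt3_2_1000 : Tr VStep :=
  .node (.node (.node (.node (.node (.node (.node (.leaf (.root 3784)) (.leaf (.up 3 1353 1))) (.node (.leaf (.up 4 1547 2)) (.leaf (.up 3 1483 1)))) (.node (.node (.leaf (.up 4 233 2)) (.leaf (.up 4 1463 2))) (.node (.leaf (.up 3 1644 0)) (.leaf (.up 4 706 1))))) (.node (.node (.node (.leaf (.root 3576)) (.leaf (.up 3 1079 0))) (.node (.leaf (.up 4 1033 2)) (.leaf (.up 4 343 2)))) (.node (.node (.leaf (.up 3 1656 0)) (.leaf (.up 2 720 1))) (.node (.leaf (.up 3 1661 0)) (.leaf (.up 3 594 1)))))) (.node (.node (.node (.node (.leaf (.root 3426)) (.leaf (.up 3 1343 1))) (.node (.leaf (.up 3 1309 1)) (.leaf (.up 2 1469 1)))) (.node (.node (.leaf (.up 3 1694 0)) (.leaf (.up 2 1469 2))) (.node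 (.leaf (.up 3 532 1)) (.leaf (.up 2 692 1))))) (.node (.node (.node (.leaf (.up 3 1678 0)) (.leaf (.up 4 1216 0))) (.node (.leaf (.up 4 1027 2)) (.leaf (.up 2 1325 1)))) (.node (.node (.leaf (.up 3 518 1)) (.leaf (.up 4 1983 2))) (.node (.leaf (.up 5 738 2)) (.leaf (.up 2 548 1))))))) (.node (.node (.node (.node (.node (.leaf (.root 3460)) (.leaf (.up 4 142 2))) (.node (.leaf (.up 3 1580 0)) (.leaf (.up 3 141 2)))) (.node (.node (.leaf (.up 4 1576 0)) (.leaf (.up 4 2023 1))) (.node (.leaf (.up 3 1989 1)) (.leaf (.up 3 1123 0))))) (.node (.node (.node (.leaf (.up 4 2002 2)) (.leaf (.up 1 126 1))) (.node (.leaf (.up 1 92 1)) (.leaf (.up 2 252 1)))) (.node (.node (.leaf (.up 2 1593 0)) (.leaf (.up 2 1911 1))) (.node (.leaf (.up 4 304 2)) (.leaf (.up 3 2037 1)))))) (.node (.node (.node (.node (.leaf (.up 1 56 1)) (.leaf (.up 3 1168 0))) (.node (.leaf (.up 5 1755 0)) (.leaf (.up 1 26 1)))) (.node (.node (.leaf (.up 5 1759 0)) (.leaf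 (.up 3 1637 2))) (.node (.leaf (.up 3 824 2)) (.leaf (.up 3 1638 2))))) (.node (.node (.node (.leaf (.up 2 1743 0)) (.leaf (.up 1 8 1))) (.node (.leaf (.up 4 2011 2)) (.leaf (.up 3 138 1)))) (.node (.node (.leaf (.up 4 1742 0)) (.leaf (.up 5 1127 2))) (.node (.leaf (.up 3 1739 0)) (.leaf (.up 4 1157 0)))))))) (.node (.node (.node (.node (.node (.node (.leaf (.root 3020)) (.leaf (.up 3 942 0))) (.node (.leaf (.up 4 2020 2)) (.leaf (.up 4 698 2)))) (.node (.node (.leaf (.up 4 262 2)) (.leaf (.up 4 1112 2))) (.node (.leaf (.up 3 261 2)) (.leaf (.up 3 578 1))))) (.node (.node (.node (.leaf (.up 4 1509 2)) (.leaf (.up 3 959 0))) (.node (.leaf (.up 4 1510 2)) (.leaf (.up 3 954 0)))) (.node (.node (.leaf (.up 4 772 2)) (.leaf (.up 3 592 1))) (.node (.leaf (.up 4 775 2)) (.leaf (.up 3 955 0)))))) (.node (.node (.node (.node (.leaf (.up 3 279 0)) (.leaf (.up 2 691 2))) (.node (.leaf (.up 5 2030 2)) (.leaf (.up 4 688 2)))) (.node (.node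 (.leaf (.up 3 534 1)) (.leaf (.up 4 1106 2))) (.node (.leaf (.up 2 275 0)) (.leaf (.up 3 1105 2))))) (.node (.node (.node (.leaf (.up 3 1423 1)) (.leaf (.up 3 1327 1))) (.node (.leaf (.up 4 1516 2)) (.leaf (.up 3 845 0)))) (.node (.node (.leaf (.up 4 782 2)) (.leaf (.up 2 550 1))) (.node (.leaf (.up 4 516 1)) (.leaf (.up 4 844 0))))))) (.node (.node (.node (.node (.node (.leaf (.root 4776)) (.leaf (.up 2 110 1))) (.node (.leaf (.up 2 76 1)) (.leaf (.up 3 1002 0)))) (.node (.node (.leaf (.up 2 1991 1)) (.leaf (.up 4 1920 2))) (.node (.leaf (.up 3 421 0)) (.leaf (.up 4 1923 2))))) (.node (.node (.node (.leaf (.up 4 1597 2)) (.leaf (.up 2 254 1))) (.node (.leaf (.up 2 1598 2)) (.leaf (.up 3 124 1)))) (.node (.node (.leaf (.up 3 1879 1)) (.leaf (.up 2 2039 1))) (.node (.leaf (.up 4 223 2)) (.leaf (.up 2 1909 1)))))) (.node (.node (.node (.node (.leaf (.up 5 342 0)) (.leaf (.up 4 363 2))) (.node (.leaf (.up 4 339 0)) (.leaf (.up 4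 360 2)))) (.node (.node (.leaf (.up 3 1969 1)) (.leaf (.up 4 1930 2))) (.node (.leaf (.up 5 338 0)) (.leaf (.up 4 1929 2))))) (.node (.node (.node (.leaf (.up 4 327 0)) (.leaf (.up 3 777 0))) (.node (.leaf (.up 2 1588 2)) (.leaf (.up 1 10 1)))) (.node (.node (.leaf (.up 4 1825 1)) (.leaf (.up 4 776 0))) (.node (.leaf (.up 3 1955 1)) (.leaf (.up 3 1795 1))))))))

noncomputable def vt3_2_1001 : Tr VStep :=
  .node (.node (.node (.node (.node (.node (.node (.leaf (.root 2922)) (.leaf (.up 3 2045 0))) (.node (.leaf (.up 5 814 2)) (.leaf (.up 4 1648 2)))) (.node (.node (.leaf (.up 2 1458 0)) (.leaf (.up 3 2044 0))) (.node (.leaf (.up 2 1487 2)) (.leaf (.up 4 1144 1))))) (.node (.node (.node (.leaf (.up 4 303 2)) (.leaf (.up 3 867 1))) (.node (.leaf (.up 4 300 2)) (.leaf (.up 4 993 1)))) (.node (.node (.leaf (.up 4 1998 2)) (.leaf (.up 4 656 2))) (.node (.leaf (.up 4 1997 2)) (.leaf (.up 3 1256 1)))))) (.node (.node (.node (.node (.leaf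 (.up 3 805 1)) (.leaf (.up 3 1657 2))) (.node (.leaf (.up 3 935 1)) (.leaf (.up 2 1658 2)))) (.node (.node (.leaf (.up 3 1068 1)) (.leaf (.up 2 1164 1))) (.node (.leaf (.up 3 1477 2)) (.leaf (.up 4 1038 1))))) (.node (.node (.node (.leaf (.up 3 293 2)) (.leaf (.up 3 789 1))) (.node (.leaf (.up 2 294 2)) (.leaf (.up 4 1144 2)))) (.node (.node (.leaf (.up 4 1988 2)) (.leaf (.up 4 666 2))) (.node (.leaf (.up 2 1991 2)) (.leaf (.up 3 1182 1))))))) (.node (.node (.node (.node (.node (.leaf (.root 5070)) (.leaf (.up 5 1451 2))) (.node (.leaf (.up 3 1527 0)) (.leaf (.up 2 1977 0)))) (.node (.node (.leaf (.up 3 1523 0)) (.leaf (.up 4 842 2))) (.node (.leaf (.up 4 1559 2)) (.leaf (.up 4 1976 0))))) (.node (.node (.node (.leaf (.up 5 759 2)) (.leaf (.up 2 1965 0))) (.node (.leaf (.up 3 756 2)) (.leaf (.up 4 1962 2)))) (.node (.node (.leaf (.up 3 1046 2)) (.leaf (.up 4 461 1))) (.node (.leaf (.up 2 1511 0)) (.leaf (.up 4 335 1)))))) (.node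 (.node (.node (.node (.leaf (.up 4 255 2)) (.leaf (.up 3 1441 2))) (.node (.leaf (.up 2 252 2)) (.leaf (.up 3 1870 0)))) (.node (.node (.leaf (.up 3 395 1)) (.leaf (.up 3 832 2))) (.node (.leaf (.up 2 1565 2)) (.leaf (.up 2 1871 0))))) (.node (.node (.node (.leaf (.up 3 765 2)) (.leaf (.up 3 1955 2))) (.node (.leaf (.up 2 766 2)) (.leaf (.up 4 1952 2)))) (.node (.node (.leaf (.up 3 283 1)) (.leaf (.up 3 322 2))) (.node (.leaf (.up 4 1055 2)) (.leaf (.up 4 321 2)))))))) (.node (.node (.node (.node (.node (.node (.leaf (.root 3186)) (.leaf (.up 3 883 1))) (.node (.leaf (.up 3 849 1)) (.leaf (.up 4 1951 2)))) (.node (.node (.leaf (.up 2 1242 1)) (.leaf (.up 2 1146 1))) (.node (.leaf (.up 4 575 0)) (.leaf (.up 5 382 2))))) (.node (.node (.node (.leaf (.up 3 835 1)) (.leaf (.up 3 100 0))) (.node (.leaf (.up 4 195 2)) (.leaf (.up 2 97 0)))) (.node (.node (.leaf (.up 4 555 0)) (.leaf (.up 4 895 2))) (.node (.leaf (.up 5 1570 2)) (.leaf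 (.up 3 1128 1)))))) (.node (.node (.node (.node (.leaf (.root 5888)) (.leaf (.up 4 1942 2))) (.node (.leaf (.up 3 713 0)) (.leaf (.up 4 1941 2)))) (.node (.node (.leaf (.up 3 717 0)) (.leaf (.up 4 375 2))) (.node (.leaf (.up 3 1066 2)) (.leaf (.up 2 134 0))))) (.node (.node (.node (.leaf (.up 4 202 2)) (.leaf (.up 3 917 1))) (.node (.leaf (.up 3 951 1)) (.leaf (.up 3 791 1)))) (.node (.node (.leaf (.up 3 1084 1)) (.leaf (.up 4 885 2))) (.node (.leaf (.up 4 1576 2)) (.leaf (.up 3 1054 1))))))) (.node (.node (.node (.node (.node (.leaf (.up 3 634 0)) (.leaf (.up 2 52 0))) (.node (.leaf (.up 2 1782 1)) (.leaf (.up 1 49 0)))) (.node (.node (.leaf (.up 3 635 0)) (.leaf (.up 1 53 0))) (.node (.leaf (.up 2 638 0)) (.leaf (.up 1 48 0))))) (.node (.node (.node (.leaf (.up 3 619 0)) (.leaf (.up 1 37 0))) (.node (.leaf (.up 3 1638 1)) (.leaf (.up 1 32 0)))) (.node (.node (.leaf (.up 2 493 1)) (.leaf (.up 4 333 1))) (.node (.leaf (.up 3 623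 0)) (.leaf (.up 1 33 0)))))) (.node (.node (.node (.node (.leaf (.up 4 1538 1)) (.leaf (.up 3 1102 2))) (.node (.leaf (.up 2 275 2)) (.leaf (.up 2 198 0)))) (.node (.node (.leaf (.up 4 2033 2)) (.leaf (.up 3 687 2))) (.node (.leaf (.up 5 649 0)) (.leaf (.up 3 684 2))))) (.node (.node (.node (.leaf (.up 4 786 2)) (.leaf (.up 4 1612 2))) (.node (.leaf (.up 4 785 2)) (.leaf (.up 2 1615 2)))) (.node (.node (.leaf (.up 3 1523 2)) (.leaf (.up 5 211 0))) (.node (.leaf (.up 3 281 1)) (.leaf (.up 3 441 1))))))))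

noncomputable def vt3_2_100 : Tr VStep := .node vt3_2_1000 vt3_2_1001

noncomputable def vt3_2_1010 : Tr VStep :=
  .node (.node (.node (.node (.node (.node (.node (.leaf (.root 3594)) (.leaf (.up 2 1060 1))) (.node (.leaf (.up 2 1030 1)) (.leaf (.up 4 1190 1)))) (.node (.node (.leaf (.up 2 909 1)) (.leaf (.up 4 813 1))) (.node (.leaf (.up 3 783 1)) (.leaf (.up 4 575 2))))) (.node (.node (.node (.leaf (.up 4 897 2)) (.leaf (.up 3 1204 1))) (.node (.leaf (.up 4 898 2)) (.leaf (.up 2 720 0)))) (.node (.node (.leaf (.up 4 1376 2)) (.leaf (.up 2 957 1))) (.node (.leaf (.up 4 1379 2)) (.leaf (.up 3 831 1)))))) (.node (.node (.node (.node (.leaf (.up 3 125 0)) (.leaf (.up 4 563 0))) (.node (.leaf (.up 4 394 2)) (.leaf (.up 3 1232 1)))) (.node (.node (.leaf (.up 2 1896 2)) (.leaf (.up 4 566 2))) (.node (.leaf (.up 4 1899 2)) (.leaf (.up 4 565 2))))) (.node (.node (.node (.leaf (.up 3 907 2)) (.leaf (.up 3 1749 2))) (.node (.leaf (.up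 4 904 2)) (.leaf (.up 4 551 0)))) (.node (.node (.leaf (.up 3 875 1)) (.leaf (.up 2 52 2))) (.node (.leaf (.up 4 1385 2)) (.leaf (.up 2 550 0))))))) (.node (.node (.node (.node (.node (.leaf (.root 3590)) (.leaf (.up 4 387 1))) (.node (.leaf (.up 3 417 1)) (.leaf (.up 3 640 0)))) (.node (.node (.leaf (.up 2 1210 2)) (.leaf (.up 4 484 2))) (.node (.leaf (.up 2 1209 2)) (.leaf (.up 4 1544 1))))) (.node (.node (.node (.leaf (.up 1 89 2)) (.leaf (.up 2 275 1))) (.node (.leaf (.up 3 305 1)) (.leaf (.up 4 1284 2)))) (.node (.node (.leaf (.up 2 219 0)) (.leaf (.up 3 998 2))) (.node (.leaf (.up 3 1723 2)) (.leaf (.up 2 997 2)))))) (.node (.node (.node (.node (.leaf (.up 3 60 0)) (.leaf (.up 4 1807 2))) (.node (.leaf (.up 3 594 2)) (.leaf (.up 2 1804 2)))) (.node (.node (.leaf (.up 4 1200 2)) (.leaf (.up 5 494 2))) (.node (.leaf (.up 1 56 0)) (.leaf (.up 2 493 2))))) (.node (.node (.node (.leaf (.up 4 83 2)) (.leaf (.up 3 611 0))) (.node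 (.leaf (.up 2 80 2)) (.leaf (.up 3 614 0)))) (.node (.node (.leaf (.up 5 1714 2)) (.leaf (.up 3 1644 1))) (.node (.leaf (.up 1 41 0)) (.leaf (.up 3 1774 1)))))))) (.node (.node (.node (.node (.node (.node (.leaf (.up 4 108 2)) (.leaf (.up 4 1188 1))) (.node (.leaf (.up 4 111 2)) (.leaf (.up 3 1353 0)))) (.node (.node (.leaf (.up 3 1795 0)) (.leaf (.up 4 979 2))) (.node (.leaf (.up 2 911 1)) (.leaf (.up 2 976 2))))) (.node (.node (.node (.leaf (.up 3 622 2)) (.leaf (.up 3 1373 0))) (.node (.leaf (.up 3 1814 0)) (.leaf (.up 3 1368 0)))) (.node (.node (.leaf (.up 4 1167 2)) (.leaf (.up 3 1372 0))) (.node (.leaf (.up 2 1164 2)) (.leaf (.up 3 959 1)))))) (.node (.node (.node (.node (.leaf (.up 3 2037 0)) (.leaf (.up 3 1467 0))) (.node (.leaf (.up 3 2032 0)) (.leaf (.up 5 1339 2)))) (.node (.node (.leaf (.up 3 891 1)) (.leaf (.up 3 1466 0))) (.node (.leaf (.up 4 1017 1)) (.leaf (.up 4 1471 0))))) (.node (.node (.node (.leaf (.up 3 612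 2)) (.leaf (.up 3 1850 2))) (.node (.leaf (.up 4 615 2)) (.leaf (.up 2 1849 2)))) (.node (.node (.leaf (.up 4 1157 2)) (.leaf (.up 4 475 2))) (.node (.leaf (.up 3 873 1)) (.leaf (.up 3 969 1))))))) (.node (.node (.node (.node (.node (.leaf (.root 4116)) (.leaf (.up 4 1770 2))) (.node (.leaf (.up 3 951 2)) (.leaf (.up 4 385 1)))) (.node (.node (.leaf (.up 4 1365 2)) (.leaf (.up 4 1546 1))) (.node (.leaf (.up 4 1576 1)) (.leaf (.up 1 8 2))))) (.node (.node (.node (.leaf (.up 3 307 1)) (.leaf (.up 3 1256 2))) (.node (.leaf (.up 3 1879 0)) (.leaf (.up 3 1305 0)))) (.node (.node (.leaf (.up 2 1594 1)) (.leaf (.up 3 1309 0))) (.node (.leaf (.up 3 1878 0)) (.leaf (.up 4 522 2)))))) (.node (.node (.node (.node (.leaf (.up 4 958 2)) (.leaf (.up 4 1760 2))) (.node (.leaf (.up 2 957 2)) (.leaf (.up 4 1763 2)))) (.node (.node (.leaf (.up 3 1756 1)) (.leaf (.up 1 1 2))) (.node (.leaf (.up 3 1372 2)) (.leaf (.up 1 2 2))))) (.node (.node (.node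 (.leaf (.up 3 1957 0)) (.leaf (.up 4 1250 2))) (.node (.leaf (.up 4 1952 0)) (.leaf (.up 2 1249 2)))) (.node (.node (.leaf (.up 4 1612 1)) (.leaf (.up 3 1772 1))) (.node (.leaf (.up 4 1742 1)) (.leaf (.up 2 1646 1))))))))

noncomputable def vt3_2_1011 : Tr VStep :=
  .node (.node (.node (.node (.node (.node (.node (.leaf (.root 5026)) (.leaf (.up 3 670 1))) (.node (.leaf (.up 2 700 1)) (.leaf (.up 3 282 0)))) (.node (.node (.leaf (.up 2 1335 1)) (.leaf (.up 3 286 0))) (.node (.leaf (.up 4 580 2)) (.leaf (.up 3 283 0))))) (.node (.node (.node (.leaf (.up 2 1700 2)) (.leaf (.up 3 270 0))) (.node (.leaf (.up 4 1703 2)) (.leaf (.up 4 1017 2)))) (.node (.node (.leaf (.up 4 69 2)) (.leaf (.up 3 271 0))) (.node (.leaf (.up 1 70 2)) (.leaf (.up 3 1413 1)))))) (.node (.node (.node (.node (.leaf (.up 3 584 1)) (.leaf (.up 2 488 0))) (.node (.leaf (.up 2 1199 2)) (.leaf (.up 2 493 0)))) (.node (.node (.leaf (.up 3 935 0)) (.leaf (.up 4 1811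 2))) (.node (.leaf (.up 2 590 2)) (.leaf (.up 3 1808 2))))) (.node (.node (.node (.leaf (.up 2 1710 2)) (.leaf (.up 2 1008 2))) (.node (.leaf (.up 2 1709 2)) (.leaf (.up 5 508 0)))) (.node (.node (.leaf (.up 3 1489 1)) (.leaf (.up 5 504 0))) (.node (.leaf (.up 2 76 2)) (.leaf (.up 3 1523 1))))))) (.node (.node (.node (.node (.node (.leaf (.up 4 784 0)) (.leaf (.up 2 1849 1))) (.node (.leaf (.up 2 1917 2)) (.leaf (.up 3 547 2)))) (.node (.node (.leaf (.up 3 144 1)) (.leaf (.up 1 48 1))) (.node (.leaf (.up 3 788 0)) (.leaf (.up 4 1218 2))))) (.node (.node (.node (.leaf (.up 4 1404 2)) (.leaf (.up 1 34 2))) (.node (.leaf (.up 4 772 0)) (.leaf (.up 1 33 2)))) (.node (.node (.leaf (.up 1 0 1)) (.leaf (.up 3 160 1))) (.node (.leaf (.up 4 926 2)) (.leaf (.up 1 34 1)))))) (.node (.node (.node (.node (.leaf (.up 3 2031 1)) (.leaf (.up 2 1871 1))) (.node (.leaf (.up 2 1911 2)) (.leaf (.up 4 428 0)))) (.node (.node (.leaf (.up 3 998 0))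 (.leaf (.up 1 70 1))) (.node (.leaf (.up 2 406 2)) (.leaf (.up 2 429 0))))) (.node (.node (.node (.leaf (.up 4 1398 2)) (.leaf (.up 4 40 2))) (.node (.leaf (.up 2 1397 2)) (.leaf (.up 1 43 2)))) (.node (.node (.leaf (.up 1 118 1)) (.leaf (.up 3 441 0))) (.node (.leaf (.up 2 916 2)) (.leaf (.up 3 444 0)))))))) (.node (.node (.node (.node (.node (.node (.leaf (.up 2 702 1)) (.leaf (.up 3 23 2))) (.node (.leaf (.up 3 1244 0)) (.leaf (.up 1 20 2)))) (.node (.node (.leaf (.up 4 1240 0)) (.leaf (.up 2 1782 2))) (.node (.leaf (.up 5 939 2)) (.leaf (.up 3 1781 2))))) (.node (.node (.node (.leaf (.up 4 1867 2)) (.leaf (.up 3 654 1))) (.node (.leaf (.up 3 1229 0)) (.leaf (.up 2 524 1)))) (.node (.node (.leaf (.up 4 426 2)) (.leaf (.up 4 1415 1))) (.node (.leaf (.up 4 1228 0)) (.leaf (.up 5 1271 2)))))) (.node (.node (.node (.node (.leaf (.up 4 712 1)) (.leaf (.up 3 29 2))) (.node (.leaf (.up 4 1344 2)) (.leaf (.up 3 1637 0)))) (.node (.node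 (.leaf (.up 5 1071 0)) (.leaf (.up 2 1633 0))) (.node (.leaf (.up 3 1066 0)) (.leaf (.up 4 1791 2))))) (.node (.node (.node (.leaf (.up 3 1857 2)) (.leaf (.up 5 1649 0))) (.node (.leaf (.up 3 1082 0)) (.leaf (.up 3 634 1)))) (.node (.node (.leaf (.up 3 1086 0)) (.leaf (.up 3 1278 2))) (.node (.leaf (.up 4 419 2)) (.leaf (.up 5 1653 0))))))) (.node (.node (.node (.node (.node (.leaf (.up 4 1681 2)) (.leaf (.up 2 1977 1))) (.node (.leaf (.up 4 1181 0)) (.leaf (.up 3 1747 0)))) (.node (.node (.leaf (.up 1 16 1)) (.leaf (.up 5 1326 2))) (.node (.leaf (.up 4 115 2)) (.leaf (.up 2 1325 2))))) (.node (.node (.node (.leaf (.up 4 1161 0)) (.leaf (.up 4 461 2))) (.node (.leaf (.up 2 1164 0)) (.leaf (.up 4 462 2)))) (.node (.node (.leaf (.up 3 1160 0)) (.leaf (.up 1 32 1))) (.node (.leaf (.up 1 2 1)) (.leaf (.up 4 162 1)))))) (.node (.node (.node (.node (.leaf (.up 2 1903 1)) (.leaf (.up 2 1999 1))) (.node (.leaf (.up 4 1688 2)) (.leaf (.up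 2 1572 0)))) (.node (.node (.leaf (.up 4 122 2)) (.leaf (.up 2 198 1))) (.node (.leaf (.up 2 1131 0)) (.leaf (.up 1 68 1))))) (.node (.node (.node (.leaf (.up 4 1177 2)) (.leaf (.up 4 455 2))) (.node (.leaf (.up 2 1917 1)) (.leaf (.up 4 452 2)))) (.node (.node (.leaf (.up 4 632 2)) (.leaf (.up 3 1830 2))) (.node (.leaf (.up 2 1146 0)) (.leaf (.up 2 1588 0))))))))

noncomputable def vt3_2_101 : Tr VStep := .node vt3_2_1010 vt3_2_1011

noncomputable def vt3_2_10 : Tr VStep := .node vt3_2_100 vt3_2_101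

noncomputable def vt3_2_1100 : Tr VStep :=
  .node (.node (.node (.node (.node (.node (.node (.leaf (.root 3654)) (.leaf (.up 3 1482 0))) (.node (.leaf (.up 4 776 1)) (.leaf (.up 2 1487 0)))) (.node (.node (.leaf (.up 4 1155 1)) (.leaf (.up 3 1483 0))) (.node (.leaf (.up 4 1025 1)) (.leaf (.up 2 1185 1))))) (.node (.node (.node (.leaf (.up 4 794 1)) (.leaf (.up 3 954 1))) (.node (.leaf (.up 4 1035 2)) (.leaf (.up 3 824 1)))) (.node (.node (.leaf (.up 3 1940 0)) (.leaf (.up 4 1975 2))) (.node (.leaf (.up 3 746 2)) (.leaf (.up 3 1073 1)))))) (.node (.node (.node (.node (.leaf (.up 3 1536 2)) (.leaf (.up 4 862 2))) (.node (.leaf (.up 3 1539 2)) (.leaf (.up 4 861 2)))) (.node (.node (.leaf (.up 3 225 2)) (.leaf (.up 4 1471 2))) (.node (.leaf (.up 2 1911 0)) (.leaf (.up 2 1337 0))))) (.node (.node (.node (.leaf (.up 3 1890 0)) (.leaf (.up 2 1324 0))) (.node (.leaf (.up 4 1025 2)) (.leaf (.up 4 351 2)))) (.node (.node (.leaf (.up 3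 1891 0)) (.leaf (.up 2 1325 0))) (.node (.leaf (.up 3 1255 1)) (.leaf (.up 4 1982 2))))))) (.node (.node (.node (.node (.node (.leaf (.root 2607)) (.leaf (.up 4 140 2))) (.node (.leaf (.up 2 1711 1)) (.leaf (.up 3 1422 0)))) (.node (.node (.leaf (.up 3 819 2)) (.leaf (.up 5 1645 2))) (.node (.leaf (.up 3 1985 0)) (.leaf (.up 2 1646 2))))) (.node (.node (.node (.leaf (.up 3 2004 0)) (.leaf (.up 2 1565 1))) (.node (.leaf (.up 4 2003 2)) (.leaf (.up 3 1695 1)))) (.node (.node (.leaf (.up 3 305 2)) (.leaf (.up 4 1435 0))) (.node (.leaf (.up 4 306 2)) (.leaf (.up 2 406 1)))))) (.node (.node (.node (.node (.leaf (.up 2 1842 0)) (.leaf (.up 2 134 2))) (.node (.leaf (.up 2 1847 0)) (.leaf (.up 3 1657 1)))) (.node (.node (.leaf (.up 3 825 2)) (.leaf (.up 3 1405 0))) (.node (.leaf (.up 2 464 1)) (.leaf (.up 2 1400 0))))) (.node (.node (.node (.leaf (.up 3 1739 1)) (.leaf (.up 2 1389 0))) (.node (.leaf (.up 3 1609 1)) (.leaf (.up 3 1384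 0)))) (.node (.node (.leaf (.up 3 1826 0)) (.leaf (.up 5 1388 0))) (.node (.leaf (.up 4 312 2)) (.leaf (.up 3 480 1)))))))) (.node (.node (.node (.node (.node (.node (.leaf (.up 1 12 0)) (.leaf (.up 2 699 2))) (.node (.leaf (.up 1 9 0)) (.leaf (.up 3 583 0)))) (.node (.node (.leaf (.up 1 13 0)) (.leaf (.up 3 1187 1))) (.node (.leaf (.up 1 8 0)) (.leaf (.up 3 582 0))))) (.node (.node (.node (.leaf (.up 2 1511 2)) (.leaf (.up 3 595 0))) (.node (.leaf (.up 4 1508 2)) (.leaf (.up 3 598 0)))) (.node (.node (.leaf (.up 4 774 2)) (.leaf (.up 3 594 0))) (.node (.leaf (.up 1 25 0)) (.leaf (.up 3 1201 1)))))) (.node (.node (.node (.node (.leaf (.up 3 2031 2)) (.leaf (.up 3 988 1))) (.node (.leaf (.up 2 254 0)) (.leaf (.up 3 690 2)))) (.node (.node (.leaf (.up 3 270 2)) (.leaf (.up 2 692 0))) (.node (.leaf (.up 3 269 2)) (.leaf (.up 3 1111 1))))) (.node (.node (.node (.leaf (.up 4 1517 2)) (.leaf (.up 2 179 2))) (.node (.leaf (.up 3 1518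 2)) (.leaf (.up 2 673 0)))) (.node (.node (.leaf (.up 4 780 2)) (.leaf (.up 4 1618 2))) (.node (.leaf (.up 3 783 2)) (.leaf (.up 3 1223 1))))))) (.node (.node (.node (.node (.node (.leaf (.up 2 1709 1)) (.leaf (.up 4 355 2))) (.node (.leaf (.up 3 1086 2)) (.leaf (.up 3 518 0)))) (.node (.node (.leaf (.up 2 76 0)) (.leaf (.up 4 1922 2))) (.node (.leaf (.up 2 294 1)) (.leaf (.up 4 1921 2))))) (.node (.node (.node (.leaf (.up 1 92 0)) (.leaf (.up 3 1693 1))) (.node (.leaf (.up 1 89 0)) (.leaf (.up 2 1567 1)))) (.node (.node (.leaf (.up 4 222 2)) (.leaf (.up 2 531 0))) (.node (.leaf (.up 4 221 2)) (.leaf (.up 3 534 0)))))) (.node (.node (.node (.node (.leaf (.up 3 1079 2)) (.leaf (.up 3 1659 1))) (.node (.leaf (.up 5 191 0)) (.leaf (.up 3 1785 1)))) (.node (.node (.leaf (.up 3 726 2)) (.leaf (.up 4 1928 2))) (.node (.leaf (.up 2 190 0)) (.leaf (.up 4 1931 2))))) (.node (.node (.node (.leaf (.up 2 171 0)) (.leaf (.up 3 741 0))) (.node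 (.leaf (.up 4 1590 2)) (.leaf (.up 4 872 2)))) (.node (.node (.leaf (.up 3 322 1)) (.leaf (.up 2 482 1))) (.node (.leaf (.up 4 215 2)) (.leaf (.up 5 737 0))))))))

noncomputable def vt3_2_1101 : Tr VStep :=
  .node (.node (.node (.node (.node (.node (.node (.leaf (.up 4 815 2)) (.leaf (.up 3 1424 1))) (.node (.leaf (.up 2 1458 1)) (.leaf (.up 3 1650 2)))) (.node (.node (.leaf (.up 3 569 1)) (.leaf (.up 3 144 2))) (.node (.leaf (.up 2 699 1)) (.leaf (.up 3 147 2))))) (.node (.node (.node (.leaf (.up 3 1440 1)) (.leaf (.up 3 1536 0))) (.node (.leaf (.up 2 1314 1)) (.leaf (.up 4 1136 2)))) (.node (.node (.leaf (.up 2 1103 0)) (.leaf (.up 4 658 2))) (.node (.leaf (.up 2 1999 2)) (.leaf (.up 3 651 1)))))) (.node (.node (.node (.node (.leaf (.up 3 805 2)) (.leaf (.up 3 1659 2))) (.node (.leaf (.up 2 806 2)) (.leaf (.up 3 1656 2)))) (.node (.node (.leaf (.up 3 1193 0)) (.leaf (.up 3 751 1))) (.node (.leaf (.up 3 717 1)) (.leaf (.up 3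 621 1))))) (.node (.node (.node (.leaf (.up 2 1209 0)) (.leaf (.up 4 1783 0))) (.node (.leaf (.up 5 292 2)) (.leaf (.up 2 1146 2)))) (.node (.node (.leaf (.up 3 735 1)) (.leaf (.up 2 1782 0))) (.node (.leaf (.up 3 1989 2)) (.leaf (.up 3 765 1))))))) (.node (.node (.node (.node (.node (.leaf (.root 2676)) (.leaf (.up 3 55 1))) (.node (.leaf (.up 3 244 2)) (.leaf (.up 4 1450 2)))) (.node (.node (.leaf (.up 4 1055 0)) (.leaf (.up 4 840 2))) (.node (.leaf (.up 4 1557 2)) (.leaf (.up 4 843 2))))) (.node (.node (.node (.leaf (.up 1 7 1)) (.leaf (.up 3 1601 0))) (.node (.leaf (.up 3 758 2)) (.leaf (.up 1 37 1)))) (.node (.node (.leaf (.up 4 1038 0)) (.leaf (.up 4 1600 0))) (.node (.leaf (.up 4 1035 0)) (.leaf (.up 4 329 2)))))) (.node (.node (.node (.node (.leaf (.up 3 225 1)) (.leaf (.up 1 65 1))) (.node (.leaf (.up 2 254 2)) (.leaf (.up 3 1440 2)))) (.node (.node (.leaf (.up 3 1256 0)) (.leaf (.up 3 1864 1))) (.node (.leaf (.up 2 1567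 2)) (.leaf (.up 3 1994 1))))) (.node (.node (.node (.leaf (.up 4 767 2)) (.leaf (.up 4 1953 2))) (.node (.leaf (.up 2 764 2)) (.leaf (.up 2 1954 2)))) (.node (.node (.leaf (.up 3 1054 2)) (.leaf (.up 3 2008 1))) (.node (.leaf (.up 4 1276 0)) (.leaf (.up 4 323 2)))))))) (.node (.node (.node (.node (.node (.node (.leaf (.up 3 1456 1)) (.leaf (.up 4 1950 2))) (.node (.leaf (.up 3 978 0)) (.leaf (.up 3 412 0)))) (.node (.node (.leaf (.up 2 982 0)) (.leaf (.up 3 408 0))) (.node (.leaf (.up 3 571 1)) (.leaf (.up 3 380 2))))) (.node (.node (.node (.leaf (.up 4 194 2)) (.leaf (.up 3 1408 1))) (.node (.leaf (.up 4 193 2)) (.leaf (.up 4 1439 2)))) (.node (.node (.leaf (.up 4 1571 2)) (.leaf (.up 3 893 2))) (.node (.leaf (.up 4 962 0)) (.leaf (.up 3 523 1)))))) (.node (.node (.node (.node (.leaf (.up 3 714 2)) (.leaf (.up 3 1940 2))) (.node (.leaf (.up 3 805 0)) (.leaf (.up 3 1943 2)))) (.node (.node (.leaf (.up 3 719 1)) (.leaf (.up 3 623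 1))) (.node (.leaf (.up 3 589 1)) (.leaf (.up 3 749 1))))) (.node (.node (.node (.leaf (.up 1 200 2)) (.leaf (.up 4 1430 2))) (.node (.leaf (.up 3 203 2)) (.leaf (.up 4 1429 2)))) (.node (.node (.leaf (.up 3 1577 2)) (.leaf (.up 4 887 2))) (.node (.leaf (.up 4 1578 2)) (.leaf (.up 3 379 0))))))) (.node (.node (.node (.node (.node (.leaf (.up 3 918 0)) (.leaf (.up 4 1094 2))) (.node (.leaf (.up 2 915 0)) (.leaf (.up 1 53 1)))) (.node (.node (.leaf (.up 4 2041 2)) (.leaf (.up 4 473 0))) (.node (.leaf (.up 4 2042 2)) (.leaf (.up 4 676 2))))) (.node (.node (.node (.leaf (.up 4 794 2)) (.leaf (.up 4 1604 2))) (.node (.leaf (.up 1 5 1)) (.leaf (.up 2 165 1)))) (.node (.node (.leaf (.up 4 902 0)) (.leaf (.up 2 165 2))) (.node (.leaf (.up 2 1804 1)) (.leaf (.up 4 461 0)))))) (.node (.node (.node (.node (.leaf (.up 2 97 1)) (.leaf (.up 3 1100 2))) (.node (.leaf (.up 2 868 0)) (.leaf (.up 2 1103 2)))) (.node (.node (.leaf (.up 2 1896 1))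 (.leaf (.up 5 685 2))) (.node (.leaf (.up 2 869 0)) (.leaf (.up 4 686 2))))) (.node (.node (.node (.leaf (.up 4 784 2)) (.leaf (.up 4 1614 2))) (.node (.leaf (.up 2 787 2)) (.leaf (.up 3 1613 2)))) (.node (.node (.leaf (.up 5 1521 2)) (.leaf (.up 3 319 0))) (.node (.leaf (.up 3 1522 2)) (.leaf (.up 3 314 0))))))))

noncomputable def vt3_2_110 : Tr VStep := .node vt3_2_1100 vt3_2_1101

noncomputable def vt3_2_1110 : Tr VStep :=
  .node (.node (.node (.node (.node (.node (.node (.leaf (.root 2832)) (.leaf (.up 3 583 1))) (.node (.leaf (.up 4 355 0)) (.leaf (.up 3 1244 2)))) (.node (.node (.leaf (.up 3 1518 1)) (.leaf (.up 4 574 2))) (.node (.leaf (.up 3 1891 2)) (.leaf (.up 5 573 2))))) (.node (.node (.node (.leaf (.up 4 375 0)) (.leaf (.up 3 825 0))) (.node (.leaf (.up 4 896 2)) (.leaf (.up 4 1758 2)))) (.node (.node (.leaf (.up 4 1378 2)) (.leaf (.up 3 824 0))) (.node (.leaf (.up 3 1532 1)) (.leaf (.up 3 1372 1)))))) (.node (.node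 (.node (.node (.leaf (.up 3 395 2)) (.leaf (.up 3 561 1))) (.node (.leaf (.up 2 531 1)) (.leaf (.up 2 691 1)))) (.node (.node (.leaf (.up 3 1898 2)) (.leaf (.up 4 564 2))) (.node (.leaf (.up 3 1897 2)) (.leaf (.up 3 1466 1))))) (.node (.node (.node (.leaf (.up 3 384 0)) (.leaf (.up 2 673 1))) (.node (.leaf (.up 4 906 2)) (.leaf (.up 3 547 1)))) (.node (.node (.leaf (.up 3 1384 2)) (.leaf (.up 3 1448 1))) (.node (.leaf (.up 4 1387 2)) (.leaf (.up 1 53 2))))))) (.node (.node (.node (.node (.node (.leaf (.up 3 295 0)) (.leaf (.up 3 873 0))) (.node (.leaf (.up 3 602 2)) (.leaf (.up 3 1890 1)))) (.node (.node (.leaf (.up 2 294 0)) (.leaf (.up 4 872 0))) (.node (.leaf (.up 3 203 1)) (.leaf (.up 3 877 0))))) (.node (.node (.node (.leaf (.up 4 91 2)) (.leaf (.up 2 888 0))) (.node (.leaf (.up 3 307 0)) (.leaf (.up 3 893 0)))) (.node (.node (.leaf (.up 3 311 0)) (.leaf (.up 5 996 2))) (.node (.leaf (.up 2 1721 2)) (.leaf (.up 4 999 2))))))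 (.node (.node (.node (.node (.leaf (.up 2 464 0)) (.leaf (.up 4 926 0))) (.node (.leaf (.up 3 592 2)) (.leaf (.up 4 1806 2)))) (.node (.node (.leaf (.up 3 1202 2)) (.leaf (.up 4 492 2))) (.node (.leaf (.up 3 1201 2)) (.leaf (.up 3 29 1))))) (.node (.node (.node (.leaf (.up 4 449 0)) (.leaf (.up 2 911 0))) (.node (.leaf (.up 3 82 2)) (.leaf (.up 3 1924 1)))) (.node (.node (.leaf (.up 4 1712 2)) (.leaf (.up 1 15 1))) (.node (.leaf (.up 3 1715 2)) (.leaf (.up 3 907 0)))))))) (.node (.node (.node (.node (.node (.node (.leaf (.up 2 110 2)) (.leaf (.up 3 1184 0))) (.node (.leaf (.up 3 741 1)) (.leaf (.up 3 1189 0)))) (.node (.node (.leaf (.up 2 1775 0)) (.leaf (.up 2 1185 0))) (.node (.leaf (.up 2 1676 2)) (.leaf (.up 3 978 2))))) (.node (.node (.node (.leaf (.up 3 620 2)) (.leaf (.up 2 1842 2))) (.node (.leaf (.up 3 1786 0)) (.leaf (.up 3 1204 0)))) (.node (.node (.leaf (.up 4 1165 2)) (.leaf (.up 3 1374 1))) (.node (.leaf (.up 4 1787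 0)) (.leaf (.up 2 464 2)))))) (.node (.node (.node (.node (.leaf (.up 3 100 2)) (.leaf (.up 2 1338 2))) (.node (.leaf (.up 3 103 2)) (.leaf (.up 2 1337 2)))) (.node (.node (.leaf (.up 3 1669 2)) (.leaf (.up 4 1464 1))) (.node (.leaf (.up 2 1565 0)) (.leaf (.up 2 1338 1))))) (.node (.node (.node (.leaf (.up 3 614 2)) (.leaf (.up 3 1848 2))) (.node (.leaf (.up 4 613 2)) (.leaf (.up 5 1091 0)))) (.node (.node (.leaf (.up 4 1159 2)) (.leaf (.up 4 473 2))) (.node (.leaf (.up 4 1156 2)) (.leaf (.up 3 474 2))))))) (.node (.node (.node (.node (.node (.leaf (.up 2 1711 0)) (.leaf (.up 2 1249 0))) (.node (.leaf (.up 4 949 2)) (.leaf (.up 3 1771 2)))) (.node (.node (.leaf (.up 2 1710 0)) (.leaf (.up 1 9 2))) (.node (.leaf (.up 2 1707 0)) (.leaf (.up 1 10 2))))) (.node (.node (.node (.leaf (.up 5 436 2)) (.leaf (.up 3 2032 1))) (.node (.leaf (.up 2 439 2)) (.leaf (.up 4 1257 2)))) (.node (.node (.leaf (.up 1 89 1)) (.leaf (.up 3 523 2)))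 (.node (.leaf (.up 2 219 1)) (.leaf (.up 3 123 1)))))) (.node (.node (.node (.node (.leaf (.up 3 956 2)) (.leaf (.up 3 1814 1))) (.node (.leaf (.up 3 959 2)) (.leaf (.up 3 1940 1)))) (.node (.node (.leaf (.up 3 1373 2)) (.leaf (.up 1 3 2))) (.node (.leaf (.up 3 1374 2)) (.leaf (.up 1 0 2))))) (.node (.node (.node (.leaf (.up 3 1609 0)) (.leaf (.up 4 1031 0))) (.node (.leaf (.up 4 1612 0)) (.leaf (.up 3 1251 2)))) (.node (.node (.leaf (.up 3 47 1)) (.leaf (.up 2 1030 0))) (.node (.leaf (.up 3 1613 0)) (.leaf (.up 1 13 1))))))))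

noncomputable def vt3_2_1111 : Tr VStep :=
  .node (.node (.node (.node (.node (.node (.node (.leaf (.root 3216)) (.leaf (.up 3 243 0))) (.node (.leaf (.up 3 1191 2)) (.leaf (.up 4 505 2)))) (.node (.node (.leaf (.up 2 700 0)) (.leaf (.up 4 1819 2))) (.node (.leaf (.up 2 982 1)) (.leaf (.up 3 1816 2))))) (.node (.node (.node (.leaf (.up 3 1229 1)) (.leaf (.up 3 1133 1))) (.node (.leaf (.up 2 1103 1)) (.leaf (.up 4 1019 2)))) (.node (.node (.leaf (.up 4 71 2)) (.leaf (.up 2 868 1))) (.node (.leaf (.up 1 68 2)) (.leaf (.up 3 998 1)))))) (.node (.node (.node (.node (.leaf (.up 4 1198 2)) (.leaf (.up 1 4 0))) (.node (.leaf (.up 2 1197 2)) (.leaf (.up 1 1 0)))) (.node (.node (.leaf (.up 3 587 0)) (.leaf (.up 1 5 0))) (.node (.leaf (.up 2 590 0)) (.leaf (.up 1 0 0))))) (.node (.node (.node (.leaf (.up 3 1708 2)) (.leaf (.up 5 21 0))) (.node (.leaf (.up 2 1711 2)) (.leaf (.up 1 16 0)))) (.node (.node (.leaf (.up 3 602 0)) (.leaf (.up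 1 20 0))) (.node (.leaf (.up 4 78 2)) (.leaf (.up 1 17 0))))))) (.node (.node (.node (.node (.node (.leaf (.up 2 764 0)) (.leaf (.up 4 546 2))) (.node (.leaf (.up 3 376 1)) (.leaf (.up 4 545 2)))) (.node (.node (.leaf (.up 3 765 0)) (.leaf (.up 2 179 0))) (.node (.leaf (.up 3 414 2)) (.leaf (.up 4 1216 2))))) (.node (.node (.node (.leaf (.up 3 749 0)) (.leaf (.up 1 32 2))) (.node (.leaf (.up 2 488 1)) (.leaf (.up 1 35 2)))) (.node (.node (.leaf (.up 3 748 0)) (.leaf (.up 3 1729 2))) (.node (.leaf (.up 3 745 0)) (.leaf (.up 3 1601 1)))))) (.node (.node (.node (.node (.leaf (.up 3 523 0)) (.leaf (.up 3 552 2))) (.node (.leaf (.up 2 1909 2)) (.leaf (.up 4 555 2)))) (.node (.node (.leaf (.up 3 1669 1)) (.leaf (.up 1 68 0))) (.node (.leaf (.up 4 527 0)) (.leaf (.up 1 65 0))))) (.node (.node (.node (.leaf (.up 3 284 1)) (.leaf (.up 3 444 1))) (.node (.leaf (.up 2 1399 2)) (.leaf (.up 1 41 2)))) (.node (.node (.leaf (.up 3 917 2)) (.leaf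 (.up 3 1739 2))) (.node (.leaf (.up 3 918 2)) (.leaf (.up 2 80 0)))))))) (.node (.node (.node (.node (.node (.node (.leaf (.up 4 1355 2)) (.leaf (.up 3 1149 1))) (.node (.leaf (.up 4 1352 2)) (.leaf (.up 1 22 2)))) (.node (.node (.leaf (.up 4 938 2)) (.leaf (.up 4 1780 2))) (.node (.leaf (.up 3 937 2)) (.leaf (.up 4 1783 2))))) (.node (.node (.node (.leaf (.up 3 1101 1)) (.leaf (.up 3 1898 0))) (.node (.leaf (.up 4 1866 2)) (.leaf (.up 2 1903 0)))) (.node (.node (.leaf (.up 4 424 2)) (.leaf (.up 3 1270 2))) (.node (.leaf (.up 5 427 2)) (.leaf (.up 3 870 1)))))) (.node (.node (.node (.node (.leaf (.up 3 1345 2)) (.leaf (.up 4 1035 1))) (.node (.leaf (.up 4 1346 2)) (.leaf (.up 4 1161 1)))) (.node (.node (.leaf (.up 3 1475 0)) (.leaf (.up 4 770 1))) (.node (.leaf (.up 5 1478 0)) (.leaf (.up 4 896 1))))) (.node (.node (.node (.leaf (.up 3 1859 2)) (.leaf (.up 4 541 2))) (.node (.leaf (.up 2 1209 1)) (.leaf (.up 4 542 2)))) (.node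 (.node (.leaf (.up 3 418 2)) (.leaf (.up 4 1276 2))) (.node (.leaf (.up 3 417 2)) (.leaf (.up 4 784 1))))))) (.node (.node (.node (.node (.node (.leaf (.up 4 1683 2)) (.leaf (.up 3 1850 0))) (.node (.leaf (.up 3 1680 2)) (.leaf (.up 3 344 1)))) (.node (.node (.leaf (.up 2 1397 0)) (.leaf (.up 2 1324 2))) (.node (.leaf (.up 2 1777 1)) (.leaf (.up 3 1327 2))))) (.node (.node (.node (.leaf (.up 4 1169 2)) (.leaf (.up 4 463 2))) (.node (.leaf (.up 3 1170 2)) (.leaf (.up 3 1838 0)))) (.node (.node (.leaf (.up 3 624 2)) (.leaf (.up 3 1838 2))) (.node (.leaf (.up 2 1633 1)) (.leaf (.up 3 1729 1)))))) (.node (.node (.node (.node (.leaf (.up 3 1689 2)) (.leaf (.up 4 428 1))) (.node (.leaf (.up 3 398 1)) (.leaf (.up 4 964 2)))) (.node (.node (.leaf (.up 5 120 2)) (.leaf (.up 3 1996 0))) (.node (.leaf (.up 3 123 2)) (.leaf (.up 4 1575 1))))) (.node (.node (.node (.leaf (.up 3 412 1)) (.leaf (.up 4 453 2))) (.node (.leaf (.up 3 286 1)) (.leaf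 (.up 3 446 1)))) (.node (.node (.leaf (.up 3 634 2)) (.leaf (.up 5 1828 2))) (.node (.leaf (.up 3 633 2)) (.leaf (.up 3 2008 0))))))))

noncomputable def vt3_2_111 : Tr VStep := .node vt3_2_1110 vt3_2_1111

noncomputable def vt3_2_11 : Tr VStep := .node vt3_2_110 vt3_2_111

noncomputable def vt3_2_1 : Tr VStep := .node vt3_2_10 vt3_2_11

noncomputable def vt3_2_ : Tr VStep := .node vt3_2_0 vt3_2_1

noncomputable def vt3_3_0000 : Tr VStep :=
  .node (.node (.node (.node (.node (.node (.node (.leaf (.root 3856)) (.leaf (.up 1 738 1))) (.node (.leaf (.up 1 175 1)) (.leaf (.up 1 308 2)))) (.node (.node (.leaf (.up 2 1828 1)) (.leaf (.up 1 564 2))) (.node (.leaf (.up 1 20 2)) (.leaf (.up 1 52 2))))) (.node (.node (.node (.leaf (.root 3872)) (.leaf (.up 1 783 0))) (.node (.leaf (.up 2 1696 2)) (.leaf (.up 1 271 0)))) (.node (.node (.leaf (.up 2 1753 1)) (.leaf (.up 1 527 0))) (.node (.leaf (.up 2 1952 2)) (.leaf (.up 1 15 0)))))) (.node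 (.node (.node (.node (.leaf (.root 4770)) (.leaf (.up 2 1350 1))) (.node (.leaf (.up 2 1803 1)) (.leaf (.up 1 217 2)))) (.node (.node (.leaf (.up 1 128 1)) (.leaf (.up 1 719 0))) (.node (.leaf (.up 1 146 1)) (.leaf (.up 1 207 0))))) (.node (.node (.node (.leaf (.root 3852)) (.leaf (.up 2 1389 2))) (.node (.leaf (.up 2 1869 2)) (.leaf (.up 2 1901 2)))) (.node (.node (.leaf (.up 1 381 1)) (.leaf (.up 1 591 0))) (.node (.leaf (.up 1 367 1)) (.leaf (.up 1 79 0))))))) (.node (.node (.node (.node (.node (.leaf (.root 1174)) (.leaf (.up 2 1844 2))) (.node (.leaf (.up 1 73 1)) (.leaf (.up 2 1332 2)))) (.node (.node (.leaf (.up 2 1986 1)) (.leaf (.up 3 1588 2))) (.node (.leaf (.up 2 2000 1)) (.leaf (.up 1 175 0))))) (.node (.node (.node (.leaf (.root 1608)) (.leaf (.up 1 128 2))) (.node (.leaf (.up 1 436 1)) (.leaf (.up 1 303 0)))) (.node (.node (.leaf (.root 2136)) (.leaf (.up 3 384 2))) (.node (.leaf (.up 2 1581 1)) (.leaf (.up 1 47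 0)))))) (.node (.node (.node (.node (.leaf (.root 1798)) (.leaf (.up 2 1753 2))) (.node (.leaf (.up 2 2029 1)) (.leaf (.up 2 1241 2)))) (.node (.node (.leaf (.up 1 102 1)) (.leaf (.up 2 2009 2))) (.node (.leaf (.up 1 116 1)) (.leaf (.up 1 239 0))))) (.node (.node (.node (.leaf (.root 1728)) (.leaf (.up 1 365 2))) (.node (.leaf (.up 2 845 2)) (.leaf (.up 1 367 0)))) (.node (.node (.leaf (.up 1 77 2)) (.leaf (.up 1 109 2))) (.node (.leaf (.up 3 589 2)) (.leaf (.up 1 111 0)))))))) (.node (.node (.node (.node (.node (.node (.leaf (.root 3024)) (.leaf (.up 1 754 1))) (.node (.leaf (.up 1 191 1)) (.leaf (.up 1 292 2)))) (.node (.node (.leaf (.up 2 1844 1)) (.leaf (.up 1 548 2))) (.node (.leaf (.up 1 4 2)) (.leaf (.up 1 36 2))))) (.node (.node (.node (.leaf (.root 3684)) (.leaf (.up 1 783 1))) (.node (.leaf (.up 2 1712 2)) (.leaf (.up 1 287 0)))) (.node (.node (.leaf (.up 2 1737 1)) (.leaf (.up 1 543 0))) (.node (.leaf (.up 2 1968 2))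 (.leaf (.up 1 31 0)))))) (.node (.node (.node (.node (.leaf (.root 5276)) (.leaf (.up 1 713 2))) (.node (.leaf (.up 2 1819 1)) (.leaf (.up 1 201 2)))) (.node (.node (.leaf (.up 1 144 1)) (.leaf (.up 1 719 1))) (.node (.leaf (.up 1 130 1)) (.leaf (.up 1 223 0))))) (.node (.node (.node (.leaf (.root 4218)) (.leaf (.up 2 1405 2))) (.node (.leaf (.up 2 1885 2)) (.leaf (.up 2 1917 2)))) (.node (.node (.leaf (.up 1 365 1)) (.leaf (.up 1 607 0))) (.node (.leaf (.up 1 383 1)) (.leaf (.up 1 95 0))))))) (.node (.node (.node (.node (.node (.leaf (.root 2196)) (.leaf (.up 2 1828 2))) (.node (.leaf (.up 1 89 1)) (.leaf (.up 2 1316 2)))) (.node (.node (.leaf (.up 2 2002 1)) (.leaf (.up 3 1572 2))) (.node (.leaf (.up 2 1984 1)) (.leaf (.up 1 191 0))))) (.node (.node (.node (.leaf (.root 1348)) (.leaf (.up 1 144 2))) (.node (.leaf (.up 1 420 1)) (.leaf (.up 1 319 0)))) (.node (.node (.leaf (.up 2 1583 1)) (.leaf (.up 3 400 2))) (.node (.leaf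 (.up 2 1597 1)) (.leaf (.up 1 63 0)))))) (.node (.node (.node (.node (.leaf (.up 2 2031 1)) (.leaf (.up 2 1737 2))) (.node (.leaf (.up 2 2045 1)) (.leaf (.up 2 1225 2)))) (.node (.node (.leaf (.up 2 2025 2)) (.leaf (.up 2 1993 2))) (.node (.leaf (.up 1 100 1)) (.leaf (.up 1 255 0))))) (.node (.node (.node (.leaf (.root 1790)) (.leaf (.up 1 381 2))) (.node (.leaf (.up 2 861 2)) (.leaf (.up 1 383 0)))) (.node (.node (.leaf (.up 1 93 2)) (.leaf (.up 1 125 2))) (.node (.leaf (.up 3 605 2)) (.leaf (.up 1 127 0))))))))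

noncomputable def vt3_3_0001 : Tr VStep :=
  .node (.node (.node (.node (.node (.node (.node (.leaf (.root 4094)) (.leaf (.up 2 1294 2))) (.node (.leaf (.up 2 1838 2)) (.leaf (.up 2 1806 2)))) (.node (.node (.leaf (.up 3 1070 2)) (.leaf (.up 3 1038 2))) (.node (.leaf (.up 3 1582 2)) (.leaf (.up 3 1550 2))))) (.node (.node (.node (.leaf (.root 3168)) (.leaf (.up 2 698 2))) (.node (.leaf (.up 2 154 2)) (.leaf (.up 2 186 2)))) (.node (.node (.leaf (.up 3 922 2)) (.leaf (.up 3 954 2))) (.node (.leaf (.up 3 410 2)) (.leaf (.up 1 7 0)))))) (.node (.node (.node (.node (.leaf (.root 3346)) (.leaf (.up 2 1251 2))) (.node (.leaf (.up 2 1731 2)) (.leaf (.up 2 1763 2)))) (.node (.node (.leaf (.up 3 1475 2)) (.leaf (.up 3 1507 2))) (.node (.leaf (.up 2 1987 2)) (.leaf (.up 2 2019 2))))) (.node (.node (.node (.leaf (.up 2 887 2)) (.leaf (.up 2 855 2))) (.node (.leaf (.up 2 375 2)) (.leaf (.up 2 1891 1)))) (.node (.node (.leaf (.up 3 631 2))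 (.leaf (.up 1 232 1))) (.node (.leaf (.up 3 119 2)) (.leaf (.up 1 71 0))))))) (.node (.node (.node (.node (.node (.leaf (.root 667)) (.leaf (.up 1 270 2))) (.node (.leaf (.root 809)) (.leaf (.up 1 423 0)))) (.node (.node (.leaf (.up 1 46 2)) (.leaf (.up 1 14 2))) (.node (.leaf (.up 1 558 2)) (.leaf (.up 1 167 0))))) (.node (.node (.node (.leaf (.root 839)) (.leaf (.up 1 51 1))) (.node (.leaf (.up 1 638 1)) (.leaf (.up 1 33 1)))) (.node (.node (.leaf (.up 2 1946 2)) (.leaf (.up 2 1962 1))) (.node (.leaf (.up 2 1434 2)) (.leaf (.up 1 39 0)))))) (.node (.node (.node (.node (.leaf (.root 707)) (.leaf (.up 1 227 2))) (.node (.leaf (.up 2 707 2)) (.leaf (.up 1 487 0)))) (.node (.node (.leaf (.root 1408)) (.leaf (.up 1 483 2))) (.node (.leaf (.up 3 963 2)) (.leaf (.up 1 231 0))))) (.node (.node (.node (.leaf (.root 1804)) (.leaf (.up 2 1943 1))) (.node (.leaf (.up 2 1399 2)) (.leaf (.up 2 1925 1)))) (.node (.node (.leaf (.root 896))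 (.leaf (.up 1 14 1))) (.node (.leaf (.up 1 579 1)) (.leaf (.up 1 28 1)))))))) (.node (.node (.node (.node (.node (.node (.leaf (.root 5144)) (.leaf (.up 2 1310 2))) (.node (.leaf (.up 2 1854 2)) (.leaf (.up 2 1822 2)))) (.node (.node (.leaf (.up 3 1086 2)) (.leaf (.up 3 1054 2))) (.node (.leaf (.up 3 1598 2)) (.leaf (.up 3 1566 2))))) (.node (.node (.node (.leaf (.up 2 650 2)) (.leaf (.up 2 682 2))) (.node (.leaf (.up 1 138 2)) (.leaf (.up 2 170 2)))) (.node (.node (.leaf (.up 3 906 2)) (.leaf (.up 3 938 2))) (.node (.leaf (.up 3 394 2)) (.leaf (.up 1 23 0)))))) (.node (.node (.node (.node (.leaf (.up 2 1235 2)) (.leaf (.up 2 1267 2))) (.node (.leaf (.up 2 1747 2)) (.leaf (.up 2 1779 2)))) (.node (.node (.leaf (.up 3 1491 2)) (.leaf (.up 3 1523 2))) (.node (.leaf (.up 3 2003 2)) (.leaf (.up 2 2035 2))))) (.node (.node (.node (.leaf (.up 2 871 2)) (.leaf (.up 2 1889 1))) (.node (.leaf (.up 2 359 2)) (.leaf (.up 2 327 2)))) (.node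 (.node (.leaf (.up 3 615 2)) (.leaf (.up 3 583 2))) (.node (.leaf (.up 3 103 2)) (.leaf (.up 1 71 2))))))) (.node (.node (.node (.node (.node (.leaf (.root 1438)) (.leaf (.up 1 286 2))) (.node (.leaf (.root 1302)) (.leaf (.up 1 439 0)))) (.node (.node (.leaf (.up 1 62 2)) (.leaf (.up 1 30 2))) (.node (.leaf (.up 1 574 2)) (.leaf (.up 1 183 0))))) (.node (.node (.node (.leaf (.root 2284)) (.leaf (.up 1 35 1))) (.node (.leaf (.up 1 622 1)) (.leaf (.up 1 49 1)))) (.node (.node (.leaf (.up 2 1930 2)) (.leaf (.up 2 1962 2))) (.node (.leaf (.up 2 1418 2)) (.leaf (.up 2 1960 1)))))) (.node (.node (.node (.node (.leaf (.root 1668)) (.leaf (.up 1 243 2))) (.node (.leaf (.up 2 723 2)) (.leaf (.up 2 1640 1)))) (.node (.node (.leaf (.root 763)) (.leaf (.up 1 483 1))) (.node (.leaf (.up 3 979 2)) (.leaf (.up 1 247 0))))) (.node (.node (.node (.leaf (.up 2 1895 2)) (.leaf (.up 2 1927 1))) (.node (.leaf (.up 2 1482 1)) (.leaf (.up 2 1941 1))))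 (.node (.node (.leaf (.up 2 1639 2)) (.leaf (.up 1 30 1))) (.node (.leaf (.up 3 1127 2)) (.leaf (.up 1 12 1))))))))

noncomputable def vt3_3_000 : Tr VStep := .node vt3_3_0000 vt3_3_0001

noncomputable def vt3_3_0010 : Tr VStep :=
  .node (.node (.node (.node (.node (.node (.node (.leaf (.root 4544)) (.leaf (.up 3 816 2))) (.node (.leaf (.up 3 272 2)) (.leaf (.up 3 304 2)))) (.node (.node (.leaf (.up 2 528 2)) (.leaf (.up 2 560 2))) (.node (.leaf (.up 1 16 2)) (.leaf (.up 1 48 2))))) (.node (.node (.node (.leaf (.root 3694)) (.leaf (.up 2 1936 1))) (.node (.leaf (.up 3 1700 2)) (.leaf (.up 2 1922 1)))) (.node (.node (.leaf (.up 2 1444 2)) (.leaf (.up 1 9 1))) (.node (.leaf (.up 2 1956 2)) (.leaf (.up 1 11 0)))))) (.node (.node (.node (.node (.leaf (.up 3 765 2)) (.leaf (.up 3 733 2))) (.node (.leaf (.up 3 253 2)) (.leaf (.up 3 221 2)))) (.node (.node (.leaf (.up 2 1021 2)) (.leaf (.up 2 989 2))) (.node (.leaf (.up 2 509 2)) (.leaf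 (.up 1 203 0))))) (.node (.node (.node (.leaf (.up 3 1353 2)) (.leaf (.up 1 52 1))) (.node (.leaf (.up 3 1865 2)) (.leaf (.up 1 38 1)))) (.node (.node (.leaf (.up 2 1097 2)) (.leaf (.up 2 1965 1))) (.node (.leaf (.up 2 1609 2)) (.leaf (.up 2 1983 1))))))) (.node (.node (.node (.node (.node (.leaf (.root 1922)) (.leaf (.up 2 1840 2))) (.node (.leaf (.root 1820)) (.leaf (.up 2 1689 1)))) (.node (.node (.leaf (.root 1636)) (.leaf (.up 1 274 1))) (.node (.leaf (.up 2 1040 2)) (.leaf (.up 1 171 0))))) (.node (.node (.node (.leaf (.root 2124)) (.leaf (.up 1 132 2))) (.node (.leaf (.root 1934)) (.leaf (.up 2 1892 1)))) (.node (.node (.leaf (.root 1004)) (.leaf (.up 1 239 1))) (.node (.leaf (.up 1 674 1)) (.leaf (.up 1 43 0)))))) (.node (.node (.node (.node (.leaf (.root 1940)) (.leaf (.up 1 303 1))) (.node (.leaf (.root 2018)) (.leaf (.up 1 317 1)))) (.node (.node (.leaf (.up 2 2045 2)) (.leaf (.up 2 2013 2))) (.node (.leaf (.up 2 1533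 2)) (.leaf (.up 1 235 0))))) (.node (.node (.node (.leaf (.root 924)) (.leaf (.up 1 210 1))) (.node (.leaf (.up 3 841 2)) (.leaf (.up 1 192 1)))) (.node (.node (.leaf (.up 1 73 2)) (.leaf (.up 1 105 2))) (.node (.leaf (.up 2 585 2)) (.leaf (.up 1 107 0)))))))) (.node (.node (.node (.node (.node (.node (.leaf (.root 2567)) (.leaf (.up 3 800 2))) (.node (.leaf (.up 3 256 2)) (.leaf (.up 3 288 2)))) (.node (.node (.leaf (.up 2 512 2)) (.leaf (.up 2 544 2))) (.node (.leaf (.up 1 0 2)) (.leaf (.up 1 32 2))))) (.node (.node (.node (.leaf (.root 2808)) (.leaf (.up 2 1920 1))) (.node (.leaf (.up 3 1716 2)) (.leaf (.up 2 1938 1)))) (.node (.node (.leaf (.up 2 1460 2)) (.leaf (.up 1 25 1))) (.node (.leaf (.up 2 1972 2)) (.leaf (.up 1 11 1)))))) (.node (.node (.node (.node (.leaf (.up 3 749 2)) (.leaf (.up 3 717 2))) (.node (.leaf (.up 3 237 2)) (.leaf (.up 1 205 2)))) (.node (.node (.leaf (.up 2 1005 2)) (.leaf (.up 2 973 2))) (.node (.leaf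 (.up 2 493 2)) (.leaf (.up 2 461 2))))) (.node (.node (.node (.leaf (.up 3 1369 2)) (.leaf (.up 1 36 1))) (.node (.leaf (.up 3 1881 2)) (.leaf (.up 1 54 1)))) (.node (.node (.leaf (.up 2 1113 2)) (.leaf (.up 2 1981 1))) (.node (.leaf (.up 2 1625 2)) (.leaf (.up 2 1967 1))))))) (.node (.node (.node (.node (.node (.leaf (.root 2058)) (.leaf (.up 2 1824 2))) (.node (.leaf (.root 1958)) (.leaf (.up 2 1673 1)))) (.node (.node (.leaf (.root 685)) (.leaf (.up 1 258 1))) (.node (.leaf (.up 2 1024 2)) (.leaf (.up 1 187 0))))) (.node (.node (.node (.leaf (.root 819)) (.leaf (.up 1 148 2))) (.node (.leaf (.up 2 1323 1)) (.leaf (.up 2 1908 1)))) (.node (.node (.leaf (.root 2220)) (.leaf (.up 1 255 1))) (.node (.leaf (.up 1 690 1)) (.leaf (.up 1 59 0)))))) (.node (.node (.node (.node (.leaf (.root 1336)) (.leaf (.up 1 319 1))) (.node (.leaf (.up 3 1261 2)) (.leaf (.up 1 301 1)))) (.node (.node (.leaf (.up 2 2029 2)) (.leaf (.up 2 1997 2)))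 (.node (.leaf (.up 2 1517 2)) (.leaf (.up 1 251 0))))) (.node (.node (.node (.leaf (.root 1552)) (.leaf (.up 1 194 1))) (.node (.leaf (.up 3 857 2)) (.leaf (.up 1 208 1)))) (.node (.node (.leaf (.up 1 89 2)) (.leaf (.up 1 121 2))) (.node (.leaf (.up 2 601 2)) (.leaf (.up 1 123 0))))))))

noncomputable def vt3_3_0011 : Tr VStep :=
  .node (.node (.node (.node (.node (.node (.node (.leaf (.root 2680)) (.leaf (.up 2 1447 1))) (.node (.leaf (.up 2 2026 1)) (.leaf (.up 2 1802 2)))) (.node (.node (.leaf (.up 1 97 1)) (.leaf (.up 1 574 1))) (.node (.leaf (.up 1 115 1)) (.leaf (.up 1 131 0))))) (.node (.node (.node (.leaf (.root 4076)) (.leaf (.up 1 702 2))) (.node (.leaf (.up 1 158 2)) (.leaf (.up 1 190 2)))) (.node (.node (.leaf (.root 2854)) (.leaf (.up 1 515 0))) (.node (.leaf (.up 1 398 1)) (.leaf (.up 1 3 0)))))) (.node (.node (.node (.node (.leaf (.root 3998)) (.leaf (.up 1 515 1))) (.node (.leaf (.up 1 78 1)) (.leaf (.up 2 1767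 2)))) (.node (.node (.leaf (.up 2 1989 1)) (.leaf (.up 2 1434 1))) (.node (.leaf (.up 2 1991 2)) (.leaf (.up 2 2023 2))))) (.node (.node (.node (.leaf (.root 3558)) (.leaf (.up 1 835 0))) (.node (.leaf (.up 1 371 2)) (.leaf (.up 1 323 0)))) (.node (.node (.leaf (.up 2 1592 1)) (.leaf (.up 1 579 0))) (.node (.leaf (.up 1 115 2)) (.leaf (.up 1 67 0))))))) (.node (.node (.node (.node (.node (.leaf (.root 771)) (.leaf (.up 1 266 2))) (.node (.leaf (.up 2 1804 1)) (.leaf (.up 3 778 2)))) (.node (.node (.leaf (.up 1 42 2)) (.leaf (.up 1 10 2))) (.node (.leaf (.up 1 149 1)) (.leaf (.up 1 163 0))))) (.node (.node (.node (.leaf (.root 793)) (.leaf (.up 3 1726 2))) (.node (.leaf (.up 2 1777 1)) (.leaf (.up 1 291 0)))) (.node (.node (.leaf (.up 2 1950 2)) (.leaf (.up 2 1982 2))) (.node (.leaf (.up 1 360 1)) (.leaf (.up 1 35 0)))))) (.node (.node (.node (.node (.leaf (.root 2042)) (.leaf (.up 1 231 2))) (.node (.leaf (.up 1 168 1)) (.leaf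 (.up 1 483 0)))) (.node (.node (.leaf (.up 2 1827 1)) (.leaf (.up 1 487 2))) (.node (.leaf (.up 2 1841 1)) (.leaf (.up 1 227 0))))) (.node (.node (.node (.leaf (.root 849)) (.leaf (.up 2 1875 2))) (.node (.leaf (.up 3 1395 2)) (.leaf (.up 1 355 0)))) (.node (.node (.leaf (.up 2 1651 2)) (.leaf (.up 2 1619 2))) (.node (.leaf (.up 2 1740 1)) (.leaf (.up 1 99 0)))))))) (.node (.node (.node (.node (.node (.node (.leaf (.root 3528)) (.leaf (.up 2 1463 1))) (.node (.leaf (.up 2 2042 1)) (.leaf (.up 2 1818 2)))) (.node (.node (.leaf (.up 1 113 1)) (.leaf (.up 1 558 1))) (.node (.leaf (.up 1 99 1)) (.leaf (.up 1 147 0))))) (.node (.node (.node (.leaf (.root 3476)) (.leaf (.up 1 686 2))) (.node (.leaf (.up 1 142 2)) (.leaf (.up 1 174 2)))) (.node (.node (.leaf (.up 1 396 1)) (.leaf (.up 1 531 0))) (.node (.leaf (.up 1 398 2)) (.leaf (.up 1 19 0)))))) (.node (.node (.node (.node (.leaf (.up 1 76 1)) (.leaf (.up 1 531 1))) (.node (.leaf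 (.up 1 94 1)) (.leaf (.up 2 1783 2)))) (.node (.node (.leaf (.up 2 2005 1)) (.leaf (.up 2 1418 1))) (.node (.leaf (.up 2 1991 1)) (.leaf (.up 2 2039 2))))) (.node (.node (.node (.leaf (.root 2794)) (.leaf (.up 1 835 2))) (.node (.leaf (.up 1 355 2)) (.leaf (.up 1 323 2)))) (.node (.node (.leaf (.up 2 1576 1)) (.leaf (.up 1 579 2))) (.node (.leaf (.up 1 99 2)) (.leaf (.up 1 67 2))))))) (.node (.node (.node (.node (.node (.leaf (.root 1460)) (.leaf (.up 1 282 2))) (.node (.leaf (.up 2 1820 1)) (.leaf (.up 3 794 2)))) (.node (.node (.leaf (.up 1 58 2)) (.leaf (.up 1 26 2))) (.node (.leaf (.up 1 133 1)) (.leaf (.up 1 179 0))))) (.node (.node (.node (.leaf (.root 2092)) (.leaf (.up 2 1710 2))) (.node (.leaf (.up 2 1761 1)) (.leaf (.up 3 1198 2)))) (.node (.node (.leaf (.up 2 1934 2)) (.leaf (.up 2 1966 2))) (.node (.leaf (.up 1 376 1)) (.leaf (.up 1 51 0)))))) (.node (.node (.node (.node (.leaf (.root 1538)) (.leaf (.up 1 247 2)))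 (.node (.leaf (.up 1 184 1)) (.leaf (.up 3 759 2)))) (.node (.node (.leaf (.up 2 1843 1)) (.leaf (.up 2 503 2))) (.node (.leaf (.up 2 1825 1)) (.leaf (.up 1 243 0))))) (.node (.node (.node (.leaf (.up 2 1891 2)) (.leaf (.up 2 1859 2))) (.node (.leaf (.up 1 325 1)) (.leaf (.up 1 371 0)))) (.node (.node (.leaf (.up 2 1742 1)) (.leaf (.up 2 1603 2))) (.node (.leaf (.up 2 1123 2)) (.leaf (.up 1 115 0))))))))

noncomputable def vt3_3_001 : Tr VStep := .node vt3_3_0010 vt3_3_0011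

noncomputable def vt3_3_00 : Tr VStep := .node vt3_3_000 vt3_3_001

noncomputable def vt3_3_0100 : Tr VStep :=
  .node (.node (.node (.node (.node (.node (.node (.leaf (.root 4626)) (.leaf (.up 1 242 1))) (.node (.leaf (.up 1 278 2)) (.leaf (.up 1 224 1)))) (.node (.node (.leaf (.root 4794)) (.leaf (.up 2 1899 1))) (.node (.leaf (.up 1 22 2)) (.leaf (.up 1 54 2))))) (.node (.node (.node (.leaf (.root 4246)) (.leaf (.up 1 271 1))) (.node (.leaf (.up 2 1698 2)) (.leaf (.up 1 269 0)))) (.node (.node (.leaf (.root 3100)) (.leaf (.up 2 1686 1))) (.node (.leaf (.up 2 1954 2)) (.leaf (.up 1 13 0)))))) (.node (.node (.node (.node (.leaf (.root 5062)) (.leaf (.up 2 1878 1))) (.node (.leaf (.up 1 251 2)) (.leaf (.up 2 1860 1)))) (.node (.node (.leaf (.up 3 1019 2)) (.leaf (.up 1 207 1))) (.node (.leaf (.up 3 507 2)) (.leaf (.up 1 205 0))))) (.node (.node (.node (.leaf (.root 4454)) (.leaf (.up 2 1707 1))) (.node (.leaf (.up 2 1871 2))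 (.leaf (.up 2 1903 2)))) (.node (.node (.leaf (.up 3 1103 2)) (.leaf (.up 1 306 1))) (.node (.leaf (.up 3 1615 2)) (.leaf (.up 1 77 0))))))) (.node (.node (.node (.node (.node (.leaf (.root 1558)) (.leaf (.up 1 20 1))) (.node (.leaf (.root 1012)) (.leaf (.up 1 6 1)))) (.node (.node (.leaf (.root 691)) (.leaf (.up 2 1933 1))) (.node (.leaf (.up 2 1472 1)) (.leaf (.up 2 1951 1))))) (.node (.node (.node (.leaf (.root 1494)) (.leaf (.up 1 130 2))) (.node (.leaf (.root 1758)) (.leaf (.up 1 301 0)))) (.node (.node (.leaf (.root 1732)) (.leaf (.up 1 386 2))) (.node (.leaf (.root 2190)) (.leaf (.up 1 45 0)))))) (.node (.node (.node (.node (.leaf (.root 1688)) (.leaf (.up 2 1968 1))) (.node (.leaf (.root 1708)) (.leaf (.up 2 1954 1)))) (.node (.node (.leaf (.up 2 2043 2)) (.leaf (.up 1 41 1))) (.node (.leaf (.up 1 612 1)) (.leaf (.up 1 59 1))))) (.node (.node (.node (.leaf (.root 956)) (.leaf (.up 1 367 2))) (.node (.leaf (.root 1454))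 (.leaf (.up 1 365 0)))) (.node (.node (.leaf (.up 1 79 2)) (.leaf (.up 1 111 2))) (.node (.leaf (.up 1 591 2)) (.leaf (.up 1 109 0)))))))) (.node (.node (.node (.node (.node (.node (.leaf (.root 3526)) (.leaf (.up 1 226 1))) (.node (.leaf (.up 1 262 2)) (.leaf (.up 1 240 1)))) (.node (.node (.leaf (.root 5320)) (.leaf (.up 2 1915 1))) (.node (.leaf (.up 1 6 2)) (.leaf (.up 1 38 2))))) (.node (.node (.node (.leaf (.root 2914)) (.leaf (.up 1 287 1))) (.node (.leaf (.up 2 1714 2)) (.leaf (.up 1 269 1)))) (.node (.node (.leaf (.root 2966)) (.leaf (.up 2 1670 1))) (.node (.leaf (.up 2 1970 2)) (.leaf (.up 1 29 0)))))) (.node (.node (.node (.node (.leaf (.root 4080)) (.leaf (.up 2 1862 1))) (.node (.leaf (.up 1 235 2)) (.leaf (.up 1 203 2)))) (.node (.node (.leaf (.up 3 1003 2)) (.leaf (.up 1 223 1))) (.node (.leaf (.up 3 491 2)) (.leaf (.up 1 205 1))))) (.node (.node (.node (.leaf (.root 4160)) (.leaf (.up 2 1723 1))) (.node (.leaf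 (.up 2 1887 2)) (.leaf (.up 2 1919 2)))) (.node (.node (.leaf (.up 3 1119 2)) (.leaf (.up 1 290 1))) (.node (.leaf (.up 3 1631 2)) (.leaf (.up 1 93 0))))))) (.node (.node (.node (.node (.node (.leaf (.root 2156)) (.leaf (.up 1 4 1))) (.node (.leaf (.root 779)) (.leaf (.up 1 22 1)))) (.node (.node (.leaf (.root 1034)) (.leaf (.up 2 1949 1))) (.node (.leaf (.up 2 1488 1)) (.leaf (.up 2 1935 1))))) (.node (.node (.node (.leaf (.root 1320)) (.leaf (.up 1 146 2))) (.node (.leaf (.root 2208)) (.leaf (.up 1 317 0)))) (.node (.node (.leaf (.root 2012)) (.leaf (.up 1 402 2))) (.node (.leaf (.up 2 1069 1)) (.leaf (.up 1 61 0)))))) (.node (.node (.node (.node (.leaf (.root 1690)) (.leaf (.up 2 1952 1))) (.node (.leaf (.up 2 1517 1)) (.leaf (.up 2 1970 1)))) (.node (.node (.leaf (.up 2 2027 2)) (.leaf (.up 1 57 1))) (.node (.leaf (.up 2 1515 2)) (.leaf (.up 1 43 1))))) (.node (.node (.node (.leaf (.root 1430)) (.leaf (.up 1 383 2))) (.node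 (.leaf (.root 815)) (.leaf (.up 1 381 0)))) (.node (.node (.leaf (.up 1 95 2)) (.leaf (.up 1 127 2))) (.node (.leaf (.up 1 607 2)) (.leaf (.up 1 125 0))))))))

noncomputable def vt3_3_0101 : Tr VStep :=
  .node (.node (.node (.node (.node (.node (.node (.leaf (.root 4208)) (.leaf (.up 2 1292 2))) (.node (.leaf (.up 2 1836 2)) (.leaf (.up 2 1804 2)))) (.node (.node (.leaf (.root 3448)) (.leaf (.up 3 1036 2))) (.node (.leaf (.up 2 1772 1)) (.leaf (.up 1 133 0))))) (.node (.node (.node (.leaf (.root 3746)) (.leaf (.up 2 696 2))) (.node (.leaf (.up 1 136 1)) (.leaf (.up 1 184 2)))) (.node (.node (.leaf (.up 2 1795 1)) (.leaf (.up 1 517 0))) (.node (.leaf (.up 2 1809 1)) (.leaf (.up 1 5 0)))))) (.node (.node (.node (.node (.leaf (.root 3340)) (.leaf (.up 2 1249 2))) (.node (.leaf (.up 2 1729 2)) (.leaf (.up 2 1761 2)))) (.node (.node (.leaf (.root 3056)) (.leaf (.up 2 1505 2))) (.node (.leaf (.up 2 1985 2)) (.leaf (.up 2 2017 2)))))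 (.node (.node (.node (.leaf (.up 2 1854 1)) (.leaf (.up 2 1377 1))) (.node (.leaf (.up 2 1836 1)) (.leaf (.up 1 325 0)))) (.node (.node (.leaf (.up 1 167 1)) (.leaf (.up 1 581 0))) (.node (.leaf (.up 1 117 2)) (.leaf (.up 1 69 0))))))) (.node (.node (.node (.node (.node (.leaf (.root 797)) (.leaf (.up 2 268 2))) (.node (.leaf (.up 2 812 2)) (.leaf (.up 2 780 2)))) (.node (.node (.leaf (.up 1 44 2)) (.leaf (.up 1 12 2))) (.node (.leaf (.up 3 556 2)) (.leaf (.up 3 524 2))))) (.node (.node (.node (.leaf (.up 1 124 1)) (.leaf (.up 2 1720 2))) (.node (.leaf (.up 1 110 1)) (.leaf (.up 2 1208 2)))) (.node (.node (.leaf (.up 2 1944 2)) (.leaf (.up 3 1976 2))) (.node (.leaf (.up 2 2039 1)) (.leaf (.up 1 37 0)))))) (.node (.node (.node (.node (.leaf (.up 2 193 2)) (.leaf (.up 1 225 2))) (.node (.leaf (.up 2 705 2)) (.leaf (.up 2 737 2)))) (.node (.node (.leaf (.up 3 449 2)) (.leaf (.up 3 481 2))) (.node (.leaf (.up 3 961 2)) (.leaf (.up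 1 229 0))))) (.node (.node (.node (.leaf (.up 2 1909 2)) (.leaf (.up 2 1877 2))) (.node (.leaf (.up 2 1994 1)) (.leaf (.up 2 1365 2)))) (.node (.node (.leaf (.up 1 65 1)) (.leaf (.up 3 1621 2))) (.node (.leaf (.up 3 1141 2)) (.leaf (.up 1 101 0)))))))) (.node (.node (.node (.node (.node (.node (.leaf (.root 4552)) (.leaf (.up 2 1308 2))) (.node (.leaf (.up 2 1852 2)) (.leaf (.up 2 1820 2)))) (.node (.node (.leaf (.root 3534)) (.leaf (.up 3 1052 2))) (.node (.leaf (.up 2 1788 1)) (.leaf (.up 1 149 0))))) (.node (.node (.node (.leaf (.up 1 138 1)) (.leaf (.up 2 680 2))) (.node (.leaf (.up 1 136 2)) (.leaf (.up 1 168 2)))) (.node (.node (.leaf (.up 2 1811 1)) (.leaf (.up 1 533 0))) (.node (.leaf (.up 2 1793 1)) (.leaf (.up 1 21 0)))))) (.node (.node (.node (.node (.leaf (.root 5826)) (.leaf (.up 2 1265 2))) (.node (.leaf (.up 2 1729 1)) (.leaf (.up 2 1777 2)))) (.node (.node (.leaf (.up 1 330 1)) (.leaf (.up 2 1521 2))) (.node (.leaf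 (.up 2 2001 2)) (.leaf (.up 2 2033 2))))) (.node (.node (.node (.leaf (.up 2 1838 1)) (.leaf (.up 2 837 2))) (.node (.leaf (.up 2 1852 1)) (.leaf (.up 1 325 2)))) (.node (.node (.leaf (.up 1 183 1)) (.leaf (.up 1 581 2))) (.node (.leaf (.up 1 101 2)) (.leaf (.up 1 69 2))))))) (.node (.node (.node (.node (.node (.leaf (.root 1424)) (.leaf (.up 2 284 2))) (.node (.leaf (.up 2 828 2)) (.leaf (.up 2 796 2)))) (.node (.node (.leaf (.up 1 60 2)) (.leaf (.up 1 28 2))) (.node (.leaf (.up 3 572 2)) (.leaf (.up 3 540 2))))) (.node (.node (.node (.leaf (.up 1 108 1)) (.leaf (.up 2 1704 2))) (.node (.leaf (.up 1 126 1)) (.leaf (.up 2 1192 2)))) (.node (.node (.leaf (.up 2 1928 2)) (.leaf (.up 2 1960 2))) (.node (.leaf (.up 2 2023 1)) (.leaf (.up 3 1448 2)))))) (.node (.node (.node (.node (.leaf (.up 2 209 2)) (.leaf (.up 2 241 2))) (.node (.leaf (.up 2 721 2)) (.leaf (.up 2 753 2)))) (.node (.node (.leaf (.up 3 465 2)) (.leaf (.up 3 497 2)))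 (.node (.leaf (.up 3 977 2)) (.leaf (.up 3 1009 2))))) (.node (.node (.node (.leaf (.up 2 1992 1)) (.leaf (.up 2 1861 2))) (.node (.leaf (.up 2 1381 2)) (.leaf (.up 2 1349 2)))) (.node (.node (.leaf (.up 3 1637 2)) (.leaf (.up 3 1605 2))) (.node (.leaf (.up 1 67 1)) (.leaf (.up 1 117 0))))))))

noncomputable def vt3_3_010 : Tr VStep := .node vt3_3_0100 vt3_3_0101

noncomputable def vt3_3_0110 : Tr VStep :=
  .node (.node (.node (.node (.node (.node (.node (.leaf (.root 5594)) (.leaf (.up 3 818 2))) (.node (.leaf (.up 1 274 2)) (.leaf (.up 1 306 2)))) (.node (.node (.leaf (.root 4516)) (.leaf (.up 1 562 2))) (.node (.leaf (.up 1 18 2)) (.leaf (.up 1 50 2))))) (.node (.node (.node (.leaf (.up 2 2015 1)) (.leaf (.up 2 1408 1))) (.node (.leaf (.up 2 1997 1)) (.leaf (.up 1 265 0)))) (.node (.node (.leaf (.up 1 70 1)) (.leaf (.up 1 521 0))) (.node (.leaf (.up 2 1958 2)) (.leaf (.up 1 9 0)))))) (.node (.node (.node (.node (.leaf (.root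 2878)) (.leaf (.up 3 735 2))) (.node (.leaf (.up 1 255 2)) (.leaf (.up 1 223 2)))) (.node (.node (.leaf (.root 2511)) (.leaf (.up 1 713 0))) (.node (.leaf (.up 2 1549 1)) (.leaf (.up 1 201 0))))) (.node (.node (.node (.leaf (.up 1 123 1)) (.leaf (.up 1 548 1))) (.node (.leaf (.up 1 105 1)) (.leaf (.up 2 1899 2)))) (.node (.node (.leaf (.up 2 2018 1)) (.leaf (.up 2 1469 1))) (.node (.leaf (.up 2 2032 1)) (.leaf (.up 1 73 0))))))) (.node (.node (.node (.node (.node (.leaf (.root 857)) (.leaf (.up 3 1842 2))) (.node (.leaf (.up 3 1298 2)) (.leaf (.up 3 1330 2)))) (.node (.node (.leaf (.up 2 1554 2)) (.leaf (.up 2 1586 2))) (.node (.leaf (.up 2 1042 2)) (.leaf (.up 2 1074 2))))) (.node (.node (.node (.leaf (.root 1340)) (.leaf (.up 3 134 2))) (.node (.leaf (.up 2 1835 1)) (.leaf (.up 3 646 2)))) (.node (.node (.leaf (.up 1 160 1)) (.leaf (.up 2 390 2))) (.node (.leaf (.up 1 178 1)) (.leaf (.up 1 41 0)))))) (.node (.node (.node (.node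 (.leaf (.root 962)) (.leaf (.up 3 1759 2))) (.node (.leaf (.up 3 1279 2)) (.leaf (.up 3 1247 2)))) (.node (.node (.leaf (.up 2 2047 2)) (.leaf (.up 2 2015 2))) (.node (.leaf (.up 2 1535 2)) (.leaf (.up 2 1503 2))))) (.node (.node (.node (.leaf (.up 3 331 2)) (.leaf (.up 3 363 2))) (.node (.leaf (.up 3 843 2)) (.leaf (.up 3 875 2)))) (.node (.node (.leaf (.up 2 75 2)) (.leaf (.up 1 107 2))) (.node (.leaf (.up 2 587 2)) (.leaf (.up 1 105 0)))))))) (.node (.node (.node (.node (.node (.node (.leaf (.root 3514)) (.leaf (.up 3 802 2))) (.node (.leaf (.up 1 258 2)) (.leaf (.up 1 290 2)))) (.node (.node (.leaf (.root 3506)) (.leaf (.up 1 546 2))) (.node (.leaf (.up 1 2 2)) (.leaf (.up 1 34 2))))) (.node (.node (.node (.leaf (.up 2 1999 1)) (.leaf (.up 2 1424 1))) (.node (.leaf (.up 2 2013 1)) (.leaf (.up 1 281 0)))) (.node (.node (.leaf (.up 1 86 1)) (.leaf (.up 1 521 1))) (.node (.leaf (.up 2 1974 2)) (.leaf (.up 1 25 0)))))) (.node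 (.node (.node (.node (.leaf (.root 3822)) (.leaf (.up 1 719 2))) (.node (.leaf (.up 1 239 2)) (.leaf (.up 1 207 2)))) (.node (.node (.leaf (.root 5822)) (.leaf (.up 2 975 2))) (.node (.leaf (.up 2 1565 1)) (.leaf (.up 1 217 0))))) (.node (.node (.node (.leaf (.up 1 107 1)) (.leaf (.up 1 564 1))) (.node (.leaf (.up 1 121 1)) (.leaf (.up 2 1915 2)))) (.node (.node (.leaf (.up 2 2034 1)) (.leaf (.up 2 1453 1))) (.node (.leaf (.up 2 2016 1)) (.leaf (.up 1 89 0))))))) (.node (.node (.node (.node (.node (.leaf (.root 1904)) (.leaf (.up 3 1826 2))) (.node (.leaf (.up 3 1282 2)) (.leaf (.up 3 1314 2)))) (.node (.node (.leaf (.up 2 1538 2)) (.leaf (.up 2 1570 2))) (.node (.leaf (.up 2 1026 2)) (.leaf (.up 2 1058 2))))) (.node (.node (.node (.leaf (.up 2 1833 1)) (.leaf (.up 3 150 2))) (.node (.leaf (.up 2 1851 1)) (.leaf (.up 3 662 2)))) (.node (.node (.leaf (.up 1 176 1)) (.leaf (.up 2 406 2))) (.node (.leaf (.up 1 162 1)) (.leaf (.up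 1 57 0)))))) (.node (.node (.node (.node (.leaf (.up 3 1775 2)) (.leaf (.up 3 1743 2))) (.node (.leaf (.up 3 1263 2)) (.leaf (.up 3 1231 2)))) (.node (.node (.leaf (.up 2 2031 2)) (.leaf (.up 2 1999 2))) (.node (.leaf (.up 2 1519 2)) (.leaf (.up 2 1487 2))))) (.node (.node (.node (.leaf (.up 3 347 2)) (.leaf (.up 3 379 2))) (.node (.leaf (.up 3 859 2)) (.leaf (.up 3 891 2)))) (.node (.node (.leaf (.up 2 91 2)) (.leaf (.up 1 123 2))) (.node (.leaf (.up 2 603 2)) (.leaf (.up 1 121 0))))))))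

noncomputable def vt3_3_0111 : Tr VStep :=
  .node (.node (.node (.node (.node (.node (.node (.leaf (.root 2858)) (.leaf (.up 2 1975 1))) (.node (.leaf (.up 2 1832 2)) (.leaf (.up 2 1957 1)))) (.node (.node (.leaf (.root 3918)) (.leaf (.up 1 46 1))) (.node (.leaf (.up 2 1576 2)) (.leaf (.up 1 60 1))))) (.node (.node (.node (.leaf (.root 4390)) (.leaf (.up 3 700 2))) (.node (.leaf (.up 1 156 2)) (.leaf (.up 1 188 2)))) (.node (.node (.leaf (.root 5092)) (.leaf (.up 2 956 2))) (.node (.leaf (.up 2 412 2)) (.leaf (.up 1 1 0)))))) (.node (.node (.node (.node (.leaf (.root 3432)) (.leaf (.up 1 19 1))) (.node (.leaf (.up 2 1733 2)) (.leaf (.up 1 1 1)))) (.node (.node (.leaf (.root 3310)) (.leaf (.up 2 1930 1))) (.node (.leaf (.up 2 1989 2)) (.leaf (.up 2 1944 1))))) (.node (.node (.node (.leaf (.root 5538)) (.leaf (.up 1 494 1))) (.node (.leaf (.up 3 369 2)) (.leaf (.up 1 321 0)))) (.node (.node (.leaf (.up 2 625 2)) (.leaf (.up 2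 593 2))) (.node (.leaf (.up 1 113 2)) (.leaf (.up 1 65 0))))))) (.node (.node (.node (.node (.node (.leaf (.root 603)) (.leaf (.up 2 1873 1))) (.node (.leaf (.root 890)) (.leaf (.up 2 1859 1)))) (.node (.node (.leaf (.up 1 40 2)) (.leaf (.up 1 8 2))) (.node (.leaf (.up 1 552 2)) (.leaf (.up 1 161 0))))) (.node (.node (.node (.leaf (.root 948)) (.leaf (.up 2 1708 1))) (.node (.leaf (.root 1202)) (.leaf (.up 1 289 0)))) (.node (.node (.leaf (.up 2 1948 2)) (.leaf (.up 2 1980 2))) (.node (.leaf (.up 2 1436 2)) (.leaf (.up 1 33 0)))))) (.node (.node (.node (.node (.leaf (.root 642)) (.leaf (.up 1 229 2))) (.node (.leaf (.root 1044)) (.leaf (.up 1 231 1)))) (.node (.node (.leaf (.root 835)) (.leaf (.up 2 1900 1))) (.node (.leaf (.up 2 1313 1)) (.leaf (.up 1 225 0))))) (.node (.node (.node (.leaf (.root 1316)) (.leaf (.up 2 1873 2))) (.node (.leaf (.root 739)) (.leaf (.up 1 282 1)))) (.node (.node (.leaf (.root 877)) (.leaf (.up 2 1681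 1))) (.node (.leaf (.up 2 1137 2)) (.leaf (.up 1 97 0)))))))) (.node (.node (.node (.node (.node (.node (.leaf (.root 3730)) (.leaf (.up 2 1959 1))) (.node (.leaf (.up 2 1848 2)) (.leaf (.up 2 1973 1)))) (.node (.node (.leaf (.root 4446)) (.leaf (.up 1 62 1))) (.node (.leaf (.up 2 1592 2)) (.leaf (.up 1 44 1))))) (.node (.node (.node (.leaf (.root 2888)) (.leaf (.up 3 684 2))) (.node (.leaf (.up 1 140 2)) (.leaf (.up 1 172 2)))) (.node (.node (.leaf (.up 2 908 2)) (.leaf (.up 2 940 2))) (.node (.leaf (.up 1 396 2)) (.leaf (.up 1 17 0)))))) (.node (.node (.node (.node (.leaf (.root 5268)) (.leaf (.up 1 3 1))) (.node (.leaf (.up 3 1749 2)) (.leaf (.up 1 17 1)))) (.node (.node (.leaf (.up 2 1493 2)) (.leaf (.up 2 1946 1))) (.node (.leaf (.up 2 2005 2)) (.leaf (.up 2 1928 1))))) (.node (.node (.node (.leaf (.root 5018)) (.leaf (.up 3 833 2))) (.node (.leaf (.up 3 353 2)) (.leaf (.up 1 321 2)))) (.node (.node (.leaf (.up 2 609 2))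 (.leaf (.up 2 1639 1))) (.node (.leaf (.up 1 97 2)) (.leaf (.up 1 65 2))))))) (.node (.node (.node (.node (.node (.leaf (.root 1564)) (.leaf (.up 2 1857 1))) (.node (.leaf (.root 942)) (.leaf (.up 2 1875 1)))) (.node (.node (.leaf (.up 1 56 2)) (.leaf (.up 1 24 2))) (.node (.leaf (.up 1 568 2)) (.leaf (.up 1 177 0))))) (.node (.node (.node (.leaf (.root 853)) (.leaf (.up 2 1708 2))) (.node (.leaf (.root 715)) (.leaf (.up 2 1710 1)))) (.node (.node (.leaf (.up 2 1932 2)) (.leaf (.up 2 1964 2))) (.node (.leaf (.up 2 1420 2)) (.leaf (.up 1 49 0)))))) (.node (.node (.node (.node (.leaf (.root 1138)) (.leaf (.up 1 229 1))) (.node (.leaf (.root 1400)) (.leaf (.up 1 247 1)))) (.node (.node (.leaf (.root 1574)) (.leaf (.up 2 1916 1))) (.node (.leaf (.up 2 1329 1)) (.leaf (.up 2 1902 1))))) (.node (.node (.node (.leaf (.up 2 1889 2)) (.leaf (.up 2 1857 2))) (.node (.leaf (.up 2 1377 2)) (.leaf (.up 1 266 1)))) (.node (.node (.leaf (.up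 2 1633 2)) (.leaf (.up 2 1665 1))) (.node (.leaf (.up 2 1228 1)) (.leaf (.up 1 113 0))))))))

noncomputable def vt3_3_011 : Tr VStep := .node vt3_3_0110 vt3_3_0111

noncomputable def vt3_3_01 : Tr VStep := .node vt3_3_010 vt3_3_011

noncomputable def vt3_3_0 : Tr VStep := .node vt3_3_00 vt3_3_01

noncomputable def vt3_3_1000 : Tr VStep :=
  .node (.node (.node (.node (.node (.node (.node (.leaf (.root 827)) (.leaf (.up 3 1555 2))) (.node (.leaf (.up 3 1075 2)) (.leaf (.up 1 398 0)))) (.node (.node (.leaf (.up 2 1843 2)) (.leaf (.up 2 1811 2))) (.node (.leaf (.up 2 1331 2)) (.leaf (.up 1 142 0))))) (.node (.node (.node (.leaf (.up 2 1971 1)) (.leaf (.up 1 423 2))) (.node (.leaf (.up 2 1953 1)) (.leaf (.up 1 270 0)))) (.node (.node (.leaf (.up 1 42 1)) (.leaf (.up 1 167 2))) (.node (.leaf (.up 1 56 1)) (.leaf (.up 1 14 0)))))) (.node (.node (.node (.node (.leaf (.root 620)) (.leaf (.up 2 2046 2))) (.node (.leaf (.up 3 1502 2)) (.leaf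 (.up 3 1534 2)))) (.node (.node (.leaf (.root 1434)) (.leaf (.up 2 1790 2))) (.node (.leaf (.up 2 1633 1)) (.leaf (.up 1 206 0))))) (.node (.node (.node (.leaf (.up 1 23 1)) (.leaf (.up 1 74 2))) (.node (.leaf (.up 1 5 1)) (.leaf (.up 1 334 0)))) (.node (.node (.leaf (.up 2 1934 1)) (.leaf (.up 1 330 2))) (.node (.leaf (.up 2 1948 1)) (.leaf (.up 1 78 0))))))) (.node (.node (.node (.node (.node (.leaf (.root 5770)) (.leaf (.up 1 531 2))) (.node (.leaf (.up 1 51 2)) (.leaf (.up 1 19 2)))) (.node (.node (.leaf (.root 3580)) (.leaf (.up 1 686 0))) (.node (.leaf (.up 1 291 1)) (.leaf (.up 1 174 0))))) (.node (.node (.node (.leaf (.root 5624)) (.leaf (.up 2 1447 2))) (.node (.leaf (.up 2 1927 2)) (.leaf (.up 2 1959 2)))) (.node (.node (.leaf (.up 1 204 1)) (.leaf (.up 1 558 0))) (.node (.leaf (.up 1 222 1)) (.leaf (.up 1 46 0)))))) (.node (.node (.node (.node (.leaf (.root 4694)) (.leaf (.up 3 1022 2))) (.node (.leaf (.up 1 286 1))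 (.leaf (.up 1 494 0)))) (.node (.node (.leaf (.up 2 1685 1)) (.leaf (.up 1 750 0))) (.node (.leaf (.up 1 222 2)) (.leaf (.up 1 238 0))))) (.node (.node (.node (.leaf (.root 3646)) (.leaf (.up 1 686 1))) (.node (.leaf (.up 1 227 1)) (.leaf (.up 1 366 0)))) (.node (.node (.leaf (.up 2 1896 1)) (.leaf (.up 1 622 0))) (.node (.leaf (.up 2 1898 2)) (.leaf (.up 1 110 0)))))))) (.node (.node (.node (.node (.node (.node (.leaf (.root 1624)) (.leaf (.up 2 1539 2))) (.node (.leaf (.up 3 1059 2)) (.leaf (.up 3 1027 2)))) (.node (.node (.leaf (.up 2 1827 2)) (.leaf (.up 2 1795 2))) (.node (.leaf (.up 2 1315 2)) (.leaf (.up 1 158 0))))) (.node (.node (.node (.leaf (.up 2 1955 1)) (.leaf (.up 1 439 2))) (.node (.leaf (.up 2 1969 1)) (.leaf (.up 1 286 0)))) (.node (.node (.leaf (.up 1 58 1)) (.leaf (.up 1 183 2))) (.node (.leaf (.up 1 40 1)) (.leaf (.up 1 30 0)))))) (.node (.node (.node (.node (.leaf (.up 2 1998 2)) (.leaf (.up 2 2030 2))) (.node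 (.leaf (.up 1 488 1)) (.leaf (.up 3 1518 2)))) (.node (.node (.leaf (.up 2 1742 2)) (.leaf (.up 2 1774 2))) (.node (.leaf (.up 2 1230 2)) (.leaf (.up 1 222 0))))) (.node (.node (.node (.leaf (.up 1 7 1)) (.leaf (.up 1 90 2))) (.node (.leaf (.up 1 21 1)) (.leaf (.up 3 602 2)))) (.node (.node (.leaf (.up 2 1950 1)) (.leaf (.up 2 346 2))) (.node (.leaf (.up 2 1932 1)) (.leaf (.up 1 94 0))))))) (.node (.node (.node (.node (.node (.leaf (.root 3424)) (.leaf (.up 1 515 2))) (.node (.leaf (.up 1 35 2)) (.leaf (.up 1 3 2)))) (.node (.node (.leaf (.up 1 289 1)) (.leaf (.up 1 702 0))) (.node (.leaf (.up 1 291 2)) (.leaf (.up 1 190 0))))) (.node (.node (.node (.leaf (.root 5974)) (.leaf (.up 2 1463 2))) (.node (.leaf (.up 2 1943 2)) (.leaf (.up 2 1975 2)))) (.node (.node (.leaf (.up 1 220 1)) (.leaf (.up 1 574 0))) (.node (.leaf (.up 1 206 1)) (.leaf (.up 1 62 0)))))) (.node (.node (.node (.node (.leaf (.root 3636)) (.leaf (.up 1 835 1)))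 (.node (.leaf (.up 1 270 1)) (.leaf (.up 1 494 2)))) (.node (.node (.leaf (.up 2 1669 1)) (.leaf (.up 1 750 2))) (.node (.leaf (.up 1 206 2)) (.leaf (.up 1 238 2))))) (.node (.node (.node (.leaf (.up 1 225 1)) (.leaf (.up 1 702 1))) (.node (.leaf (.up 1 243 1)) (.leaf (.up 1 382 0)))) (.node (.node (.leaf (.up 2 1912 1)) (.leaf (.up 1 638 0))) (.node (.leaf (.up 2 1898 1)) (.leaf (.up 1 126 0))))))))

noncomputable def vt3_3_1001 : Tr VStep :=
  .node (.node (.node (.node (.node (.node (.node (.leaf (.root 2280)) (.leaf (.up 1 41 2))) (.node (.leaf (.root 1098)) (.leaf (.up 2 1993 1)))) (.node (.node (.leaf (.root 1990)) (.leaf (.up 1 66 1))) (.node (.leaf (.up 1 527 1)) (.leaf (.up 1 80 1))))) (.node (.node (.node (.leaf (.up 2 1981 2)) (.leaf (.up 2 1949 2))) (.node (.leaf (.up 2 1469 2)) (.leaf (.up 1 262 0)))) (.node (.node (.leaf (.up 2 1725 2)) (.leaf (.up 2 1693 2))) (.node (.leaf (.up 2 1213 2)) (.leaf (.up 1 6 0))))))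 (.node (.node (.node (.node (.leaf (.root 1894)) (.leaf (.up 1 127 1))) (.node (.leaf (.up 1 562 1)) (.leaf (.up 1 109 1)))) (.node (.node (.leaf (.up 1 228 2)) (.leaf (.up 2 2022 1))) (.node (.leaf (.up 2 1451 1)) (.leaf (.up 2 2036 1))))) (.node (.node (.node (.leaf (.root 2068)) (.leaf (.up 1 386 1))) (.node (.leaf (.root 2090)) (.leaf (.up 1 326 0)))) (.node (.node (.leaf (.up 2 1872 2)) (.leaf (.up 2 1904 2))) (.node (.leaf (.up 2 1360 2)) (.leaf (.up 1 70 0))))))) (.node (.node (.node (.node (.node (.leaf (.root 5134)) (.leaf (.up 2 1853 1))) (.node (.leaf (.up 3 1545 2)) (.leaf (.up 2 1839 1)))) (.node (.node (.leaf (.up 2 1289 2)) (.leaf (.up 1 164 1))) (.node (.leaf (.up 2 1801 2)) (.leaf (.up 1 166 0))))) (.node (.node (.node (.leaf (.up 3 957 2)) (.leaf (.up 3 925 2))) (.node (.leaf (.up 3 445 2)) (.leaf (.up 3 413 2)))) (.node (.node (.leaf (.up 2 701 2)) (.leaf (.up 2 669 2))) (.node (.leaf (.up 2 189 2)) (.leaf (.up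 1 38 0)))))) (.node (.node (.node (.node (.leaf (.root 3566)) (.leaf (.up 3 1476 2))) (.node (.leaf (.up 2 2020 2)) (.leaf (.up 3 1988 2)))) (.node (.node (.leaf (.up 2 1252 2)) (.leaf (.up 2 1220 2))) (.node (.leaf (.up 2 1764 2)) (.leaf (.up 2 1732 2))))) (.node (.node (.node (.leaf (.up 3 592 2)) (.leaf (.up 3 624 2))) (.node (.leaf (.up 1 80 2)) (.leaf (.up 3 112 2)))) (.node (.node (.leaf (.up 2 848 2)) (.leaf (.up 2 880 2))) (.node (.leaf (.up 2 336 2)) (.leaf (.up 1 102 0)))))))) (.node (.node (.node (.node (.node (.node (.leaf (.root 2424)) (.leaf (.up 1 57 2))) (.node (.leaf (.up 2 1414 1)) (.leaf (.up 2 2009 1)))) (.node (.node (.leaf (.root 1134)) (.leaf (.up 1 82 1))) (.node (.leaf (.up 1 543 1)) (.leaf (.up 1 64 1))))) (.node (.node (.node (.leaf (.up 2 1965 2)) (.leaf (.up 2 1933 2))) (.node (.leaf (.up 2 1453 2)) (.leaf (.up 1 278 0)))) (.node (.node (.leaf (.up 2 1709 2)) (.leaf (.up 2 1677 2))) (.node (.leaf (.up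 2 1197 2)) (.leaf (.up 1 22 0)))))) (.node (.node (.node (.node (.leaf (.root 1414)) (.leaf (.up 1 111 1))) (.node (.leaf (.up 1 546 1)) (.leaf (.up 1 125 1)))) (.node (.node (.leaf (.up 1 244 2)) (.leaf (.up 2 2038 1))) (.node (.leaf (.up 2 1467 1)) (.leaf (.up 2 2020 1))))) (.node (.node (.node (.leaf (.root 1612)) (.leaf (.up 1 402 1))) (.node (.leaf (.up 3 1088 2)) (.leaf (.up 1 342 0)))) (.node (.node (.leaf (.up 2 1856 2)) (.leaf (.up 2 1888 2))) (.node (.leaf (.up 2 1344 2)) (.leaf (.up 1 86 0))))))) (.node (.node (.node (.node (.node (.leaf (.root 4346)) (.leaf (.up 2 1837 1))) (.node (.leaf (.up 3 1561 2)) (.leaf (.up 2 1855 1)))) (.node (.node (.leaf (.up 2 1305 2)) (.leaf (.up 1 180 1))) (.node (.leaf (.up 2 1817 2)) (.leaf (.up 1 166 1))))) (.node (.node (.node (.leaf (.up 3 941 2)) (.leaf (.up 3 909 2))) (.node (.leaf (.up 3 429 2)) (.leaf (.up 3 397 2)))) (.node (.node (.leaf (.up 2 685 2)) (.leaf (.up 2 653 2)))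 (.node (.leaf (.up 2 173 2)) (.leaf (.up 1 54 0)))))) (.node (.node (.node (.node (.leaf (.root 5732)) (.leaf (.up 3 1492 2))) (.node (.leaf (.up 2 2036 2)) (.leaf (.up 3 2004 2)))) (.node (.node (.leaf (.up 2 1268 2)) (.leaf (.up 2 1236 2))) (.node (.leaf (.up 2 1780 2)) (.leaf (.up 2 1748 2))))) (.node (.node (.node (.leaf (.up 3 576 2)) (.leaf (.up 3 608 2))) (.node (.leaf (.up 1 64 2)) (.leaf (.up 1 96 2)))) (.node (.node (.leaf (.up 2 832 2)) (.leaf (.up 2 864 2))) (.node (.leaf (.up 2 320 2)) (.leaf (.up 2 352 2))))))))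

noncomputable def vt3_3_100 : Tr VStep := .node vt3_3_1000 vt3_3_1001

noncomputable def vt3_3_1010 : Tr VStep :=
  .node (.node (.node (.node (.node (.node (.node (.leaf (.root 1362)) (.leaf (.up 1 158 1))) (.node (.leaf (.root 1560)) (.leaf (.up 1 140 1)))) (.node (.node (.leaf (.up 2 1847 2)) (.leaf (.up 2 1799 1))) (.node (.leaf (.up 3 1335 2)) (.leaf (.up 1 138 0))))) (.node (.node (.node (.leaf (.root 743)) (.leaf (.up 1 355 1))) (.node (.leaf (.up 2 899 2)) (.leaf (.up 1 266 0)))) (.node (.node (.leaf (.up 1 131 2)) (.leaf (.up 1 163 2))) (.node (.leaf (.up 3 643 2)) (.leaf (.up 1 10 0)))))) (.node (.node (.node (.node (.leaf (.root 1428)) (.leaf (.up 2 2042 2))) (.node (.leaf (.root 2028)) (.leaf (.up 2 1832 1)))) (.node (.node (.leaf (.root 2074)) (.leaf (.up 1 163 1))) (.node (.leaf (.up 1 750 1)) (.leaf (.up 1 177 1))))) (.node (.node (.node (.leaf (.up 1 110 2)) (.leaf (.up 1 78 2))) (.node (.leaf (.up 1 622 2)) (.leaf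 (.up 1 330 0)))) (.node (.node (.leaf (.up 1 366 2)) (.leaf (.up 1 334 2))) (.node (.leaf (.up 3 878 2)) (.leaf (.up 1 74 0))))))) (.node (.node (.node (.node (.node (.leaf (.root 5386)) (.leaf (.up 1 120 1))) (.node (.leaf (.up 2 55 2)) (.leaf (.up 1 23 2)))) (.node (.node (.leaf (.up 3 823 2)) (.leaf (.up 2 2017 1))) (.node (.leaf (.up 3 311 2)) (.leaf (.up 2 2035 1))))) (.node (.node (.node (.leaf (.up 2 1411 2)) (.leaf (.up 2 1443 2))) (.node (.leaf (.up 2 1923 2)) (.leaf (.up 2 1955 2)))) (.node (.node (.leaf (.up 3 1155 2)) (.leaf (.up 3 1187 2))) (.node (.leaf (.up 3 1667 2)) (.leaf (.up 1 42 0)))))) (.node (.node (.node (.node (.leaf (.root 4184)) (.leaf (.up 2 1018 2))) (.node (.leaf (.up 2 474 2)) (.leaf (.up 2 1998 1)))) (.node (.node (.leaf (.up 3 730 2)) (.leaf (.up 1 69 1))) (.node (.leaf (.up 3 218 2)) (.leaf (.up 3 250 2))))) (.node (.node (.node (.leaf (.root 4028)) (.leaf (.up 2 1102 2))) (.node (.leaf (.up 2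 1646 2)) (.leaf (.up 2 1614 2)))) (.node (.node (.leaf (.up 3 1390 2)) (.leaf (.up 3 1358 2))) (.node (.leaf (.up 2 1902 2)) (.leaf (.up 3 1870 2)))))))) (.node (.node (.node (.node (.node (.node (.leaf (.root 1324)) (.leaf (.up 1 142 1))) (.node (.leaf (.root 2132)) (.leaf (.up 1 156 1)))) (.node (.node (.leaf (.up 2 1831 2)) (.leaf (.up 2 1799 2))) (.node (.leaf (.up 3 1319 2)) (.leaf (.up 2 1797 1))))) (.node (.node (.node (.leaf (.root 2022)) (.leaf (.up 1 371 1))) (.node (.leaf (.up 2 915 2)) (.leaf (.up 1 282 0)))) (.node (.node (.leaf (.up 1 147 2)) (.leaf (.up 1 179 2))) (.node (.leaf (.up 3 659 2)) (.leaf (.up 1 26 0)))))) (.node (.node (.node (.node (.leaf (.up 2 1994 2)) (.leaf (.up 2 2026 2))) (.node (.leaf (.up 2 1482 2)) (.leaf (.up 2 1848 1)))) (.node (.node (.leaf (.up 2 1738 2)) (.leaf (.up 1 179 1))) (.node (.leaf (.up 3 1226 2)) (.leaf (.up 1 161 1))))) (.node (.node (.node (.leaf (.up 1 126 2)) (.leaf (.up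 1 94 2))) (.node (.leaf (.up 1 638 2)) (.leaf (.up 2 1733 1)))) (.node (.node (.leaf (.up 1 382 2)) (.leaf (.up 1 334 1))) (.node (.leaf (.up 3 894 2)) (.leaf (.up 1 90 0))))))) (.node (.node (.node (.node (.node (.leaf (.up 2 551 2)) (.leaf (.up 1 104 1))) (.node (.leaf (.up 1 39 2)) (.leaf (.up 1 7 2)))) (.node (.node (.leaf (.up 3 807 2)) (.leaf (.up 2 2033 1))) (.node (.leaf (.up 3 295 2)) (.leaf (.up 2 2019 1))))) (.node (.node (.node (.leaf (.up 2 1427 2)) (.leaf (.up 2 1459 2))) (.node (.leaf (.up 2 1939 2)) (.leaf (.up 2 1971 2)))) (.node (.node (.leaf (.up 3 1171 2)) (.leaf (.up 3 1203 2))) (.node (.leaf (.up 3 1683 2)) (.leaf (.up 1 58 0)))))) (.node (.node (.node (.node (.leaf (.root 3072)) (.leaf (.up 2 1996 1))) (.node (.leaf (.up 2 458 2)) (.leaf (.up 2 490 2)))) (.node (.node (.leaf (.up 3 714 2)) (.leaf (.up 3 746 2))) (.node (.leaf (.up 3 202 2)) (.leaf (.up 1 71 1))))) (.node (.node (.node (.leaf (.up 2 1150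 2)) (.leaf (.up 2 1118 2))) (.node (.leaf (.up 2 1662 2)) (.leaf (.up 2 1630 2)))) (.node (.node (.leaf (.up 3 1406 2)) (.leaf (.up 3 1374 2))) (.node (.leaf (.up 3 1918 2)) (.leaf (.up 3 1886 2))))))))

noncomputable def vt3_3_1011 : Tr VStep :=
  .node (.node (.node (.node (.node (.node (.node (.leaf (.root 1976)) (.leaf (.up 1 45 2))) (.node (.leaf (.up 1 281 1)) (.leaf (.up 1 386 0)))) (.node (.node (.leaf (.root 1462)) (.leaf (.up 1 301 2))) (.node (.leaf (.up 2 1664 1)) (.leaf (.up 1 130 0))))) (.node (.node (.node (.leaf (.up 2 1977 2)) (.leaf (.up 2 1945 2))) (.node (.leaf (.up 1 228 1)) (.leaf (.up 1 258 0)))) (.node (.node (.leaf (.up 2 1903 1)) (.leaf (.up 2 1689 2))) (.node (.leaf (.up 2 1917 1)) (.leaf (.up 1 2 0)))))) (.node (.node (.node (.node (.leaf (.root 1950)) (.leaf (.up 2 448 2))) (.node (.leaf (.up 2 1725 1)) (.leaf (.up 2 960 2)))) (.node (.node (.leaf (.up 1 224 2)) (.leaf (.up 1 192 2))) (.node (.leaf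 (.up 1 292 1)) (.leaf (.up 1 194 0))))) (.node (.node (.node (.leaf (.root 2254)) (.leaf (.up 2 1652 2))) (.node (.leaf (.up 2 1856 1)) (.leaf (.up 2 1140 2)))) (.node (.node (.leaf (.up 1 203 1)) (.leaf (.up 2 1908 2))) (.node (.leaf (.up 1 217 1)) (.leaf (.up 1 66 0))))))) (.node (.node (.node (.node (.node (.leaf (.root 2998)) (.leaf (.up 1 930 0))) (.node (.leaf (.up 2 1549 2)) (.leaf (.up 1 418 0)))) (.node (.node (.leaf (.root 5408)) (.leaf (.up 1 674 0))) (.node (.leaf (.up 2 1805 2)) (.leaf (.up 1 162 0))))) (.node (.node (.node (.leaf (.up 1 16 1)) (.leaf (.up 1 591 1))) (.node (.leaf (.up 1 2 1)) (.leaf (.up 1 290 0)))) (.node (.node (.leaf (.up 2 1929 1)) (.leaf (.up 1 546 0))) (.node (.leaf (.up 2 1947 1)) (.leaf (.up 1 34 0)))))) (.node (.node (.node (.node (.leaf (.root 5552)) (.leaf (.up 2 1472 2))) (.node (.leaf (.up 2 2016 2)) (.leaf (.up 2 1984 2)))) (.node (.node (.leaf (.root 3368)) (.leaf (.up 1 738 0))) (.node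 (.leaf (.up 2 1760 2)) (.leaf (.up 1 226 0))))) (.node (.node (.node (.leaf (.up 2 1972 1)) (.leaf (.up 2 1515 1))) (.node (.leaf (.up 2 1958 1)) (.leaf (.up 1 116 2)))) (.node (.node (.leaf (.up 1 45 1)) (.leaf (.up 1 610 0))) (.node (.leaf (.up 1 63 1)) (.leaf (.up 1 98 0)))))))) (.node (.node (.node (.node (.node (.node (.leaf (.root 1994)) (.leaf (.up 1 61 2))) (.node (.leaf (.up 1 265 1)) (.leaf (.up 1 402 0)))) (.node (.node (.leaf (.up 2 1666 1)) (.leaf (.up 1 317 2))) (.node (.leaf (.up 2 1680 1)) (.leaf (.up 1 146 0))))) (.node (.node (.node (.leaf (.up 2 1961 2)) (.leaf (.up 2 1929 2))) (.node (.leaf (.up 1 244 1)) (.leaf (.up 1 274 0)))) (.node (.node (.leaf (.up 2 1919 1)) (.leaf (.up 2 1673 2))) (.node (.leaf (.up 2 1901 1)) (.leaf (.up 1 18 0)))))) (.node (.node (.node (.node (.leaf (.root 1108)) (.leaf (.up 2 464 2))) (.node (.leaf (.up 2 1709 1)) (.leaf (.up 2 976 2)))) (.node (.node (.leaf (.up 1 240 2)) (.leaf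 (.up 1 208 2))) (.node (.leaf (.up 1 308 1)) (.leaf (.up 1 210 0))))) (.node (.node (.node (.leaf (.up 2 1858 1)) (.leaf (.up 2 1636 2))) (.node (.leaf (.up 2 1872 1)) (.leaf (.up 2 1124 2)))) (.node (.node (.leaf (.up 2 1860 2)) (.leaf (.up 2 1892 2))) (.node (.leaf (.up 1 201 1)) (.leaf (.up 1 82 0))))))) (.node (.node (.node (.node (.node (.leaf (.root 3314)) (.leaf (.up 1 930 1))) (.node (.leaf (.up 2 1565 2)) (.leaf (.up 1 434 0)))) (.node (.node (.leaf (.root 3800)) (.leaf (.up 1 690 0))) (.node (.leaf (.up 2 1821 2)) (.leaf (.up 1 178 0))))) (.node (.node (.node (.leaf (.up 1 0 1)) (.leaf (.up 1 607 1))) (.node (.leaf (.up 1 18 1)) (.leaf (.up 1 306 0)))) (.node (.node (.leaf (.up 2 1945 1)) (.leaf (.up 1 562 0))) (.node (.leaf (.up 2 1931 1)) (.leaf (.up 1 50 0)))))) (.node (.node (.node (.node (.leaf (.root 2688)) (.leaf (.up 2 1488 2))) (.node (.leaf (.up 2 2032 2)) (.leaf (.up 2 2000 2)))) (.node (.node (.leaf (.root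 6044)) (.leaf (.up 1 754 0))) (.node (.leaf (.up 2 1776 2)) (.leaf (.up 1 242 0))))) (.node (.node (.node (.leaf (.up 2 1956 1)) (.leaf (.up 1 612 2))) (.node (.leaf (.up 2 1974 1)) (.leaf (.up 1 100 2)))) (.node (.node (.leaf (.up 1 61 1)) (.leaf (.up 1 610 1))) (.node (.leaf (.up 1 47 1)) (.leaf (.up 1 114 0))))))))

noncomputable def vt3_3_101 : Tr VStep := .node vt3_3_1010 vt3_3_1011

noncomputable def vt3_3_10 : Tr VStep := .node vt3_3_100 vt3_3_101

noncomputable def vt3_3_1100 : Tr VStep :=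
  .node (.node (.node (.node (.node (.node (.node (.leaf (.root 831)) (.leaf (.up 2 1537 1))) (.node (.leaf (.root 1290)) (.leaf (.up 1 396 0)))) (.node (.node (.leaf (.up 2 1841 2)) (.leaf (.up 2 1809 2))) (.node (.leaf (.up 2 1329 2)) (.leaf (.up 1 140 0))))) (.node (.node (.node (.leaf (.root 607)) (.leaf (.up 2 2044 1))) (.node (.leaf (.up 2 1457 1)) (.leaf (.up 2 2030 1)))) (.node (.node (.leaf (.up 1 133 2)) (.leaf (.up 1 101 1))) (.node (.leaf (.up 1 552 1)) (.leaf (.up 1 12 0)))))) (.node (.node (.node (.node (.leaf (.root 861)) (.leaf (.up 2 2044 2))) (.node (.leaf (.root 1066)) (.leaf (.up 1 439 1)))) (.node (.node (.leaf (.root 984)) (.leaf (.up 2 1788 2))) (.node (.leaf (.root 1154)) (.leaf (.up 1 204 0))))) (.node (.node (.node (.leaf (.up 1 104 2)) (.leaf (.up 1 72 2))) (.node (.leaf (.up 1 533 1)) (.leaf (.up 1 74 1)))) (.node (.node (.leaf (.up 1 360 2)) (.leaf (.up 2 1985 1))) (.node (.leaf (.up 2 1420 1)) (.leaf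 (.up 1 76 0))))))) (.node (.node (.node (.node (.node (.leaf (.root 3770)) (.leaf (.up 2 1767 1))) (.node (.leaf (.up 1 49 2)) (.leaf (.up 1 17 2)))) (.node (.node (.leaf (.root 5304)) (.leaf (.up 1 382 1))) (.node (.leaf (.up 2 305 2)) (.leaf (.up 1 172 0))))) (.node (.node (.node (.leaf (.root 5352)) (.leaf (.up 2 1818 1))) (.node (.leaf (.up 2 1925 2)) (.leaf (.up 2 1957 2)))) (.node (.node (.leaf (.up 2 1157 2)) (.leaf (.up 1 131 1))) (.node (.leaf (.up 2 1669 2)) (.leaf (.up 1 44 0)))))) (.node (.node (.node (.node (.leaf (.root 3498)) (.leaf (.up 1 323 1))) (.node (.leaf (.up 3 476 2)) (.leaf (.up 3 508 2)))) (.node (.node (.leaf (.root 3658)) (.leaf (.up 2 764 2))) (.node (.leaf (.up 1 220 2)) (.leaf (.up 1 236 0))))) (.node (.node (.node (.leaf (.root 4436)) (.leaf (.up 1 190 1))) (.node (.leaf (.up 2 1640 2)) (.leaf (.up 1 172 1)))) (.node (.node (.leaf (.root 2760)) (.leaf (.up 2 1831 1))) (.node (.leaf (.up 2 1896 2))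 (.leaf (.up 1 108 0)))))))) (.node (.node (.node (.node (.node (.node (.leaf (.root 1524)) (.leaf (.up 2 1537 2))) (.node (.leaf (.root 1418)) (.leaf (.up 2 1539 1)))) (.node (.node (.leaf (.up 2 1825 2)) (.leaf (.up 2 1793 2))) (.node (.leaf (.up 2 1313 2)) (.leaf (.up 1 156 0))))) (.node (.node (.node (.leaf (.root 659)) (.leaf (.up 2 2028 1))) (.node (.leaf (.up 2 1441 1)) (.leaf (.up 2 2046 1)))) (.node (.node (.leaf (.up 1 149 2)) (.leaf (.up 1 117 1))) (.node (.leaf (.up 1 568 1)) (.leaf (.up 1 28 0)))))) (.node (.node (.node (.node (.leaf (.up 2 1996 2)) (.leaf (.up 2 2028 2))) (.node (.leaf (.up 2 1484 2)) (.leaf (.up 1 423 1)))) (.node (.node (.leaf (.up 2 1740 2)) (.leaf (.up 2 1772 2))) (.node (.leaf (.up 2 1228 2)) (.leaf (.up 1 220 0))))) (.node (.node (.node (.leaf (.up 1 120 2)) (.leaf (.up 1 72 1))) (.node (.leaf (.up 1 517 1)) (.leaf (.up 1 90 1)))) (.node (.node (.leaf (.up 1 376 2)) (.leaf (.up 2 2001 1))) (.node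 (.leaf (.up 2 1436 1)) (.leaf (.up 2 1987 1))))))) (.node (.node (.node (.node (.node (.leaf (.root 5258)) (.leaf (.up 2 1783 1))) (.node (.leaf (.up 1 33 2)) (.leaf (.up 1 1 2)))) (.node (.node (.leaf (.up 2 801 2)) (.leaf (.up 1 366 1))) (.node (.leaf (.up 1 289 2)) (.leaf (.up 1 188 0))))) (.node (.node (.node (.leaf (.root 2984)) (.leaf (.up 2 1802 1))) (.node (.leaf (.up 2 1941 2)) (.leaf (.up 2 1973 2)))) (.node (.node (.leaf (.up 2 1173 2)) (.leaf (.up 1 147 1))) (.node (.leaf (.up 2 1685 2)) (.leaf (.up 1 60 0)))))) (.node (.node (.node (.node (.leaf (.root 4602)) (.leaf (.up 3 1004 2))) (.node (.leaf (.up 3 460 2)) (.leaf (.up 1 321 1)))) (.node (.node (.leaf (.root 2503)) (.leaf (.up 2 1738 1))) (.node (.leaf (.up 1 204 2)) (.leaf (.up 1 236 2))))) (.node (.node (.node (.leaf (.root 4014)) (.leaf (.up 1 174 1))) (.node (.leaf (.up 3 1656 2)) (.leaf (.up 1 188 1)))) (.node (.node (.leaf (.up 2 1400 2)) (.leaf (.up 2 1847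 1))) (.node (.leaf (.up 2 1912 2)) (.leaf (.up 1 124 0))))))))

noncomputable def vt3_3_1101 : Tr VStep :=
  .node (.node (.node (.node (.node (.node (.node (.leaf (.root 1650)) (.leaf (.up 1 43 2))) (.node (.leaf (.up 2 1926 1)) (.leaf (.up 3 555 2)))) (.node (.node (.leaf (.up 1 13 1)) (.leaf (.up 2 299 2))) (.node (.leaf (.up 1 31 1)) (.leaf (.up 1 132 0))))) (.node (.node (.node (.leaf (.up 2 1983 2)) (.leaf (.up 2 1951 2))) (.node (.leaf (.up 3 1471 2)) (.leaf (.up 3 1439 2)))) (.node (.node (.leaf (.up 2 1727 2)) (.leaf (.up 2 1695 2))) (.node (.leaf (.up 2 1215 2)) (.leaf (.up 1 4 0)))))) (.node (.node (.node (.node (.leaf (.up 1 48 1)) (.leaf (.up 3 454 2))) (.node (.leaf (.up 1 34 1)) (.leaf (.up 3 966 2)))) (.node (.node (.leaf (.up 2 1961 1)) (.leaf (.up 2 198 2))) (.node (.leaf (.up 2 1979 1)) (.leaf (.up 2 710 2))))) (.node (.node (.node (.leaf (.root 1744)) (.leaf (.up 3 1650 2))) (.node (.leaf (.up 3 1106 2)) (.leaf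 (.up 3 1138 2)))) (.node (.node (.leaf (.up 2 1874 2)) (.leaf (.up 2 1906 2))) (.node (.leaf (.up 2 1362 2)) (.leaf (.up 2 1394 2))))))) (.node (.node (.node (.node (.node (.leaf (.root 5442)) (.leaf (.up 2 1325 1))) (.node (.leaf (.up 2 1888 1)) (.leaf (.up 1 420 0)))) (.node (.node (.leaf (.up 1 235 1)) (.leaf (.up 1 676 0))) (.node (.leaf (.up 2 1803 2)) (.leaf (.up 1 164 0))))) (.node (.node (.node (.leaf (.root 3570)) (.leaf (.up 3 927 2))) (.node (.leaf (.up 2 1693 1)) (.leaf (.up 1 292 0)))) (.node (.node (.leaf (.up 1 278 1)) (.leaf (.up 1 548 0))) (.node (.leaf (.up 1 191 2)) (.leaf (.up 1 36 0)))))) (.node (.node (.node (.node (.leaf (.root 4872)) (.leaf (.up 3 1478 2))) (.node (.leaf (.up 2 2022 2)) (.leaf (.up 2 1990 2)))) (.node (.node (.leaf (.up 2 1871 1)) (.leaf (.up 2 1222 2))) (.node (.leaf (.up 2 1885 1)) (.leaf (.up 1 228 0))))) (.node (.node (.node (.leaf (.root 5650)) (.leaf (.up 3 626 2))) (.node (.leaf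 (.up 1 82 2)) (.leaf (.up 1 114 2)))) (.node (.node (.leaf (.up 2 1714 1)) (.leaf (.up 1 612 0))) (.node (.leaf (.up 2 1696 1)) (.leaf (.up 1 100 0)))))))) (.node (.node (.node (.node (.node (.node (.leaf (.up 2 1924 1)) (.leaf (.up 1 59 2))) (.node (.leaf (.up 2 1942 1)) (.leaf (.up 3 571 2)))) (.node (.node (.leaf (.up 1 29 1)) (.leaf (.up 2 315 2))) (.node (.leaf (.up 1 15 1)) (.leaf (.up 1 148 0))))) (.node (.node (.node (.leaf (.up 2 1967 2)) (.leaf (.up 2 1935 2))) (.node (.leaf (.up 3 1455 2)) (.leaf (.up 3 1423 2)))) (.node (.node (.leaf (.up 2 1711 2)) (.leaf (.up 2 1679 2))) (.node (.leaf (.up 2 1199 2)) (.leaf (.up 1 20 0)))))) (.node (.node (.node (.node (.leaf (.up 1 32 1)) (.leaf (.up 3 470 2))) (.node (.leaf (.up 1 50 1)) (.leaf (.up 3 982 2)))) (.node (.node (.leaf (.up 2 1977 1)) (.leaf (.up 2 214 2))) (.node (.leaf (.up 2 1963 1)) (.leaf (.up 2 726 2))))) (.node (.node (.node (.leaf (.up 3 1602 2)) (.leaf (.up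 3 1634 2))) (.node (.leaf (.up 3 1090 2)) (.leaf (.up 3 1122 2)))) (.node (.node (.leaf (.up 2 1858 2)) (.leaf (.up 2 1890 2))) (.node (.leaf (.up 2 1346 2)) (.leaf (.up 2 1378 2))))))) (.node (.node (.node (.node (.node (.leaf (.root 4558)) (.leaf (.up 2 1341 1))) (.node (.leaf (.up 2 1904 1)) (.leaf (.up 1 436 0)))) (.node (.node (.leaf (.up 1 251 1)) (.leaf (.up 1 676 1))) (.node (.leaf (.up 2 1819 2)) (.leaf (.up 1 180 0))))) (.node (.node (.node (.leaf (.root 3078)) (.leaf (.up 3 911 2))) (.node (.leaf (.up 2 1677 1)) (.leaf (.up 1 308 0)))) (.node (.node (.leaf (.up 1 262 1)) (.leaf (.up 1 564 0))) (.node (.leaf (.up 1 175 2)) (.leaf (.up 1 52 0)))))) (.node (.node (.node (.node (.leaf (.root 3554)) (.leaf (.up 3 1494 2))) (.node (.leaf (.up 2 2038 2)) (.leaf (.up 2 2006 2)))) (.node (.node (.leaf (.up 2 1887 1)) (.leaf (.up 2 1238 2))) (.node (.leaf (.up 2 1869 1)) (.leaf (.up 1 244 0))))) (.node (.node (.node (.leaf (.root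 5760)) (.leaf (.up 1 610 2))) (.node (.leaf (.up 1 66 2)) (.leaf (.up 1 98 2)))) (.node (.node (.leaf (.up 2 1698 1)) (.leaf (.up 2 866 2))) (.node (.leaf (.up 2 1712 1)) (.leaf (.up 1 116 0))))))))

noncomputable def vt3_3_110 : Tr VStep := .node vt3_3_1100 vt3_3_1101

noncomputable def vt3_3_1110 : Tr VStep :=
  .node (.node (.node (.node (.node (.node (.node (.leaf (.root 614)) (.leaf (.up 2 1557 2))) (.node (.leaf (.up 2 1077 2)) (.leaf (.up 2 1045 2)))) (.node (.node (.leaf (.up 3 1845 2)) (.leaf (.up 3 1813 2))) (.node (.leaf (.up 3 1333 2)) (.leaf (.up 1 136 0))))) (.node (.node (.node (.leaf (.up 2 385 2)) (.leaf (.up 2 417 2))) (.node (.leaf (.up 2 897 2)) (.leaf (.up 2 929 2)))) (.node (.node (.leaf (.up 3 129 2)) (.leaf (.up 1 161 2))) (.node (.leaf (.up 3 641 2)) (.leaf (.up 1 8 0)))))) (.node (.node (.node (.node (.leaf (.root 1816)) (.leaf (.up 2 2040 2))) (.node (.leaf (.up 2 1895 1)) (.leaf (.up 2 1528 2)))) (.node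 (.node (.leaf (.up 1 236 1)) (.leaf (.up 3 1784 2))) (.node (.leaf (.up 3 1240 2)) (.leaf (.up 3 1272 2))))) (.node (.node (.node (.leaf (.up 1 108 2)) (.leaf (.up 1 76 2))) (.node (.leaf (.up 2 620 2)) (.leaf (.up 2 588 2)))) (.node (.node (.leaf (.up 3 364 2)) (.leaf (.up 3 332 2))) (.node (.leaf (.up 3 876 2)) (.leaf (.up 1 72 0))))))) (.node (.node (.node (.node (.node (.leaf (.root 3672)) (.leaf (.up 1 533 2))) (.node (.leaf (.up 1 37 1)) (.leaf (.up 1 21 2)))) (.node (.node (.leaf (.up 2 1966 1)) (.leaf (.up 2 1521 1))) (.node (.leaf (.up 2 1980 1)) (.leaf (.up 1 168 0))))) (.node (.node (.node (.leaf (.root 4396)) (.leaf (.up 2 1441 2))) (.node (.leaf (.up 2 1921 2)) (.leaf (.up 2 1953 2)))) (.node (.node (.leaf (.root 4150)) (.leaf (.up 1 552 0))) (.node (.leaf (.up 2 1665 2)) (.leaf (.up 1 40 0)))))) (.node (.node (.node (.node (.leaf (.up 2 1939 1)) (.leaf (.up 2 1484 1))) (.node (.leaf (.up 2 1921 1)) (.leaf (.up 1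 488 0)))) (.node (.node (.leaf (.up 1 10 1)) (.leaf (.up 3 760 2))) (.node (.leaf (.up 1 24 1)) (.leaf (.up 1 232 0))))) (.node (.node (.node (.leaf (.root 2926)) (.leaf (.up 2 1100 2))) (.node (.leaf (.up 2 1644 2)) (.leaf (.up 1 360 0)))) (.node (.node (.leaf (.root 5324)) (.leaf (.up 3 1356 2))) (.node (.leaf (.up 2 1900 2)) (.leaf (.up 1 104 0)))))))) (.node (.node (.node (.node (.node (.node (.leaf (.root 1812)) (.leaf (.up 2 1541 2))) (.node (.leaf (.up 2 1061 2)) (.leaf (.up 2 1029 2)))) (.node (.node (.leaf (.up 3 1829 2)) (.leaf (.up 2 1797 2))) (.node (.leaf (.up 3 1317 2)) (.leaf (.up 3 1285 2))))) (.node (.node (.node (.leaf (.up 2 401 2)) (.leaf (.up 2 433 2))) (.node (.leaf (.up 2 913 2)) (.leaf (.up 2 945 2)))) (.node (.node (.leaf (.up 3 145 2)) (.leaf (.up 1 177 2))) (.node (.leaf (.up 3 657 2)) (.leaf (.up 1 24 0)))))) (.node (.node (.node (.node (.leaf (.up 2 1992 2)) (.leaf (.up 2 2024 2))) (.node (.leaf (.up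 2 1480 2)) (.leaf (.up 2 1512 2)))) (.node (.node (.leaf (.up 3 1736 2)) (.leaf (.up 3 1768 2))) (.node (.leaf (.up 1 238 1)) (.leaf (.up 3 1256 2))))) (.node (.node (.node (.leaf (.up 1 124 2)) (.leaf (.up 2 92 2))) (.node (.leaf (.up 2 636 2)) (.leaf (.up 2 604 2)))) (.node (.node (.leaf (.up 3 380 2)) (.leaf (.up 3 348 2))) (.node (.leaf (.up 3 892 2)) (.leaf (.up 3 860 2))))))) (.node (.node (.node (.node (.node (.leaf (.up 1 39 1)) (.leaf (.up 1 517 2))) (.node (.leaf (.up 1 37 2)) (.leaf (.up 1 5 2)))) (.node (.node (.leaf (.up 2 1982 1)) (.leaf (.up 2 1505 1))) (.node (.leaf (.up 2 1964 1)) (.leaf (.up 1 184 0))))) (.node (.node (.node (.leaf (.root 4570)) (.leaf (.up 2 1457 2))) (.node (.leaf (.up 2 1937 2)) (.leaf (.up 2 1969 2)))) (.node (.node (.leaf (.root 3084)) (.leaf (.up 1 568 0))) (.node (.leaf (.up 2 1681 2)) (.leaf (.up 1 56 0)))))) (.node (.node (.node (.node (.leaf (.up 2 1923 1)) (.leaf (.up 2 1000 2))) (.node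 (.leaf (.up 2 1937 1)) (.leaf (.up 1 488 2)))) (.node (.node (.leaf (.up 1 26 1)) (.leaf (.up 1 581 1))) (.node (.leaf (.up 1 8 1)) (.leaf (.up 1 232 2))))) (.node (.node (.node (.leaf (.root 6224)) (.leaf (.up 2 1116 2))) (.node (.leaf (.up 2 1644 1)) (.leaf (.up 1 376 0)))) (.node (.node (.leaf (.up 1 487 1)) (.leaf (.up 3 1372 2))) (.node (.leaf (.up 2 1916 2)) (.leaf (.up 1 120 0))))))))

noncomputable def vt3_3_1111 : Tr VStep :=
  .node (.node (.node (.node (.node (.node (.node (.leaf (.root 2126)) (.leaf (.up 1 47 2))) (.node (.leaf (.root 1452)) (.leaf (.up 1 342 1)))) (.node (.node (.leaf (.root 2168)) (.leaf (.up 1 303 2))) (.node (.leaf (.root 2270)) (.leaf (.up 1 128 0))))) (.node (.node (.node (.leaf (.up 2 1979 2)) (.leaf (.up 2 1947 2))) (.node (.leaf (.up 2 1467 2)) (.leaf (.up 1 171 1)))) (.node (.node (.leaf (.up 2 1723 2)) (.leaf (.up 2 1824 1))) (.node (.leaf (.up 2 1389 1)) (.leaf (.up 1 0 0)))))) (.node (.node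 (.node (.node (.leaf (.root 1334)) (.leaf (.up 2 1760 1))) (.node (.leaf (.root 1598)) (.leaf (.up 2 1778 1)))) (.node (.node (.leaf (.up 1 226 2)) (.leaf (.up 1 194 2))) (.node (.leaf (.up 1 738 2)) (.leaf (.up 1 192 0))))) (.node (.node (.node (.leaf (.root 2098)) (.leaf (.up 2 1821 1))) (.node (.leaf (.root 1270)) (.leaf (.up 2 1807 1)))) (.node (.node (.leaf (.up 2 1878 2)) (.leaf (.up 1 132 1))) (.node (.leaf (.up 1 713 1)) (.leaf (.up 1 64 0))))))) (.node (.node (.node (.node (.node (.leaf (.root 2519)) (.leaf (.up 1 418 1))) (.node (.leaf (.up 2 1551 2)) (.leaf (.up 1 416 0)))) (.node (.node (.leaf (.root 2906)) (.leaf (.up 2 1595 1))) (.node (.leaf (.up 2 1807 2)) (.leaf (.up 1 160 0))))) (.node (.node (.node (.leaf (.root 2822)) (.leaf (.up 1 95 1))) (.node (.leaf (.up 2 443 2)) (.leaf (.up 1 77 1)))) (.node (.node (.leaf (.up 3 699 2)) (.leaf (.up 2 1990 1))) (.node (.leaf (.up 1 187 2)) (.leaf (.up 1 32 0)))))) (.node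 (.node (.node (.node (.leaf (.root 3520)) (.leaf (.up 2 1474 2))) (.node (.leaf (.up 2 2018 2)) (.leaf (.up 2 1986 2)))) (.node (.node (.leaf (.root 5050)) (.leaf (.up 3 1218 2))) (.node (.leaf (.up 2 1762 2)) (.leaf (.up 1 224 0))))) (.node (.node (.node (.leaf (.root 3094)) (.leaf (.up 2 2043 1))) (.node (.leaf (.up 1 86 2)) (.leaf (.up 2 2025 1)))) (.node (.node (.leaf (.up 3 854 2)) (.leaf (.up 1 98 1))) (.node (.leaf (.up 1 342 2)) (.leaf (.up 1 96 0)))))))) (.node (.node (.node (.node (.node (.node (.leaf (.root 1926)) (.leaf (.up 1 63 2))) (.node (.leaf (.root 2310)) (.leaf (.up 1 326 1)))) (.node (.node (.leaf (.root 1394)) (.leaf (.up 1 319 2))) (.node (.leaf (.up 2 1152 1)) (.leaf (.up 1 144 0))))) (.node (.node (.node (.leaf (.up 2 1963 2)) (.leaf (.up 2 1931 2))) (.node (.leaf (.up 2 1451 2)) (.leaf (.up 1 187 1)))) (.node (.node (.leaf (.up 2 1707 2)) (.leaf (.up 2 1840 1))) (.node (.leaf (.up 2 1405 1)) (.leaf (.up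 1 16 0)))))) (.node (.node (.node (.node (.leaf (.root 1778)) (.leaf (.up 2 1776 1))) (.node (.leaf (.root 1516)) (.leaf (.up 2 1762 1)))) (.node (.node (.leaf (.up 1 242 2)) (.leaf (.up 1 210 2))) (.node (.leaf (.up 1 754 2)) (.leaf (.up 1 208 0))))) (.node (.node (.node (.leaf (.root 1782)) (.leaf (.up 2 1805 1))) (.node (.leaf (.up 2 1344 1)) (.leaf (.up 2 1823 1)))) (.node (.node (.leaf (.up 2 1862 2)) (.leaf (.up 1 148 1))) (.node (.leaf (.up 2 1350 2)) (.leaf (.up 1 80 0))))))) (.node (.node (.node (.node (.node (.leaf (.root 4334)) (.leaf (.up 1 434 1))) (.node (.leaf (.up 2 1567 2)) (.leaf (.up 1 416 1)))) (.node (.node (.leaf (.root 2575)) (.leaf (.up 2 1579 1))) (.node (.leaf (.up 2 1823 2)) (.leaf (.up 1 176 0))))) (.node (.node (.node (.leaf (.root 4856)) (.leaf (.up 1 79 1))) (.node (.leaf (.up 2 427 2)) (.leaf (.up 1 93 1)))) (.node (.node (.leaf (.up 3 683 2)) (.leaf (.up 2 2006 1))) (.node (.leaf (.up 1 171 2))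 (.leaf (.up 1 48 0)))))) (.node (.node (.node (.node (.leaf (.root 5740)) (.leaf (.up 2 1490 2))) (.node (.leaf (.up 2 2034 2)) (.leaf (.up 2 2002 2)))) (.node (.node (.leaf (.root 5902)) (.leaf (.up 3 1234 2))) (.node (.leaf (.up 2 1778 2)) (.leaf (.up 1 240 0))))) (.node (.node (.node (.leaf (.root 2782)) (.leaf (.up 2 2027 1))) (.node (.leaf (.up 1 70 2)) (.leaf (.up 1 102 2)))) (.node (.node (.leaf (.up 3 838 2)) (.leaf (.up 1 114 1))) (.node (.leaf (.up 1 326 2)) (.leaf (.up 1 96 1))))))))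

noncomputable def vt3_3_111 : Tr VStep := .node vt3_3_1110 vt3_3_1111

noncomputable def vt3_3_11 : Tr VStep := .node vt3_3_110 vt3_3_111

noncomputable def vt3_3_1 : Tr VStep := .node vt3_3_10 vt3_3_11

noncomputable def vt3_3_ : Tr VStep := .node vt3_3_0 vt3_3_1

noncomputable def vt3_4_0000 : Tr VStep :=
  .node (.node (.node (.node (.node (.node (.node (.leaf (.root 131)) (.leaf (.up 3 738 3))) (.node (.leaf (.up 2 1584 2)) (.leaf (.up 3 1043 4)))) (.node (.node (.leaf (.up 4 445 4)) (.leaf (.up 3 1403 3))) (.node (.leaf (.up 3 1308 0)) (.leaf (.up 4 409 2))))) (.node (.node (.node (.leaf (.up 1 5 1)) (.leaf (.up 2 1175 4))) (.node (.leaf (.up 2 1049 3)) (.leaf (.up 3 1936 3)))) (.node (.node (.leaf (.up 2 684 0)) (.leaf (.up 2 1175 0))) (.node (.leaf (.up 2 662 1)) (.leaf (.up 1 9 3)))))) (.node (.node (.node (.node (.leaf (.up 4 1315 4)) (.leaf (.up 1 12 4))) (.node (.leaf (.up 1 132 4)) (.leaf (.up 3 457 3)))) (.node (.node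 (.leaf (.up 1 5 4)) (.leaf (.up 1 12 0))) (.node (.leaf (.up 3 386 0)) (.leaf (.up 1 54 1))))) (.node (.node (.node (.leaf (.up 1 0 4)) (.leaf (.up 3 1211 3))) (.node (.leaf (.up 3 814 1)) (.leaf (.up 3 1965 3)))) (.node (.node (.leaf (.up 2 1586 0)) (.leaf (.up 1 9 0))) (.node (.leaf (.up 4 957 3)) (.leaf (.up 2 51 1))))))) (.node (.node (.node (.node (.node (.leaf (.root 1162)) (.leaf (.up 2 1865 4))) (.node (.leaf (.up 2 1985 4)) (.leaf (.up 3 1393 0)))) (.node (.node (.leaf (.up 2 1856 4)) (.leaf (.up 2 722 3))) (.node (.leaf (.up 3 1465 2)) (.leaf (.up 4 2008 1))))) (.node (.node (.node (.leaf (.up 3 166 3)) (.leaf (.up 3 1358 1))) (.node (.leaf (.up 3 688 2)) (.leaf (.up 1 57 3)))) (.node (.node (.leaf (.up 2 611 4)) (.leaf (.up 3 1291 2))) (.node (.leaf (.up 3 1321 2)) (.leaf (.up 2 2013 1)))))) (.node (.node (.node (.node (.leaf (.up 2 1791 3)) (.leaf (.up 2 594 2))) (.node (.leaf (.up 4 91 1)) (.leaf (.up 2 576 2))))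 (.node (.node (.leaf (.up 3 1531 2)) (.leaf (.up 3 892 0))) (.node (.leaf (.up 4 1405 1)) (.leaf (.up 2 1648 4))))) (.node (.node (.node (.leaf (.up 3 2027 1)) (.leaf (.up 3 786 3))) (.node (.leaf (.up 3 858 4)) (.leaf (.up 3 720 2)))) (.node (.node (.leaf (.up 3 1346 0)) (.leaf (.up 3 1270 1))) (.node (.leaf (.up 3 759 0)) (.leaf (.up 3 1949 3)))))))) (.node (.node (.node (.node (.node (.node (.leaf (.root 332)) (.leaf (.up 4 1131 3))) (.node (.leaf (.up 3 760 4)) (.leaf (.up 4 2007 4)))) (.node (.node (.leaf (.up 1 123 1)) (.leaf (.up 3 1878 4))) (.node (.leaf (.up 3 65 0)) (.leaf (.up 2 1658 0))))) (.node (.node (.node (.leaf (.up 3 1368 1)) (.leaf (.up 3 527 3))) (.node (.leaf (.up 2 1712 2)) (.leaf (.up 3 756 4)))) (.node (.node (.leaf (.up 1 126 1)) (.leaf (.up 3 267 2))) (.node (.leaf (.up 3 297 2)) (.leaf (.up 2 496 1)))))) (.node (.node (.node (.node (.leaf (.up 2 1634 2)) (.leaf (.up 4 2040 1))) (.node (.leaf (.up 2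 1648 2)) (.leaf (.up 2 1856 3)))) (.node (.node (.leaf (.up 3 507 2)) (.leaf (.up 4 1774 4))) (.node (.leaf (.up 2 1638 4)) (.leaf (.up 4 1387 1))))) (.node (.node (.node (.leaf (.up 3 454 1)) (.leaf (.up 2 562 3))) (.node (.leaf (.up 2 1635 4)) (.leaf (.up 1 72 1)))) (.node (.node (.leaf (.up 2 1570 3)) (.leaf (.up 3 731 1))) (.node (.leaf (.up 3 837 4)) (.leaf (.up 2 1725 3))))))) (.node (.node (.node (.node (.node (.leaf (.root 1216)) (.leaf (.up 4 530 2))) (.node (.leaf (.up 3 1029 4)) (.leaf (.up 1 44 0)))) (.node (.node (.leaf (.up 3 1467 2)) (.leaf (.up 3 427 4))) (.node (.leaf (.up 4 1214 1)) (.leaf (.up 2 645 1))))) (.node (.node (.node (.leaf (.up 2 690 2)) (.leaf (.up 1 19 1))) (.node (.leaf (.up 2 294 4)) (.leaf (.up 1 41 0)))) (.node (.node (.leaf (.up 3 438 3)) (.leaf (.up 3 1333 1))) (.node (.leaf (.up 3 820 0)) (.leaf (.up 3 297 3)))))) (.node (.node (.node (.node (.leaf (.up 1 26 4)) (.leaf (.up 3 1333 4))) (.node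 (.leaf (.up 4 1469 4)) (.leaf (.up 1 146 4)))) (.node (.node (.leaf (.up 1 26 0)) (.leaf (.up 1 19 4))) (.node (.leaf (.up 1 32 1)) (.leaf (.up 2 1563 1))))) (.node (.node (.node (.leaf (.up 3 738 2)) (.leaf (.up 2 722 2))) (.node (.leaf (.up 2 158 4)) (.leaf (.up 3 1457 4)))) (.node (.node (.leaf (.up 1 31 0)) (.leaf (.up 3 1572 0))) (.node (.leaf (.up 2 669 3)) (.leaf (.up 2 151 4))))))))

noncomputable def vt3_4_0001 : Tr VStep :=
  .node (.node (.node (.node (.node (.node (.node (.leaf (.root 474)) (.leaf (.up 4 1141 1))) (.node (.leaf (.up 1 26 2)) (.leaf (.up 3 1653 3)))) (.node (.node (.leaf (.up 3 1937 2)) (.leaf (.up 2 323 4))) (.node (.leaf (.up 3 1923 2)) (.leaf (.up 2 492 3))))) (.node (.node (.node (.leaf (.up 4 152 2)) (.leaf (.up 3 326 4))) (.node (.leaf (.up 1 138 2)) (.leaf (.up 1 17 3)))) (.node (.node (.leaf (.up 2 335 4)) (.leaf (.up 3 1120 4))) (.node (.leaf (.up 2 1811 2)) (.leaf (.up 2 1763 1)))))) (.node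 (.node (.node (.node (.leaf (.root 500)) (.leaf (.up 2 1501 4))) (.node (.leaf (.up 2 1473 3)) (.leaf (.up 3 209 0)))) (.node (.node (.leaf (.up 2 1985 2)) (.leaf (.up 2 711 3))) (.node (.leaf (.up 2 1091 1)) (.leaf (.up 2 1372 4))))) (.node (.node (.node (.leaf (.up 3 346 0)) (.leaf (.up 2 826 3))) (.node (.leaf (.up 3 118 4)) (.leaf (.up 1 44 3)))) (.node (.node (.leaf (.up 4 1873 2)) (.leaf (.up 2 1187 3))) (.node (.leaf (.up 4 1859 2)) (.leaf (.up 4 1973 3))))))) (.node (.node (.node (.node (.node (.leaf (.root 1114)) (.leaf (.up 1 138 0))) (.node (.leaf (.up 3 1034 2)) (.leaf (.up 3 1855 0)))) (.node (.node (.leaf (.up 2 1048 1)) (.leaf (.up 2 1452 0))) (.node (.leaf (.up 2 1058 0)) (.leaf (.up 2 931 2))))) (.node (.node (.node (.leaf (.up 3 1716 0)) (.leaf (.up 3 143 0))) (.node (.leaf (.up 2 1073 3)) (.leaf (.up 3 1976 3)))) (.node (.node (.leaf (.up 2 1053 1)) (.leaf (.up 2 669 4))) (.node (.leaf (.up 1 533 4)) (.leaf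 (.up 4 1427 1)))))) (.node (.node (.node (.node (.leaf (.up 3 1096 2)) (.leaf (.up 3 759 3))) (.node (.leaf (.up 1 533 1)) (.leaf (.up 2 1671 4)))) (.node (.node (.leaf (.up 3 977 2)) (.leaf (.up 2 1725 1))) (.node (.leaf (.up 2 188 0)) (.leaf (.up 2 1671 0))))) (.node (.node (.node (.leaf (.up 3 1240 2)) (.leaf (.up 3 1539 4))) (.node (.leaf (.up 4 528 1)) (.leaf (.up 3 1925 3)))) (.node (.node (.leaf (.up 1 131 1)) (.leaf (.up 3 805 4))) (.node (.leaf (.up 4 941 4)) (.leaf (.up 1 28 3)))))))) (.node (.node (.node (.node (.node (.node (.leaf (.root 388)) (.leaf (.up 1 40 2))) (.node (.leaf (.up 1 10 2)) (.leaf (.up 3 518 4)))) (.node (.node (.leaf (.up 3 1921 2)) (.leaf (.up 4 1969 2))) (.node (.leaf (.up 3 1939 2)) (.leaf (.up 3 1955 2))))) (.node (.node (.node (.leaf (.up 3 1965 4)) (.leaf (.up 3 642 4))) (.node (.leaf (.up 2 1836 0)) (.leaf (.up 2 1829 4)))) (.node (.node (.leaf (.up 4 1809 2)) (.leaf (.up 2 1956 4))) (.node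 (.leaf (.up 2 648 3)) (.leaf (.up 2 958 1)))))) (.node (.node (.node (.node (.leaf (.up 1 72 2)) (.leaf (.up 2 1561 4))) (.node (.leaf (.up 3 90 2)) (.leaf (.up 2 958 4)))) (.node (.node (.leaf (.up 3 1991 3)) (.leaf (.up 2 831 4))) (.node (.leaf (.up 3 1987 2)) (.leaf (.up 2 2035 2))))) (.node (.node (.node (.leaf (.up 3 1031 0)) (.leaf (.up 2 826 4))) (.node (.leaf (.up 3 946 0)) (.leaf (.up 3 518 1)))) (.node (.node (.leaf (.up 4 1857 2)) (.leaf (.up 2 1905 2))) (.node (.leaf (.up 3 283 1)) (.leaf (.up 3 1891 2))))))) (.node (.node (.node (.node (.node (.leaf (.up 3 1123 1)) (.leaf (.up 2 348 4))) (.node (.leaf (.up 3 1113 0)) (.leaf (.up 4 1877 3)))) (.node (.node (.leaf (.up 3 1738 0)) (.leaf (.up 2 241 0))) (.node (.leaf (.up 3 1266 4)) (.leaf (.up 3 477 4))))) (.node (.node (.node (.leaf (.up 3 1126 1)) (.leaf (.up 3 1151 4))) (.node (.leaf (.up 2 1162 2)) (.leaf (.up 4 1512 1)))) (.node (.node (.leaf (.up 2 320 1)) (.leaf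 (.up 3 1915 1))) (.node (.leaf (.up 3 787 2)) (.leaf (.up 2 803 2)))))) (.node (.node (.node (.node (.leaf (.up 3 253 1)) (.leaf (.up 2 1150 3))) (.node (.leaf (.up 3 1249 3)) (.leaf (.up 3 1896 3)))) (.node (.node (.leaf (.up 3 1499 1)) (.leaf (.up 2 1009 2))) (.node (.leaf (.up 3 979 2)) (.leaf (.up 2 101 4))))) (.node (.node (.node (.leaf (.up 3 403 3)) (.leaf (.up 3 1479 4))) (.node (.leaf (.up 2 645 3)) (.leaf (.up 3 96 4)))) (.node (.node (.leaf (.up 3 593 0)) (.leaf (.up 3 225 4))) (.node (.leaf (.up 3 1308 3)) (.leaf (.up 3 1350 4))))))))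

noncomputable def vt3_4_000 : Tr VStep := .node vt3_4_0000 vt3_4_0001

noncomputable def vt3_4_0010 : Tr VStep :=
  .node (.node (.node (.node (.node (.node (.node (.leaf (.up 3 1806 0)) (.leaf (.up 2 669 2))) (.node (.leaf (.up 3 1844 1)) (.leaf (.up 2 1663 3)))) (.node (.node (.leaf (.up 3 814 4)) (.leaf (.up 3 1043 0))) (.node (.leaf (.up 2 1437 0)) (.leaf (.up 2 934 0))))) (.node (.node (.node (.leaf (.root 526)) (.leaf (.up 3 1540 4))) (.node (.leaf (.up 4 1676 4)) (.leaf (.up 2 931 4)))) (.node (.node (.leaf (.up 3 1821 3)) (.leaf (.up 3 802 4))) (.node (.leaf (.up 2 535 1)) (.leaf (.up 2 1068 1)))))) (.node (.node (.node (.node (.leaf (.up 3 1055 1)) (.leaf (.up 4 548 1))) (.node (.leaf (.up 2 535 4)) (.leaf (.up 3 735 2)))) (.node (.node (.leaf (.up 2 662 4)) (.leaf (.up 3 1977 4))) (.node (.leaf (.up 2 594 3)) (.leaf (.up 3 475 3))))) (.node (.node (.node (.leaf (.up 3 659 4)) (.leaf (.up 4 1980 4))) (.node (.leaf (.up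 3 1844 4)) (.leaf (.up 2 591 2)))) (.node (.node (.leaf (.up 4 1524 2)) (.leaf (.up 3 666 4))) (.node (.leaf (.up 4 530 4)) (.leaf (.up 3 1983 3))))))) (.node (.node (.node (.node (.node (.leaf (.root 326)) (.leaf (.up 2 1482 1))) (.node (.leaf (.up 3 1711 2)) (.leaf (.up 2 1695 2)))) (.node (.node (.leaf (.up 2 1744 3)) (.leaf (.up 3 1891 0))) (.node (.leaf (.up 3 310 2)) (.leaf (.up 3 1615 3))))) (.node (.node (.node (.leaf (.up 2 1581 2)) (.leaf (.up 2 576 0))) (.node (.leaf (.up 1 113 4)) (.leaf (.up 3 1551 2)))) (.node (.node (.leaf (.up 1 180 3)) (.leaf (.up 3 233 1))) (.node (.leaf (.up 2 930 3)) (.leaf (.up 1 43 3)))))) (.node (.node (.node (.node (.leaf (.up 4 333 4)) (.leaf (.up 2 1122 4))) (.node (.leaf (.up 2 1791 2)) (.leaf (.up 3 1743 2)))) (.node (.node (.leaf (.up 4 372 2)) (.leaf (.up 3 1021 0))) (.node (.leaf (.up 3 1531 3)) (.leaf (.up 3 967 1))))) (.node (.node (.node (.leaf (.up 3 229 0)) (.leaf (.up 3 337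 1))) (.node (.leaf (.up 3 457 4)) (.leaf (.up 2 1935 3)))) (.node (.node (.leaf (.up 3 328 4)) (.leaf (.up 3 1127 4))) (.node (.leaf (.up 3 630 0)) (.leaf (.up 3 454 2)))))))) (.node (.node (.node (.node (.node (.node (.leaf (.up 3 595 0)) (.leaf (.up 3 227 4))) (.node (.leaf (.up 3 895 3)) (.leaf (.up 4 1348 4)))) (.node (.node (.leaf (.up 3 234 4)) (.leaf (.up 4 1477 4))) (.node (.leaf (.up 2 192 0)) (.leaf (.up 2 1787 0))))) (.node (.node (.node (.leaf (.up 3 1497 1)) (.leaf (.up 2 1472 4))) (.node (.leaf (.up 3 1352 4)) (.leaf (.up 3 527 2)))) (.node (.node (.leaf (.up 1 255 1)) (.leaf (.up 3 331 0))) (.node (.leaf (.up 3 642 3)) (.leaf (.up 3 1345 4)))))) (.node (.node (.node (.node (.leaf (.up 3 749 2)) (.leaf (.up 3 733 2))) (.node (.leaf (.up 4 767 2)) (.leaf (.up 2 719 2)))) (.node (.node (.leaf (.up 3 1997 3)) (.leaf (.up 4 1348 2))) (.node (.leaf (.up 3 977 1)) (.leaf (.up 3 1874 3))))) (.node (.node (.node (.leaf (.up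 2 1584 3)) (.leaf (.up 3 1144 4))) (.node (.leaf (.up 3 1264 4)) (.leaf (.up 3 479 4)))) (.node (.node (.leaf (.up 2 1137 4)) (.leaf (.up 3 350 4))) (.node (.leaf (.up 3 1115 0)) (.leaf (.up 3 1273 4))))))) (.node (.node (.node (.node (.node (.leaf (.up 3 1984 3)) (.leaf (.up 2 151 1))) (.node (.leaf (.up 2 1686 0)) (.leaf (.up 3 1679 2)))) (.node (.node (.leaf (.up 1 89 3)) (.leaf (.up 3 574 0))) (.node (.leaf (.up 2 294 2)) (.leaf (.up 2 1695 4))))) (.node (.node (.node (.leaf (.root 1150)) (.leaf (.up 1 146 1))) (.node (.leaf (.up 2 690 3)) (.leaf (.up 2 1567 2)))) (.node (.node (.leaf (.up 2 1597 3)) (.leaf (.up 2 1563 4))) (.node (.leaf (.up 3 438 2)) (.leaf (.up 4 956 4)))))) (.node (.node (.node (.node (.leaf (.up 2 562 1)) (.leaf (.up 2 1033 1))) (.node (.leaf (.up 2 520 0)) (.leaf (.up 2 1075 0)))) (.node (.node (.leaf (.up 3 1967 4)) (.leaf (.up 2 1005 3))) (.node (.leaf (.up 2 520 4)) (.leaf (.up 3 326 2))))) (.node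 (.node (.node (.leaf (.up 4 1962 4)) (.leaf (.up 2 645 4))) (.node (.leaf (.up 2 1663 2)) (.leaf (.up 3 1615 2)))) (.node (.node (.leaf (.up 2 158 0)) (.leaf (.up 3 1955 4))) (.node (.leaf (.up 3 1835 0)) (.leaf (.up 2 1695 1))))))))

noncomputable def vt3_4_0011 : Tr VStep :=
  .node (.node (.node (.node (.node (.node (.node (.leaf (.root 464)) (.leaf (.up 3 1268 1))) (.node (.leaf (.up 2 1662 4)) (.leaf (.up 3 1230 0)))) (.node (.node (.leaf (.up 2 1791 4)) (.leaf (.up 3 814 2))) (.node (.leaf (.up 4 856 4)) (.leaf (.up 2 1639 1))))) (.node (.node (.node (.leaf (.up 3 1797 3)) (.leaf (.up 3 981 4))) (.node (.leaf (.up 3 1043 3)) (.leaf (.up 3 1946 3)))) (.node (.node (.leaf (.up 2 156 3)) (.leaf (.up 2 958 2))) (.node (.leaf (.up 1 89 1)) (.leaf (.up 1 3 3)))))) (.node (.node (.node (.node (.leaf (.root 386)) (.leaf (.up 3 1255 2))) (.node (.leaf (.up 2 1990 4)) (.leaf (.up 3 80 0)))) (.node (.node (.leaf (.up 4 846 2)) (.leaf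 (.up 2 616 4))) (.node (.leaf (.up 2 1218 1)) (.leaf (.up 3 1999 4))))) (.node (.node (.node (.leaf (.up 3 475 0)) (.leaf (.up 2 1201 3))) (.node (.leaf (.up 3 741 4)) (.leaf (.up 3 1959 3)))) (.node (.node (.leaf (.up 3 612 4)) (.leaf (.up 3 808 3))) (.node (.leaf (.up 3 1987 4)) (.leaf (.up 3 748 4))))))) (.node (.node (.node (.node (.node (.leaf (.root 258)) (.leaf (.up 1 11 0))) (.node (.leaf (.up 1 131 4)) (.leaf (.up 2 1452 4)))) (.node (.node (.leaf (.up 1 2 4)) (.leaf (.up 2 1325 0))) (.node (.leaf (.up 2 1187 0)) (.leaf (.up 1 138 4))))) (.node (.node (.node (.leaf (.up 1 7 2)) (.leaf (.up 1 14 0))) (.node (.leaf (.up 1 21 2)) (.leaf (.up 2 51 3)))) (.node (.node (.leaf (.up 2 1180 1)) (.leaf (.up 1 14 4))) (.node (.leaf (.up 2 1059 3)) (.leaf (.up 2 1298 1)))))) (.node (.node (.node (.node (.leaf (.up 2 1180 4)) (.leaf (.up 4 794 1))) (.node (.leaf (.up 3 315 4)) (.leaf (.up 3 229 2)))) (.node (.node (.leaf (.up 1 7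 1)) (.leaf (.up 3 741 3))) (.node (.leaf (.up 2 1053 4)) (.leaf (.up 4 306 4))))) (.node (.node (.node (.leaf (.up 2 447 4)) (.leaf (.up 3 799 1))) (.node (.leaf (.up 2 1048 4)) (.leaf (.up 1 14 3)))) (.node (.node (.leaf (.up 1 2 1)) (.leaf (.up 3 2046 2))) (.node (.leaf (.up 2 318 4)) (.leaf (.up 3 1943 3)))))))) (.node (.node (.node (.node (.node (.node (.leaf (.root 452)) (.leaf (.up 3 1191 2))) (.node (.leaf (.up 3 1157 2)) (.leaf (.up 2 1205 2)))) (.node (.node (.leaf (.up 1 113 3)) (.leaf (.up 2 830 2))) (.node (.leaf (.up 2 156 4)) (.leaf (.up 2 826 1))))) (.node (.node (.node (.leaf (.up 1 24 0)) (.leaf (.up 1 17 4))) (.node (.leaf (.up 1 34 1)) (.leaf (.up 2 1561 1)))) (.node (.node (.leaf (.up 1 24 4)) (.leaf (.up 2 1162 1))) (.node (.leaf (.up 2 908 2)) (.leaf (.up 2 831 1)))))) (.node (.node (.node (.node (.leaf (.up 3 421 4)) (.leaf (.up 2 1162 4))) (.node (.leaf (.up 3 1237 2)) (.leaf (.up 3 1293 0)))) (.node (.node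 (.leaf (.up 1 76 3)) (.leaf (.up 1 17 1))) (.node (.leaf (.up 3 292 4)) (.leaf (.up 1 43 0))))) (.node (.node (.node (.leaf (.up 3 1158 0)) (.leaf (.up 3 1127 2))) (.node (.leaf (.up 3 1212 1)) (.leaf (.up 3 1288 0)))) (.node (.node (.leaf (.up 3 416 0)) (.leaf (.up 4 1022 2))) (.node (.leaf (.up 3 1031 4)) (.leaf (.up 3 1004 2))))))) (.node (.node (.node (.node (.node (.leaf (.up 3 65 3)) (.leaf (.up 4 975 4))) (.node (.leaf (.up 3 1240 0)) (.leaf (.up 3 1640 4)))) (.node (.node (.leaf (.up 3 1611 0)) (.leaf (.up 2 112 0))) (.node (.leaf (.up 3 1804 2)) (.leaf (.up 4 846 4))))) (.node (.node (.node (.leaf (.up 1 23 2)) (.leaf (.up 2 1772 4))) (.node (.leaf (.up 1 5 2)) (.leaf (.up 3 843 4)))) (.node (.node (.leaf (.up 2 1934 2)) (.leaf (.up 3 565 3))) (.node (.leaf (.up 3 1948 2)) (.leaf (.up 3 1964 2)))))) (.node (.node (.node (.node (.leaf (.root 404)) (.leaf (.up 3 231 2))) (.node (.leaf (.up 4 767 4)) (.leaf (.up 3 2000 4))))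 (.node (.node (.leaf (.up 3 1370 1)) (.leaf (.up 4 1918 2))) (.node (.leaf (.up 2 1884 2)) (.leaf (.up 4 1236 1))))) (.node (.node (.node (.leaf (.up 2 635 4)) (.leaf (.up 3 1602 1))) (.node (.leaf (.up 3 1294 3)) (.leaf (.up 2 1671 3)))) (.node (.node (.leaf (.up 3 720 0)) (.leaf (.up 2 520 3))) (.node (.leaf (.up 2 762 4)) (.leaf (.up 3 2005 4))))))))

noncomputable def vt3_4_001 : Tr VStep := .node vt3_4_0010 vt3_4_0011

noncomputable def vt3_4_00 : Tr VStep := .node vt3_4_000 vt3_4_001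

noncomputable def vt3_4_0100 : Tr VStep :=
  .node (.node (.node (.node (.node (.node (.node (.leaf (.root 232)) (.leaf (.up 2 88 0))) (.node (.leaf (.up 2 1625 1)) (.leaf (.up 4 372 4)))) (.node (.node (.leaf (.up 3 837 0)) (.leaf (.up 4 501 4))) (.node (.leaf (.up 3 1264 0)) (.leaf (.up 2 715 0))))) (.node (.node (.node (.leaf (.root 338)) (.leaf (.up 2 496 4))) (.node (.leaf (.up 2 1200 2)) (.leaf (.up 2 29 3)))) (.node (.node (.leaf (.up 2 827 2)) (.leaf (.up 3 1403 0))) (.node (.leaf (.up 3 1118 4)) (.leaf (.up 3 1924 3)))))) (.node (.node (.node (.node (.leaf (.up 2 1122 2)) (.leaf (.up 3 1362 3))) (.node (.leaf (.up 2 711 1)) (.leaf (.up 2 1088 2)))) (.node (.node (.leaf (.up 2 1019 2)) (.leaf (.up 2 77 4))) (.node (.leaf (.up 4 2017 1)) (.leaf (.up 3 1514 4))))) (.node (.node (.node (.leaf (.up 1 191 3)) (.leaf (.up 1 72 4))) (.node (.leaf (.up 2 192 4)) (.leaf (.up 1 32 3)))) (.node (.node (.leaf (.up 3 65 4)) (.leaf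 (.up 3 1642 1))) (.node (.leaf (.up 4 2020 1)) (.leaf (.up 3 1977 3))))))) (.node (.node (.node (.node (.node (.leaf (.root 390)) (.leaf (.up 1 18 2))) (.node (.leaf (.up 1 48 2)) (.leaf (.up 1 0 2)))) (.node (.node (.leaf (.up 3 551 4)) (.leaf (.up 3 1800 4))) (.node (.leaf (.up 2 1472 3)) (.leaf (.up 3 687 4))))) (.node (.node (.node (.leaf (.up 2 546 4)) (.leaf (.up 1 130 2))) (.node (.leaf (.up 3 1925 4)) (.leaf (.up 4 791 1)))) (.node (.node (.leaf (.up 1 48 0)) (.leaf (.up 2 827 3))) (.node (.leaf (.up 1 10 1)) (.leaf (.up 2 1932 4)))))) (.node (.node (.node (.node (.leaf (.up 3 1721 4)) (.leaf (.up 1 57 1))) (.node (.leaf (.up 3 612 3)) (.leaf (.up 1 3 0)))) (.node (.node (.leaf (.up 3 2027 2)) (.leaf (.up 2 1712 4))) (.node (.leaf (.up 4 1169 1)) (.leaf (.up 3 1652 3))))) (.node (.node (.node (.leaf (.up 3 922 4)) (.leaf (.up 4 1183 3))) (.node (.leaf (.up 2 1597 0)) (.leaf (.up 2 192 2)))) (.node (.node (.leaf (.up 3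 1915 2)) (.leaf (.up 3 661 0))) (.node (.leaf (.up 3 1172 1)) (.leaf (.up 1 16 3)))))))) (.node (.node (.node (.node (.node (.node (.leaf (.root 190)) (.leaf (.up 2 1815 4))) (.node (.leaf (.up 3 1951 4)) (.leaf (.up 3 688 0)))) (.node (.node (.leaf (.up 3 955 2)) (.leaf (.up 1 35 0))) (.node (.leaf (.up 2 1570 1)) (.leaf (.up 2 25 1))))) (.node (.node (.node (.leaf (.root 560)) (.leaf (.up 3 1154 2))) (.node (.leaf (.up 2 700 4)) (.leaf (.up 3 1939 4)))) (.node (.node (.leaf (.up 2 573 4)) (.leaf (.up 3 795 2))) (.node (.leaf (.up 3 1946 4)) (.leaf (.up 1 28 1)))))) (.node (.node (.node (.node (.leaf (.up 1 47 1)) (.leaf (.up 3 1711 4))) (.node (.leaf (.up 1 21 0)) (.leaf (.up 4 776 4)))) (.node (.node (.leaf (.up 2 1702 4)) (.leaf (.up 2 1213 0))) (.node (.leaf (.up 2 700 1)) (.leaf (.up 2 1159 1))))) (.node (.node (.node (.leaf (.up 4 1699 4)) (.leaf (.up 2 908 4))) (.node (.leaf (.up 1 16 0)) (.leaf (.up 2 1705 3)))) (.node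 (.node (.leaf (.up 3 891 2)) (.leaf (.up 3 843 2))) (.node (.leaf (.up 2 1570 4)) (.leaf (.up 3 1154 1))))))) (.node (.node (.node (.node (.node (.leaf (.root 382)) (.leaf (.up 1 2 2))) (.node (.leaf (.up 1 32 2)) (.leaf (.up 1 16 2)))) (.node (.node (.leaf (.up 3 1963 2)) (.leaf (.up 3 1228 4))) (.node (.leaf (.up 3 1977 2)) (.leaf (.up 2 363 4))))) (.node (.node (.node (.leaf (.up 2 418 3)) (.leaf (.up 1 146 2))) (.node (.leaf (.up 1 113 1)) (.leaf (.up 2 128 2)))) (.node (.node (.leaf (.up 3 1851 2)) (.leaf (.up 2 1803 2))) (.node (.leaf (.up 2 359 4)) (.leaf (.up 3 1096 4)))))) (.node (.node (.node (.node (.leaf (.up 3 2043 3)) (.leaf (.up 2 82 2))) (.node (.leaf (.up 2 112 2)) (.leaf (.up 4 721 1)))) (.node (.node (.leaf (.up 3 2043 2)) (.leaf (.up 3 1997 0))) (.node (.leaf (.up 3 1532 4)) (.leaf (.up 2 211 4))))) (.node (.node (.node (.leaf (.up 3 1237 0)) (.leaf (.up 2 534 3))) (.node (.leaf (.up 3 1529 4)) (.leaf (.up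 4 724 1)))) (.node (.node (.leaf (.up 3 1400 4)) (.leaf (.up 3 1423 3))) (.node (.leaf (.up 3 1606 0)) (.leaf (.up 2 1865 2))))))))

noncomputable def vt3_4_0101 : Tr VStep :=
  .node (.node (.node (.node (.node (.node (.node (.leaf (.root 450)) (.leaf (.up 2 534 0))) (.node (.leaf (.up 3 394 4)) (.leaf (.up 2 556 1)))) (.node (.node (.leaf (.up 3 267 0)) (.leaf (.up 1 191 1))) (.node (.leaf (.up 2 1196 4)) (.leaf (.up 3 133 0))))) (.node (.node (.node (.leaf (.root 472)) (.leaf (.up 1 531 0))) (.node (.leaf (.up 3 1045 3)) (.leaf (.up 3 1948 3)))) (.node (.node (.leaf (.up 2 1064 4)) (.leaf (.up 3 787 3))) (.node (.leaf (.up 2 908 3)) (.leaf (.up 1 5 3)))))) (.node (.node (.node (.node (.leaf (.up 3 346 3)) (.leaf (.up 2 723 3))) (.node (.leaf (.up 1 50 4)) (.leaf (.up 3 317 0)))) (.node (.node (.leaf (.up 3 1429 0)) (.leaf (.up 2 1057 1))) (.node (.leaf (.up 3 1455 1)) (.leaf (.up 3 59 4))))) (.node (.node (.node (.leaf (.up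 3 182 0)) (.leaf (.up 4 1433 4))) (.node (.leaf (.up 2 1064 3)) (.leaf (.up 2 762 2)))) (.node (.node (.leaf (.up 3 167 3)) (.leaf (.up 1 191 4))) (.node (.leaf (.up 3 55 4)) (.leaf (.up 4 913 1))))))) (.node (.node (.node (.node (.node (.leaf (.up 3 720 4)) (.leaf (.up 4 2047 4))) (.node (.leaf (.up 3 1895 1)) (.leaf (.up 2 1617 3)))) (.node (.node (.leaf (.up 2 635 0)) (.leaf (.up 2 1088 0))) (.node (.leaf (.up 3 593 4)) (.leaf (.up 4 1918 4))))) (.node (.node (.node (.leaf (.up 2 2035 4)) (.leaf (.up 2 803 3))) (.node (.leaf (.up 4 956 3)) (.leaf (.up 3 1915 4)))) (.node (.node (.leaf (.up 2 1521 1)) (.leaf (.up 4 970 1))) (.node (.leaf (.up 3 1906 4)) (.leaf (.up 3 1964 3)))))) (.node (.node (.node (.node (.leaf (.up 3 1624 2)) (.leaf (.up 3 1640 2))) (.node (.leaf (.up 3 1743 4)) (.leaf (.up 2 1658 2)))) (.node (.node (.leaf (.up 2 449 2)) (.leaf (.up 2 497 2))) (.node (.leaf (.up 4 467 2)) (.leaf (.up 4 1734 4))))) (.node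 (.node (.node (.leaf (.up 2 151 3)) (.leaf (.up 3 626 1))) (.node (.leaf (.up 3 1004 4)) (.leaf (.up 1 8 3)))) (.node (.node (.leaf (.up 3 337 2)) (.leaf (.up 2 1159 3))) (.node (.leaf (.up 2 1048 3)) (.leaf (.up 3 1937 3)))))))) (.node (.node (.node (.node (.node (.node (.leaf (.root 466)) (.leaf (.up 3 710 4))) (.node (.leaf (.up 2 590 4)) (.leaf (.up 2 1889 4)))) (.node (.node (.leaf (.up 2 719 4)) (.leaf (.up 4 2016 4))) (.node (.leaf (.up 3 1411 2)) (.leaf (.up 3 1496 0))))) (.node (.node (.node (.leaf (.up 3 714 4)) (.leaf (.up 3 515 3))) (.node (.leaf (.up 2 668 3)) (.leaf (.up 3 698 2)))) (.node (.node (.leaf (.up 4 2028 4)) (.leaf (.up 2 1511 1))) (.node (.leaf (.up 2 1299 2)) (.leaf (.up 2 594 1)))))) (.node (.node (.node (.node (.leaf (.up 2 1617 4)) (.leaf (.up 2 616 2))) (.node (.leaf (.up 2 586 2)) (.leaf (.up 3 1120 0)))) (.node (.node (.leaf (.up 2 1473 2)) (.leaf (.up 2 1521 2))) (.node (.leaf (.up 2 1744 4))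 (.leaf (.up 2 1737 1))))) (.node (.node (.node (.leaf (.up 3 1515 0)) (.leaf (.up 3 574 3))) (.node (.leaf (.up 3 1749 4)) (.leaf (.up 3 296 3)))) (.node (.node (.leaf (.up 3 1620 4)) (.leaf (.up 3 891 4))) (.node (.leaf (.up 3 1912 0)) (.leaf (.up 2 1713 3))))))) (.node (.node (.node (.node (.node (.leaf (.up 3 512 0)) (.leaf (.up 3 1083 0))) (.node (.leaf (.up 2 1203 4)) (.leaf (.up 2 412 4)))) (.node (.node (.leaf (.up 2 1074 4)) (.leaf (.up 2 285 0))) (.node (.leaf (.up 1 147 0)) (.leaf (.up 4 1857 3))))) (.node (.node (.node (.leaf (.up 2 1571 3)) (.leaf (.up 4 280 4))) (.node (.leaf (.up 2 400 4)) (.leaf (.up 3 907 0)))) (.node (.node (.leaf (.up 2 172 1)) (.leaf (.up 2 1687 1))) (.node (.leaf (.up 2 684 3)) (.leaf (.up 4 409 4)))))) (.node (.node (.node (.node (.leaf (.up 2 172 4)) (.leaf (.up 3 1411 4))) (.node (.leaf (.up 3 1291 4)) (.leaf (.up 1 36 4)))) (.node (.node (.leaf (.up 3 1079 1)) (.leaf (.up 3 1411 0))) (.node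 (.leaf (.up 2 45 4)) (.leaf (.up 3 1465 1))))) (.node (.node (.node (.leaf (.up 3 1423 4)) (.leaf (.up 3 1839 1))) (.node (.leaf (.up 1 40 4)) (.leaf (.up 4 1287 4)))) (.node (.node (.leaf (.up 2 1074 1)) (.leaf (.up 2 521 1))) (.node (.leaf (.up 3 1294 4)) (.leaf (.up 4 280 3))))))))

noncomputable def vt3_4_010 : Tr VStep := .node vt3_4_0100 vt3_4_0101

noncomputable def vt3_4_0110 : Tr VStep :=
  .node (.node (.node (.node (.node (.node (.node (.leaf (.up 3 1762 0)) (.leaf (.up 3 1878 1))) (.node (.leaf (.up 2 1736 4)) (.leaf (.up 3 227 1)))) (.node (.node (.leaf (.up 3 1609 4)) (.leaf (.up 3 1535 0))) (.node (.leaf (.up 2 1137 0)) (.leaf (.up 2 586 0))))) (.node (.node (.node (.leaf (.up 2 45 2)) (.leaf (.up 2 29 2))) (.node (.leaf (.up 3 1003 4)) (.leaf (.up 3 1732 4)))) (.node (.node (.leaf (.up 4 1102 1)) (.leaf (.up 3 1924 2))) (.node (.leaf (.up 2 1019 1)) (.leaf (.up 2 1472 1)))))) (.node (.node (.node (.node (.leaf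 (.up 3 727 4)) (.leaf (.up 3 221 2))) (.node (.leaf (.up 1 255 2)) (.leaf (.up 2 207 2)))) (.node (.node (.leaf (.up 2 2033 4)) (.leaf (.up 2 1344 3))) (.node (.leaf (.up 3 598 4)) (.leaf (.up 3 1878 2))))) (.node (.node (.node (.leaf (.up 3 2036 4)) (.leaf (.up 2 1213 3))) (.node (.leaf (.up 2 1058 3)) (.leaf (.up 3 1963 3)))) (.node (.node (.leaf (.up 2 722 4)) (.leaf (.up 3 1771 1))) (.node (.leaf (.up 3 955 3)) (.leaf (.up 1 50 3))))))) (.node (.node (.node (.node (.node (.leaf (.up 3 1732 3)) (.leaf (.up 3 1181 2))) (.node (.leaf (.up 3 551 0)) (.leaf (.up 4 1167 2)))) (.node (.node (.leaf (.up 1 180 0)) (.leaf (.up 3 1679 0))) (.node (.leaf (.up 2 1299 4)) (.leaf (.up 3 314 0))))) (.node (.node (.node (.leaf (.up 2 536 1)) (.leaf (.up 2 1059 1))) (.node (.leaf (.up 2 546 0)) (.leaf (.up 1 57 4)))) (.node (.node (.leaf (.up 3 1849 3)) (.leaf (.up 2 1200 3))) (.node (.leaf (.up 1 48 4)) (.leaf (.up 2 1712 1)))))) (.node (.node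 (.node (.node (.leaf (.up 3 1667 1)) (.leaf (.up 2 261 4))) (.node (.leaf (.up 3 1721 0)) (.leaf (.up 1 130 0)))) (.node (.node (.leaf (.up 3 268 4)) (.leaf (.up 2 1059 4))) (.node (.leaf (.up 3 630 3)) (.leaf (.up 3 511 3))))) (.node (.node (.node (.leaf (.up 3 157 3)) (.leaf (.up 3 1842 0))) (.node (.leaf (.up 3 907 3)) (.leaf (.up 1 2 3)))) (.node (.node (.leaf (.up 3 1071 0)) (.leaf (.up 4 1165 3))) (.node (.leaf (.up 3 922 0)) (.leaf (.up 3 982 2)))))))) (.node (.node (.node (.node (.node (.node (.leaf (.up 3 959 0)) (.leaf (.up 3 157 2))) (.node (.leaf (.up 1 191 2)) (.leaf (.up 1 35 4)))) (.node (.node (.leaf (.up 3 1844 2)) (.leaf (.up 3 162 0))) (.node (.leaf (.up 2 300 0)) (.leaf (.up 2 1815 0))))) (.node (.node (.node (.leaf (.up 3 384 3)) (.leaf (.up 2 521 3))) (.node (.leaf (.up 1 47 2)) (.leaf (.up 1 31 2)))) (.node (.node (.leaf (.up 2 1561 3)) (.leaf (.up 3 167 0))) (.node (.leaf (.up 2 1702 1)) (.leaf (.up 3 1926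 2)))))) (.node (.node (.node (.node (.leaf (.up 3 253 2)) (.leaf (.up 3 1685 1))) (.node (.leaf (.up 2 1204 4)) (.leaf (.up 3 1711 0)))) (.node (.node (.leaf (.up 4 1416 1)) (.leaf (.up 3 282 4))) (.node (.leaf (.up 2 573 1)) (.leaf (.up 2 1213 4))))) (.node (.node (.node (.leaf (.up 4 445 3)) (.leaf (.up 3 564 3))) (.node (.leaf (.up 4 1822 1)) (.leaf (.up 3 79 2)))) (.node (.node (.leaf (.up 3 2036 2)) (.leaf (.up 3 950 1))) (.node (.leaf (.up 2 1201 4)) (.leaf (.up 2 1027 1))))))) (.node (.node (.node (.node (.node (.leaf (.root 1158)) (.leaf (.up 4 1165 2))) (.node (.leaf (.up 2 1009 4)) (.leaf (.up 4 1183 2)))) (.node (.node (.leaf (.up 2 880 4)) (.leaf (.up 3 978 0))) (.node (.leaf (.up 2 1751 4)) (.leaf (.up 3 1127 0))))) (.node (.node (.node (.leaf (.up 2 1069 2)) (.leaf (.up 2 1053 2))) (.node (.leaf (.up 3 1746 4)) (.leaf (.up 3 1021 4)))) (.node (.node (.leaf (.up 2 611 1)) (.leaf (.up 3 892 4))) (.node (.leaf (.up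 2 934 2)) (.leaf (.up 2 1005 1)))))) (.node (.node (.node (.node (.leaf (.up 2 2030 4)) (.leaf (.up 3 705 4))) (.node (.leaf (.up 2 1279 2)) (.leaf (.up 3 592 1)))) (.node (.node (.leaf (.up 3 884 2)) (.leaf (.up 3 1120 3))) (.node (.leaf (.up 2 1279 3)) (.leaf (.up 2 576 4))))) (.node (.node (.node (.leaf (.up 4 1149 2)) (.leaf (.up 2 2018 4))) (.node (.leaf (.up 4 1135 2)) (.leaf (.up 4 581 4)))) (.node (.node (.leaf (.up 3 2027 4)) (.leaf (.up 2 1865 0))) (.node (.leaf (.up 3 1735 0)) (.leaf (.up 3 1891 4))))))))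

noncomputable def vt3_4_0111 : Tr VStep :=
  .node (.node (.node (.node (.node (.node (.node (.leaf (.root 492)) (.leaf (.up 3 1703 2))) (.node (.leaf (.up 3 1530 3)) (.leaf (.up 4 685 1)))) (.node (.node (.leaf (.up 3 394 0)) (.leaf (.up 2 318 2))) (.node (.leaf (.up 2 611 3)) (.leaf (.up 2 300 2))))) (.node (.node (.node (.leaf (.up 3 806 1)) (.leaf (.up 3 1714 4))) (.node (.leaf (.up 3 796 0)) (.leaf (.up 1 23 3)))) (.node (.node (.leaf (.up 4 1723 4)) (.leaf (.up 3 59 1))) (.node (.leaf (.up 3 1031 3)) (.leaf (.up 1 1 0)))))) (.node (.node (.node (.node (.leaf (.up 1 50 0)) (.leaf (.up 3 553 4))) (.node (.leaf (.up 1 8 1)) (.leaf (.up 2 1934 4)))) (.node (.node (.leaf (.up 3 328 3)) (.leaf (.up 2 1807 4))) (.node (.leaf (.up 3 1927 4)) (.leaf (.up 3 680 4))))) (.node (.node (.node (.leaf (.up 3 55 0)) (.leaf (.up 2 1639 2))) (.node (.leaf (.up 2 931 3)) (.leaf (.up 3 1653 2)))) (.node (.node (.leaf (.up 2 1795 4)) (.leaf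 (.up 2 556 4))) (.node (.leaf (.up 2 676 0)) (.leaf (.up 2 492 2))))))) (.node (.node (.node (.node (.node (.leaf (.up 4 83 1)) (.leaf (.up 3 1640 1))) (.node (.leaf (.up 3 661 2)) (.leaf (.up 3 477 1)))) (.node (.node (.leaf (.up 2 762 0)) (.leaf (.up 2 1217 0))) (.node (.leaf (.up 2 194 4)) (.leaf (.up 3 884 0))))) (.node (.node (.node (.leaf (.up 2 535 2)) (.leaf (.up 3 551 2))) (.node (.leaf (.up 3 199 4)) (.leaf (.up 3 565 2)))) (.node (.node (.leaf (.up 2 1392 1)) (.leaf (.up 3 843 1))) (.node (.leaf (.up 2 709 1)) (.leaf (.up 2 1452 2)))))) (.node (.node (.node (.node (.leaf (.up 3 727 2)) (.leaf (.up 3 743 2))) (.node (.leaf (.up 2 709 2)) (.leaf (.up 4 1347 1)))) (.node (.node (.leaf (.up 3 1358 2)) (.leaf (.up 3 1384 3))) (.node (.leaf (.up 2 1372 2)) (.leaf (.up 2 1662 3))))) (.node (.node (.node (.leaf (.up 3 1820 3)) (.leaf (.up 3 755 1))) (.node (.leaf (.up 3 1034 3)) (.leaf (.up 3 1923 3)))) (.node (.node (.leaf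 (.up 3 1502 2)) (.leaf (.up 3 2005 1))) (.node (.leaf (.up 3 1113 4)) (.leaf (.up 1 26 3)))))))) (.node (.node (.node (.node (.node (.node (.leaf (.root 268)) (.leaf (.up 3 85 4))) (.node (.leaf (.up 3 1685 2)) (.leaf (.up 3 2032 1)))) (.node (.node (.leaf (.up 2 1239 0)) (.leaf (.up 3 748 0))) (.node (.leaf (.up 3 268 2)) (.leaf (.up 3 212 4))))) (.node (.node (.node (.leaf (.up 1 89 4)) (.leaf (.up 3 1999 0))) (.node (.leaf (.up 3 1541 2)) (.leaf (.up 3 209 4)))) (.node (.node (.leaf (.up 3 861 1)) (.leaf (.up 3 80 4))) (.node (.leaf (.up 2 412 2)) (.leaf (.up 2 723 1)))))) (.node (.node (.node (.node (.leaf (.up 2 88 3)) (.leaf (.up 2 493 4))) (.node (.leaf (.up 4 357 4)) (.leaf (.up 3 1249 0)))) (.node (.node (.leaf (.up 2 1985 3)) (.leaf (.up 3 1227 4))) (.node (.leaf (.up 2 1239 3)) (.leaf (.up 2 364 2))))) (.node (.node (.node (.leaf (.up 3 1386 0)) (.leaf (.up 3 1230 4))) (.node (.leaf (.up 3 735 0)) (.leaf (.up 4 361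 4)))) (.node (.node (.leaf (.up 1 76 0)) (.leaf (.up 2 488 4))) (.node (.leaf (.up 3 118 1)) (.leaf (.up 3 1103 4))))))) (.node (.node (.node (.node (.node (.leaf (.up 3 641 0)) (.leaf (.up 3 821 1))) (.node (.leaf (.up 2 645 2)) (.leaf (.up 3 1152 1)))) (.node (.node (.leaf (.up 1 40 1)) (.leaf (.up 2 412 0))) (.node (.leaf (.up 1 18 0)) (.leaf (.up 3 1577 0))))) (.node (.node (.node (.leaf (.up 3 1291 1)) (.leaf (.up 3 907 4))) (.node (.leaf (.up 1 533 2)) (.leaf (.up 3 778 0)))) (.node (.node (.leaf (.up 2 45 1)) (.leaf (.up 2 1558 1))) (.node (.leaf (.up 1 23 0)) (.leaf (.up 3 778 4)))))) (.node (.node (.node (.node (.leaf (.root 392)) (.leaf (.up 1 36 0))) (.node (.leaf (.up 3 1944 4)) (.leaf (.up 1 30 1)))) (.node (.node (.leaf (.up 3 1206 1)) (.leaf (.up 3 566 4))) (.node (.leaf (.up 2 702 4)) (.leaf (.up 3 1937 4))))) (.node (.node (.node (.leaf (.up 3 1820 4)) (.leaf (.up 3 1966 1))) (.node (.leaf (.up 4 581 2)) (.leaf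 (.up 3 629 2)))) (.node (.node (.leaf (.up 2 1203 1)) (.leaf (.up 2 648 1))) (.node (.leaf (.up 3 1949 4)) (.leaf (.up 2 1341 1))))))))

noncomputable def vt3_4_011 : Tr VStep := .node vt3_4_0110 vt3_4_0111

noncomputable def vt3_4_01 : Tr VStep := .node vt3_4_010 vt3_4_011

noncomputable def vt3_4_0 : Tr VStep := .node vt3_4_00 vt3_4_01

noncomputable def vt3_4_1000 : Tr VStep :=
  .node (.node (.node (.node (.node (.node (.node (.leaf (.root 400)) (.leaf (.up 3 904 3))) (.node (.leaf (.up 3 59 0)) (.leaf (.up 2 308 4)))) (.node (.node (.leaf (.up 3 1944 3)) (.leaf (.up 3 796 1))) (.node (.leaf (.up 3 317 4)) (.leaf (.up 3 806 0))))) (.node (.node (.node (.leaf (.up 4 1699 2)) (.leaf (.up 3 1599 1))) (.node (.leaf (.up 2 1713 2)) (.leaf (.up 3 394 1)))) (.node (.node (.leaf (.up 3 314 2)) (.leaf (.up 3 629 3))) (.node (.leaf (.up 3 296 2)) (.leaf (.up 2 1196 1)))))) (.node (.node (.node (.node (.leaf (.up 2 1635 2)) (.leaf (.up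 2 676 1))) (.node (.leaf (.up 3 1649 2)) (.leaf (.up 4 140 4)))) (.node (.node (.leaf (.up 3 506 2)) (.leaf (.up 2 1068 3))) (.node (.leaf (.up 2 488 2)) (.leaf (.up 3 55 1))))) (.node (.node (.node (.leaf (.up 3 1319 4)) (.leaf (.up 1 8 4))) (.node (.leaf (.up 2 128 4)) (.leaf (.up 3 1735 3)))) (.node (.node (.leaf (.up 1 1 4)) (.leaf (.up 1 8 0))) (.node (.leaf (.up 3 1446 4)) (.leaf (.up 1 50 1))))))) (.node (.node (.node (.node (.node (.leaf (.up 4 547 2)) (.leaf (.up 1 531 2))) (.node (.leaf (.up 3 843 0)) (.leaf (.up 2 1392 0)))) (.node (.node (.leaf (.up 3 1466 2)) (.leaf (.up 3 1864 4))) (.node (.leaf (.up 3 1448 2)) (.leaf (.up 3 1432 2))))) (.node (.node (.node (.leaf (.up 3 884 1)) (.leaf (.up 4 1869 4))) (.node (.leaf (.up 2 1217 1)) (.leaf (.up 2 762 1)))) (.node (.node (.leaf (.up 3 477 0)) (.leaf (.up 4 105 1))) (.node (.leaf (.up 3 1640 0)) (.leaf (.up 3 1288 2)))))) (.node (.node (.node (.node (.leaf (.up 3 1941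 3)) (.leaf (.up 3 982 4))) (.node (.leaf (.up 3 2005 0)) (.leaf (.up 3 593 2)))) (.node (.node (.leaf (.up 1 12 3)) (.leaf (.up 3 901 3))) (.node (.leaf (.up 3 755 0)) (.leaf (.up 1 147 3))))) (.node (.node (.node (.leaf (.up 2 497 3)) (.leaf (.up 2 723 2))) (.node (.leaf (.up 3 743 3)) (.leaf (.up 3 705 2)))) (.node (.node (.leaf (.up 3 1788 4)) (.leaf (.up 3 979 4))) (.node (.leaf (.up 3 1384 2)) (.leaf (.up 3 1368 2)))))))) (.node (.node (.node (.node (.node (.node (.leaf (.root 1506)) (.leaf (.up 4 1555 2))) (.node (.leaf (.up 3 2015 4)) (.leaf (.up 3 861 0)))) (.node (.node (.leaf (.up 3 1886 4)) (.leaf (.up 3 394 2))) (.node (.leaf (.up 3 1999 1)) (.leaf (.up 3 2006 4))))) (.node (.node (.node (.leaf (.up 3 1883 4)) (.leaf (.up 3 1667 2))) (.node (.leaf (.up 3 748 1)) (.leaf (.up 2 1239 1)))) (.node (.node (.leaf (.up 3 2032 0)) (.leaf (.up 3 282 2))) (.node (.leaf (.up 3 2010 4)) (.leaf (.up 2 497 1)))))) (.node (.node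 (.node (.node (.leaf (.up 4 450 1)) (.leaf (.up 3 118 0))) (.node (.leaf (.up 2 1639 4)) (.leaf (.up 1 76 1)))) (.node (.node (.leaf (.up 2 1766 4)) (.leaf (.up 3 735 1))) (.node (.leaf (.up 3 833 4)) (.leaf (.up 3 1386 1))))) (.node (.node (.node (.leaf (.up 2 1763 2)) (.leaf (.up 4 856 3))) (.node (.leaf (.up 3 836 4)) (.leaf (.up 2 78 3)))) (.node (.node (.leaf (.up 3 1249 1)) (.leaf (.up 2 1770 4))) (.node (.leaf (.up 2 1634 4)) (.leaf (.up 4 2007 3))))))) (.node (.node (.node (.node (.node (.leaf (.up 3 1157 4)) (.leaf (.up 1 23 1))) (.node (.leaf (.up 2 1558 0)) (.leaf (.up 2 45 0)))) (.node (.node (.leaf (.up 3 778 1)) (.leaf (.up 2 702 0))) (.node (.leaf (.up 3 1028 4)) (.leaf (.up 3 1291 0))))) (.node (.node (.node (.leaf (.up 3 1577 1)) (.leaf (.up 1 18 1))) (.node (.leaf (.up 2 412 1)) (.leaf (.up 1 40 0)))) (.node (.node (.leaf (.up 3 1152 0)) (.leaf (.up 2 1290 2))) (.node (.leaf (.up 3 821 0)) (.leaf (.up 3 641 1))))))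 (.node (.node (.node (.node (.leaf (.root 530)) (.leaf (.up 1 18 4))) (.node (.leaf (.up 2 648 0)) (.leaf (.up 2 1203 0)))) (.node (.node (.leaf (.up 3 1530 2)) (.leaf (.up 2 1482 2))) (.node (.leaf (.up 3 1966 0)) (.leaf (.up 1 147 4))))) (.node (.node (.node (.leaf (.up 1 30 4)) (.leaf (.up 3 707 2))) (.node (.leaf (.up 3 1465 4)) (.leaf (.up 3 1206 0)))) (.node (.node (.leaf (.up 1 30 0)) (.leaf (.up 1 23 4))) (.node (.leaf (.up 1 36 1)) (.leaf (.up 1 126 3))))))))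

noncomputable def vt3_4_1001 : Tr VStep :=
  .node (.node (.node (.node (.node (.node (.node (.leaf (.root 1078)) (.leaf (.up 1 41 2))) (.node (.leaf (.up 1 11 2)) (.leaf (.up 3 59 2)))) (.node (.node (.leaf (.up 2 25 3)) (.leaf (.up 3 1124 4))) (.node (.leaf (.up 2 1938 2)) (.leaf (.up 3 1954 2))))) (.node (.node (.node (.leaf (.up 2 586 1)) (.leaf (.up 2 1137 1))) (.node (.leaf (.up 3 1535 1)) (.leaf (.up 3 454 4)))) (.node (.node (.leaf (.up 3 227 0)) (.leaf (.up 4 327 4))) (.node (.leaf (.up 3 1878 0)) (.leaf (.up 3 1842 2)))))) (.node (.node (.node (.node (.leaf (.up 3 1981 3)) (.leaf (.up 3 1076 3))) (.node (.leaf (.up 3 1771 0)) (.leaf (.up 2 1373 4)))) (.node (.node (.leaf (.up 1 36 3)) (.leaf (.up 4 941 3))) (.node (.leaf (.up 4 818 3)) (.leaf (.up 1 123 4))))) (.node (.node (.node (.leaf (.up 4 1748 1)) (.leaf (.up 3 1497 4))) (.node (.leaf (.up 2 719 3)) (.leaf (.up 1 126 4)))) (.node (.node (.leaf (.up 2 1856 2))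 (.leaf (.up 1 255 4))) (.node (.leaf (.up 3 1874 2)) (.leaf (.up 3 1368 4))))))) (.node (.node (.node (.node (.node (.leaf (.root 456)) (.leaf (.up 3 1983 4))) (.node (.leaf (.up 2 831 3)) (.leaf (.up 2 536 4)))) (.node (.node (.leaf (.up 2 1049 1)) (.leaf (.up 2 546 1))) (.node (.leaf (.up 2 1059 0)) (.leaf (.up 2 536 0))))) (.node (.node (.node (.leaf (.up 3 314 1)) (.leaf (.up 2 668 4))) (.node (.leaf (.up 3 1679 1)) (.leaf (.up 1 180 1)))) (.node (.node (.leaf (.up 3 661 4)) (.leaf (.up 3 551 1))) (.node (.leaf (.up 3 786 2)) (.leaf (.up 3 331 3)))))) (.node (.node (.node (.node (.leaf (.up 3 1113 2)) (.leaf (.up 3 922 1))) (.node (.leaf (.up 3 1679 4)) (.leaf (.up 3 1071 1)))) (.node (.node (.leaf (.up 3 1933 3)) (.leaf (.up 3 1028 3))) (.node (.leaf (.up 3 978 2)) (.leaf (.up 3 1810 3))))) (.node (.node (.node (.leaf (.up 2 1547 4)) (.leaf (.up 3 1529 3))) (.node (.leaf (.up 3 940 4)) (.leaf (.up 3 1667 4)))) (.node (.node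 (.leaf (.up 1 130 1)) (.leaf (.up 3 1721 1))) (.node (.leaf (.up 4 1674 4)) (.leaf (.up 3 1667 0)))))))) (.node (.node (.node (.node (.node (.node (.leaf (.up 1 9 2)) (.leaf (.up 1 57 2))) (.node (.leaf (.up 3 167 1)) (.leaf (.up 1 43 2)))) (.node (.node (.leaf (.up 3 1936 2)) (.leaf (.up 3 1952 2))) (.node (.leaf (.up 3 1832 4)) (.leaf (.up 3 1551 3))))) (.node (.node (.node (.leaf (.up 2 1815 1)) (.leaf (.up 2 300 1))) (.node (.leaf (.up 3 162 1)) (.leaf (.up 3 187 2)))) (.node (.node (.leaf (.up 3 1964 4)) (.leaf (.up 3 1840 2))) (.node (.leaf (.up 3 1810 2)) (.leaf (.up 3 959 1)))))) (.node (.node (.node (.node (.leaf (.root 358)) (.leaf (.up 2 830 4))) (.node (.leaf (.up 2 546 3)) (.leaf (.up 1 123 2)))) (.node (.node (.leaf (.up 3 1984 2)) (.leaf (.up 3 2032 2))) (.node (.leaf (.up 3 1467 3)) (.leaf (.up 2 1586 3))))) (.node (.node (.node (.leaf (.up 4 818 4)) (.leaf (.up 2 573 0))) (.node (.leaf (.up 3 1685 4)) (.leaf (.up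 3 954 4)))) (.node (.node (.leaf (.up 3 1711 1)) (.leaf (.up 2 827 4))) (.node (.leaf (.up 3 1685 0)) (.leaf (.up 3 1906 2))))))) (.node (.node (.node (.node (.node (.leaf (.root 318)) (.leaf (.up 3 1321 3))) (.node (.leaf (.up 3 1267 4)) (.leaf (.up 2 611 0)))) (.node (.node (.leaf (.up 3 1138 4)) (.leaf (.up 3 349 4))) (.node (.leaf (.up 4 914 2)) (.leaf (.up 2 930 2))))) (.node (.node (.node (.leaf (.up 3 1127 1)) (.leaf (.up 4 344 4))) (.node (.leaf (.up 3 464 4)) (.leaf (.up 2 1279 4)))) (.node (.node (.leaf (.up 3 337 4)) (.leaf (.up 2 1150 4))) (.node (.leaf (.up 3 1270 4)) (.leaf (.up 2 207 1)))))) (.node (.node (.node (.node (.leaf (.up 3 236 4)) (.leaf (.up 3 1735 1))) (.node (.leaf (.up 2 1865 1)) (.leaf (.up 4 1131 2)))) (.node (.node (.leaf (.up 2 1482 4)) (.leaf (.up 3 229 4))) (.node (.leaf (.up 4 109 4)) (.leaf (.up 3 1346 4))))) (.node (.node (.node (.leaf (.up 3 1487 4)) (.leaf (.up 2 880 3))) (.node (.leaf (.up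 3 1007 3)) (.leaf (.up 4 375 1)))) (.node (.node (.leaf (.up 3 233 4)) (.leaf (.up 2 880 2))) (.node (.leaf (.up 3 1358 4)) (.leaf (.up 4 97 4))))))))

noncomputable def vt3_4_100 : Tr VStep := .node vt3_4_1000 vt3_4_1001

noncomputable def vt3_4_1010 : Tr VStep :=
  .node (.node (.node (.node (.node (.node (.node (.leaf (.root 384)) (.leaf (.up 2 1027 3))) (.node (.leaf (.up 2 1672 4)) (.leaf (.up 2 935 4)))) (.node (.node (.leaf (.up 1 19 3)) (.leaf (.up 3 922 3))) (.node (.leaf (.up 1 531 1)) (.leaf (.up 2 1064 1))))) (.node (.node (.node (.leaf (.up 2 556 2)) (.leaf (.up 2 803 4))) (.node (.leaf (.up 1 191 0)) (.leaf (.up 3 267 1)))) (.node (.node (.leaf (.up 2 556 0)) (.leaf (.up 3 1541 4))) (.node (.leaf (.up 2 534 1)) (.leaf (.up 2 1069 1)))))) (.node (.node (.node (.node (.leaf (.up 3 748 2)) (.leaf (.up 3 1976 4))) (.node (.leaf (.up 3 1840 4)) (.leaf (.up 3 1832 3)))) (.node (.node (.leaf (.up 4 1397 2)) (.leaf (.up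 2 935 3))) (.node (.leaf (.up 2 534 4)) (.leaf (.up 3 182 1))))) (.node (.node (.node (.leaf (.up 4 467 3)) (.leaf (.up 3 1455 0))) (.node (.leaf (.up 1 531 4)) (.leaf (.up 3 1429 1)))) (.node (.node (.leaf (.up 3 317 1)) (.leaf (.up 3 1981 4))) (.node (.leaf (.up 2 1372 3)) (.leaf (.up 3 1749 3))))))) (.node (.node (.node (.node (.node (.leaf (.up 1 35 3)) (.leaf (.up 3 253 4))) (.node (.leaf (.up 3 117 4)) (.leaf (.up 2 188 3)))) (.node (.node (.leaf (.up 4 309 2)) (.leaf (.up 2 1075 3))) (.node (.leaf (.up 2 1196 3)) (.leaf (.up 1 124 4))))) (.node (.node (.node (.leaf (.up 2 241 4)) (.leaf (.up 3 1502 4))) (.node (.leaf (.up 2 1088 1)) (.leaf (.up 2 635 1)))) (.node (.node (.leaf (.up 2 478 3)) (.leaf (.up 3 1895 0))) (.node (.leaf (.up 2 112 4)) (.leaf (.up 3 1375 4)))))) (.node (.node (.node (.node (.leaf (.up 1 30 3)) (.leaf (.up 4 919 3))) (.node (.leaf (.up 4 776 3)) (.leaf (.up 4 1760 1)))) (.node (.node (.leaf (.up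 3 1927 3)) (.leaf (.up 3 1123 4))) (.node (.leaf (.up 3 626 0)) (.leaf (.up 4 1816 3))))) (.node (.node (.node (.leaf (.up 2 329 4)) (.leaf (.up 3 1126 4))) (.node (.leaf (.up 2 1662 2)) (.leaf (.up 2 449 4)))) (.node (.node (.leaf (.up 4 501 2)) (.leaf (.up 2 320 4))) (.node (.leaf (.up 4 1528 1)) (.leaf (.up 3 471 2)))))))) (.node (.node (.node (.node (.node (.node (.leaf (.root 328)) (.leaf (.up 2 668 2))) (.node (.leaf (.root 408)) (.leaf (.up 2 99 4)))) (.node (.node (.leaf (.up 3 1333 2)) (.leaf (.up 2 1299 3))) (.node (.leaf (.up 3 1420 3)) (.leaf (.up 3 1349 4))))) (.node (.node (.node (.leaf (.up 3 1480 4)) (.leaf (.up 3 524 2))) (.node (.leaf (.up 2 111 4)) (.leaf (.up 2 1344 4)))) (.node (.node (.leaf (.up 2 1905 0)) (.leaf (.up 2 1473 4))) (.node (.leaf (.up 4 1867 1)) (.leaf (.up 2 368 1)))))) (.node (.node (.node (.node (.leaf (.up 2 318 3)) (.leaf (.up 3 1912 1))) (.node (.leaf (.up 3 1268 4)) (.leaf (.up 3 475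 4)))) (.node (.node (.leaf (.up 3 1703 3)) (.leaf (.up 3 346 4))) (.node (.leaf (.up 3 1457 3)) (.leaf (.up 3 1515 1))))) (.node (.node (.node (.leaf (.up 2 1737 0)) (.leaf (.up 2 351 4))) (.node (.leaf (.up 3 471 4)) (.leaf (.up 2 590 2)))) (.node (.node (.leaf (.up 3 1120 1)) (.leaf (.up 4 1477 2))) (.node (.leaf (.up 2 1511 2)) (.leaf (.up 2 478 4))))))) (.node (.node (.node (.node (.node (.leaf (.up 2 1558 4)) (.leaf (.up 4 1315 3))) (.node (.leaf (.up 2 1687 0)) (.leaf (.up 2 172 0)))) (.node (.node (.leaf (.up 3 907 1)) (.leaf (.up 2 1567 4))) (.node (.leaf (.up 2 1687 4)) (.leaf (.up 3 517 1))))) (.node (.node (.node (.leaf (.up 3 821 4)) (.leaf (.up 1 147 1))) (.node (.leaf (.up 2 285 1)) (.leaf (.up 4 957 4)))) (.node (.node (.leaf (.up 4 1555 4)) (.leaf (.up 3 570 0))) (.node (.leaf (.up 3 1083 1)) (.leaf (.up 3 512 1)))))) (.node (.node (.node (.node (.leaf (.up 2 1687 3)) (.leaf (.up 3 641 4))) (.node (.leaf (.up 2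 521 0)) (.leaf (.up 2 1074 0)))) (.node (.node (.leaf (.up 2 648 4)) (.leaf (.up 3 1959 4))) (.node (.leaf (.up 2 536 3)) (.leaf (.up 3 512 4))))) (.node (.node (.node (.leaf (.up 3 1465 0)) (.leaf (.up 3 1954 4))) (.node (.leaf (.up 3 1411 1)) (.leaf (.up 3 517 4)))) (.node (.node (.leaf (.up 3 1963 4)) (.leaf (.up 4 469 2))) (.node (.leaf (.up 3 524 4)) (.leaf (.up 4 1827 4))))))))

noncomputable def vt3_4_1011 : Tr VStep :=
  .node (.node (.node (.node (.node (.node (.node (.leaf (.up 1 11 3)) (.leaf (.up 3 977 4))) (.node (.leaf (.up 3 1403 1)) (.leaf (.up 2 1204 2)))) (.node (.node (.leaf (.up 2 1938 3)) (.leaf (.up 2 831 2))) (.node (.leaf (.up 2 1663 4)) (.leaf (.up 2 1638 1))))) (.node (.node (.node (.leaf (.up 2 715 1)) (.leaf (.up 3 1264 1))) (.node (.leaf (.up 2 1658 4)) (.leaf (.up 3 837 1)))) (.node (.node (.leaf (.up 2 1787 4)) (.leaf (.up 2 1625 0))) (.node (.leaf (.up 2 88 1)) (.leaf (.up 2 1635 1)))))) (.node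 (.node (.node (.node (.leaf (.up 1 54 3)) (.leaf (.up 3 1270 2))) (.node (.leaf (.up 3 1642 0)) (.leaf (.up 3 1998 4)))) (.node (.node (.leaf (.up 3 1967 3)) (.leaf (.up 3 1871 4))) (.node (.leaf (.up 3 1991 4)) (.leaf (.up 3 1840 3))))) (.node (.node (.node (.leaf (.up 4 1621 1)) (.leaf (.up 3 1126 2))) (.node (.leaf (.up 4 1986 4)) (.leaf (.up 3 749 4)))) (.node (.node (.leaf (.up 4 975 2)) (.leaf (.up 2 711 0))) (.node (.leaf (.up 3 733 3)) (.leaf (.up 2 1005 2))))))) (.node (.node (.node (.node (.node (.leaf (.up 1 3 4)) (.leaf (.up 1 10 0))) (.node (.leaf (.up 2 1204 3)) (.leaf (.up 1 48 1)))) (.node (.node (.leaf (.up 3 1317 4)) (.leaf (.up 1 10 4))) (.node (.leaf (.up 1 130 4)) (.leaf (.up 3 164 3))))) (.node (.node (.node (.leaf (.up 3 1312 4)) (.leaf (.up 2 591 3))) (.node (.leaf (.up 3 135 4)) (.leaf (.up 3 1448 4)))) (.node (.node (.leaf (.up 2 1935 2)) (.leaf (.up 3 1983 2))) (.node (.leaf (.up 3 1949 2)) (.leaf (.up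 2 1299 1)))))) (.node (.node (.node (.node (.leaf (.up 3 1951 3)) (.leaf (.up 3 1172 0))) (.node (.leaf (.up 3 661 1)) (.leaf (.up 4 1198 1)))) (.node (.node (.leaf (.up 3 1871 2)) (.leaf (.up 2 1597 1))) (.node (.leaf (.up 3 314 4)) (.leaf (.up 3 1045 4))))) (.node (.node (.node (.leaf (.up 3 507 3)) (.leaf (.up 3 118 2))) (.node (.leaf (.up 2 319 4)) (.leaf (.up 4 1195 1)))) (.node (.node (.leaf (.up 1 3 1)) (.leaf (.up 3 1515 3))) (.node (.leaf (.up 1 57 0)) (.leaf (.up 3 310 4)))))))) (.node (.node (.node (.node (.node (.node (.leaf (.up 1 28 0)) (.leaf (.up 1 21 4))) (.node (.leaf (.up 3 1172 2)) (.leaf (.up 3 1458 4)))) (.node (.node (.leaf (.up 1 28 4)) (.leaf (.up 3 1331 4))) (.node (.leaf (.up 3 781 2)) (.leaf (.up 2 827 1))))) (.node (.node (.node (.leaf (.up 2 25 0)) (.leaf (.up 2 1570 0))) (.node (.leaf (.up 1 35 1)) (.leaf (.up 3 1076 2)))) (.node (.node (.leaf (.up 3 688 1)) (.leaf (.up 1 16 4))) (.node (.leaf (.up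 4 152 4)) (.leaf (.up 2 830 1)))))) (.node (.node (.node (.node (.leaf (.up 3 1154 0)) (.leaf (.up 3 429 4))) (.node (.leaf (.up 4 1208 1)) (.leaf (.up 3 1268 2)))) (.node (.node (.leaf (.up 2 294 3)) (.leaf (.up 1 16 1))) (.node (.leaf (.up 2 1027 4)) (.leaf (.up 2 300 4))))) (.node (.node (.node (.leaf (.up 2 1159 0)) (.leaf (.up 2 700 0))) (.node (.leaf (.up 2 1213 1)) (.leaf (.up 3 1124 2)))) (.node (.node (.leaf (.up 2 1159 4)) (.leaf (.up 1 21 1))) (.node (.leaf (.up 3 288 4)) (.leaf (.up 1 47 0))))))) (.node (.node (.node (.node (.node (.leaf (.up 3 967 4)) (.leaf (.up 3 166 2))) (.node (.leaf (.up 1 132 2)) (.leaf (.up 1 180 2)))) (.node (.node (.leaf (.up 2 1807 2)) (.leaf (.up 1 113 0))) (.node (.leaf (.up 2 1648 1)) (.leaf (.up 2 1581 3))))) (.node (.node (.node (.leaf (.up 3 1764 4)) (.leaf (.up 1 54 2))) (.node (.leaf (.up 3 835 4)) (.leaf (.up 1 36 2)))) (.node (.node (.leaf (.up 3 1951 2)) (.leaf (.up 3 1967 2)))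 (.node (.leaf (.up 3 1933 2)) (.leaf (.up 2 78 1)))))) (.node (.node (.node (.node (.leaf (.up 3 2034 0)) (.leaf (.up 3 1606 1))) (.node (.leaf (.up 3 512 3)) (.leaf (.up 3 759 4)))) (.node (.node (.leaf (.up 3 1881 4)) (.leaf (.up 3 630 4))) (.node (.leaf (.up 4 1433 3)) (.leaf (.up 3 1237 1))))) (.node (.node (.node (.leaf (.up 2 1884 4)) (.leaf (.up 4 1603 1))) (.node (.leaf (.up 3 1997 1)) (.leaf (.up 3 116 2)))) (.node (.node (.leaf (.up 3 1999 2)) (.leaf (.up 4 2047 2))) (.node (.leaf (.up 2 2013 2)) (.leaf (.up 3 116 3))))))))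

noncomputable def vt3_4_101 : Tr VStep := .node vt3_4_1010 vt3_4_1011

noncomputable def vt3_4_10 : Tr VStep := .node vt3_4_100 vt3_4_101

noncomputable def vt3_4_1100 : Tr VStep :=
  .node (.node (.node (.node (.node (.node (.node (.leaf (.root 360)) (.leaf (.up 1 89 0))) (.node (.leaf (.up 2 1073 2)) (.leaf (.up 2 1811 3)))) (.node (.node (.leaf (.up 1 21 3)) (.leaf (.up 3 924 3))) (.node (.leaf (.up 2 936 2)) (.leaf (.up 1 138 3))))) (.node (.node (.node (.leaf (.root 178)) (.leaf (.up 2 1239 4))) (.node (.leaf (.up 4 1629 1)) (.leaf (.up 2 368 4)))) (.node (.node (.leaf (.up 3 1230 1)) (.leaf (.up 2 497 4))) (.node (.leaf (.up 3 1268 0)) (.leaf (.up 2 1344 1)))))) (.node (.node (.node (.node (.leaf (.up 4 1969 3)) (.leaf (.up 1 76 4))) (.node (.leaf (.up 3 1191 3)) (.leaf (.up 3 1515 4)))) (.node (.node (.leaf (.up 1 40 3)) (.leaf (.up 3 1386 4))) (.node (.leaf (.up 2 830 3)) (.leaf (.up 3 475 1))))) (.node (.node (.node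 (.leaf (.up 4 469 3)) (.leaf (.up 2 1218 0))) (.node (.leaf (.up 2 1511 4)) (.leaf (.up 2 1217 2)))) (.node (.node (.leaf (.up 3 80 1)) (.leaf (.up 4 73 4))) (.node (.leaf (.up 3 872 2)) (.leaf (.up 2 478 1))))))) (.node (.node (.node (.node (.node (.leaf (.root 548)) (.leaf (.up 1 3 2))) (.node (.leaf (.up 3 1921 4)) (.leaf (.up 1 17 2)))) (.node (.node (.leaf (.up 4 1980 3)) (.leaf (.up 3 1946 2))) (.node (.leaf (.up 1 14 1)) (.leaf (.up 3 1928 2))))) (.node (.node (.node (.leaf (.up 3 1797 4)) (.leaf (.up 1 147 2))) (.node (.leaf (.up 2 1325 1)) (.leaf (.up 3 1933 4)))) (.node (.node (.leaf (.up 4 547 4)) (.leaf (.up 3 1804 4))) (.node (.leaf (.up 1 11 1)) (.leaf (.up 2 1584 1)))))) (.node (.node (.node (.node (.leaf (.up 1 24 3)) (.leaf (.up 2 1713 4))) (.node (.leaf (.up 1 113 2)) (.leaf (.up 1 2 0)))) (.node (.node (.leaf (.up 3 1921 3)) (.leaf (.up 4 919 4))) (.node (.leaf (.up 2 1175 3)) (.leaf (.up 2 1584 4))))) (.node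 (.node (.node (.leaf (.up 2 1725 4)) (.leaf (.up 4 914 4))) (.node (.leaf (.up 3 1386 3)) (.leaf (.up 1 7 0)))) (.node (.node (.leaf (.up 4 800 1)) (.leaf (.up 3 1716 4))) (.node (.leaf (.up 3 1912 2)) (.leaf (.up 3 1864 2)))))))) (.node (.node (.node (.node (.node (.node (.leaf (.root 546)) (.leaf (.up 2 1027 2))) (.node (.leaf (.root 312)) (.leaf (.up 3 1943 4)))) (.node (.node (.leaf (.up 2 1561 0)) (.leaf (.up 1 34 0))) (.node (.leaf (.up 2 1571 1)) (.leaf (.up 1 24 1))))) (.node (.node (.node (.leaf (.root 189)) (.leaf (.up 2 1811 4))) (.node (.leaf (.up 2 1201 2)) (.leaf (.up 3 2046 3)))) (.node (.node (.leaf (.up 2 826 2)) (.leaf (.up 3 778 2))) (.node (.leaf (.up 3 808 2)) (.leaf (.up 2 29 1)))))) (.node (.node (.node (.node (.leaf (.up 3 1123 2)) (.leaf (.up 3 904 4))) (.node (.leaf (.up 2 1137 2)) (.leaf (.up 3 416 1)))) (.node (.node (.leaf (.up 3 1288 1)) (.leaf (.up 3 1212 0))) (.node (.leaf (.up 4 701 1)) (.leaf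 (.up 3 1158 1))))) (.node (.node (.node (.leaf (.up 1 43 1)) (.leaf (.up 3 1707 4))) (.node (.leaf (.up 1 17 0)) (.leaf (.up 3 1987 3)))) (.node (.node (.leaf (.up 3 1293 1)) (.leaf (.up 3 858 2))) (.node (.leaf (.up 2 773 4)) (.leaf (.up 3 1578 4))))))) (.node (.node (.node (.node (.node (.leaf (.up 1 35 2)) (.leaf (.up 1 19 2))) (.node (.leaf (.up 3 1466 3)) (.leaf (.up 1 1 2)))) (.node (.node (.leaf (.up 4 309 3)) (.leaf (.up 2 700 3))) (.node (.leaf (.up 4 355 4)) (.leaf (.up 3 1944 2))))) (.node (.node (.node (.leaf (.up 2 1217 4)) (.leaf (.up 1 131 2))) (.node (.leaf (.up 2 112 1)) (.leaf (.up 3 1611 1)))) (.node (.node (.leaf (.up 4 1873 3)) (.leaf (.up 3 1224 4))) (.node (.leaf (.up 2 1088 4)) (.leaf (.up 3 1998 3)))))) (.node (.node (.node (.node (.leaf (.up 3 90 4)) (.leaf (.up 4 1397 4))) (.node (.leaf (.up 4 1415 3)) (.leaf (.up 3 720 1)))) (.node (.node (.leaf (.up 4 264 3)) (.leaf (.up 3 641 3))) (.node (.leaf (.up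 3 1602 0)) (.leaf (.up 4 1524 4))))) (.node (.node (.node (.leaf (.up 3 227 2)) (.leaf (.up 2 211 2))) (.node (.leaf (.up 2 241 2)) (.leaf (.up 2 1521 4)))) (.node (.node (.leaf (.up 4 1661 1)) (.leaf (.up 2 1392 4))) (.node (.leaf (.up 3 1896 2)) (.leaf (.up 1 124 0))))))))

noncomputable def vt3_4_1101 : Tr VStep :=
  .node (.node (.node (.node (.node (.node (.node (.leaf (.root 532)) (.leaf (.up 2 535 0))) (.node (.leaf (.up 3 1197 4)) (.leaf (.up 1 146 3)))) (.node (.node (.leaf (.up 2 1068 4)) (.leaf (.up 2 259 4))) (.node (.leaf (.up 3 395 4)) (.leaf (.up 1 132 0))))) (.node (.node (.node (.leaf (.up 2 934 1)) (.leaf (.up 2 1437 1))) (.node (.leaf (.up 3 1043 1)) (.leaf (.up 4 699 2)))) (.node (.node (.leaf (.up 2 496 3)) (.leaf (.up 3 1844 0))) (.node (.leaf (.up 2 1298 2)) (.leaf (.up 3 1806 1)))))) (.node (.node (.node (.node (.leaf (.up 1 48 3)) (.leaf (.up 2 1437 4))) (.node (.leaf (.up 3 1301 4)) (.leaf (.up 2 635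 2)))) (.node (.node (.leaf (.up 2 1472 2)) (.leaf (.up 3 187 4))) (.node (.leaf (.up 2 51 4)) (.leaf (.up 3 1308 4))))) (.node (.node (.node (.leaf (.up 3 1620 3)) (.leaf (.up 2 1501 3))) (.node (.leaf (.up 1 54 4)) (.leaf (.up 4 1305 4)))) (.node (.node (.leaf (.up 4 542 1)) (.leaf (.up 3 1432 4))) (.node (.leaf (.up 3 1346 2)) (.leaf (.up 3 63 4))))))) (.node (.node (.node (.node (.node (.leaf (.root 502)) (.leaf (.up 2 1069 3))) (.node (.leaf (.up 2 1202 3)) (.leaf (.up 3 1851 3)))) (.node (.node (.leaf (.up 3 384 2)) (.leaf (.up 3 2046 4))) (.node (.leaf (.up 2 576 1)) (.leaf (.up 2 418 2))))) (.node (.node (.node (.leaf (.up 3 448 3)) (.leaf (.up 3 1721 2))) (.node (.leaf (.up 3 1891 1)) (.leaf (.up 2 351 3)))) (.node (.node (.leaf (.up 2 272 2)) (.leaf (.up 3 288 2))) (.node (.leaf (.up 2 1482 0)) (.leaf (.up 2 1150 1)))))) (.node (.node (.node (.node (.leaf (.up 3 1609 2)) (.leaf (.up 3 630 1))) (.node (.leaf (.up 4 1167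 3)) (.leaf (.up 3 1735 4)))) (.node (.node (.leaf (.up 1 0 3)) (.leaf (.up 3 1606 4))) (.node (.leaf (.up 3 337 0)) (.leaf (.up 3 229 1))))) (.node (.node (.node (.leaf (.up 3 967 0)) (.leaf (.up 3 628 3))) (.node (.leaf (.up 3 1021 1)) (.leaf (.up 2 1787 2)))) (.node (.node (.leaf (.up 2 320 2)) (.leaf (.up 2 368 2))) (.node (.leaf (.up 2 1005 4)) (.leaf (.up 2 1730 4)))))))) (.node (.node (.node (.node (.node (.node (.leaf (.up 3 718 4)) (.leaf (.up 3 1293 3))) (.node (.leaf (.up 3 331 1)) (.leaf (.up 1 255 0)))) (.node (.node (.leaf (.up 2 2024 4)) (.leaf (.up 2 711 4))) (.node (.leaf (.up 2 591 4)) (.leaf (.up 3 386 3))))) (.node (.node (.node (.leaf (.up 2 1787 1)) (.leaf (.up 2 192 1))) (.node (.leaf (.up 2 586 4)) (.leaf (.up 4 1909 1)))) (.node (.node (.leaf (.up 2 715 4)) (.leaf (.up 3 1264 3))) (.node (.leaf (.up 4 1135 3)) (.leaf (.up 3 595 1)))))) (.node (.node (.node (.node (.leaf (.up 3 886 4)) (.leaf (.up 2 1625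 4))) (.node (.leaf (.up 3 1745 4)) (.leaf (.up 4 1022 4)))) (.node (.node (.leaf (.up 3 1616 4)) (.leaf (.up 3 895 4))) (.node (.leaf (.up 3 1015 4)) (.leaf (.up 2 447 3))))) (.node (.node (.node (.leaf (.up 3 221 3)) (.leaf (.up 3 977 0))) (.node (.leaf (.up 2 715 2)) (.leaf (.up 3 1003 1)))) (.node (.node (.leaf (.up 2 1344 2)) (.leaf (.up 2 1392 2))) (.node (.leaf (.up 3 1362 2)) (.leaf (.up 2 1019 4))))))) (.node (.node (.node (.node (.node (.leaf (.up 2 1075 4)) (.leaf (.up 2 284 4))) (.node (.leaf (.up 2 1563 2)) (.leaf (.up 3 1211 4)))) (.node (.node (.leaf (.up 2 400 2)) (.leaf (.up 2 1341 3))) (.node (.leaf (.up 1 146 0)) (.leaf (.up 2 294 1))))) (.node (.node (.node (.leaf (.up 2 272 4)) (.leaf (.up 2 1705 2))) (.node (.leaf (.up 3 574 1)) (.leaf (.up 3 2006 3)))) (.node (.node (.leaf (.up 4 173 1)) (.leaf (.up 2 1686 1))) (.node (.leaf (.up 2 151 0)) (.leaf (.up 3 79 3)))))) (.node (.node (.node (.node (.leaf (.root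 186)) (.leaf (.up 3 1835 1))) (.node (.leaf (.up 1 44 4)) (.leaf (.up 2 158 1)))) (.node (.node (.leaf (.up 3 448 2)) (.leaf (.up 2 496 2))) (.node (.leaf (.up 2 1290 4)) (.leaf (.up 2 37 4))))) (.node (.node (.node (.leaf (.up 2 1737 2)) (.leaf (.up 4 1415 4))) (.node (.leaf (.up 2 1122 3)) (.leaf (.up 1 32 4)))) (.node (.node (.leaf (.up 2 1075 1)) (.leaf (.up 2 520 1))) (.node (.leaf (.up 1 41 4)) (.leaf (.up 2 562 0))))))))

noncomputable def vt3_4_110 : Tr VStep := .node vt3_4_1100 vt3_4_1101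

noncomputable def vt3_4_1110 : Tr VStep :=
  .node (.node (.node (.node (.node (.node (.node (.leaf (.root 344)) (.leaf (.up 2 156 2))) (.node (.leaf (.up 3 1007 4)) (.leaf (.up 4 1728 4)))) (.node (.node (.leaf (.up 3 1950 3)) (.leaf (.up 3 1797 2))) (.node (.leaf (.up 2 1737 4)) (.leaf (.up 2 1815 2))))) (.node (.node (.node (.leaf (.up 2 1635 3)) (.leaf (.up 1 12 2))) (.node (.leaf (.up 4 1740 4)) (.leaf (.up 1 30 2)))) (.node (.node (.leaf (.up 3 506 3)) (.leaf (.up 3 1941 2))) (.node (.leaf (.up 3 1002 4)) (.leaf (.up 2 1473 1)))))) (.node (.node (.node (.node (.leaf (.up 3 2032 4)) (.leaf (.up 3 735 4))) (.node (.leaf (.up 3 812 3)) (.leaf (.up 3 1912 4)))) (.node (.node (.leaf (.up 3 1955 3)) (.leaf (.up 4 1877 2))) (.node (.leaf (.up 2 1205 3)) (.leaf (.up 3 346 1))))) (.node (.node (.node (.leaf (.up 2 723 4)) (.leaf (.up 2 1091 0))) (.node (.leaf (.up 1 126 2)) (.leaf (.up 2 78 2)))) (.node (.node (.leaf (.up 3 209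 1)) (.leaf (.up 2 590 3))) (.node (.leaf (.up 2 594 4)) (.leaf (.up 2 351 1))))))) (.node (.node (.node (.node (.node (.leaf (.up 3 1212 2)) (.leaf (.up 2 936 0))) (.node (.leaf (.up 2 1298 4)) (.leaf (.up 2 1053 0)))) (.node (.node (.leaf (.up 3 55 3)) (.leaf (.up 2 958 3))) (.node (.leaf (.up 3 143 1)) (.leaf (.up 3 1716 1))))) (.node (.node (.node (.leaf (.up 2 1068 2)) (.leaf (.up 2 1058 1))) (.node (.leaf (.up 2 1452 1)) (.leaf (.up 2 1048 0)))) (.node (.node (.leaf (.up 3 1855 1)) (.leaf (.up 3 901 2))) (.node (.leaf (.up 1 138 1)) (.leaf (.up 2 1713 1)))))) (.node (.node (.node (.node (.leaf (.up 3 1939 3)) (.leaf (.up 2 1058 4))) (.node (.leaf (.up 3 1194 4)) (.leaf (.up 1 131 0)))) (.node (.node (.leaf (.up 1 10 3)) (.leaf (.up 3 837 2))) (.node (.leaf (.up 3 396 4)) (.leaf (.up 2 1187 4))))) (.node (.node (.node (.leaf (.up 2 1671 1)) (.leaf (.up 2 188 1))) (.node (.leaf (.up 2 1725 0)) (.leaf (.up 3 1118 2)))) (.node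 (.node (.leaf (.up 4 264 4)) (.leaf (.up 1 533 0))) (.node (.leaf (.up 3 1400 3)) (.leaf (.up 3 967 2)))))))) (.node (.node (.node (.node (.node (.node (.leaf (.root 1168)) (.leaf (.up 4 1287 3))) (.node (.leaf (.up 1 43 4)) (.leaf (.up 2 158 2)))) (.node (.node (.leaf (.up 2 1829 2)) (.leaf (.up 2 1836 1))) (.node (.leaf (.up 3 1293 4)) (.leaf (.up 1 34 4))))) (.node (.node (.node (.leaf (.up 1 44 2)) (.leaf (.up 1 28 2))) (.node (.leaf (.up 3 1288 4)) (.leaf (.up 1 14 2)))) (.node (.node (.leaf (.up 4 1973 2)) (.leaf (.up 3 1925 2))) (.node (.leaf (.up 3 1959 2)) (.leaf (.up 2 156 1)))))) (.node (.node (.node (.node (.leaf (.up 3 236 2)) (.leaf (.up 3 283 0))) (.node (.leaf (.up 3 403 4)) (.leaf (.up 3 1212 4)))) (.node (.node (.leaf (.up 3 518 0)) (.leaf (.up 3 946 1))) (.node (.leaf (.up 2 1205 4)) (.leaf (.up 3 1031 1))))) (.node (.node (.node (.leaf (.up 1 124 2)) (.leaf (.up 1 76 2))) (.node (.leaf (.up 2 1200 4)) (.leaf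 (.up 1 72 3)))) (.node (.node (.leaf (.up 2 1073 4)) (.leaf (.up 3 2005 2))) (.node (.leaf (.up 3 406 4)) (.leaf (.up 3 1991 2))))))) (.node (.node (.node (.node (.node (.leaf (.up 2 1196 2)) (.leaf (.up 2 1180 2))) (.node (.leaf (.up 3 1915 0)) (.leaf (.up 2 320 0)))) (.node (.node (.leaf (.up 3 821 2)) (.leaf (.up 2 773 2))) (.node (.leaf (.up 3 1008 4)) (.leaf (.up 3 1126 0))))) (.node (.node (.node (.leaf (.up 4 1859 3)) (.leaf (.up 4 383 1))) (.node (.leaf (.up 2 241 1)) (.leaf (.up 3 1738 1)))) (.node (.node (.leaf (.up 3 884 4)) (.leaf (.up 3 1113 1))) (.node (.leaf (.up 4 1747 4)) (.leaf (.up 3 1123 0)))))) (.node (.node (.node (.node (.leaf (.up 3 713 4)) (.leaf (.up 3 659 3))) (.node (.leaf (.up 3 1902 4)) (.leaf (.up 3 593 1)))) (.node (.node (.leaf (.up 3 2031 4)) (.leaf (.up 2 1290 3))) (.node (.leaf (.up 3 584 4)) (.leaf (.up 3 1564 3))))) (.node (.node (.node (.leaf (.up 4 2026 4)) (.leaf (.up 2 709 4))) (.node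 (.leaf (.up 2 1150 2)) (.leaf (.up 3 1499 0)))) (.node (.node (.leaf (.up 3 231 3)) (.leaf (.up 3 199 1))) (.node (.leaf (.up 2 1009 3)) (.leaf (.up 3 253 0))))))))

noncomputable def vt3_4_1111 : Tr VStep :=
  .node (.node (.node (.node (.node (.node (.node (.leaf (.up 3 1926 3)) (.leaf (.up 2 662 0))) (.node (.leaf (.up 2 1175 1)) (.leaf (.up 2 684 1)))) (.node (.node (.leaf (.up 1 31 3)) (.leaf (.up 3 63 1))) (.node (.leaf (.up 3 777 3)) (.leaf (.up 1 5 0))))) (.node (.node (.node (.leaf (.up 2 1558 2)) (.leaf (.up 3 1308 1))) (.node (.leaf (.up 3 756 3)) (.leaf (.up 2 1586 4)))) (.node (.node (.leaf (.up 3 924 4)) (.leaf (.up 2 447 2))) (.node (.leaf (.up 3 1389 3)) (.leaf (.up 1 0 0)))))) (.node (.node (.node (.node (.leaf (.up 2 51 0)) (.leaf (.up 2 1074 3))) (.node (.leaf (.up 1 9 1)) (.leaf (.up 2 1586 1)))) (.node (.node (.leaf (.up 1 34 3)) (.leaf (.up 3 814 0))) (.node (.leaf (.up 3 820 3)) (.leaf (.up 2 1935 4)))))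 (.node (.node (.node (.leaf (.up 1 54 0)) (.leaf (.up 3 386 1))) (.node (.leaf (.up 1 12 1)) (.leaf (.up 2 1930 4)))) (.node (.node (.leaf (.up 3 1606 3)) (.leaf (.up 2 1803 4))) (.node (.leaf (.up 3 1923 4)) (.leaf (.up 2 684 4))))))) (.node (.node (.node (.node (.node (.leaf (.root 568)) (.leaf (.up 2 75 4))) (.node (.leaf (.up 4 2023 1)) (.leaf (.up 3 176 3)))) (.node (.node (.leaf (.up 3 1974 3)) (.leaf (.up 3 1343 2))) (.node (.leaf (.up 3 1358 0)) (.leaf (.up 2 1325 2))))) (.node (.node (.node (.leaf (.up 3 518 2)) (.leaf (.up 3 566 2))) (.node (.leaf (.up 2 1373 3)) (.leaf (.up 2 207 4)))) (.node (.node (.leaf (.up 3 1393 1)) (.leaf (.up 2 78 4))) (.node (.leaf (.up 3 1421 2)) (.leaf (.up 2 1279 1)))))) (.node (.node (.node (.node (.leaf (.up 1 18 3)) (.leaf (.up 3 759 1))) (.node (.leaf (.up 3 1270 0)) (.leaf (.up 3 1346 1)))) (.node (.node (.leaf (.up 3 1375 2)) (.leaf (.up 3 1237 4))) (.node (.leaf (.up 3 1181 3)) (.leaf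 (.up 3 2027 0))))) (.node (.node (.node (.leaf (.up 3 598 2)) (.leaf (.up 3 1232 4))) (.node (.leaf (.up 3 892 1)) (.leaf (.up 3 628 2)))) (.node (.node (.leaf (.up 3 1487 2)) (.leaf (.up 3 1535 2))) (.node (.leaf (.up 2 1501 2)) (.leaf (.up 2 368 3)))))))) (.node (.node (.node (.node (.node (.node (.leaf (.root 1220)) (.leaf (.up 2 1702 2))) (.node (.leaf (.up 3 1668 2)) (.leaf (.up 1 126 0)))) (.node (.node (.leaf (.up 2 1686 3)) (.leaf (.up 2 319 2))) (.node (.leaf (.up 2 285 2)) (.leaf (.up 3 1368 0))))) (.node (.node (.node (.leaf (.up 2 1658 1)) (.leaf (.up 3 65 1))) (.node (.leaf (.up 4 1149 3)) (.leaf (.up 1 123 0)))) (.node (.node (.leaf (.up 2 88 4)) (.leaf (.up 3 1399 4))) (.node (.leaf (.up 3 1535 4)) (.leaf (.up 2 722 1)))))) (.node (.node (.node (.node (.leaf (.up 4 306 3)) (.leaf (.up 4 699 3))) (.node (.leaf (.up 3 731 0)) (.leaf (.up 3 429 3)))) (.node (.node (.leaf (.up 1 72 0)) (.leaf (.up 2 492 4))) (.node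 (.leaf (.up 4 1469 3)) (.leaf (.up 3 454 0))))) (.node (.node (.node (.leaf (.up 3 1222 4)) (.leaf (.up 2 1638 2))) (.node (.leaf (.up 2 353 4)) (.leaf (.up 3 1652 2)))) (.node (.node (.leaf (.up 2 207 3)) (.leaf (.up 3 511 2))) (.node (.leaf (.up 3 477 2)) (.leaf (.up 2 493 2))))))) (.node (.node (.node (.node (.node (.leaf (.up 2 1696 4)) (.leaf (.up 3 820 1))) (.node (.leaf (.up 3 1333 0)) (.leaf (.up 2 676 2)))) (.node (.node (.leaf (.up 1 41 1)) (.leaf (.up 2 1705 4))) (.node (.leaf (.up 1 19 0)) (.leaf (.up 2 1341 2))))) (.node (.node (.node (.leaf (.root 184)) (.leaf (.up 3 1708 4))) (.node (.leaf (.up 3 1572 4)) (.leaf (.up 3 564 2)))) (.node (.node (.leaf (.up 1 44 1)) (.leaf (.up 3 906 4))) (.node (.leaf (.up 2 1437 2)) (.leaf (.up 2 418 1)))))) (.node (.node (.node (.node (.leaf (.up 4 1816 4)) (.leaf (.up 2 1298 3))) (.node (.leaf (.up 3 1572 1)) (.leaf (.up 1 31 1)))) (.node (.node (.leaf (.up 3 574 4)) (.leaf (.up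 4 1809 4))) (.node (.leaf (.up 2 1373 2)) (.leaf (.up 3 1389 2))))) (.node (.node (.node (.leaf (.root 336)) (.leaf (.up 1 32 0))) (.node (.leaf (.up 3 1948 4)) (.leaf (.up 1 26 1)))) (.node (.node (.leaf (.up 2 1202 1)) (.leaf (.up 2 562 4))) (.node (.leaf (.up 3 698 4)) (.leaf (.up 3 1941 4))))))))

noncomputable def vt3_4_111 : Tr VStep := .node vt3_4_1110 vt3_4_1111

noncomputable def vt3_4_11 : Tr VStep := .node vt3_4_110 vt3_4_111

noncomputable def vt3_4_1 : Tr VStep := .node vt3_4_10 vt3_4_11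

noncomputable def vt3_4_ : Tr VStep := .node vt3_4_0 vt3_4_1

noncomputable def vt3_5_0000 : Tr VStep :=
  .node (.node (.node (.node (.node (.node (.node (.leaf (.root 550)) (.leaf (.up 3 949 2))) (.node (.leaf (.up 4 1461 2)) (.leaf (.up 3 1287 1)))) (.node (.node (.leaf (.up 2 708 2)) (.leaf (.up 2 797 1))) (.node (.leaf (.up 2 1562 1)) (.leaf (.up 4 1843 3))))) (.node (.node (.node (.leaf (.up 3 501 2)) (.leaf (.up 2 1335 1))) (.node (.leaf (.up 3 48 1)) (.leaf (.up 4 1246 3)))) (.node (.node (.leaf (.up 5 1578 1)) (.leaf (.up 2 132 2))) (.node (.leaf (.up 3 1407 0)) (.leaf (.up 2 1329 3)))))) (.node (.node (.node (.node (.leaf (.up 3 309 2)) (.leaf (.up 4 1337 0))) (.node (.leaf (.up 2 668 3)) (.leaf (.up 4 1845 2)))) (.node (.node (.leaf (.up 2 986 0)) (.leaf (.up 2 68 2))) (.node (.leaf (.up 2 883 3)) (.leaf (.up 4 817 3))))) (.node (.node (.node (.leaf (.up 1 18 1)) (.leaf (.up 3 1999 0))) (.node (.leaf (.up 3 158 3))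 (.leaf (.up 1 220 3)))) (.node (.node (.leaf (.up 3 300 0)) (.leaf (.up 2 1598 2))) (.node (.leaf (.up 4 369 3)) (.leaf (.up 4 1839 1))))))) (.node (.node (.node (.node (.node (.leaf (.root 1228)) (.leaf (.up 4 518 2))) (.node (.leaf (.up 5 686 0)) (.leaf (.up 3 1169 3)))) (.node (.node (.leaf (.up 3 1319 0)) (.leaf (.up 3 510 1))) (.node (.leaf (.up 3 333 2)) (.leaf (.up 5 1406 3))))) (.node (.node (.node (.leaf (.up 3 1489 0)) (.leaf (.up 4 1553 3))) (.node (.leaf (.up 5 723 1)) (.leaf (.up 5 1012 1)))) (.node (.node (.leaf (.up 3 2001 0)) (.leaf (.up 4 311 2))) (.node (.leaf (.up 5 1854 3)) (.leaf (.up 4 462 1)))))) (.node (.node (.node (.node (.leaf (.up 5 1789 0)) (.leaf (.up 1 17 3))) (.node (.leaf (.up 2 209 3)) (.leaf (.up 2 998 1)))) (.node (.node (.leaf (.up 3 444 3)) (.leaf (.up 1 30 0))) (.node (.leaf (.up 4 318 3)) (.leaf (.up 4 380 3))))) (.node (.node (.node (.leaf (.up 4 753 1)) (.leaf (.up 2 982 1))) (.node (.leaf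 (.up 4 1222 2)) (.leaf (.up 2 1377 0)))) (.node (.node (.leaf (.up 4 951 2)) (.leaf (.up 3 1933 2))) (.node (.leaf (.up 5 397 2)) (.leaf (.up 4 894 3)))))))) (.node (.node (.node (.node (.node (.node (.leaf (.root 767)) (.leaf (.up 3 1896 1))) (.node (.leaf (.up 2 623 1)) (.leaf (.up 3 840 1)))) (.node (.node (.leaf (.up 1 4 0)) (.leaf (.up 1 50 2))) (.node (.leaf (.up 5 1586 2)) (.leaf (.up 4 520 2))))) (.node (.node (.node (.leaf (.up 3 607 1)) (.leaf (.up 3 888 1))) (.node (.leaf (.up 4 1403 0)) (.leaf (.up 3 1880 1)))) (.node (.node (.leaf (.up 6 784 3)) (.leaf (.up 4 1553 0))) (.node (.leaf (.up 4 72 2)) (.leaf (.up 4 1138 2)))))) (.node (.node (.node (.node (.leaf (.up 3 1279 3)) (.leaf (.up 5 1853 0))) (.node (.leaf (.up 4 1149 3)) (.leaf (.up 3 1866 1)))) (.node (.node (.leaf (.up 2 1296 3)) (.leaf (.up 3 336 1))) (.node (.leaf (.up 3 1111 0)) (.leaf (.up 4 1488 3))))) (.node (.node (.node (.leaf (.up 5 1789 3)) (.leaf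 (.up 2 1914 1))) (.node (.leaf (.up 5 1663 3)) (.leaf (.up 4 1923 2)))) (.node (.node (.leaf (.up 5 1810 3)) (.leaf (.up 3 1344 1))) (.node (.leaf (.up 4 1778 2)) (.leaf (.up 4 352 1))))))) (.node (.node (.node (.node (.node (.leaf (.up 2 1315 0)) (.leaf (.up 4 1419 1))) (.node (.leaf (.up 3 170 0)) (.leaf (.up 3 624 3)))) (.node (.node (.leaf (.up 3 1827 0)) (.leaf (.up 2 797 3))) (.node (.leaf (.up 3 1921 2)) (.leaf (.up 4 913 1))))) (.node (.node (.node (.leaf (.up 4 188 1)) (.leaf (.up 4 240 3))) (.node (.leaf (.up 3 48 3)) (.leaf (.up 3 1727 0)))) (.node (.node (.leaf (.up 4 646 1)) (.leaf (.up 4 310 0))) (.node (.leaf (.up 2 1702 1)) (.leaf (.up 3 1921 1)))))) (.node (.node (.node (.node (.leaf (.up 3 1714 3)) (.leaf (.up 1 26 0))) (.node (.leaf (.up 2 1136 2)) (.leaf (.up 3 74 2)))) (.node (.node (.leaf (.up 4 769 2)) (.leaf (.up 4 947 1))) (.node (.leaf (.up 2 1716 1)) (.leaf (.up 4 1281 2))))) (.node (.node (.node (.leaf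 (.up 3 48 2)) (.leaf (.up 2 1433 1))) (.node (.leaf (.up 3 902 0)) (.leaf (.up 2 1136 3)))) (.node (.node (.leaf (.up 4 1403 2)) (.leaf (.up 4 1955 1))) (.node (.leaf (.up 5 1501 3)) (.leaf (.up 2 1439 3))))))))

noncomputable def vt3_5_0001 : Tr VStep :=
  .node (.node (.node (.node (.node (.node (.node (.leaf (.root 444)) (.leaf (.up 2 272 2))) (.node (.leaf (.up 3 1636 0)) (.leaf (.up 3 647 0)))) (.node (.node (.leaf (.up 3 97 2)) (.leaf (.up 3 577 1))) (.node (.leaf (.up 3 1862 1)) (.leaf (.up 1 133 3))))) (.node (.node (.node (.leaf (.up 3 283 0)) (.leaf (.up 5 1528 0))) (.node (.leaf (.up 3 364 1)) (.leaf (.up 4 872 3)))) (.node (.node (.leaf (.up 3 795 0)) (.leaf (.up 3 2040 0))) (.node (.leaf (.up 2 709 3)) (.leaf (.up 2 625 0)))))) (.node (.node (.node (.node (.leaf (.up 3 567 0)) (.leaf (.up 4 1514 3))) (.node (.leaf (.up 2 1322 3)) (.leaf (.up 4 89 1)))) (.node (.node (.leaf (.up 5 1095 3)) (.leaf (.up 2 1029 3))) (.node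 (.leaf (.up 2 1221 3)) (.leaf (.up 2 611 1))))) (.node (.node (.node (.leaf (.up 3 193 0)) (.leaf (.up 4 105 1))) (.node (.leaf (.up 3 1352 0)) (.leaf (.up 5 1097 1)))) (.node (.node (.leaf (.up 2 1605 3)) (.leaf (.up 3 1179 2))) (.node (.leaf (.up 3 1864 0)) (.leaf (.up 2 1669 3))))))) (.node (.node (.node (.node (.node (.leaf (.up 4 1177 2)) (.leaf (.up 1 41 0))) (.node (.leaf (.up 2 323 0)) (.leaf (.up 3 665 2)))) (.node (.node (.leaf (.up 4 520 3)) (.leaf (.up 2 553 0))) (.node (.leaf (.up 5 835 0)) (.leaf (.up 2 1154 1))))) (.node (.node (.node (.leaf (.up 2 1596 0)) (.leaf (.up 3 735 0))) (.node (.leaf (.up 3 911 1)) (.leaf (.up 4 1878 0)))) (.node (.node (.leaf (.up 1 10 3)) (.leaf (.up 4 72 3))) (.node (.leaf (.up 3 437 0)) (.leaf (.up 2 202 3)))))) (.node (.node (.node (.node (.leaf (.up 2 1296 0)) (.leaf (.up 4 1959 3))) (.node (.leaf (.up 1 25 2)) (.leaf (.up 3 1146 0)))) (.node (.node (.leaf (.up 3 1896 2)) (.leaf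 (.up 5 1608 3))) (.node (.leaf (.up 3 665 0)) (.leaf (.up 2 1658 0))))) (.node (.node (.node (.leaf (.up 3 941 1)) (.leaf (.up 5 773 0))) (.node (.leaf (.up 2 623 0)) (.leaf (.up 3 1319 3)))) (.node (.node (.leaf (.up 2 407 1)) (.leaf (.up 3 1320 2))) (.node (.leaf (.up 6 1162 3)) (.leaf (.up 4 1164 0)))))))) (.node (.node (.node (.node (.node (.node (.leaf (.root 703)) (.leaf (.up 4 1290 0))) (.node (.leaf (.up 2 1120 0)) (.leaf (.up 3 1931 3)))) (.node (.node (.leaf (.up 2 1001 0)) (.leaf (.up 2 663 2))) (.node (.leaf (.up 3 1175 2)) (.leaf (.up 2 643 0))))) (.node (.node (.node (.leaf (.up 3 799 0)) (.leaf (.up 2 2044 0))) (.node (.leaf (.up 3 1827 1)) (.leaf (.up 5 1540 1)))) (.node (.node (.leaf (.up 4 313 1)) (.leaf (.up 1 30 1))) (.node (.leaf (.up 3 749 2)) (.leaf (.up 4 1751 2)))))) (.node (.node (.node (.node (.leaf (.up 4 51 0)) (.leaf (.up 3 1232 0))) (.node (.leaf (.up 4 971 3)) (.leaf (.up 4 345 0)))) (.node (.node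 (.leaf (.up 1 23 2)) (.leaf (.up 3 12 1))) (.node (.leaf (.up 4 1291 1)) (.leaf (.up 2 857 0))))) (.node (.node (.node (.leaf (.up 2 709 0)) (.leaf (.up 3 265 3))) (.node (.leaf (.up 4 457 3)) (.leaf (.up 4 518 1)))) (.node (.node (.leaf (.up 2 1339 1)) (.leaf (.up 3 230 3))) (.node (.leaf (.up 1 38 3)) (.leaf (.up 5 60 1))))))) (.node (.node (.node (.node (.node (.leaf (.up 4 1286 3)) (.leaf (.up 4 1239 1))) (.node (.leaf (.up 4 839 0)) (.leaf (.up 2 1956 0)))) (.node (.node (.leaf (.up 4 1994 1)) (.leaf (.up 1 45 0))) (.node (.leaf (.up 5 327 0)) (.leaf (.up 3 1065 3))))) (.node (.node (.node (.leaf (.up 5 1796 3)) (.leaf (.up 1 21 2))) (.node (.leaf (.up 3 1472 1)) (.leaf (.up 4 1255 1)))) (.node (.node (.leaf (.up 2 986 1)) (.leaf (.up 3 731 0))) (.node (.leaf (.up 3 945 0)) (.leaf (.up 3 1579 3)))))) (.node (.node (.node (.node (.leaf (.up 4 1812 0)) (.leaf (.up 1 213 1))) (.node (.leaf (.up 4 669 0)) (.leaf (.up 3 751 2))))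 (.node (.node (.leaf (.up 4 968 1)) (.leaf (.up 3 503 0))) (.node (.leaf (.up 2 926 2)) (.leaf (.up 2 1956 2))))) (.node (.node (.node (.leaf (.root 354)) (.leaf (.up 2 1221 1))) (.node (.leaf (.up 5 900 3)) (.leaf (.up 4 1173 2)))) (.node (.node (.leaf (.up 3 2014 2)) (.leaf (.up 4 769 0))) (.node (.leaf (.up 1 619 0)) (.leaf (.up 2 553 3))))))))

noncomputable def vt3_5_000 : Tr VStep := .node vt3_5_0000 vt3_5_0001

noncomputable def vt3_5_0010 : Tr VStep :=
  .node (.node (.node (.node (.node (.node (.node (.leaf (.root 1172)) (.leaf (.up 5 1327 1))) (.node (.leaf (.up 3 790 0)) (.leaf (.up 4 343 3)))) (.node (.node (.leaf (.up 5 1586 1)) (.leaf (.up 1 58 3))) (.node (.leaf (.up 2 530 1)) (.leaf (.up 4 177 2))))) (.node (.node (.node (.leaf (.up 1 24 1)) (.leaf (.up 3 442 2))) (.node (.leaf (.up 4 791 3)) (.leaf (.up 4 896 2)))) (.node (.node (.leaf (.up 5 1641 0)) (.leaf (.up 5 773 1))) (.node (.leaf (.up 4 753 2)) (.leaf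 (.up 2 1795 0)))))) (.node (.node (.node (.node (.leaf (.up 1 10 1)) (.leaf (.up 2 934 0))) (.node (.leaf (.up 2 1303 3)) (.leaf (.up 3 1365 3)))) (.node (.node (.leaf (.up 1 11 2)) (.leaf (.up 4 422 0))) (.node (.leaf (.up 2 204 0)) (.leaf (.up 5 1210 3))))) (.node (.node (.node (.leaf (.up 4 826 2)) (.leaf (.up 3 336 0))) (.node (.leaf (.up 1 58 0)) (.leaf (.up 2 1879 3)))) (.node (.node (.leaf (.up 4 1568 1)) (.leaf (.up 4 1594 3))) (.node (.leaf (.up 5 1099 2)) (.leaf (.up 5 1720 3))))))) (.node (.node (.node (.node (.node (.leaf (.root 244)) (.leaf (.up 3 1651 2))) (.node (.leaf (.up 3 115 2)) (.leaf (.up 3 794 3)))) (.node (.node (.leaf (.up 4 952 0)) (.leaf (.up 6 631 3))) (.node (.leaf (.up 2 1336 2)) (.leaf (.up 2 258 2))))) (.node (.node (.node (.leaf (.up 2 763 1)) (.leaf (.up 1 9 2))) (.node (.leaf (.up 5 346 3)) (.leaf (.up 2 2044 1)))) (.node (.node (.leaf (.up 3 193 1)) (.leaf (.up 3 1346 2))) (.node (.leaf (.up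 4 1249 1)) (.leaf (.up 1 36 0)))))) (.node (.node (.node (.node (.leaf (.up 4 745 1)) (.leaf (.up 4 201 2))) (.node (.leaf (.up 2 1515 0)) (.leaf (.up 2 2030 1)))) (.node (.node (.leaf (.up 3 610 0)) (.leaf (.up 4 1665 0))) (.node (.leaf (.up 4 2027 0)) (.leaf (.up 4 1783 3))))) (.node (.node (.node (.leaf (.up 3 649 2)) (.leaf (.up 2 1432 3))) (.node (.leaf (.up 3 1821 0)) (.leaf (.up 2 1306 3)))) (.node (.node (.leaf (.up 4 1219 1)) (.leaf (.up 2 1016 2))) (.node (.leaf (.up 5 1528 2)) (.leaf (.up 3 510 0)))))))) (.node (.node (.node (.node (.node (.node (.leaf (.up 3 1179 0)) (.leaf (.up 4 1844 3))) (.node (.leaf (.up 3 274 0)) (.leaf (.up 4 1974 3)))) (.node (.node (.leaf (.up 1 125 1)) (.leaf (.up 5 346 1))) (.node (.leaf (.up 3 1117 1)) (.leaf (.up 3 2033 0))))) (.node (.node (.node (.leaf (.up 3 1396 3)) (.leaf (.up 3 654 0))) (.node (.leaf (.up 4 374 2)) (.leaf (.up 3 1460 3)))) (.node (.node (.leaf (.up 3 1179 3)) (.leaf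 (.up 1 142 0))) (.node (.leaf (.up 5 1085 2)) (.leaf (.up 3 1287 0)))))) (.node (.node (.node (.node (.leaf (.up 2 908 2)) (.leaf (.up 3 418 0))) (.node (.leaf (.up 4 613 1)) (.leaf (.up 4 1067 0)))) (.node (.node (.leaf (.up 5 667 3)) (.leaf (.up 3 765 2))) (.node (.leaf (.up 4 95 1)) (.leaf (.up 3 1579 0))))) (.node (.node (.node (.leaf (.up 4 374 3)) (.leaf (.up 4 308 3))) (.node (.leaf (.up 4 574 0)) (.leaf (.up 4 1757 0)))) (.node (.node (.leaf (.up 3 189 2)) (.leaf (.up 3 1159 2))) (.node (.leaf (.up 3 647 2)) (.leaf (.up 3 1725 2))))))) (.node (.node (.node (.node (.node (.leaf (.root 1754)) (.leaf (.up 4 191 2))) (.node (.leaf (.up 3 1727 2)) (.leaf (.up 3 726 0)))) (.node (.node (.leaf (.up 3 444 0)) (.leaf (.up 4 1174 3))) (.node (.leaf (.up 5 1012 2)) (.leaf (.up 3 214 0))))) (.node (.node (.node (.leaf (.up 4 767 2)) (.leaf (.up 6 1915 3))) (.node (.leaf (.up 4 197 2)) (.leaf (.up 1 32 0)))) (.node (.node (.leaf (.up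 3 1678 1)) (.leaf (.up 2 1961 0))) (.node (.leaf (.up 5 686 1)) (.leaf (.up 4 436 2)))))) (.node (.node (.node (.node (.leaf (.up 4 313 3)) (.leaf (.up 2 1669 0))) (.node (.leaf (.up 3 5 2)) (.leaf (.up 3 780 0)))) (.node (.node (.leaf (.up 3 214 3)) (.leaf (.up 2 1157 0))) (.node (.leaf (.up 2 700 1)) (.leaf (.up 4 22 3))))) (.node (.node (.node (.leaf (.up 4 144 0)) (.leaf (.up 3 1139 0))) (.node (.leaf (.up 4 1305 0)) (.leaf (.up 4 1019 3)))) (.node (.node (.leaf (.up 5 656 0)) (.leaf (.up 3 1651 0))) (.node (.leaf (.up 4 1817 0)) (.leaf (.up 2 1018 0))))))))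

noncomputable def vt3_5_0011 : Tr VStep :=
  .node (.node (.node (.node (.node (.node (.node (.leaf (.up 2 1394 0)) (.leaf (.up 3 1139 1))) (.node (.leaf (.up 4 372 1)) (.leaf (.up 5 1048 0)))) (.node (.node (.leaf (.up 3 1902 1)) (.leaf (.up 4 46 2))) (.node (.leaf (.up 2 763 0)) (.leaf (.up 3 617 1))))) (.node (.node (.node (.leaf (.up 2 324 1)) (.leaf (.up 3 799 2))) (.node (.leaf (.up 4 525 0)) (.leaf (.up 5 1251 3)))) (.node (.node (.leaf (.up 4 894 1)) (.leaf (.up 5 1422 3))) (.node (.leaf (.up 1 13 0)) (.leaf (.up 4 1134 2)))))) (.node (.node (.node (.node (.leaf (.up 4 342 1)) (.leaf (.up 5 609 3))) (.node (.leaf (.up 4 673 3)) (.leaf (.up 2 1105 1)))) (.node (.node (.leaf (.up 5 686 2)) (.leaf (.up 4 587 0))) (.node (.leaf (.up 4 1868 1)) (.leaf (.up 3 780 3))))) (.node (.node (.node (.leaf (.up 1 33 3)) (.leaf (.up 5 1121 1))) (.node (.leaf (.up 3 163 3)) (.leaf (.up 3 65 1)))) (.node (.node (.leaf (.up 3 1118 0)) (.leaf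 (.up 3 189 0))) (.node (.leaf (.up 6 332 3)) (.leaf (.up 5 635 1))))))) (.node (.node (.node (.node (.node (.leaf (.up 4 1975 1)) (.leaf (.up 3 1238 2))) (.node (.leaf (.up 3 726 2)) (.leaf (.up 4 688 1)))) (.node (.node (.leaf (.up 2 1447 2)) (.leaf (.up 4 413 2))) (.node (.leaf (.up 3 429 1)) (.leaf (.up 3 935 2))))) (.node (.node (.node (.leaf (.up 3 163 0)) (.leaf (.up 3 684 2))) (.node (.leaf (.up 2 1322 0)) (.leaf (.up 4 457 0)))) (.node (.node (.leaf (.up 3 1921 3)) (.leaf (.up 2 2023 2))) (.node (.leaf (.up 2 1795 3)) (.leaf (.up 4 969 0)))))) (.node (.node (.node (.node (.leaf (.up 3 911 0)) (.leaf (.up 3 620 2))) (.node (.leaf (.up 2 1542 0)) (.leaf (.up 1 86 2)))) (.node (.node (.leaf (.up 2 797 2)) (.leaf (.up 2 1831 2))) (.node (.leaf (.up 4 295 2)) (.leaf (.up 4 229 0))))) (.node (.node (.node (.leaf (.up 3 620 3)) (.leaf (.up 3 1046 2))) (.node (.leaf (.up 3 901 1)) (.leaf (.up 3 684 3)))) (.node (.node (.leaf (.up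 2 1439 1)) (.leaf (.up 2 1208 1))) (.node (.leaf (.up 3 1776 0)) (.leaf (.up 3 531 0)))))))) (.node (.node (.node (.node (.node (.node (.leaf (.up 2 192 3)) (.leaf (.up 3 917 0))) (.node (.leaf (.up 4 767 0)) (.leaf (.up 1 0 3)))) (.node (.node (.leaf (.up 5 303 3)) (.leaf (.up 1 6 1))) (.node (.leaf (.up 2 255 0)) (.leaf (.up 2 495 3))))) (.node (.node (.node (.leaf (.up 3 1408 0)) (.leaf (.up 3 355 0))) (.node (.leaf (.up 1 9 0)) (.leaf (.up 3 1258 0)))) (.node (.node (.leaf (.up 2 1329 1)) (.leaf (.up 3 867 0))) (.node (.leaf (.up 4 521 0)) (.leaf (.up 4 1005 3)))))) (.node (.node (.node (.node (.leaf (.up 3 297 2)) (.leaf (.up 2 1598 1))) (.node (.leaf (.up 5 1088 3)) (.leaf (.up 3 1990 0)))) (.node (.node (.leaf (.up 2 1315 1)) (.leaf (.up 4 79 0))) (.node (.leaf (.up 5 1624 2)) (.leaf (.up 1 36 1))))) (.node (.node (.node (.leaf (.root 185)) (.leaf (.up 3 185 0))) (.node (.leaf (.up 5 1385 2)) (.leaf (.up 3 1328 0)))) (.node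 (.node (.leaf (.up 3 536 2)) (.leaf (.up 3 697 0))) (.node (.leaf (.up 3 979 0)) (.leaf (.up 5 1048 2))))))) (.node (.node (.node (.node (.node (.leaf (.up 4 653 3)) (.leaf (.up 4 223 1))) (.node (.leaf (.up 4 527 3)) (.leaf (.up 1 32 2)))) (.node (.node (.leaf (.up 4 962 1)) (.leaf (.up 3 1714 0))) (.node (.leaf (.up 6 992 3)) (.leaf (.up 5 930 3))))) (.node (.node (.node (.leaf (.up 3 90 2)) (.leaf (.up 2 205 3))) (.node (.leaf (.up 1 13 3)) (.leaf (.up 4 79 3)))) (.node (.node (.leaf (.up 2 167 0)) (.leaf (.up 3 1092 0))) (.node (.leaf (.up 3 1326 0)) (.leaf (.up 4 785 2)))))) (.node (.node (.node (.node (.leaf (.up 4 1530 1)) (.leaf (.up 3 1741 3))) (.node (.leaf (.up 4 1026 0)) (.leaf (.up 2 253 1)))) (.node (.node (.leaf (.up 3 1489 2)) (.leaf (.up 3 1896 0))) (.node (.leaf (.up 4 2027 2)) (.leaf (.up 3 737 0))))) (.node (.node (.node (.leaf (.up 3 893 0)) (.leaf (.up 2 205 1))) (.node (.leaf (.up 5 1039 3)) (.leaf (.up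 3 1261 1)))) (.node (.node (.leaf (.up 3 381 0)) (.leaf (.up 3 759 1))) (.node (.leaf (.up 3 2032 1)) (.leaf (.up 1 23 0))))))))

noncomputable def vt3_5_001 : Tr VStep := .node vt3_5_0010 vt3_5_0011

noncomputable def vt3_5_00 : Tr VStep := .node vt3_5_000 vt3_5_001

noncomputable def vt3_5_0100 : Tr VStep :=
  .node (.node (.node (.node (.node (.node (.node (.leaf (.root 2002)) (.leaf (.up 3 1489 1))) (.node (.leaf (.up 3 214 1)) (.leaf (.up 5 497 1)))) (.node (.node (.leaf (.up 1 16 0)) (.leaf (.up 4 798 2))) (.node (.leaf (.up 2 1433 0)) (.leaf (.up 4 378 0))))) (.node (.node (.node (.leaf (.up 3 230 0)) (.leaf (.up 1 47 2))) (.node (.leaf (.up 3 1182 3)) (.leaf (.up 3 1505 1)))) (.node (.node (.leaf (.up 6 1523 3)) (.leaf (.up 4 1541 0))) (.node (.leaf (.up 4 1903 0)) (.leaf (.up 2 908 0)))))) (.node (.node (.node (.node (.leaf (.up 5 970 0)) (.leaf (.up 4 606 3))) (.node (.leaf (.up 3 1603 0)) (.leaf (.up 4 725 2)))) (.node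 (.node (.leaf (.up 3 718 1)) (.leaf (.up 2 1001 1))) (.node (.leaf (.up 5 881 3)) (.leaf (.up 3 1993 1))))) (.node (.node (.node (.leaf (.up 1 30 3)) (.leaf (.up 4 1475 1))) (.node (.leaf (.up 3 1205 0)) (.leaf (.up 1 86 0)))) (.node (.node (.leaf (.up 4 2020 2)) (.leaf (.up 3 435 3))) (.node (.leaf (.up 3 371 3)) (.leaf (.up 5 305 3))))))) (.node (.node (.node (.node (.node (.leaf (.up 2 1335 0)) (.leaf (.up 3 1041 3))) (.node (.leaf (.up 4 190 0)) (.leaf (.up 3 1117 0)))) (.node (.node (.leaf (.up 4 1468 3)) (.leaf (.up 3 1534 3))) (.node (.leaf (.up 1 15 1)) (.leaf (.up 4 1404 3))))) (.node (.node (.node (.leaf (.up 3 1446 2)) (.leaf (.up 2 1555 3))) (.node (.leaf (.up 3 584 0)) (.leaf (.up 2 934 2)))) (.node (.node (.leaf (.up 2 237 2)) (.leaf (.up 2 2044 3))) (.node (.leaf (.up 4 72 0)) (.leaf (.up 2 1336 1)))))) (.node (.node (.node (.node (.leaf (.up 3 1261 0)) (.leaf (.up 3 348 2))) (.node (.leaf (.up 2 1884 2)) (.leaf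 (.up 4 870 2)))) (.node (.node (.leaf (.up 1 45 1)) (.leaf (.up 3 526 0))) (.node (.leaf (.up 3 535 2)) (.leaf (.up 2 1322 1))))) (.node (.node (.node (.leaf (.up 3 796 2)) (.leaf (.up 3 1830 2))) (.node (.leaf (.up 3 294 2)) (.leaf (.up 2 1308 2)))) (.node (.node (.leaf (.up 4 956 3)) (.leaf (.up 1 248 0))) (.node (.leaf (.up 4 29 1)) (.leaf (.up 5 87 2)))))))) (.node (.node (.node (.node (.node (.node (.leaf (.root 240)) (.leaf (.up 2 926 1))) (.node (.leaf (.up 1 125 3)) (.leaf (.up 4 1982 1)))) (.node (.node (.leaf (.up 2 272 3)) (.leaf (.up 4 1783 0))) (.node (.leaf (.up 2 1187 1)) (.leaf (.up 4 894 0))))) (.node (.node (.node (.leaf (.up 3 765 3)) (.leaf (.up 2 1537 0))) (.node (.leaf (.up 3 649 1)) (.leaf (.up 3 573 3)))) (.node (.node (.leaf (.up 3 786 3)) (.leaf (.up 3 1025 0))) (.node (.leaf (.up 5 912 3)) (.leaf (.up 4 404 1)))))) (.node (.node (.node (.node (.leaf (.up 4 462 0)) (.leaf (.up 3 1325 0))) (.node (.leaf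 (.up 4 35 2)) (.leaf (.up 3 164 0)))) (.node (.node (.leaf (.up 4 1153 1)) (.leaf (.up 3 1837 0))) (.node (.leaf (.up 4 1607 0)) (.leaf (.up 5 1490 3))))) (.node (.node (.node (.leaf (.up 5 1791 3)) (.leaf (.up 2 908 1))) (.node (.leaf (.up 4 1625 2)) (.leaf (.up 2 611 2)))) (.node (.node (.leaf (.up 5 1808 3)) (.leaf (.up 4 1499 0))) (.node (.leaf (.up 3 786 2)) (.leaf (.up 3 1832 2))))))) (.node (.node (.node (.node (.node (.leaf (.root 1372)) (.leaf (.up 3 381 1))) (.node (.leaf (.up 3 1146 1)) (.leaf (.up 4 1625 0)))) (.node (.node (.leaf (.up 3 608 1)) (.leaf (.up 3 799 3))) (.node (.leaf (.up 5 609 2)) (.leaf (.up 3 1895 1))))) (.node (.node (.node (.leaf (.up 5 1098 1)) (.leaf (.up 3 294 0))) (.node (.leaf (.up 1 50 3)) (.leaf (.up 2 1386 2)))) (.node (.node (.leaf (.up 4 351 3)) (.leaf (.up 2 1879 1))) (.node (.leaf (.up 5 592 1)) (.leaf (.up 1 33 2)))))) (.node (.node (.node (.node (.leaf (.up 4 1769 0)) (.leaf (.up 3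 1407 1))) (.node (.leaf (.up 5 1586 3)) (.leaf (.up 3 1450 2)))) (.node (.node (.leaf (.up 5 1634 1)) (.leaf (.up 1 10 0))) (.node (.leaf (.up 4 352 0)) (.leaf (.up 4 225 2))))) (.node (.node (.node (.leaf (.up 4 72 1)) (.leaf (.up 2 367 1))) (.node (.leaf (.up 5 1128 1)) (.leaf (.up 3 1359 1)))) (.node (.node (.leaf (.up 5 1373 3)) (.leaf (.up 6 1311 3))) (.node (.leaf (.up 4 673 2)) (.leaf (.up 2 1909 0))))))))

noncomputable def vt3_5_0101 : Tr VStep :=
  .node (.node (.node (.node (.node (.node (.node (.leaf (.root 1944)) (.leaf (.up 3 1310 0))) (.node (.leaf (.up 3 1140 0)) (.leaf (.up 4 360 3)))) (.node (.node (.leaf (.up 2 1021 0)) (.leaf (.up 3 5 3))) (.node (.leaf (.up 3 944 1)) (.leaf (.up 2 663 0))))) (.node (.node (.node (.leaf (.up 3 442 1)) (.leaf (.up 5 157 1))) (.node (.leaf (.up 4 1666 0)) (.leaf (.up 5 609 0)))) (.node (.node (.leaf (.up 4 896 1)) (.leaf (.up 4 1512 0))) (.node (.leaf (.up 2 1154 0)) (.leaf (.up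 3 1671 1)))))) (.node (.node (.node (.node (.leaf (.up 2 424 1)) (.leaf (.up 4 1512 3))) (.node (.leaf (.up 3 1320 3)) (.leaf (.up 2 1386 3)))) (.node (.node (.leaf (.up 6 1093 3)) (.leaf (.up 3 693 1))) (.node (.leaf (.up 2 1970 1)) (.leaf (.up 2 1157 3))))) (.node (.node (.node (.leaf (.up 1 10 2)) (.leaf (.up 5 1586 0))) (.node (.leaf (.up 3 1880 0)) (.leaf (.up 3 1896 3)))) (.node (.node (.leaf (.up 2 209 0)) (.leaf (.up 4 1541 3))) (.node (.leaf (.up 4 1368 0)) (.leaf (.up 3 1671 3))))))) (.node (.node (.node (.node (.node (.leaf (.up 2 1865 1)) (.leaf (.up 3 569 0))) (.node (.leaf (.up 5 835 2)) (.leaf (.up 4 1968 0)))) (.node (.node (.leaf (.up 4 522 3)) (.leaf (.up 1 8 2))) (.node (.leaf (.up 4 648 3)) (.leaf (.up 4 714 3))))) (.node (.node (.node (.leaf (.up 2 1795 2)) (.leaf (.up 6 421 3))) (.node (.leaf (.up 4 1337 2)) (.leaf (.up 3 1350 0)))) (.node (.node (.leaf (.up 1 8 3)) (.leaf (.up 2 68 1))) (.node (.leaf (.up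 3 933 0)) (.leaf (.up 3 1862 0)))))) (.node (.node (.node (.node (.leaf (.up 2 2023 3)) (.leaf (.up 3 995 0))) (.node (.leaf (.up 3 649 0)) (.leaf (.up 2 1831 3)))) (.node (.node (.leaf (.up 3 1280 0)) (.leaf (.up 1 86 1))) (.node (.leaf (.up 4 137 0)) (.leaf (.up 4 1142 1))))) (.node (.node (.node (.leaf (.up 3 441 2)) (.leaf (.up 2 1447 3))) (.node (.leaf (.up 2 1383 3)) (.leaf (.up 4 1180 0)))) (.node (.node (.leaf (.up 2 1377 1)) (.leaf (.up 3 789 0))) (.node (.leaf (.up 4 639 0)) (.leaf (.up 4 1692 0)))))))) (.node (.node (.node (.node (.node (.node (.leaf (.root 428)) (.leaf (.up 3 1803 3))) (.node (.leaf (.up 3 1995 3)) (.leaf (.up 1 6 2)))) (.node (.node (.leaf (.up 2 1702 3)) (.leaf (.up 1 248 1))) (.node (.leaf (.up 2 1136 0)) (.leaf (.up 3 1357 2))))) (.node (.node (.node (.leaf (.up 3 1355 3)) (.leaf (.up 3 1746 1))) (.node (.leaf (.up 2 582 2)) (.leaf (.up 3 1660 2)))) (.node (.node (.leaf (.up 2 1188 3)) (.leaf (.up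 4 2028 0))) (.node (.leaf (.up 2 495 1)) (.leaf (.up 4 823 2)))))) (.node (.node (.node (.node (.leaf (.up 2 2023 1)) (.leaf (.up 2 1728 0))) (.node (.leaf (.up 4 969 3)) (.leaf (.up 5 907 3)))) (.node (.node (.leaf (.up 4 35 0)) (.leaf (.up 4 1274 1))) (.node (.leaf (.up 3 1450 0)) (.leaf (.up 2 218 1))))) (.node (.node (.node (.leaf (.up 1 213 0)) (.leaf (.up 4 1078 0))) (.node (.leaf (.up 3 1276 2)) (.leaf (.up 3 1776 1)))) (.node (.node (.leaf (.up 4 725 0)) (.leaf (.up 4 228 3))) (.node (.leaf (.up 1 36 3)) (.leaf (.up 4 959 0))))))) (.node (.node (.node (.node (.node (.leaf (.root 599)) (.leaf (.up 1 33 1))) (.node (.leaf (.up 4 343 0)) (.leaf (.up 3 437 2)))) (.node (.node (.leaf (.up 4 766 2)) (.leaf (.up 3 573 0))) (.node (.leaf (.up 3 1820 1)) (.leaf (.up 3 1595 1))))) (.node (.node (.node (.leaf (.up 4 1576 0)) (.leaf (.up 4 715 0))) (.node (.leaf (.up 3 1924 3)) (.leaf (.up 1 17 1)))) (.node (.node (.leaf (.up 2 1064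 0)) (.leaf (.up 4 190 2))) (.node (.leaf (.up 3 780 1)) (.leaf (.up 3 1346 0)))))) (.node (.node (.node (.node (.leaf (.up 2 1284 0)) (.leaf (.up 2 324 3))) (.node (.leaf (.up 4 141 0)) (.leaf (.up 1 3 1)))) (.node (.node (.leaf (.up 3 1092 2)) (.leaf (.up 4 1561 1))) (.node (.leaf (.up 4 653 0)) (.leaf (.up 1 41 3))))) (.node (.node (.node (.leaf (.up 2 1909 2)) (.leaf (.up 3 847 2))) (.node (.leaf (.up 3 902 3)) (.leaf (.up 6 964 3)))) (.node (.node (.leaf (.up 4 574 2)) (.leaf (.up 3 681 3))) (.node (.leaf (.up 1 4 2)) (.leaf (.up 3 1176 0))))))))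

noncomputable def vt3_5_010 : Tr VStep := .node vt3_5_0100 vt3_5_0101

noncomputable def vt3_5_0110 : Tr VStep :=
  .node (.node (.node (.node (.node (.node (.node (.leaf (.root 352)) (.leaf (.up 4 473 1))) (.node (.leaf (.up 3 262 0)) (.leaf (.up 1 26 2)))) (.node (.node (.leaf (.up 2 708 1)) (.leaf (.up 3 995 1))) (.node (.leaf (.up 1 248 3)) (.leaf (.up 4 1987 1))))) (.node (.node (.node (.leaf (.up 4 1262 1)) (.leaf (.up 3 666 0))) (.node (.leaf (.up 3 789 3)) (.leaf (.up 3 1811 0)))) (.node (.node (.leaf (.up 5 1145 0)) (.leaf (.up 4 2035 1))) (.node (.leaf (.up 2 1809 2)) (.leaf (.up 3 979 1)))))) (.node (.node (.node (.node (.leaf (.up 3 1365 0)) (.leaf (.up 4 1178 2))) (.node (.leaf (.up 1 220 0)) (.leaf (.up 4 507 1)))) (.node (.node (.leaf (.up 2 1144 3)) (.leaf (.up 2 1082 3))) (.node (.leaf (.up 3 2001 2)) (.leaf (.up 2 1208 3))))) (.node (.node (.node (.leaf (.up 4 1754 2)) (.leaf (.up 3 832 0))) (.node (.leaf (.up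 3 1248 2)) (.leaf (.up 2 218 2)))) (.node (.node (.leaf (.up 2 1658 3)) (.leaf (.up 3 1592 3))) (.node (.leaf (.up 3 42 0)) (.leaf (.up 2 1722 3))))))) (.node (.node (.node (.node (.node (.leaf (.root 595)) (.leaf (.up 2 1867 0))) (.node (.leaf (.up 4 1569 0)) (.leaf (.up 4 792 3)))) (.node (.node (.leaf (.up 2 424 0)) (.leaf (.up 3 256 1))) (.node (.leaf (.up 2 1057 0)) (.leaf (.up 2 194 0))))) (.node (.node (.node (.leaf (.up 5 474 3)) (.leaf (.up 3 1469 0))) (.node (.leaf (.up 2 344 3)) (.leaf (.up 1 52 0)))) (.node (.node (.leaf (.up 3 1176 2)) (.leaf (.up 2 1296 1))) (.node (.leaf (.up 1 23 1)) (.leaf (.up 4 304 1)))))) (.node (.node (.node (.node (.leaf (.up 5 2010 3)) (.leaf (.up 4 1321 2))) (.node (.leaf (.up 3 1880 3)) (.leaf (.up 3 1811 2)))) (.node (.node (.leaf (.up 4 1589 3)) (.leaf (.up 3 1169 0))) (.node (.leaf (.up 3 5 1)) (.leaf (.up 3 280 0))))) (.node (.node (.node (.leaf (.up 2 132 0)) (.leaf (.up 5 1434 3)))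 (.node (.leaf (.up 5 1583 1)) (.leaf (.up 2 1800 1)))) (.node (.node (.leaf (.up 5 53 1)) (.leaf (.up 3 274 1))) (.node (.leaf (.up 1 24 2)) (.leaf (.up 4 1330 1)))))))) (.node (.node (.node (.node (.node (.node (.leaf (.up 3 214 2)) (.leaf (.up 2 616 0))) (.node (.leaf (.up 3 770 0)) (.leaf (.up 3 2017 0)))) (.node (.node (.leaf (.up 3 1163 0)) (.leaf (.up 3 1452 1))) (.node (.leaf (.up 2 258 0)) (.leaf (.up 3 1505 0))))) (.node (.node (.node (.leaf (.up 4 1149 0)) (.leaf (.up 3 902 1))) (.node (.leaf (.up 4 1174 2)) (.leaf (.up 2 1303 0)))) (.node (.node (.leaf (.up 4 1177 3)) (.leaf (.up 3 444 1))) (.node (.leaf (.up 5 1012 0)) (.leaf (.up 4 1511 2)))))) (.node (.node (.node (.node (.leaf (.root 1720)) (.leaf (.up 6 820 3))) (.node (.leaf (.up 5 1012 3)) (.leaf (.up 3 1595 0)))) (.node (.node (.leaf (.up 3 665 3)) (.leaf (.up 3 731 3))) (.node (.leaf (.up 3 1193 1)) (.leaf (.up 3 1319 2))))) (.node (.node (.node (.leaf (.up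 2 1447 0)) (.leaf (.up 2 324 0))) (.node (.leaf (.up 2 643 1)) (.leaf (.up 4 436 3)))) (.node (.node (.leaf (.up 4 1959 0)) (.leaf (.up 3 836 0))) (.node (.leaf (.up 1 25 3)) (.leaf (.up 3 1741 0))))))) (.node (.node (.node (.node (.node (.leaf (.up 4 428 0)) (.leaf (.up 3 1359 0))) (.node (.leaf (.up 4 1467 3)) (.leaf (.up 3 341 1)))) (.node (.node (.leaf (.up 3 940 0)) (.leaf (.up 3 1871 0))) (.node (.leaf (.up 3 584 1)) (.leaf (.up 3 1046 3))))) (.node (.node (.node (.leaf (.up 4 858 0)) (.leaf (.up 6 1913 3))) (.node (.leaf (.up 4 1122 1)) (.leaf (.up 4 1349 1)))) (.node (.node (.leaf (.up 5 346 0)) (.leaf (.up 3 1686 3))) (.node (.leaf (.up 4 1622 3)) (.leaf (.up 3 48 0)))))) (.node (.node (.node (.node (.leaf (.up 3 315 3)) (.leaf (.up 3 997 2))) (.node (.leaf (.up 2 1136 1)) (.leaf (.up 3 479 2)))) (.node (.node (.leaf (.up 3 630 0)) (.leaf (.up 4 845 1))) (.node (.leaf (.up 1 86 3)) (.leaf (.up 3 796 0))))) (.node (.node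 (.node (.leaf (.up 4 640 0)) (.leaf (.up 2 1439 2))) (.node (.leaf (.up 4 1801 0)) (.leaf (.up 4 1017 3)))) (.node (.node (.leaf (.up 2 1658 1)) (.leaf (.up 5 660 3))) (.node (.leaf (.up 5 602 1)) (.leaf (.up 3 893 1))))))))

noncomputable def vt3_5_0111 : Tr VStep :=
  .node (.node (.node (.node (.node (.node (.node (.leaf (.up 3 418 1)) (.leaf (.up 1 133 1))) (.node (.leaf (.up 2 1669 2)) (.leaf (.up 4 1189 1)))) (.node (.node (.leaf (.up 4 920 1)) (.leaf (.up 4 1486 2))) (.node (.leaf (.up 4 1976 1)) (.leaf (.up 3 1032 0))))) (.node (.node (.node (.leaf (.root 2110)) (.leaf (.up 4 375 0))) (.node (.leaf (.up 2 1187 3)) (.leaf (.up 2 1221 2)))) (.node (.node (.leaf (.up 3 1928 1)) (.leaf (.up 4 1711 1))) (.node (.leaf (.up 3 541 0)) (.leaf (.up 4 398 2)))))) (.node (.node (.node (.node (.leaf (.up 4 517 2)) (.leaf (.up 2 611 3))) (.node (.leaf (.up 4 817 0)) (.leaf (.up 2 167 1)))) (.node (.node (.leaf (.up 2 1208 0)) (.leaf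 (.up 2 908 3))) (.node (.leaf (.up 3 1396 2)) (.leaf (.up 3 334 2))))) (.node (.node (.node (.leaf (.up 3 1102 0)) (.leaf (.up 3 97 3))) (.node (.leaf (.up 2 1605 2)) (.leaf (.up 4 639 2)))) (.node (.node (.leaf (.up 3 1614 0)) (.leaf (.up 3 685 0))) (.node (.leaf (.up 3 334 3)) (.leaf (.up 3 1828 0))))))) (.node (.node (.node (.node (.node (.leaf (.up 3 833 1)) (.leaf (.up 4 310 2))) (.node (.leaf (.up 4 1889 1)) (.leaf (.up 3 780 2)))) (.node (.node (.leaf (.up 4 379 1)) (.leaf (.up 2 1702 0))) (.node (.leaf (.up 6 1283 3)) (.leaf (.up 4 1607 2))))) (.node (.node (.node (.leaf (.up 2 1644 3)) (.leaf (.up 4 1582 3))) (.node (.leaf (.up 4 1850 0)) (.leaf (.up 5 1708 3)))) (.node (.node (.leaf (.up 4 1923 3)) (.leaf (.up 5 1985 3))) (.node (.leaf (.up 4 331 1)) (.leaf (.up 4 61 2)))))) (.node (.node (.node (.node (.leaf (.up 3 415 0)) (.leaf (.up 3 1636 1))) (.node (.leaf (.up 3 867 1)) (.leaf (.up 3 580 1)))) (.node (.node (.leaf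 (.up 5 1789 2)) (.leaf (.up 3 1118 1))) (.node (.leaf (.up 4 345 1)) (.leaf (.up 2 323 3))))) (.node (.node (.node (.leaf (.up 4 622 3)) (.leaf (.up 3 502 2))) (.node (.leaf (.up 3 1907 1)) (.leaf (.up 5 686 3)))) (.node (.node (.leaf (.up 3 361 0)) (.leaf (.up 5 78 1))) (.node (.leaf (.up 3 1248 0)) (.leaf (.up 1 3 0)))))))) (.node (.node (.node (.node (.node (.node (.leaf (.root 1126)) (.leaf (.up 4 1738 1))) (.node (.leaf (.up 4 973 1)) (.leaf (.up 1 2 3)))) (.node (.node (.leaf (.up 4 1495 1)) (.leaf (.up 2 367 3))) (.node (.leaf (.up 3 503 1)) (.leaf (.up 5 493 3))))) (.node (.node (.node (.leaf (.up 2 1021 1)) (.leaf (.up 2 883 0))) (.node (.leaf (.up 4 1587 2)) (.leaf (.up 4 521 2)))) (.node (.node (.leaf (.up 4 455 1)) (.leaf (.up 3 371 0))) (.node (.leaf (.up 1 25 0)) (.leaf (.up 4 1858 2)))))) (.node (.node (.node (.node (.leaf (.up 3 1212 0)) (.leaf (.up 2 1154 3))) (.node (.leaf (.up 3 1999 1)) (.leaf (.up 4 1768 1))))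 (.node (.node (.leaf (.up 5 1327 3)) (.leaf (.up 3 607 0))) (.node (.leaf (.up 4 952 2)) (.leaf (.up 3 1922 2))))) (.node (.node (.node (.leaf (.up 2 1730 3)) (.leaf (.up 3 681 0))) (.node (.leaf (.up 4 137 2)) (.leaf (.up 6 1538 3)))) (.node (.node (.leaf (.up 3 1837 3)) (.leaf (.up 4 1903 3))) (.node (.leaf (.up 4 1967 3)) (.leaf (.up 2 194 1))))))) (.node (.node (.node (.node (.node (.leaf (.up 3 577 0)) (.leaf (.up 3 1698 0))) (.node (.leaf (.up 3 1992 0)) (.leaf (.up 1 9 1)))) (.node (.node (.leaf (.up 3 65 0)) (.leaf (.up 2 1555 1))) (.node (.leaf (.up 4 1201 2)) (.leaf (.up 4 563 1))))) (.node (.node (.node (.leaf (.up 3 183 0)) (.leaf (.up 4 57 1))) (.node (.leaf (.up 1 15 3)) (.leaf (.up 4 954 2)))) (.node (.node (.leaf (.up 2 354 3)) (.leaf (.up 4 288 3))) (.node (.leaf (.up 4 715 2)) (.leaf (.up 3 418 3)))))) (.node (.node (.node (.node (.leaf (.up 3 1677 3)) (.leaf (.up 3 1912 0))) (.node (.leaf (.up 5 1551 3)) (.leaf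 (.up 4 753 0)))) (.node (.node (.leaf (.up 3 1890 3)) (.leaf (.up 4 529 1))) (.node (.leaf (.up 3 1042 0)) (.leaf (.up 2 241 0))))) (.node (.node (.node (.leaf (.up 2 1167 3)) (.leaf (.up 4 1850 2))) (.node (.leaf (.up 3 1252 0)) (.leaf (.up 3 1280 2)))) (.node (.node (.leaf (.up 2 1376 3)) (.leaf (.up 2 625 2))) (.node (.leaf (.up 2 1506 3)) (.leaf (.up 5 1440 3))))))))

noncomputable def vt3_5_011 : Tr VStep := .node vt3_5_0110 vt3_5_0111

noncomputable def vt3_5_01 : Tr VStep := .node vt3_5_010 vt3_5_011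

noncomputable def vt3_5_0 : Tr VStep := .node vt3_5_00 vt3_5_01

noncomputable def vt3_5_1000 : Tr VStep :=
  .node (.node (.node (.node (.node (.node (.node (.leaf (.root 242)) (.leaf (.up 2 571 2))) (.node (.leaf (.up 3 1272 0)) (.leaf (.up 1 1 2)))) (.node (.node (.leaf (.up 3 842 2)) (.leaf (.up 3 1565 1))) (.node (.leaf (.up 3 794 1)) (.leaf (.up 3 573 1))))) (.node (.node (.node (.leaf (.up 2 272 1)) (.leaf (.up 3 193 3))) (.node (.leaf (.up 1 1 3)) (.leaf (.up 3 749 0)))) (.node (.node (.leaf (.up 3 364 3)) (.leaf (.up 3 266 2))) (.node (.leaf (.up 2 1038 0)) (.leaf (.up 2 237 0)))))) (.node (.node (.node (.node (.leaf (.up 2 258 1)) (.leaf (.up 2 1729 3))) (.node (.leaf (.up 2 1537 3)) (.leaf (.up 2 1029 1)))) (.node (.node (.leaf (.up 5 1900 3)) (.leaf (.up 3 458 2))) (.node (.leaf (.up 2 2030 3)) (.leaf (.up 4 1599 1))))) (.node (.node (.node (.leaf (.up 2 1729 2)) (.leaf (.up 2 763 2))) (.node (.leaf (.up 3 1027 3))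 (.leaf (.up 1 21 1)))) (.node (.node (.leaf (.up 3 93 0)) (.leaf (.up 4 1968 2))) (.node (.leaf (.up 3 1516 3)) (.leaf (.up 4 311 0))))))) (.node (.node (.node (.node (.node (.leaf (.root 1020)) (.leaf (.up 1 142 3))) (.node (.leaf (.up 4 1416 2)) (.leaf (.up 3 12 3)))) (.node (.node (.leaf (.up 4 761 2)) (.leaf (.up 5 1278 1))) (.node (.leaf (.up 3 479 0)) (.leaf (.up 3 222 1))))) (.node (.node (.node (.leaf (.up 3 718 3)) (.leaf (.up 5 67 0))) (.node (.leaf (.up 3 2003 1)) (.leaf (.up 3 526 3)))) (.node (.node (.leaf (.up 4 457 1)) (.leaf (.up 3 867 3))) (.node (.leaf (.up 3 931 3)) (.leaf (.up 2 993 3)))))) (.node (.node (.node (.node (.leaf (.up 2 993 1)) (.leaf (.up 4 1164 3))) (.node (.leaf (.up 4 517 0)) (.leaf (.up 2 1038 3)))) (.node (.node (.leaf (.up 6 1313 3)) (.leaf (.up 1 121 2))) (.node (.leaf (.up 3 5 0)) (.leaf (.up 3 1505 3))))) (.node (.node (.node (.leaf (.up 3 2033 1)) (.leaf (.up 3 1678 3))) (.node (.leaf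 (.up 2 243 0)) (.leaf (.up 4 1040 0)))) (.node (.node (.leaf (.up 2 1914 0)) (.leaf (.up 2 921 0))) (.node (.leaf (.up 1 3 2)) (.leaf (.up 2 204 1)))))))) (.node (.node (.node (.node (.node (.node (.leaf (.root 1252)) (.leaf (.up 2 616 1))) (.node (.leaf (.up 3 759 2)) (.leaf (.up 3 1741 2)))) (.node (.node (.leaf (.up 5 1423 3)) (.leaf (.up 3 444 2))) (.node (.leaf (.up 3 1365 1)) (.leaf (.up 1 31 0))))) (.node (.node (.node (.leaf (.up 4 1719 2)) (.leaf (.up 2 1376 0))) (.node (.leaf (.up 3 1760 3)) (.leaf (.up 3 1698 3)))) (.node (.node (.leaf (.up 3 1933 3)) (.leaf (.up 3 1999 3))) (.node (.leaf (.up 3 1807 3)) (.leaf (.up 4 1532 2)))))) (.node (.node (.node (.node (.leaf (.up 3 687 0)) (.leaf (.up 1 32 3))) (.node (.leaf (.up 3 1830 0)) (.leaf (.up 4 586 1)))) (.node (.node (.leaf (.up 5 397 3)) (.leaf (.up 5 463 3))) (.node (.leaf (.up 3 262 2)) (.leaf (.up 3 453 0))))) (.node (.node (.node (.leaf (.up 1 13 2)) (.leaf (.up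 5 1210 0))) (.node (.leaf (.up 3 567 2)) (.leaf (.up 6 672 3)))) (.node (.node (.leaf (.up 3 911 3)) (.leaf (.up 2 1722 0))) (.node (.leaf (.up 3 1351 1)) (.leaf (.up 2 1120 1))))))) (.node (.node (.node (.node (.node (.leaf (.up 4 428 1)) (.leaf (.up 4 177 0))) (.node (.leaf (.up 3 836 2)) (.leaf (.up 2 1336 0)))) (.node (.node (.leaf (.up 4 1618 0)) (.leaf (.up 1 15 2))) (.node (.leaf (.up 3 987 0)) (.leaf (.up 4 1681 1))))) (.node (.node (.node (.leaf (.up 3 1700 0)) (.leaf (.up 3 1179 1))) (.node (.leaf (.up 3 1342 2)) (.leaf (.up 4 187 1)))) (.node (.node (.leaf (.up 2 1188 0)) (.leaf (.up 4 1697 1))) (.node (.leaf (.up 2 934 1)) (.leaf (.up 2 641 1)))))) (.node (.node (.node (.node (.leaf (.up 4 1416 0)) (.leaf (.up 3 621 3))) (.node (.leaf (.up 1 1 0)) (.leaf (.up 3 751 3)))) (.node (.node (.leaf (.up 3 1928 0)) (.leaf (.up 4 1715 1))) (.node (.leaf (.up 4 513 0)) (.leaf (.up 2 1167 2))))) (.node (.node (.node (.leaf (.up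 1 45 3)) (.leaf (.up 4 153 1))) (.node (.leaf (.up 3 759 0)) (.leaf (.up 2 237 3)))) (.node (.node (.leaf (.up 4 1269 2)) (.leaf (.up 4 413 0))) (.node (.leaf (.up 2 1956 1)) (.leaf (.up 2 258 3))))))))

noncomputable def vt3_5_1001 : Tr VStep :=
  .node (.node (.node (.node (.node (.node (.node (.leaf (.root 204)) (.leaf (.up 3 158 2))) (.node (.leaf (.up 3 1813 0)) (.leaf (.up 6 1527 3)))) (.node (.node (.leaf (.up 2 495 2)) (.leaf (.up 4 1178 3))) (.node (.leaf (.up 2 582 1)) (.leaf (.up 3 502 0))))) (.node (.node (.node (.leaf (.up 3 106 0)) (.leaf (.up 3 1911 3))) (.node (.leaf (.up 2 1507 0)) (.leaf (.up 3 256 0)))) (.node (.node (.leaf (.up 3 630 1)) (.leaf (.up 4 849 1))) (.node (.leaf (.up 3 2019 0)) (.leaf (.up 2 1562 3)))))) (.node (.node (.node (.node (.leaf (.up 3 309 3)) (.leaf (.up 4 375 3))) (.node (.leaf (.up 1 36 2)) (.leaf (.up 3 501 3)))) (.node (.node (.leaf (.up 2 218 3)) (.leaf (.up 4 152 3))) (.node (.leaf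 (.up 4 1604 1)) (.leaf (.up 1 26 3))))) (.node (.node (.node (.leaf (.up 3 1102 1)) (.leaf (.up 4 885 3))) (.node (.leaf (.up 3 949 3)) (.leaf (.up 2 218 0)))) (.node (.node (.leaf (.up 3 944 0)) (.leaf (.up 2 1875 0))) (.node (.leaf (.up 3 789 2)) (.leaf (.up 2 883 1))))))) (.node (.node (.node (.node (.node (.leaf (.root 1278)) (.leaf (.up 2 344 0))) (.node (.leaf (.up 1 50 0)) (.leaf (.up 4 791 2)))) (.node (.node (.leaf (.up 2 1157 1)) (.leaf (.up 3 1442 1))) (.node (.leaf (.up 4 1559 3)) (.leaf (.up 4 1628 2))))) (.node (.node (.node (.leaf (.up 3 687 1)) (.leaf (.up 2 1879 2))) (.node (.leaf (.up 2 708 0)) (.leaf (.up 3 1960 1)))) (.node (.node (.leaf (.up 3 1175 3)) (.leaf (.up 5 434 1))) (.node (.leaf (.up 3 1205 1)) (.leaf (.up 1 38 2)))))) (.node (.node (.node (.node (.leaf (.up 3 888 3)) (.leaf (.up 3 922 1))) (.node (.leaf (.up 2 1018 3)) (.leaf (.up 4 1291 0)))) (.node (.node (.leaf (.up 2 663 3)) (.leaf (.up 4 642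 0))) (.node (.leaf (.up 4 1244 2)) (.leaf (.up 3 230 2))))) (.node (.node (.node (.leaf (.up 4 378 3)) (.leaf (.up 4 628 0))) (.node (.leaf (.up 3 2029 2)) (.leaf (.up 3 442 3)))) (.node (.node (.leaf (.up 3 1175 0)) (.leaf (.up 4 215 3))) (.node (.leaf (.up 1 23 3)) (.leaf (.up 4 1692 2)))))))) (.node (.node (.node (.node (.node (.node (.leaf (.root 1102)) (.leaf (.up 4 1618 2))) (.node (.leaf (.up 4 1297 0)) (.leaf (.up 3 790 3)))) (.node (.node (.leaf (.up 1 41 1)) (.leaf (.up 3 793 2))) (.node (.leaf (.up 2 1809 0)) (.leaf (.up 3 1326 1))))) (.node (.node (.node (.leaf (.up 3 1042 2)) (.leaf (.up 3 1828 1))) (.node (.leaf (.up 2 2023 0)) (.leaf (.up 2 276 3)))) (.node (.node (.leaf (.up 4 59 3)) (.leaf (.up 1 121 3))) (.node (.leaf (.up 1 25 1)) (.leaf (.up 4 318 1)))))) (.node (.node (.node (.node (.leaf (.up 3 1234 2)) (.leaf (.up 4 232 2))) (.node (.leaf (.up 4 1878 3)) (.leaf (.up 3 790 1)))) (.node (.node (.leaf (.up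 3 1595 3)) (.leaf (.up 3 1953 0))) (.node (.leaf (.up 1 11 1)) (.leaf (.up 3 300 1))))) (.node (.node (.node (.leaf (.up 4 513 1)) (.leaf (.up 2 1428 3))) (.node (.leaf (.up 4 1569 1)) (.leaf (.up 4 1302 3)))) (.node (.node (.leaf (.up 3 2019 2)) (.leaf (.up 6 1147 3))) (.node (.leaf (.up 5 1085 0)) (.leaf (.up 3 222 0))))))) (.node (.node (.node (.node (.node (.leaf (.up 3 987 2)) (.leaf (.up 3 2017 2))) (.node (.leaf (.up 2 281 3)) (.leaf (.up 4 1499 2)))) (.node (.node (.leaf (.up 3 1471 0)) (.leaf (.up 3 348 0))) (.node (.leaf (.up 5 54 0)) (.leaf (.up 4 144 2))))) (.node (.node (.node (.leaf (.up 2 921 3)) (.leaf (.up 2 426 0))) (.node (.leaf (.up 2 192 0)) (.leaf (.up 2 857 3)))) (.node (.node (.leaf (.up 2 1865 0)) (.leaf (.up 3 1232 2))) (.node (.leaf (.up 4 762 1)) (.leaf (.up 5 989 1)))))) (.node (.node (.node (.node (.leaf (.root 2304)) (.leaf (.up 4 646 0))) (.node (.leaf (.up 4 1004 0)) (.leaf (.up 3 1807 0)))) (.node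 (.node (.leaf (.up 3 42 2)) (.leaf (.up 4 1040 2))) (.node (.leaf (.up 3 492 0)) (.leaf (.up 5 1578 2))))) (.node (.node (.node (.leaf (.up 3 795 2)) (.leaf (.up 3 453 1))) (.node (.leaf (.up 3 282 0)) (.leaf (.up 4 1509 1)))) (.node (.node (.leaf (.up 4 1652 3)) (.leaf (.up 3 624 0))) (.node (.leaf (.up 3 794 0)) (.leaf (.up 2 1716 3))))))))

noncomputable def vt3_5_100 : Tr VStep := .node vt3_5_1000 vt3_5_1001

noncomputable def vt3_5_1010 : Tr VStep :=
  .node (.node (.node (.node (.node (.node (.node (.leaf (.up 2 2030 0)) (.leaf (.up 1 47 1))) (.node (.leaf (.up 3 1320 1)) (.leaf (.up 3 1140 2)))) (.node (.node (.leaf (.up 4 1855 2)) (.leaf (.up 5 773 2))) (.node (.leaf (.up 4 103 0)) (.leaf (.up 4 1156 0))))) (.node (.node (.node (.leaf (.root 2428)) (.leaf (.up 1 52 2))) (.node (.leaf (.up 4 1930 3)) (.leaf (.up 1 31 1)))) (.node (.node (.leaf (.up 3 1816 0)) (.leaf (.up 3 1407 2))) (.node (.leaf (.up 2 1637 3)) (.leaf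 (.up 4 1861 2)))))) (.node (.node (.node (.node (.leaf (.up 4 1290 1)) (.leaf (.up 5 1069 1))) (.node (.leaf (.up 3 957 0)) (.leaf (.up 1 13 1)))) (.node (.node (.leaf (.up 4 231 3)) (.leaf (.up 3 1471 2))) (.node (.leaf (.up 4 959 2)) (.leaf (.up 3 567 1))))) (.node (.node (.node (.leaf (.up 3 282 1)) (.leaf (.up 1 33 0))) (.node (.leaf (.up 1 142 2)) (.leaf (.up 5 970 3)))) (.node (.node (.leaf (.up 2 1730 0)) (.leaf (.up 4 679 3))) (.node (.leaf (.up 3 843 0)) (.leaf (.up 3 1960 0))))))) (.node (.node (.node (.node (.node (.leaf (.up 2 1003 1)) (.leaf (.up 4 716 1))) (.node (.leaf (.up 3 1344 0)) (.leaf (.up 4 1479 2)))) (.node (.node (.leaf (.up 4 465 1)) (.leaf (.up 5 1578 0))) (.node (.leaf (.up 5 1578 3)) (.leaf (.up 3 931 0))))) (.node (.node (.node (.leaf (.up 3 1469 2)) (.leaf (.up 3 1287 3))) (.node (.leaf (.up 3 987 1)) (.leaf (.up 3 957 2)))) (.node (.node (.leaf (.up 5 1473 1)) (.leaf (.up 4 1244 0))) (.node (.leaf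 (.up 2 1064 3)) (.leaf (.up 3 341 0)))))) (.node (.node (.node (.node (.leaf (.up 5 1405 2)) (.leaf (.up 5 327 2))) (.node (.leaf (.up 3 1863 2)) (.leaf (.up 1 121 0)))) (.node (.node (.leaf (.up 5 54 2)) (.leaf (.up 3 2032 0))) (.node (.leaf (.up 3 552 3)) (.leaf (.up 4 618 3))))) (.node (.node (.node (.leaf (.up 3 997 0)) (.leaf (.up 5 1853 2))) (.node (.leaf (.up 2 1644 0)) (.leaf (.up 3 1287 2)))) (.node (.node (.leaf (.up 3 168 3)) (.leaf (.up 3 630 2))) (.node (.leaf (.up 2 1507 1)) (.leaf (.up 3 104 3)))))))) (.node (.node (.node (.node (.node (.node (.leaf (.root 426)) (.leaf (.up 3 265 0))) (.node (.leaf (.up 4 1666 2)) (.leaf (.up 3 576 1)))) (.node (.node (.leaf (.up 4 516 3)) (.leaf (.up 2 582 3))) (.node (.leaf (.up 2 611 0)) (.leaf (.up 2 708 3))))) (.node (.node (.node (.leaf (.up 3 1820 0)) (.leaf (.up 3 624 1))) (.node (.leaf (.up 1 248 2)) (.leaf (.up 3 297 3)))) (.node (.node (.leaf (.up 1 6 3)) (.leaf (.up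 2 68 3))) (.node (.leaf (.up 2 132 3)) (.leaf (.up 4 393 2)))))) (.node (.node (.node (.node (.leaf (.up 4 514 2)) (.leaf (.up 3 1592 2))) (.node (.leaf (.up 3 441 0)) (.leaf (.up 4 1026 2)))) (.node (.node (.leaf (.up 2 1542 3)) (.leaf (.up 2 883 2))) (.node (.leaf (.up 5 1668 3)) (.leaf (.up 2 1144 1))))) (.node (.node (.node (.leaf (.root 322)) (.leaf (.up 4 1650 1))) (.node (.leaf (.up 3 847 0)) (.leaf (.up 5 594 1)))) (.node (.node (.leaf (.up 4 1222 0)) (.leaf (.up 3 37 0))) (.node (.leaf (.up 3 777 2)) (.leaf (.up 3 1452 0))))))) (.node (.node (.node (.node (.node (.leaf (.up 4 422 3)) (.leaf (.up 4 1582 0))) (.node (.leaf (.up 5 292 3)) (.leaf (.up 3 163 1)))) (.node (.node (.leaf (.up 2 205 0)) (.leaf (.up 1 11 3))) (.node (.leaf (.up 5 958 1)) (.leaf (.up 3 665 1))))) (.node (.node (.node (.leaf (.up 4 59 0)) (.leaf (.up 2 998 3))) (.node (.leaf (.up 2 1428 1)) (.leaf (.up 5 868 3)))) (.node (.node (.leaf (.up 2 571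 0)) (.leaf (.up 3 681 1))) (.node (.leaf (.up 2 1970 0)) (.leaf (.up 1 58 2)))))) (.node (.node (.node (.node (.leaf (.up 3 945 2)) (.leaf (.up 3 1931 2))) (.node (.leaf (.up 4 1318 3)) (.leaf (.up 5 1380 3)))) (.node (.node (.leaf (.up 5 1099 3)) (.leaf (.up 4 699 1))) (.node (.leaf (.up 3 1182 0)) (.leaf (.up 1 125 0))))) (.node (.node (.node (.leaf (.up 3 481 0)) (.leaf (.up 3 1169 1))) (.node (.leaf (.up 3 1828 3)) (.leaf (.up 4 177 1)))) (.node (.node (.leaf (.up 2 993 0)) (.leaf (.up 5 1210 2))) (.node (.leaf (.up 3 940 1)) (.leaf (.up 3 651 0))))))))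

noncomputable def vt3_5_1011 : Tr VStep :=
  .node (.node (.node (.node (.node (.node (.node (.leaf (.root 1080)) (.leaf (.up 3 371 1))) (.node (.leaf (.up 3 1140 1)) (.leaf (.up 5 1385 0)))) (.node (.node (.leaf (.up 4 1539 0)) (.leaf (.up 4 785 3))) (.node (.leaf (.up 3 1614 1)) (.leaf (.up 3 922 2))))) (.node (.node (.node (.leaf (.up 3 1092 1)) (.leaf (.up 3 1379 1))) (.node (.leaf (.up 3 1169 2)) (.leaf (.up 2 323 1)))) (.node (.node (.leaf (.up 4 1269 0)) (.leaf (.up 4 22 0))) (.node (.leaf (.up 4 380 0)) (.leaf (.up 2 1439 0)))))) (.node (.node (.node (.node (.leaf (.up 4 1643 2)) (.leaf (.up 4 1788 3))) (.node (.leaf (.up 2 1596 3)) (.leaf (.up 5 1662 3)))) (.node (.node (.leaf (.up 2 1644 1)) (.leaf (.up 2 1867 1))) (.node (.leaf (.up 3 2003 3)) (.leaf (.up 4 1312 2))))) (.node (.node (.node (.leaf (.up 1 17 2)) (.leaf (.up 4 1067 2))) (.node (.leaf (.up 3 678 0)) (.leaf (.up 2 1605 0)))) (.node (.node (.leaf (.up 5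 1327 0)) (.leaf (.up 4 1297 3))) (.node (.leaf (.up 3 1489 3)) (.leaf (.up 4 858 2))))))) (.node (.node (.node (.node (.node (.leaf (.root 274)) (.leaf (.up 4 1368 2))) (.node (.leaf (.up 3 115 3)) (.leaf (.up 3 1890 2)))) (.node (.node (.leaf (.up 3 1065 2)) (.leaf (.up 2 426 1))) (.node (.leaf (.up 2 1555 2)) (.leaf (.up 2 553 2))))) (.node (.node (.node (.leaf (.up 3 1816 2)) (.leaf (.up 2 802 2))) (.node (.leaf (.up 2 625 3)) (.leaf (.up 3 280 2)))) (.node (.node (.leaf (.up 2 1181 1)) (.leaf (.up 5 1641 2))) (.node (.leaf (.up 2 926 3)) (.leaf (.up 3 1107 2)))))) (.node (.node (.node (.node (.leaf (.up 4 766 0)) (.leaf (.up 3 1565 0))) (.node (.leaf (.up 2 1506 2)) (.leaf (.up 3 472 2)))) (.node (.node (.leaf (.up 2 1167 1)) (.leaf (.up 4 1374 3))) (.node (.leaf (.up 4 1438 3)) (.leaf (.up 4 404 0))))) (.node (.node (.node (.leaf (.up 1 8 0)) (.leaf (.up 2 1432 2))) (.node (.leaf (.up 2 1669 1)) (.leaf (.up 2 354 0)))) (.node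 (.node (.leaf (.up 4 520 0)) (.leaf (.up 2 1884 3))) (.node (.leaf (.up 3 1921 0)) (.leaf (.up 2 1432 1)))))))) (.node (.node (.node (.node (.node (.node (.leaf (.up 3 1117 3)) (.leaf (.up 4 740 0))) (.node (.leaf (.up 2 571 1)) (.leaf (.up 2 1181 3)))) (.node (.node (.leaf (.up 2 1057 1)) (.leaf (.up 4 228 0))) (.node (.leaf (.up 1 1 1)) (.leaf (.up 2 1394 3))))) (.node (.node (.node (.leaf (.up 4 103 2)) (.leaf (.up 1 18 0))) (.node (.leaf (.up 3 1579 1)) (.leaf (.up 3 1435 0)))) (.node (.node (.leaf (.up 3 1777 0)) (.leaf (.up 2 530 0))) (.node (.leaf (.up 3 888 0)) (.leaf (.up 4 812 2)))))) (.node (.node (.node (.node (.leaf (.up 2 167 2)) (.leaf (.up 2 1181 2))) (.node (.leaf (.up 4 669 2)) (.leaf (.up 4 1719 0)))) (.node (.node (.leaf (.up 3 1516 2)) (.leaf (.up 4 318 0))) (.node (.leaf (.up 3 84 0)) (.leaf (.up 4 1004 2))))) (.node (.node (.node (.leaf (.up 4 1757 2)) (.leaf (.up 3 456 0))) (.node (.leaf (.up 2 553 1))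 (.leaf (.up 3 1089 0)))) (.node (.node (.leaf (.up 4 1075 1)) (.leaf (.up 4 968 0))) (.node (.leaf (.up 4 816 3)) (.leaf (.up 3 1601 0))))))) (.node (.node (.node (.node (.node (.leaf (.up 3 1272 1)) (.leaf (.up 4 1475 0))) (.node (.leaf (.up 2 1428 2)) (.leaf (.up 3 74 0)))) (.node (.node (.leaf (.up 2 1730 1)) (.leaf (.up 4 1759 2))) (.node (.leaf (.up 4 1917 3)) (.leaf (.up 4 586 0))))) (.node (.node (.node (.leaf (.up 2 982 0)) (.leaf (.up 4 1845 0))) (.node (.leaf (.up 4 1168 3)) (.leaf (.up 2 700 0)))) (.node (.node (.leaf (.up 5 722 1)) (.leaf (.up 2 1333 0))) (.node (.leaf (.up 2 1119 0)) (.leaf (.up 4 671 2)))))) (.node (.node (.node (.node (.leaf (.root 785)) (.leaf (.up 3 1326 2))) (.node (.leaf (.up 5 656 3)) (.leaf (.up 4 1812 2)))) (.node (.node (.leaf (.up 2 1021 3)) (.leaf (.up 4 1561 0))) (.node (.leaf (.up 2 1637 2)) (.leaf (.up 3 607 2))))) (.node (.node (.node (.leaf (.up 1 16 3)) (.leaf (.up 5 1485 1))) (.node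 (.leaf (.up 2 202 1)) (.leaf (.up 4 870 0)))) (.node (.node (.leaf (.up 3 12 0)) (.leaf (.up 6 445 3))) (.node (.leaf (.up 1 31 2)) (.leaf (.up 5 983 1))))))))

noncomputable def vt3_5_101 : Tr VStep := .node vt3_5_1010 vt3_5_1011

noncomputable def vt3_5_10 : Tr VStep := .node vt3_5_100 vt3_5_101

noncomputable def vt3_5_1100 : Tr VStep :=
  .node (.node (.node (.node (.node (.node (.node (.leaf (.root 1182)) (.leaf (.up 2 209 1))) (.node (.leaf (.up 4 513 3)) (.leaf (.up 3 1505 2)))) (.node (.node (.leaf (.up 4 1706 2)) (.leaf (.up 5 656 2))) (.node (.leaf (.up 4 1168 2)) (.leaf (.up 1 11 0))))) (.node (.node (.node (.leaf (.up 2 407 0)) (.leaf (.up 3 1217 1))) (.node (.leaf (.up 1 3 3)) (.leaf (.up 2 253 0)))) (.node (.node (.leaf (.up 6 366 3)) (.leaf (.up 3 300 3))) (.node (.leaf (.up 2 1566 0)) (.leaf (.up 3 731 1)))))) (.node (.node (.node (.node (.leaf (.up 4 699 0)) (.leaf (.up 5 1624 0))) (.node (.leaf (.up 4 1539 3))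 (.leaf (.up 2 243 1)))) (.node (.node (.leaf (.up 1 16 2)) (.leaf (.up 4 1769 1))) (.node (.leaf (.up 4 1330 0)) (.leaf (.up 4 1552 2))))) (.node (.node (.node (.leaf (.up 4 1155 3)) (.leaf (.up 3 1217 3))) (.node (.leaf (.up 3 1025 3)) (.leaf (.up 4 295 0)))) (.node (.node (.leaf (.up 3 1388 3)) (.leaf (.up 3 1326 3))) (.node (.leaf (.up 6 1518 3)) (.leaf (.up 3 1452 3))))))) (.node (.node (.node (.node (.node (.leaf (.up 3 789 1)) (.leaf (.up 3 140 3))) (.node (.leaf (.up 3 104 2)) (.leaf (.up 4 14 3)))) (.node (.node (.leaf (.up 4 1817 2)) (.leaf (.up 1 8 1))) (.node (.leaf (.up 2 1315 2)) (.leaf (.up 2 1064 1))))) (.node (.node (.node (.leaf (.up 2 1064 2)) (.leaf (.up 1 18 2))) (.node (.leaf (.up 5 590 3)) (.leaf (.up 3 552 2)))) (.node (.node (.leaf (.up 3 803 3)) (.leaf (.up 4 865 3))) (.node (.leaf (.up 2 857 2)) (.leaf (.up 3 995 3)))))) (.node (.node (.node (.node (.leaf (.up 4 1815 1)) (.leaf (.up 4 1584 1))) (.node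 (.leaf (.up 1 21 0)) (.leaf (.up 3 1270 0)))) (.node (.node (.leaf (.up 2 1315 3)) (.leaf (.up 2 1377 3))) (.node (.leaf (.up 2 921 2)) (.leaf (.up 2 1507 3))))) (.node (.node (.node (.leaf (.up 4 658 2)) (.leaf (.up 4 905 0))) (.node (.leaf (.up 2 1831 1)) (.leaf (.up 3 1170 2)))) (.node (.node (.leaf (.up 2 1386 0)) (.leaf (.up 1 26 1))) (.node (.leaf (.up 2 1507 2)) (.leaf (.up 2 1082 1)))))))) (.node (.node (.node (.node (.node (.node (.leaf (.up 3 1325 2)) (.leaf (.up 5 279 2))) (.node (.leaf (.up 2 921 1)) (.leaf (.up 1 15 0)))) (.node (.node (.leaf (.up 4 1411 1)) (.leaf (.up 2 1188 1))) (.node (.leaf (.up 4 419 1)) (.leaf (.up 2 132 1))))) (.node (.node (.node (.leaf (.up 3 1632 3)) (.leaf (.up 3 654 1))) (.node (.leaf (.up 2 1562 0)) (.leaf (.up 4 761 0)))) (.node (.node (.leaf (.up 2 1935 3)) (.leaf (.up 5 550 2))) (.node (.leaf (.up 3 1062 2)) (.leaf (.up 3 1871 3)))))) (.node (.node (.node (.node (.leaf (.up 4 191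 0)) (.leaf (.up 2 668 1))) (.node (.leaf (.up 3 429 2)) (.leaf (.up 4 160 3)))) (.node (.node (.leaf (.up 4 385 1)) (.leaf (.up 4 1628 0))) (.node (.leaf (.up 4 1441 1)) (.leaf (.up 1 220 2))))) (.node (.node (.node (.leaf (.up 2 585 0)) (.leaf (.up 4 1706 0))) (.node (.leaf (.up 4 2007 2)) (.leaf (.up 3 803 0)))) (.node (.node (.leaf (.up 4 1425 1)) (.leaf (.up 4 1180 2))) (.node (.leaf (.up 2 668 2)) (.leaf (.up 2 1702 2))))))) (.node (.node (.node (.node (.node (.leaf (.up 3 1182 2)) (.leaf (.up 3 164 2))) (.node (.leaf (.up 3 1700 2)) (.leaf (.up 3 93 1)))) (.node (.node (.leaf (.up 5 1984 3)) (.leaf (.up 3 1922 3))) (.node (.leaf (.up 3 832 1)) (.leaf (.up 3 1320 0))))) (.node (.node (.node (.leaf (.up 4 740 2)) (.leaf (.up 5 87 0))) (.node (.leaf (.up 2 1386 1)) (.leaf (.up 3 1261 3)))) (.node (.node (.leaf (.up 2 1716 0)) (.leaf (.up 3 1408 3))) (.node (.leaf (.up 3 1344 3)) (.leaf (.up 3 2014 0)))))) (.node (.node (.node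 (.node (.leaf (.up 2 344 1)) (.leaf (.up 2 623 3))) (.node (.leaf (.up 1 30 2)) (.leaf (.up 2 1119 1)))) (.node (.node (.leaf (.up 2 1432 0)) (.leaf (.up 4 896 3))) (.node (.leaf (.up 1 17 0)) (.leaf (.up 2 1637 1))))) (.node (.node (.node (.leaf (.up 1 47 3)) (.leaf (.up 5 397 0))) (.node (.leaf (.up 3 1636 2)) (.leaf (.up 4 79 1)))) (.node (.node (.leaf (.up 3 1902 0)) (.leaf (.up 5 1327 2))) (.node (.leaf (.up 4 322 3)) (.leaf (.up 3 256 3))))))))

noncomputable def vt3_5_1101 : Tr VStep :=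
  .node (.node (.node (.node (.node (.node (.node (.leaf (.root 1546)) (.leaf (.up 5 397 1))) (.node (.leaf (.up 4 894 2)) (.leaf (.up 6 1525 3)))) (.node (.node (.leaf (.up 5 656 1)) (.leaf (.up 3 1176 3))) (.node (.leaf (.up 4 1589 2)) (.leaf (.up 2 998 0))))) (.node (.node (.node (.leaf (.up 5 1210 1)) (.leaf (.up 2 1909 3))) (.node (.leaf (.up 2 1973 3)) (.leaf (.up 4 318 2)))) (.node (.node (.leaf (.up 3 122 0)) (.leaf (.up 3 1615 2))) (.node (.leaf (.up 4 79 2)) (.leaf (.up 2 272 0)))))) (.node (.node (.node (.node (.leaf (.up 4 311 3)) (.leaf (.up 4 1461 0))) (.node (.leaf (.up 3 437 3)) (.leaf (.up 3 503 3)))) (.node (.node (.leaf (.up 3 693 2)) (.leaf (.up 2 1973 0))) (.node (.leaf (.up 2 690 1)) (.leaf (.up 1 24 3))))) (.node (.node (.node (.leaf (.up 6 821 3)) (.leaf (.up 3 415 1))) (.node (.leaf (.up 3 1176 1)) (.leaf (.up 3 1924 2)))) (.node (.node (.leaf (.up 4 642 1)) (.leaf (.up 3 933 1))) (.node (.leaf (.up 3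 1698 1)) (.leaf (.up 2 202 0))))))) (.node (.node (.node (.node (.node (.leaf (.up 2 585 1)) (.leaf (.up 3 840 0))) (.node (.leaf (.up 4 2042 3)) (.leaf (.up 2 1729 0)))) (.node (.node (.leaf (.up 3 1451 0)) (.leaf (.up 6 1749 3))) (.node (.leaf (.up 3 1107 1)) (.leaf (.up 3 1217 0))))) (.node (.node (.node (.leaf (.up 3 1677 2)) (.leaf (.up 2 1336 3))) (.node (.leaf (.up 5 1528 3)) (.leaf (.up 4 141 2)))) (.node (.node (.leaf (.up 4 1173 3)) (.leaf (.up 2 2044 2))) (.node (.leaf (.up 4 1047 3)) (.leaf (.up 4 1109 3)))))) (.node (.node (.node (.node (.leaf (.up 4 1611 1)) (.leaf (.up 4 658 0))) (.node (.leaf (.root 446)) (.leaf (.up 3 1819 0)))) (.node (.node (.leaf (.up 2 661 3)) (.leaf (.up 4 1366 1))) (.node (.leaf (.up 3 535 3)) (.leaf (.up 4 374 1))))) (.node (.node (.node (.leaf (.up 3 1159 0)) (.leaf (.up 4 1037 2))) (.node (.leaf (.up 4 525 2)) (.leaf (.up 2 1884 1)))) (.node (.node (.leaf (.up 3 1671 0)) (.leaf (.up 1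 213 3))) (.node (.leaf (.up 1 21 3)) (.leaf (.up 3 2029 0)))))))) (.node (.node (.node (.node (.node (.node (.leaf (.up 3 1928 2)) (.leaf (.up 4 1643 0))) (.node (.leaf (.up 2 709 1)) (.leaf (.up 4 788 3)))) (.node (.node (.leaf (.up 2 571 3)) (.leaf (.up 5 1528 1))) (.node (.leaf (.up 2 255 1)) (.leaf (.up 2 763 3))))) (.node (.node (.node (.leaf (.up 4 757 1)) (.leaf (.up 2 1181 0))) (.node (.leaf (.up 4 968 2)) (.leaf (.up 2 276 0)))) (.node (.node (.leaf (.up 3 1209 2)) (.leaf (.up 2 123 3))) (.node (.leaf (.up 3 1667 2)) (.leaf (.up 3 697 2)))))) (.node (.node (.node (.node (.leaf (.up 4 2006 3)) (.leaf (.up 3 1969 0))) (.node (.leaf (.up 4 1876 3)) (.leaf (.up 4 1814 3)))) (.node (.node (.leaf (.up 5 1145 2)) (.leaf (.up 5 67 2))) (.node (.leaf (.up 3 1603 2)) (.leaf (.up 5 1785 3))))) (.node (.node (.node (.leaf (.up 3 1864 2)) (.leaf (.up 3 1351 0))) (.node (.leaf (.up 2 1394 2)) (.leaf (.up 4 206 0)))) (.node (.node (.leaf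 (.up 5 1083 3)) (.leaf (.up 3 1863 0))) (.node (.leaf (.up 2 237 1)) (.leaf (.up 3 718 0))))))) (.node (.node (.node (.node (.node (.leaf (.up 3 1595 2)) (.leaf (.up 4 513 2))) (.node (.leaf (.up 1 38 0)) (.leaf (.up 2 1221 0)))) (.node (.node (.leaf (.up 2 1596 1)) (.leaf (.up 1 52 3))) (.node (.leaf (.up 5 550 0)) (.leaf (.up 5 182 3))))) (.node (.node (.node (.leaf (.up 3 65 2)) (.leaf (.up 4 954 0))) (.node (.leaf (.up 3 793 3)) (.leaf (.up 3 1601 2)))) (.node (.node (.leaf (.up 4 628 3)) (.leaf (.up 3 442 0))) (.node (.leaf (.up 5 758 3)) (.leaf (.up 4 778 2)))))) (.node (.node (.node (.node (.leaf (.up 1 4 1)) (.leaf (.up 5 291 1))) (.node (.leaf (.up 4 1305 3)) (.leaf (.up 4 1665 2)))) (.node (.node (.leaf (.up 3 1140 3)) (.leaf (.up 3 793 1))) (.node (.leaf (.up 2 1566 1)) (.leaf (.up 5 970 2))))) (.node (.node (.node (.leaf (.up 3 1667 0)) (.leaf (.up 3 608 0))) (.node (.leaf (.up 1 52 1)) (.leaf (.up 4 1881 3)))) (.node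 (.node (.leaf (.up 3 944 2)) (.leaf (.up 4 1930 2))) (.node (.leaf (.up 3 526 1)) (.leaf (.up 5 1718 3))))))))

noncomputable def vt3_5_110 : Tr VStep := .node vt3_5_1100 vt3_5_1101

noncomputable def vt3_5_1110 : Tr VStep :=
  .node (.node (.node (.node (.node (.node (.node (.leaf (.up 3 1534 0)) (.leaf (.up 3 1241 1))) (.node (.leaf (.up 4 478 1)) (.leaf (.up 4 1480 3)))) (.node (.node (.leaf (.up 3 735 2)) (.leaf (.up 2 797 0))) (.node (.leaf (.up 4 229 2)) (.leaf (.up 3 1247 2))))) (.node (.node (.node (.leaf (.up 2 1800 0)) (.leaf (.up 2 1003 0))) (.node (.leaf (.up 2 641 0)) (.leaf (.up 2 2030 2)))) (.node (.node (.leaf (.up 4 1765 3)) (.leaf (.up 4 755 1))) (.node (.leaf (.up 3 129 0)) (.leaf (.up 4 677 2)))))) (.node (.node (.node (.node (.leaf (.up 3 266 3)) (.leaf (.up 4 219 1))) (.node (.leaf (.up 3 429 0)) (.leaf (.up 3 1358 0)))) (.node (.node (.leaf (.up 4 1572 0)) (.leaf (.up 2 167 3))) (.node (.leaf (.up 3 941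 0)) (.leaf (.up 2 1729 1))))) (.node (.node (.node (.leaf (.up 3 1746 0)) (.leaf (.up 3 842 3))) (.node (.leaf (.up 3 906 3)) (.leaf (.up 4 968 3)))) (.node (.node (.leaf (.up 3 1234 0)) (.leaf (.up 3 1777 1))) (.node (.leaf (.up 3 37 2)) (.leaf (.up 4 721 1))))))) (.node (.node (.node (.node (.node (.leaf (.up 3 1821 1)) (.leaf (.up 3 541 2))) (.node (.leaf (.up 5 1991 3)) (.leaf (.up 4 39 2)))) (.node (.node (.leaf (.up 3 1319 1)) (.leaf (.up 2 1082 0))) (.node (.leaf (.up 4 1576 3)) (.leaf (.up 1 32 1))))) (.node (.node (.node (.leaf (.up 1 47 0)) (.leaf (.up 6 1285 3))) (.node (.leaf (.up 3 1837 1)) (.leaf (.up 5 1415 3)))) (.node (.node (.leaf (.up 4 311 1)) (.leaf (.up 1 16 1))) (.node (.leaf (.up 2 1303 1)) (.leaf (.up 3 790 2)))))) (.node (.node (.node (.node (.leaf (.up 3 799 1)) (.leaf (.up 5 773 3))) (.node (.leaf (.up 4 679 2)) (.leaf (.up 3 617 0)))) (.node (.node (.leaf (.up 4 680 3)) (.leaf (.up 1 2 1))) (.node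 (.leaf (.up 4 2028 2)) (.leaf (.up 2 616 3))))) (.node (.node (.node (.leaf (.up 3 1807 1)) (.leaf (.up 3 733 2))) (.node (.leaf (.up 4 455 3)) (.leaf (.up 4 520 1)))) (.node (.node (.leaf (.up 2 1333 1)) (.leaf (.up 3 1042 1))) (.node (.leaf (.up 3 1660 0)) (.leaf (.up 1 50 1)))))))) (.node (.node (.node (.node (.node (.node (.leaf (.root 695)) (.leaf (.up 3 793 0))) (.node (.leaf (.up 2 627 0)) (.leaf (.up 3 1880 2)))) (.node (.node (.leaf (.up 4 1530 0)) (.leaf (.up 1 41 2))) (.node (.leaf (.up 3 1451 1)) (.leaf (.up 3 531 2))))) (.node (.node (.node (.leaf (.up 3 1953 1)) (.leaf (.up 2 495 0))) (.node (.leaf (.up 1 133 0)) (.leaf (.up 3 678 1)))) (.node (.node (.leaf (.up 1 4 3)) (.leaf (.up 3 1212 1))) (.node (.leaf (.up 5 443 1)) (.leaf (.up 4 1129 2)))))) (.node (.node (.node (.node (.leaf (.up 4 1568 0)) (.leaf (.up 2 1961 3))) (.node (.leaf (.up 4 1897 3)) (.leaf (.up 3 1866 0)))) (.node (.node (.leaf (.up 3 681 2)) (.leaf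 (.up 5 1606 3))) (.node (.leaf (.up 4 425 0)) (.leaf (.up 1 142 1))))) (.node (.node (.node (.leaf (.up 3 931 1)) (.leaf (.up 3 1451 3))) (.node (.leaf (.up 4 351 0)) (.leaf (.up 3 1700 1)))) (.node (.node (.leaf (.up 5 409 1)) (.leaf (.up 3 1092 3))) (.node (.leaf (.up 4 1156 3)) (.leaf (.up 3 1182 1))))))) (.node (.node (.node (.node (.node (.leaf (.up 4 420 3)) (.leaf (.up 4 117 1))) (.node (.leaf (.up 2 1394 1)) (.leaf (.up 3 1771 2)))) (.node (.node (.leaf (.up 3 733 0)) (.leaf (.up 1 9 3))) (.node (.leaf (.up 3 1864 1)) (.leaf (.up 4 951 0))))) (.node (.node (.node (.leaf (.up 2 934 3)) (.leaf (.up 6 996 3))) (.node (.leaf (.up 2 354 1)) (.leaf (.up 3 833 0)))) (.node (.node (.leaf (.up 2 585 3)) (.leaf (.up 5 523 3))) (.node (.leaf (.up 3 1442 0)) (.leaf (.up 3 649 3)))))) (.node (.node (.node (.node (.leaf (.up 3 1446 3)) (.leaf (.up 1 619 2))) (.node (.leaf (.up 5 368 1)) (.leaf (.up 4 1382 3)))) (.node (.node (.leaf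 (.up 3 794 2)) (.leaf (.up 4 2020 0))) (.node (.leaf (.up 3 1678 0)) (.leaf (.up 2 1306 2))))) (.node (.node (.node (.leaf (.up 2 1956 3)) (.leaf (.up 3 1041 2))) (.node (.leaf (.up 2 1376 1)) (.leaf (.up 3 1579 2)))) (.node (.node (.leaf (.up 2 1376 2)) (.leaf (.up 5 346 2))) (.node (.leaf (.up 2 1144 0)) (.leaf (.up 5 1675 3))))))))

noncomputable def vt3_5_1111 : Tr VStep :=
  .node (.node (.node (.node (.node (.node (.node (.leaf (.root 187)) (.leaf (.up 4 1413 1))) (.node (.leaf (.up 3 922 0)) (.leaf (.up 4 817 2)))) (.node (.node (.leaf (.up 3 122 2)) (.leaf (.up 4 240 0))) (.node (.leaf (.up 3 979 3)) (.leaf (.up 2 1658 2))))) (.node (.node (.node (.leaf (.up 3 843 2)) (.leaf (.up 1 6 0))) (.node (.leaf (.up 3 364 0)) (.leaf (.up 3 1355 2)))) (.node (.node (.leaf (.up 4 1536 2)) (.leaf (.up 4 518 0))) (.node (.leaf (.up 2 1082 2)) (.leaf (.up 1 0 2)))))) (.node (.node (.node (.node (.leaf (.up 3 1993 0)) (.leaf (.up 3 1969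 2))) (.node (.leaf (.up 2 1598 3)) (.leaf (.up 2 1447 1)))) (.node (.node (.leaf (.up 2 1875 3)) (.leaf (.up 2 1809 3))) (.node (.leaf (.up 2 1722 1)) (.leaf (.up 2 192 2))))) (.node (.node (.node (.leaf (.up 5 1214 3)) (.leaf (.up 3 1276 3))) (.node (.leaf (.up 3 1995 2)) (.leaf (.up 3 1009 2)))) (.node (.node (.leaf (.up 4 1855 0)) (.leaf (.up 3 1299 3))) (.node (.leaf (.up 4 640 2)) (.leaf (.up 2 1722 2))))))) (.node (.node (.node (.node (.node (.leaf (.root 2048)) (.leaf (.up 4 177 3))) (.node (.leaf (.up 5 609 1)) (.leaf (.up 4 51 3)))) (.node (.node (.leaf (.up 4 457 2)) (.leaf (.up 4 2007 0))) (.node (.leaf (.up 3 1725 0)) (.leaf (.up 3 1993 2))))) (.node (.node (.node (.leaf (.up 4 753 3)) (.leaf (.up 2 1730 2))) (.node (.leaf (.up 2 627 3)) (.leaf (.up 3 1272 2)))) (.node (.node (.leaf (.up 4 798 3)) (.leaf (.up 4 905 2))) (.node (.leaf (.up 5 1099 0)) (.leaf (.up 3 435 2)))))) (.node (.node (.node (.node (.leaf (.up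 5 1265 3)) (.leaf (.up 4 1037 0))) (.node (.leaf (.up 1 2 2)) (.leaf (.up 5 1073 3)))) (.node (.node (.leaf (.up 1 121 1)) (.leaf (.up 5 1372 3))) (.node (.leaf (.up 3 1895 0)) (.leaf (.up 3 371 2))))) (.node (.node (.node (.leaf (.up 3 536 0)) (.leaf (.up 5 1713 3))) (.node (.leaf (.up 2 627 1)) (.leaf (.up 4 1587 3)))) (.node (.node (.leaf (.up 1 24 0)) (.leaf (.up 3 1358 1))) (.node (.leaf (.up 4 819 2)) (.leaf (.up 4 1801 2)))))))) (.node (.node (.node (.node (.node (.node (.leaf (.root 1354)) (.leaf (.up 5 970 1))) (.node (.leaf (.up 3 1741 1)) (.leaf (.up 5 1405 0)))) (.node (.node (.leaf (.up 4 1559 0)) (.leaf (.up 5 496 1))) (.node (.leaf (.up 2 926 0)) (.leaf (.up 4 1917 0))))) (.node (.node (.node (.leaf (.up 5 1789 1)) (.leaf (.up 4 514 0))) (.node (.leaf (.up 3 733 1)) (.leaf (.up 2 1018 1)))) (.node (.node (.leaf (.up 2 1970 3)) (.leaf (.up 1 2 0))) (.node (.leaf (.up 4 360 0)) (.leaf (.up 4 1740 2)))))) (.node (.node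 (.node (.node (.leaf (.up 3 93 3)) (.leaf (.up 1 31 3))) (.node (.leaf (.up 2 68 0)) (.leaf (.up 4 839 2)))) (.node (.node (.leaf (.up 3 12 2)) (.leaf (.up 4 1078 2))) (.node (.leaf (.up 3 580 0)) (.leaf (.up 6 370 3))))) (.node (.node (.node (.leaf (.up 3 607 3)) (.leaf (.up 2 984 0))) (.node (.leaf (.up 2 690 0)) (.leaf (.up 3 2040 1)))) (.node (.node (.leaf (.up 2 1339 0)) (.leaf (.up 3 472 0))) (.node (.leaf (.up 6 818 3)) (.leaf (.up 2 1105 0))))))) (.node (.node (.node (.node (.node (.leaf (.up 4 816 0)) (.leaf (.up 3 2003 0))) (.node (.leaf (.up 3 1721 0)) (.leaf (.up 3 1746 3)))) (.node (.node (.leaf (.up 4 304 0)) (.leaf (.up 4 1983 3))) (.node (.leaf (.up 3 1209 0)) (.leaf (.up 3 90 0))))) (.node (.node (.node (.leaf (.up 3 454 0)) (.leaf (.up 4 14 2))) (.node (.leaf (.up 3 1170 3)) (.leaf (.up 2 281 1)))) (.node (.node (.leaf (.up 4 1572 1)) (.leaf (.up 2 1795 1))) (.node (.leaf (.up 3 1615 0)) (.leaf (.up 3 803 1))))))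 (.node (.node (.node (.node (.leaf (.up 3 746 0)) (.leaf (.up 4 206 2))) (.node (.leaf (.up 3 1891 0)) (.leaf (.up 4 896 0)))) (.node (.node (.leaf (.up 3 1023 3)) (.leaf (.up 2 1809 1))) (.node (.leaf (.up 3 893 3)) (.leaf (.up 4 817 1))))) (.node (.node (.node (.leaf (.up 1 18 3)) (.leaf (.up 2 1716 2))) (.node (.leaf (.up 3 1429 0)) (.leaf (.up 4 374 0)))) (.node (.node (.leaf (.up 4 509 3)) (.leaf (.up 3 1023 2))) (.node (.leaf (.up 2 1542 1)) (.leaf (.up 2 886 0))))))))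

noncomputable def vt3_5_111 : Tr VStep := .node vt3_5_1110 vt3_5_1111

noncomputable def vt3_5_11 : Tr VStep := .node vt3_5_110 vt3_5_111

noncomputable def vt3_5_1 : Tr VStep := .node vt3_5_10 vt3_5_11

noncomputable def vt3_5_ : Tr VStep := .node vt3_5_0 vt3_5_1

noncomputable def vt3_6_0000 : Tr VStep :=
  .node (.node (.node (.node (.node (.node (.node (.leaf (.root 93)) (.leaf (.up 4 675 3))) (.node (.leaf (.up 4 1699 3)) (.leaf (.up 4 395 1)))) (.node (.node (.leaf (.up 4 1703 3)) (.leaf (.up 4 167 3))) (.node (.leaf (.up 6 1191 3)) (.leaf (.up 4 679 3))))) (.node (.node (.node (.leaf (.up 4 892 4)) (.leaf (.up 3 1666 2))) (.node (.leaf (.up 2 388 3)) (.leaf (.up 2 779 1)))) (.node (.node (.leaf (.up 1 21 0)) (.leaf (.up 2 283 2))) (.node (.leaf (.up 4 124 4)) (.leaf (.up 3 1666 1)))))) (.node (.node (.node (.node (.leaf (.up 4 1696 4)) (.leaf (.up 5 1600 3))) (.node (.leaf (.up 2 1186 4)) (.leaf (.up 4 1751 1)))) (.node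 (.node (.leaf (.up 4 1954 4)) (.leaf (.up 3 348 1))) (.node (.leaf (.up 4 68 3)) (.leaf (.up 2 457 2))))) (.node (.node (.node (.leaf (.up 2 1570 4)) (.leaf (.up 4 359 3))) (.node (.leaf (.up 3 1383 3)) (.leaf (.up 2 871 3)))) (.node (.node (.leaf (.up 4 379 2)) (.leaf (.up 4 867 3))) (.node (.leaf (.up 3 4 1)) (.leaf (.up 4 355 3))))))) (.node (.node (.node (.node (.node (.leaf (.up 3 165 1)) (.leaf (.up 4 704 4))) (.node (.leaf (.up 2 1155 3)) (.leaf (.up 5 643 3)))) (.node (.node (.leaf (.up 3 1159 3)) (.leaf (.up 4 647 3))) (.node (.leaf (.up 2 1671 3)) (.leaf (.up 3 1780 1))))) (.node (.node (.node (.leaf (.up 3 420 3)) (.leaf (.up 2 658 2))) (.node (.leaf (.up 3 819 4)) (.leaf (.up 3 1444 3)))) (.node (.node (.leaf (.up 2 51 4)) (.leaf (.up 5 1654 1))) (.node (.leaf (.up 3 416 3)) (.leaf (.up 2 1140 1)))))) (.node (.node (.node (.node (.leaf (.root 655)) (.leaf (.up 2 1571 1))) (.node (.leaf (.up 1 96 3)) (.leaf (.up 2 1436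 4)))) (.node (.node (.leaf (.up 3 624 1)) (.leaf (.up 3 1636 3))) (.node (.leaf (.up 4 2029 4)) (.leaf (.up 2 1124 3))))) (.node (.node (.node (.leaf (.up 5 1135 4)) (.leaf (.up 2 1187 1))) (.node (.leaf (.up 5 1863 3)) (.leaf (.up 3 1310 4)))) (.node (.node (.leaf (.up 5 1859 3)) (.leaf (.up 5 1566 4))) (.node (.leaf (.up 5 1347 3)) (.leaf (.up 3 835 3)))))))) (.node (.node (.node (.node (.node (.node (.leaf (.up 3 83 1)) (.leaf (.up 5 161 3))) (.node (.leaf (.up 4 1185 3)) (.leaf (.up 4 673 3)))) (.node (.node (.leaf (.up 3 1498 1)) (.leaf (.up 3 677 3))) (.node (.leaf (.up 4 441 2)) (.leaf (.up 3 165 3))))) (.node (.node (.node (.leaf (.up 3 878 4)) (.leaf (.up 2 777 1))) (.node (.leaf (.up 3 364 4)) (.leaf (.up 3 543 4)))) (.node (.node (.leaf (.up 4 620 4)) (.leaf (.up 3 287 4))) (.node (.leaf (.up 5 386 3)) (.leaf (.up 3 797 4)))))) (.node (.node (.node (.node (.leaf (.up 4 578 3)) (.leaf (.up 5 1473 4))) (.node (.leaf (.up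 4 66 3)) (.leaf (.up 3 1239 1)))) (.node (.node (.leaf (.up 4 70 3)) (.leaf (.up 3 1606 3))) (.node (.leaf (.up 1 132 1)) (.leaf (.up 3 473 2))))) (.node (.node (.node (.leaf (.up 4 1381 3)) (.leaf (.up 5 869 3))) (.node (.leaf (.up 2 1074 4)) (.leaf (.up 4 1623 1)))) (.node (.node (.leaf (.up 4 363 2)) (.leaf (.up 3 353 3))) (.node (.leaf (.up 4 1377 3)) (.leaf (.up 5 865 3))))))) (.node (.node (.node (.node (.node (.leaf (.up 3 677 1)) (.leaf (.up 4 530 2))) (.node (.leaf (.up 1 89 0)) (.leaf (.up 5 129 3)))) (.node (.node (.leaf (.up 5 1669 3)) (.leaf (.up 5 976 4))) (.node (.leaf (.up 2 1157 3)) (.leaf (.up 6 645 3))))) (.node (.node (.node (.leaf (.up 4 37 1)) (.leaf (.up 3 511 1))) (.node (.leaf (.up 2 801 4)) (.leaf (.up 2 1021 1)))) (.node (.node (.leaf (.up 1 33 4)) (.leaf (.up 2 1307 2))) (.node (.leaf (.up 2 547 4)) (.leaf (.up 3 1652 1)))))) (.node (.node (.node (.node (.leaf (.up 3 1279 4)) (.leaf (.up 2 1059 1)))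 (.node (.leaf (.up 2 610 3)) (.leaf (.up 3 1122 3)))) (.node (.node (.leaf (.up 4 1533 4)) (.leaf (.up 2 1126 3))) (.node (.leaf (.up 3 2047 4)) (.leaf (.up 3 1638 3))))) (.node (.node (.node (.leaf (.up 6 1861 3)) (.leaf (.up 2 325 3))) (.node (.leaf (.up 3 1403 1)) (.leaf (.up 4 837 3)))) (.node (.node (.leaf (.up 3 1345 3)) (.leaf (.up 4 1355 2))) (.node (.leaf (.up 5 1857 3)) (.leaf (.up 5 321 3))))))))

noncomputable def vt3_6_0001 : Tr VStep :=
  .node (.node (.node (.node (.node (.node (.node (.leaf (.root 1188)) (.leaf (.up 4 171 3))) (.node (.leaf (.up 1 26 2)) (.leaf (.up 1 42 2)))) (.node (.node (.leaf (.up 2 520 4)) (.leaf (.up 2 1615 1))) (.node (.leaf (.up 1 10 4)) (.leaf (.up 3 175 3))))) (.node (.node (.node (.leaf (.root 821)) (.leaf (.up 4 1932 3))) (.node (.leaf (.up 1 138 2)) (.leaf (.up 3 836 1)))) (.node (.node (.leaf (.up 2 904 3)) (.leaf (.up 4 1231 1))) (.node (.leaf (.up 1 136 4)) (.leaf (.up 3 1827 2))))))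 (.node (.node (.node (.node (.leaf (.root 867)) (.leaf (.up 3 1319 4))) (.node (.leaf (.up 1 72 3)) (.leaf (.up 3 1829 4)))) (.node (.node (.leaf (.up 2 76 3)) (.leaf (.up 4 1612 3))) (.node (.leaf (.up 4 1364 4)) (.leaf (.up 3 1100 3))))) (.node (.node (.node (.leaf (.up 3 1750 4)) (.leaf (.up 4 879 3))) (.node (.leaf (.up 5 218 2)) (.leaf (.up 3 367 3)))) (.node (.node (.leaf (.up 4 1873 2)) (.leaf (.up 4 363 3))) (.node (.leaf (.up 3 1494 4)) (.leaf (.up 6 875 3))))))) (.node (.node (.node (.node (.node (.leaf (.up 3 234 1)) (.leaf (.up 5 651 3))) (.node (.leaf (.up 2 1034 2)) (.leaf (.up 3 818 1)))) (.node (.node (.leaf (.up 4 69 4)) (.leaf (.up 3 1209 1))) (.node (.leaf (.up 4 915 2)) (.leaf (.up 3 931 2))))) (.node (.node (.node (.leaf (.up 3 940 3)) (.leaf (.up 3 694 4))) (.node (.leaf (.up 3 428 3)) (.leaf (.up 2 434 1)))) (.node (.node (.leaf (.up 3 199 4)) (.leaf (.up 2 801 2))) (.node (.leaf (.up 3 1505 1)) (.leaf (.up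 3 1083 1)))))) (.node (.node (.node (.node (.leaf (.up 4 1049 4)) (.leaf (.up 3 1898 4))) (.node (.leaf (.up 3 1460 1)) (.leaf (.up 3 1384 4)))) (.node (.node (.leaf (.up 2 1307 4)) (.leaf (.up 2 1132 3))) (.node (.leaf (.up 2 963 2)) (.leaf (.up 3 1644 3))))) (.node (.node (.node (.leaf (.up 2 1871 3)) (.leaf (.up 3 2024 4))) (.node (.leaf (.up 3 1689 4)) (.leaf (.up 4 1514 4)))) (.node (.node (.leaf (.up 4 1355 3)) (.leaf (.up 3 881 2))) (.node (.leaf (.up 4 1947 4)) (.leaf (.up 2 871 1)))))))) (.node (.node (.node (.node (.node (.node (.leaf (.root 807)) (.leaf (.up 4 40 2))) (.node (.leaf (.up 1 10 2)) (.leaf (.up 5 169 3)))) (.node (.node (.leaf (.up 2 538 4)) (.leaf (.up 3 1969 2))) (.node (.leaf (.up 1 24 4)) (.leaf (.up 4 685 3))))) (.node (.node (.node (.leaf (.up 1 136 2)) (.leaf (.up 5 233 4))) (.node (.leaf (.up 2 408 4)) (.leaf (.up 4 1934 3)))) (.node (.node (.leaf (.up 1 138 0)) (.leaf (.up 4 1930 3))) (.node (.leaf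 (.up 2 906 3)) (.leaf (.up 3 1843 2)))))) (.node (.node (.node (.node (.leaf (.up 1 72 2)) (.leaf (.up 4 1610 3))) (.node (.leaf (.up 3 1346 1)) (.leaf (.up 4 1098 3)))) (.node (.node (.leaf (.up 4 1860 4)) (.leaf (.up 4 2017 2))) (.node (.leaf (.up 3 1350 4)) (.leaf (.up 3 1614 3))))) (.node (.node (.node (.leaf (.up 4 1732 4)) (.leaf (.up 3 365 3))) (.node (.leaf (.up 5 202 2)) (.leaf (.up 4 877 3)))) (.node (.node (.leaf (.up 3 73 1)) (.leaf (.up 5 403 1))) (.node (.leaf (.up 4 1875 2)) (.leaf (.up 5 361 3))))))) (.node (.node (.node (.node (.node (.leaf (.up 3 746 1)) (.leaf (.up 3 816 1))) (.node (.leaf (.up 3 232 1)) (.leaf (.up 4 1066 2)))) (.node (.node (.leaf (.up 5 87 4)) (.leaf (.up 2 1721 1))) (.node (.leaf (.up 2 899 2)) (.leaf (.up 2 1211 1))))) (.node (.node (.node (.leaf (.up 4 106 1)) (.leaf (.up 2 432 1))) (.node (.leaf (.up 3 942 3)) (.leaf (.up 3 946 1)))) (.node (.node (.leaf (.up 3 213 4)) (.leaf (.up 4 1081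 1))) (.node (.leaf (.up 4 2017 1)) (.leaf (.up 3 420 4)))))) (.node (.node (.node (.node (.leaf (.up 5 618 3)) (.leaf (.up 2 1132 1))) (.node (.leaf (.up 2 1545 4)) (.leaf (.up 3 1646 1)))) (.node (.node (.leaf (.up 3 961 2)) (.leaf (.up 1 225 0))) (.node (.leaf (.up 2 573 1)) (.leaf (.up 3 999 1))))) (.node (.node (.node (.leaf (.up 5 1357 3)) (.leaf (.up 3 1772 1))) (.node (.leaf (.up 4 1242 2)) (.leaf (.up 2 1258 2)))) (.node (.node (.leaf (.up 5 1865 3)) (.leaf (.up 3 1784 4))) (.node (.leaf (.up 1 0 0)) (.leaf (.up 4 359 1))))))))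

noncomputable def vt3_6_000 : Tr VStep := .node vt3_6_0000 vt3_6_0001

noncomputable def vt3_6_0010 : Tr VStep :=
  .node (.node (.node (.node (.node (.node (.node (.leaf (.up 2 1141 4)) (.leaf (.up 4 419 3))) (.node (.leaf (.up 5 703 2)) (.leaf (.up 3 931 3)))) (.node (.node (.leaf (.up 4 1447 3)) (.leaf (.up 4 1540 4))) (.node (.leaf (.up 5 1959 3)) (.leaf (.up 5 423 3))))) (.node (.node (.node (.leaf (.root 434)) (.leaf (.up 2 1668 3))) (.node (.leaf (.up 5 559 2)) (.leaf (.up 1 11 1)))) (.node (.node (.leaf (.up 1 17 0)) (.leaf (.up 4 1920 1))) (.node (.leaf (.up 5 2039 4)) (.leaf (.up 3 1156 4)))))) (.node (.node (.node (.node (.leaf (.up 3 299 4)) (.leaf (.up 4 1344 3))) (.node (.leaf (.up 5 320 3)) (.leaf (.up 3 1856 3)))) (.node (.node (.leaf (.up 3 1380 2)) (.leaf (.up 4 1860 3))) (.node (.leaf (.up 2 388 1)) (.leaf (.up 3 1350 2))))) (.node (.node (.node (.leaf (.up 6 1127 3)) (.leaf (.up 4 615 3))) (.node (.leaf (.up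 4 1677 1)) (.leaf (.up 3 103 3)))) (.node (.node (.leaf (.up 2 1524 2)) (.leaf (.up 4 99 3))) (.node (.leaf (.up 4 1123 3)) (.leaf (.up 3 611 3))))))) (.node (.node (.node (.node (.node (.leaf (.up 3 1411 3)) (.leaf (.up 2 899 3))) (.node (.leaf (.up 3 1923 3)) (.leaf (.up 3 125 1)))) (.node (.node (.leaf (.up 3 1927 3)) (.leaf (.up 3 391 3))) (.node (.leaf (.up 3 1415 3)) (.leaf (.up 2 1524 1))))) (.node (.node (.node (.leaf (.up 4 676 3)) (.leaf (.up 4 255 1))) (.node (.leaf (.up 3 807 1)) (.leaf (.up 3 1995 4)))) (.node (.node (.leaf (.up 2 1196 1)) (.leaf (.up 2 388 2))) (.node (.leaf (.up 4 672 3)) (.leaf (.up 3 1184 3)))))) (.node (.node (.node (.node (.leaf (.up 3 870 4)) (.leaf (.up 1 21 4))) (.node (.leaf (.up 4 1791 2)) (.leaf (.up 2 535 4)))) (.node (.node (.leaf (.up 3 372 2)) (.leaf (.up 2 279 4))) (.node (.leaf (.up 3 882 1)) (.leaf (.up 2 789 4))))) (.node (.node (.node (.leaf (.up 6 1607 3)) (.leaf (.up 4 1955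 1))) (.node (.leaf (.up 5 1095 3)) (.leaf (.up 4 661 4)))) (.node (.node (.leaf (.up 5 742 4)) (.leaf (.up 3 579 3))) (.node (.leaf (.up 5 1603 3)) (.leaf (.up 4 67 3)))))))) (.node (.node (.node (.node (.node (.node (.leaf (.up 4 1441 3)) (.leaf (.up 4 929 3))) (.node (.leaf (.up 4 1953 3)) (.leaf (.up 5 417 3)))) (.node (.node (.leaf (.up 4 1957 3)) (.leaf (.up 3 421 3))) (.node (.leaf (.up 4 1240 1)) (.leaf (.up 5 933 3))))) (.node (.node (.node (.leaf (.up 2 467 1)) (.leaf (.up 1 9 1))) (.node (.leaf (.up 2 977 1)) (.leaf (.up 4 1428 4)))) (.node (.node (.leaf (.up 1 130 3)) (.leaf (.up 3 1666 3))) (.node (.leaf (.up 5 1446 2)) (.leaf (.up 3 1174 4)))))) (.node (.node (.node (.node (.leaf (.up 3 322 3)) (.leaf (.up 5 1858 3))) (.node (.leaf (.up 2 1549 1)) (.leaf (.up 1 72 4)))) (.node (.node (.leaf (.up 3 59 4)) (.leaf (.up 3 1350 3))) (.node (.leaf (.up 4 326 3)) (.leaf (.up 5 1862 3))))) (.node (.node (.node (.leaf (.up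 6 1637 3)) (.leaf (.up 4 101 3))) (.node (.leaf (.up 5 1125 3)) (.leaf (.up 5 613 3)))) (.node (.node (.leaf (.up 4 1121 3)) (.leaf (.up 4 609 3))) (.node (.leaf (.up 3 699 4)) (.leaf (.up 5 97 3))))))) (.node (.node (.node (.node (.node (.leaf (.up 3 421 1)) (.leaf (.up 5 127 1))) (.node (.leaf (.up 4 1409 3)) (.leaf (.up 6 897 3)))) (.node (.node (.leaf (.up 3 1068 1)) (.leaf (.up 3 901 3))) (.node (.leaf (.up 4 1925 3)) (.leaf (.up 2 1625 4))))) (.node (.node (.node (.leaf (.up 3 805 1)) (.leaf (.up 2 1549 2))) (.node (.leaf (.up 2 1583 2)) (.leaf (.up 4 2009 4)))) (.node (.node (.leaf (.up 3 420 2)) (.leaf (.up 2 1186 3))) (.node (.leaf (.up 3 1448 4)) (.leaf (.up 3 1755 4)))))) (.node (.node (.node (.node (.leaf (.up 3 866 3)) (.leaf (.up 1 7 4))) (.node (.leaf (.up 2 354 3)) (.leaf (.up 2 517 4)))) (.node (.node (.leaf (.up 2 630 4)) (.leaf (.up 2 261 4))) (.node (.leaf (.up 3 870 3)) (.leaf (.up 2 775 4))))) (.node (.node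 (.node (.leaf (.up 5 1093 3)) (.leaf (.up 5 581 3))) (.node (.leaf (.up 2 1605 3)) (.leaf (.up 2 1615 2)))) (.node (.node (.leaf (.up 3 756 4)) (.leaf (.up 1 42 1))) (.node (.leaf (.up 5 1089 3)) (.leaf (.up 3 470 2))))))))

noncomputable def vt3_6_0011 : Tr VStep :=
  .node (.node (.node (.node (.node (.node (.node (.leaf (.up 3 284 1)) (.leaf (.up 4 1207 2))) (.node (.leaf (.up 3 798 1)) (.leaf (.up 5 427 3)))) (.node (.node (.leaf (.up 3 798 2)) (.leaf (.up 3 814 2))) (.node (.leaf (.up 2 1687 1)) (.leaf (.up 4 943 3))))) (.node (.node (.node (.leaf (.up 2 924 1)) (.leaf (.up 3 582 1))) (.node (.leaf (.up 3 414 1)) (.leaf (.up 4 1394 4)))) (.node (.node (.leaf (.up 1 136 3)) (.leaf (.up 4 1672 3))) (.node (.leaf (.up 2 648 3)) (.leaf (.up 3 1485 1)))))) (.node (.node (.node (.node (.leaf (.up 1 72 0)) (.leaf (.up 2 684 4))) (.node (.leaf (.up 5 840 3)) (.leaf (.up 3 174 4)))) (.node (.node (.leaf (.up 4 844 3)) (.leaf (.up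 2 894 2))) (.node (.leaf (.up 3 735 4)) (.leaf (.up 1 17 1))))) (.node (.node (.node (.leaf (.up 5 1216 1)) (.leaf (.up 3 558 4))) (.node (.leaf (.up 3 863 4)) (.leaf (.up 5 1125 2)))) (.node (.node (.leaf (.up 5 95 4)) (.leaf (.up 3 147 1))) (.node (.leaf (.up 4 605 4)) (.leaf (.up 2 1020 2))))))) (.node (.node (.node (.node (.node (.leaf (.up 4 1931 3)) (.leaf (.up 2 560 1))) (.node (.leaf (.up 5 488 1)) (.leaf (.up 3 181 2)))) (.node (.node (.leaf (.up 4 1635 1)) (.leaf (.up 4 1977 1))) (.node (.leaf (.up 4 1935 3)) (.leaf (.up 5 1467 1))))) (.node (.node (.node (.leaf (.up 1 7 2)) (.leaf (.up 1 35 0))) (.node (.leaf (.up 1 21 2)) (.leaf (.up 2 1196 3)))) (.node (.node (.leaf (.up 2 1868 4)) (.leaf (.up 2 1087 4))) (.node (.leaf (.up 2 1358 4)) (.leaf (.up 3 1980 2)))))) (.node (.node (.node (.node (.leaf (.up 3 872 3)) (.leaf (.up 1 225 4))) (.node (.leaf (.up 3 360 3)) (.leaf (.up 2 739 4)))) (.node (.node (.leaf (.up 2 1886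 2)) (.leaf (.up 2 483 4))) (.node (.leaf (.up 2 1868 2)) (.leaf (.up 3 1388 3))))) (.node (.node (.node (.leaf (.up 5 1103 3)) (.leaf (.up 3 103 2))) (.node (.leaf (.up 2 1615 3)) (.leaf (.up 2 117 2)))) (.node (.node (.leaf (.up 4 1611 3)) (.leaf (.up 3 353 4))) (.node (.leaf (.up 4 445 1)) (.leaf (.up 3 103 1)))))))) (.node (.node (.node (.node (.node (.node (.leaf (.up 2 1175 2)) (.leaf (.up 4 2016 4))) (.node (.leaf (.up 2 1157 2)) (.leaf (.up 5 937 3)))) (.node (.node (.leaf (.up 2 1685 1)) (.leaf (.up 2 1871 1))) (.node (.leaf (.up 2 1175 1)) (.leaf (.up 3 429 3))))) (.node (.node (.node (.leaf (.up 3 412 1)) (.leaf (.up 4 1678 3))) (.node (.leaf (.up 2 1045 2)) (.leaf (.up 4 1376 4)))) (.node (.node (.leaf (.up 2 1045 1)) (.leaf (.up 1 130 0))) (.node (.leaf (.up 1 138 3)) (.leaf (.up 3 956 2)))))) (.node (.node (.node (.node (.leaf (.up 4 461 4)) (.leaf (.up 2 1271 2))) (.node (.leaf (.up 5 1237 2)) (.leaf (.up 2 188 4))))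 (.node (.node (.leaf (.up 2 457 1)) (.leaf (.up 1 19 1))) (.node (.leaf (.up 4 844 2)) (.leaf (.up 2 1358 3))))) (.node (.node (.node (.leaf (.up 3 1728 1)) (.leaf (.up 4 572 4))) (.node (.leaf (.up 4 1218 1)) (.leaf (.up 2 1141 2)))) (.node (.node (.leaf (.up 4 77 4)) (.leaf (.up 2 1022 2))) (.node (.leaf (.up 4 331 1)) (.leaf (.up 3 145 1))))))) (.node (.node (.node (.node (.node (.leaf (.up 5 1417 3)) (.leaf (.up 4 1453 4))) (.node (.leaf (.up 3 1929 3)) (.leaf (.up 3 165 2)))) (.node (.node (.leaf (.up 4 1933 3)) (.leaf (.up 4 1465 1))) (.node (.leaf (.up 3 1421 3)) (.leaf (.up 2 1979 1))))) (.node (.node (.node (.leaf (.up 1 23 2)) (.leaf (.up 3 688 1))) (.node (.leaf (.up 1 5 2)) (.leaf (.up 4 1837 4)))) (.node (.node (.leaf (.up 2 1886 4)) (.leaf (.up 3 1069 4))) (.node (.leaf (.up 2 1372 4)) (.leaf (.up 2 1583 4)))))) (.node (.node (.node (.node (.leaf (.up 3 362 3)) (.leaf (.up 2 243 4))) (.node (.leaf (.up 3 1204 1))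 (.leaf (.up 4 753 4)))) (.node (.node (.leaf (.up 3 878 3)) (.leaf (.up 4 497 4))) (.node (.leaf (.up 3 366 3)) (.leaf (.up 3 231 1))))) (.node (.node (.node (.leaf (.up 6 1613 3)) (.leaf (.up 2 113 4))) (.node (.leaf (.up 5 1101 3)) (.leaf (.up 4 2030 1)))) (.node (.node (.leaf (.up 3 1097 3)) (.leaf (.up 4 2030 2))) (.node (.leaf (.up 1 2 4)) (.leaf (.up 1 8 0))))))))

noncomputable def vt3_6_001 : Tr VStep := .node vt3_6_0010 vt3_6_0011

noncomputable def vt3_6_00 : Tr VStep := .node vt3_6_000 vt3_6_001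

noncomputable def vt3_6_0100 : Tr VStep :=
  .node (.node (.node (.node (.node (.node (.node (.leaf (.root 224)) (.leaf (.up 4 179 3))) (.node (.leaf (.up 3 510 4)) (.leaf (.up 4 691 3)))) (.node (.node (.leaf (.up 4 1207 3)) (.leaf (.up 4 695 3))) (.node (.leaf (.up 5 1719 3)) (.leaf (.up 4 183 3))))) (.node (.node (.node (.leaf (.root 340)) (.leaf (.up 4 13 4))) (.node (.leaf (.up 4 380 4)) (.leaf (.up 2 283 1)))) (.node (.node (.leaf (.up 4 827 2)) (.leaf (.up 2 271 4))) (.node (.leaf (.up 5 126 4)) (.leaf (.up 4 781 4)))))) (.node (.node (.node (.node (.leaf (.up 3 1823 1)) (.leaf (.up 6 1104 3))) (.node (.leaf (.up 3 1184 4)) (.leaf (.up 4 1616 3)))) (.node (.node (.leaf (.up 2 662 1)) (.leaf (.up 2 1620 3))) (.node (.leaf (.up 3 596 3)) (.leaf (.up 4 334 1))))) (.node (.node (.node (.leaf (.up 4 1439 1)) (.leaf (.up 3 887 3))) (.node (.leaf (.up 3 1248 2)) (.leaf (.up 4 375 3)))) (.node (.node (.leaf (.up 4 22 1)) (.leaf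 (.up 4 371 3))) (.node (.leaf (.up 5 532 1)) (.leaf (.up 4 883 3))))))) (.node (.node (.node (.node (.node (.leaf (.up 3 693 1)) (.leaf (.up 4 659 3))) (.node (.leaf (.up 4 1683 3)) (.leaf (.up 1 0 2)))) (.node (.node (.leaf (.up 2 1687 3)) (.leaf (.up 4 1766 1))) (.node (.leaf (.up 2 1175 3)) (.leaf (.up 5 663 3))))) (.node (.node (.node (.leaf (.up 4 948 3)) (.leaf (.up 1 130 2))) (.node (.leaf (.up 4 436 3)) (.leaf (.up 2 1005 1)))) (.node (.node (.leaf (.up 2 432 3)) (.leaf (.up 2 1126 1))) (.node (.leaf (.up 3 944 3)) (.leaf (.up 3 1456 3)))))) (.node (.node (.node (.node (.leaf (.up 4 112 3)) (.leaf (.up 2 1075 1))) (.node (.leaf (.up 1 96 2)) (.leaf (.up 3 1136 3)))) (.node (.node (.leaf (.up 1 96 1)) (.leaf (.up 2 1140 3))) (.node (.leaf (.up 2 610 1)) (.leaf (.up 3 1652 3))))) (.node (.node (.node (.leaf (.up 5 1879 3)) (.leaf (.up 2 1715 1))) (.node (.leaf (.up 5 1387 1)) (.leaf (.up 3 1308 4)))) (.node (.node (.leaf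 (.up 5 1391 4)) (.leaf (.up 6 851 3))) (.node (.leaf (.up 4 1875 3)) (.leaf (.up 4 339 3)))))))) (.node (.node (.node (.node (.node (.node (.leaf (.up 3 579 1)) (.leaf (.up 4 689 3))) (.node (.leaf (.up 3 65 1)) (.leaf (.up 5 177 3)))) (.node (.node (.leaf (.up 3 748 4)) (.leaf (.up 3 181 3))) (.node (.leaf (.up 5 1480 1)) (.leaf (.up 3 693 3))))) (.node (.node (.node (.leaf (.up 3 876 4)) (.leaf (.up 3 31 4))) (.node (.leaf (.up 1 3 0)) (.leaf (.up 3 541 4)))) (.node (.node (.leaf (.up 4 811 2)) (.leaf (.up 3 285 4))) (.node (.leaf (.up 4 108 4)) (.leaf (.up 2 799 4)))))) (.node (.node (.node (.node (.leaf (.up 2 1311 1)) (.leaf (.up 5 1618 3))) (.node (.leaf (.up 3 1821 1)) (.leaf (.up 4 1985 4)))) (.node (.node (.leaf (.up 3 150 1)) (.leaf (.up 3 1110 3))) (.node (.leaf (.up 3 1456 4)) (.leaf (.up 4 1622 3))))) (.node (.node (.node (.leaf (.up 3 1250 2)) (.leaf (.up 2 1605 1))) (.node (.leaf (.up 3 1397 3)) (.leaf (.up 5 885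 3)))) (.node (.node (.leaf (.up 5 1393 3)) (.leaf (.up 3 881 3))) (.node (.leaf (.up 5 1330 4)) (.leaf (.up 3 369 3))))))) (.node (.node (.node (.node (.node (.leaf (.up 3 181 1)) (.leaf (.up 1 2 2))) (.node (.leaf (.up 4 1169 3)) (.leaf (.up 4 657 3)))) (.node (.node (.leaf (.up 3 1173 3)) (.leaf (.up 4 661 3))) (.node (.leaf (.up 2 1685 3)) (.leaf (.up 3 1929 2))))) (.node (.node (.node (.leaf (.up 5 438 3)) (.leaf (.up 2 1007 1))) (.node (.leaf (.up 3 55 1)) (.leaf (.up 3 493 1)))) (.node (.node (.leaf (.up 1 35 4)) (.leaf (.up 2 848 4))) (.node (.leaf (.up 2 434 3)) (.leaf (.up 2 1124 1)))))) (.node (.node (.node (.node (.leaf (.up 4 2025 1)) (.leaf (.up 2 1587 1))) (.node (.leaf (.up 4 1791 4)) (.leaf (.up 5 1420 4)))) (.node (.node (.leaf (.up 2 608 1)) (.leaf (.up 3 1995 2))) (.node (.leaf (.up 2 630 3)) (.leaf (.up 2 1142 3))))) (.node (.node (.node (.leaf (.up 5 1365 3)) (.leaf (.up 5 853 3))) (.node (.leaf (.up 6 1877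 3)) (.leaf (.up 5 341 3)))) (.node (.node (.leaf (.up 4 1873 3)) (.leaf (.up 6 337 3))) (.node (.leaf (.up 6 1361 3)) (.leaf (.up 3 824 1))))))))

noncomputable def vt3_6_0101 : Tr VStep :=
  .node (.node (.node (.node (.node (.node (.node (.leaf (.root 2108)) (.leaf (.up 1 123 4))) (.node (.leaf (.up 4 526 1)) (.leaf (.up 2 187 3)))) (.node (.node (.leaf (.up 4 1409 2)) (.leaf (.up 4 377 4))) (.node (.leaf (.up 1 8 4)) (.leaf (.up 5 703 3))))) (.node (.node (.node (.leaf (.root 2044)) (.leaf (.up 2 1436 3))) (.node (.leaf (.up 3 412 3)) (.leaf (.up 4 763 4)))) (.node (.node (.leaf (.up 2 408 3)) (.leaf (.up 4 1944 3))) (.node (.leaf (.up 1 138 4)) (.leaf (.up 3 1245 1)))))) (.node (.node (.node (.node (.leaf (.up 2 88 3)) (.leaf (.up 3 632 2))) (.node (.leaf (.up 4 1362 1)) (.leaf (.up 3 1831 4)))) (.node (.node (.leaf (.up 6 604 3)) (.leaf (.up 3 1116 3))) (.node (.leaf (.up 5 1366 4)) (.leaf (.up 3 1523 2))))) (.node (.node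 (.node (.leaf (.up 4 1488 1)) (.leaf (.up 2 1034 1))) (.node (.leaf (.up 4 2002 1)) (.leaf (.up 2 1544 1)))) (.node (.node (.leaf (.up 1 89 1)) (.leaf (.up 5 1189 4))) (.node (.leaf (.up 4 603 1)) (.leaf (.up 4 379 3))))))) (.node (.node (.node (.node (.node (.leaf (.root 188)) (.leaf (.up 3 800 1))) (.node (.leaf (.up 4 1179 3)) (.leaf (.up 3 290 1)))) (.node (.node (.leaf (.up 6 1183 3)) (.leaf (.up 3 1705 1))) (.node (.leaf (.up 5 1695 3)) (.leaf (.up 3 1195 1))))) (.node (.node (.node (.leaf (.up 3 444 3)) (.leaf (.up 3 692 4))) (.node (.leaf (.up 3 632 1)) (.leaf (.up 4 182 4)))) (.node (.node (.leaf (.up 3 1523 1)) (.leaf (.up 5 305 2))) (.node (.leaf (.up 4 440 3)) (.leaf (.up 4 436 4)))))) (.node (.node (.node (.node (.leaf (.up 3 632 3)) (.leaf (.up 3 1148 1))) (.node (.leaf (.up 4 1956 1)) (.leaf (.up 3 1658 2)))) (.node (.node (.leaf (.up 2 449 2)) (.leaf (.up 4 497 2))) (.node (.leaf (.up 2 467 2)) (.leaf (.up 2 483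 2))))) (.node (.node (.node (.leaf (.up 2 1375 3)) (.leaf (.up 1 26 0))) (.node (.leaf (.up 2 1691 4)) (.leaf (.up 3 1278 1)))) (.node (.node (.leaf (.up 4 687 1)) (.leaf (.up 3 353 2))) (.node (.leaf (.up 5 173 1)) (.leaf (.up 2 1258 4)))))))) (.node (.node (.node (.node (.node (.node (.leaf (.root 757)) (.leaf (.up 4 568 2))) (.node (.leaf (.up 1 14 1)) (.leaf (.up 5 697 3)))) (.node (.node (.leaf (.up 2 536 4)) (.leaf (.up 4 363 4))) (.node (.leaf (.up 1 26 4)) (.leaf (.up 5 189 3))))) (.node (.node (.node (.leaf (.up 3 664 2)) (.leaf (.up 4 1950 3))) (.node (.leaf (.up 3 654 1)) (.leaf (.up 5 1438 3)))) (.node (.node (.leaf (.up 3 922 3)) (.leaf (.up 3 489 4))) (.node (.leaf (.up 2 152 4)) (.leaf (.up 3 1315 2)))))) (.node (.node (.node (.node (.leaf (.up 4 1604 4)) (.leaf (.up 3 1162 1))) (.node (.leaf (.up 5 90 3)) (.leaf (.up 4 1672 1)))) (.node (.node (.leaf (.up 5 94 3)) (.leaf (.up 4 259 1))) (.node (.leaf (.up 5 1348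 4)) (.leaf (.up 3 1118 3))))) (.node (.node (.node (.leaf (.up 4 1734 4)) (.leaf (.up 3 1546 1))) (.node (.leaf (.up 4 1490 1)) (.leaf (.up 3 746 2)))) (.node (.node (.leaf (.up 4 1988 4)) (.leaf (.up 2 899 1))) (.node (.leaf (.up 5 91 1)) (.leaf (.up 5 1717 4))))))) (.node (.node (.node (.node (.node (.leaf (.up 4 1177 3)) (.leaf (.up 4 1576 2))) (.node (.leaf (.up 3 1689 3)) (.leaf (.up 3 802 1)))) (.node (.node (.leaf (.up 5 1693 3)) (.leaf (.up 2 1193 1))) (.node (.leaf (.up 5 1181 3)) (.leaf (.up 2 1707 1))))) (.node (.node (.node (.leaf (.up 4 1672 2)) (.leaf (.up 4 678 4))) (.node (.leaf (.up 4 446 3)) (.leaf (.up 3 418 1)))) (.node (.node (.leaf (.up 3 215 4)) (.leaf (.up 5 289 2))) (.node (.leaf (.up 4 259 2)) (.leaf (.up 4 422 4)))))) (.node (.node (.node (.node (.leaf (.up 3 1033 4)) (.leaf (.up 3 1658 3))) (.node (.leaf (.up 3 1444 1)) (.leaf (.up 2 1400 4)))) (.node (.node (.leaf (.up 3 638 3)) (.leaf (.up 4 1150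 3))) (.node (.leaf (.up 3 1801 4)) (.leaf (.up 4 1146 4))))) (.node (.node (.node (.leaf (.up 5 1885 3)) (.leaf (.up 3 1276 1))) (.node (.leaf (.up 3 1828 1)) (.leaf (.up 3 861 3)))) (.node (.node (.leaf (.up 3 175 1)) (.leaf (.up 3 369 2))) (.node (.leaf (.up 4 339 2)) (.leaf (.up 3 887 1))))))))

noncomputable def vt3_6_010 : Tr VStep := .node vt3_6_0100 vt3_6_0101

noncomputable def vt3_6_0110 : Tr VStep :=
  .node (.node (.node (.node (.node (.node (.node (.leaf (.up 3 835 1)) (.leaf (.up 4 947 3))) (.node (.leaf (.up 3 175 2)) (.leaf (.up 5 435 3)))) (.node (.node (.leaf (.up 3 1828 2)) (.leaf (.up 4 1808 1))) (.node (.leaf (.up 5 1463 3)) (.leaf (.up 4 1298 1))))) (.node (.node (.node (.leaf (.up 3 660 3)) (.leaf (.up 2 1172 3))) (.node (.leaf (.up 3 148 3)) (.leaf (.up 3 539 1)))) (.node (.node (.leaf (.up 4 1972 2)) (.leaf (.up 2 1668 4))) (.node (.leaf (.up 4 656 3)) (.leaf (.up 3 1158 4)))))) (.node (.node (.node (.node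 (.leaf (.up 3 1055 1)) (.leaf (.up 4 1872 3))) (.node (.leaf (.up 2 848 3)) (.leaf (.up 2 88 4)))) (.node (.node (.leaf (.up 3 406 1)) (.leaf (.up 2 76 1))) (.node (.leaf (.up 4 340 3)) (.leaf (.up 4 1878 2))))) (.node (.node (.node (.leaf (.up 3 125 2)) (.leaf (.up 4 119 3))) (.node (.leaf (.up 5 1143 3)) (.leaf (.up 3 631 3)))) (.node (.node (.leaf (.up 3 1139 3)) (.leaf (.up 4 716 1))) (.node (.leaf (.up 3 683 4)) (.leaf (.up 4 115 3))))))) (.node (.node (.node (.node (.node (.leaf (.up 3 1939 3)) (.leaf (.up 3 1353 4))) (.node (.leaf (.up 3 1427 3)) (.leaf (.up 4 915 3)))) (.node (.node (.leaf (.up 3 1431 3)) (.leaf (.up 4 1510 1))) (.node (.leaf (.up 3 1943 3)) (.leaf (.up 3 1609 4))))) (.node (.node (.node (.leaf (.up 4 180 3)) (.leaf (.up 5 1716 3))) (.node (.leaf (.up 3 692 3)) (.leaf (.up 3 1204 3)))) (.node (.node (.leaf (.up 3 688 3)) (.leaf (.up 4 1225 4))) (.node (.leaf (.up 5 176 3)) (.leaf (.up 3 1380 1)))))) (.node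 (.node (.node (.node (.leaf (.up 4 880 3)) (.leaf (.up 1 23 4))) (.node (.leaf (.up 4 358 4)) (.leaf (.up 2 533 4)))) (.node (.node (.leaf (.up 3 372 3)) (.leaf (.up 3 1908 3))) (.node (.leaf (.up 2 354 1)) (.leaf (.up 3 1396 3))))) (.node (.node (.node (.leaf (.up 5 1111 3)) (.leaf (.up 5 1117 2))) (.node (.leaf (.up 4 1623 3)) (.leaf (.up 3 1969 1)))) (.node (.node (.leaf (.up 6 1619 3)) (.leaf (.up 3 83 3))) (.node (.leaf (.up 5 994 1)) (.leaf (.up 4 595 3)))))))) (.node (.node (.node (.node (.node (.node (.leaf (.up 3 1969 3)) (.leaf (.up 4 433 3))) (.node (.leaf (.up 6 1457 3)) (.leaf (.up 4 1300 4)))) (.node (.node (.leaf (.up 3 1383 4)) (.leaf (.up 4 1296 1))) (.node (.leaf (.up 4 1736 1)) (.leaf (.up 4 1810 1))))) (.node (.node (.node (.leaf (.up 2 963 1)) (.leaf (.up 2 1686 3))) (.node (.leaf (.up 1 7 0)) (.leaf (.up 1 11 0)))) (.node (.node (.leaf (.up 2 658 3)) (.leaf (.up 2 1686 4))) (.node (.leaf (.up 4 146 3)) (.leaf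 (.up 2 1172 4)))))) (.node (.node (.node (.node (.leaf (.up 4 850 3)) (.leaf (.up 2 584 4))) (.node (.leaf (.up 4 338 3)) (.leaf (.up 3 74 4)))) (.node (.node (.leaf (.up 3 1892 2)) (.leaf (.up 4 1878 3))) (.node (.leaf (.up 2 404 1)) (.leaf (.up 3 328 4))))) (.node (.node (.node (.leaf (.up 2 1141 3)) (.leaf (.up 4 629 3))) (.node (.leaf (.up 5 1653 3)) (.leaf (.up 2 117 3)))) (.node (.node (.leaf (.up 2 187 4)) (.leaf (.up 2 113 3))) (.node (.leaf (.up 3 1137 3)) (.leaf (.up 2 458 4))))))) (.node (.node (.node (.node (.node (.leaf (.up 4 1425 3)) (.leaf (.up 5 913 3))) (.node (.leaf (.up 4 1937 3)) (.leaf (.up 4 109 1)))) (.node (.node (.leaf (.up 4 1941 3)) (.leaf (.up 3 1113 4))) (.node (.leaf (.up 3 1429 3)) (.leaf (.up 4 1508 1))))) (.node (.node (.node (.leaf (.up 3 694 3)) (.leaf (.up 4 1053 2))) (.node (.leaf (.up 2 1087 2)) (.leaf (.up 4 1039 2)))) (.node (.node (.leaf (.up 4 1960 4)) (.leaf (.up 4 1382 1))) (.node (.leaf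 (.up 4 690 3)) (.leaf (.up 3 1892 1)))))) (.node (.node (.node (.node (.leaf (.up 2 1261 2)) (.leaf (.up 1 5 4))) (.node (.leaf (.up 1 96 0)) (.leaf (.up 4 1394 3)))) (.node (.node (.leaf (.up 3 628 4)) (.leaf (.up 3 836 2))) (.node (.leaf (.up 3 870 2)) (.leaf (.up 3 854 2))))) (.node (.node (.node (.leaf (.up 4 1621 3)) (.leaf (.up 5 1101 2))) (.node (.leaf (.up 5 1109 3)) (.leaf (.up 4 597 3)))) (.node (.node (.leaf (.up 6 1105 3)) (.leaf (.up 4 570 1))) (.node (.leaf (.up 4 1617 3)) (.leaf (.up 4 903 4))))))))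

noncomputable def vt3_6_0111 : Tr VStep :=
  .node (.node (.node (.node (.node (.node (.node (.leaf (.root 1840)) (.leaf (.up 4 1703 2))) (.node (.leaf (.up 3 1665 4)) (.leaf (.up 5 955 3)))) (.node (.node (.leaf (.up 4 1471 3)) (.leaf (.up 4 1887 1))) (.node (.leaf (.up 3 284 2)) (.leaf (.up 3 1264 4))))) (.node (.node (.node (.leaf (.up 2 396 1)) (.leaf (.up 3 1906 4))) (.node (.leaf (.up 2 1557 2)) (.leaf (.up 3 596 1)))) (.node (.node (.leaf (.up 3 664 3)) (.leaf (.up 4 430 2))) (.node (.leaf (.up 2 152 3)) (.leaf (.up 3 444 2)))))) (.node (.node (.node (.node (.leaf (.up 4 856 3)) (.leaf (.up 3 686 4))) (.node (.leaf (.up 5 344 3)) (.leaf (.up 2 172 4)))) (.node (.node (.leaf (.up 3 348 3)) (.leaf (.up 1 3 1))) (.node (.leaf (.up 5 860 3)) (.leaf (.up 2 1372 3))))) (.node (.node (.node (.leaf (.up 4 1623 2)) (.leaf (.up 6 639 3))) (.node (.leaf (.up 2 1605 2)) (.leaf (.up 3 1288 1)))) (.node (.node (.leaf (.up 4 1659 3))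 (.leaf (.up 1 123 3))) (.node (.leaf (.up 5 347 1)) (.leaf (.up 3 635 3))))))) (.node (.node (.node (.node (.node (.leaf (.up 4 1742 4)) (.leaf (.up 4 1469 4))) (.node (.leaf (.up 2 1016 1)) (.leaf (.up 3 677 2)))) (.node (.node (.leaf (.up 3 1310 2)) (.leaf (.up 3 1215 4))) (.node (.leaf (.up 2 1486 4)) (.leaf (.up 3 1725 4))))) (.node (.node (.node (.leaf (.up 2 700 3)) (.leaf (.up 4 551 2))) (.node (.leaf (.up 2 188 3)) (.leaf (.up 5 1853 4)))) (.node (.node (.leaf (.up 3 1870 4)) (.leaf (.up 4 1470 2))) (.node (.leaf (.up 2 1436 2)) (.leaf (.up 3 1452 2)))))) (.node (.node (.node (.node (.leaf (.up 4 1702 1)) (.leaf (.up 3 227 4))) (.node (.leaf (.up 3 888 3)) (.leaf (.up 2 1400 3)))) (.node (.node (.leaf (.up 2 658 4)) (.leaf (.up 4 757 1))) (.node (.leaf (.up 2 1372 2)) (.leaf (.up 3 1388 2))))) (.node (.node (.node (.leaf (.up 4 1062 1)) (.leaf (.up 3 631 2))) (.node (.leaf (.up 4 272 4)) (.leaf (.up 3 611 4)))) (.node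 (.node (.leaf (.up 5 1115 3)) (.leaf (.up 2 117 1))) (.node (.leaf (.up 4 941 1)) (.leaf (.up 3 631 1)))))))) (.node (.node (.node (.node (.node (.node (.leaf (.up 2 1671 2)) (.leaf (.up 3 214 1))) (.node (.leaf (.up 2 1685 2)) (.leaf (.up 4 441 3)))) (.node (.node (.leaf (.up 2 1157 1)) (.leaf (.up 2 1375 1))) (.node (.leaf (.up 2 1671 1)) (.leaf (.up 3 957 3))))) (.node (.node (.node (.leaf (.up 3 1043 4)) (.leaf (.up 3 1888 4))) (.node (.leaf (.up 2 1541 2)) (.leaf (.up 3 1378 4)))) (.node (.node (.leaf (.up 2 1541 1)) (.leaf (.up 4 2015 1))) (.node (.leaf (.up 3 412 2)) (.leaf (.up 3 428 2)))))) (.node (.node (.node (.node (.leaf (.up 4 1751 2)) (.leaf (.up 2 700 4))) (.node (.leaf (.up 6 858 3)) (.leaf (.up 5 1370 3)))) (.node (.node (.leaf (.up 4 862 3)) (.leaf (.up 4 382 2))) (.node (.leaf (.up 3 348 2)) (.leaf (.up 1 1 1))))) (.node (.node (.node (.leaf (.up 4 333 4)) (.leaf (.up 3 125 3))) (.node (.leaf (.up 4 1621 2))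 (.leaf (.up 4 1800 1)))) (.node (.node (.leaf (.up 4 79 4)) (.leaf (.up 4 633 3))) (.node (.leaf (.up 4 859 1)) (.leaf (.up 4 121 3))))))) (.node (.node (.node (.node (.node (.leaf (.up 3 1756 4)) (.leaf (.up 3 544 1))) (.node (.leaf (.up 4 1246 4)) (.leaf (.up 3 693 2)))) (.node (.node (.leaf (.up 5 1437 3)) (.leaf (.up 3 1197 4))) (.node (.leaf (.up 3 1308 2)) (.leaf (.up 3 1711 4))))) (.node (.node (.node (.leaf (.up 4 378 1)) (.leaf (.up 4 160 1))) (.node (.leaf (.up 2 533 2)) (.leaf (.up 5 674 1)))) (.node (.node (.leaf (.up 3 1884 4)) (.leaf (.up 3 1071 4))) (.node (.leaf (.up 5 186 3)) (.leaf (.up 4 1468 2)))))) (.node (.node (.node (.node (.leaf (.up 4 890 3)) (.leaf (.up 3 241 4))) (.node (.leaf (.up 2 384 4)) (.leaf (.up 4 755 4)))) (.node (.node (.leaf (.up 3 640 4)) (.leaf (.up 4 1918 3))) (.node (.leaf (.up 1 130 4)) (.leaf (.up 3 1009 4))))) (.node (.node (.node (.leaf (.up 5 1117 3)) (.leaf (.up 2 2044 1))) (.node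 (.leaf (.up 3 1060 1)) (.leaf (.up 2 1534 1)))) (.node (.node (.leaf (.up 2 1625 3)) (.leaf (.up 1 89 3))) (.node (.leaf (.up 1 0 4)) (.leaf (.up 4 1516 2))))))))

noncomputable def vt3_6_011 : Tr VStep := .node vt3_6_0110 vt3_6_0111

noncomputable def vt3_6_01 : Tr VStep := .node vt3_6_010 vt3_6_011

noncomputable def vt3_6_0 : Tr VStep := .node vt3_6_00 vt3_6_01

noncomputable def vt3_6_1000 : Tr VStep :=
  .node (.node (.node (.node (.node (.node (.node (.leaf (.root 320)) (.leaf (.up 3 1815 3))) (.node (.leaf (.up 3 511 4)) (.leaf (.up 2 906 1)))) (.node (.node (.leaf (.up 4 767 4)) (.leaf (.up 2 396 4))) (.node (.leaf (.up 4 2009 1)) (.leaf (.up 3 910 4))))) (.node (.node (.node (.leaf (.up 4 1699 2)) (.leaf (.up 2 776 1))) (.node (.leaf (.up 5 1072 3)) (.leaf (.up 2 560 3)))) (.node (.node (.leaf (.up 6 1076 3)) (.leaf (.up 3 1665 1))) (.node (.leaf (.up 5 127 4)) (.leaf (.up 2 1155 1)))))) (.node (.node (.node (.node (.leaf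 (.up 2 1524 3)) (.leaf (.up 4 1488 4))) (.node (.leaf (.up 4 2036 3)) (.leaf (.up 4 2002 4)))) (.node (.node (.leaf (.up 4 1953 4)) (.leaf (.up 2 458 2))) (.node (.leaf (.up 5 1520 3)) (.leaf (.up 4 472 2))))) (.node (.node (.node (.leaf (.up 3 723 3)) (.leaf (.up 4 1362 4))) (.node (.leaf (.up 2 1059 4)) (.leaf (.up 4 1747 3)))) (.node (.node (.leaf (.up 1 7 1)) (.leaf (.up 4 1751 3))) (.node (.leaf (.up 2 517 1)) (.leaf (.up 3 1239 3))))))) (.node (.node (.node (.node (.node (.leaf (.root 723)) (.leaf (.up 2 894 1))) (.node (.leaf (.up 3 946 4)) (.leaf (.up 4 380 1)))) (.node (.node (.leaf (.up 4 1837 1)) (.leaf (.up 3 1843 3))) (.node (.leaf (.up 1 33 0)) (.leaf (.up 3 1331 3))))) (.node (.node (.node (.leaf (.up 4 691 2)) (.leaf (.up 3 510 1))) (.node (.leaf (.up 3 816 4)) (.leaf (.up 2 1020 1)))) (.node (.node (.leaf (.up 4 1453 1)) (.leaf (.up 3 835 4))) (.node (.leaf (.up 3 1336 2)) (.leaf (.up 3 1288 2)))))) (.node (.node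 (.node (.node (.leaf (.up 4 1262 4)) (.leaf (.up 3 579 2))) (.node (.leaf (.up 3 1772 4)) (.leaf (.up 4 1439 4)))) (.node (.node (.leaf (.up 2 113 1)) (.leaf (.up 3 1498 2))) (.node (.leaf (.up 4 2030 4)) (.leaf (.up 5 464 3))))) (.node (.node (.node (.leaf (.root 1248)) (.leaf (.up 3 1823 4))) (.node (.leaf (.up 3 1646 4)) (.leaf (.up 3 1184 1)))) (.node (.node (.leaf (.up 4 753 1)) (.leaf (.up 2 1271 3))) (.node (.leaf (.up 2 243 1)) (.leaf (.up 3 1055 4)))))))) (.node (.node (.node (.node (.node (.node (.leaf (.root 544)) (.leaf (.up 2 904 1))) (.node (.leaf (.up 3 493 4)) (.leaf (.up 3 394 1)))) (.node (.node (.leaf (.up 4 442 2)) (.leaf (.up 3 1809 3))) (.node (.leaf (.up 4 424 2)) (.leaf (.up 2 408 2))))) (.node (.node (.node (.leaf (.up 2 1074 3)) (.leaf (.up 3 30 4))) (.node (.leaf (.up 3 367 4)) (.leaf (.up 2 778 1)))) (.node (.node (.leaf (.up 5 1590 3)) (.leaf (.up 3 284 4))) (.node (.leaf (.up 4 109 4)) (.leaf (.up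 3 798 4)))))) (.node (.node (.node (.node (.leaf (.up 5 2038 3)) (.leaf (.up 5 1603 2))) (.node (.leaf (.up 5 1526 3)) (.leaf (.up 3 1750 1)))) (.node (.node (.leaf (.up 5 490 2)) (.leaf (.up 5 1216 4))) (.node (.leaf (.up 4 2034 3)) (.leaf (.up 3 863 1))))) (.node (.node (.node (.leaf (.up 2 1587 4)) (.leaf (.up 2 1620 1))) (.node (.leaf (.up 5 1420 1)) (.leaf (.up 3 1110 1)))) (.node (.node (.leaf (.up 4 725 3)) (.leaf (.up 5 1237 3))) (.node (.leaf (.up 1 5 1)) (.leaf (.up 3 479 1))))))) (.node (.node (.node (.node (.node (.leaf (.up 3 418 4)) (.leaf (.up 4 382 1))) (.node (.leaf (.up 4 678 1)) (.leaf (.up 4 892 1)))) (.node (.node (.leaf (.up 4 160 4)) (.leaf (.up 2 1271 1))) (.node (.leaf (.up 5 674 4)) (.leaf (.up 5 1416 2))))) (.node (.node (.node (.leaf (.up 4 675 2)) (.leaf (.up 2 1022 1))) (.node (.leaf (.up 3 802 4)) (.leaf (.up 4 530 3)))) (.node (.node (.leaf (.up 3 1338 2)) (.leaf (.up 5 1290 2))) (.node (.leaf (.up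 3 544 4)) (.leaf (.up 2 1141 1)))))) (.node (.node (.node (.node (.leaf (.up 1 10 0)) (.leaf (.up 2 1570 1))) (.node (.leaf (.up 3 2006 3)) (.leaf (.up 3 470 3)))) (.node (.node (.leaf (.up 2 1534 4)) (.leaf (.up 4 1677 4))) (.node (.leaf (.up 2 2044 4)) (.leaf (.up 6 978 3))))) (.node (.node (.node (.leaf (.up 2 1400 1)) (.leaf (.up 2 1186 1))) (.node (.leaf (.up 3 241 3)) (.leaf (.up 4 1696 1)))) (.node (.node (.leaf (.up 3 241 1)) (.leaf (.up 3 299 1))) (.node (.leaf (.up 2 1400 2)) (.leaf (.up 5 1269 3))))))))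

noncomputable def vt3_6_1001 : Tr VStep :=
  .node (.node (.node (.node (.node (.node (.node (.leaf (.root 1296)) (.leaf (.up 2 1311 3))) (.node (.leaf (.up 1 11 2)) (.leaf (.up 1 19 0)))) (.node (.node (.leaf (.up 2 283 3)) (.leaf (.up 4 1819 3))) (.node (.leaf (.up 1 9 4)) (.leaf (.up 2 1307 3))))) (.node (.node (.node (.leaf (.up 4 1080 3)) (.leaf (.up 4 568 3))) (.node (.leaf (.up 5 1592 3)) (.leaf (.up 2 325 1)))) (.node (.node (.leaf (.up 4 1596 3)) (.leaf (.up 4 1742 1))) (.node (.leaf (.up 5 1084 3)) (.leaf (.up 2 1016 4)))))) (.node (.node (.node (.node (.leaf (.up 2 2044 3)) (.leaf (.up 2 1691 1))) (.node (.leaf (.up 5 1532 3)) (.leaf (.up 2 1020 3)))) (.node (.node (.leaf (.up 4 1528 3)) (.leaf (.up 2 1016 3))) (.node (.leaf (.up 5 2040 3)) (.leaf (.up 4 272 1))))) (.node (.node (.node (.leaf (.up 5 1473 1)) (.leaf (.up 3 1755 3))) (.node (.leaf (.up 3 1239 4)) (.leaf (.up 4 1956 4)))) (.node (.node (.leaf (.up 1 72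 1)) (.leaf (.up 3 1247 3))) (.node (.leaf (.up 5 223 3)) (.leaf (.up 4 1702 4))))))) (.node (.node (.node (.node (.node (.leaf (.up 3 319 3)) (.leaf (.up 4 1855 3))) (.node (.leaf (.up 5 233 1)) (.leaf (.up 4 1343 3)))) (.node (.node (.leaf (.up 4 827 3)) (.leaf (.up 4 1339 3))) (.node (.leaf (.up 4 1376 1)) (.leaf (.up 3 1851 3))))) (.node (.node (.node (.leaf (.up 4 1177 2)) (.leaf (.up 1 24 3))) (.node (.leaf (.up 5 1048 3)) (.leaf (.up 2 536 3)))) (.node (.node (.leaf (.up 5 1052 3)) (.leaf (.up 3 540 3))) (.node (.leaf (.up 4 2016 1)) (.leaf (.up 3 28 3)))))) (.node (.node (.node (.node (.leaf (.up 3 1500 3)) (.leaf (.up 5 988 3))) (.node (.leaf (.up 4 2012 3)) (.leaf (.up 5 1387 4)))) (.node (.node (.leaf (.up 4 1304 4)) (.leaf (.up 4 472 3))) (.node (.leaf (.up 4 572 1)) (.leaf (.up 5 984 3))))) (.node (.node (.node (.leaf (.up 4 763 3)) (.leaf (.up 3 2027 4))) (.node (.leaf (.up 4 251 3)) (.leaf (.up 4 1787 3)))) (.node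 (.node (.leaf (.up 2 848 2)) (.leaf (.up 4 1791 3))) (.node (.leaf (.up 2 188 1)) (.leaf (.up 3 1279 3)))))))) (.node (.node (.node (.node (.node (.node (.leaf (.up 1 9 2)) (.leaf (.up 3 1821 3))) (.node (.leaf (.up 3 797 3)) (.leaf (.up 3 1309 3)))) (.node (.node (.leaf (.up 4 537 4)) (.leaf (.up 3 362 4))) (.node (.leaf (.up 3 1430 1)) (.leaf (.up 3 872 4))))) (.node (.node (.node (.leaf (.up 4 1594 3)) (.leaf (.up 3 234 4))) (.node (.leaf (.up 5 1082 3)) (.leaf (.up 2 187 2)))) (.node (.node (.leaf (.up 4 1300 1)) (.leaf (.up 5 488 4))) (.node (.leaf (.up 4 1598 3)) (.leaf (.up 4 62 3)))))) (.node (.node (.node (.node (.leaf (.root 950)) (.leaf (.up 2 1022 3))) (.node (.leaf (.up 5 2046 3)) (.leaf (.up 1 123 2)))) (.node (.node (.leaf (.up 4 200 1)) (.leaf (.up 4 274 1))) (.node (.leaf (.up 4 1530 3)) (.leaf (.up 5 1018 3))))) (.node (.node (.node (.leaf (.up 4 1985 1)) (.leaf (.up 3 1460 4))) (.node (.leaf (.up 5 217 3)) (.leaf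 (.up 4 1049 1)))) (.node (.node (.leaf (.up 2 584 1)) (.leaf (.up 3 1757 3))) (.node (.leaf (.up 3 74 1)) (.leaf (.up 3 1245 3))))))) (.node (.node (.node (.node (.node (.leaf (.up 4 829 3)) (.leaf (.up 3 1341 3))) (.node (.leaf (.up 5 317 3)) (.leaf (.up 3 1083 2)))) (.node (.node (.leaf (.up 3 1378 1)) (.leaf (.up 3 807 4))) (.node (.leaf (.up 3 1888 1)) (.leaf (.up 4 1337 3))))) (.node (.node (.node (.leaf (.up 5 1050 3)) (.leaf (.up 2 538 3))) (.node (.leaf (.up 4 1179 2)) (.leaf (.up 1 26 3)))) (.node (.node (.leaf (.up 3 214 4)) (.leaf (.up 3 30 3))) (.node (.leaf (.up 4 1054 3)) (.leaf (.up 3 542 3)))))) (.node (.node (.node (.node (.leaf (.up 3 1097 2)) (.leaf (.up 5 478 3))) (.node (.leaf (.up 3 1546 4)) (.leaf (.up 5 1135 1)))) (.node (.node (.leaf (.up 3 1498 3)) (.leaf (.up 6 986 3))) (.node (.leaf (.up 4 1800 4)) (.leaf (.up 5 474 3))))) (.node (.node (.node (.leaf (.up 3 1162 4)) (.leaf (.up 2 1261 1))) (.node (.leaf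 (.up 4 1672 4)) (.leaf (.up 3 1775 1)))) (.node (.node (.leaf (.up 5 765 3)) (.leaf (.up 4 880 2))) (.node (.leaf (.up 2 700 1)) (.leaf (.up 3 870 1))))))))

noncomputable def vt3_6_100 : Tr VStep := .node vt3_6_1000 vt3_6_1001

noncomputable def vt3_6_1010 : Tr VStep :=
  .node (.node (.node (.node (.node (.node (.node (.leaf (.root 508)) (.leaf (.up 2 648 1))) (.node (.leaf (.up 1 23 3)) (.leaf (.up 1 138 1)))) (.node (.node (.leaf (.up 1 19 3)) (.leaf (.up 3 1301 2))) (.node (.leaf (.up 4 531 3)) (.leaf (.up 3 1043 3))))) (.node (.node (.node (.leaf (.up 6 1328 3)) (.leaf (.up 1 8 1))) (.node (.leaf (.up 5 976 1)) (.leaf (.up 4 526 2)))) (.node (.node (.leaf (.up 3 1844 3)) (.leaf (.up 4 308 3))) (.node (.leaf (.up 2 1625 1)) (.leaf (.up 3 1431 2)))))) (.node (.node (.node (.node (.leaf (.up 3 1780 3)) (.leaf (.up 4 603 4))) (.node (.leaf (.up 4 766 2)) (.leaf (.up 1 89 4)))) (.node (.node (.leaf (.up 1 42 4)) (.leaf (.up 4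 752 3))) (.node (.leaf (.up 3 1383 2)) (.leaf (.up 5 347 4))))) (.node (.node (.node (.leaf (.up 2 467 3)) (.leaf (.up 6 2003 3))) (.node (.leaf (.up 3 979 3)) (.leaf (.up 5 1366 1)))) (.node (.node (.leaf (.up 2 775 1)) (.leaf (.up 5 1495 3))) (.node (.leaf (.up 2 261 1)) (.leaf (.up 3 2007 3))))))) (.node (.node (.node (.node (.node (.leaf (.up 3 420 1)) (.leaf (.up 5 126 1))) (.node (.leaf (.up 4 1081 4)) (.leaf (.up 4 1678 2)))) (.node (.node (.leaf (.up 3 1069 1)) (.leaf (.up 2 1075 3))) (.node (.leaf (.up 2 1583 1)) (.leaf (.up 2 1587 3))))) (.node (.node (.node (.leaf (.up 2 1721 4)) (.leaf (.up 4 272 3))) (.node (.leaf (.up 2 1211 4)) (.leaf (.up 5 784 3)))) (.node (.node (.leaf (.up 2 1979 4)) (.leaf (.up 5 788 3))) (.node (.leaf (.up 4 1465 4)) (.leaf (.up 3 391 2)))))) (.node (.node (.node (.node (.leaf (.up 3 1784 1)) (.leaf (.up 4 22 4))) (.node (.leaf (.up 4 359 4)) (.leaf (.up 5 532 4)))) (.node (.node (.leaf (.up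 3 881 1)) (.leaf (.up 3 683 1))) (.node (.leaf (.up 4 375 2)) (.leaf (.up 3 720 3))))) (.node (.node (.node (.leaf (.up 3 999 4)) (.leaf (.up 3 1523 3))) (.node (.leaf (.up 3 1658 1)) (.leaf (.up 2 662 4)))) (.node (.node (.leaf (.up 4 497 1)) (.leaf (.up 3 406 4))) (.node (.leaf (.up 3 231 4)) (.leaf (.up 4 1527 3)))))))) (.node (.node (.node (.node (.node (.node (.leaf (.root 540)) (.leaf (.up 1 136 1))) (.node (.leaf (.up 1 132 0)) (.leaf (.up 1 136 0)))) (.node (.node (.leaf (.up 4 1382 4)) (.leaf (.up 2 1557 4))) (.node (.leaf (.up 1 17 3)) (.leaf (.up 4 1795 1))))) (.node (.node (.node (.leaf (.up 4 1842 3)) (.leaf (.up 2 520 1))) (.node (.leaf (.up 3 558 2)) (.leaf (.up 1 10 1)))) (.node (.node (.leaf (.up 4 1508 4)) (.leaf (.up 2 1687 4))) (.node (.leaf (.up 3 1113 1)) (.leaf (.up 3 1415 2)))))) (.node (.node (.node (.node (.leaf (.up 6 1270 3)) (.leaf (.up 4 716 2))) (.node (.leaf (.up 3 824 4)) (.leaf (.up 3 1494 1))))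 (.node (.node (.leaf (.up 4 903 1)) (.leaf (.up 4 605 1))) (.node (.leaf (.up 4 570 4)) (.leaf (.up 5 95 1))))) (.node (.node (.node (.leaf (.up 2 977 3)) (.leaf (.up 4 1364 1))) (.node (.leaf (.up 3 638 2)) (.leaf (.up 4 1878 1)))) (.node (.node (.leaf (.up 3 1525 2)) (.leaf (.up 4 2005 3))) (.node (.leaf (.up 3 1511 2)) (.leaf (.up 3 735 1))))))) (.node (.node (.node (.node (.node (.leaf (.up 5 1724 2)) (.leaf (.up 3 638 1))) (.node (.leaf (.up 4 422 1)) (.leaf (.up 4 124 1)))) (.node (.node (.leaf (.up 4 293 2)) (.leaf (.up 5 2039 1))) (.node (.leaf (.up 3 1071 1)) (.leaf (.up 3 1525 1))))) (.node (.node (.node (.leaf (.up 2 1707 4)) (.leaf (.up 6 786 3))) (.node (.leaf (.up 2 1193 4)) (.leaf (.up 4 274 3)))) (.node (.node (.leaf (.up 3 1197 1)) (.leaf (.up 4 278 3))) (.node (.leaf (.up 3 1711 1)) (.leaf (.up 5 790 3)))))) (.node (.node (.node (.node (.leaf (.up 1 14 0)) (.leaf (.up 1 2 0))) (.node (.leaf (.up 3 1790 2)) (.leaf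 (.up 4 1742 2)))) (.node (.node (.leaf (.up 3 369 1)) (.leaf (.up 2 325 2))) (.node (.leaf (.up 4 359 2)) (.leaf (.up 4 210 3))))) (.node (.node (.node (.leaf (.up 4 497 3)) (.leaf (.up 4 1954 1))) (.node (.leaf (.up 3 1009 3)) (.leaf (.up 4 1521 3)))) (.node (.node (.leaf (.up 3 1009 1)) (.leaf (.up 2 388 4))) (.node (.leaf (.up 4 501 3)) (.leaf (.up 3 455 2))))))))

noncomputable def vt3_6_1011 : Tr VStep :=
  .node (.node (.node (.node (.node (.node (.node (.leaf (.up 3 797 1)) (.leaf (.up 4 1567 3))) (.node (.leaf (.up 3 287 1)) (.leaf (.up 1 23 0)))) (.node (.node (.leaf (.up 3 1408 4)) (.leaf (.up 3 1870 1))) (.node (.leaf (.up 3 797 2)) (.leaf (.up 3 813 2))))) (.node (.node (.node (.leaf (.up 3 1848 3)) (.leaf (.up 6 312 3))) (.node (.leaf (.up 3 1336 3)) (.leaf (.up 3 824 3)))) (.node (.node (.leaf (.up 5 1340 3)) (.leaf (.up 2 1486 1))) (.node (.leaf (.up 3 1852 3)) (.leaf (.up 3 957 2)))))) (.node (.node (.node (.node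 (.leaf (.up 3 1276 3)) (.leaf (.up 4 687 4))) (.node (.leaf (.up 5 1788 3)) (.leaf (.up 5 173 4)))) (.node (.node (.leaf (.up 3 1784 3)) (.leaf (.up 4 941 4))) (.node (.leaf (.up 4 1272 3)) (.leaf (.up 5 760 3))))) (.node (.node (.node (.leaf (.up 3 1110 2)) (.leaf (.up 2 1126 2))) (.node (.leaf (.up 3 475 3)) (.leaf (.up 2 1140 2)))) (.node (.node (.leaf (.up 3 479 3)) (.leaf (.up 2 658 1))) (.node (.leaf (.up 5 991 3)) (.leaf (.up 2 1005 2))))))) (.node (.node (.node (.node (.node (.leaf (.up 4 575 3)) (.leaf (.up 2 1087 3))) (.node (.leaf (.up 3 148 2)) (.leaf (.up 3 1599 3)))) (.node (.node (.leaf (.up 3 59 3)) (.leaf (.up 5 1595 3))) (.node (.leaf (.up 2 1487 4)) (.leaf (.up 3 1083 3))))) (.node (.node (.node (.leaf (.up 4 1304 3)) (.leaf (.up 2 792 3))) (.node (.leaf (.up 3 4 2)) (.leaf (.up 3 280 3)))) (.node (.node (.leaf (.up 2 1871 4)) (.leaf (.up 3 284 3))) (.node (.leaf (.up 3 1308 3)) (.leaf (.up 3 796 3)))))) (.node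 (.node (.node (.node (.leaf (.up 3 1756 3)) (.leaf (.up 4 220 3))) (.node (.leaf (.up 5 403 4)) (.leaf (.up 5 1391 1)))) (.node (.node (.leaf (.up 2 1871 2)) (.leaf (.up 6 728 3))) (.node (.leaf (.up 3 145 4)) (.leaf (.up 5 994 4))))) (.node (.node (.node (.leaf (.up 4 70 2)) (.leaf (.up 1 96 4))) (.node (.leaf (.up 3 1019 3)) (.leaf (.up 2 610 4)))) (.node (.node (.leaf (.up 2 1023 3)) (.leaf (.up 2 354 4))) (.node (.leaf (.up 1 19 4)) (.leaf (.up 3 2047 3)))))))) (.node (.node (.node (.node (.node (.node (.leaf (.up 3 285 1)) (.leaf (.up 3 199 1))) (.node (.leaf (.up 2 1172 2)) (.leaf (.up 3 1505 4)))) (.node (.node (.leaf (.up 2 1172 1)) (.leaf (.up 2 1358 1))) (.node (.leaf (.up 2 1686 1)) (.leaf (.up 2 1868 1))))) (.node (.node (.node (.leaf (.up 3 1338 3)) (.leaf (.up 4 1062 2))) (.node (.leaf (.up 3 1850 3)) (.leaf (.up 4 69 1)))) (.node (.node (.leaf (.up 4 1296 4)) (.leaf (.up 4 1635 4))) (.node (.leaf (.up 4 1810 4))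 (.leaf (.up 4 830 3)))))) (.node (.node (.node (.node (.leaf (.up 3 1790 3)) (.leaf (.up 4 1947 1))) (.node (.leaf (.up 3 1278 3)) (.leaf (.up 4 766 3)))) (.node (.node (.leaf (.up 4 968 1)) (.leaf (.up 4 762 3))) (.node (.leaf (.up 2 458 1)) (.leaf (.up 4 445 4))))) (.node (.node (.node (.leaf (.up 3 473 3)) (.leaf (.up 2 1307 1))) (.node (.leaf (.up 4 985 3)) (.leaf (.up 2 1124 2)))) (.node (.node (.leaf (.up 3 328 1)) (.leaf (.up 2 1007 2))) (.node (.leaf (.up 4 477 3)) (.leaf (.up 2 1021 2))))))) (.node (.node (.node (.node (.node (.leaf (.up 3 150 2)) (.leaf (.up 3 1597 3))) (.node (.leaf (.up 1 132 2)) (.leaf (.up 2 51 1)))) (.node (.node (.leaf (.up 4 2015 4)) (.leaf (.up 2 1196 4))) (.node (.leaf (.up 3 1821 2)) (.leaf (.up 4 1593 3))))) (.node (.node (.node (.leaf (.up 4 363 1)) (.leaf (.up 3 282 3))) (.node (.leaf (.up 5 1306 3)) (.leaf (.up 2 794 3)))) (.node (.node (.leaf (.up 3 1310 3)) (.leaf (.up 3 798 3))) (.node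 (.leaf (.up 2 1375 4)) (.leaf (.up 3 286 3)))))) (.node (.node (.node (.node (.leaf (.up 2 899 4)) (.leaf (.up 5 734 3))) (.node (.leaf (.up 5 1717 1)) (.leaf (.up 5 222 3)))) (.node (.node (.leaf (.up 4 1754 3)) (.leaf (.up 5 218 3))) (.node (.leaf (.up 4 1242 3)) (.leaf (.up 5 742 1))))) (.node (.node (.node (.leaf (.up 3 1017 3)) (.leaf (.up 4 2029 1))) (.node (.leaf (.up 4 259 4)) (.leaf (.up 3 624 4)))) (.node (.node (.leaf (.up 4 1999 2)) (.leaf (.up 3 2047 2))) (.node (.leaf (.up 1 1 4)) (.leaf (.up 3 882 4))))))))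

noncomputable def vt3_6_101 : Tr VStep := .node vt3_6_1010 vt3_6_1011

noncomputable def vt3_6_10 : Tr VStep := .node vt3_6_100 vt3_6_101

noncomputable def vt3_6_1100 : Tr VStep :=
  .node (.node (.node (.node (.node (.node (.node (.leaf (.root 460)) (.leaf (.up 3 1043 2))) (.node (.leaf (.up 5 263 3)) (.leaf (.up 3 654 4)))) (.node (.node (.leaf (.up 3 1995 1)) (.leaf (.up 2 906 2))) (.node (.leaf (.up 4 255 4)) (.leaf (.up 3 1043 1))))) (.node (.node (.node (.leaf (.up 5 1056 3)) (.leaf (.up 1 14 4))) (.node (.leaf (.up 4 704 1)) (.leaf (.up 2 794 1)))) (.node (.node (.leaf (.up 4 1355 1)) (.leaf (.up 2 794 2))) (.node (.leaf (.up 1 123 0)) (.leaf (.up 2 776 2)))))) (.node (.node (.node (.node (.leaf (.up 3 1310 1)) (.leaf (.up 4 1490 4))) (.node (.leaf (.up 2 1187 4)) (.leaf (.up 4 1734 1)))) (.node (.node (.leaf (.up 4 1955 4)) (.leaf (.up 4 333 1))) (.node (.leaf (.up 2 1016 2)) (.leaf (.up 4 968 2))))) (.node (.node (.node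 (.leaf (.up 2 1571 4)) (.leaf (.up 4 1604 1))) (.node (.leaf (.up 2 1436 1)) (.leaf (.up 5 1219 3)))) (.node (.node (.leaf (.up 2 535 1)) (.leaf (.up 6 1223 3))) (.node (.leaf (.up 1 21 1)) (.leaf (.up 4 856 2))))))) (.node (.node (.node (.node (.node (.leaf (.root 1912)) (.leaf (.up 1 3 2))) (.node (.leaf (.up 1 33 2)) (.leaf (.up 1 17 2)))) (.node (.node (.leaf (.up 3 1341 1)) (.leaf (.up 2 963 4))) (.node (.leaf (.up 4 1976 2)) (.leaf (.up 2 449 4))))) (.node (.node (.node (.leaf (.up 5 1536 3)) (.leaf (.up 1 0 3))) (.node (.leaf (.up 3 818 4)) (.leaf (.up 3 65 4)))) (.node (.node (.leaf (.up 3 1850 2)) (.leaf (.up 6 516 3))) (.node (.leaf (.up 2 560 4)) (.leaf (.up 3 4 3)))))) (.node (.node (.node (.node (.leaf (.up 3 2024 1)) (.leaf (.up 3 83 2))) (.node (.leaf (.up 2 113 2)) (.leaf (.up 3 452 3)))) (.node (.node (.leaf (.up 3 1518 4)) (.leaf (.up 5 448 3))) (.node (.leaf (.up 3 2024 2)) (.leaf (.up 4 441 1))))) (.node (.node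 (.node (.leaf (.up 2 739 3)) (.leaf (.up 3 1821 4))) (.node (.leaf (.up 1 225 2)) (.leaf (.up 2 1311 4)))) (.node (.node (.leaf (.up 1 225 1)) (.leaf (.up 4 1767 3))) (.node (.leaf (.up 2 739 1)) (.leaf (.up 4 1255 3)))))))) (.node (.node (.node (.node (.node (.node (.leaf (.root 458)) (.leaf (.up 2 408 1))) (.node (.leaf (.up 3 495 4)) (.leaf (.up 3 668 4)))) (.node (.node (.leaf (.up 5 769 3)) (.leaf (.up 3 412 4))) (.node (.leaf (.up 5 257 3)) (.leaf (.up 2 904 2))))) (.node (.node (.node (.leaf (.up 2 1570 3)) (.leaf (.up 2 792 1))) (.node (.leaf (.up 3 365 4)) (.leaf (.up 3 542 4)))) (.node (.node (.leaf (.up 4 1062 3)) (.leaf (.up 2 778 2))) (.node (.leaf (.up 3 1353 1)) (.leaf (.up 2 792 2)))))) (.node (.node (.node (.node (.leaf (.up 2 1715 4)) (.leaf (.up 4 1732 1))) (.node (.leaf (.up 3 1308 1)) (.leaf (.up 5 1089 2)))) (.node (.node (.leaf (.up 3 1969 4)) (.leaf (.up 4 1218 4))) (.node (.leaf (.up 5 1000 2)) (.leaf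 (.up 3 1728 4))))) (.node (.node (.node (.leaf (.up 3 705 3)) (.leaf (.up 3 1346 4))) (.node (.leaf (.up 2 1075 4)) (.leaf (.up 3 1856 4)))) (.node (.node (.leaf (.up 1 23 1)) (.leaf (.up 4 461 1))) (.node (.leaf (.up 2 533 1)) (.leaf (.up 5 840 2))))))) (.node (.node (.node (.node (.node (.leaf (.up 1 35 2)) (.leaf (.up 1 19 2))) (.node (.leaf (.up 4 182 1)) (.leaf (.up 1 1 2)))) (.node (.node (.leaf (.up 5 1853 1)) (.leaf (.up 2 977 4))) (.node (.leaf (.up 2 801 3)) (.leaf (.up 2 467 4))))) (.node (.node (.node (.leaf (.up 3 290 4)) (.leaf (.up 4 514 3))) (.node (.leaf (.up 3 800 4)) (.leaf (.up 1 2 3)))) (.node (.node (.leaf (.up 4 1469 1)) (.leaf (.up 4 6 3))) (.node (.leaf (.up 3 1848 2)) (.leaf (.up 4 518 3)))))) (.node (.node (.node (.node (.leaf (.up 3 1278 4)) (.leaf (.up 2 1074 1))) (.node (.leaf (.up 3 2026 1)) (.leaf (.up 4 966 3)))) (.node (.node (.leaf (.up 3 2026 2)) (.leaf (.up 6 962 3))) (.node (.leaf (.up 3 611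 1)) (.leaf (.up 5 450 3))))) (.node (.node (.node (.leaf (.up 1 225 3)) (.leaf (.up 4 1761 3))) (.node (.leaf (.up 3 241 2)) (.leaf (.up 4 1249 3)))) (.node (.node (.leaf (.up 4 737 1)) (.leaf (.up 2 1549 4))) (.node (.leaf (.up 3 227 1)) (.leaf (.up 3 1765 3))))))))

noncomputable def vt3_6_1101 : Tr VStep :=
  .node (.node (.node (.node (.node (.node (.node (.leaf (.root 1262)) (.leaf (.up 4 1807 3))) (.node (.leaf (.up 3 265 4)) (.leaf (.up 4 555 2)))) (.node (.node (.leaf (.up 2 521 4)) (.leaf (.up 4 378 4))) (.node (.leaf (.up 1 11 4)) (.leaf (.up 3 1458 2))))) (.node (.node (.node (.leaf (.up 4 1576 3)) (.leaf (.up 4 40 3))) (.node (.leaf (.up 4 395 4)) (.leaf (.up 3 552 3)))) (.node (.node (.leaf (.up 3 1068 3)) (.leaf (.up 4 1246 1))) (.node (.leaf (.up 4 1580 3)) (.leaf (.up 3 1756 1)))))) (.node (.node (.node (.node (.leaf (.up 4 1516 3)) (.leaf (.up 5 1004 3))) (.node (.leaf (.up 4 1875 1)) (.leaf (.up 3 1828 4))))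 (.node (.node (.leaf (.up 3 2024 3)) (.leaf (.up 3 1060 4))) (.node (.leaf (.up 4 1512 3)) (.leaf (.up 5 1000 3))))) (.node (.node (.node (.leaf (.up 4 1751 4)) (.leaf (.up 3 1444 4))) (.node (.leaf (.up 5 203 3)) (.leaf (.up 3 1033 1)))) (.node (.node (.leaf (.up 4 207 3)) (.leaf (.up 4 1743 3))) (.node (.leaf (.up 3 719 3)) (.leaf (.up 2 384 1))))))) (.node (.node (.node (.node (.node (.leaf (.up 4 815 3)) (.leaf (.up 5 1327 3))) (.node (.leaf (.up 3 836 4)) (.leaf (.up 3 55 4)))) (.node (.node (.leaf (.up 2 384 2)) (.leaf (.up 2 823 4))) (.node (.leaf (.up 3 582 4)) (.leaf (.up 3 1323 3))))) (.node (.node (.node (.leaf (.up 3 452 4)) (.leaf (.up 2 520 3))) (.node (.leaf (.up 2 1544 3)) (.leaf (.up 1 8 3)))) (.node (.node (.leaf (.up 4 272 2)) (.leaf (.up 4 12 3))) (.node (.leaf (.up 5 1036 3)) (.leaf (.up 4 524 3)))))) (.node (.node (.node (.node (.leaf (.up 3 1996 3)) (.leaf (.up 6 460 3))) (.node (.leaf (.up 4 1484 3)) (.leaf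 (.up 5 972 3)))) (.node (.node (.leaf (.up 3 558 1)) (.leaf (.up 4 968 3))) (.node (.leaf (.up 5 450 2)) (.leaf (.up 5 456 3))))) (.node (.node (.node (.leaf (.up 3 1319 1)) (.leaf (.up 4 2025 4))) (.node (.leaf (.up 3 1829 1)) (.leaf (.up 4 1791 1)))) (.node (.node (.leaf (.up 3 174 1)) (.leaf (.up 3 372 1))) (.node (.leaf (.up 2 684 1)) (.leaf (.up 2 354 2)))))))) (.node (.node (.node (.node (.node (.node (.leaf (.up 4 13 1)) (.leaf (.up 4 106 4))) (.node (.leaf (.up 2 283 4)) (.leaf (.up 4 1805 3)))) (.node (.node (.leaf (.up 1 9 0)) (.leaf (.up 1 5 0))) (.node (.leaf (.up 2 25 4)) (.leaf (.up 3 874 4))))) (.node (.node (.node (.leaf (.up 4 1066 3)) (.leaf (.up 3 232 4))) (.node (.leaf (.up 4 1578 3)) (.leaf (.up 1 42 3)))) (.node (.node (.leaf (.up 4 1582 3)) (.leaf (.up 5 46 3))) (.node (.leaf (.up 5 1070 3)) (.leaf (.up 3 558 3)))))) (.node (.node (.node (.node (.leaf (.up 4 2030 3)) (.leaf (.up 4 633 2))) (.node (.leaf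 (.up 3 1518 3)) (.leaf (.up 5 1006 3)))) (.node (.node (.leaf (.up 4 1514 3)) (.leaf (.up 6 1002 3))) (.node (.leaf (.up 3 2026 3)) (.leaf (.up 5 490 3))))) (.node (.node (.node (.leaf (.up 6 201 3)) (.leaf (.up 5 1737 3))) (.node (.leaf (.up 4 713 3)) (.leaf (.up 2 1545 1)))) (.node (.node (.leaf (.up 2 88 1)) (.leaf (.up 3 1204 4))) (.node (.leaf (.up 4 205 3)) (.leaf (.up 3 1741 3))))))) (.node (.node (.node (.node (.node (.leaf (.up 2 1545 2)) (.leaf (.up 2 801 1))) (.node (.leaf (.up 3 813 3)) (.leaf (.up 4 37 4)))) (.node (.node (.leaf (.up 3 1906 1)) (.leaf (.up 3 805 4))) (.node (.leaf (.up 3 596 4)) (.leaf (.up 2 295 4))))) (.node (.node (.node (.leaf (.up 1 123 1)) (.leaf (.up 1 10 3))) (.node (.leaf (.up 2 1034 3)) (.leaf (.up 3 931 1)))) (.node (.node (.leaf (.up 5 1038 3)) (.leaf (.up 4 526 3))) (.node (.leaf (.up 4 274 2)) (.leaf (.up 1 14 3)))))) (.node (.node (.node (.node (.leaf (.root 214)) (.leaf (.up 6 974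 3))) (.node (.leaf (.up 2 1544 4)) (.leaf (.up 3 1403 4)))) (.node (.node (.leaf (.up 3 1288 4)) (.leaf (.up 2 458 3))) (.node (.leaf (.up 6 1482 3)) (.leaf (.up 5 970 3))))) (.node (.node (.node (.leaf (.up 3 1831 1)) (.leaf (.up 3 2043 4))) (.node (.leaf (.up 3 1755 2)) (.leaf (.up 3 1279 1)))) (.node (.node (.leaf (.up 3 686 1)) (.leaf (.up 3 1773 3))) (.node (.leaf (.up 2 172 1)) (.leaf (.up 2 1261 3))))))))

noncomputable def vt3_6_110 : Tr VStep := .node vt3_6_1100 vt3_6_1101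

noncomputable def vt3_6_1110 : Tr VStep :=
  .node (.node (.node (.node (.node (.node (.node (.leaf (.root 334)) (.leaf (.up 2 152 1))) (.node (.leaf (.up 5 1654 4)) (.leaf (.up 3 1031 3)))) (.node (.node (.leaf (.up 4 1398 4)) (.leaf (.up 2 1541 4))) (.node (.leaf (.up 1 3 3)) (.leaf (.up 3 1815 2))))) (.node (.node (.node (.leaf (.up 4 1824 3)) (.leaf (.up 2 536 1))) (.node (.leaf (.up 3 1780 4)) (.leaf (.up 1 26 1)))) (.node (.node (.leaf (.up 2 1524 4)) (.leaf (.up 2 1671 4))) (.node (.leaf (.up 3 1828 3)) (.leaf (.up 2 1157 4)))))) (.node (.node (.node (.node (.leaf (.up 5 1566 1)) (.leaf (.up 4 1988 1))) (.node (.leaf (.up 5 1764 3)) (.leaf (.up 5 91 4)))) (.node (.node (.leaf (.up 4 1760 3)) (.leaf (.up 4 859 4))) (.node (.leaf (.up 3 1248 3)) (.leaf (.up 4 79 1))))) (.node (.node (.node (.leaf (.up 2 963 3)) (.leaf (.up 5 1348 1))) (.node (.leaf (.up 3 451 3)) (.leaf (.up 5 1987 3)))) (.node (.node (.leaf (.up 2 279 1))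 (.leaf (.up 4 1991 3))) (.node (.leaf (.up 2 789 1)) (.leaf (.up 3 2007 2))))))) (.node (.node (.node (.node (.node (.leaf (.up 4 1593 4)) (.leaf (.up 4 1164 2))) (.node (.leaf (.up 3 1083 4)) (.leaf (.up 4 108 1)))) (.node (.node (.leaf (.up 1 35 3)) (.leaf (.up 2 1571 3))) (.node (.leaf (.up 2 1087 1)) (.leaf (.up 2 1059 3))))) (.node (.node (.node (.leaf (.up 3 1068 2)) (.leaf (.up 5 1480 4))) (.node (.leaf (.up 3 1209 4)) (.leaf (.up 3 748 1)))) (.node (.node (.leaf (.up 4 1977 4)) (.leaf (.up 3 1383 1))) (.node (.leaf (.up 5 1467 4)) (.leaf (.up 4 1736 4)))))) (.node (.node (.node (.node (.leaf (.up 2 871 4)) (.leaf (.up 5 1330 1))) (.node (.leaf (.up 3 1278 2)) (.leaf (.up 5 708 3)))) (.node (.node (.leaf (.up 3 353 1)) (.leaf (.up 2 187 1))) (.node (.leaf (.up 1 24 0)) (.leaf (.up 3 192 3))))) (.node (.node (.node (.leaf (.up 2 483 3)) (.leaf (.up 3 150 4))) (.node (.leaf (.up 3 995 3)) (.leaf (.up 3 1456 1)))) (.node (.node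 (.leaf (.up 3 999 3)) (.leaf (.up 2 404 4))) (.node (.leaf (.up 2 483 1)) (.leaf (.up 3 967 2)))))))) (.node (.node (.node (.node (.node (.node (.leaf (.root 506)) (.leaf (.up 3 664 1))) (.node (.leaf (.up 1 5 3)) (.leaf (.up 2 1541 3)))) (.node (.node (.leaf (.up 1 1 3)) (.leaf (.up 3 1809 1))) (.node (.leaf (.up 4 1225 1)) (.leaf (.up 2 1045 4))))) (.node (.node (.node (.leaf (.up 5 1314 3)) (.leaf (.up 1 24 1))) (.node (.leaf (.up 4 1766 4)) (.leaf (.up 1 14 2)))) (.node (.node (.leaf (.up 4 1510 4)) (.leaf (.up 2 1685 4))) (.node (.leaf (.up 3 1609 1)) (.leaf (.up 2 1175 4)))))) (.node (.node (.node (.node (.leaf (.up 4 1766 3)) (.leaf (.up 4 220 2))) (.node (.leaf (.up 6 1254 3)) (.leaf (.up 3 73 4)))) (.node (.node (.leaf (.up 3 1250 3)) (.leaf (.up 4 77 1))) (.node (.leaf (.up 4 1762 3)) (.leaf (.up 4 331 4))))) (.node (.node (.node (.leaf (.up 2 449 3)) (.leaf (.up 2 76 2))) (.node (.leaf (.up 3 961 3)) (.leaf (.up 3 1350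 1)))) (.node (.node (.leaf (.up 3 965 3)) (.leaf (.up 4 2005 2))) (.node (.leaf (.up 3 453 3)) (.leaf (.up 2 457 4))))))) (.node (.node (.node (.node (.node (.leaf (.up 2 1196 2)) (.leaf (.up 5 1573 3))) (.node (.leaf (.up 5 1214 2)) (.leaf (.up 4 620 1)))) (.node (.node (.leaf (.up 4 821 2)) (.leaf (.up 3 1511 1))) (.node (.leaf (.up 1 33 3)) (.leaf (.up 5 791 2))))) (.node (.node (.node (.leaf (.up 3 1705 4)) (.leaf (.up 3 1498 4))) (.node (.leaf (.up 3 1195 4)) (.leaf (.up 4 1054 2)))) (.node (.node (.leaf (.up 3 1725 1)) (.leaf (.up 4 1240 4))) (.node (.leaf (.up 3 1215 1)) (.leaf (.up 4 262 3)))))) (.node (.node (.node (.node (.leaf (.up 3 1276 2)) (.leaf (.up 4 1228 2))) (.node (.leaf (.up 2 1258 1)) (.leaf (.up 4 198 3)))) (.node (.node (.leaf (.up 3 631 4)) (.leaf (.up 3 699 1))) (.node (.leaf (.up 2 117 4)) (.leaf (.up 4 706 3))))) (.node (.node (.node (.leaf (.up 2 1132 2)) (.leaf (.up 1 132 4))) (.node (.leaf (.up 4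 1150 2)) (.leaf (.up 4 2017 3)))) (.node (.node (.leaf (.up 4 757 4)) (.leaf (.up 3 59 1))) (.node (.leaf (.up 3 999 2)) (.leaf (.up 4 1509 3))))))))

noncomputable def vt3_6_1111 : Tr VStep :=
  .node (.node (.node (.node (.node (.node (.node (.leaf (.up 4 1152 4)) (.leaf (.up 3 215 1))) (.node (.leaf (.up 3 1666 4)) (.leaf (.up 4 1700 2)))) (.node (.node (.leaf (.up 1 11 3)) (.leaf (.up 5 1547 3))) (.node (.leaf (.up 4 1920 4)) (.leaf (.up 3 1884 1))))) (.node (.node (.node (.leaf (.up 4 1320 3)) (.leaf (.up 5 808 3))) (.node (.leaf (.up 4 1832 3)) (.leaf (.up 5 296 3)))) (.node (.node (.leaf (.up 4 1540 1)) (.leaf (.up 5 300 3))) (.node (.leaf (.up 5 1324 3)) (.leaf (.up 3 429 2)))))) (.node (.node (.node (.node (.leaf (.up 3 1772 3)) (.leaf (.up 4 1766 2))) (.node (.leaf (.up 4 1260 3)) (.leaf (.up 1 42 0)))) (.node (.node (.leaf (.up 4 1256 3)) (.leaf (.up 4 744 3))) (.node (.leaf (.up 5 1768 3)) (.leaf (.up 1 0 1))))) (.node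 (.node (.node (.leaf (.up 3 348 4)) (.leaf (.up 3 1995 3))) (.node (.leaf (.up 2 1620 2)) (.leaf (.up 3 1801 1)))) (.node (.node (.leaf (.up 3 479 2)) (.leaf (.up 1 130 1))) (.node (.leaf (.up 4 463 3)) (.leaf (.up 3 640 1))))))) (.node (.node (.node (.node (.node (.leaf (.up 2 662 2)) (.leaf (.up 2 1583 3))) (.node (.leaf (.up 4 1231 4)) (.leaf (.up 1 35 1)))) (.node (.node (.leaf (.up 4 555 3)) (.leaf (.up 4 1960 1))) (.node (.leaf (.up 3 1485 4)) (.leaf (.up 4 1579 3))))) (.node (.node (.node (.leaf (.up 2 1615 4)) (.leaf (.up 3 264 3))) (.node (.leaf (.up 3 1288 3)) (.leaf (.up 2 776 3)))) (.node (.node (.leaf (.up 4 1292 3)) (.leaf (.up 3 780 3))) (.node (.leaf (.up 3 1421 2)) (.leaf (.up 4 268 3)))))) (.node (.node (.node (.node (.leaf (.up 4 1228 3)) (.leaf (.up 4 716 3))) (.node (.leaf (.up 6 1740 3)) (.leaf (.up 6 204 3)))) (.node (.node (.leaf (.up 2 1375 2)) (.leaf (.up 4 200 3))) (.node (.leaf (.up 3 147 4)) (.leaf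 (.up 6 712 3))))) (.node (.node (.node (.leaf (.up 3 1003 3)) (.leaf (.up 4 2045 1))) (.node (.leaf (.up 4 491 3)) (.leaf (.up 2 608 4)))) (.node (.node (.leaf (.up 2 1487 2)) (.leaf (.up 3 628 1))) (.node (.leaf (.up 1 17 4)) (.leaf (.up 3 1517 2)))))))) (.node (.node (.node (.node (.node (.node (.leaf (.up 2 1686 2)) (.leaf (.up 2 1549 3))) (.node (.leaf (.up 2 1668 2)) (.leaf (.up 3 213 1)))) (.node (.node (.leaf (.up 2 1668 1)) (.leaf (.up 1 1 0))) (.node (.leaf (.up 1 9 3)) (.leaf (.up 2 1545 3))))) (.node (.node (.node (.leaf (.up 4 1834 3)) (.leaf (.up 5 87 1))) (.node (.leaf (.up 4 1322 3)) (.leaf (.up 4 1377 4)))) (.node (.node (.leaf (.up 4 1298 4)) (.leaf (.up 3 814 3))) (.node (.leaf (.up 4 1808 4)) (.leaf (.up 4 302 3)))))) (.node (.node (.node (.node (.leaf (.up 4 1262 3)) (.leaf (.up 5 750 3))) (.node (.leaf (.up 4 1774 3)) (.leaf (.up 3 1929 1)))) (.node (.node (.leaf (.up 4 1770 3)) (.leaf (.up 1 2 1))) (.node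 (.leaf (.up 2 1258 3)) (.leaf (.up 3 746 3))))) (.node (.node (.node (.leaf (.up 4 334 4)) (.leaf (.up 2 573 4))) (.node (.leaf (.up 2 457 3)) (.leaf (.up 3 1652 2)))) (.node (.node (.leaf (.up 2 76 4)) (.leaf (.up 3 1997 3))) (.node (.leaf (.up 4 477 2)) (.leaf (.up 3 1485 3))))))) (.node (.node (.node (.node (.node (.leaf (.up 4 557 3)) (.leaf (.up 1 33 1))) (.node (.leaf (.up 3 1245 4)) (.leaf (.up 2 547 1)))) (.node (.node (.leaf (.up 2 1311 2)) (.leaf (.up 3 1448 1))) (.node (.leaf (.up 4 1293 2)) (.leaf (.up 3 1708 4))))) (.node (.node (.node (.leaf (.up 5 1290 3)) (.leaf (.up 2 778 3))) (.node (.leaf (.up 4 377 1)) (.leaf (.up 5 266 3)))) (.node (.node (.leaf (.up 4 1887 4)) (.leaf (.up 3 1068 4))) (.node (.leaf (.up 3 1264 1)) (.leaf (.up 4 782 3)))))) (.node (.node (.node (.node (.leaf (.up 4 1742 3)) (.leaf (.up 5 206 3))) (.node (.leaf (.up 5 1189 1)) (.leaf (.up 3 718 3)))) (.node (.node (.leaf (.up 3 814 1)) (.leaf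 (.up 3 756 1))) (.node (.leaf (.up 3 1738 3)) (.leaf (.up 5 202 3))))) (.node (.node (.node (.leaf (.up 3 489 3)) (.leaf (.up 2 630 2))) (.node (.leaf (.up 3 596 2)) (.leaf (.up 3 2047 1)))) (.node (.node (.leaf (.up 2 1005 3)) (.leaf (.up 3 1517 3))) (.node (.leaf (.up 1 3 4)) (.leaf (.up 2 630 1))))))))

noncomputable def vt3_6_111 : Tr VStep := .node vt3_6_1110 vt3_6_1111

noncomputable def vt3_6_11 : Tr VStep := .node vt3_6_110 vt3_6_111

noncomputable def vt3_6_1 : Tr VStep := .node vt3_6_10 vt3_6_11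

noncomputable def vt3_6_ : Tr VStep := .node vt3_6_0 vt3_6_1

noncomputable def vt3_7_0000 : Tr VStep :=
  .node (.node (.node (.node (.node (.node (.node (.leaf (.root 88)) (.leaf (.up 3 419 2))) (.node (.leaf (.up 4 1359 0)) (.leaf (.up 2 399 1)))) (.node (.node (.leaf (.up 4 1546 2)) (.leaf (.up 2 369 0))) (.node (.leaf (.up 3 697 4)) (.leaf (.up 3 1153 4))))) (.node (.node (.node (.leaf (.up 4 1257 3)) (.leaf (.up 4 979 3))) (.node (.leaf (.up 2 164 2)) (.leaf (.up 1 1 4)))) (.node (.node (.leaf (.up 2 862 2)) (.leaf (.up 4 1904 4))) (.node (.leaf (.up 4 140 2)) (.leaf (.up 2 773 5)))))) (.node (.node (.node (.node (.leaf (.up 2 1749 4)) (.leaf (.up 3 1295 1))) (.node (.leaf (.up 3 1920 0)) (.leaf (.up 3 1845 1)))) (.node (.node (.leaf (.up 4 241 0)) (.leaf (.up 3 68 1))) (.node (.leaf (.up 4 1085 2)) (.leaf (.up 3 640 0))))) (.node (.node (.node (.leaf (.up 3 583 5)) (.leaf (.up 4 1028 3))) (.node (.leaf (.up 3 1653 3))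 (.leaf (.up 1 24 5)))) (.node (.node (.leaf (.up 2 597 4)) (.leaf (.up 2 1338 2))) (.node (.leaf (.up 4 1822 4)) (.leaf (.up 2 143 0))))))) (.node (.node (.node (.node (.node (.leaf (.up 3 1834 2)) (.leaf (.up 3 2032 5))) (.node (.leaf (.up 3 1272 2)) (.leaf (.up 3 641 4)))) (.node (.node (.leaf (.up 3 887 1)) (.leaf (.up 4 1520 4))) (.node (.leaf (.up 3 333 0)) (.leaf (.up 4 901 5))))) (.node (.node (.node (.leaf (.up 3 1888 5)) (.leaf (.up 4 880 5))) (.node (.leaf (.up 1 17 3)) (.leaf (.up 2 1343 5)))) (.node (.node (.leaf (.up 3 1888 3)) (.leaf (.up 4 330 5))) (.node (.leaf (.up 1 57 4)) (.leaf (.up 2 1537 4)))))) (.node (.node (.node (.node (.leaf (.up 5 1267 0)) (.leaf (.up 4 1212 1))) (.node (.leaf (.up 3 1956 4)) (.leaf (.up 3 1670 1)))) (.node (.node (.leaf (.up 5 213 4)) (.leaf (.up 4 1773 4))) (.node (.leaf (.up 5 1438 4)) (.leaf (.up 2 973 1))))) (.node (.node (.node (.leaf (.up 4 1109 4)) (.leaf (.up 3 1459 0))) (.node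 (.leaf (.up 1 8 5)) (.leaf (.up 2 1830 4)))) (.node (.node (.leaf (.up 3 947 2)) (.leaf (.up 3 1074 2))) (.node (.leaf (.up 4 562 5)) (.leaf (.up 2 1570 5)))))))) (.node (.node (.node (.node (.node (.node (.leaf (.up 2 1018 4)) (.leaf (.up 3 1401 0))) (.node (.leaf (.up 5 1713 4)) (.leaf (.up 4 1095 0)))) (.node (.node (.leaf (.up 1 56 2)) (.leaf (.up 1 50 1))) (.node (.leaf (.up 4 327 0)) (.leaf (.up 3 502 3))))) (.node (.node (.node (.leaf (.up 2 1081 0)) (.leaf (.up 4 1505 3))) (.node (.leaf (.up 4 11 4)) (.leaf (.up 3 1311 5)))) (.node (.node (.leaf (.up 2 630 0)) (.leaf (.up 5 362 5))) (.node (.leaf (.up 4 1726 2)) (.leaf (.up 3 7 0)))))) (.node (.node (.node (.node (.leaf (.up 4 743 5)) (.leaf (.up 3 1759 4))) (.node (.leaf (.up 4 551 2)) (.leaf (.up 3 1672 0)))) (.node (.node (.leaf (.up 4 477 2)) (.leaf (.up 3 1672 1))) (.node (.leaf (.up 3 1942 4)) (.leaf (.up 3 1422 2))))) (.node (.node (.node (.leaf (.up 4 1185 2))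 (.leaf (.up 2 631 5))) (.node (.leaf (.up 4 40 5)) (.leaf (.up 2 1917 3)))) (.node (.node (.leaf (.up 4 1117 5)) (.leaf (.up 3 607 4))) (.node (.leaf (.up 3 530 5)) (.leaf (.up 2 1538 5))))))) (.node (.node (.node (.node (.node (.leaf (.up 3 1984 4)) (.leaf (.up 4 1226 1))) (.node (.leaf (.up 2 399 5)) (.leaf (.up 2 1776 1)))) (.node (.node (.leaf (.root 238)) (.leaf (.up 5 379 0))) (.node (.leaf (.up 5 177 4)) (.leaf (.up 3 69 0))))) (.node (.node (.node (.leaf (.up 3 1100 2)) (.leaf (.up 2 973 2))) (.node (.leaf (.up 3 1200 1)) (.leaf (.up 4 138 1)))) (.node (.node (.leaf (.up 3 961 1)) (.leaf (.up 2 997 2))) (.node (.leaf (.up 3 507 1)) (.leaf (.up 2 1473 1)))))) (.node (.node (.node (.node (.leaf (.up 5 1767 5)) (.leaf (.up 4 741 4))) (.node (.leaf (.up 3 168 5)) (.leaf (.up 2 1208 5)))) (.node (.node (.leaf (.up 5 213 2)) (.leaf (.up 2 205 5))) (.node (.leaf (.up 3 940 4)) (.leaf (.up 3 650 0))))) (.node (.node (.node (.leaf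 (.up 4 615 4)) (.leaf (.up 4 552 2))) (.node (.leaf (.up 2 522 1)) (.leaf (.up 1 56 5)))) (.node (.node (.leaf (.up 1 93 4)) (.leaf (.up 3 321 1))) (.node (.leaf (.up 4 1554 5)) (.leaf (.up 2 1268 3))))))))

noncomputable def vt3_7_0001 : Tr VStep :=
  .node (.node (.node (.node (.node (.node (.node (.leaf (.root 564)) (.leaf (.up 2 272 1))) (.node (.leaf (.up 2 1199 5)) (.leaf (.up 2 191 5)))) (.node (.node (.leaf (.up 2 927 3)) (.leaf (.up 2 1115 1))) (.node (.leaf (.up 3 603 1)) (.leaf (.up 4 703 4))))) (.node (.node (.node (.leaf (.up 4 848 1)) (.leaf (.up 4 884 4))) (.node (.leaf (.up 3 47 5)) (.leaf (.up 2 1087 5)))) (.node (.node (.leaf (.up 4 249 3)) (.leaf (.up 4 74 5))) (.node (.leaf (.up 4 848 0)) (.leaf (.up 4 648 3)))))) (.node (.node (.node (.node (.leaf (.up 5 235 4)) (.leaf (.up 4 1747 4))) (.node (.leaf (.up 5 426 1)) (.leaf (.up 4 924 2)))) (.node (.node (.leaf (.up 3 509 5)) (.leaf (.up 4 1257 4))) (.node (.leaf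 (.up 5 259 3)) (.leaf (.up 4 223 0))))) (.node (.node (.node (.leaf (.up 4 1863 5)) (.leaf (.up 3 855 5))) (.node (.leaf (.up 3 264 5)) (.leaf (.up 2 1893 3)))) (.node (.node (.leaf (.up 3 1131 4)) (.leaf (.up 3 595 4))) (.node (.leaf (.up 3 613 3)) (.leaf (.up 3 1826 5))))))) (.node (.node (.node (.node (.node (.leaf (.up 3 1996 4)) (.leaf (.up 3 500 4))) (.node (.leaf (.up 3 647 4)) (.leaf (.up 4 1554 0)))) (.node (.node (.leaf (.up 2 1526 4)) (.leaf (.up 2 202 5))) (.node (.leaf (.up 3 189 4)) (.leaf (.up 1 93 0))))) (.node (.node (.node (.leaf (.up 2 630 2)) (.leaf (.up 3 1648 5))) (.node (.leaf (.up 4 1085 4)) (.leaf (.up 3 63 5)))) (.node (.node (.leaf (.up 4 1960 1)) (.leaf (.up 3 1648 3))) (.node (.leaf (.up 3 1543 4)) (.leaf (.up 3 63 4)))))) (.node (.node (.node (.node (.leaf (.up 4 1991 5)) (.leaf (.up 3 1561 1))) (.node (.leaf (.up 3 650 3)) (.leaf (.up 3 1456 3)))) (.node (.node (.leaf (.up 2 1771 4)) (.leaf (.up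 3 493 5))) (.node (.leaf (.up 2 928 4)) (.leaf (.up 3 1954 5))))) (.node (.node (.node (.leaf (.up 2 619 4)) (.leaf (.up 2 1107 4))) (.node (.leaf (.up 3 492 3)) (.leaf (.up 3 601 1)))) (.node (.node (.leaf (.up 3 748 0)) (.leaf (.up 3 419 0))) (.node (.leaf (.up 3 1842 5)) (.leaf (.up 2 1260 3)))))))) (.node (.node (.node (.node (.node (.node (.leaf (.root 324)) (.leaf (.up 2 1830 0))) (.node (.leaf (.up 2 143 4)) (.leaf (.up 4 1183 5)))) (.node (.node (.leaf (.up 4 1274 5)) (.leaf (.up 3 454 4))) (.node (.leaf (.up 2 230 3)) (.leaf (.up 4 2012 3))))) (.node (.node (.node (.leaf (.up 2 1638 0)) (.leaf (.up 4 717 2))) (.node (.leaf (.up 3 1039 5)) (.leaf (.up 2 1664 3)))) (.node (.node (.leaf (.up 3 41 0)) (.leaf (.up 4 497 3))) (.node (.leaf (.up 3 1039 4)) (.leaf (.up 4 549 5)))))) (.node (.node (.node (.node (.leaf (.up 3 509 2)) (.leaf (.up 4 225 4))) (.node (.leaf (.up 5 424 5)) (.leaf (.up 4 1464 5)))) (.node (.node (.leaf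 (.up 5 1251 4)) (.leaf (.up 4 934 0))) (.node (.leaf (.up 5 424 4)) (.leaf (.up 4 11 3))))) (.node (.node (.node (.leaf (.up 3 871 5)) (.leaf (.up 3 2022 0))) (.node (.leaf (.up 3 1320 4)) (.leaf (.up 4 312 5)))) (.node (.node (.leaf (.up 3 1153 2)) (.leaf (.up 4 1121 4))) (.node (.leaf (.up 4 1810 4)) (.leaf (.up 2 877 3))))))) (.node (.node (.node (.node (.node (.leaf (.root 910)) (.leaf (.up 3 1990 4))) (.node (.leaf (.up 3 879 3)) (.leaf (.up 4 1347 2)))) (.node (.node (.leaf (.up 3 107 0)) (.leaf (.up 4 1532 4))) (.node (.leaf (.up 3 1679 4)) (.leaf (.up 3 183 4))))) (.node (.node (.node (.leaf (.up 4 1092 2)) (.leaf (.up 1 21 1))) (.node (.leaf (.up 1 9 3)) (.leaf (.up 3 1055 5)))) (.node (.node (.leaf (.up 4 1912 3)) (.leaf (.up 3 299 0))) (.node (.leaf (.up 2 862 1)) (.leaf (.up 1 21 0)))))) (.node (.node (.node (.node (.leaf (.up 4 739 4)) (.leaf (.up 3 1956 0))) (.node (.leaf (.up 2 1208 3)) (.leaf (.up 3 400 4)))) (.node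 (.node (.leaf (.up 4 477 5)) (.leaf (.up 3 1884 2))) (.node (.leaf (.up 5 783 2)) (.leaf (.up 3 1956 1))))) (.node (.node (.node (.leaf (.up 3 1113 4)) (.leaf (.up 2 609 4))) (.node (.leaf (.up 3 296 5)) (.leaf (.up 3 1834 4)))) (.node (.node (.leaf (.up 3 1373 5)) (.leaf (.up 3 333 5))) (.node (.leaf (.up 4 1627 2)) (.leaf (.up 2 1296 4))))))))

noncomputable def vt3_7_000 : Tr VStep := .node vt3_7_0000 vt3_7_0001

noncomputable def vt3_7_0010 : Tr VStep :=
  .node (.node (.node (.node (.node (.node (.node (.leaf (.root 220)) (.leaf (.up 3 1153 5))) (.node (.leaf (.up 3 314 0)) (.leaf (.up 3 629 0)))) (.node (.node (.leaf (.up 3 903 4)) (.leaf (.up 2 651 1))) (.node (.leaf (.up 3 1252 5)) (.leaf (.up 3 679 2))))) (.node (.node (.node (.leaf (.up 5 1408 1)) (.leaf (.up 1 1 5))) (.node (.leaf (.up 6 588 4)) (.leaf (.up 5 1140 4)))) (.node (.node (.leaf (.up 2 928 2)) (.leaf (.up 2 773 4))) (.node (.leaf (.up 6 100 5)) (.leaf (.up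 5 215 3)))))) (.node (.node (.node (.node (.leaf (.up 2 672 4)) (.leaf (.up 3 378 1))) (.node (.leaf (.up 6 2041 5)) (.leaf (.up 3 186 0)))) (.node (.node (.leaf (.up 2 1156 0)) (.leaf (.up 3 144 2))) (.node (.leaf (.up 6 1489 4)) (.leaf (.up 3 834 2))))) (.node (.node (.node (.leaf (.up 3 1050 4)) (.leaf (.up 2 907 0))) (.node (.leaf (.up 3 506 0)) (.leaf (.up 2 1338 1)))) (.node (.node (.leaf (.up 4 1649 1)) (.leaf (.up 1 24 4))) (.node (.leaf (.up 3 323 5)) (.leaf (.up 2 1363 4))))))) (.node (.node (.node (.node (.node (.leaf (.up 3 1415 4)) (.leaf (.up 5 129 5))) (.node (.leaf (.up 3 887 0)) (.leaf (.up 1 56 0)))) (.node (.node (.leaf (.up 2 1707 5)) (.leaf (.up 2 699 5))) (.node (.leaf (.up 3 758 4)) (.leaf (.up 2 1268 5))))) (.node (.node (.node (.leaf (.up 1 17 5)) (.leaf (.up 1 9 1))) (.node (.leaf (.up 3 1630 5)) (.leaf (.up 2 862 3)))) (.node (.node (.leaf (.up 3 555 5)) (.leaf (.up 4 1855 4))) (.node (.leaf (.up 3 1100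 4)) (.leaf (.up 2 116 5)))))) (.node (.node (.node (.node (.leaf (.up 5 1267 1)) (.leaf (.up 4 969 0))) (.node (.leaf (.up 5 213 3)) (.leaf (.up 4 610 2)))) (.node (.node (.leaf (.up 3 1956 3)) (.leaf (.up 4 1410 1))) (.node (.leaf (.up 5 491 4)) (.leaf (.up 2 1976 1))))) (.node (.node (.node (.leaf (.up 4 310 5)) (.leaf (.up 2 1715 1))) (.node (.leaf (.up 3 947 3)) (.leaf (.up 3 873 5)))) (.node (.node (.leaf (.up 3 780 5)) (.leaf (.up 3 1228 2))) (.node (.leaf (.up 4 1347 5)) (.leaf (.up 2 1715 3)))))))) (.node (.node (.node (.node (.node (.node (.leaf (.up 2 1935 4)) (.leaf (.up 5 439 4))) (.node (.leaf (.up 4 766 5)) (.leaf (.up 1 50 0)))) (.node (.node (.leaf (.up 4 1461 4)) (.leaf (.up 4 1095 1))) (.node (.leaf (.up 3 1330 0)) (.leaf (.up 3 1734 4))))) (.node (.node (.node (.leaf (.up 4 309 4)) (.leaf (.up 4 404 3))) (.node (.leaf (.up 2 997 3)) (.leaf (.up 4 582 4)))) (.node (.node (.leaf (.up 3 1543 1)) (.leaf (.up 4 1335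 4))) (.node (.leaf (.up 2 1853 0)) (.leaf (.up 3 7 1)))))) (.node (.node (.node (.node (.leaf (.up 2 1170 4)) (.leaf (.up 3 1674 2))) (.node (.leaf (.up 4 473 4)) (.leaf (.up 3 2017 4)))) (.node (.node (.leaf (.up 4 1704 4)) (.leaf (.up 3 144 4))) (.node (.leaf (.up 4 995 4)) (.leaf (.up 3 1392 2))))) (.node (.node (.node (.leaf (.up 2 377 3)) (.leaf (.up 2 460 0))) (.node (.leaf (.up 3 1996 1)) (.leaf (.up 3 347 4)))) (.node (.node (.leaf (.up 3 1143 2)) (.leaf (.up 2 1578 4))) (.node (.leaf (.up 3 647 1)) (.leaf (.up 2 865 4))))))) (.node (.node (.node (.node (.node (.leaf (.up 5 177 5)) (.leaf (.up 2 191 1))) (.node (.leaf (.up 1 304 0)) (.leaf (.up 4 1546 3)))) (.node (.node (.leaf (.root 286)) (.leaf (.up 5 379 3))) (.node (.leaf (.up 3 1220 4)) (.leaf (.up 3 212 5))))) (.node (.node (.node (.leaf (.up 3 1295 4)) (.leaf (.up 4 823 4))) (.node (.leaf (.up 3 1888 2)) (.leaf (.up 4 225 2)))) (.node (.node (.leaf (.up 3 1845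 4)) (.leaf (.up 3 539 5))) (.node (.leaf (.up 3 1422 1)) (.leaf (.up 4 1108 5)))))) (.node (.node (.node (.node (.leaf (.up 1 3 2)) (.leaf (.up 4 1922 2))) (.node (.leaf (.up 5 1507 4)) (.leaf (.up 2 987 4)))) (.node (.node (.leaf (.up 3 940 5)) (.leaf (.up 4 1980 5))) (.node (.leaf (.up 3 1456 0)) (.leaf (.up 4 372 1))))) (.node (.node (.node (.leaf (.up 2 202 3)) (.leaf (.up 1 42 4))) (.node (.leaf (.up 2 496 0)) (.leaf (.up 2 699 3)))) (.node (.node (.leaf (.up 2 270 1)) (.leaf (.up 4 766 2))) (.node (.leaf (.up 4 355 4)) (.leaf (.up 5 1806 1))))))))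

noncomputable def vt3_7_0011 : Tr VStep :=
  .node (.node (.node (.node (.node (.node (.node (.leaf (.up 3 603 0)) (.leaf (.up 5 443 4))) (.node (.leaf (.up 4 712 4)) (.leaf (.up 1 42 0)))) (.node (.node (.leaf (.up 4 1465 4)) (.leaf (.up 3 897 4))) (.node (.leaf (.up 2 1582 1)) (.leaf (.up 3 1738 4))))) (.node (.node (.node (.leaf (.up 3 84 0)) (.leaf (.up 3 1281 5))) (.node (.leaf (.up 3 1886 5)) (.leaf (.up 2 1223 3)))) (.node (.node (.leaf (.up 4 811 5)) (.leaf (.up 4 1339 4))) (.node (.leaf (.up 3 84 1)) (.leaf (.up 4 2043 2)))))) (.node (.node (.node (.node (.leaf (.up 5 1206 5)) (.leaf (.up 2 991 1))) (.node (.leaf (.up 5 426 0)) (.leaf (.up 4 741 0)))) (.node (.node (.leaf (.up 3 1676 5)) (.leaf (.up 3 152 2))) (.node (.leaf (.up 5 195 5)) (.leaf (.up 4 1194 0))))) (.node (.node (.node (.leaf (.up 3 613 2)) (.leaf (.up 2 1445 1))) (.node (.leaf (.up 3 1066 3)) (.leaf (.up 3 1590 2)))) (.node (.node (.leaf (.up 1 30 4))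 (.leaf (.up 2 1947 0))) (.node (.leaf (.up 4 1091 5)) (.leaf (.up 2 1566 2))))))) (.node (.node (.node (.node (.node (.leaf (.up 3 236 1)) (.leaf (.up 1 93 2))) (.node (.leaf (.up 3 1038 2)) (.leaf (.up 2 202 4)))) (.node (.node (.leaf (.up 4 1625 0)) (.leaf (.up 4 355 3))) (.node (.leaf (.up 3 1062 2)) (.leaf (.up 3 500 5))))) (.node (.node (.node (.leaf (.up 4 1297 5)) (.leaf (.up 3 63 3))) (.node (.leaf (.up 2 862 5)) (.leaf (.up 3 1648 4)))) (.node (.node (.leaf (.up 2 1343 3)) (.leaf (.up 3 827 5))) (.node (.leaf (.up 2 116 3)) (.leaf (.up 3 1098 4)))))) (.node (.node (.node (.node (.leaf (.up 2 164 4)) (.leaf (.up 3 406 0))) (.node (.leaf (.up 4 1515 2)) (.leaf (.up 3 86 1)))) (.node (.node (.leaf (.up 4 670 4)) (.leaf (.up 3 400 2))) (.node (.leaf (.up 4 1221 3)) (.leaf (.up 3 493 4))))) (.node (.node (.node (.leaf (.up 2 1566 4)) (.leaf (.up 1 38 4))) (.node (.leaf (.up 2 191 2)) (.leaf (.up 3 679 0)))) (.node (.node (.leaf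 (.up 2 1548 5)) (.leaf (.up 3 1220 2))) (.node (.leaf (.up 3 1955 3)) (.leaf (.up 2 1107 5)))))))) (.node (.node (.node (.node (.node (.node (.leaf (.root 416)) (.leaf (.up 4 937 1))) (.node (.leaf (.up 4 1274 4)) (.leaf (.up 4 706 4)))) (.node (.node (.leaf (.up 2 907 4)) (.leaf (.up 2 1947 5))) (.node (.leaf (.up 2 1476 5)) (.leaf (.up 4 468 5))))) (.node (.node (.node (.leaf (.up 4 1803 4)) (.leaf (.up 4 348 0))) (.node (.leaf (.up 2 813 0)) (.leaf (.up 4 1144 4)))) (.node (.node (.leaf (.up 4 1803 5)) (.leaf (.up 3 777 4))) (.node (.leaf (.up 3 1378 0)) (.leaf (.up 4 1602 4)))))) (.node (.node (.node (.node (.leaf (.up 3 150 5)) (.leaf (.up 5 783 3))) (.node (.leaf (.up 3 1753 5)) (.leaf (.up 4 162 0)))) (.node (.node (.leaf (.up 3 299 2)) (.leaf (.up 4 2003 0))) (.node (.leaf (.up 5 1251 5)) (.leaf (.up 2 997 4))))) (.node (.node (.node (.leaf (.up 3 1046 4)) (.leaf (.up 1 6 5))) (.node (.leaf (.up 3 1385 1)) (.leaf (.up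 1 4 2)))) (.node (.node (.leaf (.up 3 1385 3)) (.leaf (.up 2 1570 1))) (.node (.leaf (.up 1 34 1)) (.leaf (.up 3 1139 5))))))) (.node (.node (.node (.node (.node (.leaf (.up 4 1457 5)) (.leaf (.up 3 947 4))) (.node (.leaf (.up 3 1022 5)) (.leaf (.up 4 2030 5)))) (.node (.node (.leaf (.up 3 454 2)) (.leaf (.up 4 393 4))) (.node (.leaf (.up 5 762 4)) (.leaf (.up 3 1492 5))))) (.node (.node (.node (.leaf (.up 4 817 4)) (.leaf (.up 3 1289 4))) (.node (.leaf (.up 4 1658 4)) (.leaf (.up 3 878 5)))) (.node (.node (.leaf (.up 2 781 3)) (.leaf (.up 3 299 1))) (.node (.leaf (.up 4 1606 3)) (.leaf (.up 3 193 2)))))) (.node (.node (.node (.node (.leaf (.up 4 11 2)) (.leaf (.up 5 134 5))) (.node (.leaf (.up 2 205 3)) (.leaf (.up 3 1509 4)))) (.node (.node (.leaf (.up 4 1196 4)) (.leaf (.up 3 660 4))) (.node (.leaf (.up 4 227 5)) (.leaf (.up 5 1267 5))))) (.node (.node (.node (.leaf (.up 3 22 5)) (.leaf (.up 2 1556 4))) (.node (.leaf (.up 4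 1383 4)) (.leaf (.up 3 585 5)))) (.node (.node (.leaf (.up 4 556 5)) (.leaf (.up 3 758 2))) (.node (.leaf (.up 4 1701 2)) (.leaf (.up 2 1707 3))))))))

noncomputable def vt3_7_001 : Tr VStep := .node vt3_7_0010 vt3_7_0011

noncomputable def vt3_7_00 : Tr VStep := .node vt3_7_000 vt3_7_001

noncomputable def vt3_7_0100 : Tr VStep :=
  .node (.node (.node (.node (.node (.node (.node (.leaf (.root 210)) (.leaf (.up 4 730 2))) (.node (.leaf (.up 3 1379 4)) (.leaf (.up 1 30 3)))) (.node (.node (.leaf (.up 3 530 4)) (.leaf (.up 3 1066 4))) (.node (.leaf (.up 3 1881 4)) (.leaf (.up 3 353 4))))) (.node (.node (.node (.leaf (.up 3 1942 5)) (.leaf (.up 3 47 1))) (.node (.leaf (.up 4 989 2)) (.leaf (.up 4 1481 5)))) (.node (.node (.leaf (.up 4 1452 5)) (.leaf (.up 3 444 5))) (.node (.leaf (.up 4 995 5)) (.leaf (.up 3 47 0)))))) (.node (.node (.node (.node (.leaf (.up 4 1464 3)) (.leaf (.up 3 1293 4))) (.node (.leaf (.up 4 1150 5)) (.leaf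 (.up 3 1696 0)))) (.node (.node (.leaf (.up 4 11 5)) (.leaf (.up 3 1847 4))) (.node (.leaf (.up 2 928 0)) (.leaf (.up 3 197 2))))) (.node (.node (.node (.leaf (.up 5 1713 5)) (.leaf (.up 4 673 5))) (.node (.leaf (.up 3 2016 0)) (.leaf (.up 2 1199 0)))) (.node (.node (.leaf (.up 3 1252 3)) (.leaf (.up 4 1603 2))) (.node (.leaf (.up 4 766 4)) (.leaf (.up 2 736 0))))))) (.node (.node (.node (.node (.node (.leaf (.root 208)) (.leaf (.up 3 2022 1))) (.node (.leaf (.up 5 345 4)) (.leaf (.up 1 0 2)))) (.node (.node (.leaf (.up 5 1576 4)) (.leaf (.up 2 1018 2))) (.node (.leaf (.up 2 1961 2)) (.leaf (.up 2 1371 4))))) (.node (.node (.node (.leaf (.up 3 918 5)) (.leaf (.up 3 1920 3))) (.node (.leaf (.up 5 725 2)) (.leaf (.up 4 934 1)))) (.node (.node (.leaf (.up 3 428 5)) (.leaf (.up 4 1468 5))) (.node (.leaf (.up 5 2019 5)) (.leaf (.up 2 993 4)))))) (.node (.node (.node (.node (.leaf (.up 5 1807 4)) (.leaf (.up 4 348 1))) (.node (.leaf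 (.up 3 1884 1)) (.leaf (.up 4 1658 3)))) (.node (.node (.leaf (.up 5 1438 2)) (.leaf (.up 2 781 4))) (.node (.leaf (.up 3 535 1)) (.leaf (.up 4 1606 4))))) (.node (.node (.node (.leaf (.up 3 689 5)) (.leaf (.up 2 1830 1))) (.node (.leaf (.up 6 1278 4)) (.leaf (.up 3 710 4)))) (.node (.node (.leaf (.up 2 202 2)) (.leaf (.up 4 1463 4))) (.node (.leaf (.up 1 28 3)) (.leaf (.up 2 1830 3)))))))) (.node (.node (.node (.node (.node (.node (.leaf (.up 2 1562 4)) (.leaf (.up 1 34 4))) (.node (.leaf (.up 2 377 5)) (.leaf (.up 3 1385 4)))) (.node (.node (.leaf (.up 4 833 2)) (.leaf (.up 3 284 5))) (.node (.leaf (.up 3 835 5)) (.leaf (.up 3 103 0))))) (.node (.node (.node (.leaf (.up 4 160 4)) (.leaf (.up 1 1 3))) (.node (.leaf (.up 4 1515 4)) (.leaf (.up 4 979 4)))) (.node (.node (.leaf (.up 3 666 4)) (.leaf (.up 4 1436 5))) (.node (.leaf (.up 4 74 3)) (.leaf (.up 4 979 5)))))) (.node (.node (.node (.node (.leaf (.up 4 1553 5)) (.leaf (.up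 3 1200 3))) (.node (.leaf (.up 4 1960 0)) (.leaf (.up 3 507 3)))) (.node (.node (.leaf (.up 2 1853 4)) (.leaf (.up 3 1674 3))) (.node (.leaf (.up 2 630 4)) (.leaf (.up 3 961 3))))) (.node (.node (.node (.leaf (.up 3 236 3)) (.leaf (.up 1 89 1))) (.node (.leaf (.up 4 1782 4)) (.leaf (.up 2 907 2)))) (.node (.node (.leaf (.up 3 391 4)) (.leaf (.up 4 409 0))) (.node (.leaf (.up 3 1228 4)) (.leaf (.up 2 1832 1))))))) (.node (.node (.node (.node (.node (.leaf (.root 534)) (.leaf (.up 2 1371 0))) (.node (.leaf (.up 3 1401 5)) (.leaf (.up 3 339 4)))) (.node (.node (.leaf (.up 1 26 4)) (.leaf (.up 2 1570 4))) (.node (.leaf (.up 2 609 1)) (.leaf (.up 2 1562 2))))) (.node (.node (.node (.leaf (.up 3 1672 3)) (.leaf (.up 4 1872 1))) (.node (.leaf (.up 5 505 5)) (.leaf (.up 4 1386 1)))) (.node (.node (.leaf (.up 3 1696 4)) (.leaf (.up 3 539 1))) (.node (.leaf (.up 5 505 3)) (.leaf (.up 4 2003 5)))))) (.node (.node (.node (.node (.leaf (.up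 5 317 4)) (.leaf (.up 2 1537 5))) (.node (.leaf (.up 3 1142 4)) (.leaf (.up 4 590 4)))) (.node (.node (.leaf (.up 1 3 3)) (.leaf (.up 2 1343 4))) (.node (.leaf (.up 5 1612 4)) (.leaf (.up 2 116 4))))) (.node (.node (.node (.leaf (.up 3 1927 4)) (.leaf (.up 3 641 5))) (.node (.leaf (.up 4 222 5)) (.leaf (.up 2 1268 4)))) (.node (.node (.leaf (.up 4 1195 5)) (.leaf (.up 2 377 2))) (.node (.leaf (.up 2 1582 3)) (.leaf (.up 3 1780 5))))))))

noncomputable def vt3_7_0101 : Tr VStep :=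
  .node (.node (.node (.node (.node (.node (.node (.leaf (.root 1306)) (.leaf (.up 5 1806 0))) (.node (.leaf (.up 1 89 5)) (.leaf (.up 3 1097 5)))) (.node (.node (.leaf (.up 2 1068 4)) (.leaf (.up 3 321 0))) (.node (.leaf (.up 4 611 5)) (.leaf (.up 3 1887 4))))) (.node (.node (.node (.leaf (.up 3 7 2)) (.leaf (.up 3 650 1))) (.node (.leaf (.up 2 981 2)) (.leaf (.up 2 991 4)))) (.node (.node (.leaf (.up 1 1 0)) (.leaf (.up 4 1212 5))) (.node (.leaf (.up 3 1763 5)) (.leaf (.up 4 485 4)))))) (.node (.node (.node (.node (.leaf (.up 3 1678 0)) (.leaf (.up 2 1473 0))) (.node (.leaf (.up 3 1892 2)) (.leaf (.up 4 229 2)))) (.node (.node (.leaf (.up 3 193 0)) (.leaf (.up 3 283 5))) (.node (.leaf (.up 5 1251 3)) (.leaf (.up 2 205 2))))) (.node (.node (.node (.leaf (.up 1 10 1)) (.leaf (.up 3 1953 5))) (.node (.leaf (.up 3 1534 5)) (.leaf (.up 2 1776 0)))) (.node (.node (.leaf (.up 4 395 4)) (.leaf (.up 5 379 1))) (.node (.leaf (.up 3 1988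 5)) (.leaf (.up 2 191 0))))))) (.node (.node (.node (.node (.node (.leaf (.root 179)) (.leaf (.up 2 1542 5))) (.node (.leaf (.up 3 835 1)) (.leaf (.up 1 8 2)))) (.node (.node (.leaf (.up 3 1139 2)) (.leaf (.up 1 8 1))) (.node (.leaf (.up 3 647 3)) (.leaf (.up 2 627 5))))) (.node (.node (.node (.leaf (.up 4 1795 1)) (.leaf (.up 3 1678 2))) (.node (.leaf (.up 2 987 3)) (.leaf (.up 5 259 1)))) (.node (.node (.leaf (.up 4 1196 5)) (.leaf (.up 5 259 0))) (.node (.leaf (.up 4 739 5)) (.leaf (.up 5 1396 2)))))) (.node (.node (.node (.node (.leaf (.up 4 817 5)) (.leaf (.up 3 575 2))) (.node (.leaf (.up 4 1644 2)) (.leaf (.up 3 493 2)))) (.node (.node (.leaf (.up 4 267 5)) (.leaf (.up 3 535 2))) (.node (.leaf (.up 4 1360 3)) (.leaf (.up 5 1160 1))))) (.node (.node (.node (.leaf (.up 4 327 3)) (.leaf (.up 5 929 5))) (.node (.leaf (.up 4 510 5)) (.leaf (.up 2 1518 5)))) (.node (.node (.leaf (.up 4 1457 4)) (.leaf (.up 3 905 4))) (.node (.leaf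 (.up 3 445 0)) (.leaf (.up 3 2004 5)))))))) (.node (.node (.node (.node (.node (.node (.leaf (.root 1972)) (.leaf (.up 2 1353 0))) (.node (.leaf (.up 4 1145 5)) (.leaf (.up 1 6 1)))) (.node (.node (.leaf (.up 3 73 0)) (.leaf (.up 3 1062 4))) (.node (.leaf (.up 2 1877 4)) (.leaf (.up 3 595 5))))) (.node (.node (.node (.leaf (.up 3 1033 0)) (.leaf (.up 4 1094 1))) (.node (.leaf (.up 2 981 4)) (.leaf (.up 4 1257 5)))) (.node (.node (.leaf (.up 2 1188 4)) (.leaf (.up 3 668 4))) (.node (.leaf (.up 4 1805 1)) (.leaf (.up 4 590 2)))))) (.node (.node (.node (.node (.leaf (.up 5 785 5)) (.leaf (.up 3 666 3))) (.node (.leaf (.up 5 1374 5)) (.leaf (.up 4 74 4)))) (.node (.node (.leaf (.up 3 299 5)) (.leaf (.up 4 160 3))) (.node (.leaf (.up 3 1892 5)) (.leaf (.up 4 1515 3))))) (.node (.node (.node (.leaf (.up 3 1734 0)) (.leaf (.up 3 897 5))) (.node (.leaf (.up 3 1276 1)) (.leaf (.up 2 1776 4)))) (.node (.node (.leaf (.up 3 1977 4)) (.leaf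 (.up 3 121 2))) (.node (.leaf (.up 3 1066 2)) (.leaf (.up 4 1226 4))))))) (.node (.node (.node (.node (.node (.leaf (.up 3 1590 5)) (.leaf (.up 4 911 1))) (.node (.leaf (.up 3 1679 3)) (.leaf (.up 2 1129 5)))) (.node (.node (.leaf (.up 2 1572 4)) (.leaf (.up 1 28 4))) (.node (.leaf (.up 3 879 4)) (.leaf (.up 4 1554 2))))) (.node (.node (.node (.leaf (.up 2 1853 2)) (.leaf (.up 5 1702 5))) (.node (.leaf (.up 6 1273 5)) (.leaf (.up 3 878 2)))) (.node (.node (.leaf (.up 2 1156 1)) (.leaf (.up 5 1702 4))) (.node (.leaf (.up 2 1223 2)) (.leaf (.up 5 1005 4)))))) (.node (.node (.node (.node (.leaf (.up 4 908 2)) (.leaf (.up 5 315 4))) (.node (.leaf (.up 6 584 4)) (.leaf (.up 3 1358 5)))) (.node (.node (.leaf (.up 2 1337 4)) (.leaf (.up 5 315 5))) (.node (.leaf (.up 4 866 3)) (.leaf (.up 5 1908 5))))) (.node (.node (.node (.leaf (.up 3 913 5)) (.leaf (.up 3 1988 0))) (.node (.leaf (.up 4 1359 1)) (.leaf (.up 2 462 5)))) (.node (.node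 (.leaf (.up 2 1776 2)) (.leaf (.up 2 1467 4))) (.node (.leaf (.up 1 4 1)) (.leaf (.up 5 181 0))))))))

noncomputable def vt3_7_010 : Tr VStep := .node vt3_7_0100 vt3_7_0101

noncomputable def vt3_7_0110 : Tr VStep :=
  .node (.node (.node (.node (.node (.node (.node (.leaf (.root 195)) (.leaf (.up 3 613 4))) (.node (.leaf (.up 4 552 5)) (.leaf (.up 1 26 0)))) (.node (.node (.leaf (.up 4 1639 4)) (.leaf (.up 3 589 5))) (.node (.leaf (.up 3 18 5)) (.leaf (.up 4 478 2))))) (.node (.node (.node (.leaf (.up 4 241 2)) (.leaf (.up 4 1904 2))) (.node (.leaf (.up 4 1704 5)) (.leaf (.up 2 696 5)))) (.node (.node (.leaf (.up 4 221 4)) (.leaf (.up 3 1741 5))) (.node (.leaf (.up 2 1170 5)) (.leaf (.up 4 1162 2)))))) (.node (.node (.node (.node (.leaf (.up 2 164 0)) (.leaf (.up 3 961 2))) (.node (.leaf (.up 3 666 1)) (.leaf (.up 3 1696 1)))) (.node (.node (.leaf (.up 2 1771 0)) (.leaf (.up 3 834 4))) (.node (.leaf (.up 4 309 5)) (.leaf (.up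 3 59 2))))) (.node (.node (.node (.leaf (.up 3 448 5)) (.leaf (.up 2 736 1))) (.node (.leaf (.up 2 1935 5)) (.leaf (.up 2 927 5)))) (.node (.node (.leaf (.up 2 1018 5)) (.leaf (.up 4 1725 2))) (.node (.leaf (.up 4 750 2)) (.leaf (.up 2 421 5))))))) (.node (.node (.node (.node (.node (.leaf (.root 430)) (.leaf (.up 2 915 1))) (.node (.leaf (.up 5 1576 5)) (.leaf (.up 4 788 4)))) (.node (.node (.leaf (.up 5 605 4)) (.leaf (.up 4 1613 5))) (.node (.leaf (.up 2 1042 5)) (.leaf (.up 1 2 5))))) (.node (.node (.node (.leaf (.up 5 505 2)) (.leaf (.up 4 229 4))) (.node (.leaf (.up 3 918 4)) (.leaf (.up 4 2003 1)))) (.node (.node (.leaf (.up 5 1757 5)) (.leaf (.up 4 162 1))) (.node (.leaf (.up 3 428 4)) (.leaf (.up 2 1156 3)))))) (.node (.node (.node (.node (.leaf (.up 5 320 5)) (.leaf (.up 4 713 2))) (.node (.leaf (.up 5 1807 5)) (.leaf (.up 1 9 4)))) (.node (.node (.leaf (.up 5 320 4)) (.leaf (.up 4 1912 4))) (.node (.leaf (.up 5 1807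 3)) (.leaf (.up 4 293 5))))) (.node (.node (.node (.leaf (.up 1 28 2)) (.leaf (.up 4 937 0))) (.node (.leaf (.up 2 1363 1)) (.leaf (.up 2 1715 4)))) (.node (.node (.leaf (.up 6 2042 4)) (.leaf (.up 4 1002 5))) (.node (.leaf (.up 1 24 1)) (.leaf (.up 2 1445 5)))))))) (.node (.node (.node (.node (.node (.node (.leaf (.up 2 623 4)) (.leaf (.up 2 1260 1))) (.node (.leaf (.up 3 69 2)) (.leaf (.up 3 1988 2)))) (.node (.node (.leaf (.up 3 530 3)) (.leaf (.up 3 1320 3))) (.node (.leaf (.up 3 1881 3)) (.leaf (.up 1 34 5))))) (.node (.node (.node (.leaf (.up 2 1223 5)) (.leaf (.up 5 215 5))) (.node (.leaf (.up 4 1297 2)) (.leaf (.up 3 1688 5)))) (.node (.node (.leaf (.up 2 1771 2)) (.leaf (.up 5 215 4))) (.node (.leaf (.up 2 1087 3)) (.leaf (.up 2 773 3)))))) (.node (.node (.node (.node (.leaf (.up 2 370 4)) (.leaf (.up 3 197 3))) (.node (.leaf (.up 2 1081 4)) (.leaf (.up 3 1422 3)))) (.node (.node (.leaf (.up 4 858 5)) (.leaf (.up 3 1866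 5))) (.node (.leaf (.up 3 1301 5)) (.leaf (.up 3 261 5))))) (.node (.node (.node (.leaf (.up 2 1830 2)) (.leaf (.up 2 167 2))) (.node (.leaf (.up 2 1268 2)) (.leaf (.up 4 669 0)))) (.node (.node (.leaf (.up 3 1699 0)) (.leaf (.up 2 143 2))) (.node (.leaf (.up 2 1244 2)) (.leaf (.up 2 861 1))))))) (.node (.node (.node (.node (.node (.leaf (.up 2 609 0)) (.leaf (.up 3 109 4))) (.node (.leaf (.up 3 333 2)) (.leaf (.up 2 1893 1)))) (.node (.node (.leaf (.up 3 1135 4)) (.leaf (.up 3 1889 0))) (.node (.leaf (.up 1 50 5)) (.leaf (.up 4 1058 5))))) (.node (.node (.node (.leaf (.up 5 239 4)) (.leaf (.up 4 805 1))) (.node (.leaf (.up 3 1672 5)) (.leaf (.up 4 287 1)))) (.node (.node (.leaf (.up 5 725 4)) (.leaf (.up 4 1773 5))) (.node (.leaf (.up 5 1420 3)) (.leaf (.up 4 944 2)))))) (.node (.node (.node (.node (.leaf (.up 5 174 0)) (.leaf (.up 2 997 1))) (.node (.leaf (.up 1 3 4)) (.leaf (.up 4 1085 3)))) (.node (.node (.leaf (.up 3 1142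 3)) (.leaf (.up 4 330 4))) (.node (.leaf (.up 5 174 1)) (.leaf (.up 3 1543 3))))) (.node (.node (.node (.leaf (.up 2 1582 2)) (.leaf (.up 4 1520 5))) (.node (.leaf (.up 2 927 0)) (.leaf (.up 3 637 2)))) (.node (.node (.leaf (.up 2 1542 2)) (.leaf (.up 1 42 3))) (.node (.leaf (.up 3 1492 2)) (.leaf (.up 2 597 2))))))))

noncomputable def vt3_7_0111 : Tr VStep :=
  .node (.node (.node (.node (.node (.node (.node (.leaf (.up 4 611 4)) (.leaf (.up 2 1115 4))) (.node (.leaf (.up 2 1832 4)) (.leaf (.up 2 272 4)))) (.node (.node (.leaf (.up 1 89 4)) (.leaf (.up 4 516 2))) (.node (.leaf (.up 4 1623 2)) (.leaf (.up 4 810 4))))) (.node (.node (.node (.leaf (.up 4 249 2)) (.leaf (.up 4 372 0))) (.node (.leaf (.up 2 773 0)) (.leaf (.up 2 1976 5)))) (.node (.node (.leaf (.up 3 209 2)) (.leaf (.up 2 973 5))) (.node (.leaf (.up 4 402 5)) (.leaf (.up 4 1154 2)))))) (.node (.node (.node (.node (.leaf (.up 3 64 5)) (.leaf (.up 4 221 3))) (.node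 (.leaf (.up 3 63 1)) (.leaf (.up 4 138 0)))) (.node (.node (.leaf (.up 5 1120 2)) (.leaf (.up 2 993 2))) (.node (.leaf (.up 3 1551 4)) (.leaf (.up 4 1964 3))))) (.node (.node (.node (.leaf (.up 3 1153 3)) (.leaf (.up 3 69 1))) (.node (.leaf (.up 3 655 4)) (.leaf (.up 2 1776 3)))) (.node (.node (.leaf (.up 1 308 1)) (.leaf (.up 5 966 4))) (.node (.leaf (.up 3 742 2)) (.leaf (.up 4 1383 2))))))) (.node (.node (.node (.node (.node (.leaf (.up 4 1383 5)) (.leaf (.up 4 310 0))) (.node (.leaf (.up 4 786 4)) (.leaf (.up 1 8 0)))) (.node (.node (.leaf (.up 4 1123 4)) (.leaf (.up 3 780 2))) (.node (.leaf (.up 3 1887 2)) (.leaf (.up 4 1808 4))))) (.node (.node (.node (.leaf (.up 4 497 2)) (.leaf (.up 3 1648 2))) (.node (.leaf (.up 4 1960 5)) (.leaf (.up 3 952 5)))) (.node (.node (.leaf (.up 4 989 5)) (.leaf (.up 3 1997 5))) (.node (.leaf (.up 5 1426 5)) (.leaf (.up 5 426 4)))))) (.node (.node (.node (.node (.leaf (.up 4 1344 2)) (.leaf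 (.up 3 705 2))) (.node (.leaf (.up 3 527 5)) (.leaf (.up 3 1591 4)))) (.node (.node (.leaf (.up 4 1658 5)) (.leaf (.up 3 326 4))) (.node (.leaf (.up 2 1223 1)) (.leaf (.up 5 1160 0))))) (.node (.node (.node (.leaf (.up 3 1022 4)) (.leaf (.up 3 502 0))) (.node (.leaf (.up 3 903 0)) (.leaf (.up 3 141 4)))) (.node (.node (.leaf (.up 5 762 5)) (.leaf (.up 1 50 3))) (.node (.leaf (.up 4 1480 0)) (.leaf (.up 3 1401 3)))))))) (.node (.node (.node (.node (.node (.node (.leaf (.root 1008)) (.leaf (.up 3 1609 1))) (.node (.leaf (.up 3 73 1)) (.leaf (.up 1 2 0)))) (.node (.node (.leaf (.up 2 1917 5)) (.leaf (.up 2 877 5))) (.node (.leaf (.up 2 306 5)) (.leaf (.up 3 1314 5))))) (.node (.node (.node (.leaf (.up 3 1033 1)) (.leaf (.up 4 330 2))) (.node (.leaf (.up 3 47 3)) (.leaf (.up 4 408 4)))) (.node (.node (.leaf (.up 3 209 4)) (.leaf (.up 4 1404 0))) (.node (.leaf (.up 4 1805 0)) (.leaf (.up 4 688 2)))))) (.node (.node (.node (.node (.leaf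 (.up 5 1120 5)) (.leaf (.up 4 372 4))) (.node (.leaf (.up 5 424 2)) (.leaf (.up 2 1087 4)))) (.node (.node (.leaf (.up 5 594 2)) (.leaf (.up 4 586 5))) (.node (.leaf (.up 1 21 5)) (.leaf (.up 2 1537 2))))) (.node (.node (.node (.leaf (.up 3 502 4)) (.leaf (.up 5 1264 5))) (.node (.leaf (.up 3 1213 4)) (.leaf (.up 4 703 5)))) (.node (.node (.leaf (.up 3 1276 0)) (.leaf (.up 3 1738 5))) (.node (.leaf (.up 3 1236 2)) (.leaf (.up 2 191 4))))))) (.node (.node (.node (.node (.node (.leaf (.up 3 107 4)) (.leaf (.up 4 1367 5))) (.node (.leaf (.up 3 506 1)) (.leaf (.up 3 792 4)))) (.node (.node (.leaf (.up 4 1649 0)) (.leaf (.up 2 1129 4))) (.node (.leaf (.up 3 1330 5)) (.leaf (.up 4 1772 2))))) (.node (.node (.node (.leaf (.up 6 1745 4)) (.leaf (.up 3 384 1))) (.node (.leaf (.up 3 1920 1)) (.leaf (.up 3 64 0)))) (.node (.node (.leaf (.up 4 241 1)) (.leaf (.up 5 1005 5))) (.node (.leaf (.up 2 1081 2)) (.leaf (.up 3 1551 0)))))) (.node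 (.node (.node (.node (.leaf (.up 6 96 5)) (.leaf (.up 3 1884 3))) (.node (.leaf (.up 4 160 2)) (.leaf (.up 3 535 3)))) (.node (.node (.leaf (.up 4 858 2)) (.leaf (.up 5 1908 4))) (.node (.leaf (.up 5 1408 0)) (.leaf (.up 3 575 4))))) (.node (.node (.node (.leaf (.up 3 1484 4)) (.leaf (.up 5 945 0))) (.node (.leaf (.up 3 314 1)) (.leaf (.up 2 369 3)))) (.node (.node (.leaf (.up 3 314 3)) (.leaf (.up 2 462 4))) (.node (.leaf (.up 2 1137 1)) (.leaf (.up 3 843 3))))))))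

noncomputable def vt3_7_011 : Tr VStep := .node vt3_7_0110 vt3_7_0111

noncomputable def vt3_7_01 : Tr VStep := .node vt3_7_010 vt3_7_011

noncomputable def vt3_7_0 : Tr VStep := .node vt3_7_00 vt3_7_01

noncomputable def vt3_7_1000 : Tr VStep :=
  .node (.node (.node (.node (.node (.node (.node (.leaf (.root 1404)) (.leaf (.up 4 1565 5))) (.node (.leaf (.up 4 473 3)) (.leaf (.up 1 1 1)))) (.node (.node (.leaf (.up 4 1704 3)) (.leaf (.up 2 1188 2))) (.node (.leaf (.up 4 1787 0)) (.leaf (.up 4 616 5))))) (.node (.node (.node (.leaf (.up 4 901 0)) (.leaf (.up 2 1089 1))) (.node (.leaf (.up 2 699 0)) (.leaf (.up 2 1234 5)))) (.node (.node (.leaf (.up 4 1695 4)) (.leaf (.up 2 167 4))) (.node (.leaf (.up 2 1268 0)) (.leaf (.up 4 1768 5)))))) (.node (.node (.node (.node (.leaf (.up 4 810 5)) (.leaf (.up 1 10 0))) (.node (.leaf (.up 3 1097 4)) (.leaf (.up 1 308 0)))) (.node (.node (.leaf (.up 2 272 5)) (.leaf (.up 3 1280 4))) (.node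 (.leaf (.up 3 1887 5)) (.leaf (.up 3 847 5))))) (.node (.node (.node (.leaf (.up 2 1976 4)) (.leaf (.up 3 954 5))) (.node (.leaf (.up 2 116 0)) (.leaf (.up 3 193 1)))) (.node (.node (.leaf (.up 4 1797 0)) (.leaf (.up 1 21 2))) (.node (.leaf (.up 2 991 5)) (.leaf (.up 5 1777 4))))))) (.node (.node (.node (.node (.node (.leaf (.up 5 1549 5)) (.leaf (.up 3 1412 2))) (.node (.leaf (.up 3 878 4)) (.leaf (.up 4 1106 5)))) (.node (.node (.leaf (.up 3 1055 4)) (.leaf (.up 4 551 4))) (.node (.leaf (.up 3 632 5)) (.leaf (.up 4 1640 5))))) (.node (.node (.node (.leaf (.up 4 456 0)) (.leaf (.up 3 647 0))) (.node (.leaf (.up 3 780 3)) (.leaf (.up 4 210 5)))) (.node (.node (.leaf (.up 3 183 5)) (.leaf (.up 4 1191 5))) (.node (.leaf (.up 4 2030 4)) (.leaf (.up 2 1548 3)))))) (.node (.node (.node (.node (.leaf (.up 3 1834 5)) (.leaf (.up 3 1330 1))) (.node (.leaf (.up 1 50 2)) (.leaf (.up 5 1611 4)))) (.node (.node (.leaf (.up 2 1296 5)) (.leaf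 (.up 3 1097 2))) (.node (.leaf (.up 1 26 2)) (.leaf (.up 2 1137 4))))) (.node (.node (.node (.leaf (.up 3 1906 1)) (.leaf (.up 4 309 2))) (.node (.leaf (.up 3 1509 5)) (.leaf (.up 2 993 3)))) (.node (.node (.leaf (.up 3 400 5)) (.leaf (.up 3 1543 0))) (.node (.leaf (.up 1 3 1)) (.leaf (.up 2 1081 1)))))))) (.node (.node (.node (.node (.node (.node (.leaf (.root 1356)) (.leaf (.up 4 130 0))) (.node (.leaf (.up 4 1773 2)) (.leaf (.up 3 209 3)))) (.node (.node (.leaf (.up 4 1410 0)) (.leaf (.up 3 47 4))) (.node (.leaf (.up 4 1212 0)) (.leaf (.up 3 902 1))))) (.node (.node (.node (.leaf (.up 3 454 3)) (.leaf (.up 2 1199 4))) (.node (.leaf (.up 3 1250 5)) (.leaf (.up 3 947 0)))) (.node (.node (.leaf (.up 3 67 2)) (.leaf (.up 3 1990 1))) (.node (.leaf (.up 2 1715 0)) (.leaf (.up 4 1040 2)))))) (.node (.node (.node (.node (.leaf (.up 4 1802 5)) (.leaf (.up 3 264 4))) (.node (.leaf (.up 3 635 4)) (.leaf (.up 4 1091 4)))) (.node (.node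 (.leaf (.up 4 1290 4)) (.leaf (.up 3 818 4))) (.node (.leaf (.up 5 65 4)) (.leaf (.up 3 1657 4))))) (.node (.node (.node (.leaf (.up 2 394 4)) (.leaf (.up 3 299 3))) (.node (.leaf (.up 4 858 3)) (.leaf (.up 5 380 0)))) (.node (.node (.leaf (.up 4 944 4)) (.leaf (.up 5 380 1))) (.node (.leaf (.up 4 2047 5)) (.leaf (.up 5 195 4))))))) (.node (.node (.node (.node (.node (.leaf (.up 3 384 0)) (.leaf (.up 4 1348 1))) (.node (.leaf (.up 5 1372 4)) (.leaf (.up 4 1009 0)))) (.node (.node (.leaf (.up 3 1055 2)) (.leaf (.up 3 1555 3))) (.node (.leaf (.up 3 1551 1)) (.leaf (.up 6 584 5))))) (.node (.node (.node (.leaf (.up 4 911 0)) (.leaf (.up 4 701 5))) (.node (.leaf (.up 2 998 4)) (.leaf (.up 4 260 1)))) (.node (.node (.leaf (.up 3 331 2)) (.leaf (.up 3 1653 1))) (.node (.leaf (.up 4 476 4)) (.leaf (.up 3 1736 5)))))) (.node (.node (.node (.node (.leaf (.up 3 1988 1)) (.leaf (.up 1 0 0))) (.node (.leaf (.up 2 1601 4)) (.leaf (.up 3 121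 4)))) (.node (.node (.leaf (.up 1 304 4)) (.leaf (.up 3 635 2))) (.node (.leaf (.up 5 181 1)) (.leaf (.up 3 879 5))))) (.node (.node (.node (.leaf (.up 3 1456 4)) (.leaf (.up 3 1412 1))) (.node (.leaf (.up 5 453 5)) (.leaf (.up 4 1493 5)))) (.node (.node (.leaf (.up 3 1456 5)) (.leaf (.up 4 416 5))) (.node (.leaf (.up 3 705 4)) (.leaf (.up 6 1273 4))))))))

noncomputable def vt3_7_1001 : Tr VStep :=
  .node (.node (.node (.node (.node (.node (.node (.leaf (.root 699)) (.leaf (.up 2 1156 2))) (.node (.leaf (.up 5 215 2)) (.leaf (.up 4 1362 5)))) (.node (.node (.leaf (.up 2 813 2)) (.leaf (.up 2 1976 3))) (.node (.leaf (.up 2 981 1)) (.leaf (.up 4 1896 5))))) (.node (.node (.node (.leaf (.up 4 734 1)) (.leaf (.up 3 1187 4))) (.node (.leaf (.up 3 2000 4)) (.leaf (.up 4 466 5)))) (.node (.node (.leaf (.up 3 1657 2)) (.leaf (.up 4 1689 4))) (.node (.leaf (.up 2 1707 0)) (.leaf (.up 4 554 2)))))) (.node (.node (.node (.node (.leaf (.up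 2 1578 5)) (.leaf (.up 2 1572 1))) (.node (.leaf (.up 2 631 4)) (.leaf (.up 2 1715 2)))) (.node (.node (.leaf (.up 2 1877 0)) (.leaf (.up 1 0 5))) (.node (.leaf (.up 3 607 5)) (.leaf (.up 3 1653 4))))) (.node (.node (.node (.leaf (.up 3 682 5)) (.leaf (.up 4 1982 4))) (.node (.leaf (.up 3 1630 1)) (.leaf (.up 4 1144 3)))) (.node (.node (.leaf (.up 3 144 5)) (.leaf (.up 3 777 3))) (.node (.leaf (.up 3 1759 5)) (.leaf (.up 4 1602 3))))))) (.node (.node (.node (.node (.node (.leaf (.up 2 781 5)) (.leaf (.up 3 1821 5))) (.node (.leaf (.up 4 1360 4)) (.leaf (.up 3 1630 2)))) (.node (.node (.leaf (.up 4 549 2)) (.leaf (.up 3 1319 5))) (.node (.leaf (.up 4 1912 5)) (.leaf (.up 3 872 5))))) (.node (.node (.node (.leaf (.up 2 877 1)) (.leaf (.up 3 153 4))) (.node (.leaf (.up 4 1002 4)) (.leaf (.up 5 1490 4)))) (.node (.node (.leaf (.up 4 1463 5)) (.leaf (.up 5 675 4))) (.node (.leaf (.up 3 1187 2)) (.leaf (.up 1 38 1)))))) (.node (.node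 (.node (.node (.leaf (.up 2 1244 3)) (.leaf (.up 1 24 0))) (.node (.leaf (.up 4 1613 4)) (.leaf (.up 6 117 4)))) (.node (.node (.leaf (.up 3 16 5)) (.leaf (.up 2 1089 2))) (.node (.leaf (.up 2 1244 1)) (.leaf (.up 2 1939 2))))) (.node (.node (.node (.leaf (.up 4 1468 4)) (.leaf (.up 3 535 0))) (.node (.leaf (.up 4 229 5)) (.leaf (.up 5 1269 5)))) (.node (.node (.leaf (.up 5 1408 3)) (.leaf (.up 5 446 4))) (.node (.leaf (.up 4 678 1)) (.leaf (.up 5 1269 4)))))))) (.node (.node (.node (.node (.node (.node (.leaf (.up 2 813 5)) (.leaf (.up 2 1853 5))) (.node (.leaf (.up 3 1378 5)) (.leaf (.up 2 370 5)))) (.node (.node (.leaf (.up 3 41 4)) (.leaf (.up 2 394 3))) (.node (.leaf (.up 3 1019 3)) (.leaf (.up 4 858 4))))) (.node (.node (.node (.leaf (.up 2 1042 1)) (.leaf (.up 3 957 5))) (.node (.leaf (.up 3 679 3)) (.leaf (.up 3 492 0)))) (.node (.node (.leaf (.up 3 1431 5)) (.leaf (.up 3 391 5))) (.node (.leaf (.up 2 1260 0)) (.leaf (.up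 3 1955 0)))))) (.node (.node (.node (.node (.leaf (.root 558)) (.leaf (.up 2 1562 5))) (.node (.leaf (.up 2 1093 4)) (.leaf (.up 3 637 4)))) (.node (.node (.leaf (.up 4 409 1)) (.leaf (.up 4 891 2))) (.node (.leaf (.up 2 1832 2)) (.leaf (.up 2 623 5))))) (.node (.node (.node (.leaf (.up 3 1674 5)) (.leaf (.up 3 666 5))) (.node (.leaf (.up 3 197 5)) (.leaf (.up 2 1223 4)))) (.node (.node (.leaf (.up 3 1200 5)) (.leaf (.up 4 160 5))) (.node (.leaf (.up 3 197 4)) (.leaf (.up 4 1775 5))))))) (.node (.node (.node (.node (.node (.leaf (.root 918)) (.leaf (.up 1 17 4))) (.node (.leaf (.up 4 866 4)) (.leaf (.up 3 1394 5)))) (.node (.node (.leaf (.up 4 1047 2)) (.leaf (.up 1 57 3))) (.node (.leaf (.up 4 1194 1)) (.leaf (.up 3 1888 4))))) (.node (.node (.node (.leaf (.up 3 941 5)) (.leaf (.up 2 1707 4))) (.node (.leaf (.up 2 1947 1)) (.leaf (.up 5 929 0)))) (.node (.node (.leaf (.up 3 323 2)) (.leaf (.up 3 1415 5))) (.node (.leaf (.up 3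 2008 5)) (.leaf (.up 2 1556 3)))))) (.node (.node (.node (.node (.leaf (.up 2 272 0)) (.leaf (.up 3 780 4))) (.node (.leaf (.up 3 69 5)) (.leaf (.up 2 865 0)))) (.node (.node (.leaf (.up 1 42 1)) (.leaf (.up 2 627 2))) (.node (.leaf (.up 4 581 4)) (.leaf (.up 2 1578 1))))) (.node (.node (.node (.leaf (.up 3 650 5)) (.leaf (.up 5 1825 1))) (.node (.leaf (.up 4 1221 5)) (.leaf (.up 5 213 5)))) (.node (.node (.leaf (.up 4 176 5)) (.leaf (.up 5 1160 3))) (.node (.leaf (.up 4 884 2)) (.leaf (.up 5 1825 0))))))))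

noncomputable def vt3_7_100 : Tr VStep := .node vt3_7_1000 vt3_7_1001

noncomputable def vt3_7_1010 : Tr VStep :=
  .node (.node (.node (.node (.node (.node (.node (.leaf (.up 4 1404 5)) (.leaf (.up 3 1138 2))) (.node (.leaf (.up 4 801 4)) (.leaf (.up 3 1305 4)))) (.node (.node (.leaf (.up 2 987 2)) (.leaf (.up 2 773 1))) (.node (.leaf (.up 1 9 2)) (.leaf (.up 3 1305 5))))) (.node (.node (.node (.leaf (.up 3 1038 1)) (.leaf (.up 4 1768 4))) (.node (.leaf (.up 3 1738 3)) (.leaf (.up 2 496 3)))) (.node (.node (.leaf (.up 3 1679 2)) (.leaf (.up 2 1234 4))) (.node (.leaf (.up 3 1953 4)) (.leaf (.up 4 732 2)))))) (.node (.node (.node (.node (.leaf (.up 2 1115 5)) (.leaf (.up 1 10 3))) (.node (.leaf (.up 3 1550 0)) (.leaf (.up 4 1540 4)))) (.node (.node (.leaf (.up 4 383 0)) (.leaf (.up 3 625 5))) (.node (.leaf (.up 3 492 2)) (.leaf (.up 3 1645 2))))) (.node (.node (.node (.leaf (.up 2 973 4)) (.leaf (.up 3 1678 1))) (.node (.leaf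 (.up 3 1670 4)) (.leaf (.up 5 785 2)))) (.node (.node (.leaf (.up 4 880 0)) (.leaf (.up 3 63 0))) (.node (.leaf (.up 2 1208 2)) (.leaf (.up 5 1053 3))))))) (.node (.node (.node (.node (.node (.leaf (.up 5 380 5)) (.leaf (.up 4 1128 4))) (.node (.leaf (.up 3 509 1)) (.leaf (.up 4 1704 2)))) (.node (.node (.leaf (.up 3 509 0)) (.leaf (.up 4 1618 4))) (.node (.leaf (.up 3 1289 5)) (.leaf (.up 2 1664 2))))) (.node (.node (.node (.leaf (.up 4 562 3)) (.leaf (.up 3 492 5))) (.node (.leaf (.up 3 947 5)) (.leaf (.up 3 1996 0)))) (.node (.node (.leaf (.up 1 8 3)) (.leaf (.up 1 6 2))) (.node (.leaf (.up 4 1347 3)) (.leaf (.up 4 980 2)))))) (.node (.node (.node (.node (.leaf (.up 3 333 4)) (.leaf (.up 4 327 1))) (.node (.leaf (.up 2 1556 5)) (.leaf (.up 4 516 5)))) (.node (.node (.leaf (.up 2 609 5)) (.leaf (.up 4 1359 4))) (.node (.leaf (.up 5 1596 4)) (.leaf (.up 1 4 4))))) (.node (.node (.node (.leaf (.up 3 1906 0)) (.leaf (.up 2 1853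 1))) (.node (.leaf (.up 3 660 5)) (.leaf (.up 2 1156 4)))) (.node (.node (.leaf (.up 3 1761 5)) (.leaf (.up 2 630 1))) (.node (.leaf (.up 1 3 0)) (.leaf (.up 4 1726 4)))))))) (.node (.node (.node (.node (.node (.node (.leaf (.root 1664)) (.leaf (.up 4 130 1))) (.node (.leaf (.up 3 1670 0)) (.leaf (.up 2 1188 3)))) (.node (.node (.leaf (.up 4 610 4)) (.leaf (.up 2 981 3))) (.node (.leaf (.up 4 969 1)) (.leaf (.up 3 902 0))))) (.node (.node (.node (.leaf (.up 3 1459 3)) (.leaf (.up 2 460 5))) (.node (.leaf (.up 2 915 5)) (.leaf (.up 3 1990 0)))) (.node (.node (.leaf (.up 3 189 2)) (.leaf (.up 2 736 4))) (.node (.leaf (.up 3 1459 1)) (.leaf (.up 4 1262 2)))))) (.node (.node (.node (.node (.leaf (.up 4 123 5)) (.leaf (.up 3 1131 5))) (.node (.leaf (.up 1 56 1)) (.leaf (.up 3 54 4)))) (.node (.node (.leaf (.up 4 577 5)) (.leaf (.up 4 1863 4))) (.node (.leaf (.up 3 1038 5)) (.leaf (.up 1 30 5))))) (.node (.node (.node (.leaf (.up 4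 1275 5)) (.leaf (.up 5 1374 3))) (.node (.leaf (.up 4 692 5)) (.leaf (.up 1 21 3)))) (.node (.node (.leaf (.up 4 1729 5)) (.leaf (.up 3 1892 3))) (.node (.leaf (.up 1 9 0)) (.leaf (.up 5 1206 4))))))) (.node (.node (.node (.node (.node (.leaf (.up 5 1372 5)) (.leaf (.up 4 305 1))) (.node (.leaf (.up 5 787 5)) (.leaf (.up 4 1303 3)))) (.node (.node (.leaf (.up 3 64 1)) (.leaf (.up 6 96 4))) (.node (.leaf (.up 5 787 4)) (.leaf (.up 2 1337 5))))) (.node (.node (.node (.leaf (.up 4 476 5)) (.leaf (.up 3 1484 5))) (.node (.leaf (.up 2 1939 4)) (.leaf (.up 4 1649 3)))) (.node (.node (.leaf (.up 2 998 5)) (.leaf (.up 3 2038 5))) (.node (.leaf (.up 4 615 2)) (.leaf (.up 3 913 4)))))) (.node (.node (.node (.node (.leaf (.up 5 945 1)) (.leaf (.up 3 685 2))) (.node (.leaf (.up 2 564 4)) (.leaf (.up 2 1572 5)))) (.node (.node (.leaf (.up 2 1601 5)) (.leaf (.up 4 1457 3))) (.node (.leaf (.up 3 1984 3)) (.leaf (.up 3 1590 4))))) (.node (.node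 (.node (.leaf (.up 5 453 4)) (.leaf (.up 4 497 1))) (.node (.leaf (.up 5 1166 4)) (.leaf (.up 4 676 5)))) (.node (.node (.leaf (.up 3 493 3)) (.leaf (.up 6 1745 5))) (.node (.leaf (.up 5 1166 5)) (.leaf (.up 2 1664 1))))))))

noncomputable def vt3_7_1011 : Tr VStep :=
  .node (.node (.node (.node (.node (.node (.node (.leaf (.up 3 1019 2)) (.leaf (.up 4 1644 4))) (.node (.leaf (.up 3 41 2)) (.leaf (.up 4 1960 2)))) (.node (.node (.leaf (.up 4 979 2)) (.leaf (.up 2 973 3))) (.node (.leaf (.up 1 1 2)) (.leaf (.up 3 1920 2))))) (.node (.node (.node (.leaf (.up 2 1707 1)) (.leaf (.up 3 236 5))) (.node (.leaf (.up 3 691 5)) (.leaf (.up 3 1699 5)))) (.node (.node (.leaf (.up 3 1734 5)) (.leaf (.up 3 726 5))) (.node (.leaf (.up 4 734 0)) (.leaf (.up 4 724 2)))))) (.node (.node (.node (.node (.leaf (.up 3 347 5)) (.leaf (.up 4 1355 5))) (.node (.leaf (.up 2 1538 4)) (.leaf (.up 3 107 1)))) (.node (.node (.leaf (.up 2 865 5)) (.leaf (.up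 3 1050 3))) (.node (.leaf (.up 4 1326 5)) (.leaf (.up 5 512 4))))) (.node (.node (.node (.leaf (.up 1 17 1)) (.leaf (.up 4 203 2))) (.node (.leaf (.up 3 1630 0)) (.leaf (.up 2 1664 4)))) (.node (.node (.leaf (.up 3 2017 5)) (.leaf (.up 4 497 4))) (.node (.leaf (.up 1 17 0)) (.leaf (.up 2 862 0))))))) (.node (.node (.node (.node (.node (.leaf (.up 4 1134 4)) (.leaf (.up 3 1394 2))) (.node (.leaf (.up 4 293 4)) (.leaf (.up 3 1696 2)))) (.node (.node (.leaf (.up 4 731 2)) (.leaf (.up 3 598 5))) (.node (.leaf (.up 1 9 5)) (.leaf (.up 3 1672 2))))) (.node (.node (.node (.leaf (.up 3 1048 3)) (.leaf (.up 1 38 2))) (.node (.leaf (.up 2 1756 0)) (.leaf (.up 5 675 5)))) (.node (.node (.leaf (.up 2 1935 2)) (.leaf (.up 5 1750 4))) (.node (.leaf (.up 2 1445 4)) (.leaf (.up 2 1107 1)))))) (.node (.node (.node (.node (.leaf (.up 2 1371 5)) (.leaf (.up 2 1939 3))) (.node (.leaf (.up 4 788 5)) (.leaf (.up 2 1363 0)))) (.node (.node (.leaf (.up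 2 1353 4)) (.leaf (.up 6 881 4))) (.node (.leaf (.up 1 2 4)) (.leaf (.up 3 1342 5))))) (.node (.node (.node (.leaf (.up 4 418 1)) (.leaf (.up 5 1269 3))) (.node (.leaf (.up 4 1154 4)) (.leaf (.up 3 1884 0)))) (.node (.node (.leaf (.up 2 993 5)) (.leaf (.up 5 491 2))) (.node (.leaf (.up 4 1747 1)) (.leaf (.up 5 446 5)))))))) (.node (.node (.node (.node (.node (.node (.leaf (.up 2 1638 4)) (.leaf (.up 4 1704 0))) (.node (.leaf (.up 2 813 4)) (.leaf (.up 3 1301 4)))) (.node (.node (.leaf (.up 2 1638 5)) (.leaf (.up 2 630 5))) (.node (.leaf (.up 3 41 5)) (.leaf (.up 2 1081 5))))) (.node (.node (.node (.leaf (.up 3 103 1)) (.leaf (.up 3 1187 3))) (.node (.leaf (.up 3 1431 4)) (.leaf (.up 4 643 5)))) (.node (.node (.leaf (.up 3 419 3)) (.leaf (.up 4 1689 3))) (.node (.leaf (.up 2 1814 1)) (.leaf (.up 3 982 0)))))) (.node (.node (.node (.node (.leaf (.root 504)) (.leaf (.up 3 835 4))) (.node (.leaf (.up 4 669 1)) (.leaf (.up 3 127 2))))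 (.node (.node (.leaf (.up 4 1028 2)) (.leaf (.up 2 377 4))) (.node (.leaf (.up 1 89 0)) (.leaf (.up 3 1074 4))))) (.node (.node (.node (.leaf (.up 3 507 5)) (.leaf (.up 4 1515 5))) (.node (.leaf (.up 3 1674 4)) (.leaf (.up 4 932 5)))) (.node (.node (.leaf (.up 3 507 4)) (.leaf (.up 4 1964 1))) (.node (.leaf (.up 3 1200 4)) (.leaf (.up 4 648 4))))))) (.node (.node (.node (.node (.node (.leaf (.up 4 1217 2)) (.leaf (.up 3 1100 5))) (.node (.leaf (.up 3 1811 2)) (.leaf (.up 3 515 5)))) (.node (.node (.leaf (.up 4 741 1)) (.leaf (.up 3 1100 3))) (.node (.leaf (.up 4 223 1)) (.leaf (.up 1 57 5))))) (.node (.node (.node (.leaf (.up 2 1445 0)) (.leaf (.up 2 1556 2))) (.node (.leaf (.up 3 1889 3)) (.leaf (.up 3 2004 0)))) (.node (.node (.leaf (.up 2 1756 4)) (.leaf (.up 3 1834 3))) (.node (.leaf (.up 2 623 2)) (.leaf (.up 2 609 3)))))) (.node (.node (.node (.node (.leaf (.up 3 321 4)) (.leaf (.up 2 1578 0))) (.node (.leaf (.up 2 1115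 0)) (.leaf (.up 4 562 4)))) (.node (.node (.leaf (.up 4 833 5)) (.leaf (.up 4 1347 4))) (.node (.leaf (.up 3 1584 4)) (.leaf (.up 1 8 4))))) (.node (.node (.node (.leaf (.up 4 2043 4)) (.leaf (.up 5 491 5))) (.node (.leaf (.up 4 688 4)) (.leaf (.up 3 1956 5)))) (.node (.node (.leaf (.up 2 1473 4)) (.leaf (.up 5 1017 4))) (.node (.leaf (.up 4 398 5)) (.leaf (.up 5 1438 5))))))))

noncomputable def vt3_7_101 : Tr VStep := .node vt3_7_1010 vt3_7_1011

noncomputable def vt3_7_10 : Tr VStep := .node vt3_7_100 vt3_7_101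

noncomputable def vt3_7_1100 : Tr VStep :=
  .node (.node (.node (.node (.node (.node (.node (.leaf (.root 1570)) (.leaf (.up 3 2037 2))) (.node (.leaf (.up 2 1081 3)) (.leaf (.up 2 1188 5)))) (.node (.node (.leaf (.up 4 1477 4)) (.leaf (.up 3 209 5))) (.node (.leaf (.up 3 1539 3)) (.leaf (.up 3 1039 2))))) (.node (.node (.node (.leaf (.up 3 635 5)) (.leaf (.up 2 1917 4))) (.node (.leaf (.up 3 1887 3)) (.leaf (.up 4 36 5)))) (.node (.node (.leaf (.up 3 1288 2)) (.leaf (.up 4 1105 5))) (.node (.leaf (.up 3 1550 5)) (.leaf (.up 3 1492 0)))))) (.node (.node (.node (.node (.leaf (.up 2 1371 1)) (.leaf (.up 3 613 0))) (.node (.leaf (.up 3 1889 1)) (.leaf (.up 3 859 0)))) (.node (.node (.leaf (.up 2 1893 0)) (.leaf (.up 3 502 5))) (.node (.leaf (.up 2 619 2)) (.leaf (.up 3 1977 5))))) (.node (.node (.node (.leaf (.up 4 805 0)) (.leaf (.up 5 1120 4))) (.node (.leaf (.up 3 539 0)) (.leaf (.up 3 299 4)))) (.node (.node (.leaf (.up 4 1386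 0)) (.leaf (.up 5 1573 0))) (.node (.leaf (.up 4 1855 2)) (.leaf (.up 5 785 4))))))) (.node (.node (.node (.node (.node (.leaf (.up 3 193 3)) (.leaf (.up 2 1771 5))) (.node (.leaf (.up 3 1678 4)) (.leaf (.up 2 164 5)))) (.node (.node (.leaf (.up 3 193 5)) (.leaf (.up 2 1473 3))) (.node (.leaf (.up 3 1678 5)) (.leaf (.up 4 670 5))))) (.node (.node (.node (.leaf (.up 3 1659 5)) (.leaf (.up 2 619 5))) (.node (.leaf (.up 4 1554 1)) (.leaf (.up 2 1548 4)))) (.node (.node (.leaf (.up 2 1089 5)) (.leaf (.up 3 897 2))) (.node (.leaf (.up 3 2002 2)) (.leaf (.up 2 1566 5)))))) (.node (.node (.node (.node (.leaf (.up 2 988 5)) (.leaf (.up 3 1996 5))) (.node (.leaf (.up 3 601 0)) (.leaf (.up 4 1383 3)))) (.node (.node (.leaf (.up 3 419 1)) (.leaf (.up 2 1526 5))) (.node (.leaf (.up 2 1961 4)) (.leaf (.up 3 1955 1))))) (.node (.node (.node (.leaf (.up 3 1884 5)) (.leaf (.up 4 1704 1))) (.node (.leaf (.up 3 86 0)) (.leaf (.up 2 1537 3)))) (.node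 (.node (.leaf (.up 3 1509 2)) (.leaf (.up 4 374 5))) (.node (.leaf (.up 3 1561 0)) (.leaf (.up 4 1849 5)))))))) (.node (.node (.node (.node (.node (.node (.leaf (.up 4 418 0)) (.leaf (.up 3 2037 4))) (.node (.leaf (.up 5 1158 4)) (.leaf (.up 2 813 1)))) (.node (.node (.leaf (.up 4 225 5)) (.leaf (.up 4 1265 5))) (.node (.leaf (.up 4 1747 0)) (.leaf (.up 2 1638 1))))) (.node (.node (.node (.leaf (.up 3 941 0)) (.leaf (.up 3 587 5))) (.node (.leaf (.up 3 20 5)) (.leaf (.up 4 1028 4)))) (.node (.node (.leaf (.up 4 1121 5)) (.leaf (.up 4 113 5))) (.node (.leaf (.up 1 6 4)) (.leaf (.up 1 28 1)))))) (.node (.node (.node (.node (.leaf (.up 2 877 0)) (.leaf (.up 1 34 0))) (.node (.leaf (.up 2 1137 2)) (.leaf (.up 3 419 4)))) (.node (.node (.leaf (.up 2 1756 1)) (.leaf (.up 1 10 2))) (.node (.leaf (.up 3 1113 2)) (.leaf (.up 3 921 4))))) (.node (.node (.node (.leaf (.up 4 1009 3)) (.leaf (.up 5 594 4))) (.node (.leaf (.up 4 293 2)) (.leaf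 (.up 3 1315 5)))) (.node (.node (.leaf (.up 4 1616 4)) (.leaf (.up 5 1374 2))) (.node (.leaf (.up 3 777 5)) (.leaf (.up 3 1315 4))))))) (.node (.node (.node (.node (.node (.leaf (.up 5 1182 1)) (.leaf (.up 2 164 1))) (.node (.leaf (.up 3 952 3)) (.leaf (.up 2 1156 5)))) (.node (.node (.leaf (.up 3 1997 4)) (.leaf (.up 4 241 5))) (.node (.leaf (.up 5 686 5)) (.leaf (.up 4 1726 5))))) (.node (.node (.node (.leaf (.up 3 603 5)) (.leaf (.up 5 1611 5))) (.node (.leaf (.up 2 1542 4)) (.leaf (.up 1 4 5)))) (.node (.node (.leaf (.up 4 562 2)) (.leaf (.up 2 1137 5))) (.node (.leaf (.up 2 1582 5)) (.leaf (.up 4 516 4)))))) (.node (.node (.node (.node (.leaf (.up 2 1707 2)) (.leaf (.up 2 1566 1))) (.node (.leaf (.up 1 30 0)) (.leaf (.up 4 1433 4)))) (.node (.node (.leaf (.up 3 1232 4)) (.leaf (.up 4 470 5))) (.node (.leaf (.up 3 905 5)) (.leaf (.up 3 1955 4))))) (.node (.node (.node (.leaf (.up 5 1023 2)) (.leaf (.up 4 1640 4))) (.node (.leaf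 (.up 5 1331 5)) (.leaf (.up 4 291 5)))) (.node (.node (.leaf (.up 3 326 5)) (.leaf (.up 4 1106 4))) (.node (.leaf (.up 5 1825 4)) (.leaf (.up 4 793 5))))))))

noncomputable def vt3_7_1101 : Tr VStep :=
  .node (.node (.node (.node (.node (.node (.node (.leaf (.up 3 1019 5)) (.leaf (.up 6 2041 4))) (.node (.leaf (.up 4 1162 4)) (.leaf (.up 4 1860 1)))) (.node (.node (.leaf (.up 3 1019 4)) (.leaf (.up 6 1489 5))) (.node (.leaf (.up 3 41 3)) (.leaf (.up 3 1412 0))))) (.node (.node (.node (.leaf (.up 3 1320 2)) (.leaf (.up 3 323 4))) (.node (.leaf (.up 1 308 5)) (.leaf (.up 3 1032 4)))) (.node (.node (.leaf (.up 3 629 1)) (.leaf (.up 3 641 2))) (.node (.leaf (.up 1 10 4)) (.leaf (.up 3 339 2)))))) (.node (.node (.node (.node (.leaf (.up 2 143 3)) (.leaf (.up 3 1252 4))) (.node (.leaf (.up 2 1943 4)) (.leaf (.up 4 260 0)))) (.node (.node (.leaf (.up 2 230 4)) (.leaf (.up 3 1653 0))) (.node (.leaf (.up 2 143 1)) (.leaf (.up 3 697 5)))))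 (.node (.node (.node (.leaf (.up 3 378 0)) (.leaf (.up 6 588 5))) (.node (.leaf (.up 3 68 0)) (.leaf (.up 4 408 3)))) (.node (.node (.leaf (.up 3 1845 0)) (.leaf (.up 6 100 4))) (.node (.leaf (.up 3 1847 2)) (.leaf (.up 4 1593 5))))))) (.node (.node (.node (.node (.node (.leaf (.up 2 1771 3)) (.leaf (.up 5 963 4))) (.node (.leaf (.up 2 928 3)) (.leaf (.up 3 1672 4)))) (.node (.node (.leaf (.up 2 1473 5)) (.leaf (.up 5 505 4))) (.node (.leaf (.up 3 650 4)) (.leaf (.up 3 1696 3))))) (.node (.node (.node (.leaf (.up 4 833 4)) (.leaf (.up 3 1401 4))) (.node (.leaf (.up 4 1546 4)) (.leaf (.up 1 50 4)))) (.node (.node (.leaf (.up 3 1032 2)) (.leaf (.up 3 1272 0))) (.node (.leaf (.up 5 1806 5)) (.leaf (.up 3 91 2)))))) (.node (.node (.node (.node (.leaf (.up 2 1756 5)) (.leaf (.up 2 1542 3))) (.node (.leaf (.up 1 6 0)) (.leaf (.up 3 1155 5)))) (.node (.node (.leaf (.up 2 1244 4)) (.leaf (.up 3 246 5))) (.node (.leaf (.up 3 1609 0)) (.leaf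 (.up 4 1967 4))))) (.node (.node (.node (.leaf (.up 4 1477 2)) (.leaf (.up 5 1612 5))) (.node (.leaf (.up 4 1303 4)) (.leaf (.up 1 3 5)))) (.node (.node (.leaf (.up 4 1404 1)) (.leaf (.up 3 1142 5))) (.node (.leaf (.up 4 1094 0)) (.leaf (.up 5 446 2)))))))) (.node (.node (.node (.node (.node (.node (.leaf (.up 5 2035 4)) (.leaf (.up 4 1616 3))) (.node (.leaf (.up 2 696 4)) (.leaf (.up 3 1412 5)))) (.node (.node (.leaf (.up 2 1638 2)) (.leaf (.up 4 497 5))) (.node (.leaf (.up 4 249 1)) (.leaf (.up 4 1982 5))))) (.node (.node (.node (.leaf (.up 3 859 5)) (.leaf (.up 4 1480 1))) (.node (.leaf (.up 4 1863 3)) (.leaf (.up 4 260 5)))) (.node (.node (.leaf (.up 3 353 5)) (.leaf (.up 4 1355 4))) (.node (.leaf (.up 5 1838 5)) (.leaf (.up 1 0 4)))))) (.node (.node (.node (.node (.leaf (.up 2 306 0)) (.leaf (.up 1 42 2))) (.node (.leaf (.up 2 421 4)) (.leaf (.up 3 835 0)))) (.node (.node (.leaf (.up 2 1917 0)) (.leaf (.up 1 2 2))) (.node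 (.leaf (.up 2 927 4)) (.leaf (.up 4 1689 5))))) (.node (.node (.node (.leaf (.up 3 636 5)) (.leaf (.up 4 1644 5))) (.node (.leaf (.up 3 1394 1)) (.leaf (.up 4 35 5)))) (.node (.node (.leaf (.up 3 1394 0)) (.leaf (.up 4 1110 5))) (.node (.leaf (.up 1 57 1)) (.leaf (.up 4 537 5))))))) (.node (.node (.node (.node (.node (.leaf (.up 2 987 5)) (.leaf (.up 5 1521 4))) (.node (.leaf (.up 5 1666 4)) (.leaf (.up 3 961 0)))) (.node (.node (.leaf (.up 4 880 1)) (.leaf (.up 3 1200 0))) (.node (.leaf (.up 2 1208 4)) (.leaf (.up 3 1422 0))))) (.node (.node (.node (.leaf (.up 3 530 2)) (.leaf (.up 3 843 4))) (.node (.leaf (.up 1 56 4)) (.leaf (.up 2 1601 1)))) (.node (.node (.leaf (.up 4 1377 5)) (.leaf (.up 1 304 1))) (.node (.leaf (.up 4 814 5)) (.leaf (.up 5 1082 4)))))) (.node (.node (.node (.node (.leaf (.up 3 1699 2)) (.leaf (.up 4 1772 4))) (.node (.leaf (.up 2 699 1)) (.leaf (.up 2 270 0)))) (.node (.node (.leaf (.up 4 750 4)) (.leaf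 (.up 2 496 1))) (.node (.leaf (.up 3 1038 0)) (.leaf (.up 4 665 5))))) (.node (.node (.node (.leaf (.up 4 1787 1)) (.leaf (.up 3 1142 2))) (.node (.leaf (.up 4 805 4)) (.leaf (.up 3 1956 2)))) (.node (.node (.leaf (.up 2 991 2)) (.leaf (.up 3 86 5))) (.node (.leaf (.up 2 394 1)) (.leaf (.up 3 1456 1))))))))

noncomputable def vt3_7_110 : Tr VStep := .node vt3_7_1100 vt3_7_1101

noncomputable def vt3_7_1110 : Tr VStep :=
  .node (.node (.node (.node (.node (.node (.node (.leaf (.up 2 394 5)) (.leaf (.up 4 1803 2))) (.node (.leaf (.up 4 1729 4)) (.leaf (.up 2 981 5)))) (.node (.node (.leaf (.up 2 1853 3)) (.leaf (.up 3 7 3))) (.node (.leaf (.up 2 630 3)) (.leaf (.up 4 1265 2))))) (.node (.node (.node (.leaf (.up 4 1290 5)) (.leaf (.up 3 1492 1))) (.node (.leaf (.up 2 1548 2)) (.leaf (.up 2 1877 5)))) (.node (.node (.leaf (.up 2 1115 3)) (.leaf (.up 2 865 3))) (.node (.leaf (.up 2 1572 2)) (.leaf (.up 2 1578 3)))))) (.node (.node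 (.node (.node (.leaf (.up 4 151 4)) (.leaf (.up 3 1213 5))) (.node (.leaf (.up 2 1947 3)) (.leaf (.up 5 1838 0)))) (.node (.node (.leaf (.up 3 685 4)) (.leaf (.up 3 1734 2))) (.node (.leaf (.up 3 2022 4)) (.leaf (.up 3 613 1))))) (.node (.node (.node (.leaf (.up 4 1872 0)) (.leaf (.up 1 21 4))) (.node (.leaf (.up 4 610 5)) (.leaf (.up 5 1374 4)))) (.node (.node (.leaf (.up 4 287 0)) (.leaf (.up 5 1573 1))) (.node (.leaf (.up 4 88 5)) (.leaf (.up 3 1892 4))))))) (.node (.node (.node (.node (.node (.leaf (.up 3 1968 4)) (.leaf (.up 3 410 5))) (.node (.leaf (.up 3 965 5)) (.leaf (.up 4 1964 0)))) (.node (.node (.leaf (.up 3 1678 3)) (.leaf (.up 2 928 5))) (.node (.leaf (.up 3 193 4)) (.leaf (.up 4 1388 1))))) (.node (.node (.node (.leaf (.up 1 93 1)) (.leaf (.up 3 232 3))) (.node (.leaf (.up 2 1089 4)) (.leaf (.up 4 133 2)))) (.node (.node (.leaf (.up 4 1512 3)) (.leaf (.up 3 1288 4))) (.node (.leaf (.up 3 1659 4)) (.leaf (.up 3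 67 4)))))) (.node (.node (.node (.node (.leaf (.up 2 1197 4)) (.leaf (.up 3 1113 3))) (.node (.leaf (.up 3 679 1)) (.leaf (.up 3 1379 0)))) (.node (.node (.leaf (.up 3 79 2)) (.leaf (.up 3 647 5))) (.node (.leaf (.up 2 988 4)) (.leaf (.up 3 982 1))))) (.node (.node (.node (.leaf (.up 3 535 4)) (.leaf (.up 4 1085 5))) (.node (.leaf (.up 3 1884 4)) (.leaf (.up 4 626 5)))) (.node (.node (.leaf (.up 3 535 5)) (.leaf (.up 3 666 2))) (.node (.leaf (.up 3 406 1)) (.leaf (.up 2 862 4)))))))) (.node (.node (.node (.node (.node (.node (.leaf (.up 4 1464 4)) (.leaf (.up 3 1378 1))) (.node (.leaf (.up 2 997 5)) (.leaf (.up 3 2037 5)))) (.node (.node (.leaf (.up 4 1922 4)) (.leaf (.up 3 41 1))) (.node (.leaf (.up 4 678 0)) (.leaf (.up 4 1265 4))))) (.node (.node (.node (.leaf (.up 3 1826 1)) (.leaf (.up 2 1338 4))) (.node (.leaf (.up 2 1893 5)) (.leaf (.up 4 113 4)))) (.node (.node (.leaf (.up 4 312 4)) (.leaf (.up 2 1363 3))) (.node (.leaf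 (.up 3 1139 4)) (.leaf (.up 1 24 3)))))) (.node (.node (.node (.node (.leaf (.up 3 1250 3)) (.leaf (.up 4 157 4))) (.node (.leaf (.up 4 706 5)) (.leaf (.up 3 1385 0)))) (.node (.node (.leaf (.up 4 1183 4)) (.leaf (.up 3 679 4))) (.node (.leaf (.up 2 915 3)) (.leaf (.up 3 1256 5))))) (.node (.node (.node (.leaf (.up 4 13 5)) (.leaf (.up 5 1053 5))) (.node (.leaf (.up 4 475 2)) (.leaf (.up 5 594 5)))) (.node (.node (.leaf (.up 4 549 4)) (.leaf (.up 5 1053 4))) (.node (.leaf (.up 4 1144 5)) (.leaf (.up 5 104 5))))))) (.node (.node (.node (.node (.node (.leaf (.up 3 1968 2)) (.leaf (.up 4 1468 3))) (.node (.leaf (.up 3 1997 3)) (.leaf (.up 2 1771 1)))) (.node (.node (.leaf (.up 3 952 4)) (.leaf (.up 3 666 0))) (.node (.leaf (.up 3 1098 2)) (.leaf (.up 2 928 1))))) (.node (.node (.node (.leaf (.up 2 1322 5)) (.leaf (.up 3 314 5))) (.node (.leaf (.up 2 627 4)) (.leaf (.up 3 913 3)))) (.node (.node (.leaf (.up 4 1808 5)) (.leaf (.up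 3 2016 1))) (.node (.leaf (.up 3 73 4)) (.leaf (.up 4 1695 2)))))) (.node (.node (.node (.node (.leaf (.up 3 141 5)) (.leaf (.up 2 619 1))) (.node (.leaf (.up 1 26 3)) (.leaf (.up 3 492 4)))) (.node (.node (.leaf (.up 3 695 5)) (.leaf (.up 5 1693 4))) (.node (.leaf (.up 2 1518 4)) (.leaf (.up 3 232 5))))) (.node (.node (.node (.leaf (.up 3 1591 3)) (.leaf (.up 3 29 5))) (.node (.leaf (.up 5 529 1)) (.leaf (.up 4 1618 5)))) (.node (.node (.leaf (.up 3 1591 5)) (.leaf (.up 4 551 5))) (.node (.leaf (.up 3 326 3)) (.leaf (.up 4 1128 5))))))))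

noncomputable def vt3_7_1111 : Tr VStep :=
  .node (.node (.node (.node (.node (.node (.node (.leaf (.up 2 813 3)) (.leaf (.up 2 1664 0))) (.node (.leaf (.up 2 1638 3)) (.leaf (.up 2 1749 5)))) (.node (.node (.leaf (.up 5 279 3)) (.leaf (.up 2 672 5))) (.node (.leaf (.up 4 255 5)) (.leaf (.up 4 497 0))))) (.node (.node (.node (.leaf (.up 1 10 5)) (.leaf (.up 3 1050 5))) (.node (.leaf (.up 2 369 1)) (.leaf (.up 2 597 5)))) (.node (.node (.leaf (.up 1 308 4)) (.leaf (.up 4 1355 3))) (.node (.leaf (.up 3 1151 4)) (.leaf (.up 1 0 1)))))) (.node (.node (.node (.node (.leaf (.up 2 907 1)) (.leaf (.up 3 445 5))) (.node (.leaf (.up 2 994 4)) (.leaf (.up 4 1498 4)))) (.node (.node (.leaf (.up 2 1943 5)) (.leaf (.up 3 903 5))) (.node (.leaf (.up 2 907 3)) (.leaf (.up 3 2016 4))))) (.node (.node (.node (.leaf (.up 3 1295 0)) (.leaf (.up 4 1341 5))) (.node (.leaf (.up 3 2017 2)) (.leaf (.up 4 1009 1)))) (.node (.node (.leaf (.up 3 186 1))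 (.leaf (.up 3 668 3))) (.node (.leaf (.up 3 640 1)) (.leaf (.up 4 328 5))))))) (.node (.node (.node (.node (.node (.leaf (.up 2 394 2)) (.leaf (.up 5 1444 3))) (.node (.leaf (.up 4 1221 4)) (.leaf (.up 5 725 5)))) (.node (.node (.leaf (.up 2 164 3)) (.leaf (.up 3 1696 5))) (.node (.leaf (.up 4 624 2)) (.leaf (.up 5 725 3))))) (.node (.node (.node (.leaf (.up 4 1844 4)) (.leaf (.up 1 26 5))) (.node (.leaf (.up 4 581 5)) (.leaf (.up 3 1272 1)))) (.node (.node (.leaf (.up 3 1584 5)) (.leaf (.up 2 822 4))) (.node (.leaf (.up 3 69 4)) (.leaf (.up 3 1135 5)))))) (.node (.node (.node (.node (.leaf (.up 2 1353 3)) (.leaf (.up 2 627 3))) (.node (.leaf (.up 1 2 1)) (.leaf (.up 3 1010 5)))) (.node (.node (.leaf (.up 3 169 4)) (.leaf (.up 3 1927 5))) (.node (.leaf (.up 2 1353 1)) (.leaf (.up 4 456 5))))) (.node (.node (.node (.leaf (.up 4 1339 2)) (.leaf (.up 5 317 5))) (.node (.leaf (.up 4 866 5)) (.leaf (.up 3 1906 5)))) (.node (.node (.leaf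 (.up 3 1555 4)) (.leaf (.up 3 775 5))) (.node (.leaf (.up 4 1729 2)) (.leaf (.up 5 320 2)))))))) (.node (.node (.node (.node (.node (.node (.leaf (.up 3 902 4)) (.leaf (.up 2 1223 0))) (.node (.leaf (.up 3 1378 2)) (.leaf (.up 4 739 2)))) (.node (.node (.leaf (.up 3 444 4)) (.leaf (.up 2 1664 5))) (.node (.leaf (.up 4 249 0)) (.leaf (.up 4 715 2))))) (.node (.node (.node (.leaf (.up 3 1066 5)) (.leaf (.up 3 445 1))) (.node (.leaf (.up 3 613 5)) (.leaf (.up 3 903 1)))) (.node (.node (.leaf (.up 4 1091 3)) (.leaf (.up 5 512 5))) (.node (.leaf (.up 1 30 2)) (.leaf (.up 4 1141 4)))))) (.node (.node (.node (.node (.leaf (.up 2 1877 2)) (.leaf (.up 3 1699 4))) (.node (.leaf (.up 2 1917 1)) (.leaf (.up 4 1000 4)))) (.node (.node (.leaf (.up 2 1917 2)) (.leaf (.up 4 1177 4))) (.node (.leaf (.up 2 1199 2)) (.leaf (.up 2 1548 1))))) (.node (.node (.node (.leaf (.up 3 1293 5)) (.leaf (.up 3 285 5))) (.node (.leaf (.up 3 834 5)) (.leaf (.up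 2 991 3)))) (.node (.node (.leaf (.up 3 1847 5)) (.leaf (.up 4 807 5))) (.node (.leaf (.up 1 57 0)) (.leaf (.up 4 1658 2))))))) (.node (.node (.node (.node (.node (.leaf (.up 2 1976 2)) (.leaf (.up 1 57 2))) (.node (.leaf (.up 2 116 1)) (.leaf (.up 5 1231 4)))) (.node (.node (.leaf (.up 4 1797 1)) (.leaf (.up 1 17 2))) (.node (.leaf (.up 2 205 4)) (.leaf (.up 3 507 0))))) (.node (.node (.node (.leaf (.up 1 42 5)) (.leaf (.up 5 1082 5))) (.node (.leaf (.up 3 1550 1)) (.leaf (.up 2 564 1)))) (.node (.node (.leaf (.up 4 383 1)) (.leaf (.up 3 1536 5))) (.node (.leaf (.up 4 1119 5)) (.leaf (.up 3 79 4)))))) (.node (.node (.node (.node (.leaf (.up 2 1268 1)) (.leaf (.up 2 1089 3))) (.node (.leaf (.up 3 1584 3)) (.leaf (.up 3 2002 4)))) (.node (.node (.leaf (.up 3 1653 2)) (.leaf (.up 2 522 0))) (.node (.leaf (.up 4 901 1)) (.leaf (.up 4 1512 4))))) (.node (.node (.node (.leaf (.up 3 777 2)) (.leaf (.up 3 1309 5))) (.node (.leaf (.up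 4 1858 5)) (.leaf (.up 3 850 5)))) (.node (.node (.leaf (.up 4 551 3)) (.leaf (.up 3 1561 4))) (.node (.leaf (.up 4 1400 5)) (.leaf (.up 3 1906 2))))))))

noncomputable def vt3_7_111 : Tr VStep := .node vt3_7_1110 vt3_7_1111

noncomputable def vt3_7_11 : Tr VStep := .node vt3_7_110 vt3_7_111

noncomputable def vt3_7_1 : Tr VStep := .node vt3_7_10 vt3_7_11

noncomputable def vt3_7_ : Tr VStep := .node vt3_7_0 vt3_7_1

noncomputable def vt3_8_0000 : Tr VStep :=
  .node (.node (.node (.node (.node (.node (.node (.leaf (.root 123)) (.leaf (.up 5 2042 5))) (.node (.leaf (.up 2 65 3)) (.leaf (.up 5 1287 1)))) (.node (.node (.leaf (.up 4 302 1)) (.leaf (.up 4 398 4))) (.node (.leaf (.up 4 579 3)) (.leaf (.up 3 137 2))))) (.node (.node (.node (.leaf (.up 3 1035 1)) (.leaf (.up 4 937 6))) (.node (.leaf (.up 4 1315 4)) (.leaf (.up 3 649 6)))) (.node (.node (.leaf (.up 4 1968 4)) (.leaf (.up 3 265 2))) (.node (.leaf (.up 3 279 5)) (.leaf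 (.up 3 1045 3)))))) (.node (.node (.node (.node (.leaf (.up 4 1993 0)) (.leaf (.up 4 1578 4))) (.node (.leaf (.up 4 1335 4)) (.leaf (.up 5 513 6)))) (.node (.node (.leaf (.up 4 1884 2)) (.leaf (.up 4 1210 3))) (.node (.leaf (.up 4 1120 4)) (.leaf (.up 4 604 2))))) (.node (.node (.node (.leaf (.up 2 20 4)) (.leaf (.up 3 1621 2))) (.node (.leaf (.up 3 976 4)) (.leaf (.up 4 1301 1)))) (.node (.node (.leaf (.up 2 316 1)) (.leaf (.up 3 925 3))) (.node (.leaf (.up 4 1893 3)) (.leaf (.up 3 1621 0))))))) (.node (.node (.node (.node (.node (.leaf (.up 3 498 3)) (.leaf (.up 4 933 6))) (.node (.leaf (.up 4 971 1)) (.leaf (.up 3 1393 1)))) (.node (.node (.leaf (.up 3 555 6)) (.leaf (.up 3 1183 6))) (.node (.leaf (.up 4 779 6)) (.leaf (.up 4 169 4))))) (.node (.node (.node (.leaf (.up 4 1722 2)) (.leaf (.up 4 685 6))) (.node (.leaf (.up 3 1337 6)) (.leaf (.up 4 1993 5)))) (.node (.node (.leaf (.up 4 205 5)) (.leaf (.up 5 1888 1))) (.node (.leaf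 (.up 4 713 5)) (.leaf (.up 3 1587 2)))))) (.node (.node (.node (.node (.leaf (.up 3 1135 1)) (.leaf (.up 3 549 6))) (.node (.leaf (.up 3 2004 4)) (.leaf (.up 3 888 5)))) (.node (.node (.leaf (.up 2 456 1)) (.leaf (.up 3 1311 6))) (.node (.leaf (.up 4 651 6)) (.leaf (.up 4 70 1))))) (.node (.node (.node (.leaf (.up 3 1135 2)) (.leaf (.up 3 558 4))) (.node (.leaf (.up 5 349 3)) (.leaf (.up 5 44 3)))) (.node (.node (.leaf (.up 5 1687 0)) (.leaf (.up 4 889 4))) (.node (.leaf (.up 3 100 4)) (.leaf (.up 3 558 3)))))))) (.node (.node (.node (.node (.node (.node (.leaf (.root 488)) (.leaf (.up 3 2030 5))) (.node (.leaf (.up 3 1383 4)) (.leaf (.up 3 206 6)))) (.node (.node (.leaf (.up 4 1266 1)) (.leaf (.up 3 1770 5))) (.node (.leaf (.up 3 1072 4)) (.leaf (.up 4 310 3))))) (.node (.node (.node (.leaf (.up 3 471 1)) (.leaf (.up 3 230 6))) (.node (.leaf (.up 2 662 2)) (.leaf (.up 4 454 6)))) (.node (.node (.leaf (.up 3 1136 1)) (.leaf (.up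 4 2012 6))) (.node (.leaf (.up 3 836 1)) (.leaf (.up 4 1541 0)))))) (.node (.node (.node (.node (.leaf (.up 4 451 2)) (.leaf (.up 2 1919 1))) (.node (.leaf (.up 4 1497 0)) (.leaf (.up 4 309 3)))) (.node (.node (.leaf (.up 5 1974 5)) (.leaf (.up 4 478 4))) (.node (.leaf (.up 3 192 6)) (.leaf (.up 5 1516 1))))) (.node (.node (.node (.leaf (.up 4 1719 4)) (.leaf (.up 3 2045 1))) (.node (.leaf (.up 3 1891 3)) (.leaf (.up 4 70 6)))) (.node (.node (.leaf (.up 4 232 3)) (.leaf (.up 2 202 2))) (.node (.leaf (.up 2 456 6)) (.leaf (.up 3 460 0))))))) (.node (.node (.node (.node (.node (.leaf (.up 4 52 5)) (.leaf (.up 2 1945 1))) (.node (.leaf (.up 4 1924 4)) (.leaf (.up 4 1885 4)))) (.node (.node (.leaf (.up 5 1156 1)) (.leaf (.up 4 2000 6))) (.node (.leaf (.up 4 1149 3)) (.leaf (.up 4 1290 1))))) (.node (.node (.node (.leaf (.up 4 1452 2)) (.leaf (.up 4 1497 5))) (.node (.leaf (.up 4 355 4)) (.leaf (.up 1 41 3)))) (.node (.node (.leaf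 (.up 5 1030 1)) (.leaf (.up 4 700 1))) (.node (.leaf (.up 3 1708 2)) (.leaf (.up 3 555 3)))))) (.node (.node (.node (.node (.leaf (.up 3 2014 6)) (.leaf (.up 2 362 6))) (.node (.leaf (.up 3 375 4)) (.leaf (.up 4 74 6)))) (.node (.node (.leaf (.up 2 1128 5)) (.leaf (.up 3 829 4))) (.node (.leaf (.up 3 452 6)) (.leaf (.up 2 1434 1))))) (.node (.node (.node (.leaf (.up 4 1108 4)) (.leaf (.up 5 1953 3))) (.node (.leaf (.up 3 496 2)) (.leaf (.up 3 322 6)))) (.node (.node (.leaf (.up 2 492 6)) (.leaf (.up 3 1880 6))) (.node (.leaf (.up 5 930 1)) (.leaf (.up 4 1304 1))))))))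

noncomputable def vt3_8_0001 : Tr VStep :=
  .node (.node (.node (.node (.node (.node (.node (.leaf (.root 1200)) (.leaf (.up 4 1615 3))) (.node (.leaf (.up 4 1896 4)) (.leaf (.up 3 641 2)))) (.node (.node (.leaf (.up 4 993 1)) (.leaf (.up 3 1314 4))) (.node (.leaf (.up 4 242 5)) (.leaf (.up 3 1766 4))))) (.node (.node (.node (.leaf (.up 4 1117 6)) (.leaf (.up 2 126 1))) (.node (.leaf (.up 3 496 1)) (.leaf (.up 3 342 4)))) (.node (.node (.leaf (.up 4 867 1)) (.leaf (.up 4 1672 2))) (.node (.leaf (.up 4 1938 3)) (.leaf (.up 1 1 2)))))) (.node (.node (.node (.node (.leaf (.up 4 182 0)) (.leaf (.up 5 108 1))) (.node (.leaf (.up 4 1198 5)) (.leaf (.up 3 322 4)))) (.node (.node (.leaf (.up 5 776 4)) (.leaf (.up 3 977 4))) (.node (.leaf (.up 3 1620 2)) (.leaf (.up 4 1147 6))))) (.node (.node (.node (.leaf (.up 3 1620 1)) (.leaf (.up 4 1121 4))) (.node (.leaf (.up 3 352 1)) (.leaf (.up 4 1885 2)))) (.node (.node (.leaf (.up 1 26 3))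 (.leaf (.up 2 1187 0))) (.node (.leaf (.up 4 1223 1)) (.leaf (.up 3 298 0))))))) (.node (.node (.node (.node (.node (.leaf (.up 4 772 3)) (.leaf (.up 5 629 3))) (.node (.leaf (.up 3 1393 6)) (.leaf (.up 5 1362 4)))) (.node (.node (.leaf (.up 4 875 6)) (.leaf (.up 4 1985 4))) (.node (.leaf (.up 2 1187 1)) (.leaf (.up 4 1029 4))))) (.node (.node (.node (.leaf (.up 4 1369 6)) (.leaf (.up 1 8 1))) (.node (.leaf (.up 5 1145 6)) (.leaf (.up 5 949 4)))) (.node (.node (.leaf (.up 5 1569 0)) (.leaf (.up 4 1455 1))) (.node (.leaf (.up 3 709 5)) (.leaf (.up 5 667 1)))))) (.node (.node (.node (.node (.leaf (.up 5 1696 1)) (.leaf (.up 1 26 1))) (.node (.leaf (.up 2 1265 6)) (.leaf (.up 3 1533 3)))) (.node (.node (.leaf (.up 3 1136 5)) (.leaf (.up 2 630 3))) (.node (.leaf (.up 4 971 6)) (.leaf (.up 3 1134 2))))) (.node (.node (.node (.leaf (.up 3 1181 5)) (.leaf (.up 3 152 1))) (.node (.leaf (.up 3 1383 2)) (.leaf (.up 4 1552 0)))) (.node (.node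 (.leaf (.up 3 901 1)) (.leaf (.up 4 413 5))) (.node (.leaf (.up 2 1201 1)) (.leaf (.up 4 921 5)))))))) (.node (.node (.node (.node (.node (.node (.leaf (.up 3 998 5)) (.leaf (.up 3 2018 5))) (.node (.leaf (.up 4 179 3)) (.leaf (.up 4 274 4)))) (.node (.node (.leaf (.up 4 288 6)) (.leaf (.up 3 1766 5))) (.node (.leaf (.up 1 0 6)) (.leaf (.up 4 69 4))))) (.node (.node (.node (.leaf (.up 2 792 1)) (.leaf (.up 2 1442 1))) (.node (.leaf (.up 3 11 5)) (.leaf (.up 2 662 1)))) (.node (.node (.leaf (.up 3 11 0)) (.leaf (.up 3 1438 2))) (.node (.leaf (.up 4 395 1)) (.leaf (.up 3 1291 5)))))) (.node (.node (.node (.node (.leaf (.up 3 778 1)) (.leaf (.up 4 302 6))) (.node (.leaf (.up 3 690 3)) (.leaf (.up 4 190 5)))) (.node (.node (.leaf (.up 3 1337 3)) (.leaf (.up 4 66 2))) (.node (.leaf (.up 5 176 3)) (.leaf (.up 2 442 5))))) (.node (.node (.node (.leaf (.up 4 1682 6)) (.leaf (.up 4 706 2))) (.node (.leaf (.up 4 1212 1)) (.leaf (.up 3 1099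 2)))) (.node (.node (.leaf (.up 4 1583 1)) (.leaf (.up 2 1867 2))) (.node (.leaf (.up 3 1943 3)) (.leaf (.up 3 1715 0))))))) (.node (.node (.node (.node (.node (.leaf (.up 3 1004 1)) (.leaf (.up 3 53 4))) (.node (.leaf (.up 3 1161 3)) (.leaf (.up 3 1528 3)))) (.node (.node (.leaf (.up 2 316 5)) (.leaf (.up 4 804 0))) (.node (.leaf (.up 3 260 6)) (.leaf (.up 4 678 4))))) (.node (.node (.node (.leaf (.up 4 465 5)) (.leaf (.up 4 1492 1))) (.node (.leaf (.up 3 1114 1)) (.leaf (.up 5 1302 4)))) (.node (.node (.leaf (.up 3 300 6)) (.leaf (.up 4 1944 6))) (.node (.leaf (.up 3 1176 4)) (.leaf (.up 4 676 2)))))) (.node (.node (.node (.node (.leaf (.up 4 769 3)) (.leaf (.up 4 624 3))) (.node (.leaf (.up 4 1672 3)) (.leaf (.up 5 754 1)))) (.node (.node (.leaf (.up 4 259 3)) (.leaf (.up 2 497 2))) (.node (.leaf (.up 2 1265 2)) (.leaf (.up 4 1531 3))))) (.node (.node (.node (.leaf (.up 2 1022 1)) (.leaf (.up 4 141 5))) (.node (.leaf (.up 3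 1393 0)) (.leaf (.up 1 2 6)))) (.node (.node (.leaf (.up 3 172 6)) (.leaf (.up 2 1784 2))) (.node (.leaf (.up 4 941 3)) (.leaf (.up 3 690 4))))))))

noncomputable def vt3_8_000 : Tr VStep := .node vt3_8_0000 vt3_8_0001

noncomputable def vt3_8_0010 : Tr VStep :=
  .node (.node (.node (.node (.node (.node (.node (.leaf (.up 5 1032 1)) (.leaf (.up 3 690 1))) (.node (.leaf (.up 3 1589 6)) (.leaf (.up 4 1786 0)))) (.node (.node (.leaf (.up 2 766 5)) (.leaf (.up 4 1786 5))) (.node (.leaf (.up 3 1437 4)) (.leaf (.up 5 1979 6))))) (.node (.node (.node (.leaf (.up 1 130 2)) (.leaf (.up 4 169 6))) (.node (.leaf (.up 4 23 5)) (.leaf (.up 3 393 6)))) (.node (.node (.leaf (.up 3 1291 2)) (.leaf (.up 3 1943 1))) (.node (.leaf (.up 4 898 2)) (.leaf (.up 3 1715 6)))))) (.node (.node (.node (.node (.leaf (.up 3 1176 1)) (.leaf (.up 4 678 5))) (.node (.leaf (.up 4 1973 6)) (.leaf (.up 5 1302 1)))) (.node (.node (.leaf (.up 2 1958 5)) (.leaf (.up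 5 930 5))) (.node (.leaf (.up 2 1442 5)) (.leaf (.up 4 1495 2))))) (.node (.node (.node (.leaf (.up 2 1867 5)) (.leaf (.up 4 672 1))) (.node (.leaf (.up 3 1725 6)) (.leaf (.up 3 9 6)))) (.node (.node (.leaf (.up 2 492 3)) (.leaf (.up 4 1555 6))) (.node (.leaf (.up 3 391 6)) (.leaf (.up 4 478 0))))))) (.node (.node (.node (.node (.node (.leaf (.up 4 1553 6)) (.leaf (.up 4 165 6))) (.node (.leaf (.up 4 1841 6)) (.leaf (.up 4 1776 4)))) (.node (.node (.leaf (.up 4 1210 4)) (.leaf (.up 3 1891 1))) (.node (.leaf (.up 3 11 6)) (.leaf (.up 3 87 1))))) (.node (.node (.node (.leaf (.up 3 778 4)) (.leaf (.up 2 429 6))) (.node (.leaf (.up 3 206 4)) (.leaf (.up 4 141 6)))) (.node (.node (.leaf (.up 5 605 4)) (.leaf (.up 4 1229 5))) (.node (.leaf (.up 4 606 3)) (.leaf (.up 3 1975 6)))))) (.node (.node (.node (.node (.leaf (.up 2 497 0)) (.leaf (.up 4 596 1))) (.node (.leaf (.up 4 1713 6)) (.leaf (.up 3 1035 3)))) (.node (.node (.leaf (.up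 4 171 6)) (.leaf (.up 2 124 5))) (.node (.leaf (.up 4 1661 1)) (.leaf (.up 4 199 1))))) (.node (.node (.node (.leaf (.up 3 1132 1)) (.leaf (.up 4 1312 4))) (.node (.leaf (.up 5 605 3)) (.leaf (.up 4 661 5)))) (.node (.node (.leaf (.up 4 1198 4)) (.leaf (.up 3 1191 3))) (.node (.leaf (.up 3 1791 1)) (.leaf (.up 4 302 3)))))))) (.node (.node (.node (.node (.node (.node (.leaf (.up 1 18 0)) (.leaf (.up 3 2026 5))) (.node (.leaf (.up 4 617 4)) (.leaf (.up 4 52 3)))) (.node (.node (.leaf (.up 2 1139 1)) (.leaf (.up 4 713 1))) (.node (.leaf (.up 3 830 4)) (.leaf (.up 3 1533 1))))) (.node (.node (.node (.leaf (.up 3 342 1)) (.leaf (.up 3 998 6))) (.node (.leaf (.up 3 1138 6)) (.leaf (.up 4 1031 5)))) (.node (.node (.leaf (.up 2 489 3)) (.leaf (.up 3 152 3))) (.node (.leaf (.up 4 148 2)) (.leaf (.up 4 1283 5)))))) (.node (.node (.node (.node (.leaf (.up 3 324 1)) (.leaf (.up 3 690 5))) (.node (.leaf (.up 3 836 3)) (.leaf (.up 2 202 1))))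 (.node (.node (.leaf (.up 4 1251 1)) (.leaf (.up 4 1108 6))) (.node (.leaf (.up 4 326 3)) (.leaf (.up 5 1389 1))))) (.node (.node (.node (.leaf (.up 4 454 1)) (.leaf (.up 3 155 3))) (.node (.leaf (.up 4 1371 5)) (.leaf (.up 3 351 5)))) (.node (.node (.leaf (.up 3 1000 3)) (.leaf (.up 3 731 1))) (.node (.leaf (.up 4 712 6)) (.leaf (.up 2 456 2))))))) (.node (.node (.node (.node (.node (.leaf (.up 3 246 3)) (.leaf (.up 2 1002 6))) (.node (.leaf (.up 4 1407 3)) (.leaf (.up 5 44 1)))) (.node (.node (.leaf (.up 4 1029 1)) (.leaf (.up 3 976 0))) (.node (.leaf (.up 3 836 6)) (.leaf (.up 3 1419 1))))) (.node (.node (.node (.leaf (.up 4 288 1)) (.leaf (.up 3 829 0))) (.node (.leaf (.up 4 600 3)) (.leaf (.up 4 1831 2)))) (.node (.node (.leaf (.up 5 876 6)) (.leaf (.up 3 1496 6))) (.node (.leaf (.up 5 295 2)) (.leaf (.up 5 1272 6)))))) (.node (.node (.node (.node (.leaf (.up 3 1384 5)) (.leaf (.up 2 1928 1))) (.node (.leaf (.up 4 1542 1))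 (.leaf (.up 5 872 5)))) (.node (.node (.leaf (.up 3 1132 5)) (.leaf (.up 4 1075 4))) (.node (.leaf (.up 3 1384 0)) (.leaf (.up 3 1136 6))))) (.node (.node (.node (.leaf (.up 3 1488 3)) (.leaf (.up 4 899 4))) (.node (.leaf (.up 4 1668 1)) (.leaf (.up 2 62 1)))) (.node (.node (.leaf (.up 5 525 4)) (.leaf (.up 3 1699 3))) (.node (.leaf (.up 2 1921 5)) (.leaf (.up 3 1400 6))))))))

noncomputable def vt3_8_0011 : Tr VStep :=
  .node (.node (.node (.node (.node (.node (.node (.leaf (.up 3 1621 6)) (.leaf (.up 3 125 1))) (.node (.leaf (.up 3 1909 6)) (.leaf (.up 3 449 6)))) (.node (.node (.leaf (.up 3 1596 3)) (.leaf (.up 3 1782 5))) (.node (.leaf (.up 3 246 5)) (.leaf (.up 3 1787 6))))) (.node (.node (.node (.leaf (.up 4 1885 6)) (.leaf (.up 2 489 6))) (.node (.leaf (.up 3 394 2)) (.leaf (.up 4 515 2)))) (.node (.node (.leaf (.up 3 1042 4)) (.leaf (.up 4 259 2))) (.node (.leaf (.up 4 287 5)) (.leaf (.up 3 1507 3)))))) (.node (.node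 (.node (.node (.leaf (.up 4 1361 4)) (.leaf (.up 3 342 2))) (.node (.leaf (.up 4 950 3)) (.leaf (.up 2 65 6)))) (.node (.node (.leaf (.up 5 1030 4)) (.leaf (.up 3 1627 6))) (.node (.leaf (.up 5 479 2)) (.leaf (.up 5 1915 6))))) (.node (.node (.node (.leaf (.up 4 345 0)) (.leaf (.up 2 1441 0))) (.node (.leaf (.up 3 2045 6)) (.leaf (.up 4 171 4)))) (.node (.node (.leaf (.up 2 794 3)) (.leaf (.up 3 982 2))) (.node (.leaf (.up 4 199 6)) (.leaf (.up 3 1697 0))))))) (.node (.node (.node (.node (.node (.leaf (.up 4 1713 1)) (.leaf (.up 3 373 3))) (.node (.leaf (.up 3 645 4)) (.leaf (.up 4 1276 3)))) (.node (.node (.leaf (.up 2 790 1)) (.leaf (.up 4 1452 1))) (.node (.leaf (.up 3 1935 3)) (.leaf (.up 4 779 4))))) (.node (.node (.node (.leaf (.up 2 1958 4)) (.leaf (.up 2 1919 4))) (.node (.leaf (.up 4 1913 6)) (.leaf (.up 2 987 3)))) (.node (.node (.leaf (.up 4 355 6)) (.leaf (.up 3 1104 3))) (.node (.leaf (.up 4 705 5)) (.leaf (.up 5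 1516 4)))))) (.node (.node (.node (.node (.leaf (.up 4 1745 6)) (.leaf (.up 2 1899 4))) (.node (.leaf (.up 3 277 1)) (.leaf (.up 4 880 5)))) (.node (.node (.leaf (.up 3 1140 5)) (.leaf (.up 3 1596 4))) (.node (.leaf (.up 4 203 6)) (.leaf (.up 3 1528 4))))) (.node (.node (.node (.leaf (.up 3 1699 1)) (.leaf (.up 3 1042 0))) (.node (.leaf (.up 4 171 3)) (.leaf (.up 5 584 4)))) (.node (.node (.leaf (.up 1 2 4)) (.leaf (.up 4 1617 3))) (.node (.leaf (.up 2 1945 5)) (.leaf (.up 3 1911 6)))))))) (.node (.node (.node (.node (.node (.node (.leaf (.up 4 1306 6)) (.leaf (.up 2 1441 1))) (.node (.leaf (.up 5 947 3)) (.leaf (.up 4 706 3)))) (.node (.node (.leaf (.up 4 1080 3)) (.leaf (.up 4 1172 6))) (.node (.leaf (.up 4 1938 4)) (.leaf (.up 2 1867 4))))) (.node (.node (.node (.leaf (.up 3 1042 6)) (.leaf (.up 4 1315 1))) (.node (.leaf (.up 4 1330 6)) (.leaf (.up 3 277 2)))) (.node (.node (.leaf (.up 3 808 6)) (.leaf (.up 2 132 1))) (.node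 (.leaf (.up 3 373 4)) (.leaf (.up 4 1212 6)))))) (.node (.node (.node (.node (.leaf (.up 2 1010 4)) (.leaf (.up 3 558 6))) (.node (.leaf (.up 3 1215 1)) (.leaf (.up 4 782 6)))) (.node (.node (.leaf (.up 4 677 4)) (.leaf (.up 4 1993 2))) (.node (.leaf (.up 4 713 2)) (.leaf (.up 3 1076 6))))) (.node (.node (.node (.leaf (.up 4 1301 4)) (.leaf (.up 4 1459 1))) (.node (.leaf (.up 4 1745 4)) (.leaf (.up 3 339 5)))) (.node (.node (.leaf (.up 3 1090 4)) (.leaf (.up 2 20 1))) (.node (.leaf (.up 3 1107 5)) (.leaf (.up 3 87 5))))))) (.node (.node (.node (.node (.node (.leaf (.up 3 1758 0)) (.leaf (.up 4 1080 5))) (.node (.leaf (.up 3 1113 1)) (.leaf (.up 2 1784 3)))) (.node (.node (.leaf (.up 1 2 3)) (.leaf (.up 4 112 1))) (.node (.leaf (.up 3 1393 4)) (.leaf (.up 5 1274 3))))) (.node (.node (.node (.leaf (.up 5 1302 6)) (.leaf (.up 3 1090 0))) (.node (.leaf (.up 3 977 5)) (.leaf (.up 5 536 4)))) (.node (.node (.leaf (.up 3 82 4)) (.leaf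 (.up 3 1620 3))) (.node (.leaf (.up 4 780 6)) (.leaf (.up 4 1745 5)))))) (.node (.node (.node (.node (.leaf (.up 1 1 3)) (.leaf (.up 2 456 4))) (.node (.leaf (.up 4 725 4)) (.leaf (.up 4 524 4)))) (.node (.node (.leaf (.up 4 70 4)) (.leaf (.up 3 100 5))) (.node (.leaf (.up 4 898 4)) (.leaf (.up 3 1787 3))))) (.node (.node (.node (.leaf (.up 3 1830 3)) (.leaf (.up 3 137 5))) (.node (.leaf (.up 3 1099 1)) (.leaf (.up 4 1259 4)))) (.node (.node (.leaf (.up 3 1697 4)) (.leaf (.up 4 1304 6))) (.node (.leaf (.up 2 1933 5)) (.leaf (.up 4 476 3))))))))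

noncomputable def vt3_8_001 : Tr VStep := .node vt3_8_0010 vt3_8_0011

noncomputable def vt3_8_00 : Tr VStep := .node vt3_8_000 vt3_8_001

noncomputable def vt3_8_0100 : Tr VStep :=
  .node (.node (.node (.node (.node (.node (.node (.leaf (.root 1024)) (.leaf (.up 3 1104 1))) (.node (.leaf (.up 3 1655 5)) (.leaf (.up 5 868 1)))) (.node (.node (.leaf (.up 2 1712 6)) (.leaf (.up 5 1195 3))) (.node (.leaf (.up 5 83 3)) (.leaf (.up 5 290 3))))) (.node (.node (.node (.leaf (.root 514)) (.leaf (.up 4 398 3))) (.node (.leaf (.up 4 1120 0)) (.leaf (.up 3 998 1)))) (.node (.node (.leaf (.up 5 1999 1)) (.leaf (.up 3 373 1))) (.node (.leaf (.up 3 1688 6)) (.leaf (.up 4 1541 3)))))) (.node (.node (.node (.node (.leaf (.up 3 10 6)) (.leaf (.up 2 1192 3))) (.node (.leaf (.up 3 298 6)) (.leaf (.up 3 1012 1)))) (.node (.node (.leaf (.up 2 2013 1)) (.leaf (.up 4 1706 3))) (.node (.leaf (.up 3 555 5)) (.leaf (.up 4 1583 5))))) (.node (.node (.node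 (.leaf (.up 2 766 3)) (.leaf (.up 3 1090 1))) (.node (.leaf (.up 3 1911 3)) (.leaf (.up 4 1542 3)))) (.node (.node (.leaf (.up 4 2008 2)) (.leaf (.up 5 140 6))) (.node (.leaf (.up 4 1397 3)) (.leaf (.up 4 1028 3))))))) (.node (.node (.node (.node (.node (.leaf (.up 4 142 6)) (.leaf (.up 3 1113 4))) (.node (.leaf (.up 5 183 2)) (.leaf (.up 2 429 5)))) (.node (.node (.leaf (.up 4 1705 5)) (.leaf (.up 2 62 2))) (.node (.leaf (.up 4 1555 4)) (.leaf (.up 4 169 5))))) (.node (.node (.node (.leaf (.up 5 1221 3)) (.leaf (.up 3 1842 6))) (.node (.leaf (.up 5 1322 1)) (.leaf (.up 4 68 5)))) (.node (.node (.leaf (.up 5 1214 2)) (.leaf (.up 1 8 6))) (.node (.leaf (.up 4 846 3)) (.leaf (.up 4 1591 1)))))) (.node (.node (.node (.node (.leaf (.up 4 524 1)) (.leaf (.up 5 682 4))) (.node (.leaf (.up 5 1130 3)) (.leaf (.up 3 1690 6)))) (.node (.node (.leaf (.up 4 993 3)) (.leaf (.up 3 1021 4))) (.node (.leaf (.up 3 501 5)) (.leaf (.up 5 416 6)))))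 (.node (.node (.node (.leaf (.up 4 1732 3)) (.leaf (.up 3 1076 1))) (.node (.leaf (.up 5 1466 1)) (.leaf (.up 4 572 3)))) (.node (.node (.leaf (.up 4 282 0)) (.leaf (.up 4 1306 4))) (.node (.leaf (.up 4 29 1)) (.leaf (.up 2 62 3)))))))) (.node (.node (.node (.node (.node (.node (.leaf (.root 181)) (.leaf (.up 2 1137 6))) (.node (.leaf (.up 1 2 1)) (.leaf (.up 4 1361 6)))) (.node (.node (.leaf (.up 3 2014 3)) (.leaf (.up 4 1711 3))) (.node (.leaf (.up 3 1895 5)) (.leaf (.up 3 1042 2))))) (.node (.node (.node (.leaf (.up 4 1575 4)) (.leaf (.up 3 394 5))) (.node (.leaf (.up 3 1507 4)) (.leaf (.up 3 1113 6)))) (.node (.node (.leaf (.up 3 1162 5)) (.leaf (.up 4 579 6))) (.node (.leaf (.up 4 1495 6)) (.leaf (.up 3 925 1)))))) (.node (.node (.node (.node (.leaf (.up 2 1958 1)) (.leaf (.up 3 1770 4))) (.node (.leaf (.up 4 199 2)) (.leaf (.up 3 1708 0)))) (.node (.node (.leaf (.up 4 1151 6)) (.leaf (.up 4 1452 0))) (.node (.leaf (.up 4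 86 3)) (.leaf (.up 5 295 3))))) (.node (.node (.node (.leaf (.up 4 250 3)) (.leaf (.up 4 395 3))) (.node (.leaf (.up 1 16 1)) (.leaf (.up 4 1026 3)))) (.node (.node (.leaf (.up 3 1399 6)) (.leaf (.up 4 1494 5))) (.node (.leaf (.up 3 982 5)) (.leaf (.up 5 739 6))))))) (.node (.node (.node (.node (.node (.leaf (.up 5 547 4)) (.leaf (.up 3 1697 2))) (.node (.leaf (.up 3 1135 3)) (.leaf (.up 3 318 4)))) (.node (.node (.leaf (.up 3 1725 5)) (.leaf (.up 3 982 0))) (.node (.leaf (.up 4 1499 6)) (.leaf (.up 2 1441 2))))) (.node (.node (.node (.leaf (.up 4 713 6)) (.leaf (.up 4 1149 6))) (.node (.leaf (.up 2 1192 2)) (.leaf (.up 3 1373 6)))) (.node (.node (.leaf (.up 4 613 1)) (.leaf (.up 4 848 5))) (.node (.leaf (.up 4 1361 1)) (.leaf (.up 5 1003 1)))))) (.node (.node (.node (.node (.leaf (.up 3 2045 2)) (.leaf (.up 2 362 1))) (.node (.leaf (.up 3 229 5)) (.leaf (.up 4 1249 5)))) (.node (.node (.leaf (.up 4 631 1)) (.leaf (.up 4 148 3)))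 (.node (.leaf (.up 3 1132 3)) (.leaf (.up 3 1690 4))))) (.node (.node (.node (.leaf (.up 3 10 0)) (.leaf (.up 3 1533 6))) (.node (.leaf (.up 4 1661 2)) (.leaf (.up 3 298 4)))) (.node (.node (.leaf (.up 2 1139 6)) (.leaf (.up 3 1780 2))) (.node (.leaf (.up 1 8 5)) (.leaf (.up 3 125 2))))))))

noncomputable def vt3_8_0101 : Tr VStep :=
  .node (.node (.node (.node (.node (.node (.node (.leaf (.up 2 202 6)) (.leaf (.up 3 901 2))) (.node (.leaf (.up 5 267 4)) (.leaf (.up 4 1886 6)))) (.node (.node (.leaf (.up 4 1410 1)) (.leaf (.up 3 324 6))) (.node (.leaf (.up 2 1919 5)) (.leaf (.up 3 100 6))))) (.node (.node (.node (.leaf (.up 5 450 6)) (.leaf (.up 2 1265 4))) (.node (.leaf (.up 4 2028 4)) (.leaf (.up 4 297 1)))) (.node (.node (.leaf (.up 2 1784 6)) (.leaf (.up 5 150 5))) (.node (.leaf (.up 4 2008 6)) (.leaf (.up 4 364 6)))))) (.node (.node (.node (.node (.leaf (.up 3 1839 3)) (.leaf (.up 4 1315 5))) (.node (.leaf (.up 2 1921 1))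 (.leaf (.up 3 1758 6)))) (.node (.node (.leaf (.up 5 1298 1)) (.leaf (.up 3 196 6))) (.node (.leaf (.up 4 1711 4)) (.leaf (.up 5 1180 1))))) (.node (.node (.node (.leaf (.up 1 8 3)) (.leaf (.up 3 1782 6))) (.node (.leaf (.up 4 1409 3)) (.leaf (.up 4 454 4)))) (.node (.node (.leaf (.up 5 1424 1)) (.leaf (.up 3 460 6))) (.node (.leaf (.up 4 974 5)) (.leaf (.up 4 236 6))))))) (.node (.node (.node (.node (.node (.leaf (.up 3 276 3)) (.leaf (.up 4 101 3))) (.node (.leaf (.up 3 1181 3)) (.leaf (.up 3 1215 2)))) (.node (.node (.leaf (.up 2 790 3)) (.leaf (.up 4 846 1))) (.node (.leaf (.up 3 2004 6)) (.leaf (.up 3 1721 0))))) (.node (.node (.node (.leaf (.up 2 1739 4)) (.leaf (.up 5 1858 3))) (.node (.leaf (.up 4 1100 5)) (.leaf (.up 3 351 1)))) (.node (.node (.leaf (.up 5 831 2)) (.leaf (.up 4 182 2))) (.node (.leaf (.up 4 440 3)) (.leaf (.up 5 1272 1)))))) (.node (.node (.node (.node (.leaf (.up 4 1759 4)) (.leaf (.up 4 1786 6))) (.node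 (.leaf (.up 3 2039 1)) (.leaf (.up 4 2010 6)))) (.node (.node (.leaf (.up 1 1 0)) (.leaf (.up 3 448 6))) (.node (.leaf (.up 3 1620 6)) (.leaf (.up 3 1533 5))))) (.node (.node (.node (.leaf (.up 2 65 1)) (.leaf (.up 3 2026 2))) (.node (.leaf (.up 3 1020 4)) (.leaf (.up 2 202 3)))) (.node (.node (.leaf (.up 5 1510 1)) (.leaf (.up 4 200 6))) (.node (.leaf (.up 1 16 5)) (.leaf (.up 2 1128 1)))))))) (.node (.node (.node (.node (.node (.node (.leaf (.root 182)) (.leaf (.up 3 111 5))) (.node (.leaf (.up 4 677 6)) (.leaf (.up 4 978 3)))) (.node (.node (.leaf (.up 3 1215 6)) (.leaf (.up 3 363 5))) (.node (.leaf (.up 1 26 2)) (.leaf (.up 3 879 5))))) (.node (.node (.node (.leaf (.up 4 1410 5)) (.leaf (.up 4 1081 6))) (.node (.leaf (.up 4 941 6)) (.leaf (.up 2 1305 6)))) (.node (.node (.leaf (.up 4 1158 5)) (.leaf (.up 1 130 5))) (.node (.leaf (.up 4 1175 6)) (.leaf (.up 5 547 6)))))) (.node (.node (.node (.node (.leaf (.up 5 517 6)) (.leaf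 (.up 2 1201 6))) (.node (.leaf (.up 5 805 6)) (.leaf (.up 5 1843 5)))) (.node (.node (.leaf (.up 3 206 1)) (.leaf (.up 4 1075 5))) (.node (.leaf (.up 4 12 4)) (.leaf (.up 2 683 6))))) (.node (.node (.node (.leaf (.up 4 524 3)) (.leaf (.up 4 1246 5))) (.node (.leaf (.up 5 1980 4)) (.leaf (.up 3 1177 6)))) (.node (.node (.leaf (.up 4 1327 4)) (.leaf (.up 3 1782 1))) (.node (.leaf (.up 5 1303 6)) (.leaf (.up 3 318 0))))))) (.node (.node (.node (.node (.node (.leaf (.up 3 641 6)) (.leaf (.up 4 821 1))) (.node (.leaf (.up 4 1689 3)) (.leaf (.up 4 1301 6)))) (.node (.node (.leaf (.up 4 1713 5)) (.leaf (.up 4 99 3))) (.node (.leaf (.up 2 1179 3)) (.leaf (.up 4 288 0))))) (.node (.node (.node (.leaf (.up 5 1628 5)) (.leaf (.up 3 1341 6))) (.node (.leaf (.up 4 569 1)) (.leaf (.up 3 885 4)))) (.node (.node (.leaf (.up 1 41 2)) (.leaf (.up 4 1552 1))) (.node (.leaf (.up 5 956 0)) (.leaf (.up 4 344 5)))))) (.node (.node (.node (.node (.leaf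 (.up 2 124 2)) (.leaf (.up 4 165 4))) (.node (.leaf (.up 3 555 1)) (.leaf (.up 4 1261 5)))) (.node (.node (.leaf (.up 4 1001 5)) (.leaf (.up 3 498 4))) (.node (.leaf (.up 3 1690 3)) (.leaf (.up 4 245 2))))) (.node (.node (.node (.leaf (.up 3 1437 1)) (.leaf (.up 4 1792 5))) (.node (.leaf (.up 3 959 3)) (.leaf (.up 3 1437 6)))) (.node (.node (.leaf (.up 3 512 5)) (.leaf (.up 3 373 2))) (.node (.leaf (.up 5 445 3)) (.leaf (.up 4 141 0))))))))

noncomputable def vt3_8_010 : Tr VStep := .node vt3_8_0100 vt3_8_0101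

noncomputable def vt3_8_0110 : Tr VStep :=
  .node (.node (.node (.node (.node (.node (.node (.leaf (.up 4 619 1)) (.leaf (.up 4 1086 6))) (.node (.leaf (.up 3 1651 5)) (.leaf (.up 3 375 0)))) (.node (.node (.leaf (.up 4 1996 1)) (.leaf (.up 3 375 5))) (.node (.leaf (.up 2 1022 4)) (.leaf (.up 4 883 5))))) (.node (.node (.node (.leaf (.up 3 1438 5)) (.leaf (.up 3 1334 6))) (.node (.leaf (.up 5 1654 3)) (.leaf (.up 4 1175 4)))) (.node (.node (.leaf (.up 5 1870 1)) (.leaf (.up 4 524 6))) (.node (.leaf (.up 2 1305 4)) (.leaf (.up 4 812 6)))))) (.node (.node (.node (.node (.leaf (.up 3 778 6)) (.leaf (.up 4 346 2))) (.node (.leaf (.up 3 1114 2)) (.leaf (.up 3 885 1)))) (.node (.node (.leaf (.up 3 1072 6)) (.leaf (.up 4 1552 4))) (.node (.leaf (.up 4 1296 6)) (.leaf (.up 4 1492 4))))) (.node (.node (.node (.leaf (.up 4 377 4)) (.leaf (.up 4 143 3))) (.node (.leaf (.up 4 706 5)) (.leaf (.up 4 1286 3)))) (.node (.node (.leaf (.up 3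 1020 3)) (.leaf (.up 5 356 1))) (.node (.leaf (.up 2 1002 4)) (.leaf (.up 4 1363 2))))))) (.node (.node (.node (.node (.node (.leaf (.up 5 541 1)) (.leaf (.up 3 1191 1))) (.node (.leaf (.up 4 74 4)) (.leaf (.up 3 425 5)))) (.node (.node (.leaf (.up 4 1204 6)) (.leaf (.up 3 512 4))) (.node (.leaf (.up 4 285 4)) (.leaf (.up 2 316 2))))) (.node (.node (.node (.leaf (.up 6 646 6)) (.leaf (.up 4 1074 6))) (.node (.leaf (.up 3 53 2)) (.leaf (.up 3 829 3)))) (.node (.node (.leaf (.up 4 1086 4)) (.leaf (.up 5 832 5))) (.node (.leaf (.up 4 78 3)) (.leaf (.up 1 41 0)))))) (.node (.node (.node (.node (.leaf (.up 4 1405 4)) (.leaf (.up 4 1210 6))) (.node (.leaf (.up 3 1721 4)) (.leaf (.up 2 1265 5)))) (.node (.node (.leaf (.up 3 225 3)) (.leaf (.up 4 896 6))) (.node (.leaf (.up 2 497 5)) (.leaf (.up 3 1847 4))))) (.node (.node (.node (.leaf (.up 2 792 5)) (.leaf (.up 3 1820 5))) (.node (.leaf (.up 5 284 5)) (.leaf (.up 2 316 3)))) (.node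 (.node (.leaf (.up 5 1084 6)) (.leaf (.up 4 1719 3))) (.node (.leaf (.up 2 792 0)) (.leaf (.up 3 830 3)))))))) (.node (.node (.node (.node (.node (.node (.leaf (.up 3 1998 4)) (.leaf (.up 4 269 1))) (.node (.leaf (.up 3 229 6)) (.leaf (.up 4 1617 6)))) (.node (.node (.leaf (.up 3 1791 6)) (.leaf (.up 4 355 5))) (.node (.leaf (.up 1 16 2)) (.leaf (.up 3 363 6))))) (.node (.node (.node (.leaf (.up 4 205 6)) (.leaf (.up 3 496 4))) (.node (.leaf (.up 1 1 1)) (.leaf (.up 4 1283 3)))) (.node (.node (.leaf (.up 2 126 4)) (.leaf (.up 4 648 3))) (.node (.leaf (.up 4 1751 6)) (.leaf (.up 4 99 6)))))) (.node (.node (.node (.node (.leaf (.up 3 317 4)) (.leaf (.up 4 1452 3))) (.node (.leaf (.up 5 831 5)) (.leaf (.up 4 1705 1)))) (.node (.node (.leaf (.up 2 1919 6)) (.leaf (.up 4 179 4))) (.node (.leaf (.up 3 709 2)) (.leaf (.up 4 782 1))))) (.node (.node (.node (.leaf (.up 4 2010 4)) (.leaf (.up 4 651 3))) (.node (.leaf (.up 3 1651 3)) (.leaf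 (.up 4 1223 4)))) (.node (.node (.leaf (.up 3 1655 6)) (.leaf (.up 3 137 3))) (.node (.leaf (.up 2 1137 3)) (.leaf (.up 5 1424 4))))))) (.node (.node (.node (.node (.node (.leaf (.up 4 1985 1)) (.leaf (.up 3 298 2))) (.node (.leaf (.up 4 245 1)) (.leaf (.up 4 1615 1)))) (.node (.node (.leaf (.up 3 1721 5)) (.leaf (.up 2 1187 2))) (.node (.leaf (.up 5 1362 1)) (.leaf (.up 3 1000 1))))) (.node (.node (.node (.leaf (.up 3 1473 3)) (.leaf (.up 5 505 1))) (.node (.leaf (.up 3 1104 5)) (.leaf (.up 3 170 2)))) (.node (.node (.leaf (.up 5 1779 6)) (.leaf (.up 4 569 0))) (.node (.leaf (.up 3 586 3)) (.leaf (.up 4 1315 2)))))) (.node (.node (.node (.node (.leaf (.up 4 231 3)) (.leaf (.up 3 406 3))) (.node (.leaf (.up 1 26 4)) (.leaf (.up 4 1759 1)))) (.node (.node (.leaf (.up 3 1535 2)) (.leaf (.up 4 1100 1))) (.node (.leaf (.up 4 1883 6)) (.leaf (.up 2 255 2))))) (.node (.node (.node (.leaf (.up 2 1919 2)) (.leaf (.up 4 1713 3))) (.node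 (.leaf (.up 4 361 6)) (.leaf (.up 2 2013 6)))) (.node (.node (.leaf (.up 3 1134 4)) (.leaf (.up 3 1203 3))) (.node (.leaf (.up 4 12 5)) (.leaf (.up 4 231 6))))))))

noncomputable def vt3_8_0111 : Tr VStep :=
  .node (.node (.node (.node (.node (.node (.node (.leaf (.up 3 1473 4)) (.leaf (.up 4 1304 4))) (.node (.leaf (.up 4 1663 5)) (.leaf (.up 3 298 1)))) (.node (.node (.leaf (.up 3 496 0)) (.leaf (.up 3 391 2))) (.node (.leaf (.up 3 1488 6)) (.leaf (.up 5 212 3))))) (.node (.node (.node (.leaf (.up 3 265 3)) (.leaf (.up 3 406 5))) (.node (.leaf (.up 4 1810 1)) (.leaf (.up 5 1366 6)))) (.node (.node (.leaf (.up 3 1528 6)) (.leaf (.up 4 634 3))) (.node (.leaf (.up 4 1682 5)) (.leaf (.up 2 662 5)))))) (.node (.node (.node (.node (.leaf (.up 3 586 6)) (.leaf (.up 5 1003 4))) (.node (.leaf (.up 2 987 2)) (.leaf (.up 2 442 1)))) (.node (.node (.leaf (.up 4 613 4)) (.leaf (.up 4 964 6))) (.node (.leaf (.up 3 1104 6)) (.leaf (.up 4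 1499 2))))) (.node (.node (.node (.leaf (.up 2 202 5)) (.leaf (.up 4 1548 1))) (.node (.leaf (.up 4 1553 4)) (.leaf (.up 3 312 1)))) (.node (.node (.leaf (.up 5 1144 6)) (.leaf (.up 4 716 6))) (.node (.leaf (.up 3 549 1)) (.leaf (.up 2 722 2))))))) (.node (.node (.node (.node (.node (.leaf (.up 5 210 1)) (.leaf (.up 4 1640 1))) (.node (.leaf (.up 2 1441 5)) (.leaf (.up 4 820 2)))) (.node (.node (.leaf (.up 3 1697 5)) (.leaf (.up 3 1708 4))) (.node (.leaf (.up 4 1236 6)) (.leaf (.up 3 1384 4))))) (.node (.node (.node (.leaf (.up 3 317 2)) (.leaf (.up 3 1090 3))) (.node (.leaf (.up 5 513 4)) (.leaf (.up 4 1106 6)))) (.node (.node (.leaf (.up 4 1276 6)) (.leaf (.up 5 75 4))) (.node (.leaf (.up 3 1500 6)) (.leaf (.up 5 872 6)))))) (.node (.node (.node (.node (.leaf (.up 4 846 6)) (.leaf (.up 2 1784 1))) (.node (.leaf (.up 3 533 4)) (.leaf (.up 3 460 1)))) (.node (.node (.leaf (.up 3 1140 6)) (.leaf (.up 3 2045 5))) (.node (.leaf (.up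 4 834 4)) (.leaf (.up 2 1128 2))))) (.node (.node (.node (.leaf (.up 3 192 1)) (.leaf (.up 4 1266 6))) (.node (.leaf (.up 3 870 6)) (.leaf (.up 5 1490 6)))) (.node (.node (.leaf (.up 3 1383 1)) (.leaf (.up 5 1556 5))) (.node (.leaf (.up 2 20 5)) (.leaf (.up 2 456 3)))))))) (.node (.node (.node (.node (.node (.node (.leaf (.up 3 1135 5)) (.leaf (.up 4 107 5))) (.node (.leaf (.up 5 419 3)) (.leaf (.up 5 210 3)))) (.node (.node (.leaf (.up 4 1983 6)) (.leaf (.up 5 267 6))) (.node (.leaf (.up 2 497 4)) (.leaf (.up 4 875 5))))) (.node (.node (.node (.leaf (.up 4 1530 1)) (.leaf (.up 4 1849 6))) (.node (.leaf (.up 4 173 6)) (.leaf (.up 3 1688 2)))) (.node (.node (.leaf (.up 4 1719 6)) (.leaf (.up 2 126 3))) (.node (.leaf (.up 3 152 2)) (.leaf (.up 5 1999 4)))))) (.node (.node (.node (.node (.leaf (.up 5 1512 1)) (.leaf (.up 3 1969 6))) (.node (.leaf (.up 3 1621 4)) (.leaf (.up 3 1847 5)))) (.node (.node (.leaf (.up 5 51 5)) (.leaf (.up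 4 68 2))) (.node (.leaf (.up 4 567 5)) (.leaf (.up 3 449 1))))) (.node (.node (.node (.leaf (.up 4 1386 1)) (.leaf (.up 3 1721 6))) (.node (.leaf (.up 4 606 1)) (.leaf (.up 2 1945 6)))) (.node (.node (.leaf (.up 3 1847 6)) (.leaf (.up 3 1655 1))) (.node (.leaf (.up 4 1671 3)) (.leaf (.up 2 316 4))))))) (.node (.node (.node (.node (.node (.leaf (.up 1 16 3)) (.leaf (.up 3 1707 2))) (.node (.leaf (.up 4 161 6)) (.leaf (.up 4 1557 6)))) (.node (.node (.leaf (.up 2 530 3)) (.leaf (.up 4 1555 1))) (.node (.leaf (.up 2 1201 5)) (.leaf (.up 3 1707 0))))) (.node (.node (.node (.leaf (.up 3 137 6)) (.leaf (.up 4 1606 3))) (.node (.leaf (.up 3 425 6)) (.leaf (.up 4 1026 1)))) (.node (.node (.leaf (.up 4 1884 5)) (.leaf (.up 5 1092 3))) (.node (.leaf (.up 5 1683 6)) (.leaf (.up 5 461 3)))))) (.node (.node (.node (.node (.leaf (.up 1 1 6)) (.leaf (.up 4 1717 6))) (.node (.leaf (.up 4 1944 3)) (.leaf (.up 3 1941 6)))) (.node (.node (.leaf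 (.up 4 1005 5)) (.leaf (.up 4 1667 1))) (.node (.leaf (.up 2 489 5)) (.leaf (.up 4 175 6))))) (.node (.node (.node (.leaf (.up 3 1334 3)) (.leaf (.up 5 1981 6))) (.node (.leaf (.up 1 41 6)) (.leaf (.up 4 648 4)))) (.node (.node (.leaf (.up 3 1587 6)) (.leaf (.up 5 135 6))) (.node (.leaf (.up 1 0 5)) (.leaf (.up 4 1028 5))))))))

noncomputable def vt3_8_011 : Tr VStep := .node vt3_8_0110 vt3_8_0111

noncomputable def vt3_8_01 : Tr VStep := .node vt3_8_010 vt3_8_011

noncomputable def vt3_8_0 : Tr VStep := .node vt3_8_00 vt3_8_01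

noncomputable def vt3_8_1000 : Tr VStep :=
  .node (.node (.node (.node (.node (.node (.node (.leaf (.root 356)) (.leaf (.up 4 285 5))) (.node (.leaf (.up 4 1821 5)) (.leaf (.up 4 631 6)))) (.node (.node (.leaf (.up 4 1575 1)) (.leaf (.up 4 157 1))) (.node (.leaf (.up 3 1136 4)) (.leaf (.up 4 1357 6))))) (.node (.node (.node (.leaf (.up 4 1883 3)) (.leaf (.up 4 244 5))) (.node (.leaf (.up 2 722 3)) (.leaf (.up 4 1663 0)))) (.node (.node (.leaf (.up 3 339 4)) (.leaf (.up 3 496 5))) (.node (.leaf (.up 5 663 4)) (.leaf (.up 1 8 2)))))) (.node (.node (.node (.node (.leaf (.up 1 16 4)) (.leaf (.up 4 780 3))) (.node (.leaf (.up 4 1347 6)) (.leaf (.up 4 1015 6)))) (.node (.node (.leaf (.up 4 1719 1)) (.leaf (.up 4 270 3))) (.node (.leaf (.up 4 387 1)) (.leaf (.up 4 1229 6))))) (.node (.node (.node (.leaf (.up 4 199 0)) (.leaf (.up 4 1452 5))) (.node (.leaf (.up 3 1099 6)) (.leaf (.up 4 767 6)))) (.node (.node (.leaf (.up 2 2013 2))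 (.leaf (.up 2 1192 5))) (.node (.leaf (.up 5 340 2)) (.leaf (.up 3 1708 5))))))) (.node (.node (.node (.node (.node (.leaf (.up 5 1014 1)) (.leaf (.up 4 595 6))) (.node (.leaf (.up 4 1218 1)) (.leaf (.up 4 883 6)))) (.node (.node (.leaf (.up 4 1617 1)) (.leaf (.up 5 1422 4))) (.node (.leaf (.up 5 973 3)) (.leaf (.up 4 1610 4))))) (.node (.node (.node (.leaf (.up 3 1725 0)) (.leaf (.up 4 810 5))) (.node (.leaf (.up 4 820 0)) (.leaf (.up 2 1945 3)))) (.node (.node (.leaf (.up 4 52 0)) (.leaf (.up 1 18 3))) (.node (.leaf (.up 4 1258 3)) (.leaf (.up 4 1885 1)))))) (.node (.node (.node (.node (.leaf (.up 3 1607 3)) (.leaf (.up 3 1500 1))) (.node (.leaf (.up 4 1106 1)) (.leaf (.up 4 755 6)))) (.node (.node (.leaf (.up 4 1093 3)) (.leaf (.up 4 1332 3))) (.node (.leaf (.up 3 460 3)) (.leaf (.up 2 1179 5))))) (.node (.node (.node (.leaf (.up 2 630 5)) (.leaf (.up 3 731 6))) (.node (.leaf (.up 4 1232 1)) (.leaf (.up 4 1019 6)))) (.node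 (.node (.leaf (.up 3 2045 0)) (.leaf (.up 2 1434 4))) (.node (.leaf (.up 3 375 1)) (.leaf (.up 4 1630 4)))))))) (.node (.node (.node (.node (.node (.node (.leaf (.up 3 1708 6)) (.leaf (.up 3 265 5))) (.node (.leaf (.up 4 1801 5)) (.leaf (.up 3 312 6)))) (.node (.node (.leaf (.up 3 279 2)) (.leaf (.up 4 13 5))) (.node (.leaf (.up 4 182 6)) (.leaf (.up 5 629 1))))) (.node (.node (.node (.leaf (.up 3 1758 1)) (.leaf (.up 3 100 1))) (.node (.leaf (.up 4 1668 6)) (.leaf (.up 5 48 6)))) (.node (.node (.leaf (.up 4 1885 3)) (.leaf (.up 4 1578 6))) (.node (.leaf (.up 3 1076 4)) (.leaf (.up 3 798 2)))))) (.node (.node (.node (.node (.leaf (.up 3 1715 4)) (.leaf (.up 4 408 6))) (.node (.leaf (.up 3 1399 4)) (.leaf (.up 3 1621 5)))) (.node (.node (.leaf (.up 4 22 6)) (.leaf (.up 3 778 3))) (.node (.leaf (.up 4 310 6)) (.leaf (.up 4 1667 3))))) (.node (.node (.node (.leaf (.up 3 322 2)) (.leaf (.up 4 141 4))) (.node (.leaf (.up 4 952 5))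 (.leaf (.up 3 1090 2)))) (.node (.node (.leaf (.up 3 471 0)) (.leaf (.up 4 1212 5))) (.node (.leaf (.up 2 62 6)) (.leaf (.up 5 1674 6))))))) (.node (.node (.node (.node (.node (.leaf (.up 4 1602 3)) (.leaf (.up 4 144 1))) (.node (.leaf (.up 4 971 3)) (.leaf (.up 4 60 6)))) (.node (.node (.leaf (.up 3 1012 4)) (.leaf (.up 3 979 5))) (.node (.leaf (.up 4 1581 2)) (.leaf (.up 3 471 5))))) (.node (.node (.node (.leaf (.up 5 1696 6)) (.leaf (.up 1 18 1))) (.node (.leaf (.up 4 1260 3)) (.leaf (.up 3 1437 3)))) (.node (.node (.leaf (.up 5 783 1)) (.leaf (.up 4 1482 4))) (.node (.leaf (.up 4 1751 4)) (.leaf (.up 2 62 5)))))) (.node (.node (.node (.node (.leaf (.up 3 1104 4)) (.leaf (.up 1 0 1))) (.node (.leaf (.up 4 1800 6)) (.leaf (.up 3 1419 5)))) (.node (.node (.leaf (.up 4 274 6)) (.leaf (.up 2 1958 6))) (.node (.leaf (.up 5 139 5)) (.leaf (.up 5 697 3))))) (.node (.node (.node (.leaf (.up 4 1773 0)) (.leaf (.up 1 130 1))) (.node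 (.leaf (.up 4 1773 3)) (.leaf (.up 5 1974 1)))) (.node (.node (.leaf (.up 1 26 6)) (.leaf (.up 4 23 3))) (.node (.leaf (.up 5 314 6)) (.leaf (.up 3 1934 6))))))))

noncomputable def vt3_8_1001 : Tr VStep :=
  .node (.node (.node (.node (.node (.node (.node (.leaf (.up 2 1187 6)) (.leaf (.up 2 662 4))) (.node (.leaf (.up 4 395 4)) (.leaf (.up 5 789 5)))) (.node (.node (.leaf (.up 2 792 4)) (.leaf (.up 5 21 5))) (.node (.leaf (.up 4 1557 5)) (.leaf (.up 3 1136 3))))) (.node (.node (.node (.leaf (.up 2 1192 4)) (.leaf (.up 2 1137 4))) (.node (.leaf (.up 2 1784 5)) (.leaf (.up 3 341 3)))) (.node (.node (.leaf (.up 2 1784 0)) (.leaf (.up 3 1758 3))) (.node (.leaf (.up 5 2044 5)) (.leaf (.up 4 1508 1)))))) (.node (.node (.node (.node (.leaf (.up 4 1315 6)) (.leaf (.up 3 341 2))) (.node (.leaf (.up 5 1771 1)) (.leaf (.up 2 1139 3)))) (.node (.node (.leaf (.up 3 649 3)) (.leaf (.up 4 706 1))) (.node (.leaf (.up 4 1583 4)) (.leaf (.up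 3 1782 4))))) (.node (.node (.node (.leaf (.up 4 603 4)) (.leaf (.up 4 2023 1))) (.node (.leaf (.up 3 549 3)) (.leaf (.up 3 959 6)))) (.node (.node (.leaf (.up 3 92 2)) (.leaf (.up 3 1188 5))) (.node (.leaf (.up 4 200 4)) (.leaf (.up 3 342 3))))))) (.node (.node (.node (.node (.node (.leaf (.root 272)) (.leaf (.up 4 1985 3))) (.node (.leaf (.up 5 872 4)) (.leaf (.up 4 203 5)))) (.node (.node (.leaf (.up 3 303 0)) (.leaf (.up 4 971 5))) (.node (.leaf (.up 5 957 6)) (.leaf (.up 4 1296 1))))) (.node (.node (.node (.leaf (.up 3 1715 2)) (.leaf (.up 3 230 3))) (.node (.leaf (.up 3 1099 0)) (.leaf (.up 3 53 1)))) (.node (.node (.leaf (.up 2 1867 0)) (.leaf (.up 4 179 2))) (.node (.leaf (.up 3 808 1)) (.leaf (.up 5 1025 4)))))) (.node (.node (.node (.node (.leaf (.up 2 1201 3)) (.leaf (.up 3 1943 5))) (.node (.leaf (.up 3 312 3)) (.leaf (.up 5 73 3)))) (.node (.node (.leaf (.up 3 1715 3)) (.leaf (.up 5 1449 6))) (.node (.leaf (.up 3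 826 1)) (.leaf (.up 3 1161 6))))) (.node (.node (.node (.leaf (.up 4 1327 6)) (.leaf (.up 4 923 6))) (.node (.leaf (.up 2 126 5)) (.leaf (.up 3 1902 3)))) (.node (.node (.leaf (.up 1 130 0)) (.leaf (.up 3 229 3))) (.node (.leaf (.up 3 555 4)) (.leaf (.up 4 1409 6)))))))) (.node (.node (.node (.node (.node (.node (.leaf (.up 4 2028 6)) (.leaf (.up 4 344 6))) (.node (.leaf (.up 4 1029 0)) (.leaf (.up 4 769 5)))) (.node (.node (.leaf (.up 4 1029 5)) (.leaf (.up 1 1 5))) (.node (.leaf (.up 4 1663 4)) (.leaf (.up 4 1702 4))))) (.node (.node (.node (.leaf (.up 4 1256 5)) (.leaf (.up 2 722 4))) (.node (.leaf (.up 5 805 1)) (.leaf (.up 3 368 6)))) (.node (.node (.leaf (.up 4 478 6)) (.leaf (.up 3 901 4))) (.node (.leaf (.up 3 152 4)) (.leaf (.up 1 16 0)))))) (.node (.node (.node (.node (.leaf (.up 5 1644 6)) (.leaf (.up 2 1022 3))) (.node (.leaf (.up 4 475 4)) (.leaf (.up 3 258 4)))) (.node (.node (.leaf (.up 3 342 6)) (.leaf (.up 3 2018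 6))) (.node (.leaf (.up 5 1284 3)) (.leaf (.up 4 1885 5))))) (.node (.node (.node (.leaf (.up 5 1272 4)) (.leaf (.up 4 1460 5))) (.node (.leaf (.up 4 74 2)) (.leaf (.up 4 1968 5)))) (.node (.node (.leaf (.up 4 1455 4)) (.leaf (.up 3 1770 6))) (.node (.leaf (.up 5 547 3)) (.leaf (.up 4 1610 2))))))) (.node (.node (.node (.node (.node (.leaf (.up 4 1759 5)) (.leaf (.up 3 731 5))) (.node (.leaf (.up 3 317 3)) (.leaf (.up 5 1298 4)))) (.node (.node (.leaf (.up 3 322 1)) (.leaf (.up 2 1921 4))) (.node (.leaf (.up 4 242 6)) (.leaf (.up 3 549 2))))) (.node (.node (.node (.leaf (.up 2 1127 1)) (.leaf (.up 5 818 5))) (.node (.leaf (.up 4 1330 5)) (.leaf (.up 2 1899 3)))) (.node (.node (.leaf (.up 3 448 1)) (.leaf (.up 4 933 2))) (.node (.leaf (.up 3 1780 1)) (.leaf (.up 4 78 1)))))) (.node (.node (.node (.node (.leaf (.up 4 1717 3)) (.leaf (.up 4 476 6))) (.node (.leaf (.up 4 828 3)) (.leaf (.up 4 993 4)))) (.node (.node (.leaf (.up 3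 82 6)) (.leaf (.up 3 1766 6))) (.node (.leaf (.up 3 318 3)) (.leaf (.up 3 1155 5))))) (.node (.node (.node (.leaf (.up 3 1271 1)) (.leaf (.up 4 1386 0))) (.node (.leaf (.up 5 106 5)) (.leaf (.up 3 1134 5)))) (.node (.node (.leaf (.up 4 874 5)) (.leaf (.up 3 2026 1))) (.node (.leaf (.up 3 1136 2)) (.leaf (.up 4 1386 5))))))))

noncomputable def vt3_8_100 : Tr VStep := .node vt3_8_1000 vt3_8_1001

noncomputable def vt3_8_1010 : Tr VStep :=
  .node (.node (.node (.node (.node (.node (.node (.leaf (.up 3 1763 6)) (.leaf (.up 3 87 6))) (.node (.leaf (.up 4 1781 3)) (.leaf (.up 3 375 6)))) (.node (.node (.leaf (.up 4 1702 1)) (.leaf (.up 4 29 5))) (.node (.leaf (.up 3 894 4)) (.leaf (.up 4 1613 6))))) (.node (.node (.node (.leaf (.up 4 899 1)) (.leaf (.up 3 1337 1))) (.node (.leaf (.up 2 1739 6)) (.leaf (.up 5 525 1)))) (.node (.node (.leaf (.up 4 209 6)) (.leaf (.up 4 1668 4))) (.node (.leaf (.up 2 497 6)) (.leaf (.up 5 1344 4))))))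 (.node (.node (.node (.node (.leaf (.up 3 1891 6)) (.leaf (.up 3 471 6))) (.node (.leaf (.up 4 1603 6)) (.leaf (.up 5 247 6)))) (.node (.node (.leaf (.up 3 1609 4)) (.leaf (.up 4 1773 6))) (.node (.leaf (.up 3 1782 3)) (.leaf (.up 5 1744 0))))) (.node (.node (.node (.leaf (.up 5 428 5)) (.leaf (.up 4 288 4))) (.node (.leaf (.up 2 1867 6)) (.leaf (.up 5 511 6)))) (.node (.node (.leaf (.up 4 174 4)) (.leaf (.up 3 1196 5))) (.node (.leaf (.up 4 113 6)) (.leaf (.up 5 1366 2))))))) (.node (.node (.node (.node (.node (.leaf (.up 4 782 4)) (.leaf (.up 3 339 6))) (.node (.leaf (.up 2 202 4)) (.leaf (.up 5 195 5)))) (.node (.node (.leaf (.up 4 475 0)) (.leaf (.up 4 1315 0))) (.node (.leaf (.up 4 413 4)) (.leaf (.up 3 324 4))))) (.node (.node (.node (.leaf (.up 3 1721 2)) (.leaf (.up 3 91 6))) (.node (.leaf (.up 3 1215 0)) (.leaf (.up 3 1177 3)))) (.node (.node (.leaf (.up 4 1618 1)) (.leaf (.up 2 1127 4))) (.node (.leaf (.up 3 2026 3))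 (.leaf (.up 4 1691 3)))))) (.node (.node (.node (.node (.leaf (.up 3 1533 4)) (.leaf (.up 3 1373 1))) (.node (.leaf (.up 3 206 3)) (.leaf (.up 4 617 1)))) (.node (.node (.leaf (.up 5 1554 0)) (.leaf (.up 2 1139 4))) (.node (.leaf (.up 3 1902 4)) (.leaf (.up 3 1183 5))))) (.node (.node (.node (.leaf (.up 2 794 4)) (.leaf (.up 4 475 6))) (.node (.leaf (.up 4 1615 6)) (.leaf (.up 3 1138 5)))) (.node (.node (.leaf (.up 4 85 6)) (.leaf (.up 4 660 4))) (.node (.leaf (.up 3 373 6)) (.leaf (.up 4 1985 6)))))))) (.node (.node (.node (.node (.node (.node (.leaf (.up 4 1452 6)) (.leaf (.up 2 792 6))) (.node (.leaf (.up 2 489 1)) (.leaf (.up 3 9 0)))) (.node (.node (.leaf (.up 2 662 6)) (.leaf (.up 3 9 5))) (.node (.leaf (.up 4 950 6)) (.leaf (.up 4 924 2))))) (.node (.node (.node (.leaf (.up 3 1052 2)) (.leaf (.up 3 368 4))) (.node (.leaf (.up 3 982 3)) (.leaf (.up 5 1645 0)))) (.node (.node (.leaf (.up 4 1117 3)) (.leaf (.up 5 1324 3)))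 (.node (.leaf (.up 3 826 4)) (.leaf (.up 2 630 1)))))) (.node (.node (.node (.node (.leaf (.up 3 448 2)) (.leaf (.up 4 664 6))) (.node (.leaf (.up 4 377 1)) (.leaf (.up 2 1921 3)))) (.node (.node (.leaf (.up 2 790 6)) (.leaf (.up 2 1442 6))) (.node (.leaf (.up 4 1266 3)) (.leaf (.up 4 1015 4))))) (.node (.node (.node (.leaf (.up 3 1882 4)) (.leaf (.up 4 1327 3))) (.node (.leaf (.up 3 471 3)) (.leaf (.up 5 688 6)))) (.node (.node (.leaf (.up 5 872 1)) (.leaf (.up 4 1748 4))) (.node (.leaf (.up 3 830 6)) (.leaf (.up 4 1296 4))))))) (.node (.node (.node (.node (.node (.leaf (.up 2 1192 6)) (.leaf (.up 3 303 2))) (.node (.leaf (.up 4 203 3)) (.leaf (.up 2 1958 2)))) (.node (.node (.leaf (.up 3 1839 2)) (.leaf (.up 4 983 5))) (.node (.leaf (.up 3 690 6)) (.leaf (.up 4 952 3))))) (.node (.node (.node (.leaf (.up 4 1854 5)) (.leaf (.up 3 826 5))) (.node (.leaf (.up 4 2028 3)) (.leaf (.up 3 318 5)))) (.node (.node (.leaf (.up 5 541 4))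 (.leaf (.up 4 1246 0))) (.node (.leaf (.up 4 1086 5)) (.leaf (.up 3 1183 3)))))) (.node (.node (.node (.node (.leaf (.up 5 1859 3)) (.leaf (.up 4 1586 3))) (.node (.leaf (.up 4 1786 2)) (.leaf (.up 3 1651 0)))) (.node (.node (.leaf (.up 2 530 6)) (.leaf (.up 3 1072 3))) (.node (.leaf (.up 2 1192 1)) (.leaf (.up 2 530 1))))) (.node (.node (.node (.leaf (.up 3 1721 1)) (.leaf (.up 3 277 3))) (.node (.leaf (.up 4 1661 4)) (.leaf (.up 3 1847 1)))) (.node (.node (.leaf (.up 2 794 6)) (.leaf (.up 4 1894 5))) (.node (.leaf (.up 4 1834 4)) (.leaf (.up 3 656 1))))))))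

noncomputable def vt3_8_1011 : Tr VStep :=
  .node (.node (.node (.node (.node (.node (.node (.leaf (.up 3 394 3)) (.leaf (.up 3 279 6))) (.node (.leaf (.up 4 1786 1)) (.leaf (.up 5 1394 3)))) (.node (.node (.leaf (.up 3 1045 5)) (.leaf (.up 4 17 5))) (.node (.leaf (.up 4 441 6)) (.leaf (.up 3 533 5))))) (.node (.node (.node (.leaf (.up 3 1707 6)) (.leaf (.up 4 2012 3))) (.node (.leaf (.up 4 804 3)) (.leaf (.up 3 319 6)))) (.node (.node (.leaf (.up 4 1259 1)) (.leaf (.up 3 1419 0))) (.node (.leaf (.up 4 2040 5)) (.leaf (.up 1 2 0)))))) (.node (.node (.node (.node (.leaf (.up 4 907 3)) (.leaf (.up 3 1758 2))) (.node (.leaf (.up 5 1642 1)) (.leaf (.up 3 87 2)))) (.node (.node (.leaf (.up 3 393 3)) (.leaf (.up 3 248 3))) (.node (.leaf (.up 5 841 5)) (.leaf (.up 3 1393 3))))) (.node (.node (.node (.leaf (.up 3 1196 3)) (.leaf (.up 3 471 2))) (.node (.leaf (.up 4 1547 6)) (.leaf (.up 3 82 1)))) (.node (.node (.leaf (.up 4 1026 4))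 (.leaf (.up 4 1701 6))) (.node (.leaf (.up 4 672 5)) (.leaf (.up 5 1700 5))))))) (.node (.node (.node (.node (.node (.leaf (.up 4 440 1)) (.leaf (.up 4 715 5))) (.node (.leaf (.up 5 57 3)) (.leaf (.up 3 1215 4)))) (.node (.node (.leaf (.up 4 413 6)) (.leaf (.up 4 677 1))) (.node (.leaf (.up 4 1487 5)) (.leaf (.up 5 1512 4))))) (.node (.node (.node (.leaf (.up 3 1830 5)) (.leaf (.up 3 998 3))) (.node (.leaf (.up 3 641 4)) (.leaf (.up 4 600 4)))) (.node (.node (.leaf (.up 1 18 4)) (.leaf (.up 4 203 4))) (.node (.leaf (.up 3 982 4)) (.leaf (.up 5 783 4)))))) (.node (.node (.node (.node (.leaf (.up 3 1969 3)) (.leaf (.up 4 1938 1))) (.node (.leaf (.up 4 661 4)) (.leaf (.up 4 179 6)))) (.node (.node (.leaf (.up 4 1459 3)) (.leaf (.up 4 1218 3))) (.node (.leaf (.up 3 317 6)) (.leaf (.up 5 1171 5))))) (.node (.node (.node (.leaf (.up 4 1583 6)) (.leaf (.up 3 155 6))) (.node (.leaf (.up 3 1138 4)) (.leaf (.up 3 1134 3)))) (.node (.node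 (.leaf (.up 3 277 6)) (.leaf (.up 4 997 3))) (.node (.leaf (.up 3 53 6)) (.leaf (.up 4 1402 5)))))))) (.node (.node (.node (.node (.node (.node (.leaf (.up 3 1042 1)) (.leaf (.up 4 600 6))) (.node (.leaf (.up 4 1484 6)) (.leaf (.up 2 255 4)))) (.node (.node (.leaf (.up 3 982 6)) (.leaf (.up 4 660 2))) (.node (.leaf (.up 4 1541 5)) (.leaf (.up 3 1090 6))))) (.node (.node (.node (.leaf (.up 3 925 2)) (.leaf (.up 2 20 2))) (.node (.leaf (.up 4 288 3)) (.leaf (.up 4 81 3)))) (.node (.node (.leaf (.up 3 1707 3)) (.leaf (.up 2 1933 1))) (.node (.leaf (.up 2 1022 6)) (.leaf (.up 3 1000 5)))))) (.node (.node (.node (.node (.leaf (.up 4 1388 6)) (.leaf (.up 3 1480 2))) (.node (.leaf (.up 4 1100 6)) (.leaf (.up 3 1399 3)))) (.node (.node (.leaf (.up 4 345 5)) (.leaf (.up 2 65 2))) (.node (.leaf (.up 4 1553 1)) (.leaf (.up 3 1909 3))))) (.node (.node (.node (.leaf (.up 5 1014 4)) (.leaf (.up 4 720 6))) (.node (.leaf (.up 4 944 5)) (.leaf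 (.up 5 592 3)))) (.node (.node (.leaf (.up 5 176 5)) (.leaf (.up 4 1499 0))) (.node (.leaf (.up 5 692 5)) (.leaf (.up 1 41 1))))))) (.node (.node (.node (.node (.node (.leaf (.up 5 1512 6)) (.leaf (.up 5 472 4))) (.node (.leaf (.up 3 709 4)) (.leaf (.up 5 636 6)))) (.node (.node (.leaf (.up 2 722 6)) (.leaf (.up 2 987 5))) (.node (.leaf (.up 2 1010 6)) (.leaf (.up 5 843 4))))) (.node (.node (.node (.leaf (.up 3 1842 5)) (.leaf (.up 4 604 1))) (.node (.leaf (.up 3 1334 5)) (.leaf (.up 2 1131 3)))) (.node (.node (.leaf (.up 4 1713 4)) (.leaf (.up 4 1640 4))) (.node (.leaf (.up 4 1397 4)) (.leaf (.up 4 1452 4)))))) (.node (.node (.node (.node (.leaf (.up 2 1128 6)) (.leaf (.up 3 590 1))) (.node (.leaf (.up 3 391 5)) (.leaf (.up 3 1020 6)))) (.node (.node (.leaf (.up 3 339 1)) (.leaf (.up 3 498 2))) (.node (.leaf (.up 4 1266 2)) (.leaf (.up 5 1222 6))))) (.node (.node (.node (.leaf (.up 3 277 4)) (.leaf (.up 3 460 4))) (.node (.leaf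 (.up 4 834 1)) (.leaf (.up 3 1528 1)))) (.node (.node (.leaf (.up 4 465 1)) (.leaf (.up 2 1899 1))) (.node (.leaf (.up 2 362 5)) (.leaf (.up 2 1128 3))))))))

noncomputable def vt3_8_101 : Tr VStep := .node vt3_8_1010 vt3_8_1011

noncomputable def vt3_8_10 : Tr VStep := .node vt3_8_100 vt3_8_101

noncomputable def vt3_8_1100 : Tr VStep :=
  .node (.node (.node (.node (.node (.node (.node (.leaf (.up 2 124 6)) (.leaf (.up 5 1680 5))) (.node (.leaf (.up 3 836 4)) (.leaf (.up 3 925 4)))) (.node (.node (.leaf (.up 3 471 4)) (.leaf (.up 3 498 6))) (.node (.leaf (.up 3 404 5)) (.leaf (.up 4 1174 3))))) (.node (.node (.node (.leaf (.up 4 372 6)) (.leaf (.up 2 987 1))) (.node (.leaf (.up 3 194 3)) (.leaf (.up 3 498 0)))) (.node (.node (.leaf (.up 3 1614 6)) (.leaf (.up 4 250 6))) (.node (.leaf (.up 3 1902 6)) (.leaf (.up 5 1145 5)))))) (.node (.node (.node (.node (.leaf (.up 3 1651 4)) (.leaf (.up 4 345 2))) (.node (.leaf (.up 3 1480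 5)) (.leaf (.up 3 460 5)))) (.node (.node (.leaf (.up 4 1959 0)) (.leaf (.up 3 2045 4))) (.node (.leaf (.up 3 1228 5)) (.leaf (.up 4 200 5))))) (.node (.node (.node (.leaf (.up 4 148 4)) (.leaf (.up 5 843 1))) (.node (.leaf (.up 3 709 1)) (.leaf (.up 4 1151 1)))) (.node (.node (.leaf (.up 3 1998 6)) (.leaf (.up 4 1081 3))) (.node (.leaf (.up 5 1317 5)) (.leaf (.up 5 472 1))))))) (.node (.node (.node (.node (.node (.leaf (.up 5 1622 3)) (.leaf (.up 4 1996 6))) (.node (.leaf (.up 4 846 5)) (.leaf (.up 5 1051 1)))) (.node (.node (.leaf (.up 4 1108 3)) (.leaf (.up 3 246 6))) (.node (.leaf (.up 3 586 5)) (.leaf (.up 1 41 4))))) (.node (.node (.node (.leaf (.up 4 112 6)) (.leaf (.up 1 0 3))) (.node (.leaf (.up 5 547 1)) (.leaf (.up 2 1945 4)))) (.node (.node (.leaf (.up 4 883 3)) (.leaf (.up 4 1290 4))) (.node (.leaf (.up 4 1786 3)) (.leaf (.up 3 318 1)))))) (.node (.node (.node (.node (.leaf (.up 3 1042 5)) (.leaf (.up 3 959 1))) (.node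 (.leaf (.up 4 478 3)) (.leaf (.up 2 1933 4)))) (.node (.node (.leaf (.up 3 1621 3)) (.leaf (.up 4 1828 3))) (.node (.leaf (.up 3 925 0)) (.leaf (.up 2 790 5))))) (.node (.node (.node (.leaf (.up 3 496 6)) (.leaf (.up 3 829 1))) (.node (.leaf (.up 4 435 4)) (.leaf (.up 2 362 2)))) (.node (.node (.leaf (.up 4 112 0)) (.leaf (.up 2 126 6))) (.node (.leaf (.up 3 2026 6)) (.leaf (.up 4 1251 2)))))))) (.node (.node (.node (.node (.node (.node (.leaf (.up 4 63 1)) (.leaf (.up 4 1786 4))) (.node (.leaf (.up 2 132 5)) (.leaf (.up 3 1191 6)))) (.node (.node (.leaf (.up 3 1033 6)) (.leaf (.up 4 701 6))) (.node (.leaf (.up 5 1321 6)) (.leaf (.up 3 925 6))))) (.node (.node (.node (.leaf (.up 3 196 4)) (.leaf (.up 4 29 4))) (.node (.leaf (.up 5 710 3)) (.leaf (.up 4 1455 6)))) (.node (.node (.leaf (.up 4 1306 1)) (.leaf (.up 5 949 6))) (.node (.leaf (.up 3 105 5)) (.leaf (.up 4 661 6)))))) (.node (.node (.node (.node (.leaf (.up 4 2008 5))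 (.leaf (.up 2 792 3))) (.node (.leaf (.up 3 1500 5)) (.leaf (.up 5 472 5)))) (.node (.node (.leaf (.up 2 62 0)) (.leaf (.up 3 829 6))) (.node (.leaf (.up 4 579 4)) (.leaf (.up 4 1158 1))))) (.node (.node (.node (.leaf (.up 4 1591 4)) (.leaf (.up 5 1687 1))) (.node (.leaf (.up 4 70 2)) (.leaf (.up 5 1322 4)))) (.node (.node (.leaf (.up 5 1888 4)) (.leaf (.up 5 565 6))) (.node (.leaf (.up 2 1441 6)) (.leaf (.up 4 1606 2))))))) (.node (.node (.node (.node (.node (.leaf (.up 4 205 0)) (.leaf (.up 3 1155 6))) (.node (.leaf (.up 4 475 3)) (.leaf (.up 2 2013 4)))) (.node (.node (.leaf (.up 5 1833 2)) (.leaf (.up 4 953 6))) (.node (.leaf (.up 4 606 5)) (.leaf (.up 4 1120 1))))) (.node (.node (.node (.leaf (.up 3 885 3)) (.leaf (.up 2 766 4))) (.node (.leaf (.up 4 2047 1)) (.leaf (.up 2 1933 3)))) (.node (.node (.leaf (.up 3 375 3)) (.leaf (.up 3 982 1))) (.node (.leaf (.up 4 600 1)) (.leaf (.up 4 1312 2)))))) (.node (.node (.node (.node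 (.leaf (.up 5 1030 5)) (.leaf (.up 1 2 5))) (.node (.leaf (.up 5 663 6)) (.leaf (.up 2 683 3)))) (.node (.node (.leaf (.up 5 868 4)) (.leaf (.up 4 1397 0))) (.node (.leaf (.up 3 885 2)) (.leaf (.up 4 169 3))))) (.node (.node (.node (.leaf (.up 3 91 1)) (.leaf (.up 3 1035 6))) (.node (.leaf (.up 3 501 2)) (.leaf (.up 4 1993 4)))) (.node (.node (.leaf (.up 4 1259 5)) (.leaf (.up 5 380 2))) (.node (.leaf (.up 3 1791 3)) (.leaf (.up 3 1138 1))))))))

noncomputable def vt3_8_1101 : Tr VStep :=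
  .node (.node (.node (.node (.node (.node (.node (.leaf (.up 2 316 6)) (.leaf (.up 2 1928 6))) (.node (.leaf (.up 4 156 5)) (.leaf (.up 3 1176 5)))) (.node (.node (.leaf (.up 4 1542 6)) (.leaf (.up 2 1442 4))) (.node (.leaf (.up 3 1830 6)) (.leaf (.up 3 1638 4))))) (.node (.node (.node (.leaf (.up 4 52 6)) (.leaf (.up 2 530 4))) (.node (.leaf (.up 3 373 5)) (.leaf (.up 3 1393 5)))) (.node (.node (.leaf (.up 3 373 0)) (.leaf (.up 2 442 6))) (.node (.leaf (.up 3 1341 1)) (.leaf (.up 4 903 1)))))) (.node (.node (.node (.node (.leaf (.up 4 1361 2)) (.leaf (.up 2 1002 3))) (.node (.leaf (.up 4 1810 3)) (.leaf (.up 3 1635 3)))) (.node (.node (.leaf (.up 4 1732 5)) (.leaf (.up 4 704 5))) (.node (.leaf (.up 4 1361 0)) (.leaf (.up 1 18 6))))) (.node (.node (.node (.leaf (.up 3 53 0)) (.leaf (.up 4 1792 6))) (.node (.leaf (.up 3 53 3)) (.leaf (.up 1 41 5)))) (.node (.node (.leaf (.up 5 1391 4)) (.leaf (.up 4 58 6))) (.node (.leaf (.up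 3 1707 4)) (.leaf (.up 4 282 6))))))) (.node (.node (.node (.node (.node (.leaf (.up 3 1882 1)) (.leaf (.up 5 1489 3))) (.node (.leaf (.up 2 1442 0)) (.leaf (.up 4 88 3)))) (.node (.node (.leaf (.up 4 66 5)) (.leaf (.up 5 2003 3))) (.node (.leaf (.up 3 1570 6)) (.leaf (.up 4 883 1))))) (.node (.node (.node (.leaf (.up 3 318 2)) (.leaf (.up 4 1924 6))) (.node (.leaf (.up 1 16 6)) (.leaf (.up 2 1919 3)))) (.node (.node (.leaf (.up 4 639 1)) (.leaf (.up 4 1854 2))) (.node (.leaf (.up 4 1834 6)) (.leaf (.up 4 1405 3)))))) (.node (.node (.node (.node (.leaf (.up 3 1697 3)) (.leaf (.up 1 26 5))) (.node (.leaf (.up 3 808 3)) (.leaf (.up 5 1580 6)))) (.node (.node (.leaf (.up 2 1187 3)) (.leaf (.up 5 1490 3))) (.node (.leaf (.up 3 298 3)) (.leaf (.up 1 26 0))))) (.node (.node (.node (.leaf (.up 5 176 6)) (.leaf (.up 3 498 1))) (.node (.leaf (.up 2 124 1)) (.leaf (.up 4 1828 6)))) (.node (.node (.leaf (.up 4 751 1)) (.leaf (.up 3 318 6)))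 (.node (.leaf (.up 4 1499 1)) (.leaf (.up 4 1916 3)))))))) (.node (.node (.node (.node (.node (.node (.leaf (.up 4 752 1)) (.leaf (.up 4 1672 5))) (.node (.leaf (.up 5 1815 3)) (.leaf (.up 3 894 1)))) (.node (.node (.leaf (.up 4 156 3)) (.leaf (.up 3 1021 6))) (.node (.leaf (.up 4 396 5)) (.leaf (.up 5 1416 5))))) (.node (.node (.node (.leaf (.up 2 1128 4)) (.leaf (.up 1 18 2))) (.node (.leaf (.up 4 603 6)) (.leaf (.up 3 1020 1)))) (.node (.node (.leaf (.up 5 1089 6)) (.leaf (.up 5 1510 4))) (.node (.leaf (.up 3 155 2)) (.leaf (.up 3 1570 4)))))) (.node (.node (.node (.node (.leaf (.up 2 456 0)) (.leaf (.up 3 976 5))) (.node (.leaf (.up 3 1488 5)) (.leaf (.up 2 1127 3)))) (.node (.node (.leaf (.up 4 1991 1)) (.leaf (.up 3 1004 3))) (.node (.leaf (.up 4 1812 3)) (.leaf (.up 3 1609 1))))) (.node (.node (.node (.leaf (.up 5 667 4)) (.leaf (.up 4 569 5))) (.node (.leaf (.up 2 987 6)) (.leaf (.up 5 876 1)))) (.node (.node (.leaf (.up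 3 1473 6)) (.leaf (.up 3 885 6))) (.node (.leaf (.up 1 8 4)) (.leaf (.up 2 1739 1))))))) (.node (.node (.node (.node (.node (.leaf (.up 5 1700 3)) (.leaf (.up 5 181 4))) (.node (.leaf (.up 4 599 6)) (.leaf (.up 4 604 3)))) (.node (.node (.leaf (.up 4 1101 6)) (.leaf (.up 4 1106 5))) (.node (.leaf (.up 3 303 3)) (.leaf (.up 4 1711 1))))) (.node (.node (.node (.leaf (.up 4 516 1)) (.leaf (.up 3 1215 5))) (.node (.leaf (.up 4 1119 0)) (.leaf (.up 4 1515 6)))) (.node (.node (.leaf (.up 4 1955 1)) (.leaf (.up 4 752 3))) (.node (.leaf (.up 4 1544 3)) (.leaf (.up 4 1913 3)))))) (.node (.node (.node (.node (.leaf (.up 4 759 6)) (.leaf (.up 3 1196 1))) (.node (.leaf (.up 3 300 3)) (.leaf (.up 4 1410 4)))) (.node (.node (.leaf (.up 3 1969 1)) (.leaf (.up 4 889 6))) (.node (.leaf (.up 4 1261 6)) (.leaf (.up 4 782 5))))) (.node (.node (.node (.leaf (.up 3 1507 5)) (.leaf (.up 4 755 3))) (.node (.leaf (.up 4 1547 3)) (.leaf (.up 2 794 1))))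 (.node (.node (.leaf (.up 3 303 4)) (.leaf (.up 3 393 1))) (.node (.leaf (.up 3 1763 5)) (.leaf (.up 3 1725 1))))))))

noncomputable def vt3_8_110 : Tr VStep := .node vt3_8_1100 vt3_8_1101

noncomputable def vt3_8_1110 : Tr VStep :=
  .node (.node (.node (.node (.node (.node (.node (.leaf (.up 3 656 5)) (.leaf (.up 3 1480 6))) (.node (.leaf (.up 4 148 5)) (.leaf (.up 4 1260 1)))) (.node (.node (.leaf (.up 5 916 5)) (.leaf (.up 4 1663 1))) (.node (.leaf (.up 4 400 5)) (.leaf (.up 4 978 6))))) (.node (.node (.node (.leaf (.up 4 361 4)) (.leaf (.up 4 1216 6))) (.node (.leaf (.up 3 641 0)) (.leaf (.up 3 1134 1)))) (.node (.node (.leaf (.up 2 62 4)) (.leaf (.up 4 1401 0))) (.node (.leaf (.up 3 448 3)) (.leaf (.up 4 14 2)))))) (.node (.node (.node (.node (.leaf (.up 4 1371 2)) (.leaf (.up 4 840 1))) (.node (.leaf (.up 4 1484 5)) (.leaf (.up 2 456 5)))) (.node (.node (.leaf (.up 4 85 1)) (.leaf (.up 4 882 6))) (.node (.leaf (.up 3 1006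 4)) (.leaf (.up 4 475 1))))) (.node (.node (.node (.leaf (.up 3 1012 6)) (.leaf (.up 3 549 5))) (.node (.leaf (.up 4 451 3)) (.leaf (.up 4 1120 6)))) (.node (.node (.leaf (.up 3 2011 2)) (.leaf (.up 4 1106 2))) (.node (.leaf (.up 5 338 2)) (.leaf (.up 3 1488 4))))))) (.node (.node (.node (.node (.node (.leaf (.up 5 632 6)) (.leaf (.up 3 1228 6))) (.node (.leaf (.up 4 1705 4)) (.leaf (.up 3 829 2)))) (.node (.node (.leaf (.up 4 179 1)) (.leaf (.up 4 1251 4))) (.node (.leaf (.up 3 590 5)) (.leaf (.up 3 317 1))))) (.node (.node (.node (.leaf (.up 4 880 6)) (.leaf (.up 2 1187 5))) (.node (.leaf (.up 4 2040 3)) (.leaf (.up 3 1076 2)))) (.node (.node (.leaf (.up 5 1098 6)) (.leaf (.up 2 766 6))) (.node (.leaf (.up 4 1530 3)) (.leaf (.up 3 1163 3)))))) (.node (.node (.node (.node (.leaf (.up 4 1814 0)) (.leaf (.up 1 18 5))) (.node (.leaf (.up 5 1554 5)) (.leaf (.up 3 1132 6)))) (.node (.node (.leaf (.up 3 1365 3)) (.leaf (.up 2 630 6)))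 (.node (.leaf (.up 4 1814 5)) (.leaf (.up 2 429 1))))) (.node (.node (.node (.leaf (.up 3 1535 5)) (.leaf (.up 4 507 5))) (.node (.leaf (.up 3 976 6)) (.leaf (.up 3 1380 6)))) (.node (.node (.leaf (.up 4 1640 2)) (.leaf (.up 2 255 5))) (.node (.leaf (.up 3 1791 5)) (.leaf (.up 3 303 1)))))))) (.node (.node (.node (.node (.node (.node (.leaf (.up 3 1176 2)) (.leaf (.up 4 1671 6))) (.node (.leaf (.up 3 745 4)) (.leaf (.up 4 1924 0)))) (.node (.node (.leaf (.up 2 362 3)) (.leaf (.up 4 1924 5))) (.node (.leaf (.up 4 1251 3)) (.leaf (.up 4 1175 1))))) (.node (.node (.node (.leaf (.up 4 60 1)) (.leaf (.up 3 1935 6))) (.node (.leaf (.up 4 361 5)) (.leaf (.up 4 1711 6)))) (.node (.node (.leaf (.up 4 1613 3)) (.leaf (.up 5 181 6))) (.node (.leaf (.up 4 145 2)) (.leaf (.up 2 792 2)))))) (.node (.node (.node (.node (.leaf (.up 2 316 0)) (.leaf (.up 4 24 3))) (.node (.leaf (.up 3 1496 5)) (.leaf (.up 4 476 5)))) (.node (.node (.leaf (.up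 4 1973 0)) (.leaf (.up 5 732 5))) (.node (.leaf (.up 4 701 1)) (.leaf (.up 4 285 6))))) (.node (.node (.node (.leaf (.up 3 1589 5)) (.leaf (.up 5 561 5))) (.node (.leaf (.up 4 1944 1)) (.leaf (.up 3 53 5)))) (.node (.node (.leaf (.up 2 1921 6)) (.leaf (.up 3 1341 3))) (.node (.leaf (.up 3 1697 6)) (.leaf (.up 4 883 4))))))) (.node (.node (.node (.node (.node (.leaf (.up 4 200 1)) (.leaf (.up 5 1650 1))) (.node (.leaf (.up 3 10 4)) (.leaf (.up 3 1699 6)))) (.node (.node (.leaf (.up 5 1391 1)) (.leaf (.up 3 1114 5))) (.node (.leaf (.up 4 603 1)) (.leaf (.up 2 1442 2))))) (.node (.node (.node (.leaf (.up 4 63 6)) (.leaf (.up 3 260 3))) (.node (.leaf (.up 4 287 6)) (.leaf (.up 3 1715 5)))) (.node (.node (.leaf (.up 4 631 3)) (.leaf (.up 3 1191 4))) (.node (.leaf (.up 5 2046 3)) (.leaf (.up 2 683 2)))))) (.node (.node (.node (.node (.leaf (.up 3 1341 4)) (.leaf (.up 4 1508 4))) (.node (.leaf (.up 3 375 2)) (.leaf (.up 2 1827 6))))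 (.node (.node (.leaf (.up 2 1933 6)) (.leaf (.up 2 766 0))) (.node (.leaf (.up 4 715 1)) (.leaf (.up 2 1137 1))))) (.node (.node (.node (.leaf (.up 4 1515 5)) (.leaf (.up 2 495 5))) (.node (.leaf (.up 3 2045 3)) (.leaf (.up 4 199 4)))) (.node (.node (.leaf (.up 4 1405 1)) (.leaf (.up 4 596 4))) (.node (.leaf (.up 3 1535 3)) (.leaf (.up 2 126 2))))))))

noncomputable def vt3_8_1111 : Tr VStep :=
  .node (.node (.node (.node (.node (.node (.node (.leaf (.up 4 1555 0)) (.leaf (.up 3 279 1))) (.node (.leaf (.up 3 152 5)) (.leaf (.up 4 63 4)))) (.node (.node (.leaf (.up 4 1286 6)) (.leaf (.up 5 946 6))) (.node (.leaf (.up 4 412 5)) (.leaf (.up 4 360 4))))) (.node (.node (.node (.leaf (.up 3 885 5)) (.leaf (.up 4 1484 3))) (.node (.leaf (.up 5 1537 4)) (.leaf (.up 3 1697 1)))) (.node (.node (.leaf (.up 4 648 1)) (.leaf (.up 3 1998 3))) (.node (.leaf (.up 4 1468 1)) (.leaf (.up 2 1137 5)))))) (.node (.node (.node (.node (.leaf (.up 5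 956 6)) (.leaf (.up 3 339 2))) (.node (.leaf (.up 3 1042 3)) (.leaf (.up 3 1715 1)))) (.node (.node (.leaf (.up 4 1158 4)) (.leaf (.up 4 1119 4))) (.node (.leaf (.up 4 1552 3)) (.leaf (.up 3 192 5))))) (.node (.node (.node (.leaf (.up 4 1983 1)) (.leaf (.up 5 838 0))) (.node (.leaf (.up 4 821 3)) (.leaf (.up 4 1312 6)))) (.node (.node (.leaf (.up 5 1214 3)) (.leaf (.up 3 826 6))) (.node (.leaf (.up 4 1198 6)) (.leaf (.up 4 70 0))))))) (.node (.node (.node (.node (.node (.leaf (.up 3 322 5)) (.leaf (.up 4 1745 3))) (.node (.leaf (.up 5 239 1)) (.leaf (.up 3 1196 6)))) (.node (.node (.leaf (.up 2 1442 3)) (.leaf (.up 3 1090 5))) (.node (.leaf (.up 3 1314 6)) (.leaf (.up 2 1010 1))))) (.node (.node (.node (.leaf (.up 3 1830 4)) (.leaf (.up 4 502 3))) (.node (.leaf (.up 4 784 6)) (.leaf (.up 3 1707 5)))) (.node (.node (.leaf (.up 2 766 1)) (.leaf (.up 3 1012 3))) (.node (.leaf (.up 4 1804 3)) (.leaf (.up 3 1596 0)))))) (.node (.node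 (.node (.node (.leaf (.up 2 1441 3)) (.leaf (.up 2 497 1))) (.node (.leaf (.up 5 1270 4)) (.leaf (.up 4 345 3)))) (.node (.node (.leaf (.up 4 1955 3)) (.leaf (.up 4 282 5))) (.node (.leaf (.up 2 1441 4)) (.leaf (.up 3 1400 4))))) (.node (.node (.node (.leaf (.up 4 1993 1)) (.leaf (.up 4 268 4))) (.node (.leaf (.up 3 656 6)) (.leaf (.up 3 352 2)))) (.node (.node (.leaf (.up 1 130 4)) (.leaf (.up 3 501 3))) (.node (.leaf (.up 5 1888 2)) (.leaf (.up 3 501 0)))))))) (.node (.node (.node (.node (.node (.node (.leaf (.up 3 394 0)) (.leaf (.up 4 144 2))) (.node (.leaf (.up 5 83 6)) (.leaf (.up 3 1160 5)))) (.node (.node (.leaf (.up 3 1609 6)) (.leaf (.up 2 1928 5))) (.node (.leaf (.up 4 1897 6)) (.leaf (.up 4 912 2))))) (.node (.node (.node (.leaf (.up 3 1721 3)) (.leaf (.up 2 1945 2))) (.node (.leaf (.up 5 347 6)) (.leaf (.up 4 2031 6)))) (.node (.node (.leaf (.up 4 613 5)) (.leaf (.up 3 501 6))) (.node (.leaf (.up 3 501 4)) (.leaf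 (.up 3 1177 2)))))) (.node (.node (.node (.node (.leaf (.up 3 460 2)) (.leaf (.up 3 1607 6))) (.node (.leaf (.up 4 182 4)) (.leaf (.up 3 1228 2)))) (.node (.node (.leaf (.up 2 202 0)) (.leaf (.up 4 1996 2))) (.node (.leaf (.up 4 1044 3)) (.leaf (.up 3 312 4))))) (.node (.node (.node (.leaf (.up 4 507 6)) (.leaf (.up 4 1871 6))) (.node (.leaf (.up 4 1617 4)) (.leaf (.up 3 342 0)))) (.node (.node (.leaf (.up 4 1722 3)) (.leaf (.up 5 1051 4))) (.node (.leaf (.up 3 1337 5)) (.leaf (.up 3 317 5))))))) (.node (.node (.node (.node (.node (.leaf (.up 3 342 5)) (.leaf (.up 5 1362 5))) (.node (.leaf (.up 5 343 6)) (.leaf (.up 4 1151 4)))) (.node (.node (.leaf (.up 2 1958 3)) (.leaf (.up 4 1751 3))) (.node (.leaf (.up 4 148 1)) (.leaf (.up 4 1618 5))))) (.node (.node (.node (.leaf (.up 3 645 1)) (.leaf (.up 2 1010 3))) (.node (.leaf (.up 4 95 6)) (.leaf (.up 4 779 1)))) (.node (.node (.leaf (.up 4 42 2)) (.leaf (.up 3 11 4))) (.node (.leaf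 (.up 2 790 4)) (.leaf (.up 3 1708 1)))))) (.node (.node (.node (.node (.leaf (.up 5 663 1)) (.leaf (.up 3 10 5))) (.node (.leaf (.up 3 1782 2)) (.leaf (.up 3 1635 6)))) (.node (.node (.leaf (.up 3 1447 3)) (.leaf (.up 3 394 1))) (.node (.leaf (.up 5 2029 6)) (.leaf (.up 1 8 0))))) (.node (.node (.node (.leaf (.up 1 130 3)) (.leaf (.up 4 1611 6))) (.node (.leaf (.up 3 1291 3)) (.leaf (.up 2 1899 6)))) (.node (.node (.leaf (.up 4 1821 0)) (.leaf (.up 2 1784 4))) (.node (.leaf (.up 4 1765 6)) (.leaf (.up 3 1596 1))))))))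

noncomputable def vt3_8_111 : Tr VStep := .node vt3_8_1110 vt3_8_1111

noncomputable def vt3_8_11 : Tr VStep := .node vt3_8_110 vt3_8_111

noncomputable def vt3_8_1 : Tr VStep := .node vt3_8_10 vt3_8_11

noncomputable def vt3_8_ : Tr VStep := .node vt3_8_0 vt3_8_1

noncomputable def roots3 : List Root := [⟨0,[⟨[92],11152035923371408517815690135224524424151409,0,11152035923371408517815690135224524424151409,[88,94,89,105]⟩,⟨[157],17341915377728317664736727268204486284735995,1137,11151498558702605137411016409805758981928443,[110,116,35]⟩,⟨[87],11150765064260840958253758777299687879697664,0,11150765064260840958253758777299687879697664,[57,110,89,148]⟩,⟨[177],19209595061436114479250853317761277246751181,1570,11151708612748291664438142613777005999473101,[57,93,176,181]⟩,⟨[113,150],21686953088911967502595041176540913046782350,1935,11151811009039712673768963330453369220104590,[44,76]⟩],vt3_0_⟩,⟨1,[⟨[87,177,80],1761505717222371712721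6013673745683971114420,1187,11152414459661253829119603129401542099142068,[88,110,146]⟩,⟨[150,113,87],21687635438170372528977868604139989578465281,1935,11152493358298117700151790758052445751787521,[57,56,43,124]⟩,⟨[87,157,177],17613544984991333557690696646940489627370932,1187,11150902272428870259594286102596347755398580,[72]⟩,⟨[80,113,150,177,177],17837223395449832446435948426558822320321148,111,11151355450187233516307564139739440501633660,[88,55,103,233]⟩],vt3_1_⟩,⟨2,[⟨[80,177,92,113],21479407246189821240622189304609496675303681,1871,11151156845405496997581843219840467921191169,[87,55,103,197]⟩,⟨[177,150,87,87],17297445994134574243517583158566082763436416,429,11150585318074741839515184249918621791695232,[87,56,116,3]⟩,⟨[113,157,87,157,92],14751025272200451632183077283995297301669021,1911,11152198959644606442594427435796916697310365,[87,94,103,206]⟩],vt3_2_⟩,⟨5,[⟨[87,150,113,80,92],21686875974779034512348273187897785400172545,1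935,11151733894906779683522195341810241573494785,[]⟩,⟨[157,80,92,177,177],12180193324223113524886970737349050868238067,189,11151179446654195611373725924475383796795123,[87,56,103,34]⟩,⟨[157,80,87,177,157],15440695382874188864496922645117984491709735,788,11150415300734996717150695594618250881672487,[88,94,90,153]⟩],vt3_3_⟩,⟨7,[⟨[150,113,87],21687635438170372528977868604139989578465281,1935,11152493358298117700151790758052445751787521,[88,94,155]⟩,⟨[87,80,92],11152493358298117700151790758052445751787521,0,11152493358298117700151790758052445751787521,[88,94,155]⟩,⟨[177,80,87],19698329465258518976615730630177382838894609,1570,11150436408204544774415760491491365367119889,[57,90,69]⟩,⟨[92,157,87,87],13127935794202095326808055035088681525891434,363,11151575807125284731012775315124971753754986,[88,110,91,11]⟩,⟨[80,177,113,150],17571223524095096628720723927337534284526887,192,11152136954498513453947625332744658743620903,[87,93,42,128]⟩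],vt3_4_⟩,⟨12,[⟨[92],11152035923371408517815690135224524424151409,0,11152035923371408517815690135224524424151409,[93,89,193]⟩,⟨[87],11150765064260840958253758777299687879697664,0,11150765064260840958253758777299687879697664,[57,93,103,29]⟩,⟨[113,150],21686953088911967502595041176540913046782350,1935,11151811009039712673768963330453369220104590,[87,91,198]⟩,⟨[113,157,177,177,80,177],19665686320369237348014760381595734746604701,1564,11150460370539673238307274205223167023129757,[57,110,42,227]⟩],vt3_5_⟩,⟨15,[⟨[177,177,177],16682018791083751802798333565878689852872423,1016,11150388634416976140737715947467865807443687,[87,246]⟩,⟨[80,177,87],14390490953337463068075197302683715728638465,1871,11151002820250128895903871039933282355577345,[110,176,128]⟩,⟨[177,80,87],19698329465258518976615730630177382838894609,1570,11150436408204544774415760491491365367119889,[57,56,104,214]⟩,⟨[87,177,80],17615057172223717127216013673745683971114420,118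7,11152414459661253829119603129401542099142068,[110,91,194]⟩,⟨[113,150,80,157],16715843738299755373451667966065149881622531,1022,11151546474408569618898566385340876087894019,[87,93,155,23]⟩],vt3_6_⟩,⟨71,[⟨[157],17341915377728317664736727268204486284735995,1137,11151498558702605137411016409805758981928443,[55,42,119]⟩,⟨[113,150],21686953088911967502595041176540913046782350,1935,11151811009039712673768963330453369220104590,[88,93,43,160]⟩,⟨[177,92],19700819420681529586689326687359296656086319,1570,11152926363627555384489356548673279184311599,[155,208]⟩,⟨[150,113],21687974190697585591485855023217736528298781,1935,11152832110825330762659777177130192701621021,[57,91,36]⟩,⟨[87,92,177],19210375618690257543540734181460405525546967,1947,11152489170002434728728023477476134278268887,[110,42,173]⟩,⟨[177,177,157,87],22127903547925365456057570998449060258473453,1353,11151755520523574378582959661129944829748717,[88,94,91,101]⟩],vt3_7_⟩,⟨106,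[⟨[80],11152063837251320887889661568778656317755754,0,11152063837251320887889661568778656317755754,[57,55,42,180]⟩,⟨[157,87],17473747376324264705739532923333402289387273,1137,11152662128400911808443886215680875993380617,[88,93,123,225]⟩,⟨[92,92],11151576093633338336294099014890377879017352,0,11151576093633338336294099014890377879017352,[93,155,23]⟩,⟨[87,177],19208749992967128248175308108618463222760884,1187,11150863544279305433362597404634191975482804,[88,110,103,138]⟩,⟨[87,92],11150661354603492071130751154334485818259171,0,11150661354603492071130751154334485818259171,[57,93,91,95]⟩,⟨[150,157,113],16716036477008346693937156989933473360303847,1022,11151739213117160939384055409209199566575335,[87,55,123,98]⟩,⟨[150,177,150],16842174823032090258108022623233860452348406,792,11152653648113999149000399186974695956804086,[87,55,44,18]⟩],vt3_8_⟩]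

noncomputable def sel3_00 : Tr (ℕ × ℕ × ℕ) :=
  .node (.node (.node (.node (.node (.node (.node (.leaf (11152063837251320887889661568778656317755754,80,0)) (.leaf (21652858288854439624302543319220693585895425,243,255))) (.leaf (17923729566661720831879782213309127390619519,61,6))) (.node (.leaf (13129382289099904194130885795372637871306362,46,1)) (.leaf (19699468950506319128525431317513888274014503,116,1)))) (.node (.node (.leaf (17341760407023805792660864181459601028154478,14,5)) (.leaf (15697144948795133009443020085909598937973084,102,6))) (.node (.leaf (14532094934158906329860407259518414880686509,80,43)) (.leaf (16134407414162800089878103431030968139838655,132,5))))) (.node (.node (.node (.node (.leaf (11150661300413250635906272083916318949901643,0,3)) (.leaf (20968411082839896304699194646191356067717121,264,264))) (.leaf (16252553659537892370170249388328360097739868,89,6))) (.node (.leaf (14751025272200451632183077283995297301669021,56,5))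 (.leaf (15442417036637705601293852383244392353658151,125,5)))) (.node (.node (.leaf (17471468647186412655932362547616550859317376,30,43)) (.leaf (16629485403501468163952644898618609480140120,109,5))) (.node (.leaf (17615139857932878249365674707411380503185082,28,6)) (.leaf (17978010008784330783772137056913509342733805,144,5)))))) (.node (.node (.node (.node (.node (.leaf (11152529046864396357170186748141631803200113,1,0)) (.leaf (21502154515175805185272608942039842231951361,263,249))) (.leaf (14244359832248924605338984365722651529441731,69,6))) (.node (.leaf (14751673263906596582374336935700007583610011,51,5)) (.leaf (15442695027972016490134259580824803701908608,119,5)))) (.node (.node (.leaf (17343405340749318131986499900932399474200836,25,5)) (.leaf (16628970630979537645976571667955108722373338,105,5))) (.node (.leaf (19210300909069499347958868838502623942345280,10,6)) (.leaf (21049742496512277554230185046802302247565008,137,5)))))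 (.node (.node (.node (.node (.leaf (11151811322446494444969549435116533481275904,13,3)) (.leaf (13285934668641841864964450738054366442299393,272,264))) (.leaf (14392439710197675982845061639347907512956841,100,1))) (.node (.leaf (21555802563695786322822315529309029933658242,67,1)) (.leaf (16132706315514926630763334258565517235844933,128,5)))) (.node (.node (.leaf (17472071250962698479061891171517891273486550,36,43)) (.leaf (19698278259750799786710268453677326399356945,112,1))) (.node (.leaf (18393546490443324809404534842416989116756898,45,6)) (.leaf (21555816850263432038952684444476904207943421,5,48))))))) (.node (.node (.node (.node (.node (.node (.leaf (21685595879673792891025244090492778672870793,150,0)) (.leaf (16682018791083751802798333565878689852872423,254,259))) (.leaf (17925103807027271712233136740500514206130420,65,6))) (.node (.leaf (13128347873956955360783351526980034710925408,49,1)) (.leaf (12415790115745087084832470322131409139795002,117,5))))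 (.node (.node (.leaf (17341963246408182509856260814506140999585963,20,5)) (.leaf (14391571518297456819113526585921385533992994,104,1))) (.node (.leaf (19208749992967128248175308108618463222760884,1,6)) (.leaf (19721385405643027489612809074073164457587072,134,6))))) (.node (.node (.node (.node (.leaf (11151095819164069269538120984562079082022281,9,3)) (.leaf (20977748703491313645930039949428916400168961,268,264))) (.leaf (15697245713805109794230656488384739492165062,6,6))) (.node (.leaf (14532820916495387730438815618287000335545449,60,43)) (.leaf (12181077694592734038927647486514667395192365,126,6)))) (.node (.node (.leaf (17472794252275864812932341354198970012714186,34,43)) (.leaf (14413170561279779750774139095874579806433920,110,6))) (.node (.leaf (17615636715682689269868065893135597833298944,32,6)) (.leaf (11151095974894937419709179768267193666959252,2,1)))))) (.node (.node (.node (.node (.node (.leaf (11152994477175310675886691841680645485920654,8,1))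 (.leaf (12405233464471485452959671955229551305433089,255,264))) (.leaf (16497081155585917585339212123819349373236058,85,6))) (.node (.leaf (13128830388910417316215283705420172918589337,54,1)) (.leaf (15443215860804628054063861743735542330082305,122,5)))) (.node (.node (.leaf (17473221745845491791374177990641617240297992,5,43)) (.leaf (14391801516692691128463245943162549193049285,107,1))) (.node (.leaf (19209922023620359736985563273953041367578307,14,6)) (.leaf (21761833654852472206869426144114670747154377,140,5))))) (.node (.node (.node (.node (.leaf (17342379487837077948327909551595344454104807,9,5)) (.leaf (19529528158500287991722623211912217344614401,276,264))) (.leaf (16628225113204646986653639187699986900934774,101,5))) (.node (.leaf (14531660147772131700682400200157748289499328,72,43)) (.leaf (21049584475515996539239229860014912758739621,130,5)))) (.node (.node (.leaf (14749289320553186627796845922589701691569050,42,5))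 (.leaf (19700620031962894155801167897294096862426867,114,1))) (.node (.leaf (18392282421887696392129447598873281580920912,49,6)) (.leaf (13137948617456581543848205830203170279661569,251,43)))))))

noncomputable def sel3_01 : Tr (ℕ × ℕ × ℕ) :=
  .node (.node (.node (.node (.node (.node (.node (.leaf (11152035923371408517815690135224524424151409,92,0)) (.leaf (20755673557012884388155641428305915351670785,253,255))) (.leaf (14243187138742591408640498934344424073683186,63,6))) (.node (.leaf (14750645764290841848361827221523140459848720,47,5)) (.leaf (14413655382018808651181332949108927122818029,116,6)))) (.node (.node (.leaf (17343413885832114547222229589214861377675522,3,5)) (.leaf (16630062010261113754839568487884167525237280,103,5))) (.node (.leaf (14532820574208402011398787905503052599539164,82,43)) (.leaf (21049655973782194800949710962831966451766674,133,5))))) (.node (.node (.node (.node (.leaf (11153056882743710565958313916865587024638916,7,3))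 (.leaf (20068833156573468306033982832080156448792577,266,264))) (.leaf (14391476127686553500726605414408129422684796,6,1))) (.node (.leaf (14749289301087464095279460059197743040090132,58,5)) (.leaf (14190757166339256800263566888309591090668506,126,1)))) (.node (.node (.leaf (17474009095687921977024968672890945202083428,31,43)) (.leaf (19700819420681529586689326687359296656086319,110,1))) (.node (.leaf (17613063506794489422224086513846699967312032,30,6)) (.leaf (21687635438170372528977868604139989578465281,4,18)))))) (.node (.node (.node (.node (.node (.leaf (11151632892464559276296399771153048150173184,7,0)) (.leaf (11689464949522555120616982338831949129326593,252,264))) (.leaf (16497231400202300483676438997844295048675918,83,6))) (.node (.leaf (14751300963371982761436736482491823356281791,52,5)) (.leaf (15671671345388929156827949612474806006501963,120,6)))) (.node (.node (.leaf (17473747376324264705739532923333402289387273,5,1))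 (.leaf (14390445905611125222517947546283771004614097,106,1))) (.node (.leaf (19210275829559512709349122614801423339054082,12,6)) (.leaf (21762998677889101885897293908613953261307828,138,5))))) (.node (.node (.node (.node (.leaf (11152674122593980147747282714038721621455697,15,3)) (.leaf (20244836872873192336725746046256852345298945,274,264))) (.leaf (15698203120001981532494228257198521965769792,100,6))) (.node (.leaf (14531660186071826195351724247282638721605862,70,43)) (.leaf (16132756841432718660671202367139650161525404,129,5)))) (.node (.node (.leaf (17473746907018946327631559333750233754371634,37,43)) (.leaf (19699248067194434885507646255295662234417123,113,1))) (.node (.leaf (18393088823328740086596562207245881956009652,47,6)) (.leaf (12217604579402712232972051069786478345613384,5,249))))))) (.node (.node (.node (.node (.node (.node (.leaf (19209595061436114479250853317761277246751181,177,0)) (.leaf (13847527735168640203697622482771579141891072,107,261)))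 (.leaf (14244607067305533873422409756310065244590092,67,6))) (.node (.leaf (14751672660773268378012001762952682040854150,50,5)) (.leaf (15443259840536045696594788622341591132590766,118,5)))) (.node (.node (.leaf (17342153621720162993337054337245807123589082,23,5)) (.leaf (15697310677882939714836893663555961134411848,104,6))) (.node (.leaf (19210957764103588399612065585354445394932523,8,6)) (.leaf (13677855091858269454449410610346705221977054,136,1))))) (.node (.node (.node (.node (.leaf (11152831873983026779920282711944930367500544,11,3)) (.leaf (20036506661346333853210774129898999055917057,270,264))) (.leaf (16629537267393256199822705121608319746077987,99,5))) (.node (.leaf (14532094779388026419938007247990246445482008,63,43)) (.leaf (19721014607179169020937135691781188569657581,127,6)))) (.node (.node (.leaf (17471968855207105936602697116790059300173620,35,43)) (.leaf (12414456686419464698105824376174496973254735,111,5))) (.node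 (.leaf (18392889979986594399521043719054542870807865,42,6)) (.leaf (16274174937604781150632190565697600635680442,148,148)))))) (.node (.node (.node (.node (.node (.leaf (11151576093633338336294099014890377879017352,12,1)) (.leaf (22171900790421062986007977134227447846281217,257,264))) (.leaf (16497399634331170459460407468001900792001231,87,6))) (.node (.leaf (14750770060286151834067005931223153085695325,55,5)) (.leaf (15671357669359219928631147286506465976054351,123,6)))) (.node (.node (.leaf (17473927622389664777423465708130804341629430,27,43)) (.leaf (16629714012864010356433874687012689054954789,108,5))) (.node (.leaf (17615631615171736315233521670433304785507332,5,6)) (.leaf (21763184191699984052551804042350465025208384,142,5))))) (.node (.node (.node (.node (.leaf (17341574303188066304152591056163418520076293,12,5)) (.leaf (12615733908434783916155685284752262973890561,278,264))) (.leaf (14391368340422498500567467416585301483455571,102,1)))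 (.node (.leaf (14533231719671003163056995991522183585105073,75,43)) (.leaf (14190918282319489322651622033198161163355562,131,1)))) (.node (.node (.leaf (13127578231810848415511530748351191925256351,45,1)) (.leaf (19699628542886746121053612830759214294941953,115,1))) (.node (.leaf (17925063859823291217104096446891374727819704,59,6)) (.leaf (14521336526766396470193816550286526249367035,245,107)))))))

noncomputable def sel3_0 : Tr (ℕ × ℕ × ℕ) := .node sel3_00 sel3_01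

noncomputable def sel3_10 : Tr (ℕ × ℕ × ℕ) :=
  .node (.node (.node (.node (.node (.node (.node (.leaf (11150765064260840958253758777299687879697664,87,0)) (.leaf (13127904020113127791160636228115399123673089,252,255))) (.leaf (17924509570124471199004460635187845270505308,62,6))) (.node (.leaf (13128830547887286447967731540111312310633318,47,1)) (.leaf (12414285093045482084040146728092324023694159,116,5)))) (.node (.node (.leaf (17340894951425384854713258459270264857753448,15,5)) (.leaf (14390939376559547243532619798868977699948354,103,1))) (.node (.leaf (21556083047684513296082546565905990744994375,81,5)) (.leaf (13678495470087240472198932835552130777935904,133,1))))) (.node (.node (.node (.node (.leaf (11151054493704420943666650354966753240336309,1,3)) (.leaf (11870621720841685545542411141895601166229505,265,264))) (.leaf (16251918376805970660180392012323559619757367,90,6))) (.node (.leaf (13128556859278633350909370328998091125956624,57,1))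 (.leaf (15670382341419631899620719706986418269980222,125,6)))) (.node (.node (.leaf (17472794181207790799586538730293424375792374,31,1)) (.leaf (15698952777373081459488505915949732082414157,109,6))) (.node (.leaf (17613058122723590470831886571303381187883041,29,6)) (.leaf (17977830228021234527555479649032949563102955,145,5)))))) (.node (.node (.node (.node (.node (.leaf (11152126163932097000728763202790525517591325,1,1)) (.leaf (12382587081694654364454169462868454164930561,243,264))) (.leaf (14244682834599048072236025821444597769838838,70,6))) (.node (.leaf (13128348257142284853954018529602044471932063,52,1)) (.leaf (15441963383325663447196067057246874101622108,120,5)))) (.node (.node (.leaf (17342540012674572132476308057516854770409986,26,5)) (.leaf (15697983412935311056502679408719183881503971,105,6))) (.node (.leaf (19209241532501279775281926404314067985458057,11,6)) (.leaf (19720420289105831757501885143738091109794301,137,6)))))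 (.node (.node (.node (.node (.leaf (11152492847140148394061989060932253578560058,14,3)) (.leaf (19552574737857844608105957508517809824473089,273,264))) (.leaf (16628048117915146686815549544920553570669424,100,5))) (.node (.leaf (14533231277084414839385482159405229644682391,67,43)) (.leaf (14188420384820443698372843533575662190776356,129,1)))) (.node (.node (.leaf (17473222150457619955384737290459398972798375,37,1)) (.leaf (12415625019085298915988561658438781234630724,112,5))) (.node (.leaf (18392964395648537181678177174633081322145700,46,6)) (.leaf (12160002888045375043064234411558995133780403,247,248))))))) (.node (.node (.node (.node (.node (.node (.leaf (17341915377728317664736727268204486284735995,157,0)) (.leaf (21687205576945072025595378715563463206736721,4,1))) (.leaf (14243550114595017933203134178382790468372263,66,6))) (.node (.leaf (14751300476800367085281535071372221588412398,49,5)) (.leaf (14411819641269419885337509983054268450878495,117,6))))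 (.node (.node (.leaf (17342156363232612486020666258231553826973263,22,5)) (.leaf (16628388620251915647747485820347767949071345,104,5))) (.node (.leaf (19208470651667698766482774540506173389010143,7,6)) (.leaf (16132860386784088435087337135180501816837066,135,5))))) (.node (.node (.node (.node (.leaf (11150714836532105538100834502099723093984550,10,3)) (.leaf (11858181270010162825111600470257528333148161,269,264))) (.leaf (14390490953337463068075197302683715728638465,99,1))) (.node (.leaf (21555168007830611765488493230864374659862660,63,1)) (.leaf (21048612432344169685802866793584811315364447,127,5)))) (.node (.node (.leaf (17471468649783213808389245172836513181306920,35,1)) (.leaf (19699630096608939941851909560550558136230836,111,1))) (.node (.leaf (17613105866876476618228944257299393747145589,33,6)) (.leaf (17946933966294750604734849315086727511082538,128,244)))))) (.node (.node (.node (.node (.node (.leaf (11151284877462284304088200185974622749357319,9,0))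 (.leaf (21481244754986756150454799484649673041387521,256,264))) (.leaf (16254406458360187372303155153026043939812391,86,6))) (.node (.leaf (13129381855366217243415922584618290206266134,55,1)) (.leaf (15441115739633674202766656485548483482125013,123,5)))) (.node (.node (.leaf (17472071148734514197506690309209202517524973,27,1)) (.leaf (16629991560528439107262850577571305660416474,107,5))) (.node (.leaf (19210112519155915125123960268808843985602519,15,6)) (.leaf (17980141749413286199352905687075519453344483,141,5))))) (.node (.node (.node (.node (.leaf (17342101794194671995033897908236169481469955,11,5)) (.leaf (13306444232250165371904428391200040293507073,277,264))) (.leaf (15699049598195209503416464476402564899702100,101,6))) (.node (.leaf (21555170827895767417121224374000292111278777,73,5)) (.leaf (19720108161936036821222394042451473589141648,130,6)))) (.node (.node (.leaf (13128556598474444605643807175567952019621244,44,1))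 (.leaf (12415616960011661437962320065982311723704386,114,5))) (.node (.leaf (18393946615331585568759356072399924120401068,50,6)) (.leaf (20743940082873398079181555055518053342126081,243,252)))))))

noncomputable def sel3_11 : Tr (ℕ × ℕ × ℕ) :=
  .node (.node (.node (.node (.node (.node (.node (.leaf (11150416881598254440603770211871615913227296,113,0)) (.leaf (11152832110825330762659777177130192701621021,0,244))) (.leaf (17925707407929801295681131536145206297989130,64,6))) (.node (.leaf (14750005856539481368370952655771713384411663,48,5)) (.leaf (19698278961657472304727668479674565373958076,117,1)))) (.node (.node (.leaf (17342537926530184522953507086229286210294276,16,5)) (.leaf (15698863578272720863656152652015722959598750,103,6))) (.node (.leaf (19209104988342674659854963886915255408144601,0,6)) (.leaf (21048795095506328240337877094685057606354474,134,5))))) (.node (.node (.node (.node (.leaf (11152035581103467045142121819714613961699671,8,3))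 (.leaf (13813082123098935593723304049054529649385473,267,264))) (.leaf (16629659573572697815386534976098989744489822,6,5))) (.node (.leaf (21554859626286428067372717367313401546547695,60,1)) (.leaf (16134447534400327704447220764595628055868949,126,5)))) (.node (.node (.leaf (17474008881737425421081535700828720531990220,34,1)) (.leaf (12415621428698780138844302104922986597189434,110,5))) (.node (.leaf (17615134286335989971430693599455185523836475,31,6)) (.leaf (21686875974779034512348273187897785400172545,242,43)))))) (.node (.node (.node (.node (.node (.leaf (11150453793639257463643324038730430613981076,7,1)) (.leaf (22191939922170399856950576222606043207704577,253,264))) (.leaf (16254106044719753306210683634278237503128908,84,6))) (.node (.leaf (14750006034005582032022069489400051528695826,53,5)) (.leaf (15441003914977739796810692354848383533813769,121,5)))) (.node (.node (.leaf (11152493358298117700151790758052445751787521,2,13))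 (.leaf (16629041079414455001165487768056759460688160,106,5))) (.node (.leaf (19210154802698746935797224251560294891361528,13,6)) (.leaf (17979973016012047178572552873282847706628581,139,5))))) (.node (.node (.node (.node (.leaf (17341419528012979737012800210645879573317373,0,5)) (.leaf (12595289264490495678069084871190702951768065,275,264))) (.leaf (14392238776794130053822215191621016125047768,101,1))) (.node (.leaf (21555600290659353996161682439825189565760466,72,1)) (.leaf (12179711373182742338193309473309831008837814,129,6)))) (.node (.node (.leaf (13126755814407909478086774919944877830636385,42,1)) (.leaf (12414283827388355385776524150419951970166710,113,5))) (.node (.leaf (18391896533725097300254940556768009745515063,48,6)) (.leaf (11184352100090685475604853337766078604820481,245,250))))))) (.node (.node (.node (.node (.node (.node (.leaf (11151995862271810439341279249102243341242737,0,1)) (.leaf (18037736131377639466890366915112473915346956,260,262)))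 (.leaf (17924316777238556018464494852824547517323137,68,6))) (.node (.leaf (13127818596899823601630248468615396366643265,51,1)) (.leaf (15669323927450597162978150873249467307402810,118,6)))) (.node (.node (.leaf (17341965987920651190497144943201123606958398,24,5)) (.leaf (14392294976604763309456915673325883480241750,105,1))) (.node (.leaf (19209147412044240749001889533120240831402867,9,6)) (.leaf (21050007012996101958008916836458753933926683,136,5))))) (.node (.node (.node (.node (.leaf (11150755832361368903158031579456903193425545,12,3)) (.leaf (13846089842320621325885063271500271753109505,271,264))) (.leaf (15697701964416999392899462745669636175300152,99,6))) (.node (.leaf (21554862368448082637688945562979987613077993,65,5)) (.leaf (14190071139674529651382281028838904489734961,128,1)))) (.node (.node (.leaf (17473928182402366391664087262970846890591833,36,1)) (.leaf (14412283869194323162108973769276655373567346,111,6))) (.node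 (.leaf (18392412677780250370559430135176933599211840,44,6)) (.leaf (19699773653226303015568896119279076859839448,6,246)))))) (.node (.node (.node (.node (.node (.leaf (11151543732246922179902421948862156748367587,13,1)) (.leaf (11712981960739098372997695200204620098969601,258,264))) (.leaf (16498205736338790513874562857017191765509083,88,6))) (.node (.leaf (13127578092962843688155921722372984303662755,56,1)) (.leaf (15440823292285155865444993327576160508719240,124,5)))) (.node (.node (.leaf (17471968813678893318712122231888468353085704,30,1)) (.leaf (15698749066447323124104513070605297117954483,108,6))) (.node (.leaf (17613100766365523663594683651036048435192689,27,6)) (.leaf (21762316686537842907541703797743990051754045,143,5))))) (.node (.node (.node (.node (.leaf (17342566707507635394620842009901528785499873,13,5)) (.leaf (20221725373851600451489034510067146036355073,279,264))) (.leaf (16628565201556875913390670525656007579754743,102,5)))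 (.node (.leaf (21555987308513850030862415261870128499655468,77,5)) (.leaf (16133880976854051246528187632592324980178992,131,5)))) (.node (.node (.leaf (14751025716727336050327234806382637033096979,45,5)) (.leaf (12414281086525092019953555181633766610753456,115,5))) (.node (.leaf (14243039537956662246158683972959331444822024,60,6)) (.leaf (11183050423431004980461433397760049255817217,254,5)))))))

noncomputable def sel3_1 : Tr (ℕ × ℕ × ℕ) := .node sel3_10 sel3_11

noncomputable def sel3_ : Tr (ℕ × ℕ × ℕ) := .node sel3_0 sel3_1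

noncomputable def orb3 : Orb := ⟨trio3_, roots3, sel3_, 288, 7, [(1,[288,0,1,7,8,9,10,11,12,13,14,15,3,16,17,18,19,20,21,22,23,24,25,26,5,27,28,29,30,31,32,33,34,35,36,37,38,39,40,41,42,44,45,46,47,48,49,50,51,52,53,54,55,56,57,58,59,60,61,62,63,64,65,66,67,68,69,70,71,72,73,74,75,76,77,78,79,80,81,82,83,84,85,86,87,88,89,90,91,92,93,94,95,96,97,98,6,99,100,101,102,103,104,105,106,107,108,109,110,111,112,113,114,115,116,117,118,119,120,121,122,123,124,125,126,127,128,129,130,131,132,133,134,135,136,137,138,139,140,141,142,143,144,145,146,147,148,149,150,151,152,153,154,155,156,157,158,159,160,161,162,163,164,165,166,167,168,169,170,171,172,173,174,175,176,177,178,179,180,181,182,183,184,185,186,187,188,189,190,191,192,193,194,195,196,197,198,199,200,201,202,203,204,205,206,207,208,209,210,211,212,213,214,215,216,217,218,219,220,221,222,223,224,225,226,227,228,229,230,231,232,233,234,235,236,237,238,239,240,241]),(2,[288,43]),(2048,[288,243,252,253,255,256,257,258,264,265,266,267,268,269,270,271,272,273,274,275,276,277,278,279,280,281,282,283,284,285,286,287])],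 32643072⟩

end Cfsg.Agent.Lib.J4Dce59.Data
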