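import Cfsg.Agent.Lib.J4Dce59.CoverRules

/-! # Generated data for the double coset enumeration (Orb4) -/

set_option autoImplicit false
set_option maxRecDepth 100000
set_option maxHeartbeats 0

namespace Cfsg.Agent.Lib.J4Dce59.Data

noncomputable def trio4_00000 : Tr TStep :=
  .node (.node (.node (.node (.node (.node (.node (.leaf (.root 0)) (.leaf (.up 5 425 [582] 1163 [57,55,89,209]))) (.node (.leaf (.up 3 1809 [573] 0 [87,42,161])) (.leaf (.up 4 2212 [579] 1163 [57,94,155,137])))) (.node (.node (.leaf (.up 4 2285 [573] 0 [88,55,103,200])) (.leaf (.up 4 1338 [579] 1163 [93,155,207]))) (.node (.leaf (.up 3 2909 [579] 1163 [88,110,116,77])) (.leaf (.up 5 1455 [582] 1163 [43,125]))))) (.node (.node (.node (.leaf (.up 4 1949 [573] 0 [88,55,123,204])) (.leaf (.up 4 1131 [573] 0 [23]))) (.node (.leaf (.up 2 1980 [578] 0 [93,123,9])) (.leaf (.up 4 2773 [591] 274 [57,27])))) (.node (.node (.leaf (.up 3 279 [581] 0 [88,94,202])) (.leaf (.up 4 2692 [579] 1163 [88,93,103,236])))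 (.leaf (.up 4 2776 [573] 0 [93,91,148]))))) (.node (.node (.node (.node (.leaf (.up 5 1383 [591] 274 [55,103,27])) (.leaf (.up 5 1547 [581] 0 [87,94,140,243]))) (.node (.leaf (.up 4 1811 [579] 1163 [57,94,104,113])) (.leaf (.up 4 2115 [573] 0 [57,56,90,146])))) (.node (.node (.leaf (.up 4 1736 [573] 0 [88,93,162])) (.leaf (.up 4 2637 [582] 1163 [57,110,104,170]))) (.node (.leaf (.up 2 801 [581] 0 [87,93,43,182])) (.leaf (.up 4 562 [591] 274 [87,110,89,141]))))) (.node (.node (.node (.leaf (.up 5 2686 [883] 1649 [88,55,44,167])) (.leaf (.up 4 2298 [573] 0 [57,94,116,138]))) (.node (.leaf (.up 4 2137 [573] 0 [57,94,91,173])) (.leaf (.up 6 2556 [580] 1163 [55,90,149])))) (.node (.node (.leaf (.up 4 424 [578] 0 [56,123,150])) (.leaf (.up 4 3518 [573] 0 [87,93,91,15]))) (.leaf (.up 5 1652 [580] 1163 [88,104,207])))))) (.node (.node (.node (.node (.node (.leaf (.up 5 2042 [591] 274 [56,176,144])) (.leaf (.up 4 3037 [581] 0 [57,56,42,95]))) (.node (.leaf (.up 2 1555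 [582] 1163 [140,182])) (.leaf (.up 4 789 [580] 1163 [88,93,123,149])))) (.node (.node (.leaf (.up 4 3022 [883] 1649 [110,89,144])) (.leaf (.up 3 3010 [573] 0 [93,42,187]))) (.node (.leaf (.up 4 3170 [578] 0 [87,56,91,7])) (.leaf (.up 4 1739 [581] 0 [94,155,120]))))) (.node (.node (.node (.leaf (.up 4 3312 [582] 1163 [94,116,65])) (.leaf (.up 4 2734 [582] 1163 [56,103,205]))) (.node (.leaf (.up 3 3331 [883] 1649 [87,110,10])) (.leaf (.up 5 2653 [591] 274 [88,56,103,178])))) (.node (.node (.leaf (.up 4 643 [591] 274 [57,155,166])) (.leaf (.up 5 2812 [580] 1163 [88,104,191]))) (.leaf (.up 4 664 [883] 1649 [88,56,44,100]))))) (.node (.node (.node (.node (.leaf (.up 3 542 [883] 1649 [57,94,116,154])) (.leaf (.up 5 735 [579] 1163 [55,44,101]))) (.node (.leaf (.up 3 140 [582] 1163 [87,89,192])) (.leaf (.up 4 1412 [581] 0 [88,56,155,1])))) (.node (.node (.leaf (.up 3 1816 [573] 0 [55,176,186])) (.leaf (.up 3 677 [579] 1163 [55,123,220]))) (.node (.leaf (.up 4 1612 [578]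 0 [87,93,176,205])) (.leaf (.up 6 1627 [883] 1649 [88,110,43,215]))))) (.node (.node (.node (.leaf (.up 3 962 [883] 1649 [88,110,104,11])) (.leaf (.up 2 1045 [591] 274 [87,93,104,46]))) (.node (.leaf (.up 3 3519 [582] 1163 [57,94,90,101])) (.leaf (.up 5 3377 [578] 0 [57,56,44,111])))) (.node (.node (.leaf (.up 4 2786 [579] 1163 [110,116,143])) (.leaf (.up 4 2773 [579] 1163 [55,91,168]))) (.leaf (.up 4 1277 [591] 274 [88,55,123,198]))))))) (.node (.node (.node (.node (.node (.node (.leaf (.up 4 1764 [573] 0 [176,146])) (.leaf (.up 5 1194 [582] 1163 [88,55,140,168]))) (.node (.leaf (.up 4 450 [582] 1163 [57,110,42,3])) (.leaf (.up 5 1163 [581] 0 [110,116,148])))) (.node (.node (.leaf (.up 4 1745 [581] 0 [57,93,89,77])) (.leaf (.up 5 538 [591] 274 [94,123,21]))) (.node (.leaf (.up 4 1925 [582] 1163 [93,221])) (.leaf (.up 4 658 [581] 0 [57,94,43,225]))))) (.node (.node (.node (.leaf (.up 3 1809 [883] 1649 [88,56,155,235])) (.leaf (.up 1 3 [591] 274 [55,176,177])))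 (.node (.leaf (.up 4 260 [582] 1163 [88,55,116,111])) (.leaf (.up 3 358 [883] 1649 [87,55,123,197])))) (.node (.node (.leaf (.up 5 1894 [582] 1163 [123,121])) (.leaf (.up 6 708 [883] 1649 [57,110,103,107]))) (.leaf (.up 4 1087 [580] 1163 [88,56,123,147]))))) (.node (.node (.node (.node (.leaf (.up 5 1886 [579] 1163 [90,239])) (.leaf (.up 4 3581 [573] 0 [57,94,43,188]))) (.node (.leaf (.up 5 1844 [573] 0 [88,93,123,150])) (.leaf (.up 4 2562 [579] 1163 [57,56,176,149])))) (.node (.node (.leaf (.up 3 542 [579] 1163 [88,56,44,111])) (.leaf (.up 4 3107 [573] 0 [57,93,155,15]))) (.node (.leaf (.up 3 29 [573] 0 [87,94,129])) (.leaf (.up 4 537 [580] 1163 [88,94,140,16]))))) (.node (.node (.node (.leaf (.up 3 1363 [578] 0 [88,55,103,184])) (.leaf (.up 4 2724 [580] 1163 [87,56,44,189]))) (.node (.leaf (.up 4 1279 [582] 1163 [57,110,44,154])) (.leaf (.up 3 3496 [582] 1163 [57,56,116,112])))) (.node (.node (.leaf (.up 5 3621 [573] 0 [57,55,90,131])) (.leaf (.up 5 2077 [578]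 0 [94,140,33]))) (.leaf (.up 4 3163 [579] 1163 [55,91,98])))))) (.node (.node (.node (.node (.node (.leaf (.up 5 3168 [591] 274 [88,123,247])) (.leaf (.up 5 1817 [581] 0 [94,91,218]))) (.node (.leaf (.up 4 3597 [582] 1163 [87,43,36])) (.leaf (.up 4 3734 [573] 0 [88,116,236])))) (.node (.node (.leaf (.up 3 388 [581] 0 [176,118])) (.leaf (.up 6 875 [883] 1649 [87,176,201]))) (.node (.leaf (.up 3 1545 [581] 0 [110,140,225])) (.leaf (.up 5 3764 [591] 274 [57,110,44,16]))))) (.node (.node (.node (.leaf (.up 5 369 [591] 274 [110,155,242])) (.leaf (.up 3 1545 [580] 1163 [57,94,123,145]))) (.node (.leaf (.up 3 2591 [580] 1163 [87,55,43,222])) (.leaf (.up 4 2692 [591] 274 [57,94,104,186])))) (.node (.node (.leaf (.up 4 424 [579] 1163 [94,90,7])) (.leaf (.up 5 1163 [573] 0 [57,94,201]))) (.leaf (.up 4 507 [578] 0 [57,42,163]))))) (.node (.node (.node (.node (.leaf (.up 4 1437 [573] 0 [57,94,176,164])) (.leaf (.up 5 3181 [580] 1163 [57,93,140,96]))) (.node (.leaf (.up 3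 1664 [573] 0 [87,94,89,8])) (.leaf (.up 4 2230 [580] 1163 [87,116])))) (.node (.node (.leaf (.up 4 2149 [578] 0 [57,94,89,228])) (.leaf (.up 4 3632 [581] 0 [87,55,116,200]))) (.leaf (.up 3 3579 [573] 0 [88,110,104,219])))) (.node (.node (.node (.leaf (.up 4 330 [591] 274 [42,77])) (.leaf (.up 3 3012 [883] 1649 [57,93,91,101]))) (.node (.leaf (.up 4 2467 [580] 1163 [110,140,209])) (.leaf (.up 3 3750 [591] 274 [57,94,155,234])))) (.node (.node (.leaf (.up 5 315 [581] 0 [88,55,176,171])) (.leaf (.up 5 2279 [579] 1163 [88,94,140,75]))) (.leaf (.up 5 1721 [573] 0 [87,56,104,170])))))))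

noncomputable def trio4_00001 : Tr TStep :=
  .node (.node (.node (.node (.node (.node (.node (.leaf (.up 5 1880 [581] 0 [88,110,43,35])) (.leaf (.up 5 2531 [573] 0 [87,94,43,234]))) (.node (.leaf (.up 3 1083 [581] 0 [88,43,180])) (.leaf (.up 4 2625 [578] 0 [88,93,155,22])))) (.node (.node (.leaf (.up 5 3660 [883] 1649 [88,43,157])) (.leaf (.up 3 1618 [580] 1163 [57,94,123,162]))) (.node (.leaf (.up 3 3357 [581] 0 [88,55,43,29])) (.leaf (.up 4 2170 [591] 274 [87,55,155,225]))))) (.node (.node (.node (.leaf (.up 4 1665 [581] 0 [87,56,116,164])) (.leaf (.up 4 3276 [573] 0 [88,110,91,1]))) (.node (.leaf (.up 4 104 [580] 1163 [56,176,246])) (.leaf (.up 4 3037 [573] 0 [87,56,43,132])))) (.node (.node (.leaf (.up 4 1993 [883] 1649 [87,110,103,8])) (.leaf (.up 4 1938 [591] 274 [87,94,123,211]))) (.leaf (.up 5 2054 [582] 1163 [88,91,21]))))) (.node (.node (.node (.node (.leaf (.up 4 61 [883] 1649 [57,94,116,203])) (.leaf (.up 5 2926 [573] 0 [110,103,198]))) (.node (.leaf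 (.up 3 2268 [573] 0 [55,123,203])) (.leaf (.up 3 94 [580] 1163 [57,56,176,219])))) (.node (.node (.leaf (.up 5 2701 [883] 1649 [57,93,89,6])) (.leaf (.up 4 458 [582] 1163 [110,43,167]))) (.node (.leaf (.up 5 466 [581] 0 [88,55,221])) (.leaf (.up 5 1570 [579] 1163 [57,94,116,186]))))) (.node (.node (.node (.leaf (.up 4 1237 [573] 0 [88,56,42,218])) (.leaf (.up 4 204 [578] 0 [88,55,140,108]))) (.node (.leaf (.up 4 1208 [883] 1649 [88,94,42,76])) (.leaf (.up 5 1444 [591] 274 [57,94,42,107])))) (.node (.node (.leaf (.up 4 1991 [573] 0 [87,94,116,97])) (.leaf (.up 5 1178 [581] 0 [55,116,192]))) (.leaf (.up 4 2188 [580] 1163 [87,56,91,186])))))) (.node (.node (.node (.node (.node (.leaf (.up 2 884 [580] 1163 [88,104,196])) (.leaf (.up 3 2496 [580] 1163 [88,94,123,0]))) (.node (.leaf (.up 5 85 [580] 1163 [110,103,27])) (.leaf (.up 2 801 [591] 274 [94,90,181])))) (.node (.node (.leaf (.up 3 120 [581] 0 [88,93,89,1])) (.leaf (.up 4 2694 [581] 0 [88,93,116,150]))) (.node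 (.leaf (.up 4 1642 [579] 1163 [57,94,91,144])) (.leaf (.up 4 3257 [582] 1163 [57,55,90,36]))))) (.node (.node (.node (.leaf (.up 5 963 [591] 274 [87,155,178])) (.leaf (.up 5 3441 [883] 1649 [88,55,89,218]))) (.node (.leaf (.up 3 1134 [591] 274 [56,42,8])) (.leaf (.up 4 288 [581] 0 [88,93,43,132])))) (.node (.node (.leaf (.up 4 1426 [591] 274 [87,43,60])) (.leaf (.up 3 1896 [582] 1163 [87,110,134]))) (.leaf (.up 3 94 [578] 0 [87,55,103,12]))))) (.node (.node (.node (.node (.leaf (.up 5 357 [883] 1649 [88,93,43])) (.leaf (.up 4 1281 [582] 1163 [57,140,211]))) (.node (.leaf (.up 3 3579 [582] 1163 [88,93,140,130])) (.leaf (.up 4 1105 [582] 1163 [90,97])))) (.node (.node (.leaf (.up 6 122 [591] 274 [57,94,123,35])) (.leaf (.up 5 281 [579] 1163 [57,140,108]))) (.node (.leaf (.up 4 2864 [582] 1163 [88,110,104,109])) (.leaf (.up 4 1317 [581] 0 [57,89,46]))))) (.node (.node (.node (.leaf (.up 3 3085 [883] 1649 [94,123,243])) (.leaf (.up 4 3257 [579] 1163 [87,56,90,99])))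 (.node (.leaf (.up 5 1093 [581] 0 [57,43,153])) (.leaf (.up 5 3377 [573] 0 [88,93,116,65])))) (.node (.node (.leaf (.up 4 2799 [582] 1163 [57,56,89,213])) (.leaf (.up 4 1805 [573] 0 [88,55,43,96]))) (.leaf (.up 4 1607 [579] 1163 [57,56,42,209]))))))) (.node (.node (.node (.node (.node (.node (.leaf (.up 4 2364 [591] 274 [57,55,42,159])) (.leaf (.up 4 1323 [581] 0 [93,44,217]))) (.node (.leaf (.up 4 276 [573] 0 [57,110,116,242])) (.leaf (.up 3 3789 [573] 0 [87,110,91,144])))) (.node (.node (.leaf (.up 5 3050 [883] 1649 [94,42,108])) (.leaf (.up 3 1013 [581] 0 [57,110,123,108]))) (.node (.leaf (.up 2 3788 [579] 1163 [88,110,140,219])) (.leaf (.up 3 1326 [582] 1163 [57,110,43,113]))))) (.node (.node (.node (.leaf (.up 5 3259 [573] 0 [88,55,176,105])) (.leaf (.up 5 2070 [573] 0 [88,90,211]))) (.node (.leaf (.up 5 1558 [580] 1163 [88,93,176])) (.leaf (.up 6 2741 [580] 1163 [57,110,176,105])))) (.node (.node (.leaf (.up 5 1135 [579] 1163 [88,110,103,61])) (.leaf (.up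 3 2299 [580] 1163 [57,55,89,213]))) (.leaf (.up 4 2692 [573] 0 [88,55,116,226]))))) (.node (.node (.node (.node (.leaf (.up 5 98 [591] 274 [57,56,155,159])) (.leaf (.up 4 3120 [591] 274 [94,44,223]))) (.node (.leaf (.up 5 163 [579] 1163 [57,56,43,244])) (.leaf (.up 4 768 [573] 0 [89,201])))) (.node (.node (.leaf (.up 5 1027 [579] 1163 [87,94,140,198])) (.leaf (.up 5 3682 [883] 1649 [87,55,116,95]))) (.node (.leaf (.up 4 3465 [573] 0 [57,55,119])) (.leaf (.up 5 3024 [579] 1163 [57,94,44,244]))))) (.node (.node (.node (.leaf (.up 4 706 [579] 1163 [87,93,90,65])) (.leaf (.up 4 2987 [579] 1163 [87,55,91,117]))) (.node (.leaf (.up 5 3442 [581] 0 [87,93,89,36])) (.leaf (.up 4 2564 [578] 0 [87,176,226])))) (.node (.node (.leaf (.up 3 2777 [581] 0 [87,56,104,227])) (.leaf (.up 4 330 [883] 1649 [56,155,220]))) (.leaf (.up 5 2602 [578] 0 [87,55,116,195])))))) (.node (.node (.node (.node (.node (.leaf (.up 3 373 [580] 1163 [57,110,91,198])) (.leaf (.up 4 3369 [591] 274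 [88,94,44,27]))) (.node (.leaf (.up 4 68 [581] 0 [88,93,89,128])) (.leaf (.up 3 56 [578] 0 [57,55,123,198])))) (.node (.node (.leaf (.up 4 1895 [581] 0 [94,155,77])) (.leaf (.up 4 1486 [580] 1163 [88,93,155,230]))) (.node (.leaf (.up 5 1095 [579] 1163 [88,55,140,71])) (.leaf (.up 4 2220 [582] 1163 [88,93,89,10]))))) (.node (.node (.node (.leaf (.up 4 1103 [578] 0 [57,110,20])) (.leaf (.up 3 2674 [591] 274 [87,94,43,29]))) (.node (.leaf (.up 4 1801 [573] 0 [87,110,43,152])) (.leaf (.up 3 94 [883] 1649 [56,123,136])))) (.node (.node (.leaf (.up 4 3166 [591] 274 [87,93,123,114])) (.leaf (.up 3 29 [581] 0 [87,56,116,243]))) (.leaf (.up 4 3711 [578] 0 [87,55,90,241]))))) (.node (.node (.node (.node (.leaf (.up 5 85 [591] 274 [87,56,103,150])) (.leaf (.up 3 151 [581] 0 [88,56,104,217]))) (.node (.leaf (.up 4 3440 [580] 1163 [57,56,42,46])) (.leaf (.up 3 3012 [591] 274 [88,55,44,97])))) (.node (.node (.leaf (.up 2 1980 [580] 1163 [57,94,42,147])) (.leaf (.up 4 270 [883]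 1649 [93,116,156]))) (.leaf (.up 3 373 [579] 1163 [87,93,103,22])))) (.node (.node (.node (.leaf (.up 5 1899 [581] 0 [87,94,123,8])) (.leaf (.up 5 328 [580] 1163 [94,123,121]))) (.node (.leaf (.up 3 282 [581] 0 [88,56,90,208])) (.leaf (.up 6 3173 [591] 274 [87,110,44,74])))) (.node (.node (.leaf (.up 5 967 [579] 1163 [93,103,245])) (.leaf (.up 3 2201 [582] 1163 [88,56,44,164]))) (.leaf (.up 4 3552 [582] 1163 [87,55,140,213])))))))

noncomputable def trio4_0000 : Tr TStep := .node trio4_00000 trio4_00001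

noncomputable def trio4_00010 : Tr TStep :=
  .node (.node (.node (.node (.node (.node (.node (.leaf (.up 4 2248 [578] 0 [57,55,176,46])) (.leaf (.up 5 2918 [573] 0 [57,93,91,214]))) (.node (.leaf (.up 3 775 [581] 0 [57,65])) (.leaf (.up 3 894 [591] 274 [88,93,103,234])))) (.node (.node (.leaf (.up 4 613 [580] 1163 [94,89,177])) (.leaf (.up 5 1867 [883] 1649 [88,56,42,165]))) (.node (.leaf (.up 5 3770 [581] 0 [57,93,176,185])) (.leaf (.up 4 552 [582] 1163 [44,105]))))) (.node (.node (.node (.leaf (.up 4 2248 [582] 1163 [88,55,123,236])) (.leaf (.up 4 248 [582] 1163 [87,56,89,92]))) (.node (.leaf (.up 3 738 [883] 1649 [88,55,42,97])) (.leaf (.up 5 147 [581] 0 [87,56,44,112])))) (.node (.node (.leaf (.up 4 814 [573] 0 [88,91,34])) (.leaf (.up 5 1804 [579] 1163 [88,110,207]))) (.leaf (.up 2 1645 [591] 274 [55,91,120]))))) (.node (.node (.node (.node (.leaf (.up 2 1980 [883] 1649 [57,55,91,194])) (.leaf (.up 4 1033 [591] 274 [88,94,116,99]))) (.node (.leaf (.up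 4 1171 [582] 1163 [57,104,216])) (.leaf (.up 4 1321 [581] 0 [88,90,172])))) (.node (.node (.leaf (.up 5 583 [581] 0 [57,56,140,211])) (.leaf (.up 4 1345 [591] 274 [87,93,44,182]))) (.node (.leaf (.up 4 2104 [591] 274 [55,91,189])) (.leaf (.up 4 789 [578] 0 [57,90,179]))))) (.node (.node (.node (.leaf (.up 4 1360 [578] 0 [94,140,29])) (.leaf (.up 4 1783 [580] 1163 [88,56,176,208]))) (.node (.leaf (.up 4 1801 [582] 1163 [87,93,44,36])) (.leaf (.up 4 552 [580] 1163 [87,94,44,239])))) (.node (.node (.leaf (.up 4 814 [883] 1649 [88,93,89,77])) (.leaf (.up 3 2489 [579] 1163 [87,55,104,194]))) (.leaf (.up 4 1926 [883] 1649 [57,56,155,201])))))) (.node (.node (.node (.node (.node (.leaf (.up 4 3542 [573] 0 [90,183])) (.leaf (.up 5 152 [579] 1163 [57,94,90,154]))) (.node (.leaf (.up 4 635 [883] 1649 [88,110,104,162])) (.leaf (.up 4 2930 [883] 1649 [57,103,248])))) (.node (.node (.leaf (.up 5 1341 [581] 0 [57,110,155,244])) (.leaf (.up 4 1223 [581] 0 [57,110,140,244])))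 (.node (.leaf (.up 4 941 [883] 1649 [44,185])) (.leaf (.up 4 1619 [883] 1649 [57,55,43,209]))))) (.node (.node (.node (.leaf (.up 4 1172 [591] 274 [57,93,155,134])) (.leaf (.up 5 3117 [573] 0 [94,140,65]))) (.node (.leaf (.up 2 1085 [580] 1163 [110,116,7])) (.leaf (.up 5 1761 [591] 274 [87,176,150])))) (.node (.node (.leaf (.up 4 3170 [573] 0 [88,110,221])) (.leaf (.up 2 93 [582] 1163 [94,44,190]))) (.leaf (.up 4 2314 [573] 0 [123,178]))))) (.node (.node (.node (.node (.leaf (.up 4 2035 [883] 1649 [87,55,123,244])) (.leaf (.up 3 2278 [883] 1649 [110,42,16]))) (.node (.leaf (.up 4 2655 [578] 0 [94,103,183])) (.leaf (.up 4 1437 [579] 1163 [88,94,103,124])))) (.node (.node (.leaf (.up 5 1098 [581] 0 [88,93,176,239])) (.leaf (.up 4 3224 [591] 274 [93,89,96]))) (.node (.leaf (.up 3 1924 [582] 1163 [57,110,103,25])) (.leaf (.up 5 3449 [573] 0 [88,56,123,99]))))) (.node (.node (.node (.leaf (.up 3 1643 [578] 0 [57,55,104,196])) (.leaf (.up 3 2299 [883] 1649 [57,56,43,167])))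 (.node (.leaf (.up 5 2732 [582] 1163 [88,55,108])) (.leaf (.up 3 1809 [578] 0 [87,94,44,147])))) (.node (.node (.leaf (.up 4 906 [573] 0 [57,93,44,151])) (.leaf (.up 5 2938 [582] 1163 [57,110,0]))) (.leaf (.up 5 967 [581] 0 [57,56,155,206]))))))) (.node (.node (.node (.node (.node (.node (.leaf (.up 5 3140 [580] 1163 [88,94,155])) (.leaf (.up 5 215 [578] 0 [88,94,155,183]))) (.node (.leaf (.up 4 3257 [573] 0 [93,140,208])) (.leaf (.up 2 3586 [573] 0 [87,93,155,191])))) (.node (.node (.leaf (.up 3 1482 [883] 1649 [87,94,140,20])) (.leaf (.up 4 2482 [579] 1163 [87,56,89,213]))) (.node (.leaf (.up 6 1429 [883] 1649 [57,55,42,148])) (.leaf (.up 5 548 [582] 1163 [88,110,116,201]))))) (.node (.node (.node (.leaf (.up 4 2426 [883] 1649 [88,94,91,96])) (.leaf (.up 4 1950 [580] 1163 [57,55,155,15]))) (.node (.leaf (.up 4 335 [573] 0 [57,55,104,215])) (.leaf (.up 4 2292 [578] 0 [57,56,89,22])))) (.node (.node (.leaf (.up 4 3431 [591] 274 [57,110,103,59])) (.leaf (.up 2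 3788 [573] 0 [87,55,44,95]))) (.leaf (.up 4 1874 [579] 1163 [57,93,89,71]))))) (.node (.node (.node (.node (.leaf (.up 3 2781 [591] 274 [87,94,44,150])) (.leaf (.up 4 344 [883] 1649 [57,110,140,239]))) (.node (.leaf (.up 3 2781 [580] 1163 [57,93,104,6])) (.leaf (.up 4 248 [578] 0 [57,110,43,152])))) (.node (.node (.leaf (.up 4 906 [582] 1163 [88,55,103,228])) (.leaf (.up 3 3575 [581] 0 [57,93,123,162]))) (.node (.leaf (.up 4 1741 [582] 1163 [87,94,104,71])) (.leaf (.up 6 709 [883] 1649 [87,55,155,75]))))) (.node (.node (.node (.leaf (.up 3 2892 [579] 1163 [57,56,42,192])) (.leaf (.up 5 3702 [573] 0 [87,42,100]))) (.node (.leaf (.up 3 12 [573] 0 [87,94,91,156])) (.leaf (.up 2 807 [883] 1649 [57,42,134])))) (.node (.node (.leaf (.up 4 3665 [581] 0 [87,55,43,139])) (.leaf (.up 4 2115 [581] 0 [88,55,89,230]))) (.leaf (.up 4 1169 [591] 274 [93,123,0])))))) (.node (.node (.node (.node (.node (.leaf (.up 3 309 [580] 1163 [88,94,103,108])) (.leaf (.up 4 1892 [883] 1649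 [88,55,91,101]))) (.node (.leaf (.up 4 1378 [579] 1163 [57,93,43,248])) (.leaf (.up 3 675 [582] 1163 [56,90,161])))) (.node (.node (.leaf (.up 4 1954 [591] 274 [57,94,140,224])) (.leaf (.up 4 1518 [591] 274 [93,116,212]))) (.node (.leaf (.up 2 92 [581] 0 [55,189])) (.leaf (.up 3 2777 [582] 1163 [57,56,44,187]))))) (.node (.node (.node (.leaf (.up 5 2262 [591] 274 [57,56,104,184])) (.leaf (.up 4 1758 [579] 1163 [87,55,42,72]))) (.node (.leaf (.up 6 2133 [883] 1649 [94,123,198])) (.leaf (.up 4 3688 [582] 1163 [57,94,155,1])))) (.node (.node (.leaf (.up 4 751 [582] 1163 [88,94,43,96])) (.leaf (.up 4 516 [582] 1163 [87,94,104,183]))) (.leaf (.up 2 3586 [591] 274 [87,55,155,147]))))) (.node (.node (.node (.node (.leaf (.up 4 441 [582] 1163 [88,94,44,156])) (.leaf (.up 5 1841 [883] 1649 [88,56,140,109]))) (.node (.leaf (.up 4 3158 [883] 1649 [87,94,123,148])) (.leaf (.up 2 2555 [883] 1649 [87,110,103,224])))) (.node (.node (.leaf (.up 4 1172 [582] 1163 [88,55,75]))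 (.leaf (.up 6 3598 [883] 1649 [87,56,123,6]))) (.leaf (.up 6 2929 [883] 1649 [55,230])))) (.node (.node (.node (.leaf (.up 4 2055 [580] 1163 [88,94,90,179])) (.leaf (.up 3 1447 [883] 1649 [88,116,149]))) (.node (.leaf (.up 2 807 [580] 1163 [88,56,42,4])) (.leaf (.up 3 1640 [580] 1163 [87,110,43,131])))) (.node (.node (.leaf (.up 4 300 [578] 0 [57,91,151])) (.leaf (.up 4 1087 [578] 0 [88,110,171]))) (.leaf (.up 4 3222 [578] 0 [93,140,239])))))))

noncomputable def trio4_00011 : Tr TStep :=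
  .node (.node (.node (.node (.node (.node (.node (.leaf (.up 4 1353 [573] 0 [110,44,222])) (.leaf (.up 5 31 [573] 0 [57,110,140,170]))) (.node (.leaf (.up 3 1896 [580] 1163 [87,55,103,59])) (.leaf (.up 5 2603 [578] 0 [57,56,140,246])))) (.node (.node (.leaf (.up 5 98 [581] 0 [110,116,96])) (.leaf (.up 4 1033 [573] 0 [87,93,90,244]))) (.node (.leaf (.up 3 2591 [581] 0 [88,110,90,196])) (.leaf (.up 3 358 [573] 0 [57,56,103,138]))))) (.node (.node (.node (.leaf (.up 6 141 [578] 0 [176,138])) (.leaf (.up 6 826 [883] 1649 [87,93,91,101]))) (.node (.leaf (.up 4 2156 [582] 1163 [57,94,42,109])) (.leaf (.up 3 2596 [578] 0 [88,94,89,18])))) (.node (.node (.leaf (.up 4 844 [581] 0 [87,91,174])) (.leaf (.up 3 136 [883] 1649 [55,104,191]))) (.leaf (.up 2 2813 [579] 1163 [87,94,89,142]))))) (.node (.node (.node (.node (.leaf (.up 4 1281 [883] 1649 [110,42,11])) (.leaf (.up 4 2840 [581] 0 [57,90,138]))) (.node (.leaf (.up 4 2576 [591] 274 [88,56,104,59])) (.leaf (.up 3 2299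 [582] 1163 [87,110,116,161])))) (.node (.node (.leaf (.up 3 1618 [579] 1163 [56,116,71])) (.leaf (.up 4 1246 [573] 0 [57,55,123,111]))) (.node (.leaf (.up 4 1381 [578] 0 [57,55,89,224])) (.leaf (.up 4 1603 [591] 274 [87,110,91,109]))))) (.node (.node (.node (.leaf (.up 4 1778 [573] 0 [57,110,176,98])) (.leaf (.up 5 2984 [579] 1163 [88,94,147]))) (.node (.leaf (.up 4 1472 [581] 0 [87,110,104,111])) (.leaf (.up 5 1178 [578] 0 [57,110,140,36])))) (.node (.node (.leaf (.up 5 3571 [578] 0 [94,42,156])) (.leaf (.up 4 344 [581] 0 [87,43,97]))) (.leaf (.up 5 716 [573] 0 [57,94,42,34])))))) (.node (.node (.node (.node (.node (.leaf (.up 4 3433 [579] 1163 [88,93,104,236])) (.leaf (.up 4 1068 [579] 1163 [88,123,144]))) (.node (.leaf (.up 5 3533 [579] 1163 [110,103,214])) (.leaf (.up 4 646 [578] 0 [56,103,11])))) (.node (.node (.leaf (.up 5 2334 [582] 1163 [57,94,89,204])) (.leaf (.up 4 1778 [580] 1163 [91,235]))) (.node (.leaf (.up 3 1326 [579] 1163 [87,55,43,202])) (.leaf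 (.up 4 2285 [582] 1163 [87,94,155]))))) (.node (.node (.node (.leaf (.up 3 2254 [580] 1163 [55,103,158])) (.leaf (.up 4 1524 [580] 1163 [87,55,116,166]))) (.node (.leaf (.up 4 1198 [883] 1649 [57,93,234])) (.leaf (.up 5 523 [579] 1163 [110,91,124])))) (.node (.node (.leaf (.up 6 2797 [578] 0 [87,56,43,211])) (.leaf (.up 4 112 [580] 1163 [87,110,103,100]))) (.leaf (.up 4 2314 [883] 1649 [87,56,89,129]))))) (.node (.node (.node (.node (.leaf (.up 4 1524 [578] 0 [57,56,44,18])) (.leaf (.up 4 1673 [591] 274 [57,94,91,126]))) (.node (.leaf (.up 4 1279 [581] 0 [87,56,90,59])) (.leaf (.up 3 3766 [579] 1163 [57,103,102])))) (.node (.node (.leaf (.up 3 1643 [580] 1163 [87,110,200])) (.leaf (.up 3 2254 [573] 0 [56,103,100]))) (.leaf (.up 5 1408 [591] 274 [87,56,104,210])))) (.node (.node (.node (.leaf (.up 4 3438 [883] 1649 [55,218])) (.leaf (.up 5 3183 [591] 274 [88,55,123,247]))) (.node (.leaf (.up 5 428 [580] 1163 [88,56,123,11])) (.leaf (.up 5 3245 [581] 0 [87,55,116,113]))))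 (.node (.node (.leaf (.up 5 1899 [579] 1163 [57,155,165])) (.leaf (.up 6 1544 [883] 1649 [87,93,44,46]))) (.leaf (.up 5 2407 [578] 0 [87,94,238]))))))) (.node (.node (.node (.node (.node (.node (.leaf (.up 2 1922 [573] 0 [57,116,61])) (.leaf (.up 3 3575 [582] 1163 [87,94,116,201]))) (.node (.leaf (.up 4 2930 [591] 274 [93,155,246])) (.leaf (.up 3 3579 [580] 1163 [57,56,116,229])))) (.node (.node (.leaf (.up 4 1498 [883] 1649 [57,56,103,245])) (.leaf (.up 5 2835 [581] 0 [88,110,91,170]))) (.node (.leaf (.up 4 1197 [578] 0 [87,94,176,34])) (.leaf (.up 4 1099 [883] 1649 [56,89,9]))))) (.node (.node (.node (.leaf (.up 5 1725 [573] 0 [94,91,22])) (.leaf (.up 4 2843 [883] 1649 [88,55,91,37]))) (.node (.leaf (.up 4 2845 [581] 0 [87,55,44,156])) (.leaf (.up 4 1619 [573] 0 [57,93,123,219])))) (.node (.node (.leaf (.up 4 2501 [573] 0 [88,55,176,195])) (.leaf (.up 5 66 [883] 1649 [57,94,135]))) (.leaf (.up 3 1644 [578] 0 [140,12]))))) (.node (.node (.node (.node (.leaf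 (.up 4 1708 [582] 1163 [55,116,100])) (.leaf (.up 4 2504 [573] 0 [87,43,121]))) (.node (.leaf (.up 3 1292 [579] 1163 [55,123,172])) (.leaf (.up 4 2814 [581] 0 [88,119])))) (.node (.node (.leaf (.up 4 1223 [579] 1163 [87,56,140,22])) (.leaf (.up 4 3605 [580] 1163 [57,56,42,223]))) (.node (.leaf (.up 5 3424 [581] 0 [88,110,116,221])) (.leaf (.up 5 2926 [579] 1163 [94,103,13]))))) (.node (.node (.node (.leaf (.up 5 1883 [581] 0 [88,93,123,228])) (.leaf (.up 5 628 [582] 1163 [87,110,89,125]))) (.node (.leaf (.up 2 1922 [883] 1649 [88,94,89,157])) (.leaf (.up 5 2041 [573] 0 [88,123,169])))) (.node (.node (.leaf (.up 4 946 [591] 274 [87,55,91,222])) (.leaf (.up 4 2156 [573] 0 [88,42,96]))) (.leaf (.up 3 3085 [578] 0 [88,55,155,201])))))) (.node (.node (.node (.node (.node (.leaf (.up 2 3517 [883] 1649 [87,94,123,36])) (.leaf (.up 4 944 [578] 0 [88,56,104,111]))) (.node (.leaf (.up 5 3144 [580] 1163 [57,56,42,202])) (.leaf (.up 3 1584 [580] 1163 [56,90,20])))) (.node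 (.node (.leaf (.up 5 425 [883] 1649 [57,94,91,193])) (.leaf (.up 6 1206 [883] 1649 [88,103,34]))) (.node (.leaf (.up 5 1137 [579] 1163 [88,104,146])) (.leaf (.up 4 305 [883] 1649 [56,90,222]))))) (.node (.node (.node (.leaf (.up 4 3597 [591] 274 [87,110,140,166])) (.leaf (.up 4 1490 [578] 0 [88,55,140,199]))) (.node (.leaf (.up 4 2486 [591] 274 [88,56,223])) (.leaf (.up 3 1352 [581] 0 [87,94,140,95])))) (.node (.node (.leaf (.up 3 1644 [573] 0 [140,107])) (.leaf (.up 3 309 [582] 1163 [55,42,151]))) (.leaf (.up 4 441 [573] 0 [87,56,43,72]))))) (.node (.node (.node (.node (.leaf (.up 3 1006 [573] 0 [88,110,176,149])) (.leaf (.up 4 1022 [883] 1649 [56,176,240]))) (.node (.leaf (.up 4 1950 [573] 0 [87,110,89,114])) (.leaf (.up 4 2886 [883] 1649 [87,110,231])))) (.node (.node (.leaf (.up 4 3528 [582] 1163 [57,89,37])) (.leaf (.up 6 2252 [582] 1163 [88,55,176,237]))) (.leaf (.up 4 3369 [582] 1163 [87,110,140])))) (.node (.node (.node (.leaf (.up 4 300 [883] 1649 [87,94,140,237]))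 (.leaf (.up 4 686 [581] 0 [57,55,106]))) (.node (.leaf (.up 3 1134 [883] 1649 [87,55,176,126])) (.leaf (.up 4 450 [573] 0 [57,56,91,201])))) (.node (.node (.leaf (.up 4 3229 [582] 1163 [57,94,103,141])) (.leaf (.up 5 769 [582] 1163 [57,116,127]))) (.leaf (.up 5 3097 [883] 1649 [94,140,194])))))))

noncomputable def trio4_0001 : Tr TStep := .node trio4_00010 trio4_00011

noncomputable def trio4_000 : Tr TStep := .node trio4_0000 trio4_0001

noncomputable def trio4_00100 : Tr TStep :=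
  .node (.node (.node (.node (.node (.node (.node (.leaf (.up 5 1737 [580] 1163 [87,94,90,16])) (.leaf (.up 4 53 [573] 0 [56,176,182]))) (.node (.leaf (.up 4 1866 [581] 0 [87,94,116,231])) (.leaf (.up 5 3709 [573] 0 [55,198])))) (.node (.node (.leaf (.up 3 1664 [591] 274 [110,89,147])) (.leaf (.up 3 1618 [582] 1163 [56,123,113]))) (.node (.leaf (.up 4 831 [591] 274 [57,94,155,106])) (.leaf (.up 4 2994 [883] 1649 [88,94,89,175]))))) (.node (.node (.node (.leaf (.up 3 3750 [580] 1163 [57,56,91,217])) (.leaf (.up 4 2752 [582] 1163 [57,94,116,111]))) (.node (.leaf (.up 3 675 [580] 1163 [87,94,43,0])) (.leaf (.up 3 3575 [578] 0 [57,44,22])))) (.node (.node (.leaf (.up 4 2159 [591] 274 [88,110,91,16])) (.leaf (.up 4 1819 [591] 274 [88,110,219]))) (.leaf (.up 4 1567 [883] 1649 [57,103,125]))))) (.node (.node (.node (.node (.leaf (.up 3 3444 [581] 0 [57,55,91,12])) (.leaf (.up 4 3025 [580] 1163 [176,3]))) (.node (.leaf (.up 4 2170 [573] 0 [94,42,160])) (.leaf (.up 4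 2248 [579] 1163 [87,56,155,152])))) (.node (.node (.leaf (.up 5 3670 [579] 1163 [104,113])) (.leaf (.up 3 2198 [883] 1649 [88,93,197]))) (.node (.leaf (.up 5 1942 [582] 1163 [57,93,90,69])) (.leaf (.up 4 1154 [579] 1163 [57,110,91,216]))))) (.node (.node (.node (.leaf (.up 2 1045 [573] 0 [88,94,122])) (.leaf (.up 4 1612 [582] 1163 [57,94,89,118]))) (.node (.leaf (.up 3 701 [591] 274 [88,56,104,178])) (.leaf (.up 4 3322 [883] 1649 [88,94,116,228])))) (.node (.node (.leaf (.up 3 1545 [573] 0 [110,140,8])) (.leaf (.up 4 1302 [578] 0 [88,93,90,106]))) (.leaf (.up 2 1655 [573] 0 [110,91,189])))))) (.node (.node (.node (.node (.node (.leaf (.up 3 1013 [579] 1163 [57,55,44,186])) (.leaf (.up 5 2113 [581] 0 [155,101]))) (.node (.leaf (.up 5 2216 [579] 1163 [57,44,121])) (.leaf (.up 4 1185 [582] 1163 [56,89,113])))) (.node (.node (.leaf (.up 4 3224 [573] 0 [57,56,155,149])) (.leaf (.up 5 865 [883] 1649 [57,93,91,151]))) (.node (.leaf (.up 4 3633 [579] 1163 [87,89,230]))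 (.leaf (.up 5 2812 [591] 274 [104,61]))))) (.node (.node (.node (.leaf (.up 5 498 [581] 0 [87,56,44,7])) (.leaf (.up 4 342 [883] 1649 [55,116,229]))) (.node (.leaf (.up 4 1344 [573] 0 [57,43,143])) (.leaf (.up 5 1614 [580] 1163 [87,44,130])))) (.node (.node (.leaf (.up 4 2595 [591] 274 [57,56,123,207])) (.leaf (.up 4 68 [582] 1163 [110,103,200]))) (.leaf (.up 4 592 [883] 1649 [57,94,44,182]))))) (.node (.node (.node (.node (.leaf (.up 5 2586 [883] 1649 [88,93,91,230])) (.leaf (.up 4 874 [581] 0 [87,43,205]))) (.node (.leaf (.up 4 3257 [581] 0 [88,93,213])) (.leaf (.up 4 1009 [580] 1163 [87,55,103,206])))) (.node (.node (.leaf (.up 5 1035 [581] 0 [88,56,123,1])) (.leaf (.up 4 3253 [883] 1649 [57,94,123,233]))) (.node (.leaf (.up 4 3401 [580] 1163 [57,93,123,114])) (.leaf (.up 3 1584 [581] 0 [87,103,122]))))) (.node (.node (.node (.leaf (.up 4 75 [581] 0 [87,110,103,198])) (.leaf (.up 5 357 [581] 0 [88,94,176,242]))) (.node (.leaf (.up 6 2790 [883] 1649 [87,56,90,203]))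 (.leaf (.up 4 2928 [573] 0 [57,110,155,113])))) (.node (.node (.leaf (.up 4 1075 [582] 1163 [88,56,42,31])) (.leaf (.up 2 322 [582] 1163 [57,93,89,210]))) (.leaf (.up 4 168 [580] 1163 [87,159]))))))) (.node (.node (.node (.node (.node (.node (.leaf (.up 6 347 [883] 1649 [110,89,187])) (.leaf (.up 4 2952 [582] 1163 [88,56,44,125]))) (.node (.leaf (.up 4 3485 [573] 0 [88,55,176,152])) (.leaf (.up 5 2683 [883] 1649 [87,110,155,2])))) (.node (.node (.leaf (.up 4 717 [573] 0 [57,90,201])) (.leaf (.up 2 322 [883] 1649 [88,176,226]))) (.node (.leaf (.up 5 3709 [581] 0 [57,93,43,192])) (.leaf (.up 4 857 [578] 0 [88,94,104,223]))))) (.node (.node (.node (.leaf (.up 5 2627 [573] 0 [94,43,138])) (.leaf (.up 4 550 [581] 0 [87,110,90,118]))) (.node (.leaf (.up 5 1210 [580] 1163 [88,55,90,222])) (.leaf (.up 4 45 [883] 1649 [87,93,155,241])))) (.node (.node (.leaf (.up 4 682 [579] 1163 [87,176,33])) (.leaf (.up 5 867 [578] 0 [110,104,206]))) (.leaf (.up 4 2642 [573] 0 [87,56,103,160])))))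 (.node (.node (.node (.node (.leaf (.up 4 2655 [883] 1649 [87,104,125])) (.leaf (.up 3 3242 [580] 1163 [87,55,43,125]))) (.node (.leaf (.up 4 2567 [883] 1649 [87,55,90,196])) (.leaf (.up 4 2504 [591] 274 [88,55,176,211])))) (.node (.node (.leaf (.up 3 279 [580] 1163 [87,94,155,179])) (.leaf (.up 3 2307 [582] 1163 [55,155,115]))) (.node (.leaf (.up 4 2621 [591] 274 [88,155,170])) (.leaf (.up 5 2566 [573] 0 [57,93,42,158]))))) (.node (.node (.node (.leaf (.up 4 1216 [578] 0 [87,94,42,182])) (.leaf (.up 5 3460 [573] 0 [87,55,89,136]))) (.node (.leaf (.up 4 2717 [579] 1163 [93,91,213])) (.leaf (.up 4 1446 [883] 1649 [87,93,91,5])))) (.node (.node (.leaf (.up 4 1248 [581] 0 [88,93,104,225])) (.leaf (.up 5 770 [581] 0 [57,110,89,99]))) (.leaf (.up 6 2468 [883] 1649 [87,93,103,11])))))) (.node (.node (.node (.node (.node (.leaf (.up 4 1279 [580] 1163 [94,89,209])) (.leaf (.up 5 3388 [582] 1163 [94,176,27]))) (.node (.leaf (.up 5 3088 [581] 0 [88,55,90,10])) (.leaf (.up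 4 550 [573] 0 [57,94,42,7])))) (.node (.node (.leaf (.up 4 3662 [591] 274 [56,43,71])) (.leaf (.up 4 3777 [582] 1163 [88,94,30]))) (.node (.leaf (.up 5 296 [582] 1163 [87,55,91,33])) (.leaf (.up 5 2609 [883] 1649 [56,44,150]))))) (.node (.node (.node (.leaf (.up 4 593 [883] 1649 [57,110,89,76])) (.leaf (.up 4 65 [582] 1163 [57,104,201]))) (.node (.leaf (.up 5 1638 [883] 1649 [88,110,42,175])) (.leaf (.up 5 1220 [573] 0 [88,90,248])))) (.node (.node (.leaf (.up 3 625 [581] 0 [88,93,44,100])) (.leaf (.up 4 725 [573] 0 [87,172]))) (.leaf (.up 3 2674 [883] 1649 [88,56,176,205]))))) (.node (.node (.node (.node (.leaf (.up 4 1510 [883] 1649 [87,94,123,243])) (.leaf (.up 5 912 [582] 1163 [87,56,91,208]))) (.node (.leaf (.up 4 721 [578] 0 [88,93,103,210])) (.leaf (.up 4 3465 [582] 1163 [87,94,104,37])))) (.node (.node (.leaf (.up 4 754 [883] 1649 [56,90,243])) (.leaf (.up 4 2717 [578] 0 [88,155,113]))) (.leaf (.up 3 3112 [578] 0 [88,56,104,147])))) (.node (.node (.node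 (.leaf (.up 4 334 [591] 274 [110,104,29])) (.leaf (.up 3 2278 [581] 0 [57,55,176,157]))) (.node (.leaf (.up 4 1472 [582] 1163 [110,140,236])) (.leaf (.up 4 3581 [582] 1163 [87,94,176,216])))) (.node (.node (.leaf (.up 3 1292 [581] 0 [88,110,155,220])) (.leaf (.up 3 2307 [579] 1163 [56,42,221]))) (.leaf (.up 4 1522 [579] 1163 [87,155,36])))))))

noncomputable def trio4_00101 : Tr TStep :=
  .node (.node (.node (.node (.node (.node (.node (.leaf (.up 1 14 [573] 0 [57,94,123,99])) (.leaf (.up 4 635 [582] 1163 [57,55,116,6]))) (.node (.leaf (.up 4 1353 [581] 0 [57,55,103,69])) (.leaf (.up 4 1293 [582] 1163 [87,94,90,206])))) (.node (.node (.leaf (.up 6 207 [883] 1649 [87,93,103,125])) (.leaf (.up 4 2292 [581] 0 [57,93,104,196]))) (.node (.leaf (.up 4 2149 [573] 0 [123,157])) (.leaf (.up 5 1700 [591] 274 [87,93,140,156]))))) (.node (.node (.node (.leaf (.up 3 701 [582] 1163 [88,89,13])) (.leaf (.up 3 2278 [578] 0 [87,94,91,182]))) (.node (.leaf (.up 6 648 [883] 1649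 [88,55,43,46])) (.leaf (.up 5 1450 [883] 1649 [88,110,155,184])))) (.node (.node (.leaf (.up 5 2649 [579] 1163 [93,140,243])) (.leaf (.up 4 3628 [582] 1163 [110,155,228]))) (.leaf (.up 5 1540 [579] 1163 [87,90,152]))))) (.node (.node (.node (.node (.leaf (.up 5 3263 [581] 0 [57,55,140,149])) (.leaf (.up 5 85 [883] 1649 [87,55,155,114]))) (.node (.leaf (.up 3 1924 [581] 0 [87,110,176,100])) (.leaf (.up 4 2482 [883] 1649 [87,103,101])))) (.node (.node (.leaf (.up 5 3372 [582] 1163 [88,110,123,216])) (.leaf (.up 3 354 [573] 0 [56,91,142]))) (.node (.leaf (.up 3 388 [582] 1163 [87,94,91,193])) (.leaf (.up 4 1957 [573] 0 [87,94,89,102]))))) (.node (.node (.node (.leaf (.up 4 3163 [582] 1163 [87,44,211])) (.leaf (.up 3 1292 [591] 274 [88,56,176,195]))) (.node (.leaf (.up 4 1317 [591] 274 [57,90,199])) (.leaf (.up 4 2857 [883] 1649 [88,56,116,216])))) (.node (.node (.leaf (.up 5 3099 [573] 0 [88,93,140,13])) (.leaf (.up 5 2225 [573] 0 [57,93,91,217]))) (.leaf (.up 5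 2586 [582] 1163 [57,55,42,236])))))) (.node (.node (.node (.node (.node (.leaf (.up 5 2344 [579] 1163 [57,94,113])) (.leaf (.up 3 1502 [582] 1163 [57,93,155,187]))) (.node (.leaf (.up 1 0 [573] 0 [87,55,155,13])) (.leaf (.up 3 2781 [573] 0 [94,103,31])))) (.node (.node (.leaf (.up 5 2812 [883] 1649 [57,110,43,207])) (.leaf (.up 5 967 [573] 0 [88,91,246]))) (.node (.leaf (.up 5 539 [579] 1163 [110,43,199])) (.leaf (.up 3 3789 [582] 1163 [88,93,42,190]))))) (.node (.node (.node (.leaf (.up 3 3152 [573] 0 [87,94,155,107])) (.leaf (.up 4 3434 [582] 1163 [87,93,91,108]))) (.node (.leaf (.up 2 3517 [573] 0 [88,91,203])) (.leaf (.up 4 402 [883] 1649 [87,155,237])))) (.node (.node (.leaf (.up 5 1597 [883] 1649 [88,176,100])) (.leaf (.up 4 3233 [591] 274 [44,96]))) (.leaf (.up 6 2556 [573] 0 [87,94,155,152]))))) (.node (.node (.node (.node (.leaf (.up 5 655 [883] 1649 [110,43,236])) (.leaf (.up 3 3152 [581] 0 [57,116,206]))) (.node (.leaf (.up 5 3111 [581] 0 [87,110,104,147]))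 (.leaf (.up 5 2185 [591] 274 [57,93,176,205])))) (.node (.node (.leaf (.up 3 2596 [591] 274 [57,110,138])) (.leaf (.up 5 3479 [573] 0 [88,94,103,75]))) (.leaf (.up 4 1831 [573] 0 [57,55,90,194])))) (.node (.node (.node (.leaf (.up 4 3241 [573] 0 [87,56,44,96])) (.leaf (.up 5 2816 [581] 0 [57,56,91,108]))) (.node (.leaf (.up 4 1745 [580] 1163 [57,110,176,244])) (.leaf (.up 4 3539 [578] 0 [94,89,8])))) (.node (.node (.leaf (.up 3 1664 [581] 0 [56,176,96])) (.leaf (.up 4 276 [591] 274 [87,89,234]))) (.leaf (.up 4 2507 [591] 274 [88,94,42,243]))))))) (.node (.node (.node (.node (.node (.node (.leaf (.up 3 3444 [579] 1163 [57,44,179])) (.leaf (.up 5 1065 [591] 274 [87,56,90,231]))) (.node (.leaf (.up 4 2170 [582] 1163 [88,110,43,193])) (.leaf (.up 3 3750 [573] 0 [87,55,103,167])))) (.node (.node (.leaf (.up 4 1642 [591] 274 [57,93,44,105])) (.leaf (.up 5 3709 [579] 1163 [57,110,103,157]))) (.node (.leaf (.up 4 552 [578] 0 [57,94,91,173])) (.leaf (.up 4 3717 [591]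 274 [57,94,123,148]))))) (.node (.node (.node (.leaf (.up 4 2625 [582] 1163 [87,56,104,184])) (.leaf (.up 4 2896 [573] 0 [110,107]))) (.node (.leaf (.up 4 2734 [579] 1163 [88,42,179])) (.leaf (.up 5 3430 [591] 274 [88,43,122])))) (.node (.node (.leaf (.up 4 2728 [582] 1163 [87,43,184])) (.leaf (.up 4 3001 [581] 0 [87,93,155,187]))) (.leaf (.up 4 1834 [883] 1649 [87,55,140,20]))))) (.node (.node (.node (.node (.leaf (.up 3 3010 [581] 0 [88,56,176,114])) (.leaf (.up 4 1822 [580] 1163 [88,110,99]))) (.node (.leaf (.up 4 3330 [582] 1163 [93,123,107])) (.leaf (.up 4 2460 [573] 0 [93,89,20])))) (.node (.node (.leaf (.up 4 1831 [579] 1163 [87,93,140,105])) (.leaf (.up 4 2590 [578] 0 [93,104,0]))) (.node (.leaf (.up 3 2278 [582] 1163 [57,110,123,143])) (.leaf (.up 4 562 [573] 0 [88,93,176,142]))))) (.node (.node (.node (.leaf (.up 5 2221 [573] 0 [57,56,90,144])) (.leaf (.up 4 1422 [579] 1163 [88,94,44,229]))) (.node (.leaf (.up 5 1844 [581] 0 [110,44,133])) (.leaf (.up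 6 3185 [883] 1649 [55,123,225])))) (.node (.node (.leaf (.up 4 2665 [883] 1649 [57,140,15])) (.leaf (.up 4 914 [579] 1163 [42,23]))) (.leaf (.up 4 1414 [591] 274 [88,55,21])))))) (.node (.node (.node (.node (.node (.leaf (.up 6 1268 [883] 1649 [55,89,226])) (.leaf (.up 3 1352 [578] 0 [87,104,22]))) (.node (.leaf (.up 5 3411 [579] 1163 [88,93,89,134])) (.leaf (.up 4 1279 [578] 0 [57,110,172])))) (.node (.node (.leaf (.up 4 3446 [573] 0 [55,155,134])) (.leaf (.up 5 3199 [580] 1163 [57,110,140,162]))) (.node (.leaf (.up 4 927 [883] 1649 [94,116,10])) (.leaf (.up 5 3694 [582] 1163 [57,110,155,234]))))) (.node (.node (.node (.leaf (.up 4 1831 [883] 1649 [88,155,8])) (.leaf (.up 4 3542 [883] 1649 [93,44,201]))) (.node (.leaf (.up 4 1145 [582] 1163 [87,56,44,144])) (.leaf (.up 2 1922 [580] 1163 [56,91,170])))) (.node (.node (.leaf (.up 1 14 [579] 1163 [87,56,176,111])) (.leaf (.up 4 3219 [578] 0 [88,94,103,190]))) (.leaf (.up 4 1632 [579] 1163 [93,91,213]))))) (.node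 (.node (.node (.node (.leaf (.up 3 775 [883] 1649 [57,93,44,107])) (.leaf (.up 3 690 [582] 1163 [87,94,176,243]))) (.node (.leaf (.up 5 159 [579] 1163 [88,93,89,245])) (.leaf (.up 5 1027 [580] 1163 [87,94,155,9])))) (.node (.node (.leaf (.up 6 355 [883] 1649 [55,91,11])) (.leaf (.up 5 3029 [573] 0 [57,93,176,205]))) (.leaf (.up 5 1761 [580] 1163 [55,104,149])))) (.node (.node (.node (.leaf (.up 4 3044 [580] 1163 [88,94,176,194])) (.leaf (.up 4 1009 [573] 0 [56,116,61]))) (.node (.leaf (.up 3 3519 [580] 1163 [87,43,29])) (.leaf (.up 4 3581 [581] 0 [88,93,89,229])))) (.node (.node (.leaf (.up 4 2536 [582] 1163 [87,93,104,146])) (.leaf (.up 4 2590 [579] 1163 [87,93,90,235]))) (.leaf (.up 4 1595 [579] 1163 [57,55,61])))))))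

noncomputable def trio4_0010 : Tr TStep := .node trio4_00100 trio4_00101

noncomputable def trio4_00110 : Tr TStep :=
  .node (.node (.node (.node (.node (.node (.node (.leaf (.up 2 2813 [582] 1163 [88,94,116,186])) (.leaf (.up 5 99 [573] 0 [56,43,197]))) (.node (.leaf (.up 4 65 [579] 1163 [88,140,175])) (.leaf (.up 4 2532 [579] 1163 [57,56,140,248])))) (.node (.node (.leaf (.up 5 3511 [579] 1163 [87,56,176,178])) (.leaf (.up 5 2586 [573] 0 [87,110,103,195]))) (.node (.leaf (.up 5 3596 [581] 0 [94,140,137])) (.leaf (.up 4 2536 [579] 1163 [88,56,103,177]))))) (.node (.node (.node (.leaf (.up 4 204 [883] 1649 [57,55,155,178])) (.leaf (.up 4 3633 [581] 0 [56,103,229]))) (.node (.leaf (.up 2 93 [883] 1649 [57,110,155,22])) (.leaf (.up 5 2369 [883] 1649 [57,93,89,137])))) (.node (.node (.leaf (.up 6 160 [883] 1649 [55,90,111])) (.leaf (.up 4 646 [883] 1649 [56,42,219]))) (.leaf (.up 4 42 [883] 1649 [57,94,103,232]))))) (.node (.node (.node (.node (.leaf (.up 2 322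 [581] 0 [87,110,44,203])) (.leaf (.up 3 1083 [579] 1163 [88,110,155,107]))) (.node (.leaf (.up 5 417 [591] 274 [55,211])) (.leaf (.up 4 1486 [591] 274 [88,93,22])))) (.node (.node (.leaf (.up 4 1412 [573] 0 [87,104,221])) (.leaf (.up 6 327 [883] 1649 [94,116,97]))) (.node (.leaf (.up 5 3212 [579] 1163 [57,94,116,187])) (.leaf (.up 4 2528 [883] 1649 [87,94,43,100]))))) (.node (.node (.node (.leaf (.up 5 576 [573] 0 [87,56,123,130])) (.leaf (.up 5 1593 [578] 0 [87,94,176,239]))) (.node (.leaf (.up 3 3215 [591] 274 [88,110,90,202])) (.leaf (.up 4 2504 [883] 1649 [57,55,91,192])))) (.node (.node (.leaf (.up 2 1108 [883] 1649 [57,94,43,106])) (.leaf (.up 4 3120 [578] 0 [55,43,135]))) (.leaf (.up 5 3476 [573] 0 [87,110,42,122])))))) (.node (.node (.node (.node (.node (.leaf (.up 4 2549 [579] 1163 [88,55,44,122])) (.leaf (.up 5 1561 [883] 1649 [55,123,119]))) (.node (.leaf (.up 5 1067 [580] 1163 [87,110,90,240])) (.leaf (.up 4 1015 [591] 274 [87,91,128])))) (.node (.node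 (.leaf (.up 5 576 [578] 0 [57,89,201])) (.leaf (.up 5 2077 [582] 1163 [87,56,103,124]))) (.node (.leaf (.up 3 29 [578] 0 [88,110,42,100])) (.leaf (.up 4 1260 [579] 1163 [88,55,90,158]))))) (.node (.node (.node (.leaf (.up 5 1170 [578] 0 [87,56,176,198])) (.leaf (.up 4 1819 [580] 1163 [57,56,123,13]))) (.node (.leaf (.up 5 2194 [579] 1163 [93,90,246])) (.leaf (.up 3 1634 [579] 1163 [110,116,200])))) (.node (.node (.leaf (.up 3 677 [582] 1163 [88,56,42,75])) (.leaf (.up 2 1045 [582] 1163 [57,56,202]))) (.leaf (.up 5 2868 [582] 1163 [87,55,155,234]))))) (.node (.node (.node (.node (.leaf (.up 3 2198 [582] 1163 [57,110,104,5])) (.leaf (.up 5 2487 [581] 0 [88,94,103,171]))) (.node (.leaf (.up 4 604 [883] 1649 [57,55,43,207])) (.leaf (.up 3 2442 [581] 0 [55,123,218])))) (.node (.node (.leaf (.up 4 3662 [883] 1649 [88,56,222])) (.leaf (.up 4 1736 [580] 1163 [87,110,140,153]))) (.node (.leaf (.up 4 3518 [579] 1163 [94,43,159])) (.leaf (.up 1 1 [883] 1649 [55,123,226])))))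 (.node (.node (.node (.leaf (.up 4 1378 [581] 0 [88,110,179])) (.leaf (.up 4 204 [573] 0 [56,89,246]))) (.node (.leaf (.up 4 3213 [581] 0 [87,55,43,162])) (.leaf (.up 4 1741 [883] 1649 [55,153])))) (.node (.node (.leaf (.up 5 628 [883] 1649 [88,56,176,220])) (.leaf (.up 5 1178 [580] 1163 [110,44,27]))) (.leaf (.up 6 3745 [579] 1163 [88,55,44,5]))))))) (.node (.node (.node (.node (.node (.node (.leaf (.up 6 663 [883] 1649 [87,93,103,248])) (.leaf (.up 4 3241 [582] 1163 [87,93,90,145]))) (.node (.leaf (.up 3 1924 [591] 274 [57,94,126])) (.leaf (.up 3 625 [579] 1163 [110,91,133])))) (.node (.node (.leaf (.up 3 1322 [580] 1163 [57,56,116,164])) (.leaf (.up 4 1171 [578] 0 [44,201]))) (.node (.leaf (.up 5 1442 [883] 1649 [57,56,140,92])) (.leaf (.up 3 1640 [582] 1163 [88,55,193]))))) (.node (.node (.node (.leaf (.up 3 3152 [578] 0 [57,56,90,230])) (.leaf (.up 6 2044 [580] 1163 [88,56,104,120]))) (.node (.leaf (.up 5 968 [883] 1649 [88,56,42,164])) (.leaf (.up 4 642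 [883] 1649 [110,123,165])))) (.node (.node (.leaf (.up 5 85 [573] 0 [87,56,91,220])) (.leaf (.up 5 2312 [883] 1649 [88,93,103,118]))) (.leaf (.up 5 2908 [580] 1163 [94,44,201]))))) (.node (.node (.node (.node (.leaf (.up 4 658 [883] 1649 [87,93,91,235])) (.leaf (.up 3 701 [581] 0 [87,56,116,237]))) (.node (.leaf (.up 4 89 [580] 1163 [57,90,204])) (.leaf (.up 5 2666 [883] 1649 [57,94,42,169])))) (.node (.node (.leaf (.up 4 831 [582] 1163 [88,56,116,137])) (.leaf (.up 4 3657 [883] 1649 [57,56,90,133]))) (.node (.leaf (.up 3 1447 [573] 0 [88,155,125])) (.leaf (.up 3 2353 [582] 1163 [104,243]))))) (.node (.node (.node (.leaf (.up 4 2490 [573] 0 [110,104,33])) (.leaf (.up 3 2270 [578] 0 [57,110,91,115]))) (.node (.leaf (.up 2 2555 [573] 0 [88,93,91,69])) (.leaf (.up 3 2299 [579] 1163 [94,42,180])))) (.node (.node (.leaf (.up 5 744 [883] 1649 [88,93,155,0])) (.leaf (.up 4 2752 [581] 0 [88,94,43,160]))) (.leaf (.up 5 2846 [573] 0 [87,94,42,6])))))) (.node (.node (.node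 (.node (.node (.leaf (.up 4 2694 [582] 1163 [87,55,245])) (.leaf (.up 3 279 [883] 1649 [57,93,44,226]))) (.node (.leaf (.up 4 559 [578] 0 [87,94,89,246])) (.leaf (.up 4 2297 [579] 1163 [56,42,222])))) (.node (.node (.leaf (.up 5 467 [582] 1163 [57,55,89,183])) (.leaf (.up 3 2254 [591] 274 [110,123,136]))) (.node (.leaf (.up 2 1980 [591] 274 [88,94,44,166])) (.leaf (.up 5 1879 [581] 0 [56,44,92]))))) (.node (.node (.node (.leaf (.up 4 3170 [883] 1649 [57,94,43,12])) (.leaf (.up 5 1072 [580] 1163 [57,94,103,134]))) (.node (.leaf (.up 3 1584 [579] 1163 [57,56,116,74])) (.leaf (.up 5 3590 [578] 0 [94,123,217])))) (.node (.node (.leaf (.up 6 3784 [582] 1163 [88,56,123,13])) (.leaf (.up 3 625 [883] 1649 [87,55,44,187]))) (.leaf (.up 6 2398 [883] 1649 [57,94,155,171]))))) (.node (.node (.node (.node (.leaf (.up 4 664 [580] 1163 [57,56,123,168])) (.leaf (.up 4 859 [578] 0 [87,56,44,3]))) (.node (.leaf (.up 3 2777 [883] 1649 [140,154])) (.leaf (.up 4 1639 [580] 1163 [110,116,248]))))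 (.node (.node (.leaf (.up 5 565 [573] 0 [57,93,44,117])) (.leaf (.up 5 534 [591] 274 [87,44,182]))) (.leaf (.up 3 1083 [883] 1649 [57,55,104,108])))) (.node (.node (.node (.leaf (.up 3 690 [579] 1163 [57,89,233])) (.leaf (.up 4 562 [579] 1163 [57,56,231]))) (.node (.leaf (.up 3 3496 [578] 0 [88,93,104,156])) (.leaf (.up 2 1085 [883] 1649 [88,56,91,196])))) (.node (.node (.leaf (.up 5 205 [883] 1649 [57,55,127])) (.leaf (.up 6 656 [883] 1649 [87,55,140,157]))) (.leaf (.up 5 1036 [582] 1163 [57,44,170])))))))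

noncomputable def trio4_00111 : Tr TStep :=
  .node (.node (.node (.node (.node (.node (.node (.leaf (.up 5 1578 [883] 1649 [110,104,105])) (.leaf (.up 4 980 [579] 1163 [57,55,44,109]))) (.node (.leaf (.up 5 2830 [883] 1649 [87,104,27])) (.leaf (.up 4 65 [591] 274 [57,110,43,200])))) (.node (.node (.leaf (.up 5 114 [883] 1649 [88,56,104,172])) (.leaf (.up 3 3012 [582] 1163 [87,56,123,227]))) (.node (.leaf (.up 3 151 [573] 0 [57,55,176,139])) (.leaf (.up 4 3330 [580] 1163 [87,56,89,228]))))) (.node (.node (.node (.leaf (.up 4 1022 [573] 0 [87,90,218])) (.leaf (.up 4 2562 [573] 0 [87,90,124]))) (.node (.leaf (.up 4 1420 [573] 0 [116,29])) (.leaf (.up 4 3668 [580] 1163 [87,93,176,238])))) (.node (.node (.leaf (.up 4 516 [591] 274 [94,123,151])) (.leaf (.up 5 811 [883] 1649 [57,56,42,158]))) (.leaf (.up 3 1643 [581] 0 [57,93,44,163]))))) (.node (.node (.node (.node (.leaf (.up 2 1645 [581] 0 [88,93,123,113])) (.leaf (.up 5 1581 [591] 274 [87,55,44,160]))) (.node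 (.leaf (.up 4 2467 [579] 1163 [93,43,72])) (.leaf (.up 4 2521 [591] 274 [55,103,228])))) (.node (.node (.leaf (.up 3 1584 [883] 1649 [55,89,119])) (.leaf (.up 4 1684 [580] 1163 [110,176,179]))) (.node (.leaf (.up 7 561 [883] 1649 [116,239])) (.leaf (.up 4 814 [582] 1163 [94,176,98]))))) (.node (.node (.node (.leaf (.up 4 248 [580] 1163 [87,110,43,16])) (.leaf (.up 3 29 [580] 1163 [57,93,176,228]))) (.node (.leaf (.up 4 13 [573] 0 [87,155,238])) (.leaf (.up 4 1381 [582] 1163 [88,56,91,185])))) (.node (.node (.leaf (.up 4 763 [883] 1649 [87,93,89,30])) (.leaf (.up 4 754 [580] 1163 [57,110,59]))) (.leaf (.up 5 1804 [573] 0 [57,94,42,177])))))) (.node (.node (.node (.node (.node (.leaf (.up 1 1 [582] 1163 [88,94,176,236])) (.leaf (.up 4 1632 [581] 0 [57,110,123,164]))) (.node (.leaf (.up 4 1736 [582] 1163 [87,123,29])) (.leaf (.up 4 3401 [591] 274 [56,91,21])))) (.node (.node (.leaf (.up 3 1644 [579] 1163 [87,93,91,216])) (.leaf (.up 4 3216 [573] 0 [87,55,116,119])))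 (.node (.leaf (.up 6 141 [579] 1163 [87,56,42,126])) (.leaf (.up 5 474 [581] 0 [88,93,90,165]))))) (.node (.node (.node (.leaf (.up 3 2763 [883] 1649 [87,56,155,3])) (.leaf (.up 4 2791 [573] 0 [87,93,99]))) (.node (.leaf (.up 4 900 [573] 0 [88,56,104,164])) (.leaf (.up 3 995 [883] 1649 [57,56,44,220])))) (.node (.node (.leaf (.up 5 3327 [883] 1649 [88,89,236])) (.leaf (.up 4 906 [579] 1163 [88,94,44,179]))) (.leaf (.up 5 2182 [883] 1649 [88,104,185]))))) (.node (.node (.node (.node (.leaf (.up 6 631 [883] 1649 [88,55,104,97])) (.leaf (.up 2 1555 [578] 0 [87,94,213]))) (.node (.leaf (.up 3 373 [591] 274 [57,55,43,92])) (.leaf (.up 6 3490 [883] 1649 [88,55,140,229])))) (.node (.node (.leaf (.up 5 2150 [581] 0 [57,55,104,192])) (.leaf (.up 4 261 [579] 1163 [88,55,176,65]))) (.leaf (.up 5 2371 [582] 1163 [87,55,109])))) (.node (.node (.node (.leaf (.up 4 1087 [582] 1163 [57,129])) (.leaf (.up 4 492 [883] 1649 [57,90,231]))) (.node (.leaf (.up 5 2232 [591] 274 [88,110,176,21]))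 (.leaf (.up 4 3124 [591] 274 [57,56,104,248])))) (.node (.node (.leaf (.up 5 157 [573] 0 [57,91,222])) (.leaf (.up 5 2251 [581] 0 [87,93,176,114]))) (.leaf (.up 5 3049 [579] 1163 [57,123,151]))))))) (.node (.node (.node (.node (.node (.node (.leaf (.up 3 1953 [578] 0 [87,103,187])) (.leaf (.up 4 1260 [591] 274 [88,55,43,12]))) (.node (.leaf (.up 4 3431 [580] 1163 [87,55,103,156])) (.leaf (.up 4 3580 [578] 0 [88,140,163])))) (.node (.node (.leaf (.up 4 1819 [579] 1163 [57,110,155,201])) (.leaf (.up 5 2887 [579] 1163 [94,176,213]))) (.node (.leaf (.up 4 2843 [582] 1163 [88,110,123,141])) (.leaf (.up 4 895 [579] 1163 [94,42,60]))))) (.node (.node (.node (.leaf (.up 4 3518 [883] 1649 [57,93,42,142])) (.leaf (.up 3 2489 [580] 1163 [87,93,155,121]))) (.node (.leaf (.up 5 1707 [883] 1649 [94,155,99])) (.leaf (.up 4 2786 [573] 0 [88,90,216])))) (.node (.node (.leaf (.up 5 2129 [573] 0 [57,93,116,198])) (.leaf (.up 6 2790 [580] 1163 [88,94,176,174]))) (.leaf (.up 3 962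 [573] 0 [88,55,123,142]))))) (.node (.node (.node (.node (.leaf (.up 4 325 [591] 274 [88,110,44,188])) (.leaf (.up 4 2896 [578] 0 [88,93,42,101]))) (.node (.leaf (.up 3 2442 [578] 0 [88,94,175])) (.leaf (.up 4 2930 [581] 0 [87,89,10])))) (.node (.node (.leaf (.up 5 1537 [573] 0 [88,94,123,108])) (.leaf (.up 4 1279 [579] 1163 [88,110,89,215]))) (.node (.leaf (.up 4 1619 [582] 1163 [88,110,119])) (.leaf (.up 5 1047 [582] 1163 [87,110,91,124]))))) (.node (.node (.node (.leaf (.up 4 3241 [578] 0 [55,140,173])) (.leaf (.up 5 1348 [582] 1163 [93,155,1]))) (.node (.leaf (.up 5 1137 [573] 0 [94,91,25])) (.leaf (.up 4 1783 [591] 274 [94,43,59])))) (.node (.node (.leaf (.up 4 2298 [579] 1163 [56,42,111])) (.leaf (.up 5 147 [578] 0 [55,103,181]))) (.leaf (.up 1 3 [579] 1163 [87,110,176,233])))))) (.node (.node (.node (.node (.node (.leaf (.up 3 158 [573] 0 [88,56,89])) (.leaf (.up 5 372 [591] 274 [57,110,155,135]))) (.node (.leaf (.up 5 147 [591] 274 [87,110,42,4])) (.leaf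 (.up 5 518 [578] 0 [57,93,123,229])))) (.node (.node (.leaf (.up 3 3789 [579] 1163 [88,93,91,178])) (.leaf (.up 4 1317 [883] 1649 [55,140]))) (.node (.leaf (.up 3 2674 [581] 0 [110,123,223])) (.leaf (.up 4 636 [582] 1163 [88,93,43,218]))))) (.node (.node (.node (.leaf (.up 3 894 [883] 1649 [93,91,214])) (.leaf (.up 3 1659 [578] 0 [55,123,196]))) (.node (.leaf (.up 6 3690 [883] 1649 [88,55,161])) (.leaf (.up 5 474 [579] 1163 [87,110,209])))) (.node (.node (.leaf (.up 4 1360 [580] 1163 [88,56,123,218])) (.leaf (.up 3 2769 [581] 0 [88,55,114]))) (.leaf (.up 4 3628 [578] 0 [55,103,159]))))) (.node (.node (.node (.node (.leaf (.up 4 3433 [573] 0 [94,91,211])) (.leaf (.up 5 3696 [579] 1163 [57,56,123,184]))) (.node (.leaf (.up 5 2908 [582] 1163 [55,103,238])) (.leaf (.up 5 817 [579] 1163 [93,193])))) (.node (.node (.leaf (.up 5 2638 [582] 1163 [87,110,155,193])) (.leaf (.up 4 2637 [580] 1163 [87,55,43,180]))) (.leaf (.up 4 1528 [579] 1163 [87,176,98])))) (.node (.node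 (.node (.leaf (.up 5 3442 [579] 1163 [87,93,44,202])) (.leaf (.up 5 1178 [883] 1649 [88,55,104,59]))) (.node (.leaf (.up 4 1376 [883] 1649 [110,104,215])) (.leaf (.up 3 1545 [582] 1163 [57,94,104,237])))) (.node (.node (.leaf (.up 4 506 [573] 0 [57,56,89,95])) (.leaf (.up 5 3122 [573] 0 [87,110,178]))) (.leaf (.up 5 1221 [591] 274 [88,55,44,131])))))))

noncomputable def trio4_0011 : Tr TStep := .node trio4_00110 trio4_00111

noncomputable def trio4_001 : Tr TStep := .node trio4_0010 trio4_0011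

noncomputable def trio4_00 : Tr TStep := .node trio4_000 trio4_001

noncomputable def trio4_01000 : Tr TStep :=
  .node (.node (.node (.node (.node (.node (.node (.leaf (.up 4 895 [581] 0 [88,93,123,134])) (.leaf (.up 5 164 [573] 0 [88,93,91,30]))) (.node (.leaf (.up 4 2564 [579] 1163 [87,93,116,219])) (.leaf (.up 5 2709 [573] 0 [176,142])))) (.node (.node (.leaf (.up 6 528 [883] 1649 [57,140,227])) (.leaf (.up 3 3010 [580] 1163 [57,55,91,191]))) (.node (.leaf (.up 4 2814 [883] 1649 [88,94,103,165])) (.leaf (.up 1 1 [578] 0 [87,110,104,226]))))) (.node (.node (.node (.leaf (.up 4 3605 [883] 1649 [88,103,202])) (.leaf (.up 5 2383 [582] 1163 [87,94,90,23]))) (.node (.leaf (.up 3 140 [579] 1163 [87,56,89,241])) (.leaf (.up 3 94 [573] 0 [56,116,175])))) (.node (.node (.leaf (.up 4 1344 [883] 1649 [57,110,43,8])) (.leaf (.up 4 52 [883] 1649 [87,110,42,46]))) (.leaf (.up 4 2655 [591] 274 [57,110,121]))))) (.node (.node (.node (.node (.leaf (.up 4 763 [579] 1163 [55,90,164]))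 (.leaf (.up 3 625 [578] 0 [87,104,156]))) (.node (.leaf (.up 3 2270 [582] 1163 [57,89,158])) (.leaf (.up 4 1522 [591] 274 [88,56,43,71])))) (.node (.node (.leaf (.up 3 1134 [578] 0 [56,90,61])) (.leaf (.up 4 506 [579] 1163 [57,94,89,234]))) (.node (.leaf (.up 4 3239 [578] 0 [57,93,140,153])) (.leaf (.up 4 1612 [573] 0 [155,15]))))) (.node (.node (.node (.leaf (.up 5 289 [573] 0 [56,155,175])) (.leaf (.up 5 2232 [578] 0 [57,155,239]))) (.node (.leaf (.up 5 817 [582] 1163 [87,55,43,75])) (.leaf (.up 5 1598 [573] 0 [94,44,152])))) (.node (.node (.leaf (.up 3 80 [573] 0 [57,93,176,152])) (.leaf (.up 5 1210 [573] 0 [88,89,238]))) (.leaf (.up 1 3 [578] 0 [57,93,73])))))) (.node (.node (.node (.node (.node (.leaf (.up 4 724 [579] 1163 [87,94,90,112])) (.leaf (.up 4 1049 [580] 1163 [88,55,44,109]))) (.node (.leaf (.up 4 2625 [883] 1649 [57,93,43,221])) (.leaf (.up 5 62 [579] 1163 [104,178])))) (.node (.node (.leaf (.up 4 2717 [573] 0 [110,155,3])) (.leaf (.up 4 686 [883]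 1649 [55,116,4]))) (.node (.leaf (.up 4 1758 [581] 0 [88,43,72])) (.leaf (.up 3 140 [883] 1649 [87,55,91,235]))))) (.node (.node (.node (.leaf (.up 1 1 [591] 274 [57,94,90,95])) (.leaf (.up 6 2741 [591] 274 [87,56,104,180]))) (.node (.leaf (.up 4 1831 [580] 1163 [57,93,89,196])) (.leaf (.up 4 3756 [578] 0 [88,110,90,99])))) (.node (.node (.leaf (.up 3 3249 [591] 274 [56,91,154])) (.leaf (.up 5 873 [579] 1163 [94,43,227]))) (.leaf (.up 4 2924 [580] 1163 [93,176,37]))))) (.node (.node (.node (.node (.leaf (.up 4 1764 [582] 1163 [87,56,169])) (.leaf (.up 4 2065 [883] 1649 [87,110,123,149]))) (.node (.leaf (.up 5 372 [578] 0 [88,94,104,175])) (.leaf (.up 5 2378 [573] 0 [57,55,42,216])))) (.node (.node (.leaf (.up 3 3112 [883] 1649 [88,55,155,157])) (.leaf (.up 3 358 [578] 0 [55,113]))) (.node (.leaf (.up 6 984 [883] 1649 [88,140,234])) (.leaf (.up 5 817 [578] 0 [56,155,135]))))) (.node (.node (.node (.leaf (.up 3 690 [573] 0 [110,91,138])) (.leaf (.up 3 982 [573]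 0 [56,123,185]))) (.node (.leaf (.up 3 29 [579] 1163 [94,176,113])) (.leaf (.up 6 1884 [573] 0 [87,56,43,169])))) (.node (.node (.leaf (.up 2 20 [591] 274 [57,94,44,25])) (.leaf (.up 2 2813 [578] 0 [87,56,176,241]))) (.leaf (.up 5 684 [573] 0 [87,103,235]))))))) (.node (.node (.node (.node (.node (.node (.leaf (.up 4 3295 [580] 1163 [57,93,89,158])) (.leaf (.up 4 334 [579] 1163 [88,103,98]))) (.node (.leaf (.up 4 725 [883] 1649 [88,140,146])) (.leaf (.up 4 2467 [591] 274 [42,192])))) (.node (.node (.leaf (.up 5 551 [581] 0 [87,55,155,125])) (.leaf (.up 3 3357 [578] 0 [57,55,91,202]))) (.node (.leaf (.up 4 3350 [883] 1649 [57,55,42,214])) (.leaf (.up 5 198 [883] 1649 [57,155,131]))))) (.node (.node (.node (.leaf (.up 3 953 [582] 1163 [55,104,170])) (.leaf (.up 4 2137 [579] 1163 [57,93,103,76]))) (.node (.leaf (.up 5 3746 [883] 1649 [57,93,91,134])) (.leaf (.up 4 1843 [591] 274 [57,90,224])))) (.node (.node (.leaf (.up 4 2507 [573] 0 [88,56,103,164])) (.leaf (.up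 4 969 [883] 1649 [88,94,90,217]))) (.leaf (.up 5 3613 [579] 1163 [93,116,13]))))) (.node (.node (.node (.node (.leaf (.up 5 3309 [591] 274 [56,90,113])) (.leaf (.up 4 1145 [578] 0 [87,56,104,206]))) (.node (.leaf (.up 5 3100 [581] 0 [87,93,104,156])) (.leaf (.up 4 2132 [582] 1163 [57,93,44,236])))) (.node (.node (.leaf (.up 5 3223 [883] 1649 [56,140,205])) (.leaf (.up 4 789 [883] 1649 [57,110,89,60]))) (.node (.leaf (.up 4 1378 [582] 1163 [88,89,29])) (.leaf (.up 4 3741 [581] 0 [57,56,44,134]))))) (.node (.node (.node (.leaf (.up 4 2717 [580] 1163 [88,55,113])) (.leaf (.up 6 2607 [883] 1649 [88,94,123,213]))) (.node (.leaf (.up 4 3589 [573] 0 [93,90,128])) (.leaf (.up 5 2232 [582] 1163 [87,93,116,247])))) (.node (.node (.leaf (.up 4 1426 [573] 0 [88,56,123,117])) (.leaf (.up 6 2274 [883] 1649 [87,110,42,225]))) (.leaf (.up 3 388 [579] 1163 [87,55,103,187])))))) (.node (.node (.node (.node (.node (.leaf (.up 4 643 [579] 1163 [57,94,116,191])) (.leaf (.up 3 15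 [883] 1649 [44,142]))) (.node (.leaf (.up 4 1819 [573] 0 [88,155,167])) (.leaf (.up 3 3215 [579] 1163 [87,89,229])))) (.node (.node (.leaf (.up 5 2378 [581] 0 [87,93,103,31])) (.leaf (.up 4 3741 [582] 1163 [88,55,140,234]))) (.node (.leaf (.up 2 1085 [582] 1163 [88,56,116,18])) (.leaf (.up 4 2754 [579] 1163 [88,93,43,34]))))) (.node (.node (.node (.leaf (.up 2 1045 [883] 1649 [94,104,241])) (.leaf (.up 5 572 [883] 1649 [88,93,116,99]))) (.node (.leaf (.up 3 309 [573] 0 [88,93,155,225])) (.leaf (.up 4 1131 [582] 1163 [87,110,42,240])))) (.node (.node (.leaf (.up 4 3184 [883] 1649 [91,9])) (.leaf (.up 5 1570 [573] 0 [55,90,203]))) (.leaf (.up 4 3628 [883] 1649 [110,104,151]))))) (.node (.node (.node (.node (.leaf (.up 5 1979 [883] 1649 [87,56,104,182])) (.leaf (.up 5 2266 [581] 0 [110,42,129]))) (.node (.leaf (.up 6 1184 [883] 1649 [55,104,1])) (.leaf (.up 4 1895 [580] 1163 [88,56,140,136])))) (.node (.node (.leaf (.up 2 884 [591] 274 [87,110,123,23])) (.leaf (.up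 3 1924 [573] 0 [88,56,104,235]))) (.leaf (.up 4 1491 [883] 1649 [87,116,15])))) (.node (.node (.node (.leaf (.up 5 963 [582] 1163 [57,56,116,186])) (.leaf (.up 3 677 [580] 1163 [55,123,150]))) (.node (.leaf (.up 5 2688 [578] 0 [93,89,156])) (.leaf (.up 4 65 [578] 0 [176,209])))) (.node (.node (.leaf (.up 5 99 [580] 1163 [87,55,218])) (.leaf (.up 4 3608 [580] 1163 [93,90,202]))) (.leaf (.up 4 78 [580] 1163 [88,56,42,11])))))))

noncomputable def trio4_01001 : Tr TStep :=
  .node (.node (.node (.node (.node (.node (.node (.leaf (.up 4 1906 [579] 1163 [87,55,123,12])) (.leaf (.up 4 906 [883] 1649 [57,94,103,118]))) (.node (.leaf (.up 5 3478 [579] 1163 [56,116,224])) (.leaf (.up 4 3239 [582] 1163 [57,110,89,13])))) (.node (.node (.leaf (.up 5 3029 [581] 0 [104,223])) (.leaf (.up 6 533 [883] 1649 [87,110,91,201]))) (.node (.leaf (.up 4 1552 [582] 1163 [93,176,157])) (.leaf (.up 5 318 [581] 0 [87,110,91,222]))))) (.node (.node (.node (.leaf (.up 5 392 [883] 1649 [57,110,111]))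 (.leaf (.up 4 2285 [581] 0 [87,93,44,204]))) (.node (.leaf (.up 4 1895 [579] 1163 [88,110,91,31])) (.leaf (.up 4 2106 [580] 1163 [88,56,176,185])))) (.node (.node (.leaf (.up 4 2562 [883] 1649 [88,43,209])) (.leaf (.up 4 1422 [573] 0 [87,176,187]))) (.leaf (.up 3 2969 [582] 1163 [57,103,126]))))) (.node (.node (.node (.node (.leaf (.up 6 1052 [591] 274 [87,56,140,213])) (.leaf (.up 4 3350 [581] 0 [88,55,155,179]))) (.node (.leaf (.up 4 1172 [578] 0 [87,94,123,75])) (.leaf (.up 4 175 [581] 0 [57,94,90,163])))) (.node (.node (.leaf (.up 3 2442 [591] 274 [56,103,189])) (.leaf (.up 4 686 [573] 0 [55,176,128]))) (.node (.leaf (.up 5 804 [591] 274 [87,155,132])) (.leaf (.up 6 2138 [573] 0 [87,56,44,201]))))) (.node (.node (.node (.leaf (.up 3 3693 [591] 274 [88,55,222])) (.leaf (.up 4 2023 [883] 1649 [87,94,155,180]))) (.node (.leaf (.up 3 2166 [883] 1649 [88,56,103,109])) (.leaf (.up 4 1911 [883] 1649 [57,94,176,27])))) (.node (.node (.leaf (.up 3 279 [578] 0 [110,27]))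 (.leaf (.up 5 2383 [580] 1163 [57,110,104,18]))) (.leaf (.up 3 1584 [573] 0 [88,93,91,118])))))) (.node (.node (.node (.node (.node (.leaf (.up 5 2942 [883] 1649 [88,176,200])) (.leaf (.up 5 523 [581] 0 [87,110,163]))) (.node (.leaf (.up 5 597 [582] 1163 [88,94,42,219])) (.leaf (.up 4 1745 [883] 1649 [88,55,89,3])))) (.node (.node (.leaf (.up 4 3434 [573] 0 [87,110,176,131])) (.leaf (.up 3 690 [581] 0 [88,110,103,134]))) (.node (.leaf (.up 2 801 [580] 1163 [94,91,242])) (.leaf (.up 4 2637 [573] 0 [87,241]))))) (.node (.node (.node (.leaf (.up 4 1925 [581] 0 [57,110,90,170])) (.leaf (.up 5 3321 [573] 0 [87,110,155,186]))) (.node (.leaf (.up 5 1914 [573] 0 [87,93,89,5])) (.leaf (.up 3 1006 [578] 0 [88,110,123,159])))) (.node (.node (.leaf (.up 4 3330 [591] 274 [88,94,35])) (.leaf (.up 6 2556 [591] 274 [87,56,123,74]))) (.leaf (.up 3 3095 [580] 1163 [57,93,44,25]))))) (.node (.node (.node (.node (.leaf (.up 4 3205 [883] 1649 [103,187])) (.leaf (.up 5 1982 [579]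 1163 [57,42,159]))) (.node (.leaf (.up 5 759 [573] 0 [88,93,116,109])) (.leaf (.up 4 895 [582] 1163 [87,93,116,27])))) (.node (.node (.leaf (.up 3 1364 [591] 274 [57,140,161])) (.leaf (.up 3 279 [573] 0 [88,94,104,71]))) (.node (.leaf (.up 4 2364 [581] 0 [87,55,123,74])) (.leaf (.up 4 1323 [591] 274 [57,94,89,137]))))) (.node (.node (.node (.leaf (.up 4 1131 [883] 1649 [57,94,91,225])) (.leaf (.up 4 1321 [580] 1163 [87,93,43,97]))) (.node (.leaf (.up 3 2674 [579] 1163 [87,90,8])) (.leaf (.up 5 3122 [579] 1163 [88,110,103,112])))) (.node (.node (.leaf (.up 5 3551 [591] 274 [87,55,42,98])) (.leaf (.up 6 2276 [883] 1649 [88,55,90,23]))) (.leaf (.up 4 2831 [883] 1649 [87,43,198]))))))) (.node (.node (.node (.node (.node (.node (.leaf (.up 4 1535 [883] 1649 [88,93,140,97])) (.leaf (.up 4 878 [581] 0 [87,110,140,0]))) (.node (.leaf (.up 4 223 [582] 1163 [88,93,176,115])) (.leaf (.up 4 2924 [883] 1649 [94,43])))) (.node (.node (.leaf (.up 3 677 [883] 1649 [56,90,183]))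 (.leaf (.up 4 1437 [591] 274 [87,110,42,146]))) (.node (.leaf (.up 4 112 [883] 1649 [57,56,91,31])) (.leaf (.up 6 719 [883] 1649 [55,123,189]))))) (.node (.node (.node (.leaf (.up 6 2391 [883] 1649 [56,89,35])) (.leaf (.up 4 3780 [582] 1163 [55,137]))) (.node (.leaf (.up 3 681 [582] 1163 [87,43,202])) (.leaf (.up 4 261 [580] 1163 [88,93,90,166])))) (.node (.node (.leaf (.up 6 1701 [883] 1649 [57,55,42,158])) (.leaf (.up 5 3727 [883] 1649 [94,202]))) (.leaf (.up 5 2553 [573] 0 [88,55,89,169]))))) (.node (.node (.node (.node (.leaf (.up 4 1246 [582] 1163 [57,110,155,183])) (.leaf (.up 4 2481 [578] 0 [94,104,137]))) (.node (.leaf (.up 5 367 [591] 274 [88,93,155,161])) (.leaf (.up 5 2506 [883] 1649 [88,56,91,208])))) (.node (.node (.leaf (.up 2 1045 [578] 0 [87,94,176,160])) (.leaf (.up 4 2007 [573] 0 [93,89,168]))) (.node (.leaf (.up 4 2724 [581] 0 [57,56,44,152])) (.leaf (.up 5 3090 [573] 0 [88,43,65]))))) (.node (.node (.node (.leaf (.up 4 1344 [580] 1163 [88,110,42,71]))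 (.leaf (.up 3 2198 [579] 1163 [57,110,43,105]))) (.node (.leaf (.up 4 2431 [883] 1649 [88,93,90,146])) (.leaf (.up 5 1883 [582] 1163 [87,155,173])))) (.node (.node (.leaf (.up 3 1013 [578] 0 [88,55,43,13])) (.leaf (.up 3 29 [582] 1163 [93,43,240]))) (.leaf (.up 4 1557 [582] 1163 [56,91,97])))))) (.node (.node (.node (.node (.node (.leaf (.up 4 1950 [579] 1163 [87,93,89,209])) (.leaf (.up 4 78 [579] 1163 [57,55,44,153]))) (.node (.leaf (.up 5 2937 [883] 1649 [87,56,42,134])) (.leaf (.up 5 2667 [578] 0 [87,56,140,192])))) (.node (.node (.leaf (.up 5 1735 [581] 0 [110,44,46])) (.leaf (.up 2 92 [580] 1163 [110,90,147]))) (.node (.leaf (.up 5 1598 [578] 0 [87,94,42,158])) (.leaf (.up 5 3590 [883] 1649 [88,110,155,76]))))) (.node (.node (.node (.leaf (.up 5 1853 [573] 0 [88,56,90,214])) (.leaf (.up 4 691 [591] 274 [88,55,44,170]))) (.node (.leaf (.up 5 1451 [883] 1649 [57,56,176,120])) (.leaf (.up 4 3360 [591] 274 [57,93,103,0])))) (.node (.node (.leaf (.up 6 821 [883]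 1649 [87,55,155,177])) (.leaf (.up 3 3575 [573] 0 [103,119]))) (.leaf (.up 3 3789 [578] 0 [87,94,43,171]))))) (.node (.node (.node (.node (.leaf (.up 4 1029 [883] 1649 [57,110,103,5])) (.leaf (.up 5 3718 [578] 0 [88,56,116,125]))) (.node (.leaf (.up 5 3103 [883] 1649 [56,140,238])) (.leaf (.up 4 2624 [883] 1649 [88,56,140,100])))) (.node (.node (.leaf (.up 3 1399 [578] 0 [88,55,104,135])) (.leaf (.up 5 2942 [578] 0 [57,94,200]))) (.leaf (.up 3 2442 [580] 1163 [55,140,170])))) (.node (.node (.node (.leaf (.up 4 2754 [580] 1163 [87,123,238])) (.leaf (.up 4 1783 [582] 1163 [87,93,116,35]))) (.node (.leaf (.up 3 3789 [883] 1649 [55,89,230])) (.leaf (.up 4 334 [582] 1163 [87,55,90,198])))) (.node (.node (.leaf (.up 4 2229 [883] 1649 [87,55,18])) (.leaf (.up 5 1027 [581] 0 [57,93,140,148]))) (.leaf (.up 4 2773 [883] 1649 [57,140,151])))))))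

noncomputable def trio4_0100 : Tr TStep := .node trio4_01000 trio4_01001

noncomputable def trio4_01010 : Tr TStep :=
  .node (.node (.node (.node (.node (.node (.node (.leaf (.up 4 1105 [578] 0 [87,116,133])) (.leaf (.up 5 3664 [883] 1649 [57,110,103,208]))) (.node (.leaf (.up 3 3215 [580] 1163 [87,94,155,31])) (.leaf (.up 6 1418 [883] 1649 [88,94,155,199])))) (.node (.node (.leaf (.up 5 1546 [573] 0 [57,103,194])) (.leaf (.up 2 1980 [581] 0 [57,176,200]))) (.node (.leaf (.up 4 1412 [580] 1163 [104,1])) (.leaf (.up 5 3696 [573] 0 [87,94,43,220]))))) (.node (.node (.node (.leaf (.up 3 2909 [578] 0 [88,42,149])) (.leaf (.up 3 1618 [591] 274 [87,55,90,200]))) (.node (.leaf (.up 2 3366 [580] 1163 [87,56,140,33])) (.leaf (.up 5 667 [581] 0 [57,93,90,240])))) (.node (.node (.leaf (.up 4 1810 [573] 0 [87,56,91,1])) (.leaf (.up 4 3485 [580] 1163 [88,103,95]))) (.leaf (.up 5 1875 [883] 1649 [87,91,111]))))) (.node (.node (.node (.node (.leaf (.up 5 652 [582] 1163 [57,56,176,232]))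 (.leaf (.up 4 1929 [573] 0 [87,55,155,232]))) (.node (.leaf (.up 4 2807 [582] 1163 [88,93,44,238])) (.leaf (.up 5 2054 [573] 0 [57,93,158])))) (.node (.node (.leaf (.up 4 1684 [573] 0 [55,90,187])) (.leaf (.up 3 3750 [579] 1163 [176,238]))) (.node (.leaf (.up 5 3708 [883] 1649 [87,93,90,98])) (.leaf (.up 4 1741 [579] 1163 [57,94,140,96]))))) (.node (.node (.node (.leaf (.up 5 1631 [591] 274 [87,55,140,212])) (.leaf (.up 2 1655 [883] 1649 [87,94,123,12]))) (.node (.leaf (.up 5 3482 [581] 0 [57,93,91,130])) (.leaf (.up 4 1172 [581] 0 [88,55,44,228])))) (.node (.node (.leaf (.up 3 1013 [883] 1649 [57,93,104,193])) (.leaf (.up 3 3413 [580] 1163 [57,103,27]))) (.leaf (.up 4 1911 [591] 274 [87,110,44])))))) (.node (.node (.node (.node (.node (.leaf (.up 4 1208 [580] 1163 [57,94,116,112])) (.leaf (.up 6 3768 [582] 1163 [88,56,140,243]))) (.node (.leaf (.up 4 1776 [883] 1649 [88,56,116,236])) (.leaf (.up 5 518 [580] 1163 [94,116,201])))) (.node (.node (.leaf (.up 4 581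 [582] 1163 [57,56,176,141])) (.leaf (.up 5 3387 [883] 1649 [56,123,228]))) (.node (.leaf (.up 3 953 [579] 1163 [87,109])) (.leaf (.up 5 2835 [579] 1163 [88,56,176,137]))))) (.node (.node (.node (.leaf (.up 3 2591 [582] 1163 [87,110,103,135])) (.leaf (.up 4 1486 [883] 1649 [56,91,150]))) (.node (.leaf (.up 2 2362 [573] 0 [57,55,103,111])) (.leaf (.up 4 2886 [579] 1163 [94,42,213])))) (.node (.node (.leaf (.up 5 2760 [578] 0 [55,155,156])) (.leaf (.up 6 521 [883] 1649 [88,94,43,177]))) (.leaf (.up 3 1134 [582] 1163 [88,94,42,226]))))) (.node (.node (.node (.node (.leaf (.up 2 20 [581] 0 [57,93,103,151])) (.leaf (.up 4 1345 [580] 1163 [57,55,44,236]))) (.node (.leaf (.up 5 772 [578] 0 [88,94,103,117])) (.leaf (.up 2 3517 [578] 0 [88,104,37])))) (.node (.node (.leaf (.up 2 1645 [582] 1163 [87,103,131])) (.leaf (.up 5 2026 [582] 1163 [88,93,176,220]))) (.node (.leaf (.up 5 1725 [580] 1163 [93,42,34])) (.leaf (.up 4 559 [581] 0 [87,93,89,161]))))) (.node (.node (.node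 (.leaf (.up 3 1664 [579] 1163 [57,55,42,136])) (.leaf (.up 4 1317 [582] 1163 [57,55,103,134]))) (.node (.leaf (.up 2 2555 [581] 0 [88,103,23])) (.leaf (.up 5 680 [582] 1163 [55,42,139])))) (.node (.node (.leaf (.up 4 2220 [591] 274 [55,104,11])) (.leaf (.up 4 888 [883] 1649 [57,110,104,109]))) (.leaf (.up 5 2638 [573] 0 [88,43,114]))))))) (.node (.node (.node (.node (.node (.node (.leaf (.up 3 1352 [582] 1163 [87,43,65])) (.leaf (.up 5 108 [579] 1163 [56,140,218]))) (.node (.leaf (.up 3 151 [579] 1163 [88,93,123,242])) (.leaf (.up 4 2101 [579] 1163 [88,94,117])))) (.node (.node (.leaf (.up 4 6 [591] 274 [87,93,176,113])) (.leaf (.up 4 643 [582] 1163 [57,110,43,99]))) (.node (.leaf (.up 4 1321 [579] 1163 [88,93,91,74])) (.leaf (.up 3 2496 [581] 0 [88,93,104,122]))))) (.node (.node (.node (.leaf (.up 3 15 [578] 0 [87,93,44,211])) (.leaf (.up 5 477 [883] 1649 [88,89,197]))) (.node (.leaf (.up 2 322 [573] 0 [87,110,176,206])) (.leaf (.up 4 2156 [581] 0 [88,110,140,8]))))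 (.node (.node (.leaf (.up 4 1472 [573] 0 [57,93,155,247])) (.leaf (.up 5 2679 [582] 1163 [57,56,123,196]))) (.leaf (.up 3 3112 [579] 1163 [88,93,140,171]))))) (.node (.node (.node (.node (.leaf (.up 4 3025 [578] 0 [88,94,103,128])) (.leaf (.up 3 3249 [582] 1163 [88,89,241]))) (.node (.leaf (.up 4 3401 [573] 0 [87,56,123,145])) (.leaf (.up 2 1085 [581] 0 [88,55,176,234])))) (.node (.node (.leaf (.up 3 1364 [883] 1649 [87,103,15])) (.leaf (.up 4 3332 [579] 1163 [56,140,183]))) (.node (.leaf (.up 4 686 [580] 1163 [88,55,199])) (.leaf (.up 5 2535 [591] 274 [125]))))) (.node (.node (.node (.leaf (.up 5 2524 [573] 0 [87,110,91,232])) (.leaf (.up 5 3202 [573] 0 [57,94,44,216]))) (.node (.leaf (.up 4 3688 [578] 0 [88,55,116,245])) (.leaf (.up 3 2777 [578] 0 [88,44,135])))) (.node (.node (.leaf (.up 5 2918 [581] 0 [88,140,73])) (.leaf (.up 6 2367 [573] 0 [55,89,184]))) (.leaf (.up 5 1652 [581] 0 [87,55,42,131])))))) (.node (.node (.node (.node (.node (.leaf (.up 3 995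 [581] 0 [87,123,224])) (.leaf (.up 3 2596 [883] 1649 [88,94,116,108]))) (.node (.leaf (.up 4 3166 [579] 1163 [87,56,43,119])) (.leaf (.up 4 966 [581] 0 [87,55,176,217])))) (.node (.node (.leaf (.up 4 450 [578] 0 [55,89,166])) (.leaf (.up 4 3253 [582] 1163 [55,90,113]))) (.node (.leaf (.up 3 690 [591] 274 [87,90,10])) (.leaf (.up 5 1880 [579] 1163 [57,94,176,101]))))) (.node (.node (.node (.leaf (.up 3 1290 [580] 1163 [88,176,27])) (.leaf (.up 4 1911 [578] 0 [87,56,123,237]))) (.node (.leaf (.up 5 2202 [573] 0 [88,93,176,156])) (.leaf (.up 3 1809 [579] 1163 [88,93,123,241])))) (.node (.node (.leaf (.up 3 3095 [581] 0 [56,176,164])) (.leaf (.up 4 2482 [591] 274 [87,55,44,151]))) (.leaf (.up 4 1212 [591] 274 [57,110,89,33]))))) (.node (.node (.node (.node (.leaf (.up 4 1489 [578] 0 [87,94,91,174])) (.leaf (.up 5 3474 [580] 1163 [57,56,104,220]))) (.node (.leaf (.up 4 1595 [580] 1163 [88,110,176,154])) (.leaf (.up 5 1798 [591] 274 [176,115])))) (.node (.node (.leaf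 (.up 3 3242 [573] 0 [87,94,116,127])) (.leaf (.up 5 760 [883] 1649 [57,56,104,71]))) (.leaf (.up 4 721 [591] 274 [88,94,116,187])))) (.node (.node (.node (.leaf (.up 4 1607 [591] 274 [44,126])) (.leaf (.up 3 2496 [579] 1163 [88,56,89,101]))) (.node (.leaf (.up 5 1162 [579] 1163 [93,91,27])) (.leaf (.up 4 1947 [578] 0 [55,104,76])))) (.node (.node (.leaf (.up 5 2615 [573] 0 [57,56,152])) (.leaf (.up 4 2831 [582] 1163 [57,55,123,61]))) (.leaf (.up 4 2230 [883] 1649 [88,55,89,76])))))))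

noncomputable def trio4_01011 : Tr TStep :=
  .node (.node (.node (.node (.node (.node (.node (.leaf (.up 3 1452 [581] 0 [87,116,132])) (.leaf (.up 4 1866 [578] 0 [56,234]))) (.node (.leaf (.up 4 2734 [883] 1649 [87,103,218])) (.leaf (.up 4 2538 [581] 0 [57,55,42,61])))) (.node (.node (.leaf (.up 4 682 [581] 0 [94,91,132])) (.leaf (.up 4 2164 [883] 1649 [94,140,100]))) (.node (.leaf (.up 4 2421 [883] 1649 [57,56,123,232])) (.leaf (.up 6 3058 [883] 1649 [94,42,243]))))) (.node (.node (.node (.leaf (.up 2 92 [883] 1649 [87,44,167])) (.leaf (.up 6 589 [582] 1163 [57,90,185]))) (.node (.leaf (.up 4 3350 [573] 0 [88,43,142])) (.leaf (.up 6 2739 [573] 0 [88,93,123,97])))) (.node (.node (.leaf (.up 5 1180 [591] 274 [88,94,103,209])) (.leaf (.up 5 1163 [579] 1163 [56,123,230]))) (.leaf (.up 3 1322 [883] 1649 [88,90,102]))))) (.node (.node (.node (.node (.leaf (.up 4 342 [573] 0 [87,94,44,137])) (.leaf (.up 4 3155 [591] 274 [94,217]))) (.node (.leaf (.up 4 1260 [581]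 0 [88,93,90,230])) (.leaf (.up 5 8 [573] 0 [110,90,235])))) (.node (.node (.leaf (.up 5 3212 [580] 1163 [88,55,43,72])) (.leaf (.up 5 956 [591] 274 [57,93,43,157]))) (.node (.leaf (.up 6 2130 [591] 274 [57,56,89,148])) (.leaf (.up 4 3360 [581] 0 [93,90,229]))))) (.node (.node (.node (.leaf (.up 5 2822 [883] 1649 [56,116,194])) (.leaf (.up 4 1685 [578] 0 [55,91,150]))) (.node (.leaf (.up 4 2149 [883] 1649 [140,160])) (.leaf (.up 4 1412 [578] 0 [110,104,11])))) (.node (.node (.leaf (.up 4 2175 [578] 0 [57,42,136])) (.leaf (.up 4 2708 [591] 274 [87,93,42,205]))) (.leaf (.up 4 3176 [580] 1163 [87,103,10])))))) (.node (.node (.node (.node (.node (.leaf (.up 2 1108 [591] 274 [56,42,199])) (.leaf (.up 5 3029 [582] 1163 [88,56,176,126]))) (.node (.leaf (.up 4 1414 [883] 1649 [87,94,89,219])) (.leaf (.up 4 814 [580] 1163 [87,56,43,111])))) (.node (.node (.leaf (.up 5 1734 [883] 1649 [57,55,176,71])) (.leaf (.up 6 973 [883] 1649 [56,155,109]))) (.node (.leaf (.up 4 637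 [883] 1649 [88,55,176,124])) (.leaf (.up 5 3621 [883] 1649 [87,110,176,209]))))) (.node (.node (.node (.leaf (.up 5 576 [582] 1163 [110,89,158])) (.leaf (.up 4 1412 [582] 1163 [87,43,132]))) (.node (.leaf (.up 4 1557 [883] 1649 [87,123,217])) (.leaf (.up 4 2260 [883] 1649 [123,34])))) (.node (.node (.leaf (.up 4 1866 [580] 1163 [87,94,44,31])) (.leaf (.up 5 3049 [581] 0 [94,43,114]))) (.leaf (.up 5 3309 [883] 1649 [57,94,89,61]))))) (.node (.node (.node (.node (.leaf (.up 4 2625 [579] 1163 [88,110,42,165])) (.leaf (.up 4 3541 [883] 1649 [87,110,164]))) (.node (.leaf (.up 4 330 [582] 1163 [57,110,43,0])) (.leaf (.up 4 78 [573] 0 [93,123,164])))) (.node (.node (.leaf (.up 3 1953 [579] 1163 [57,43,59])) (.leaf (.up 5 3669 [883] 1649 [87,55,91,238]))) (.leaf (.up 5 840 [579] 1163 [87,89,31])))) (.node (.node (.node (.leaf (.up 4 3404 [883] 1649 [88,56,42,158])) (.leaf (.up 4 1929 [582] 1163 [57,55,233]))) (.node (.leaf (.up 3 2570 [573] 0 [57,56,43,134])) (.leaf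 (.up 4 721 [573] 0 [87,93,91,147])))) (.node (.node (.leaf (.up 5 2017 [591] 274 [88,93,42,213])) (.leaf (.up 4 503 [883] 1649 [43,118]))) (.leaf (.up 4 45 [573] 0 [57,56,91,137]))))))) (.node (.node (.node (.node (.node (.node (.leaf (.up 4 2504 [579] 1163 [57,29])) (.leaf (.up 3 388 [578] 0 [88,94,90,22]))) (.node (.leaf (.up 4 3756 [573] 0 [56,176,190])) (.leaf (.up 3 962 [578] 0 [87,176,74])))) (.node (.node (.leaf (.up 4 1872 [581] 0 [110,90,203])) (.leaf (.up 4 2840 [580] 1163 [57,176,188]))) (.node (.leaf (.up 4 3265 [591] 274 [110,90,125])) (.leaf (.up 4 1145 [573] 0 [87,155,136]))))) (.node (.node (.node (.leaf (.up 2 527 [582] 1163 [57,94,42,239])) (.leaf (.up 1 3 [883] 1649 [55,116,95]))) (.node (.leaf (.up 3 2299 [591] 274 [55,103,246])) (.leaf (.up 4 3363 [573] 0 [88,56,140,118])))) (.node (.node (.leaf (.up 5 3660 [578] 0 [57,104,216])) (.leaf (.up 4 2549 [580] 1163 [88,94,43,65]))) (.leaf (.up 5 3024 [582] 1163 [55,44,21]))))) (.node (.node (.node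 (.node (.leaf (.up 4 2115 [580] 1163 [55,116,201])) (.leaf (.up 4 389 [591] 274 [57,56,42,164]))) (.node (.leaf (.up 4 695 [582] 1163 [55,233])) (.leaf (.up 4 3275 [579] 1163 [88,104,226])))) (.node (.node (.leaf (.up 4 2364 [580] 1163 [94,91,98])) (.leaf (.up 5 3203 [578] 0 [87,94,43,216]))) (.node (.leaf (.up 5 2404 [581] 0 [123,132])) (.leaf (.up 4 706 [591] 274 [110,42,138]))))) (.node (.node (.node (.leaf (.up 4 914 [591] 274 [87,110,42,162])) (.leaf (.up 3 2299 [573] 0 [88,55,90,131]))) (.node (.leaf (.up 5 2602 [579] 1163 [93,90,145])) (.leaf (.up 4 1360 [581] 0 [57,110,103,121])))) (.node (.node (.leaf (.up 5 1735 [883] 1649 [88,56,91,15])) (.leaf (.up 6 222 [883] 1649 [57,94,116,216]))) (.leaf (.up 4 3741 [580] 1163 [87,155,184])))))) (.node (.node (.node (.node (.node (.leaf (.up 5 1221 [883] 1649 [57,110,43,46])) (.leaf (.up 3 2299 [578] 0 [57,94,44,227]))) (.node (.leaf (.up 2 499 [591] 274 [88,93,43,133])) (.leaf (.up 3 995 [573] 0 [110,89,151]))))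 (.node (.node (.leaf (.up 5 1817 [591] 274 [87,93,42,248])) (.leaf (.up 5 2913 [582] 1163 [57,94,91,195]))) (.node (.leaf (.up 5 230 [582] 1163 [88,93,89,97])) (.leaf (.up 4 3253 [579] 1163 [88,91,5]))))) (.node (.node (.node (.leaf (.up 5 867 [573] 0 [57,55,155,111])) (.leaf (.up 3 3249 [573] 0 [88,93,140,195]))) (.node (.leaf (.up 3 3310 [582] 1163 [88,56,89,240])) (.leaf (.up 4 1696 [580] 1163 [87,155,1])))) (.node (.node (.leaf (.up 3 2909 [883] 1649 [88,110,103,72])) (.leaf (.up 4 3756 [883] 1649 [93,43,174]))) (.leaf (.up 4 3241 [591] 274 [87,55,173]))))) (.node (.node (.node (.node (.leaf (.up 4 3276 [580] 1163 [87,56,123,170])) (.leaf (.up 3 2761 [883] 1649 [57,56,42,46]))) (.node (.leaf (.up 5 3715 [581] 0 [93,155,145])) (.leaf (.up 3 1352 [591] 274 [88,94,42,212])))) (.node (.node (.leaf (.up 5 1762 [579] 1163 [57,56,44,208])) (.leaf (.up 3 3766 [883] 1649 [57,55,73]))) (.leaf (.up 2 1980 [582] 1163 [57,94,176,157])))) (.node (.node (.node (.leaf (.up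 3 1326 [883] 1649 [57,55,176,97])) (.leaf (.up 6 2529 [591] 274 [88,94,123,154]))) (.node (.leaf (.up 4 3582 [591] 274 [87,94,123,46])) (.leaf (.up 4 137 [573] 0 [88,55,43,151])))) (.node (.node (.leaf (.up 2 1922 [591] 274 [87,55,116,109])) (.leaf (.up 5 2615 [591] 274 [88,94,176,192]))) (.leaf (.up 4 276 [579] 1163 [93,103,111])))))))

noncomputable def trio4_0101 : Tr TStep := .node trio4_01010 trio4_01011

noncomputable def trio4_010 : Tr TStep := .node trio4_0100 trio4_0101

noncomputable def trio4_01100 : Tr TStep :=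
  .node (.node (.node (.node (.node (.node (.node (.leaf (.up 3 2892 [578] 0 [57,56,103,77])) (.leaf (.up 4 2521 [883] 1649 [87,56,42,152]))) (.node (.leaf (.up 5 1076 [579] 1163 [94,145])) (.leaf (.up 5 2315 [883] 1649 [87,93,116,216])))) (.node (.node (.leaf (.up 4 1338 [883] 1649 [87,93,116,214])) (.leaf (.up 4 1260 [582] 1163 [87,93,90,203]))) (.node (.leaf (.up 4 510 [579] 1163 [57,56,89,145])) (.leaf (.up 4 1021 [582] 1163 [87,110,44,23]))))) (.node (.node (.node (.leaf (.up 4 2590 [591] 274 [93,91,161])) (.leaf (.up 3 2278 [579] 1163 [55,155,247]))) (.node (.leaf (.up 6 3538 [883] 1649 [93,89,217])) (.leaf (.up 4 552 [581] 0 [57,90,148])))) (.node (.node (.leaf (.up 5 1070 [591] 274 [88,110,44,227])) (.leaf (.up 4 706 [581] 0 [94,42,105]))) (.leaf (.up 4 441 [581] 0 [57,91,248]))))) (.node (.node (.node (.node (.leaf (.up 3 2201 [573] 0 [57,56,196])) (.leaf (.up 4 2104 [582] 1163 [88,56,116,212]))) (.node (.leaf (.up 4 1049 [579] 1163 [87,56,104,226]))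 (.leaf (.up 4 3414 [591] 274 [87,94,104,128])))) (.node (.node (.leaf (.up 3 354 [578] 0 [87,116,207])) (.leaf (.up 3 1644 [883] 1649 [57,110,155,204]))) (.node (.leaf (.up 4 2807 [591] 274 [87,94,43,165])) (.leaf (.up 4 1420 [883] 1649 [57,110,123,171]))))) (.node (.node (.node (.leaf (.up 4 1639 [582] 1163 [87,55,155,27])) (.leaf (.up 5 3391 [573] 0 [87,55,89,138]))) (.node (.leaf (.up 3 2777 [573] 0 [57,110,90,7])) (.leaf (.up 5 3029 [591] 274 [57,42,177])))) (.node (.node (.leaf (.up 4 3253 [573] 0 [87,55,89,22])) (.leaf (.up 6 2735 [883] 1649 [87,56,140,244]))) (.leaf (.up 3 3519 [883] 1649 [87,56,104,99])))))) (.node (.node (.node (.node (.node (.leaf (.up 3 1786 [581] 0 [155,175])) (.leaf (.up 4 1563 [573] 0 [56,43,229]))) (.node (.leaf (.up 4 3668 [591] 274 [87,116,222])) (.leaf (.up 4 1563 [582] 1163 [94,103,119])))) (.node (.node (.leaf (.up 6 3742 [883] 1649 [88,110,140,239])) (.leaf (.up 5 1735 [573] 0 [56,22]))) (.node (.leaf (.up 4 2590 [580] 1163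 [155,106])) (.leaf (.up 5 3442 [573] 0 [88,110,90,179]))))) (.node (.node (.node (.leaf (.up 6 788 [883] 1649 [55,135])) (.leaf (.up 5 3712 [581] 0 [110,104,179]))) (.node (.leaf (.up 5 578 [582] 1163 [88,94,176,237])) (.leaf (.up 5 769 [591] 274 [87,55,42,163])))) (.node (.node (.leaf (.up 4 2106 [581] 0 [88,110,44,59])) (.leaf (.up 3 1664 [582] 1163 [88,55,42,31]))) (.leaf (.up 4 3657 [578] 0 [88,55,176,150]))))) (.node (.node (.node (.node (.leaf (.up 4 1034 [580] 1163 [87,42,193])) (.leaf (.up 5 3309 [582] 1163 [87,110,116,183]))) (.node (.leaf (.up 5 1432 [883] 1649 [87,55,10])) (.leaf (.up 4 1033 [578] 0 [91,59])))) (.node (.node (.leaf (.up 5 1930 [581] 0 [93,44,153])) (.leaf (.up 4 3001 [591] 274 [55,44,205]))) (.node (.leaf (.up 4 1033 [581] 0 [88,93,176,4])) (.leaf (.up 5 1096 [573] 0 [88,55,90,154]))))) (.node (.node (.node (.leaf (.up 4 722 [883] 1649 [57,55,89,33])) (.leaf (.up 4 288 [582] 1163 [57,55,90,221]))) (.node (.leaf (.up 4 1223 [578] 0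 [87,55,155,117])) (.leaf (.up 4 868 [883] 1649 [57,110,116,194])))) (.node (.node (.leaf (.up 3 1006 [883] 1649 [88,94,104,188])) (.leaf (.up 5 3455 [573] 0 [57,94,155,206]))) (.leaf (.up 4 3543 [581] 0 [57,110,90,20]))))))) (.node (.node (.node (.node (.node (.node (.leaf (.up 4 2799 [580] 1163 [57,123,196])) (.leaf (.up 4 3389 [579] 1163 [88,56,116,139]))) (.node (.leaf (.up 4 3166 [578] 0 [94,140,209])) (.leaf (.up 5 1930 [883] 1649 [57,56,89,231])))) (.node (.node (.leaf (.up 3 358 [582] 1163 [88,43,131])) (.leaf (.up 4 3541 [573] 0 [155,200]))) (.node (.leaf (.up 4 2717 [581] 0 [93,111])) (.leaf (.up 6 1164 [883] 1649 [57,56,89,2]))))) (.node (.node (.node (.leaf (.up 5 684 [581] 0 [88,56,116,187])) (.leaf (.up 4 754 [581] 0 [57,94,123,248]))) (.node (.leaf (.up 6 317 [883] 1649 [57,116,142])) (.leaf (.up 1 14 [591] 274 [87,110,155,118])))) (.node (.node (.leaf (.up 4 789 [573] 0 [88,56,176,137])) (.leaf (.up 3 140 [573] 0 [110,123,180]))) (.leaf (.up 4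 3192 [578] 0 [88,110,123,204]))))) (.node (.node (.node (.node (.leaf (.up 5 815 [883] 1649 [87,93,89,131])) (.leaf (.up 5 1849 [573] 0 [87,94,140,204]))) (.node (.leaf (.up 3 752 [578] 0 [93,140,163])) (.leaf (.up 3 3249 [580] 1163 [57,94,155,229])))) (.node (.node (.leaf (.up 3 1083 [580] 1163 [94,91,73])) (.leaf (.up 4 1560 [580] 1163 [94,140,162]))) (.node (.leaf (.up 4 3352 [591] 274 [88,110,89,228])) (.leaf (.up 2 2813 [581] 0 [57,123,27]))))) (.node (.node (.node (.leaf (.up 3 3564 [573] 0 [87,110,104,172])) (.leaf (.up 2 2362 [580] 1163 [87,93,42,218]))) (.node (.leaf (.up 3 1364 [582] 1163 [56,44,145])) (.leaf (.up 3 2307 [578] 0 [87,56,140,106])))) (.node (.node (.leaf (.up 4 2101 [883] 1649 [93,176,149])) (.leaf (.up 5 578 [591] 274 [88,93,176,224]))) (.leaf (.up 3 1659 [591] 274 [57,56,89,106])))))) (.node (.node (.node (.node (.node (.leaf (.up 2 20 [582] 1163 [57,93,103,146])) (.leaf (.up 4 944 [883] 1649 [93,91,5]))) (.node (.leaf (.up 4 3688 [579]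 1163 [57,110,104,234])) (.leaf (.up 5 3024 [883] 1649 [88,90,33])))) (.node (.node (.leaf (.up 4 2724 [579] 1163 [88,110,44,168])) (.leaf (.up 3 12 [580] 1163 [56,103,159]))) (.node (.leaf (.up 4 1929 [581] 0 [87,55,91,172])) (.leaf (.up 4 1632 [591] 274 [57,56,42,223]))))) (.node (.node (.node (.leaf (.up 2 1655 [580] 1163 [88,93,120])) (.leaf (.up 4 1029 [581] 0 [93,140,144]))) (.node (.leaf (.up 4 946 [883] 1649 [57,44,128])) (.leaf (.up 4 2099 [578] 0 [88,55,103,192])))) (.node (.node (.leaf (.up 4 1560 [578] 0 [94,42,74])) (.leaf (.up 4 422 [591] 274 [87,94,140,10]))) (.leaf (.up 4 1068 [581] 0 [88,55,140,105]))))) (.node (.node (.node (.node (.leaf (.up 4 2864 [573] 0 [56,1])) (.leaf (.up 2 1085 [591] 274 [88,93,140,31]))) (.node (.leaf (.up 4 3170 [580] 1163 [57,94,44,37])) (.leaf (.up 4 871 [582] 1163 [88,94,116,173])))) (.node (.node (.leaf (.up 5 3663 [580] 1163 [88,110,176,1])) (.leaf (.up 5 1221 [582] 1163 [88,56,104,199]))) (.leaf (.up 4 3528 [591]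 274 [56,140,237])))) (.node (.node (.node (.leaf (.up 4 1260 [578] 0 [87,110,91,131])) (.leaf (.up 5 1065 [578] 0 [88,110,103,184]))) (.node (.leaf (.up 3 3357 [573] 0 [88,123,160])) (.leaf (.up 5 565 [579] 1163 [94,43,188])))) (.node (.node (.leaf (.up 4 1068 [582] 1163 [88,43,172])) (.leaf (.up 3 2307 [573] 0 [87,93,140,100]))) (.leaf (.up 4 2952 [581] 0 [57,94,90,183])))))))

noncomputable def trio4_01101 : Tr TStep :=
  .node (.node (.node (.node (.node (.node (.node (.leaf (.up 5 3596 [580] 1163 [88,44,214])) (.leaf (.up 4 1260 [580] 1163 [57,110,155,198]))) (.node (.leaf (.up 5 2239 [883] 1649 [88,93,104,16])) (.leaf (.up 4 2137 [581] 0 [87,91,218])))) (.node (.node (.leaf (.up 4 3289 [579] 1163 [56,104,157])) (.leaf (.up 5 3083 [883] 1649 [94,155,137]))) (.node (.leaf (.up 4 2807 [579] 1163 [87,42,214])) (.leaf (.up 5 3733 [579] 1163 [93,140,154]))))) (.node (.node (.node (.leaf (.up 5 1562 [579] 1163 [88,93,91,234])) (.leaf (.up 5 1608 [573] 0 [57,56,104,165])))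 (.node (.leaf (.up 3 2909 [573] 0 [57,56,89,180])) (.leaf (.up 3 2254 [578] 0 [87,56,116,216])))) (.node (.node (.leaf (.up 4 1282 [579] 1163 [88,56,104,158])) (.leaf (.up 4 2851 [581] 0 [55,155,189]))) (.leaf (.up 4 53 [579] 1163 [57,93,103,74]))))) (.node (.node (.node (.node (.leaf (.up 4 1437 [578] 0 [88,104,95])) (.leaf (.up 2 3586 [578] 0 [87,93,123,186]))) (.node (.leaf (.up 4 1185 [591] 274 [57,140,10])) (.leaf (.up 3 1326 [580] 1163 [87,94,44,147])))) (.node (.node (.leaf (.up 4 2106 [579] 1163 [87,93,44,168])) (.leaf (.up 4 248 [579] 1163 [57,110,155,206]))) (.node (.leaf (.up 4 1582 [581] 0 [87,56,104,134])) (.leaf (.up 3 3564 [578] 0 [87,93,91,7]))))) (.node (.node (.node (.leaf (.up 3 3310 [883] 1649 [110,116,114])) (.leaf (.up 6 3074 [883] 1649 [110,104,242]))) (.node (.leaf (.up 5 486 [573] 0 [57,56,140,236])) (.leaf (.up 4 2692 [580] 1163 [88,123,92])))) (.node (.node (.leaf (.up 3 1786 [580] 1163 [87,123,46])) (.leaf (.up 4 3055 [578] 0 [87,94,89,207])))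 (.leaf (.up 4 2896 [883] 1649 [57,94,116,76])))))) (.node (.node (.node (.node (.node (.leaf (.up 4 380 [578] 0 [87,55,91,179])) (.leaf (.up 3 1896 [573] 0 [94,89,102]))) (.node (.leaf (.up 5 417 [582] 1163 [88,91,247])) (.leaf (.up 3 354 [579] 1163 [88,94,43,231])))) (.node (.node (.leaf (.up 3 2903 [579] 1163 [57,94,65])) (.leaf (.up 5 1096 [578] 0 [87,94,42,192]))) (.node (.leaf (.up 4 1422 [591] 274 [56,116,61])) (.leaf (.up 4 1021 [591] 274 [88,93,104,233]))))) (.node (.node (.node (.leaf (.up 3 1664 [883] 1649 [87,55,243])) (.leaf (.up 5 1285 [883] 1649 [57,93,37]))) (.node (.leaf (.up 5 786 [578] 0 [87,43,72])) (.leaf (.up 3 2856 [578] 0 [110,91,244])))) (.node (.node (.leaf (.up 6 822 [581] 0 [88,94,140,233])) (.leaf (.up 4 2642 [578] 0 [88,56,176,164]))) (.leaf (.up 5 3092 [581] 0 [110,44,181]))))) (.node (.node (.node (.node (.leaf (.up 3 2961 [581] 0 [57,176,72])) (.leaf (.up 4 2248 [581] 0 [87,55,43,122]))) (.node (.leaf (.up 5 2070 [579] 1163 [94,104,8]))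 (.leaf (.up 5 2026 [581] 0 [88,93,89,220])))) (.node (.node (.leaf (.up 4 2608 [578] 0 [88,56,91,246])) (.leaf (.up 4 537 [579] 1163 [87,56,176,170]))) (.leaf (.up 3 2781 [579] 1163 [56,42,189])))) (.node (.node (.node (.leaf (.up 5 3442 [578] 0 [57,56,89,247])) (.leaf (.up 4 2309 [591] 274 [87,93,91,135]))) (.node (.leaf (.up 5 1492 [578] 0 [56,42,30])) (.leaf (.up 3 3095 [591] 274 [88,93,89,16])))) (.node (.node (.leaf (.up 2 2813 [580] 1163 [55,215])) (.leaf (.up 3 1659 [582] 1163 [88,93,143]))) (.leaf (.up 4 3030 [573] 0 [87,94,243]))))))) (.node (.node (.node (.node (.node (.node (.leaf (.up 4 3414 [582] 1163 [110,103,200])) (.leaf (.up 5 271 [582] 1163 [57,94,116,177]))) (.node (.leaf (.up 4 1003 [883] 1649 [87,90,0])) (.leaf (.up 4 3312 [578] 0 [57,93,91,131])))) (.node (.node (.leaf (.up 4 1745 [573] 0 [87,123,180])) (.leaf (.up 3 1083 [578] 0 [94,140,100]))) (.node (.leaf (.up 4 2621 [582] 1163 [57,55,155,135])) (.leaf (.up 4 2416 [581] 0 [87,55,90,166])))))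 (.node (.node (.node (.leaf (.up 5 2413 [883] 1649 [57,94,103,59])) (.leaf (.up 4 2585 [883] 1649 [87,94,91,194]))) (.node (.leaf (.up 5 1179 [883] 1649 [56,103,223])) (.leaf (.up 4 2504 [582] 1163 [88,110,91,101])))) (.node (.node (.leaf (.up 5 2535 [582] 1163 [55,176,202])) (.leaf (.up 5 1064 [883] 1649 [87,110,91,150]))) (.leaf (.up 5 1150 [883] 1649 [88,110,43,178]))))) (.node (.node (.node (.node (.leaf (.up 4 223 [883] 1649 [87,94,91,188])) (.leaf (.up 3 1664 [580] 1163 [93,91,37]))) (.node (.leaf (.up 5 2042 [578] 0 [57,93,91,34])) (.leaf (.up 5 296 [579] 1163 [88,56,116,119])))) (.node (.node (.leaf (.up 4 1518 [580] 1163 [57,55,116,161])) (.leaf (.up 5 159 [581] 0 [88,55,91,113]))) (.node (.leaf (.up 5 1731 [883] 1649 [110,103,175])) (.leaf (.up 2 1922 [578] 0 [57,93,91,125]))))) (.node (.node (.node (.leaf (.up 5 804 [582] 1163 [88,56,42,148])) (.leaf (.up 3 1013 [580] 1163 [110,44,231]))) (.node (.leaf (.up 4 344 [582] 1163 [87,55,140,106])) (.leaf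 (.up 5 1912 [582] 1163 [57,93,43,22])))) (.node (.node (.leaf (.up 4 2297 [582] 1163 [88,155,173])) (.leaf (.up 4 1760 [580] 1163 [110,116,7]))) (.leaf (.up 5 539 [591] 274 [57,155,213])))))) (.node (.node (.node (.node (.node (.leaf (.up 4 2752 [580] 1163 [176,153])) (.leaf (.up 2 2555 [579] 1163 [93,155,218]))) (.node (.leaf (.up 5 51 [582] 1163 [93,42,23])) (.leaf (.up 5 2629 [579] 1163 [55,91,120])))) (.node (.node (.leaf (.up 4 2423 [883] 1649 [87,94,123,163])) (.leaf (.up 4 2865 [579] 1163 [88,94,210]))) (.node (.leaf (.up 5 2031 [883] 1649 [94,123,18])) (.leaf (.up 4 3543 [883] 1649 [57,93,176,21]))))) (.node (.node (.node (.leaf (.up 5 2745 [883] 1649 [88,55,103,98])) (.leaf (.up 5 488 [582] 1163 [88,110,43,205]))) (.node (.leaf (.up 4 1925 [591] 274 [55,176,195])) (.leaf (.up 3 1634 [883] 1649 [57,56,155,184])))) (.node (.node (.leaf (.up 4 1895 [582] 1163 [88,89,71])) (.leaf (.up 5 2465 [591] 274 [57,155,214]))) (.leaf (.up 4 2498 [591] 274 [87,93,89,244])))))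 (.node (.node (.node (.node (.leaf (.up 2 2336 [582] 1163 [55,176,243])) (.leaf (.up 4 1805 [581] 0 [87,56,123,230]))) (.node (.leaf (.up 6 1507 [591] 274 [57,94,155,22])) (.leaf (.up 5 66 [578] 0 [87,110,42,1])))) (.node (.node (.leaf (.up 5 2610 [883] 1649 [87,56,140,3])) (.leaf (.up 5 867 [581] 0 [88,94,91,117]))) (.leaf (.up 6 127 [582] 1163 [57,55,116,125])))) (.node (.node (.node (.leaf (.up 5 2372 [573] 0 [57,110,176,31])) (.leaf (.up 3 625 [591] 274 [55,155,105]))) (.node (.leaf (.up 4 458 [581] 0 [94,44,0])) (.leaf (.up 4 261 [582] 1163 [88,94,34])))) (.node (.node (.leaf (.up 5 840 [883] 1649 [88,93,116,117])) (.leaf (.up 5 2136 [578] 0 [88,56,44,179]))) (.leaf (.up 6 185 [883] 1649 [57,93,89,158])))))))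

noncomputable def trio4_0110 : Tr TStep := .node trio4_01100 trio4_01101

noncomputable def trio4_01110 : Tr TStep :=
  .node (.node (.node (.node (.node (.node (.node (.leaf (.root 3)) (.leaf (.up 4 3438 [582] 1163 [88,110,116,22]))) (.node (.leaf (.up 4 2128 [883] 1649 [57,94,103,161])) (.leaf (.up 5 1759 [883] 1649 [87,94,90,134])))) (.node (.node (.leaf (.up 5 3694 [580] 1163 [87,90,186])) (.leaf (.up 5 3298 [581] 0 [88,93,89,129]))) (.node (.leaf (.up 5 2919 [582] 1163 [87,91,205])) (.leaf (.up 5 1844 [579] 1163 [57,93,221]))))) (.node (.node (.node (.leaf (.up 3 3579 [581] 0 [57,94,176,243])) (.leaf (.up 4 3589 [582] 1163 [57,94,44,191]))) (.node (.leaf (.up 4 2431 [581] 0 [57,55,43,124])) (.leaf (.up 3 94 [591] 274 [93,42,230])))) (.node (.node (.leaf (.up 2 2362 [582] 1163 [56,27])) (.leaf (.up 4 1412 [579] 1163 [87,94,176,177]))) (.leaf (.up 4 2153 [580] 1163 [88,55,42,173]))))) (.node (.node (.node (.node (.leaf (.up 5 1700 [573] 0 [57,55,103,203]))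 (.leaf (.up 4 3650 [579] 1163 [88,93,176,204]))) (.node (.leaf (.up 5 612 [883] 1649 [88,93,89,124])) (.leaf (.up 4 1528 [573] 0 [93,90,220])))) (.node (.node (.leaf (.up 5 2225 [581] 0 [94,103,244])) (.leaf (.up 4 556 [578] 0 [56,91,158]))) (.node (.leaf (.up 5 2484 [883] 1649 [88,94,103,18])) (.leaf (.up 4 3457 [578] 0 [57,93,155,238]))))) (.node (.node (.node (.leaf (.up 4 2625 [581] 0 [87,89,139])) (.leaf (.up 5 405 [581] 0 [88,56,91,119]))) (.node (.leaf (.up 3 1399 [883] 1649 [87,94,44,74])) (.leaf (.up 4 3155 [579] 1163 [87,93,155,118])))) (.node (.node (.leaf (.up 4 112 [582] 1163 [88,56,91,190])) (.leaf (.up 4 2498 [582] 1163 [87,110,116,183]))) (.leaf (.up 5 2795 [591] 274 [57,94,43,117])))))) (.node (.node (.node (.node (.node (.leaf (.up 3 701 [580] 1163 [88,94,90,205])) (.leaf (.up 5 2809 [580] 1163 [87,56,104,231]))) (.node (.leaf (.up 5 472 [580] 1163 [56,104,71])) (.leaf (.up 4 914 [581] 0 [57,110,140,205])))) (.node (.node (.leaf (.up 5 3718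 [582] 1163 [57,55,43,238])) (.leaf (.up 4 3360 [582] 1163 [87,55,105]))) (.node (.leaf (.up 4 1169 [883] 1649 [88,116,130])) (.leaf (.up 3 2254 [883] 1649 [88,93,42,218]))))) (.node (.node (.node (.leaf (.up 3 2254 [582] 1163 [87,56,123,15])) (.leaf (.up 6 1052 [581] 0 [57,55,116,13]))) (.node (.leaf (.up 4 2178 [883] 1649 [44,157])) (.leaf (.up 4 3560 [573] 0 [94,89,158])))) (.node (.node (.leaf (.up 3 1800 [573] 0 [88,55,89,209])) (.leaf (.up 4 492 [580] 1163 [42,145]))) (.leaf (.up 4 980 [582] 1163 [87,93,103,179]))))) (.node (.node (.node (.node (.leaf (.up 4 1029 [582] 1163 [93,43,247])) (.leaf (.up 2 1655 [591] 274 [93,104,61]))) (.node (.leaf (.up 4 1293 [579] 1163 [91,96])) (.leaf (.up 5 639 [581] 0 [88,56,43,22])))) (.node (.node (.leaf (.up 4 330 [578] 0 [87,93,123,141])) (.leaf (.up 5 2350 [883] 1649 [87,90,171]))) (.node (.leaf (.up 5 2918 [578] 0 [110,89,182])) (.leaf (.up 4 3213 [580] 1163 [56,123,131]))))) (.node (.node (.node (.leaf (.up 4 763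 [581] 0 [93,43,188])) (.leaf (.up 3 140 [591] 274 [93,155,33]))) (.node (.leaf (.up 3 1352 [883] 1649 [55,140,97])) (.leaf (.up 5 2319 [883] 1649 [88,93,176,3])))) (.node (.node (.leaf (.up 5 1377 [582] 1163 [57,94,123,226])) (.leaf (.up 3 2781 [582] 1163 [87,94,43,147]))) (.leaf (.up 4 1376 [573] 0 [88,140,60]))))))) (.node (.node (.node (.node (.node (.node (.leaf (.up 4 2576 [579] 1163 [88,110,42,105])) (.leaf (.up 5 3478 [582] 1163 [88,116,99]))) (.node (.leaf (.up 4 1015 [573] 0 [88,93,91,3])) (.leaf (.up 4 2153 [582] 1163 [88,55,89,20])))) (.node (.node (.leaf (.up 5 285 [582] 1163 [87,94,104,156])) (.leaf (.up 4 1764 [581] 0 [88,93,90,122]))) (.node (.leaf (.up 3 1326 [578] 0 [110,90,31])) (.leaf (.up 4 2681 [591] 274 [87,110,42,156]))))) (.node (.node (.node (.leaf (.up 5 1377 [591] 274 [88,94,42,247])) (.leaf (.up 4 3662 [573] 0 [57,94,44,174]))) (.node (.leaf (.up 2 2813 [591] 274 [57,94,44,205])) (.leaf (.up 5 2372 [580] 1163 [55,42,150])))) (.node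 (.node (.leaf (.up 3 677 [573] 0 [88,93,103,101])) (.leaf (.up 5 3469 [579] 1163 [87,44,179]))) (.leaf (.up 4 1696 [883] 1649 [57,42,74]))))) (.node (.node (.node (.node (.leaf (.up 4 266 [573] 0 [57,94,104,11])) (.leaf (.up 2 2555 [582] 1163 [88,104,213]))) (.node (.leaf (.up 3 1482 [582] 1163 [88,93,104,244])) (.leaf (.up 5 2619 [883] 1649 [87,94,42,129])))) (.node (.node (.leaf (.up 3 3010 [578] 0 [87,55,104,125])) (.leaf (.up 3 2591 [591] 274 [57,56,180]))) (.node (.leaf (.up 4 1872 [573] 0 [57,110,140,245])) (.leaf (.up 3 282 [883] 1649 [87,56,123,234]))))) (.node (.node (.node (.leaf (.up 5 2900 [579] 1163 [57,110,116,206])) (.leaf (.up 4 3780 [578] 0 [88,93,89,237]))) (.node (.leaf (.up 4 642 [580] 1163 [87,91,197])) (.leaf (.up 4 3608 [579] 1163 [87,55,42,201])))) (.node (.node (.leaf (.up 2 527 [579] 1163 [94,155,133])) (.leaf (.up 5 3660 [573] 0 [93,44,208]))) (.leaf (.up 5 1573 [883] 1649 [87,110,89,101])))))) (.node (.node (.node (.node (.node (.leaf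 (.up 4 2861 [591] 274 [87,56,149])) (.leaf (.up 4 3116 [579] 1163 [87,110,91,69]))) (.node (.leaf (.up 2 3586 [581] 0 [87,94,116,96])) (.leaf (.up 5 3282 [591] 274 [88,93,44,196])))) (.node (.node (.leaf (.up 4 1819 [578] 0 [55,103,113])) (.leaf (.up 4 510 [883] 1649 [88,93,116,30]))) (.node (.leaf (.up 4 1279 [883] 1649 [57,42,1])) (.leaf (.up 4 2536 [573] 0 [55,90,61]))))) (.node (.node (.node (.leaf (.up 4 1985 [883] 1649 [88,42,230])) (.leaf (.up 6 1362 [883] 1649 [88,93,42,183]))) (.node (.leaf (.up 5 2404 [578] 0 [88,89,228])) (.leaf (.up 3 1013 [573] 0 [57,56,155,165])))) (.node (.node (.leaf (.up 3 982 [582] 1163 [87,91,143])) (.leaf (.up 4 1552 [883] 1649 [57,110,155,172]))) (.leaf (.up 3 1326 [573] 0 [116,189]))))) (.node (.node (.node (.node (.leaf (.up 4 3170 [579] 1163 [110,90,232])) (.leaf (.up 5 1058 [581] 0 [94,103,109]))) (.node (.leaf (.up 4 516 [580] 1163 [87,110,123,121])) (.leaf (.up 2 92 [591] 274 [88,44,201])))) (.node (.node (.leaf (.up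 4 1338 [573] 0 [88,94,155,106])) (.leaf (.up 4 3229 [573] 0 [57,93,89,208]))) (.leaf (.up 5 3154 [578] 0 [93,176,112])))) (.node (.node (.node (.leaf (.up 5 2877 [573] 0 [88,55,140,169])) (.leaf (.up 4 3401 [581] 0 [88,94,123,180]))) (.node (.leaf (.up 3 677 [578] 0 [88,91,31])) (.leaf (.up 4 2930 [580] 1163 [88,56,140,178])))) (.node (.node (.leaf (.up 2 3788 [582] 1163 [57,55,104,119])) (.leaf (.up 5 147 [573] 0 [88,93,89,69]))) (.leaf (.up 3 3242 [883] 1649 [87,89,20])))))))

noncomputable def trio4_01111 : Tr TStep :=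
  .node (.node (.node (.node (.node (.node (.node (.leaf (.up 4 1595 [578] 0 [57,94,90,227])) (.leaf (.up 4 2807 [573] 0 [57,93,123,97]))) (.node (.leaf (.up 6 816 [883] 1649 [88,56,42])) (.leaf (.up 4 2776 [581] 0 [88,55,162])))) (.node (.node (.leaf (.up 2 3366 [581] 0 [88,110,43,118])) (.leaf (.up 3 2489 [581] 0 [88,91,197]))) (.node (.leaf (.up 4 3289 [573] 0 [88,110,91,11])) (.leaf (.up 5 2638 [581] 0 [87,55,116,147]))))) (.node (.node (.node (.leaf (.up 4 3128 [883] 1649 [57,110,123,92])) (.leaf (.up 4 3219 [582] 1163 [87,55,140,10]))) (.node (.leaf (.up 4 1557 [578] 0 [57,55,176,124])) (.leaf (.up 4 3295 [582] 1163 [93,104,77])))) (.node (.node (.leaf (.up 5 400 [883] 1649 [88,56,140,223])) (.leaf (.up 4 276 [580] 1163 [93,103,13]))) (.leaf (.up 3 675 [578] 0 [55,140,145]))))) (.node (.node (.node (.node (.leaf (.up 2 93 [581] 0 [57,55,104,108])) (.leaf (.up 5 3148 [573] 0 [87,110,44,149]))) (.node (.leaf (.up 4 3597 [580] 1163 [87,94,89,109])) (.leaf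 (.up 3 1399 [573] 0 [57,56,116,197])))) (.node (.node (.leaf (.up 4 3633 [573] 0 [88,93,44,46])) (.leaf (.up 5 364 [582] 1163 [56,176,154]))) (.node (.leaf (.up 4 944 [580] 1163 [57,110,116,184])) (.leaf (.up 5 873 [573] 0 [56,91,61]))))) (.node (.node (.node (.leaf (.up 4 3192 [580] 1163 [87,110,44,161])) (.leaf (.up 5 3372 [591] 274 [87,110,104,128]))) (.node (.leaf (.up 5 3204 [591] 274 [94,116,224])) (.leaf (.up 4 901 [581] 0 [57,93,116,8])))) (.node (.node (.leaf (.up 5 711 [591] 274 [88,93,43,126])) (.leaf (.up 4 2106 [883] 1649 [55,116,208]))) (.leaf (.up 3 675 [883] 1649 [87,44,114])))))) (.node (.node (.node (.node (.node (.leaf (.up 2 3788 [591] 274 [110,140,222])) (.leaf (.up 4 1021 [573] 0 [57,94,104,187]))) (.node (.leaf (.up 5 2932 [582] 1163 [88,55,176,144])) (.leaf (.up 3 140 [581] 0 [88,93,42,130])))) (.node (.node (.leaf (.up 4 3650 [573] 0 [57,55,155,0])) (.leaf (.up 4 3288 [883] 1649 [88,116,233]))) (.node (.leaf (.up 4 3219 [580] 1163 [57,55,43,151]))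 (.leaf (.up 6 1579 [883] 1649 [57,55,90,183]))))) (.node (.node (.node (.leaf (.up 4 3543 [579] 1163 [87,110,140,247])) (.leaf (.up 5 1590 [573] 0 [57,94,103,166]))) (.node (.leaf (.up 5 1849 [579] 1163 [57,94,89,183])) (.leaf (.up 4 2588 [573] 0 [88,94,104,234])))) (.node (.node (.leaf (.up 5 283 [883] 1649 [88,56,42,225])) (.leaf (.up 5 830 [580] 1163 [88,56,42,33]))) (.leaf (.up 4 2533 [591] 274 [57,110,176,127]))))) (.node (.node (.node (.node (.leaf (.up 5 2732 [579] 1163 [123,35])) (.leaf (.up 2 322 [591] 274 [56,116,222]))) (.node (.leaf (.up 3 2496 [591] 274 [87,103,226])) (.leaf (.up 6 3068 [883] 1649 [93,116,22])))) (.node (.node (.leaf (.up 2 3366 [582] 1163 [87,94,89,137])) (.leaf (.up 5 1912 [591] 274 [110,116,247]))) (.leaf (.up 3 2299 [581] 0 [57,94,103,30])))) (.node (.node (.node (.leaf (.up 5 2603 [581] 0 [110,155,0])) (.leaf (.up 4 288 [591] 274 [56,155,244]))) (.node (.leaf (.up 2 3586 [580] 1163 [126])) (.leaf (.up 4 1381 [581] 0 [104,159]))))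 (.node (.node (.leaf (.up 4 2175 [582] 1163 [87,42,121])) (.leaf (.up 5 1210 [581] 0 [87,94,104,190]))) (.leaf (.up 4 2987 [580] 1163 [55,104,209]))))))) (.node (.node (.node (.node (.node (.node (.leaf (.up 4 1192 [883] 1649 [57,93,116,135])) (.leaf (.up 5 479 [883] 1649 [87,65]))) (.node (.leaf (.up 6 1052 [578] 0 [88,55,176,237])) (.leaf (.up 4 3626 [591] 274 [88,110,176,10])))) (.node (.node (.leaf (.up 5 2623 [883] 1649 [155,179])) (.leaf (.up 5 1444 [578] 0 [87,110,140,141]))) (.node (.leaf (.up 4 1866 [883] 1649 [57,93,44,76])) (.leaf (.up 4 2156 [579] 1163 [57,73]))))) (.node (.node (.node (.leaf (.up 4 1472 [578] 0 [55,44,153])) (.leaf (.up 4 1048 [582] 1163 [88,56,116,12]))) (.node (.leaf (.up 5 418 [581] 0 [88,56,103,46])) (.leaf (.up 4 946 [582] 1163 [88,94,246])))) (.node (.node (.leaf (.up 4 3581 [883] 1649 [87,110,44,235])) (.leaf (.up 4 2260 [591] 274 [88,42,192]))) (.leaf (.up 5 998 [582] 1163 [57,44,61]))))) (.node (.node (.node (.node (.leaf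 (.up 3 379 [578] 0 [88,110,91,172])) (.leaf (.up 4 53 [883] 1649 [88,110,90,166]))) (.node (.leaf (.up 5 390 [573] 0 [88,56,155,228])) (.leaf (.up 4 3758 [580] 1163 [55,103,168])))) (.node (.node (.leaf (.up 2 2555 [578] 0 [57,56,155,235])) (.leaf (.up 5 2830 [579] 1163 [88,104,207]))) (.node (.leaf (.up 4 3233 [573] 0 [110,91,185])) (.leaf (.up 5 566 [883] 1649 [57,110,123,135]))))) (.node (.node (.node (.leaf (.up 5 930 [582] 1163 [57,110,43,60])) (.leaf (.up 4 906 [578] 0 [123,208]))) (.node (.leaf (.up 4 814 [579] 1163 [87,94,43,136])) (.leaf (.up 3 2198 [580] 1163 [87,93,90,193])))) (.node (.node (.leaf (.up 3 995 [579] 1163 [88,56,90,149])) (.leaf (.up 5 357 [579] 1163 [110,89,74]))) (.leaf (.up 4 2930 [582] 1163 [55,43,37])))))) (.node (.node (.node (.node (.node (.leaf (.up 4 1448 [883] 1649 [88,56,155,180])) (.leaf (.up 4 2049 [883] 1649 [87,110,176,196]))) (.node (.leaf (.up 4 1068 [578] 0 [55,143])) (.leaf (.up 5 3100 [573] 0 [57,93,42,200])))) (.node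 (.node (.leaf (.up 5 565 [578] 0 [57,93,162])) (.leaf (.up 4 3289 [581] 0 [88,93,140,227]))) (.node (.leaf (.up 4 3224 [883] 1649 [87,55,103,10])) (.leaf (.up 5 2881 [883] 1649 [87,110,89,248]))))) (.node (.node (.node (.leaf (.up 4 266 [581] 0 [88,155,229])) (.leaf (.up 2 3517 [591] 274 [140,245]))) (.node (.leaf (.up 4 3025 [579] 1163 [57,55,116,221])) (.leaf (.up 5 3382 [578] 0 [57,55,42,241])))) (.node (.node (.leaf (.up 2 3517 [581] 0 [87,110,89,65])) (.leaf (.up 4 2115 [582] 1163 [57,110,103,31]))) (.leaf (.up 4 1624 [578] 0 [87,155,233]))))) (.node (.node (.node (.node (.leaf (.up 5 1057 [883] 1649 [88,110,104,235])) (.leaf (.up 5 2262 [883] 1649 [88,44,245]))) (.node (.leaf (.up 5 2216 [573] 0 [57,110,116,95])) (.leaf (.up 4 3717 [573] 0 [87,56,123,31])))) (.node (.node (.leaf (.up 4 3224 [581] 0 [88,56,89,109])) (.leaf (.up 3 94 [581] 0 [88,93,140,168]))) (.leaf (.up 5 1287 [591] 274 [87,110,43,179])))) (.node (.node (.node (.leaf (.up 3 690 [580] 1163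 [94,140,156])) (.leaf (.up 5 2531 [580] 1163 [88,56,150]))) (.node (.leaf (.up 3 714 [883] 1649 [88,56,176,37])) (.leaf (.up 3 2198 [578] 0 [110,116,129])))) (.node (.node (.leaf (.up 3 675 [573] 0 [87,94,43,3])) (.leaf (.up 4 2668 [573] 0 [87,56,140,160]))) (.leaf (.up 5 2045 [580] 1163 [88,94,116,74])))))))

noncomputable def trio4_0111 : Tr TStep := .node trio4_01110 trio4_01111

noncomputable def trio4_011 : Tr TStep := .node trio4_0110 trio4_0111

noncomputable def trio4_01 : Tr TStep := .node trio4_010 trio4_011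

noncomputable def trio4_0 : Tr TStep := .node trio4_00 trio4_01

noncomputable def trio4_10000 : Tr TStep :=
  .node (.node (.node (.node (.node (.node (.node (.leaf (.root 1)) (.leaf (.up 3 1083 [582] 1163 [88,116,8]))) (.node (.leaf (.up 5 2732 [581] 0 [88,94,217])) (.leaf (.up 5 3355 [591] 274 [87,91,238])))) (.node (.node (.leaf (.up 3 373 [883] 1649 [93,123,74])) (.leaf (.up 5 1614 [581] 0 [110,89,246]))) (.node (.leaf (.up 4 2099 [582] 1163 [88,55,140,195])) (.leaf (.up 6 2105 [883] 1649 [87,55,104,218]))))) (.node (.node (.node (.leaf (.up 4 1708 [573] 0 [88,110,90,229])) (.leaf (.up 5 2524 [581] 0 [57,55,103,242]))) (.node (.leaf (.up 3 2353 [573] 0 [88,94,155,154])) (.leaf (.up 5 3727 [582] 1163 [94,155,131])))) (.node (.node (.leaf (.up 4 643 [581] 0 [87,110,176,76])) (.leaf (.up 5 469 [883] 1649 [88,55,91,220]))) (.leaf (.up 5 2216 [581] 0 [88,44,212]))))) (.node (.node (.node (.node (.leaf (.up 4 1753 [579] 1163 [57,94,103,207])) (.leaf (.up 4 2851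 [580] 1163 [57,93,43,130]))) (.node (.leaf (.up 4 664 [581] 0 [88,56,155,211])) (.leaf (.up 3 1292 [573] 0 [87,110,140,162])))) (.node (.node (.leaf (.up 6 2386 [883] 1649 [87,94,140,142])) (.leaf (.up 5 970 [573] 0 [57,56,116,4]))) (.node (.leaf (.up 3 1640 [579] 1163 [87,56,140,214])) (.leaf (.up 5 1495 [883] 1649 [94,103,170]))))) (.node (.node (.node (.leaf (.up 3 1447 [581] 0 [87,110,103,177])) (.leaf (.up 3 279 [579] 1163 [87,116,195]))) (.node (.leaf (.up 6 1989 [883] 1649 [87,94,89,186])) (.leaf (.up 3 388 [591] 274 [57,55,90,125])))) (.node (.node (.leaf (.up 4 3216 [591] 274 [94,116,224])) (.leaf (.up 5 466 [573] 0 [88,90,15]))) (.leaf (.up 4 1834 [573] 0 [87,110,103,191])))))) (.node (.node (.node (.node (.node (.leaf (.up 3 1502 [883] 1649 [88,110,90,115])) (.leaf (.up 4 1895 [578] 0 [88,110,116,218]))) (.node (.leaf (.up 4 180 [591] 274 [88,93,116,113])) (.leaf (.up 4 510 [581] 0 [57,116,8])))) (.node (.node (.leaf (.up 4 1420 [579] 1163 [87,110,140,35]))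 (.leaf (.up 3 1502 [573] 0 [87,94,43,191]))) (.node (.leaf (.up 5 417 [883] 1649 [87,56,44,25])) (.leaf (.up 4 2481 [883] 1649 [88,93,103,118]))))) (.node (.node (.node (.leaf (.up 5 1798 [883] 1649 [57,93,123,65])) (.leaf (.up 4 1317 [578] 0 [57,55,116,75]))) (.node (.leaf (.up 3 1584 [591] 274 [88,56,43,239])) (.leaf (.up 4 3224 [578] 0 [88,93,89,231])))) (.node (.node (.leaf (.up 4 1381 [573] 0 [55,104,166])) (.leaf (.up 4 3626 [883] 1649 [57,94,43,248]))) (.leaf (.up 5 1170 [581] 0 [57,110,140,102]))))) (.node (.node (.node (.node (.leaf (.up 5 3203 [580] 1163 [88,56,90,199])) (.leaf (.up 4 2642 [580] 1163 [87,56,103,184]))) (.node (.leaf (.up 5 3240 [883] 1649 [88,110,146])) (.leaf (.up 3 1545 [578] 0 [57,93,90,185])))) (.node (.node (.leaf (.up 4 1113 [580] 1163 [88,93,104,112])) (.leaf (.up 4 901 [591] 274 [88,55,116,246]))) (.node (.leaf (.up 5 1629 [582] 1163 [57,56,116,221])) (.leaf (.up 3 1354 [883] 1649 [57,110,90,165]))))) (.node (.node (.node (.leaf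 (.up 2 2617 [578] 0 [55,6])) (.leaf (.up 6 3076 [883] 1649 [110,90,171]))) (.node (.leaf (.up 3 449 [591] 274 [57,93,104,108])) (.leaf (.up 4 2416 [578] 0 [88,110,151])))) (.node (.node (.leaf (.up 3 202 [578] 0 [88,94,104,191])) (.leaf (.up 4 682 [883] 1649 [87,55,42,71]))) (.leaf (.up 3 2166 [580] 1163 [57,94,42,147]))))))) (.node (.node (.node (.node (.node (.node (.leaf (.up 4 1472 [579] 1163 [88,56,44,194])) (.leaf (.up 5 2277 [579] 1163 [55,44,245]))) (.node (.leaf (.up 4 1068 [580] 1163 [55,155,16])) (.leaf (.up 5 3221 [581] 0 [87,55,116,200])))) (.node (.node (.leaf (.up 5 2531 [883] 1649 [57,93,43,129])) (.leaf (.up 4 1015 [580] 1163 [88,93,226]))) (.node (.leaf (.up 4 3734 [579] 1163 [88,94,42,195])) (.leaf (.up 4 2861 [883] 1649 [57,110,176,2]))))) (.node (.node (.node (.leaf (.up 4 1767 [883] 1649 [57,55,43,207])) (.leaf (.up 4 1781 [573] 0 [57,94,22]))) (.node (.leaf (.up 4 2731 [578] 0 [57,56,103,226])) (.leaf (.up 5 2893 [578] 0 [87,94,123,221]))))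 (.node (.node (.leaf (.up 1 1 [579] 1163 [87,110,104,238])) (.leaf (.up 5 3072 [883] 1649 [87,110,176,101]))) (.leaf (.up 4 2230 [582] 1163 [57,110,44,179]))))) (.node (.node (.node (.node (.leaf (.up 5 285 [591] 274 [87,110,89,134])) (.leaf (.up 4 1151 [579] 1163 [88,93,103,136]))) (.node (.leaf (.up 3 136 [581] 0 [88,110,104,220])) (.leaf (.up 3 2596 [581] 0 [88,56,90,143])))) (.node (.node (.leaf (.up 3 1757 [582] 1163 [57,55,176,225])) (.leaf (.up 4 2694 [578] 0 [88,94,104,141]))) (.node (.leaf (.up 5 1807 [579] 1163 [155,141])) (.leaf (.up 5 1122 [883] 1649 [88,110,104,117]))))) (.node (.node (.node (.leaf (.up 4 2504 [581] 0 [88,94,155,235])) (.leaf (.up 4 2159 [581] 0 [57,93,155,119]))) (.node (.leaf (.up 4 636 [573] 0 [87,110,116])) (.leaf (.up 4 658 [582] 1163 [87,110,90,177])))) (.node (.node (.leaf (.up 4 3219 [579] 1163 [88,155,226])) (.leaf (.up 4 642 [581] 0 [87,93,104,171]))) (.leaf (.up 2 1555 [883] 1649 [123,219])))))) (.node (.node (.node (.node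 (.node (.leaf (.up 5 3303 [580] 1163 [57,93,116,109])) (.leaf (.up 5 576 [580] 1163 [94,44,150]))) (.node (.leaf (.up 4 3275 [580] 1163 [55,43,0])) (.leaf (.up 3 1502 [579] 1163 [57,56,155,154])))) (.node (.node (.leaf (.up 4 3582 [582] 1163 [57,55,140,22])) (.leaf (.up 5 1337 [582] 1163 [88,94,155,23]))) (.node (.leaf (.up 5 791 [591] 274 [87,93,44,142])) (.leaf (.up 4 1024 [579] 1163 [88,110,140,156]))))) (.node (.node (.node (.leaf (.up 4 2482 [582] 1163 [57,56,155,12])) (.leaf (.up 4 3717 [580] 1163 [57,110,43,149]))) (.node (.leaf (.up 4 3734 [581] 0 [57,140,106])) (.leaf (.up 5 3737 [883] 1649 [87,43,222])))) (.node (.node (.leaf (.up 4 2595 [573] 0 [88,56,123,15])) (.leaf (.up 4 1281 [579] 1163 [87,55,91,219]))) (.leaf (.up 4 1185 [883] 1649 [88,110,42,134]))))) (.node (.node (.node (.node (.leaf (.up 5 628 [580] 1163 [57,110,89,118])) (.leaf (.up 3 2969 [581] 0 [88,110,123,12]))) (.node (.leaf (.up 4 3608 [582] 1163 [55,123,99])) (.leaf (.up 4 2521 [573]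 0 [88,110,90,76])))) (.node (.node (.leaf (.up 4 2324 [573] 0 [88,155,96])) (.leaf (.up 5 1116 [581] 0 [87,94,91,136]))) (.leaf (.up 4 2159 [580] 1163 [88,116,105])))) (.node (.node (.node (.leaf (.up 5 443 [582] 1163 [57,110,90,125])) (.leaf (.up 5 145 [883] 1649 [87,56,43,5]))) (.node (.leaf (.up 4 1040 [579] 1163 [57,110,11])) (.leaf (.up 4 3597 [579] 1163 [88,94,116,190])))) (.node (.node (.leaf (.up 5 2873 [581] 0 [88,55,155,169])) (.leaf (.up 4 2481 [582] 1163 [88,43,20]))) (.leaf (.up 4 3461 [581] 0 [104,156])))))))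

noncomputable def trio4_10001 : Tr TStep :=
  .node (.node (.node (.node (.node (.node (.node (.leaf (.up 4 1665 [578] 0 [57,94,104,199])) (.leaf (.up 3 2489 [578] 0 [87,93,90,177]))) (.node (.leaf (.up 4 2831 [578] 0 [87,94,90,118])) (.leaf (.up 5 1930 [580] 1163 [57,110,140,172])))) (.node (.node (.leaf (.up 4 53 [578] 0 [57,90,69])) (.leaf (.up 5 3738 [582] 1163 [88,110,176,92]))) (.node (.leaf (.up 4 1805 [582] 1163 [57,110,123,146])) (.leaf (.up 4 1420 [582] 1163 [57,56,116,213]))))) (.node (.node (.node (.leaf (.up 5 2359 [573] 0 [87,56,42,174])) (.leaf (.up 4 2773 [573] 0 [88,55,173]))) (.node (.leaf (.up 5 1391 [582] 1163 [87,56,43,125])) (.leaf (.up 4 2536 [591] 274 [57,94,90,173])))) (.node (.node (.leaf (.up 3 3242 [579] 1163 [87,110,123,199])) (.leaf (.up 5 873 [883] 1649 [87,94,129]))) (.leaf (.up 2 801 [582] 1163 [57,56,155,16]))))) (.node (.node (.node (.node (.leaf (.up 4 1237 [579] 1163 [88,55,123,204])) (.leaf (.up 6 2376 [883] 1649 [93,176,245])))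 (.node (.leaf (.up 3 94 [579] 1163 [87,94,155,5])) (.leaf (.up 5 2321 [580] 1163 [57,94,140,244])))) (.node (.node (.leaf (.up 5 667 [573] 0 [57,56,104,60])) (.leaf (.up 4 450 [591] 274 [57,56,176,189]))) (.node (.leaf (.up 4 2132 [579] 1163 [87,94,104,229])) (.leaf (.up 5 1199 [581] 0 [56,42,216]))))) (.node (.node (.node (.leaf (.up 5 3718 [579] 1163 [57,56,123,157])) (.leaf (.up 5 2221 [581] 0 [88,94,91,148]))) (.node (.leaf (.up 4 2521 [580] 1163 [88,93,140,173])) (.leaf (.up 4 944 [573] 0 [94,140,158])))) (.node (.node (.leaf (.up 4 1388 [581] 0 [94,89,37])) (.leaf (.up 2 884 [581] 0 [57,93,44,76]))) (.leaf (.up 5 2441 [883] 1649 [88,94,155,147])))))) (.node (.node (.node (.node (.node (.leaf (.up 4 1489 [579] 1163 [88,43,167])) (.leaf (.up 4 2621 [579] 1163 [88,55,89,149]))) (.node (.leaf (.up 3 136 [591] 274 [88,104,151])) (.leaf (.up 5 1614 [582] 1163 [87,140,211])))) (.node (.node (.leaf (.up 3 962 [579] 1163 [87,56,155,135])) (.leaf (.up 5 1590 [581]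 0 [88,55,155,33]))) (.node (.leaf (.up 5 2477 [573] 0 [57,56,104,213])) (.leaf (.up 3 1322 [581] 0 [88,56,91,203]))))) (.node (.node (.node (.leaf (.up 4 3541 [578] 0 [87,89,16])) (.leaf (.up 4 1642 [883] 1649 [94,43,247]))) (.node (.leaf (.up 5 3212 [573] 0 [94,43,5])) (.leaf (.up 5 597 [883] 1649 [87,56,230])))) (.node (.node (.leaf (.up 4 1911 [573] 0 [88,93,176,18])) (.leaf (.up 4 1402 [580] 1163 [87,94,91,46]))) (.leaf (.up 5 1187 [582] 1163 [87,56,104,7]))))) (.node (.node (.node (.node (.leaf (.up 4 448 [581] 0 [88,110,89,162])) (.leaf (.up 4 2178 [573] 0 [57,55,91,122]))) (.node (.leaf (.up 5 1798 [582] 1163 [87,56,103,115])) (.leaf (.up 6 2326 [883] 1649 [88,56,116,16])))) (.node (.node (.leaf (.up 3 1896 [883] 1649 [87,140,210])) (.leaf (.up 2 1980 [573] 0 [57,94,91,236]))) (.node (.leaf (.up 3 2442 [579] 1163 [87,90,204])) (.leaf (.up 5 3097 [591] 274 [87,42,15]))))) (.node (.node (.node (.leaf (.up 5 147 [582] 1163 [94,140,199])) (.leaf (.up 4 104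 [573] 0 [57,55,91,8]))) (.node (.leaf (.up 3 1584 [582] 1163 [93,176,241])) (.leaf (.up 4 2728 [579] 1163 [87,94,43,125])))) (.node (.node (.leaf (.up 4 42 [578] 0 [87,94,161])) (.leaf (.up 3 3215 [573] 0 [87,94,89,170]))) (.leaf (.up 5 2162 [581] 0 [87,94,43,209]))))))) (.node (.node (.node (.node (.node (.node (.leaf (.up 4 1486 [573] 0 [55,130])) (.leaf (.up 4 2071 [582] 1163 [88,42,15]))) (.node (.leaf (.up 4 3213 [582] 1163 [88,55,132])) (.leaf (.up 4 1277 [582] 1163 [88,110,155,25])))) (.node (.node (.leaf (.up 6 82 [573] 0 [87,94,176,198])) (.leaf (.up 4 3410 [573] 0 [87,56,123,10]))) (.node (.leaf (.up 5 473 [582] 1163 [89,34])) (.leaf (.up 3 2777 [591] 274 [87,93,42,122]))))) (.node (.node (.node (.leaf (.up 3 3012 [579] 1163 [87,56,155,166])) (.leaf (.up 2 1655 [579] 1163 [88,110,155,12]))) (.node (.leaf (.up 4 3360 [573] 0 [87,56,155,35])) (.leaf (.up 4 3169 [883] 1649 [87,110,140,15])))) (.node (.node (.leaf (.up 4 2504 [578] 0 [87,90,237])) (.leaf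 (.up 3 373 [573] 0 [57,110,91,243]))) (.leaf (.up 4 2767 [883] 1649 [88,94,155,126]))))) (.node (.node (.node (.node (.leaf (.up 5 2225 [580] 1163 [140,153])) (.leaf (.up 4 2159 [582] 1163 [57,90,193]))) (.node (.leaf (.up 6 3458 [883] 1649 [25])) (.leaf (.up 2 1085 [579] 1163 [88,94,89,163])))) (.node (.node (.leaf (.up 4 1248 [579] 1163 [55,91,136])) (.leaf (.up 5 1255 [573] 0 [88,93,155,61]))) (.node (.leaf (.up 4 344 [578] 0 [88,123,199])) (.leaf (.up 5 2693 [580] 1163 [88,93,91,243]))))) (.node (.node (.node (.leaf (.up 4 2063 [581] 0 [87,56,42,222])) (.leaf (.up 3 675 [579] 1163 [176,148]))) (.node (.leaf (.up 5 1625 [579] 1163 [87,93,103,240])) (.leaf (.up 5 1799 [883] 1649 [57,110,42,130])))) (.node (.node (.leaf (.up 4 1034 [573] 0 [87,55,90,0])) (.leaf (.up 4 3605 [582] 1163 [87,56,103,124]))) (.leaf (.up 4 1510 [591] 274 [88,10])))))) (.node (.node (.node (.node (.node (.leaf (.up 3 3012 [573] 0 [88,56,176,160])) (.leaf (.up 4 3662 [578] 0 [123,179])))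 (.node (.leaf (.up 4 422 [582] 1163 [57,94,103,96])) (.leaf (.up 5 3613 [581] 0 [57,91,10])))) (.node (.node (.leaf (.up 2 322 [579] 1163 [93,103,210])) (.leaf (.up 5 1127 [579] 1163 [87,56,116,11]))) (.node (.leaf (.up 6 881 [883] 1649 [110,42,46])) (.leaf (.up 4 2156 [591] 274 [110,176,136]))))) (.node (.node (.node (.leaf (.up 4 3001 [573] 0 [88,110,104,191])) (.leaf (.up 5 1883 [883] 1649 [57,94,107]))) (.node (.leaf (.up 4 3124 [579] 1163 [88,55,176,248])) (.leaf (.up 4 2049 [581] 0 [57,55,140,221])))) (.node (.node (.leaf (.up 5 1178 [591] 274 [57,55,90,7])) (.leaf (.up 5 3267 [579] 1163 [57,110,104,100]))) (.leaf (.up 3 1644 [581] 0 [57,116,164]))))) (.node (.node (.node (.node (.leaf (.up 4 2260 [579] 1163 [87,55,90,186])) (.leaf (.up 4 3410 [883] 1649 [87,93,91,230]))) (.node (.leaf (.up 4 1401 [883] 1649 [87,94,123,20])) (.leaf (.up 4 1459 [883] 1649 [87,110,44,3])))) (.node (.node (.leaf (.up 4 1954 [573] 0 [89,179])) (.leaf (.up 4 2416 [580] 1163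 [57,93,176,99]))) (.leaf (.up 6 3654 [883] 1649 [88,55,140,220])))) (.node (.node (.node (.leaf (.up 5 2405 [573] 0 [87,110,7])) (.leaf (.up 4 1522 [573] 0 [88,94,43,111]))) (.node (.leaf (.up 4 721 [582] 1163 [87,56,161])) (.leaf (.up 5 2394 [582] 1163 [88,123,131])))) (.node (.node (.leaf (.up 3 1006 [580] 1163 [57,110,42,248])) (.leaf (.up 5 1889 [582] 1163 [57,56,44,193]))) (.leaf (.up 5 791 [883] 1649 [88,55,123,7])))))))

noncomputable def trio4_1000 : Tr TStep := .node trio4_10000 trio4_10001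

noncomputable def trio4_10010 : Tr TStep :=
  .node (.node (.node (.node (.node (.node (.node (.leaf (.up 5 829 [883] 1649 [87,93,179])) (.leaf (.up 4 1105 [573] 0 [57,93,42,71]))) (.node (.leaf (.up 3 2307 [591] 274 [87,56,90,211])) (.leaf (.up 4 636 [578] 0 [57,123,174])))) (.node (.node (.leaf (.up 5 2232 [580] 1163 [57,110,140,223])) (.leaf (.up 5 2913 [581] 0 [93,103,198]))) (.node (.leaf (.up 2 92 [578] 0 [57,93,205])) (.leaf (.up 4 831 [573] 0 [87,55,103,167]))))) (.node (.node (.node (.leaf (.up 5 1531 [883] 1649 [94,176,130])) (.leaf (.up 5 3042 [579] 1163 [87,110,155,247]))) (.node (.leaf (.up 5 716 [581] 0 [88,140,22])) (.leaf (.up 4 1776 [582] 1163 [55,104,142])))) (.node (.node (.leaf (.up 4 3205 [578] 0 [87,93,43,187])) (.leaf (.up 4 2854 [582] 1163 [43,61]))) (.leaf (.up 3 3095 [582] 1163 [87,55,123,129]))))) (.node (.node (.node (.node (.leaf (.up 3 388 [883] 1649 [93,104,3])) (.leaf (.up 4 1805 [591] 274 [87,42,71]))) (.node (.leaf (.up 4 1169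 [581] 0 [57,90,221])) (.leaf (.up 4 3055 [580] 1163 [88,93,103,65])))) (.node (.node (.leaf (.up 4 1105 [581] 0 [57,110,161])) (.leaf (.up 4 1518 [581] 0 [88,94,42,10]))) (.node (.leaf (.up 3 1896 [579] 1163 [56,90,105])) (.leaf (.up 5 3773 [582] 1163 [88,56,103]))))) (.node (.node (.node (.leaf (.up 5 3087 [591] 274 [57,56,44,29])) (.leaf (.up 4 2104 [580] 1163 [87,93,140,205]))) (.node (.leaf (.up 4 1810 [581] 0 [87,94,140,96])) (.leaf (.up 3 1447 [579] 1163 [57,93,123,218])))) (.node (.node (.leaf (.up 5 3094 [591] 274 [87,110,155,128])) (.leaf (.up 4 1527 [591] 274 [87,93,44,108]))) (.leaf (.up 3 3215 [578] 0 [55,176,206])))))) (.node (.node (.node (.node (.node (.leaf (.up 3 449 [579] 1163 [87,94,176,221])) (.leaf (.up 3 1809 [581] 0 [88,56,90,214]))) (.node (.leaf (.up 4 348 [582] 1163 [88,56,44,216])) (.leaf (.up 4 2087 [579] 1163 [87,56,44,205])))) (.node (.node (.leaf (.up 5 1383 [582] 1163 [42,181])) (.leaf (.up 5 3660 [581] 0 [110,43,137]))) (.node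 (.leaf (.up 4 385 [580] 1163 [88,90,180])) (.leaf (.up 3 2489 [591] 274 [110,44]))))) (.node (.node (.node (.leaf (.up 4 2498 [579] 1163 [87,94,104,112])) (.leaf (.up 5 2253 [581] 0 [57,103,105]))) (.node (.leaf (.up 3 2856 [580] 1163 [57,176,168])) (.leaf (.up 3 2442 [582] 1163 [104,113])))) (.node (.node (.leaf (.up 4 1892 [580] 1163 [87,123,9])) (.leaf (.up 4 385 [579] 1163 [87,110,155,216]))) (.leaf (.up 4 1009 [581] 0 [57,110,123,115]))))) (.node (.node (.node (.node (.leaf (.up 4 458 [579] 1163 [110,116,169])) (.leaf (.up 4 1929 [579] 1163 [88,56,103,101]))) (.node (.leaf (.up 4 3389 [582] 1163 [57,55,103,193])) (.leaf (.up 6 3523 [883] 1649 [88,56,123,71])))) (.node (.node (.leaf (.up 6 2534 [883] 1649 [88,94,44,117])) (.leaf (.up 2 3517 [579] 1163 [57,55,104,213]))) (.node (.leaf (.up 4 1172 [580] 1163 [56,140,199])) (.leaf (.up 3 982 [580] 1163 [57,43,13]))))) (.node (.node (.node (.leaf (.up 5 2113 [579] 1163 [87,94,155,218])) (.leaf (.up 4 3175 [582]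 1163 [87,140,105]))) (.node (.leaf (.up 4 3363 [591] 274 [110,44,65])) (.leaf (.up 4 878 [883] 1649 [94,176,15])))) (.node (.node (.leaf (.up 3 982 [578] 0 [87,55,116,20])) (.leaf (.up 4 3657 [581] 0 [87,90,169]))) (.leaf (.up 3 1280 [580] 1163 [56,90,237]))))))) (.node (.node (.node (.node (.node (.node (.leaf (.up 5 2830 [580] 1163 [88,56,91,234])) (.leaf (.up 3 1290 [883] 1649 [87,93,116,241]))) (.node (.leaf (.up 4 1895 [573] 0 [155,218])) (.leaf (.up 4 3120 [580] 1163 [88,55,140,108])))) (.node (.node (.leaf (.up 5 3203 [883] 1649 [57,93,176,136])) (.leaf (.up 4 751 [580] 1163 [56,89,131]))) (.node (.leaf (.up 5 1614 [591] 274 [55,155,246])) (.leaf (.up 4 1527 [581] 0 [87,94,89,102]))))) (.node (.node (.node (.leaf (.up 4 3434 [579] 1163 [110,140,242])) (.leaf (.up 4 3369 [578] 0 [87,110,42,1]))) (.node (.leaf (.up 3 2856 [582] 1163 [87,55,116,215])) (.leaf (.up 3 2777 [579] 1163 [93,91,165])))) (.node (.node (.leaf (.up 4 636 [883] 1649 [87,110,89,173]))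 (.leaf (.up 3 1896 [578] 0 [57,43,1]))) (.leaf (.up 5 267 [883] 1649 [55,123,194]))))) (.node (.node (.node (.node (.leaf (.up 2 3366 [883] 1649 [57,94,42,61])) (.leaf (.up 4 441 [580] 1163 [55,155,107]))) (.node (.leaf (.up 6 3033 [582] 1163 [57,93,116,244])) (.leaf (.up 3 701 [579] 1163 [110,42,105])))) (.node (.node (.leaf (.up 2 1555 [580] 1163 [88,90,92])) (.leaf (.up 5 3100 [579] 1163 [88,93,240]))) (.node (.leaf (.up 5 182 [591] 274 [87,93,43,142])) (.leaf (.up 5 1027 [573] 0 [87,110,104,148]))))) (.node (.node (.node (.leaf (.up 4 3446 [581] 0 [110,155,154])) (.leaf (.up 4 1338 [578] 0 [88,56,103,76]))) (.node (.leaf (.up 5 1847 [581] 0 [87,94,90,164])) (.leaf (.up 4 1938 [581] 0 [88,43,149])))) (.node (.node (.leaf (.up 4 2507 [582] 1163 [56,140,6])) (.leaf (.up 4 2248 [580] 1163 [88,155,185]))) (.leaf (.up 4 2665 [581] 0 [110,103,96])))))) (.node (.node (.node (.node (.node (.leaf (.up 5 2563 [591] 274 [57,55,44,147])) (.leaf (.up 3 690 [578] 0 [88,110,44,191])))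 (.node (.leaf (.up 5 3567 [579] 1163 [87,110,155,236])) (.leaf (.up 4 706 [573] 0 [87,55,155,146])))) (.node (.node (.leaf (.up 5 1249 [883] 1649 [57,55,91,137])) (.leaf (.up 3 2591 [573] 0 [116,158]))) (.node (.leaf (.up 4 1151 [582] 1163 [87,110,44,29])) (.leaf (.up 5 3757 [578] 0 [87,94,176,148]))))) (.node (.node (.node (.leaf (.up 5 873 [581] 0 [110,89,96])) (.leaf (.up 5 3367 [883] 1649 [88,110,89,9]))) (.node (.leaf (.up 4 3605 [579] 1163 [88,94,91,244])) (.leaf (.up 3 12 [578] 0 [93,123,212])))) (.node (.node (.leaf (.up 4 1323 [883] 1649 [88,176,167])) (.leaf (.up 6 3614 [883] 1649 [87,55,43,214]))) (.leaf (.up 5 2640 [582] 1163 [87,55,43,1]))))) (.node (.node (.node (.node (.leaf (.up 5 174 [883] 1649 [57,55,42,128])) (.leaf (.up 4 2831 [581] 0 [88,55,44,175]))) (.node (.leaf (.up 5 2109 [883] 1649 [87,56,90,118])) (.leaf (.up 5 172 [582] 1163 [93,42,227])))) (.node (.node (.leaf (.up 4 2035 [591] 274 [57,93,89,119])) (.leaf (.up 6 1129 [883] 1649 [57,55,176,131])))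 (.leaf (.up 5 2031 [582] 1163 [88,140,23])))) (.node (.node (.node (.leaf (.up 4 2071 [579] 1163 [88,56,104,244])) (.leaf (.up 5 820 [591] 274 [88,110,44,160]))) (.node (.leaf (.up 4 2952 [883] 1649 [88,110,91,150])) (.leaf (.up 5 1341 [579] 1163 [94,89,96])))) (.node (.node (.leaf (.up 4 2590 [573] 0 [88,93,116,166])) (.leaf (.up 4 643 [883] 1649 [88,44,65]))) (.leaf (.up 4 2104 [579] 1163 [87,93,90,177])))))))

noncomputable def trio4_10011 : Tr TStep :=
  .node (.node (.node (.node (.node (.node (.node (.leaf (.up 4 2416 [579] 1163 [87,93,104,231])) (.leaf (.up 4 1866 [582] 1163 [88,94,44,23]))) (.node (.leaf (.up 3 1664 [578] 0 [57,94,243])) (.leaf (.up 4 1171 [591] 274 [55,90,210])))) (.node (.node (.leaf (.up 3 3519 [573] 0 [87,93,89,173])) (.leaf (.up 3 3766 [581] 0 [245]))) (.node (.leaf (.up 4 941 [591] 274 [87,56,176,122])) (.leaf (.up 5 2338 [591] 274 [57,110,103,7]))))) (.node (.node (.node (.leaf (.up 4 1003 [591] 274 [57,93,91,246])) (.leaf (.up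 4 1323 [580] 1163 [87,110,123,138]))) (.node (.leaf (.up 4 2482 [581] 0 [57,110,89,221])) (.leaf (.up 5 1930 [579] 1163 [88,91,180])))) (.node (.node (.leaf (.up 5 3412 [581] 0 [57,56,123,167])) (.leaf (.up 5 551 [573] 0 [87,55,42,130]))) (.leaf (.up 4 643 [578] 0 [57,91,240]))))) (.node (.node (.node (.node (.leaf (.up 5 1537 [581] 0 [88,93,116,138])) (.leaf (.up 2 884 [579] 1163 [93,155,92]))) (.node (.leaf (.up 4 2530 [573] 0 [57,110,89,72])) (.leaf (.up 4 682 [578] 0 [57,110,103,154])))) (.node (.node (.leaf (.up 5 577 [573] 0 [57,56,104,164])) (.leaf (.up 5 3783 [578] 0 [87,110,91,246]))) (.node (.leaf (.up 4 1612 [883] 1649 [57,94,103,102])) (.leaf (.up 4 2665 [580] 1163 [57,94,104,205]))))) (.node (.node (.node (.leaf (.up 5 3381 [582] 1163 [57,94,116,136])) (.leaf (.up 4 3671 [581] 0 [91,163]))) (.node (.leaf (.up 4 1947 [591] 274 [87,94,42,165])) (.leaf (.up 4 3580 [581] 0 [42,1])))) (.node (.node (.leaf (.up 4 3711 [573] 0 [56,42,139])) (.leaf (.up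 2 3788 [581] 0 [88,94,123,65]))) (.leaf (.up 4 3662 [580] 1163 [55,91,246])))))) (.node (.node (.node (.node (.node (.leaf (.up 3 2198 [581] 0 [88,110,44,145])) (.leaf (.up 3 136 [582] 1163 [57,55,90,31]))) (.node (.leaf (.up 3 1399 [581] 0 [87,56,42,11])) (.leaf (.up 4 2309 [573] 0 [57,56,104,65])))) (.node (.node (.leaf (.up 6 2797 [579] 1163 [88,56,43,227])) (.leaf (.up 4 763 [582] 1163 [94,44,220]))) (.node (.leaf (.up 4 1848 [883] 1649 [87,55,43,171])) (.leaf (.up 4 3276 [579] 1163 [87,56,104,34]))))) (.node (.node (.node (.leaf (.up 4 1212 [582] 1163 [88,94,104,36])) (.leaf (.up 4 276 [578] 0 [44,125]))) (.node (.leaf (.up 4 2731 [883] 1649 [88,89,229])) (.leaf (.up 5 1982 [591] 274 [57,56,42,151])))) (.node (.node (.leaf (.up 3 3010 [582] 1163 [57,93,42,156])) (.leaf (.up 6 355 [582] 1163 [55,123,220]))) (.leaf (.up 3 1951 [581] 0 [93,176,69]))))) (.node (.node (.node (.node (.leaf (.up 4 1003 [580] 1163 [87,94,155,243])) (.leaf (.up 5 2672 [573] 0 [57,110,43,124])))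 (.node (.leaf (.up 4 763 [578] 0 [88,93,90,201])) (.leaf (.up 3 358 [579] 1163 [88,94,89,65])))) (.node (.node (.leaf (.up 4 1741 [578] 0 [87,94,175])) (.leaf (.up 2 3586 [579] 1163 [88,104,172]))) (.leaf (.up 3 2969 [580] 1163 [88,55,116,33])))) (.node (.node (.node (.leaf (.up 4 1819 [581] 0 [88,110,123,7])) (.leaf (.up 3 309 [883] 1649 [57,94,104,102]))) (.node (.leaf (.up 5 3298 [578] 0 [93,43,169])) (.leaf (.up 4 2137 [591] 274 [87,110,89,236])))) (.node (.node (.leaf (.up 3 1083 [573] 0 [87,94,104,190])) (.leaf (.up 5 624 [883] 1649 [87,56,104,214]))) (.leaf (.up 4 1947 [883] 1649 [57,110,42,241]))))))) (.node (.node (.node (.node (.node (.node (.leaf (.up 4 608 [580] 1163 [57,55,42,216])) (.leaf (.up 5 2344 [573] 0 [88,56,91,184]))) (.node (.leaf (.up 5 1538 [883] 1649 [88,110,176,216])) (.leaf (.up 4 844 [573] 0 [57,110,184])))) (.node (.node (.leaf (.up 5 3532 [579] 1163 [88,56,89,113])) (.leaf (.up 1 14 [578] 0 [88,56,90,135]))) (.node (.leaf (.up 4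 1172 [579] 1163 [88,93,42,3])) (.leaf (.up 5 1608 [581] 0 [87,56,176,248]))))) (.node (.node (.node (.leaf (.up 5 2918 [580] 1163 [87,89,36])) (.leaf (.up 4 1925 [573] 0 [88,55,91,31]))) (.node (.leaf (.up 4 2621 [573] 0 [87,110,42,179])) (.leaf (.up 4 1099 [580] 1163 [88,55,43,227])))) (.node (.node (.leaf (.up 5 1569 [591] 274 [94,103,219])) (.leaf (.up 4 261 [883] 1649 [88,140,105]))) (.leaf (.up 4 831 [883] 1649 [88,55,103,160]))))) (.node (.node (.node (.node (.leaf (.up 5 473 [580] 1163 [87,90,65])) (.leaf (.up 5 577 [580] 1163 [57,94,123,10]))) (.node (.leaf (.up 4 1009 [591] 274 [87,93,155,153])) (.leaf (.up 3 2353 [581] 0 [87,93,43,31])))) (.node (.node (.leaf (.up 4 3201 [883] 1649 [57,94,42,186])) (.leaf (.up 4 2170 [580] 1163 [87,56,103,211]))) (.node (.leaf (.up 4 831 [578] 0 [110,42,126])) (.leaf (.up 4 3276 [582] 1163 [88,55,44,223]))))) (.node (.node (.node (.leaf (.up 3 3564 [591] 274 [94,104,172])) (.leaf (.up 2 801 [573] 0 [57,56,90,183])))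 (.node (.leaf (.up 4 3777 [579] 1163 [87,110,103,213])) (.leaf (.up 4 1232 [578] 0 [88,56,44,13])))) (.node (.node (.leaf (.up 2 2617 [582] 1163 [87,55,103,74])) (.leaf (.up 3 136 [578] 0 [87,93,176,196]))) (.leaf (.up 4 3717 [578] 0 [88,110,104,239])))))) (.node (.node (.node (.node (.node (.leaf (.up 5 114 [582] 1163 [123,247])) (.leaf (.up 4 2642 [883] 1649 [94,218]))) (.node (.leaf (.up 3 1502 [591] 274 [87,94,89,207])) (.leaf (.up 4 2845 [582] 1163 [87,55,155,152])))) (.node (.node (.leaf (.up 4 330 [581] 0 [88,56,89,126])) (.leaf (.up 3 3579 [591] 274 [87,94,103,148]))) (.node (.leaf (.up 4 2400 [580] 1163 [55,42,231])) (.leaf (.up 5 3663 [581] 0 [56,203]))))) (.node (.node (.node (.leaf (.up 5 3008 [579] 1163 [87,94,176,148])) (.leaf (.up 5 3779 [883] 1649 [88,56,91,154]))) (.node (.leaf (.up 3 202 [581] 0 [88,56,91,107])) (.leaf (.up 4 2248 [883] 1649 [87,94,90,198])))) (.node (.node (.leaf (.up 4 1345 [573] 0 [88,110,91,177])) (.leaf (.up 4 2724 [573]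 0 [56,155,109]))) (.leaf (.up 4 1958 [581] 0 [110,91,170]))))) (.node (.node (.node (.node (.leaf (.up 4 1388 [573] 0 [88,93,123,238])) (.leaf (.up 3 1502 [581] 0 [88,55,155,121]))) (.node (.leaf (.up 4 636 [580] 1163 [88,93,90,183])) (.leaf (.up 4 3605 [578] 0 [87,56,43,162])))) (.node (.node (.leaf (.up 4 1973 [580] 1163 [57,110,140,139])) (.leaf (.up 4 3360 [579] 1163 [88,110,176,197]))) (.leaf (.up 5 2508 [883] 1649 [57,55,103,149])))) (.node (.node (.node (.leaf (.up 5 3553 [591] 274 [57,55,123,217])) (.leaf (.up 4 2692 [578] 0 [57,55,155,30]))) (.node (.leaf (.up 4 2865 [883] 1649 [57,110,103,146])) (.leaf (.up 5 3393 [883] 1649 [88,93,176,215])))) (.node (.node (.leaf (.up 5 3204 [580] 1163 [57,110,189])) (.leaf (.up 4 2936 [883] 1649 [87,176,206]))) (.leaf (.up 4 1331 [591] 274 [57,56,44,236])))))))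

noncomputable def trio4_1001 : Tr TStep := .node trio4_10010 trio4_10011

noncomputable def trio4_100 : Tr TStep := .node trio4_1000 trio4_1001

noncomputable def trio4_10100 : Tr TStep :=
  .node (.node (.node (.node (.node (.node (.node (.leaf (.up 3 702 [578] 0 [88,90,196])) (.leaf (.up 4 2099 [580] 1163 [88,93,42,146]))) (.node (.leaf (.up 3 1399 [591] 274 [87,93,176,167])) (.leaf (.up 4 288 [573] 0 [57,94,116,138])))) (.node (.node (.leaf (.up 4 1635 [883] 1649 [88,93,123,205])) (.leaf (.up 5 1614 [573] 0 [88,94,91,241]))) (.node (.leaf (.up 5 3533 [581] 0 [88,55,116,227])) (.leaf (.up 3 1809 [580] 1163 [87,55,123,46]))))) (.node (.node (.node (.leaf (.up 3 1447 [591] 274 [88,110,116,75])) (.leaf (.up 3 2856 [579] 1163 [93,155,198]))) (.node (.leaf (.up 4 3169 [573] 0 [57,55,90,9])) (.leaf (.up 4 2776 [582] 1163 [87,110,140,241])))) (.node (.node (.leaf (.up 4 2608 [581] 0 [57,94,176,133])) (.leaf (.up 5 1748 [579] 1163 [88,176,115]))) (.leaf (.up 5 1259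 [573] 0 [87,56,140,219]))))) (.node (.node (.node (.node (.leaf (.up 3 3413 [578] 0 [87,94,89,101])) (.leaf (.up 5 473 [578] 0 [88,110,155,33]))) (.node (.leaf (.up 6 732 [883] 1649 [88,94,42,107])) (.leaf (.up 3 12 [591] 274 [57,56,42,3])))) (.node (.node (.leaf (.up 4 1612 [581] 0 [88,94,90,177])) (.leaf (.up 4 65 [580] 1163 [88,94,42,76]))) (.node (.leaf (.up 4 2642 [582] 1163 [88,94,116,239])) (.leaf (.up 3 1447 [578] 0 [88,55,123,16]))))) (.node (.node (.node (.leaf (.up 3 1447 [580] 1163 [93,103,177])) (.leaf (.up 4 676 [582] 1163 [44,200]))) (.node (.leaf (.up 5 1096 [581] 0 [87,56,42,74])) (.leaf (.up 3 1786 [883] 1649 [87,93,89,214])))) (.node (.node (.leaf (.up 3 2856 [573] 0 [93,44,157])) (.leaf (.up 4 2637 [591] 274 [87,110,176,124]))) (.leaf (.up 3 1809 [582] 1163 [88,89,230])))))) (.node (.node (.node (.node (.node (.leaf (.up 4 2843 [580] 1163 [88,94,155,235])) (.leaf (.up 4 132 [883] 1649 [94,89,210]))) (.node (.leaf (.up 4 2831 [591] 274 [88,56,176,113]))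 (.leaf (.up 4 851 [883] 1649 [94,104,4])))) (.node (.node (.leaf (.up 3 151 [578] 0 [88,110,90,69])) (.leaf (.up 4 2490 [582] 1163 [56,146]))) (.node (.leaf (.up 4 2297 [581] 0 [55,43,69])) (.leaf (.up 5 1960 [883] 1649 [88,93,43,209]))))) (.node (.node (.node (.leaf (.up 3 675 [581] 0 [88,110,104,199])) (.leaf (.up 4 2055 [573] 0 [110,176,143]))) (.node (.leaf (.up 4 1708 [591] 274 [87,93,44,145])) (.leaf (.up 4 2433 [578] 0 [87,93,44])))) (.node (.node (.leaf (.up 3 675 [591] 274 [88,110,89,124])) (.leaf (.up 5 975 [591] 274 [88,94,89,147]))) (.leaf (.up 4 1113 [579] 1163 [91,124]))))) (.node (.node (.node (.node (.leaf (.up 4 1215 [578] 0 [87,56,123,135])) (.leaf (.up 4 2776 [591] 274 [57,55,5]))) (.node (.leaf (.up 4 643 [573] 0 [87,116,160])) (.leaf (.up 4 113 [580] 1163 [88,110,176,241])))) (.node (.node (.leaf (.up 5 2372 [579] 1163 [88,55,123,142])) (.leaf (.up 4 1015 [579] 1163 [88,43,202]))) (.node (.leaf (.up 4 2845 [883] 1649 [57,116,144])) (.leaf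 (.up 5 2638 [580] 1163 [57,55,140,236]))))) (.node (.node (.node (.leaf (.up 5 2034 [573] 0 [87,94,43,204])) (.leaf (.up 3 354 [582] 1163 [57,55,104,124]))) (.node (.leaf (.up 6 2402 [579] 1163 [57,110,103,240])) (.leaf (.up 4 2292 [883] 1649 [110,90,61])))) (.node (.node (.leaf (.up 5 2566 [582] 1163 [88,155,237])) (.leaf (.up 4 1831 [591] 274 [55,89,184]))) (.leaf (.up 5 3474 [579] 1163 [57,55,89,192]))))))) (.node (.node (.node (.node (.node (.node (.leaf (.up 3 3310 [573] 0 [56,103,205])) (.leaf (.up 4 1632 [883] 1649 [55,103,203]))) (.node (.leaf (.up 4 1906 [581] 0 [57,110,90,101])) (.leaf (.up 5 452 [578] 0 [57,94,116,149])))) (.node (.node (.leaf (.up 5 867 [579] 1163 [110,43,129])) (.leaf (.up 5 1566 [573] 0 [57,56,42,147]))) (.node (.leaf (.up 4 2896 [580] 1163 [56,116,215])) (.leaf (.up 4 2773 [581] 0 [56,90,232]))))) (.node (.node (.node (.leaf (.up 4 1892 [578] 0 [57,94,43,127])) (.leaf (.up 4 3543 [580] 1163 [103,152]))) (.node (.leaf (.up 3 2353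 [579] 1163 [110,116,222])) (.leaf (.up 5 3639 [591] 274 [57,93,140,111])))) (.node (.node (.leaf (.up 4 3229 [578] 0 [57,94,91,227])) (.leaf (.up 5 3466 [591] 274 [88,93,104,169]))) (.leaf (.up 4 1344 [582] 1163 [94,90,113]))))) (.node (.node (.node (.node (.leaf (.up 5 817 [580] 1163 [88,43,60])) (.leaf (.up 4 2273 [580] 1163 [57,110,42,107]))) (.node (.leaf (.up 4 2694 [883] 1649 [87,94,89,217])) (.leaf (.up 5 3683 [591] 274 [88,93,140,212])))) (.node (.node (.leaf (.up 2 801 [579] 1163 [87,110,42,241])) (.leaf (.up 4 3494 [582] 1163 [93,42,36]))) (.node (.leaf (.up 5 539 [582] 1163 [57,140,138])) (.leaf (.up 5 3764 [573] 0 [94,123,102]))))) (.node (.node (.node (.leaf (.up 2 1108 [579] 1163 [87,42,171])) (.leaf (.up 2 3517 [582] 1163 [87,155,245]))) (.node (.leaf (.up 5 459 [579] 1163 [87,110,103,228])) (.leaf (.up 5 2506 [580] 1163 [87,93,43,234])))) (.node (.node (.leaf (.up 5 2985 [581] 0 [88,110,103,122])) (.leaf (.up 4 1954 [883] 1649 [87,56,103,197])))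 (.leaf (.up 3 2969 [578] 0 [93,89,208])))))) (.node (.node (.node (.node (.node (.leaf (.up 5 2918 [582] 1163 [87,93,44,186])) (.leaf (.up 3 690 [883] 1649 [88,110,43,15]))) (.node (.leaf (.up 4 2851 [582] 1163 [87,93,90,143])) (.leaf (.up 5 2926 [581] 0 [87,110,140,246])))) (.node (.node (.leaf (.up 3 3010 [579] 1163 [87,56,176,220])) (.leaf (.up 4 78 [578] 0 [87,110,116,16]))) (.node (.leaf (.up 4 3192 [591] 274 [87,110,233])) (.leaf (.up 5 551 [578] 0 [57,91,223]))))) (.node (.node (.node (.leaf (.up 4 3332 [578] 0 [56,140,147])) (.leaf (.up 4 2786 [580] 1163 [93,123,18]))) (.node (.leaf (.up 3 2892 [573] 0 [56,89,241])) (.leaf (.up 5 2787 [591] 274 [87,56,155,203])))) (.node (.node (.leaf (.up 4 2576 [581] 0 [57,93,116,114])) (.leaf (.up 5 832 [573] 0 [140,29]))) (.leaf (.up 4 2731 [580] 1163 [93,164]))))) (.node (.node (.node (.node (.leaf (.up 5 2262 [578] 0 [88,55,103,229])) (.leaf (.up 4 2310 [883] 1649 [88,116,9]))) (.node (.leaf (.up 4 3166 [883] 1649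 [57,110,176,71])) (.leaf (.up 3 1363 [883] 1649 [87,93,155,161])))) (.node (.node (.leaf (.up 5 1417 [578] 0 [88,56,116,216])) (.leaf (.up 2 2451 [582] 1163 [110,155,122]))) (.leaf (.up 4 1223 [582] 1163 [88,56,116,129])))) (.node (.node (.node (.leaf (.up 4 3756 [579] 1163 [55,42,223])) (.leaf (.up 3 3519 [581] 0 [110,123,99]))) (.node (.leaf (.up 3 1953 [581] 0 [88,94,104,150])) (.leaf (.up 5 2057 [591] 274 [56,90,30])))) (.node (.node (.leaf (.up 4 3657 [582] 1163 [87,110,43,111])) (.leaf (.up 4 3289 [578] 0 [57,56,89,153]))) (.leaf (.up 5 1035 [573] 0 [57,94,116,12])))))))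

noncomputable def trio4_10101 : Tr TStep :=
  .node (.node (.node (.node (.node (.node (.node (.leaf (.up 4 340 [883] 1649 [87,110,90,132])) (.leaf (.up 5 1978 [883] 1649 [93,44,177]))) (.node (.leaf (.up 1 1 [580] 1163 [110,155,101])) (.leaf (.up 5 956 [582] 1163 [88,56,42,180])))) (.node (.node (.leaf (.up 5 3712 [579] 1163 [57,110,90,144])) (.leaf (.up 5 2203 [582] 1163 [87,93,103,222]))) (.node (.leaf (.up 3 309 [579] 1163 [87,94,42,29])) (.leaf (.up 3 2596 [582] 1163 [55,90,134]))))) (.node (.node (.node (.leaf (.up 4 1528 [581] 0 [88,93,104,16])) (.leaf (.up 5 3321 [581] 0 [56,155,145]))) (.node (.leaf (.up 5 1122 [578] 0 [93,89,130])) (.leaf (.up 5 2923 [883] 1649 [88,93,123,193])))) (.node (.node (.leaf (.up 3 752 [883] 1649 [110,42,12])) (.leaf (.up 4 3539 [591] 274 [87,123,162]))) (.leaf (.up 4 1321 [582] 1163 [110,91,219]))))) (.node (.node (.node (.node (.leaf (.up 4 1414 [580] 1163 [57,93,43,114])) (.leaf (.up 4 2071 [580] 1163 [87,94,44,175])))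 (.node (.leaf (.up 4 2134 [580] 1163 [56,123,219])) (.leaf (.up 4 3352 [582] 1163 [88,110,104,11])))) (.node (.node (.leaf (.up 5 1849 [581] 0 [110,140,188])) (.leaf (.up 4 2309 [582] 1163 [88,110,44,143]))) (.node (.leaf (.up 3 2674 [582] 1163 [88,55,43,230])) (.leaf (.up 4 3717 [581] 0 [55,104,30]))))) (.node (.node (.node (.leaf (.up 4 406 [883] 1649 [57,94,90,226])) (.leaf (.up 5 2334 [579] 1163 [57,56,103,198]))) (.node (.leaf (.up 5 2070 [581] 0 [87,93,153])) (.leaf (.up 5 281 [578] 0 [88,93,176,121])))) (.node (.node (.leaf (.up 4 2590 [581] 0 [88,89,137])) (.leaf (.up 4 1758 [580] 1163 [104,244]))) (.leaf (.up 3 2769 [883] 1649 [56,103,152])))))) (.node (.node (.node (.node (.node (.leaf (.up 4 695 [578] 0 [57,110,44,166])) (.leaf (.up 5 58 [578] 0 [87,55,176,201]))) (.node (.leaf (.up 4 1154 [591] 274 [57,55,4])) (.leaf (.up 4 3169 [578] 0 [57,104,160])))) (.node (.node (.leaf (.up 4 1486 [579] 1163 [56,44,199])) (.leaf (.up 5 3572 [883] 1649 [87,90,191])))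 (.node (.leaf (.up 4 3289 [582] 1163 [88,110,42,207])) (.leaf (.up 4 2799 [579] 1163 [94,103,76]))))) (.node (.node (.node (.leaf (.up 4 3785 [581] 0 [87,55,123,144])) (.leaf (.up 4 980 [591] 274 [140,172]))) (.node (.leaf (.up 4 3410 [578] 0 [88,155,12])) (.leaf (.up 2 884 [573] 0 [55,90,30])))) (.node (.node (.leaf (.up 5 3783 [582] 1163 [57,42,156])) (.leaf (.up 4 1851 [579] 1163 [87,110,123,220]))) (.leaf (.up 4 1612 [580] 1163 [87,94,155,194]))))) (.node (.node (.node (.node (.leaf (.up 4 1843 [580] 1163 [57,94,44,15])) (.leaf (.up 4 340 [578] 0 [94,104,246]))) (.node (.leaf (.up 3 3519 [591] 274 [88,93,176,77])) (.leaf (.up 5 3718 [581] 0 [88,93,90,117])))) (.node (.node (.leaf (.up 3 1634 [573] 0 [57,93,90,121])) (.leaf (.up 3 1924 [883] 1649 [87,55,140,162]))) (.leaf (.up 6 127 [883] 1649 [93,89,165])))) (.node (.node (.node (.leaf (.up 4 344 [573] 0 [56,90,5])) (.leaf (.up 5 2155 [579] 1163 [87,44,142]))) (.node (.leaf (.up 5 2150 [573] 0 [88,93,155,172]))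 (.leaf (.up 3 2496 [578] 0 [88,123,25])))) (.node (.node (.leaf (.up 5 2109 [582] 1163 [56,42,132])) (.leaf (.up 4 2807 [883] 1649 [57,93,90,72]))) (.leaf (.up 4 3500 [580] 1163 [57,23]))))))) (.node (.node (.node (.node (.node (.node (.leaf (.up 3 3112 [580] 1163 [43,168])) (.leaf (.up 3 1134 [580] 1163 [94,44,184]))) (.node (.leaf (.up 5 3287 [579] 1163 [57,56,140,237])) (.leaf (.up 4 721 [580] 1163 [104,137])))) (.node (.node (.leaf (.up 4 3330 [883] 1649 [88,55,92])) (.leaf (.up 4 3332 [573] 0 [88,94,103,98]))) (.node (.leaf (.up 6 2044 [573] 0 [93,176,46])) (.leaf (.up 3 3152 [579] 1163 [94,155,232]))))) (.node (.node (.node (.leaf (.up 2 1045 [579] 1163 [93,22])) (.leaf (.up 4 2159 [579] 1163 [57,55,123,199]))) (.node (.leaf (.up 4 1736 [579] 1163 [88,93,42,5])) (.leaf (.up 4 3360 [580] 1163 [87,94,89,198])))) (.node (.node (.leaf (.up 5 3660 [580] 1163 [57,110,44,121])) (.leaf (.up 3 2222 [573] 0 [57,110,44,148]))) (.leaf (.up 4 300 [581] 0 [56,91,150])))))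 (.node (.node (.node (.node (.leaf (.up 5 772 [573] 0 [88,56,116,229])) (.leaf (.up 3 2559 [581] 0 [57,55,155,216]))) (.node (.leaf (.up 5 1700 [579] 1163 [94,91,118])) (.leaf (.up 3 3215 [581] 0 [88,155,245])))) (.node (.node (.leaf (.up 5 228 [573] 0 [55,116,173])) (.leaf (.up 5 2667 [883] 1649 [43,0]))) (.node (.leaf (.up 4 1024 [591] 274 [87,110,103,168])) (.leaf (.up 4 516 [573] 0 [94,90,160]))))) (.node (.node (.node (.leaf (.up 5 1570 [582] 1163 [87,56,42,158])) (.leaf (.up 4 673 [883] 1649 [87,55,123,178]))) (.node (.leaf (.up 4 1448 [578] 0 [88,110,140,169])) (.leaf (.up 3 2270 [580] 1163 [88,56,104,172])))) (.node (.node (.leaf (.up 5 3042 [883] 1649 [87,110,116,108])) (.leaf (.up 4 2087 [578] 0 [87,123,137]))) (.leaf (.up 3 3095 [579] 1163 [88,89,237])))))) (.node (.node (.node (.node (.node (.leaf (.up 4 3485 [591] 274 [87,55,117])) (.leaf (.up 4 1021 [883] 1649 [87,94,126]))) (.node (.leaf (.up 4 492 [582] 1163 [88,110,101])) (.leaf (.up 4 704 [883]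 1649 [87,135])))) (.node (.node (.leaf (.up 3 3331 [573] 0 [103,247])) (.leaf (.up 5 486 [581] 0 [87,55,155,178]))) (.node (.leaf (.up 4 1489 [573] 0 [94,155,111])) (.leaf (.up 5 135 [581] 0 [88,94,104,31]))))) (.node (.node (.node (.leaf (.up 2 322 [578] 0 [88,56,116,127])) (.leaf (.up 3 1634 [581] 0 [88,56,176,151]))) (.node (.leaf (.up 5 3204 [578] 0 [57,56,155,192])) (.leaf (.up 5 539 [581] 0 [88,56,104,184])))) (.node (.node (.leaf (.up 6 2612 [883] 1649 [57,93,176,5])) (.leaf (.up 4 2747 [578] 0 [87,56,176,182]))) (.leaf (.up 4 2999 [578] 0 [88,93,104,120]))))) (.node (.node (.node (.node (.leaf (.up 4 2178 [591] 274 [89,213])) (.leaf (.up 5 2835 [573] 0 [110,91,134]))) (.node (.leaf (.up 3 282 [580] 1163 [57,93,44,8])) (.leaf (.up 5 2875 [883] 1649 [57,56,112])))) (.node (.node (.leaf (.up 5 1348 [591] 274 [87,110,116,25])) (.leaf (.up 6 2265 [591] 274 [87,55,116,179]))) (.leaf (.up 3 309 [581] 0 [88,55,91,136])))) (.node (.node (.node (.leaf (.up 4 3785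 [883] 1649 [87,116,13])) (.leaf (.up 3 3519 [578] 0 [87,93,116,210]))) (.node (.leaf (.up 4 1426 [580] 1163 [93,89,105])) (.leaf (.up 4 73 [883] 1649 [57,110,155,33])))) (.node (.node (.leaf (.up 2 801 [883] 1649 [87,42,130])) (.leaf (.up 4 1131 [578] 0 [56,116,115]))) (.leaf (.up 6 1944 [883] 1649 [87,110,103,30])))))))

noncomputable def trio4_1010 : Tr TStep := .node trio4_10100 trio4_10101

noncomputable def trio4_10110 : Tr TStep :=
  .node (.node (.node (.node (.node (.node (.node (.leaf (.up 3 1006 [582] 1163 [87,140,227])) (.leaf (.up 5 479 [578] 0 [88,110,89,170]))) (.node (.leaf (.up 4 1874 [582] 1163 [57,93,104,196])) (.leaf (.up 2 3366 [578] 0 [57,55,103,211])))) (.node (.node (.leaf (.up 3 167 [579] 1163 [87,56,140,31])) (.leaf (.up 5 2334 [581] 0 [87,110,43,244]))) (.node (.leaf (.up 5 987 [579] 1163 [88,93,206])) (.leaf (.up 3 3693 [883] 1649 [88,94,116,141]))))) (.node (.node (.node (.leaf (.up 4 3518 [591] 274 [57,93,44,113])) (.leaf (.up 6 2219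 [573] 0 [57,93,42,136]))) (.node (.leaf (.up 3 1545 [883] 1649 [88,91,166])) (.leaf (.up 5 685 [883] 1649 [87,56,43,208])))) (.node (.node (.leaf (.up 5 2672 [581] 0 [88,55,155,167])) (.leaf (.up 6 187 [581] 0 [88,155,186]))) (.leaf (.up 3 1618 [883] 1649 [87,94,116,75]))))) (.node (.node (.node (.node (.leaf (.up 5 3694 [883] 1649 [88,94,89,235])) (.leaf (.up 4 2857 [578] 0 [88,55,44,174]))) (.node (.leaf (.up 5 425 [591] 274 [87,93,42,27])) (.leaf (.up 3 701 [883] 1649 [87,56,43,4])))) (.node (.node (.leaf (.up 4 3350 [580] 1163 [57,56,196])) (.leaf (.up 4 1237 [581] 0 [87,55,123,200]))) (.node (.leaf (.up 3 1482 [578] 0 [87,55,65])) (.leaf (.up 5 3199 [883] 1649 [88,56,104,152]))))) (.node (.node (.node (.leaf (.up 4 1448 [573] 0 [88,55,104,12])) (.leaf (.up 4 1954 [582] 1163 [57,110,42,186]))) (.node (.leaf (.up 5 2684 [883] 1649 [87,176,236])) (.leaf (.up 4 2773 [578] 0 [56,204])))) (.node (.node (.leaf (.up 5 2649 [581] 0 [88,56,90,23])) (.leaf (.up 5 3092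 [573] 0 [87,110,103,154]))) (.leaf (.up 4 3465 [591] 274 [56,104,227])))))) (.node (.node (.node (.node (.node (.leaf (.up 4 3457 [581] 0 [87,56,42,151])) (.leaf (.up 6 2474 [883] 1649 [57,55,155,231]))) (.node (.leaf (.up 4 1248 [582] 1163 [56,42,191])) (.leaf (.up 4 1831 [582] 1163 [57,56,147])))) (.node (.node (.leaf (.up 5 62 [573] 0 [87,94,44,77])) (.leaf (.up 3 1006 [579] 1163 [176,112]))) (.node (.leaf (.up 4 2433 [581] 0 [176,122])) (.leaf (.up 4 706 [883] 1649 [56,104,99]))))) (.node (.node (.node (.leaf (.up 4 717 [578] 0 [55,42,233])) (.leaf (.up 5 1609 [883] 1649 [88,110,176]))) (.node (.leaf (.up 4 1518 [883] 1649 [57,44,61])) (.leaf (.up 5 1821 [579] 1163 [123,172])))) (.node (.node (.leaf (.up 3 2201 [581] 0 [88,93,42,158])) (.leaf (.up 4 344 [591] 274 [176,215]))) (.leaf (.up 4 2728 [591] 274 [94,123,157]))))) (.node (.node (.node (.node (.leaf (.up 4 1489 [581] 0 [110,176,71])) (.leaf (.up 4 1344 [578] 0 [87,55,155,219]))) (.node (.leaf (.up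 4 2431 [591] 274 [89,118])) (.leaf (.up 4 789 [582] 1163 [57,110,123,30])))) (.node (.node (.leaf (.up 3 3019 [883] 1649 [93,155,245])) (.leaf (.up 5 3695 [591] 274 [88,55,155,129]))) (.node (.leaf (.up 3 2496 [573] 0 [87,55,159])) (.leaf (.up 2 3586 [883] 1649 [42,59]))))) (.node (.node (.node (.leaf (.up 5 684 [582] 1163 [89,202])) (.leaf (.up 4 2106 [578] 0 [87,140,159]))) (.node (.leaf (.up 3 2570 [578] 0 [93,123,177])) (.leaf (.up 4 3734 [582] 1163 [57,94,140,128])))) (.node (.node (.leaf (.up 5 58 [580] 1163 [57,110,140,205])) (.leaf (.up 4 1595 [573] 0 [88,55,44,22]))) (.leaf (.up 4 1528 [591] 274 [88,110,44,147]))))))) (.node (.node (.node (.node (.node (.node (.leaf (.up 3 282 [582] 1163 [57,56,114])) (.leaf (.up 4 3637 [591] 274 [57,55,176,127]))) (.node (.leaf (.up 4 1105 [579] 1163 [87,56,116,158])) (.leaf (.up 4 168 [883] 1649 [57,56,123,119])))) (.node (.node (.leaf (.up 4 2814 [579] 1163 [87,110,89,211])) (.leaf (.up 5 808 [883] 1649 [103,143])))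 (.node (.leaf (.up 4 65 [573] 0 [88,176,206])) (.leaf (.up 6 569 [883] 1649 [57,94,43,152]))))) (.node (.node (.node (.leaf (.up 4 608 [578] 0 [87,44,172])) (.leaf (.up 5 2693 [582] 1163 [57,55,103,244]))) (.node (.leaf (.up 5 486 [579] 1163 [93,44,171])) (.leaf (.up 4 3446 [582] 1163 [56,42,221])))) (.node (.node (.leaf (.up 4 2175 [579] 1163 [88,140,180])) (.leaf (.up 3 3012 [578] 0 [87,56,44,118]))) (.leaf (.up 5 1670 [579] 1163 [87,55,176,196]))))) (.node (.node (.node (.node (.leaf (.up 4 552 [591] 274 [87,94,89,204])) (.leaf (.up 4 1527 [582] 1163 [88,56,90,77]))) (.node (.leaf (.up 3 2254 [579] 1163 [94,42,149])) (.leaf (.up 4 1474 [883] 1649 [87,110,44,171])))) (.node (.node (.leaf (.up 4 3410 [579] 1163 [93,44,163])) (.leaf (.up 5 1256 [573] 0 [87,55,140,97]))) (.node (.leaf (.up 4 2175 [573] 0 [57,55,42,225])) (.leaf (.up 4 724 [580] 1163 [56,176,243]))))) (.node (.node (.node (.leaf (.up 4 3671 [578] 0 [55,90,74])) (.leaf (.up 4 2099 [591] 274 [110,116,119])))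 (.node (.leaf (.up 4 686 [582] 1163 [87,55,116,115])) (.leaf (.up 4 2576 [582] 1163 [87,93,104,139])))) (.node (.node (.leaf (.up 3 309 [578] 0 [56,103,224])) (.leaf (.up 4 2694 [580] 1163 [57,93,123,179]))) (.leaf (.up 4 1169 [582] 1163 [87,90,6])))))) (.node (.node (.node (.node (.node (.leaf (.up 5 652 [580] 1163 [87,110,155,220])) (.leaf (.up 4 1420 [580] 1163 [110,123,148]))) (.node (.leaf (.up 5 1652 [883] 1649 [57,110,43,31])) (.leaf (.up 4 3257 [591] 274 [57,93,43,4])))) (.node (.node (.leaf (.up 4 2481 [580] 1163 [88,161])) (.leaf (.up 4 441 [883] 1649 [87,110,176,10]))) (.node (.leaf (.up 1 14 [581] 0 [57,56,44,181])) (.leaf (.up 2 1922 [579] 1163 [57,94,91,128]))))) (.node (.node (.node (.leaf (.up 4 2175 [581] 0 [57,42,143])) (.leaf (.up 4 2930 [579] 1163 [94,104,146]))) (.node (.leaf (.up 5 3309 [578] 0 [57,93,155,92])) (.leaf (.up 6 343 [883] 1649 [110,42,229])))) (.node (.node (.leaf (.up 3 775 [579] 1163 [87,181])) (.leaf (.up 4 510 [578] 0 [57,55,116,171])))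 (.leaf (.up 4 1851 [883] 1649 [57,56,42,97]))))) (.node (.node (.node (.node (.leaf (.up 4 2896 [591] 274 [94,43,118])) (.leaf (.up 3 2307 [580] 1163 [110,104,3]))) (.node (.leaf (.up 5 1587 [883] 1649 [93,116,216])) (.leaf (.up 4 3389 [573] 0 [88,110,43,0])))) (.node (.node (.leaf (.up 4 1764 [578] 0 [57,110,91,241])) (.leaf (.up 5 2908 [883] 1649 [88,55,103,177]))) (.leaf (.up 4 2694 [573] 0 [56,103,190])))) (.node (.node (.node (.leaf (.up 4 3369 [579] 1163 [87,94,44,198])) (.leaf (.up 4 2433 [579] 1163 [88,93,155,119]))) (.node (.leaf (.up 5 3144 [591] 274 [87,110,91,30])) (.leaf (.up 4 1420 [581] 0 [94,44,0])))) (.node (.node (.leaf (.up 5 1570 [578] 0 [87,56,43,177])) (.leaf (.up 4 2055 [582] 1163 [88,55,103,131]))) (.leaf (.up 4 1911 [582] 1163 [87,56,180])))))))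

noncomputable def trio4_10111 : Tr TStep :=
  .node (.node (.node (.node (.node (.node (.node (.leaf (.up 2 92 [573] 0 [87,94,44,120])) (.leaf (.up 4 3741 [573] 0 [87,94,103,222]))) (.node (.leaf (.up 4 1246 [581] 0 [87,93,116,206])) (.leaf (.up 4 1472 [580] 1163 [110,103,16])))) (.node (.node (.leaf (.up 5 3699 [582] 1163 [57,93,140,206])) (.leaf (.up 4 175 [883] 1649 [57,55,97]))) (.node (.leaf (.up 3 151 [582] 1163 [87,110,61])) (.leaf (.up 4 1560 [883] 1649 [87,94,123,109]))))) (.node (.node (.node (.leaf (.up 4 3389 [581] 0 [87,56,91,97])) (.leaf (.up 4 68 [578] 0 [57,56,123,131]))) (.node (.leaf (.up 4 1378 [573] 0 [88,94,44,36])) (.leaf (.up 2 1085 [573] 0 [56,42,181])))) (.node (.node (.leaf (.up 5 543 [573] 0 [88,56,44,21])) (.leaf (.up 3 2496 [582] 1163 [94,116,227]))) (.leaf (.up 4 2536 [580] 1163 [155,11]))))) (.node (.node (.node (.node (.leaf (.up 4 895 [573] 0 [87,55,42,34])) (.leaf (.up 4 261 [573] 0 [57,93,42,7]))) (.node (.leaf (.up 4 2662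 [883] 1649 [87,155,232])) (.leaf (.up 3 1640 [581] 0 [57,56,43,186])))) (.node (.node (.leaf (.up 5 2112 [591] 274 [93,155,142])) (.leaf (.up 3 3564 [580] 1163 [93,116,170]))) (.node (.leaf (.up 5 1725 [579] 1163 [57,56,44,243])) (.leaf (.up 3 3215 [582] 1163 [57,110,104,142]))))) (.node (.node (.node (.leaf (.up 4 1474 [582] 1163 [57,55,151])) (.leaf (.up 4 2498 [578] 0 [87,110,123,115]))) (.node (.leaf (.up 3 1006 [581] 0 [110,44,99])) (.leaf (.up 3 3112 [582] 1163 [57,55,4])))) (.node (.node (.leaf (.up 4 180 [580] 1163 [87,94,42,180])) (.leaf (.up 6 1919 [580] 1163 [87,94,44,188]))) (.leaf (.up 3 3310 [591] 274 [57,55,116,15])))))) (.node (.node (.node (.node (.node (.leaf (.up 1 14 [582] 1163 [88,93,148])) (.leaf (.up 4 3128 [582] 1163 [87,110,140,193]))) (.node (.leaf (.up 5 2495 [573] 0 [88,104,185])) (.leaf (.up 4 450 [579] 1163 [103,150])))) (.node (.node (.leaf (.up 4 1778 [578] 0 [88,93,176,231])) (.leaf (.up 4 789 [581] 0 [110,123,242]))) (.node (.leaf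 (.up 4 3777 [581] 0 [57,94,89,170])) (.leaf (.up 4 969 [581] 0 [57,93,176,206]))))) (.node (.node (.node (.leaf (.up 4 2156 [580] 1163 [57,123,142])) (.leaf (.up 3 962 [581] 0 [87,94,123,247]))) (.node (.leaf (.up 4 3668 [582] 1163 [57,94,43,106])) (.leaf (.up 4 1926 [580] 1163 [57,56,89,109])))) (.node (.node (.leaf (.up 6 502 [883] 1649 [57,93,171])) (.leaf (.up 2 884 [883] 1649 [57,110,116,107]))) (.leaf (.up 5 1210 [578] 0 [87,93,89,33]))))) (.node (.node (.node (.node (.leaf (.up 5 3484 [883] 1649 [176,25])) (.leaf (.up 5 103 [579] 1163 [88,103,201]))) (.node (.leaf (.up 4 1192 [582] 1163 [55,42,115])) (.leaf (.up 4 3169 [581] 0 [93,155,4])))) (.node (.node (.leaf (.up 4 1015 [582] 1163 [56,43,221])) (.leaf (.up 2 1085 [578] 0 [56,155,238]))) (.leaf (.up 2 20 [578] 0 [56,43,7])))) (.node (.node (.node (.leaf (.up 4 1565 [579] 1163 [57,43,175])) (.leaf (.up 4 1284 [883] 1649 [57,55,176,100]))) (.node (.leaf (.up 6 2806 [883] 1649 [57,55,90,112])) (.leaf (.up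 5 2092 [579] 1163 [93,104,114])))) (.node (.node (.leaf (.up 5 968 [578] 0 [43,74])) (.leaf (.up 3 3564 [883] 1649 [94,89,245]))) (.leaf (.up 5 275 [580] 1163 [87,94,42,36]))))))) (.node (.node (.node (.node (.node (.node (.leaf (.up 3 2892 [591] 274 [87,94,91,113])) (.leaf (.up 4 2490 [581] 0 [93,42,190]))) (.node (.leaf (.up 1 3 [573] 0 [88,93,104,230])) (.leaf (.up 4 1758 [578] 0 [87,91,127])))) (.node (.node (.leaf (.up 4 2121 [578] 0 [57,94,123,27])) (.leaf (.up 3 3575 [883] 1649 [89,118]))) (.node (.leaf (.up 4 2831 [573] 0 [57,110,123,127])) (.leaf (.up 4 1169 [573] 0 [87,55,176,154]))))) (.node (.node (.node (.leaf (.up 5 716 [579] 1163 [87,93,155,71])) (.leaf (.up 4 2431 [573] 0 [56,90,4]))) (.node (.leaf (.up 4 3175 [883] 1649 [88,93,89,197])) (.leaf (.up 3 3564 [582] 1163 [88,43,77])))) (.node (.node (.leaf (.up 4 3289 [580] 1163 [94,43,197])) (.leaf (.up 4 1805 [578] 0 [56,176,145]))) (.leaf (.up 4 2536 [578] 0 [87,110,123,61]))))) (.node (.node (.node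 (.node (.leaf (.up 4 1822 [883] 1649 [88,94,103,119])) (.leaf (.up 5 2603 [580] 1163 [88,56,90,122]))) (.node (.leaf (.up 4 1216 [580] 1163 [87,94,12])) (.leaf (.up 3 2559 [591] 274 [87,55,140,248])))) (.node (.node (.leaf (.up 2 2813 [883] 1649 [204])) (.leaf (.up 5 2526 [579] 1163 [88,110,89,72]))) (.node (.leaf (.up 4 1708 [883] 1649 [88,55,176,204])) (.leaf (.up 4 3289 [883] 1649 [91,244]))))) (.node (.node (.node (.leaf (.up 4 2624 [573] 0 [57,94,140,223])) (.leaf (.up 6 3324 [883] 1649 [57,93,91,167]))) (.node (.leaf (.up 4 1407 [580] 1163 [87,56,104,33])) (.leaf (.up 1 3 [582] 1163 [94,89,227])))) (.node (.node (.leaf (.up 5 622 [573] 0 [87,94,104,29])) (.leaf (.up 4 3580 [573] 0 [87,94,140,0]))) (.leaf (.up 5 3117 [579] 1163 [88,43,141])))))) (.node (.node (.node (.node (.node (.leaf (.up 5 2407 [582] 1163 [56,123,248])) (.leaf (.up 5 1709 [591] 274 [57,94,123,164]))) (.node (.leaf (.up 4 1557 [579] 1163 [110,42])) (.leaf (.up 4 1892 [573] 0 [87,55,43,168]))))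 (.node (.node (.leaf (.up 3 1640 [573] 0 [88,110,90,74])) (.leaf (.up 4 3229 [579] 1163 [88,93,140,203]))) (.node (.leaf (.up 4 2460 [582] 1163 [87,56,104,197])) (.leaf (.up 4 706 [582] 1163 [88,94,116,23]))))) (.node (.node (.node (.leaf (.up 5 3460 [580] 1163 [56,42,137])) (.leaf (.up 5 2827 [591] 274 [57,56,44,214]))) (.node (.leaf (.up 5 1942 [580] 1163 [116,180])) (.leaf (.up 5 83 [573] 0 [87,55,103,198])))) (.node (.node (.leaf (.up 5 3738 [580] 1163 [87,93,104,23])) (.leaf (.up 5 2744 [581] 0 [88,93,198]))) (.leaf (.up 4 1603 [579] 1163 [88,110,43,228]))))) (.node (.node (.node (.node (.leaf (.up 4 1776 [580] 1163 [56,89,132])) (.leaf (.up 4 537 [582] 1163 [57,94,103,236]))) (.node (.leaf (.up 3 94 [582] 1163 [56,90,180])) (.leaf (.up 5 2479 [581] 0 [57,56,89,198])))) (.node (.node (.leaf (.up 5 1036 [573] 0 [87,93,140,97])) (.leaf (.up 1 1 [581] 0 [87,94,89,220]))) (.leaf (.up 4 3605 [573] 0 [57,56,155,178])))) (.node (.node (.node (.leaf (.up 4 1954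 [580] 1163 [93,176,143])) (.leaf (.up 5 2393 [581] 0 [88,94,140,173]))) (.node (.leaf (.up 6 447 [883] 1649 [88,56,44,133])) (.leaf (.up 3 1134 [579] 1163 [88,55,123,198])))) (.node (.node (.leaf (.up 3 2254 [581] 0 [88,56,42,243])) (.leaf (.up 5 1570 [580] 1163 [87,55,89,241]))) (.leaf (.up 4 1003 [573] 0 [57,56,103,182])))))))

noncomputable def trio4_1011 : Tr TStep := .node trio4_10110 trio4_10111

noncomputable def trio4_101 : Tr TStep := .node trio4_1010 trio4_1011

noncomputable def trio4_10 : Tr TStep := .node trio4_100 trio4_101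

noncomputable def trio4_11000 : Tr TStep :=
  .node (.node (.node (.node (.node (.node (.node (.leaf (.root 2)) (.leaf (.up 4 513 [883] 1649 [87,110,42,6]))) (.node (.leaf (.up 4 1758 [883] 1649 [88,42,177])) (.leaf (.up 3 1399 [579] 1163 [55,140,160])))) (.node (.node (.leaf (.up 4 1582 [582] 1163 [110,42,146])) (.leaf (.up 4 2159 [578] 0 [88,140,71]))) (.node (.leaf (.up 4 2460 [591] 274 [87,93,123,36])) (.leaf (.up 5 2593 [573] 0 [56,155,190]))))) (.node (.node (.node (.leaf (.up 5 820 [582] 1163 [110,89,185])) (.leaf (.up 2 3788 [580] 1163 [57,123,186]))) (.node (.leaf (.up 4 3465 [580] 1163 [57,93,43,117])) (.leaf (.up 2 1922 [581] 0 [88,91,204])))) (.node (.node (.leaf (.up 4 1560 [582] 1163 [57,94,91,240])) (.leaf (.up 2 2336 [579] 1163 [94,89,145]))) (.leaf (.up 4 3155 [582] 1163 [88,110,42,182]))))) (.node (.node (.node (.node (.leaf (.up 4 1624 [573] 0 [87,110,123,2])) (.leaf (.up 4 2521 [578] 0 [57,56,155,235]))) (.node (.leaf (.up 3 202 [580] 1163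 [88,93,43])) (.leaf (.up 4 695 [591] 274 [87,91,220])))) (.node (.node (.leaf (.up 3 2781 [883] 1649 [57,116,188])) (.leaf (.up 4 1811 [582] 1163 [87,56,42,74]))) (.node (.leaf (.up 4 1407 [883] 1649 [57,56,116,92])) (.leaf (.up 4 2149 [580] 1163 [87,55,116,203]))))) (.node (.node (.node (.leaf (.up 6 187 [573] 0 [93,116,18])) (.leaf (.up 4 3216 [580] 1163 [123,23]))) (.node (.leaf (.up 4 1049 [578] 0 [57,42,31])) (.leaf (.up 5 2787 [582] 1163 [140,198])))) (.node (.node (.leaf (.up 5 2371 [578] 0 [88,56,155,178])) (.leaf (.up 2 1555 [591] 274 [88,110,91,217]))) (.leaf (.up 5 1700 [578] 0 [110,140,231])))))) (.node (.node (.node (.node (.node (.leaf (.up 5 484 [883] 1649 [94,91,156])) (.leaf (.up 3 3575 [580] 1163 [87,140,21]))) (.node (.leaf (.up 6 943 [591] 274 [55,42,228])) (.leaf (.up 5 1883 [578] 0 [94,140,235])))) (.node (.node (.leaf (.up 5 773 [883] 1649 [57,110,91,127])) (.leaf (.up 4 1049 [883] 1649 [87,56,91,145]))) (.node (.leaf (.up 3 1816 [581]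 0 [88,94,117])) (.leaf (.up 4 3560 [579] 1163 [55,183]))))) (.node (.node (.node (.leaf (.up 4 513 [581] 0 [56,44,141])) (.leaf (.up 4 2754 [573] 0 [88,56,44,205]))) (.node (.leaf (.up 5 808 [578] 0 [88,91,163])) (.leaf (.up 5 472 [579] 1163 [94,176,248])))) (.node (.node (.leaf (.up 4 3542 [581] 0 [87,116,71])) (.leaf (.up 4 664 [579] 1163 [94,104,115]))) (.leaf (.up 4 1376 [581] 0 [88,176,95]))))) (.node (.node (.node (.node (.leaf (.up 5 2150 [579] 1163 [56,42,216])) (.leaf (.up 4 1810 [582] 1163 [87,93,103,134]))) (.node (.leaf (.up 5 1417 [883] 1649 [88,155,173])) (.leaf (.up 4 785 [883] 1649 [56,104,218])))) (.node (.node (.leaf (.up 4 3216 [579] 1163 [56,155,11])) (.leaf (.up 6 3743 [883] 1649 [57,55,91,33]))) (.node (.leaf (.up 4 3633 [591] 274 [57,110,90,97])) (.leaf (.up 4 695 [883] 1649 [57,55,104,3]))))) (.node (.node (.node (.leaf (.up 4 3276 [581] 0 [87,56,104,11])) (.leaf (.up 4 1024 [883] 1649 [88,55,44,171]))) (.node (.leaf (.up 4 3275 [573]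 0 [87,43,73])) (.leaf (.up 5 2404 [579] 1163 [57,55,72])))) (.node (.node (.leaf (.up 4 422 [578] 0 [94,155,29])) (.leaf (.up 4 668 [582] 1163 [87,123,195]))) (.leaf (.up 4 2071 [591] 274 [90,173]))))))) (.node (.node (.node (.node (.node (.node (.leaf (.up 5 1431 [591] 274 [116,211])) (.leaf (.up 5 412 [883] 1649 [57,56,44,152]))) (.node (.leaf (.up 6 2181 [883] 1649 [93,176,166])) (.leaf (.up 3 3152 [591] 274 [93,140,238])))) (.node (.node (.leaf (.up 5 1519 [591] 274 [87,155,188])) (.leaf (.up 3 2591 [578] 0 [88,55,42,106]))) (.node (.leaf (.up 4 1402 [591] 274 [57,56,89,178])) (.leaf (.up 4 1075 [573] 0 [57,93,43,197]))))) (.node (.node (.node (.leaf (.up 4 70 [883] 1649 [42,227])) (.leaf (.up 5 3021 [591] 274 [56,140,121]))) (.node (.leaf (.up 4 340 [581] 0 [110,44,220])) (.leaf (.up 3 1545 [579] 1163 [87,110,103,75])))) (.node (.node (.leaf (.up 4 2049 [582] 1163 [87,110,90,220])) (.leaf (.up 3 2596 [573] 0 [57,93,116,228]))) (.leaf (.up 5 565 [580] 1163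 [110,44,102]))))) (.node (.node (.node (.node (.leaf (.up 4 1892 [582] 1163 [94,103,162])) (.leaf (.up 6 3174 [573] 0 [57,56,8]))) (.node (.leaf (.up 4 3001 [579] 1163 [57,116,163])) (.leaf (.up 5 3206 [579] 1163 [88,94,44,231])))) (.node (.node (.leaf (.up 2 92 [582] 1163 [88,110,91,131])) (.leaf (.up 4 1402 [883] 1649 [88,140,59]))) (.node (.leaf (.up 3 1953 [573] 0 [110,213])) (.leaf (.up 4 2443 [883] 1649 [88,44,191]))))) (.node (.node (.node (.leaf (.up 3 3413 [582] 1163 [57,93,91,129])) (.leaf (.up 3 2969 [591] 274 [88,55,123,175]))) (.node (.leaf (.up 5 3474 [591] 274 [87,110,91,224])) (.leaf (.up 3 3789 [580] 1163 [57,93,91,23])))) (.node (.node (.leaf (.up 5 2586 [579] 1163 [87,110,89,232])) (.leaf (.up 4 3741 [591] 274 [55,89,61]))) (.leaf (.up 5 1590 [578] 0 [93,90,72])))))) (.node (.node (.node (.node (.node (.leaf (.up 4 1003 [582] 1163 [93,155,105])) (.leaf (.up 4 2104 [578] 0 [87,110,228]))) (.node (.leaf (.up 4 2665 [573] 0 [87,56,43,240])) (.leaf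 (.up 4 2734 [581] 0 [57,103,135])))) (.node (.node (.leaf (.up 5 707 [883] 1649 [110,42,146])) (.leaf (.up 3 2969 [883] 1649 [57,93,91,192]))) (.node (.leaf (.up 3 2763 [582] 1163 [88,93,104,188])) (.leaf (.up 4 1344 [581] 0 [57,55,140,180]))))) (.node (.node (.node (.leaf (.up 5 3313 [579] 1163 [57,110,116,75])) (.leaf (.up 4 1281 [591] 274 [57,55,89,143]))) (.node (.leaf (.up 3 1292 [578] 0 [57,94,123,170])) (.leaf (.up 4 1029 [573] 0 [110,155,192])))) (.node (.node (.leaf (.up 4 2504 [580] 1163 [57,55,44,227])) (.leaf (.up 4 1015 [578] 0 [56,148]))) (.leaf (.up 5 622 [579] 1163 [88,140,109]))))) (.node (.node (.node (.node (.leaf (.up 3 202 [582] 1163 [57,110,123,205])) (.leaf (.up 5 1441 [883] 1649 [88,91,31]))) (.node (.leaf (.up 4 75 [578] 0 [88,56,129])) (.leaf (.up 5 518 [573] 0 [88,110,123,142])))) (.node (.node (.leaf (.up 4 2999 [591] 274 [57,56,123,195])) (.leaf (.up 4 3219 [883] 1649 [87,55,43,174]))) (.leaf (.up 4 2273 [582] 1163 [88,110,176,159]))))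 (.node (.node (.node (.leaf (.up 5 850 [883] 1649 [87,56,60])) (.leaf (.up 4 3253 [591] 274 [55,77]))) (.node (.leaf (.up 5 832 [579] 1163 [91,177])) (.leaf (.up 4 1745 [582] 1163 [88,155,125])))) (.node (.node (.leaf (.up 2 2617 [591] 274 [88,93,140,120])) (.leaf (.up 4 3780 [573] 0 [88,55,89,13]))) (.leaf (.up 4 1169 [578] 0 [88,55,91,27])))))))

noncomputable def trio4_11001 : Tr TStep :=
  .node (.node (.node (.node (.node (.node (.node (.leaf (.up 2 93 [580] 1163 [88,56,103,37])) (.leaf (.up 4 3295 [591] 274 [57,110,90,65]))) (.node (.leaf (.up 4 2549 [582] 1163 [93,89,190])) (.leaf (.up 6 3033 [591] 274 [88,56,116,29])))) (.node (.node (.leaf (.up 5 1732 [883] 1649 [94,91,224])) (.leaf (.up 5 3264 [580] 1163 [88,110,90,96]))) (.node (.leaf (.up 1 14 [580] 1163 [87,94,140,207])) (.leaf (.up 5 515 [883] 1649 [87,110,140,221]))))) (.node (.node (.node (.leaf (.up 4 2324 [883] 1649 [89,199])) (.leaf (.up 4 559 [580] 1163 [57,94,116,100]))) (.node (.leaf (.up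 4 1490 [580] 1163 [55,155,30])) (.leaf (.up 3 1618 [578] 0 [93,44,224])))) (.node (.node (.leaf (.up 5 264 [579] 1163 [88,93,123,186])) (.leaf (.up 4 2692 [582] 1163 [57,110,90,236]))) (.leaf (.up 3 3152 [883] 1649 [88,140,207]))))) (.node (.node (.node (.node (.leaf (.up 4 1437 [883] 1649 [110,206])) (.leaf (.up 5 1076 [591] 274 [87,94,90,16]))) (.node (.leaf (.up 3 2353 [883] 1649 [87,56,155,151])) (.leaf (.up 3 3564 [581] 0 [57,93,176,236])))) (.node (.node (.leaf (.up 4 980 [883] 1649 [55,91,115])) (.leaf (.up 4 2668 [578] 0 [87,55,91,192]))) (.node (.leaf (.up 4 2314 [581] 0 [88,55,155,60])) (.leaf (.up 4 2864 [578] 0 [87,123,240]))))) (.node (.node (.node (.leaf (.up 5 1784 [883] 1649 [57,55,42,220])) (.leaf (.up 1 0 [883] 1649 [88,93,103,59]))) (.node (.leaf (.up 4 868 [579] 1163 [57,55,90,151])) (.leaf (.up 5 3135 [591] 274 [88,94,140,180])))) (.node (.node (.leaf (.up 4 1338 [591] 274 [57,56,103,117])) (.leaf (.up 5 1137 [883] 1649 [87,110,140,227])))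 (.leaf (.up 2 93 [578] 0 [57,55,116,2])))))) (.node (.node (.node (.node (.node (.leaf (.up 4 3025 [883] 1649 [87,94,103,23])) (.leaf (.up 5 1707 [582] 1163 [57,123,161]))) (.node (.leaf (.up 4 1021 [578] 0 [88,94,140,37])) (.leaf (.up 3 2307 [581] 0 [87,56,43,71])))) (.node (.node (.leaf (.up 6 3174 [580] 1163 [87,94,89,234])) (.leaf (.up 4 1926 [579] 1163 [87,110,90,108]))) (.node (.leaf (.up 3 2777 [580] 1163 [88,93,123,183])) (.leaf (.up 4 3170 [582] 1163 [88,55,42,157]))))) (.node (.node (.node (.leaf (.up 4 676 [573] 0 [94,90,10])) (.leaf (.up 5 3482 [573] 0 [90,185]))) (.node (.leaf (.up 2 1555 [573] 0 [88,93,89,198])) (.leaf (.up 4 1075 [591] 274 [110,90,196])))) (.node (.node (.leaf (.up 3 388 [573] 0 [88,94,89,201])) (.leaf (.up 5 405 [579] 1163 [57,56,140,232]))) (.leaf (.up 4 3224 [580] 1163 [87,56,89,193]))))) (.node (.node (.node (.node (.leaf (.up 5 2938 [573] 0 [88,110,89,188])) (.leaf (.up 4 2170 [578] 0 [57,55,123,189]))) (.node (.leaf (.up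 4 2188 [883] 1649 [56,103,101])) (.leaf (.up 4 3107 [883] 1649 [87,93,90,157])))) (.node (.node (.leaf (.up 5 1721 [578] 0 [57,110,123,241])) (.leaf (.up 5 2494 [573] 0 [57,56,90,107]))) (.leaf (.up 5 2671 [591] 274 [88,55,155,98])))) (.node (.node (.node (.leaf (.up 4 1426 [579] 1163 [87,93,140,115])) (.leaf (.up 5 2919 [591] 274 [88,93,15]))) (.node (.leaf (.up 3 3242 [581] 0 [57,56,35])) (.leaf (.up 3 282 [578] 0 [87,94,123,107])))) (.node (.node (.leaf (.up 6 1601 [581] 0 [44,22])) (.leaf (.up 5 817 [581] 0 [87,56,89,203]))) (.leaf (.up 4 559 [573] 0 [57,56,89,108]))))))) (.node (.node (.node (.node (.node (.node (.leaf (.up 4 2840 [573] 0 [55,43,59])) (.leaf (.up 3 29 [883] 1649 [87,94,90,73]))) (.node (.leaf (.up 3 701 [573] 0 [55,90,146])) (.leaf (.up 4 1805 [883] 1649 [57,93,44,237])))) (.node (.node (.leaf (.up 2 3366 [573] 0 [88,110,168])) (.leaf (.up 4 1911 [579] 1163 [57,94,104,157]))) (.node (.leaf (.up 4 1414 [581] 0 [87,93,42,200])) (.leaf (.up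 5 847 [579] 1163 [57,93,90,6]))))) (.node (.node (.node (.leaf (.up 5 2440 [883] 1649 [88,94,104,35])) (.leaf (.up 4 3500 [591] 274 [87,56,211]))) (.node (.leaf (.up 3 1584 [578] 0 [88,110,104,165])) (.leaf (.up 4 334 [578] 0 [94,155,189])))) (.node (.node (.leaf (.up 4 510 [591] 274 [57,91,108])) (.leaf (.up 4 1929 [578] 0 [57,55,44,3]))) (.leaf (.up 3 279 [582] 1163 [57,140,139]))))) (.node (.node (.node (.node (.leaf (.up 5 1391 [591] 274 [88,94,123,225])) (.leaf (.up 5 1090 [580] 1163 [88,56,90,241]))) (.node (.leaf (.up 4 3158 [578] 0 [56,42,76])) (.leaf (.up 6 3174 [581] 0 [87,93,140,108])))) (.node (.node (.leaf (.up 3 1502 [580] 1163 [87,140,243])) (.leaf (.up 5 3779 [578] 0 [93,239]))) (.node (.leaf (.up 4 2178 [580] 1163 [57,56,43,142])) (.leaf (.up 5 1652 [579] 1163 [88,94,116,115]))))) (.node (.node (.node (.leaf (.up 4 1776 [591] 274 [57,56,176,23])) (.leaf (.up 5 1959 [591] 274 [57,55,42,154]))) (.node (.leaf (.up 3 3249 [581] 0 [93,116,221])) (.leaf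 (.up 4 613 [573] 0 [87,55,89,37])))) (.node (.node (.leaf (.up 5 296 [580] 1163 [87,56,155,5])) (.leaf (.up 5 1137 [578] 0 [94,119]))) (.leaf (.up 4 1040 [883] 1649 [88,94,44,210])))))) (.node (.node (.node (.node (.node (.leaf (.up 4 2987 [578] 0 [95])) (.leaf (.up 5 817 [591] 274 [87,55,140,134]))) (.node (.leaf (.up 5 114 [580] 1163 [56,43,5])) (.leaf (.up 4 3342 [580] 1163 [88,94,91,18])))) (.node (.node (.leaf (.up 4 1843 [581] 0 [87,56,42,22])) (.leaf (.up 4 3741 [579] 1163 [88,220]))) (.node (.leaf (.up 5 1175 [573] 0 [57,94,123,182])) (.leaf (.up 4 2621 [581] 0 [93,116,134]))))) (.node (.node (.node (.leaf (.up 5 1631 [883] 1649 [87,4])) (.leaf (.up 5 1152 [883] 1649 [88,110,123,142]))) (.node (.leaf (.up 6 589 [591] 274 [87,94,42,188])) (.leaf (.up 4 1872 [578] 0 [57,55,176,30])))) (.node (.node (.leaf (.up 4 3330 [578] 0 [94,90,107])) (.leaf (.up 4 1113 [582] 1163 [87,94,155,148]))) (.leaf (.up 5 830 [579] 1163 [57,44,201]))))) (.node (.node (.node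 (.node (.leaf (.up 4 691 [582] 1163 [87,56,140,186])) (.leaf (.up 5 3666 [579] 1163 [88,56,43,15]))) (.node (.leaf (.up 4 3650 [582] 1163 [87,110,42,179])) (.leaf (.up 4 3347 [578] 0 [88,140,120])))) (.node (.node (.leaf (.up 5 3779 [580] 1163 [88,55,135])) (.leaf (.up 4 3552 [573] 0 [87,42,197]))) (.leaf (.up 4 1033 [579] 1163 [55,103,36])))) (.node (.node (.node (.leaf (.up 1 0 [579] 1163 [57,94,176,113])) (.leaf (.up 5 1095 [883] 1649 [155,205]))) (.node (.leaf (.up 4 2482 [578] 0 [55,151])) (.leaf (.up 4 2115 [883] 1649 [88,56,42,77])))) (.node (.node (.leaf (.up 4 2549 [573] 0 [88,55,43,232])) (.leaf (.up 4 686 [579] 1163 [57,93,155,108]))) (.leaf (.up 3 3095 [573] 0 [57,56,42,121])))))))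

noncomputable def trio4_1100 : Tr TStep := .node trio4_11000 trio4_11001

noncomputable def trio4_11010 : Tr TStep :=
  .node (.node (.node (.node (.node (.node (.node (.leaf (.up 5 62 [582] 1163 [87,94,155,152])) (.leaf (.up 3 1088 [579] 1163 [88,116,31]))) (.node (.leaf (.up 4 537 [591] 274 [88,94,90,117])) (.leaf (.up 4 751 [579] 1163 [88,110,103,247])))) (.node (.node (.leaf (.up 4 2532 [883] 1649 [93,90,203])) (.leaf (.up 4 1527 [580] 1163 [57,56,176,215]))) (.node (.leaf (.up 4 335 [591] 274 [88,94,104,206])) (.leaf (.up 5 2908 [581] 0 [87,93,176,0]))))) (.node (.node (.node (.leaf (.up 4 2576 [573] 0 [42,203])) (.leaf (.up 4 2188 [581] 0 [88,55,151]))) (.node (.leaf (.up 4 2467 [581] 0 [87,56,90,13])) (.leaf (.up 5 3117 [883] 1649 [57,110,123,184])))) (.node (.node (.leaf (.up 4 1269 [591] 274 [57,55,103,215])) (.leaf (.up 4 1087 [579] 1163 [55,89,129]))) (.leaf (.up 5 3015 [573] 0 [88,55,91,75]))))) (.node (.node (.node (.node (.leaf (.up 4 1949 [582]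 1163 [57,94,42,226])) (.leaf (.up 6 1200 [883] 1649 [42,186]))) (.node (.leaf (.up 4 3734 [580] 1163 [88,110,44,180])) (.leaf (.up 5 1333 [883] 1649 [87,94,43,197])))) (.node (.node (.leaf (.up 4 1958 [579] 1163 [57,91,217])) (.leaf (.up 6 1092 [883] 1649 [93,42,75]))) (.node (.leaf (.up 3 56 [582] 1163 [93,123,233])) (.leaf (.up 5 711 [582] 1163 [88,55,90,171]))))) (.node (.node (.node (.leaf (.up 5 3303 [579] 1163 [87,55,103,232])) (.leaf (.up 3 1786 [578] 0 [57,93,123,174]))) (.node (.leaf (.up 6 2914 [578] 0 [87,110,140,211])) (.leaf (.up 4 2549 [591] 274 [57,56,89,224])))) (.node (.node (.leaf (.up 4 844 [582] 1163 [88,93,247])) (.leaf (.up 5 432 [573] 0 [88,110,243]))) (.leaf (.up 4 2752 [591] 274 [57,55,176,184])))))) (.node (.node (.node (.node (.node (.leaf (.up 3 167 [883] 1649 [110,123,182])) (.leaf (.up 4 2896 [581] 0 [88,155,106]))) (.node (.leaf (.up 3 1326 [581] 0 [55,44,242])) (.leaf (.up 5 711 [883] 1649 [88,110,116,109])))) (.node (.node (.leaf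 (.up 5 2942 [582] 1163 [57,93,90,127])) (.leaf (.up 4 348 [573] 0 [88,55,114]))) (.node (.leaf (.up 6 661 [883] 1649 [88,56,128])) (.leaf (.up 4 1033 [580] 1163 [88,55,43,74]))))) (.node (.node (.node (.leaf (.up 3 379 [581] 0 [88,110,90,60])) (.leaf (.up 5 466 [580] 1163 [88,93,42,170]))) (.node (.leaf (.up 5 55 [573] 0 [88,56,43,142])) (.leaf (.up 5 3744 [582] 1163 [57,94,44,230])))) (.node (.node (.leaf (.up 4 1246 [578] 0 [110,155,230])) (.leaf (.up 6 2870 [579] 1163 [87,176,247]))) (.leaf (.up 4 1034 [582] 1163 [87,56,42,243]))))) (.node (.node (.node (.node (.leaf (.up 4 300 [582] 1163 [88,55,90,37])) (.leaf (.up 4 1911 [580] 1163 [93,123,179]))) (.node (.leaf (.up 3 3357 [591] 274 [87,94,104,151])) (.leaf (.up 3 1640 [578] 0 [88,94,176,212])))) (.node (.node (.leaf (.up 6 3512 [883] 1649 [57,56,155,186])) (.leaf (.up 2 2362 [581] 0 [88,56,90,178]))) (.node (.leaf (.up 3 1083 [591] 274 [88,56,121])) (.leaf (.up 4 61 [578] 0 [94,43,35]))))) (.node (.node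 (.node (.leaf (.up 4 1317 [580] 1163 [88,110,137])) (.leaf (.up 3 3152 [580] 1163 [88,56,104,151]))) (.node (.leaf (.up 5 983 [581] 0 [93,104,37])) (.leaf (.up 5 1553 [579] 1163 [88,56,90,181])))) (.node (.node (.leaf (.up 5 930 [591] 274 [87,155,9])) (.leaf (.up 2 2336 [573] 0 [88,89,4]))) (.leaf (.up 4 1381 [580] 1163 [88,93,90,7]))))))) (.node (.node (.node (.node (.node (.node (.leaf (.up 5 1593 [582] 1163 [93,103,162])) (.leaf (.up 5 1865 [883] 1649 [57,93,23]))) (.node (.leaf (.up 4 1068 [883] 1649 [87,176,247])) (.leaf (.up 5 3087 [582] 1163 [88,93,116,99])))) (.node (.node (.leaf (.up 4 385 [582] 1163 [57,93,155,190])) (.leaf (.up 4 3219 [591] 274 [87,155,9]))) (.node (.leaf (.up 5 2667 [591] 274 [57,94,193])) (.leaf (.up 4 1595 [883] 1649 [87,55,3]))))) (.node (.node (.node (.leaf (.up 4 3276 [883] 1649 [88,94,90,170])) (.leaf (.up 4 6 [573] 0 [88,123,151]))) (.node (.leaf (.up 3 3575 [579] 1163 [57,56,90,33])) (.leaf (.up 5 864 [883] 1649 [88,55,42,229]))))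 (.node (.node (.leaf (.up 4 75 [579] 1163 [87,56,176,18])) (.leaf (.up 4 1131 [581] 0 [87,94,103,113]))) (.leaf (.up 4 1414 [578] 0 [87,94,126]))))) (.node (.node (.node (.node (.leaf (.up 4 1834 [578] 0 [88,176,0])) (.leaf (.up 5 889 [883] 1649 [87,110,42,147]))) (.node (.leaf (.up 4 2087 [573] 0 [88,55,116,114])) (.leaf (.up 4 556 [573] 0 [87,56,123,37])))) (.node (.node (.leaf (.up 5 54 [581] 0 [88,103,168])) (.leaf (.up 3 3310 [578] 0 [94,103,136]))) (.node (.leaf (.up 4 1764 [580] 1163 [57,176,139])) (.leaf (.up 5 1170 [883] 1649 [57,56,116,213]))))) (.node (.node (.node (.leaf (.up 4 506 [578] 0 [57,56,91,232])) (.leaf (.up 4 1437 [582] 1163 [88,56,44,212]))) (.node (.leaf (.up 4 1834 [579] 1163 [55,43,61])) (.leaf (.up 5 2086 [582] 1163 [87,93,104,235])))) (.node (.node (.leaf (.up 4 914 [883] 1649 [88,55,89,16])) (.leaf (.up 3 3519 [579] 1163 [57,94,176,201]))) (.leaf (.up 3 1352 [579] 1163 [110,116,61])))))) (.node (.node (.node (.node (.node (.leaf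 (.up 5 1574 [582] 1163 [57,94,234])) (.leaf (.up 4 721 [883] 1649 [57,56,44,185]))) (.node (.leaf (.up 3 2489 [573] 0 [88,94,37])) (.leaf (.up 2 1555 [581] 0 [56,43,37])))) (.node (.node (.leaf (.up 4 260 [883] 1649 [57,89,173])) (.leaf (.up 4 1991 [581] 0 [93,155,132]))) (.node (.leaf (.up 2 1645 [573] 0 [87,93,116,106])) (.leaf (.up 4 1034 [579] 1163 [88,94,43,242]))))) (.node (.node (.node (.leaf (.up 4 1212 [578] 0 [88,55,91,204])) (.leaf (.up 4 2857 [580] 1163 [123,195]))) (.node (.leaf (.up 5 873 [578] 0 [88,43,74])) (.leaf (.up 4 2260 [578] 0 [110,89,1])))) (.node (.node (.leaf (.up 5 2873 [579] 1163 [57,93,74])) (.leaf (.up 4 2536 [581] 0 [55,123,12]))) (.leaf (.up 4 3257 [883] 1649 [88,94,90,171]))))) (.node (.node (.node (.node (.leaf (.up 4 3626 [579] 1163 [88,110,89,101])) (.leaf (.up 4 3431 [883] 1649 [87,56,103,199]))) (.node (.leaf (.up 4 1522 [580] 1163 [88,55,193])) (.leaf (.up 6 3266 [591] 274 [57,94,176,144])))) (.node (.node (.leaf (.up 4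 1781 [591] 274 [57,110,104,206])) (.leaf (.up 4 1344 [579] 1163 [94,91,157]))) (.leaf (.up 6 3536 [883] 1649 [57,56,116,107])))) (.node (.node (.node (.leaf (.up 5 275 [573] 0 [88,56,155,151])) (.leaf (.up 4 2840 [579] 1163 [88,55,116,186]))) (.node (.leaf (.up 5 217 [580] 1163 [87,55,116,99])) (.leaf (.up 5 716 [591] 274 [110,91,208])))) (.node (.node (.leaf (.up 3 2442 [883] 1649 [88,56,104,77])) (.leaf (.up 4 288 [580] 1163 [55,43,59]))) (.leaf (.up 4 175 [582] 1163 [87,110,116,165])))))))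

noncomputable def trio4_11011 : Tr TStep :=
  .node (.node (.node (.node (.node (.node (.node (.leaf (.up 4 1244 [573] 0 [88,55,155,16])) (.leaf (.up 4 1950 [581] 0 [93,42,165]))) (.node (.leaf (.up 5 1598 [581] 0 [57,110,42,69])) (.leaf (.up 4 2879 [883] 1649 [87,110,89,223])))) (.node (.node (.leaf (.up 4 1260 [573] 0 [89,134])) (.leaf (.up 4 751 [578] 0 [56,91,221]))) (.node (.leaf (.up 3 982 [579] 1163 [88,93,90,192])) (.leaf (.up 5 2913 [883] 1649 [87,56,155,246]))))) (.node (.node (.node (.leaf (.up 4 1345 [579] 1163 [94,155,71])) (.leaf (.up 5 2108 [582] 1163 [55,140,75]))) (.node (.leaf (.up 5 1298 [578] 0 [93,91,35])) (.leaf (.up 4 3777 [573] 0 [87,56,176,108])))) (.node (.node (.leaf (.up 5 1849 [578] 0 [88,56,123,102])) (.leaf (.up 3 354 [591] 274 [57,94,123,92]))) (.leaf (.up 3 2489 [883] 1649 [88,44,213]))))) (.node (.node (.node (.node (.leaf (.up 5 2635 [582] 1163 [87,93,104,169])) (.leaf (.up 4 789 [579] 1163 [103,129]))) (.node (.leaf (.up 4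 1422 [581] 0 [88,94,104,144])) (.leaf (.up 4 2773 [582] 1163 [88,56,140,100])))) (.node (.node (.leaf (.up 4 1991 [578] 0 [87,55,155,134])) (.leaf (.up 5 2185 [582] 1163 [88,55,44,113]))) (.node (.leaf (.up 5 3199 [582] 1163 [57,94,116,126])) (.leaf (.up 4 1317 [573] 0 [57,56,123,198]))))) (.node (.node (.node (.leaf (.up 5 2191 [883] 1649 [110,116,242])) (.leaf (.up 6 3349 [883] 1649 [88,55,43,33]))) (.node (.leaf (.up 5 2788 [883] 1649 [56,176,118])) (.leaf (.up 4 3176 [578] 0 [110,140,131])))) (.node (.node (.leaf (.up 3 3579 [883] 1649 [93,104,130])) (.leaf (.up 4 288 [579] 1163 [57,94,104,16]))) (.leaf (.up 3 1545 [591] 274 [57,93,140,174])))))) (.node (.node (.node (.node (.node (.leaf (.up 4 1926 [573] 0 [87,176,196])) (.leaf (.up 4 2106 [573] 0 [87,94,42,1]))) (.node (.leaf (.up 4 1489 [580] 1163 [88,56,123,34])) (.leaf (.up 3 282 [579] 1163 [90,213])))) (.node (.node (.leaf (.up 4 325 [582] 1163 [87,94,105])) (.leaf (.up 4 2564 [591] 274 [88,55,123,142])))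 (.node (.leaf (.up 5 1311 [579] 1163 [88,93,123,193])) (.leaf (.up 6 3759 [883] 1649 [88,230]))))) (.node (.node (.node (.leaf (.up 5 281 [581] 0 [93,44,5])) (.leaf (.up 5 418 [573] 0 [88,55,89,247]))) (.node (.leaf (.up 5 1569 [883] 1649 [88,94,104,209])) (.leaf (.up 4 3265 [573] 0 [88,94,140,246])))) (.node (.node (.leaf (.up 3 3012 [581] 0 [110,42,132])) (.leaf (.up 4 1474 [581] 0 [57,55,42,98]))) (.leaf (.up 4 746 [883] 1649 [56,91,114]))))) (.node (.node (.node (.node (.leaf (.up 5 2281 [578] 0 [88,110,116,61])) (.leaf (.up 4 2861 [580] 1163 [87,94,90,147]))) (.node (.leaf (.up 5 443 [591] 274 [110,44,29])) (.leaf (.up 4 3580 [580] 1163 [88,55,176,200])))) (.node (.node (.leaf (.up 4 1407 [573] 0 [110,123,189])) (.leaf (.up 4 3582 [580] 1163 [140,127]))) (.leaf (.up 5 1652 [573] 0 [88,56,44,137])))) (.node (.node (.node (.leaf (.up 5 2652 [883] 1649 [88,93,155,238])) (.leaf (.up 4 3589 [579] 1163 [57,55,44,33]))) (.node (.leaf (.up 4 1215 [883] 1649 [55,42,206]))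 (.leaf (.up 4 2708 [578] 0 [88,94,43,150])))) (.node (.node (.leaf (.up 4 1619 [579] 1163 [87,56,123,102])) (.leaf (.up 4 2065 [580] 1163 [57,110,89,211]))) (.leaf (.up 5 2671 [581] 0 [87,56,116,126]))))))) (.node (.node (.node (.node (.node (.node (.leaf (.up 4 1565 [581] 0 [88,56,91,35])) (.leaf (.up 5 2923 [591] 274 [57,116,59]))) (.node (.leaf (.up 2 322 [580] 1163 [87,56,42,159])) (.leaf (.up 5 372 [579] 1163 [90,100])))) (.node (.node (.leaf (.up 5 2026 [579] 1163 [88,94,42,105])) (.leaf (.up 4 1536 [883] 1649 [57,56,155,35]))) (.node (.leaf (.up 3 1280 [883] 1649 [87,43,10])) (.leaf (.up 5 130 [591] 274 [87,94,176,218]))))) (.node (.node (.node (.leaf (.up 4 1353 [591] 274 [88,93,103,72])) (.leaf (.up 5 3203 [581] 0 [91,184]))) (.node (.leaf (.up 4 2510 [579] 1163 [87,110,44,97])) (.leaf (.up 4 1843 [578] 0 [88,93,44,239])))) (.node (.node (.leaf (.up 6 693 [591] 274 [87,72])) (.leaf (.up 4 1619 [578] 0 [57,93,42,204]))) (.leaf (.up 3 1816 [579] 1163 [87,94,123,143])))))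 (.node (.node (.node (.node (.leaf (.up 5 3596 [883] 1649 [87,178])) (.leaf (.up 4 658 [580] 1163 [55,42,167]))) (.node (.leaf (.up 5 3024 [580] 1163 [87,55,123,75])) (.leaf (.up 4 695 [581] 0 [57,55,61])))) (.node (.node (.leaf (.up 5 2540 [582] 1163 [88,56,123,221])) (.leaf (.up 3 282 [573] 0 [94,44,154]))) (.node (.leaf (.up 4 513 [573] 0 [143])) (.leaf (.up 5 3474 [581] 0 [87,55,176,205]))))) (.node (.node (.node (.leaf (.up 4 1486 [581] 0 [57,140,245])) (.leaf (.up 3 1354 [582] 1163 [57,93,42,202]))) (.node (.leaf (.up 5 3154 [580] 1163 [110,155,105])) (.leaf (.up 4 1331 [582] 1163 [57,55,123,151])))) (.node (.node (.leaf (.up 5 1969 [883] 1649 [57,55,91,193])) (.leaf (.up 6 2882 [883] 1649 [55,91,97]))) (.leaf (.up 4 2728 [581] 0 [88,94,89,175])))))) (.node (.node (.node (.node (.node (.leaf (.up 5 3779 [582] 1163 [57,89,234])) (.leaf (.up 4 2930 [573] 0 [57,55,123,156]))) (.node (.leaf (.up 5 58 [573] 0 [88,110,123,92])) (.leaf (.up 3 3496 [581] 0 [88,94,91,127]))))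 (.node (.node (.leaf (.up 3 2892 [581] 0 [87,55,176,71])) (.leaf (.up 4 3498 [578] 0 [88,89,23]))) (.node (.leaf (.up 2 2617 [883] 1649 [87,56,89,172])) (.leaf (.up 5 3334 [591] 274 [55,103,46]))))) (.node (.node (.node (.leaf (.up 2 884 [578] 0 [57,94,91,228])) (.leaf (.up 4 2564 [573] 0 [88,44,197]))) (.node (.leaf (.up 4 3434 [578] 0 [87,110,123,145])) (.leaf (.up 5 1369 [581] 0 [56,116,131])))) (.node (.node (.leaf (.up 4 2637 [579] 1163 [94,104,244])) (.leaf (.up 4 492 [581] 0 [110,89,71]))) (.leaf (.up 5 147 [579] 1163 [44,230]))))) (.node (.node (.node (.node (.leaf (.up 4 1925 [580] 1163 [88,44,247])) (.leaf (.up 2 1655 [582] 1163 [88,55,140,143]))) (.node (.leaf (.up 4 1753 [573] 0 [87,42,143])) (.leaf (.up 5 769 [578] 0 [57,93,103,169])))) (.node (.node (.leaf (.up 3 3095 [883] 1649 [87,110,103,27])) (.leaf (.up 4 537 [581] 0 [88,56,89,202]))) (.leaf (.up 4 389 [573] 0 [55,140,247])))) (.node (.node (.node (.leaf (.up 3 12 [582] 1163 [87,44,184])) (.leaf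 (.up 1 3 [580] 1163 [87,56,103,174]))) (.node (.leaf (.up 4 1281 [578] 0 [88,55,104,13])) (.leaf (.up 2 2813 [573] 0 [94,90,219])))) (.node (.node (.leaf (.up 4 1345 [581] 0 [88,93,176,117])) (.leaf (.up 4 724 [581] 0 [57,93,123,197]))) (.leaf (.up 4 389 [883] 1649 [56,176,130])))))))

noncomputable def trio4_1101 : Tr TStep := .node trio4_11010 trio4_11011

noncomputable def trio4_110 : Tr TStep := .node trio4_1100 trio4_1101

noncomputable def trio4_11100 : Tr TStep :=
  .node (.node (.node (.node (.node (.node (.node (.leaf (.up 4 1595 [582] 1163 [57,94,42,230])) (.leaf (.up 3 2856 [581] 0 [88,93,155,97]))) (.node (.leaf (.up 5 3442 [883] 1649 [57,94,104,198])) (.leaf (.up 4 2662 [591] 274 [56,155,214])))) (.node (.node (.leaf (.up 4 2416 [573] 0 [94,123,115])) (.leaf (.up 3 1640 [591] 274 [57,55,42,142]))) (.node (.leaf (.up 5 1821 [581] 0 [57,110,89,182])) (.leaf (.up 5 1337 [581] 0 [57,93,104,10]))))) (.node (.node (.node (.leaf (.up 4 1021 [581] 0 [88,110,155,164]))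 (.leaf (.up 6 207 [582] 1163 [94,103,72]))) (.node (.leaf (.up 4 2159 [573] 0 [88,89,239])) (.leaf (.up 4 204 [579] 1163 [88,103,200])))) (.node (.node (.leaf (.up 2 2617 [579] 1163 [87,94,89,200])) (.leaf (.up 4 2538 [579] 1163 [90,122]))) (.leaf (.up 4 2467 [573] 0 [57,56,103,142]))))) (.node (.node (.node (.node (.leaf (.up 4 1805 [580] 1163 [88,104,138])) (.leaf (.up 4 2433 [883] 1649 [88,55,116,97]))) (.node (.leaf (.up 5 2334 [573] 0 [88,42,115])) (.leaf (.up 6 2616 [883] 1649 [88,93,176,169])))) (.node (.node (.leaf (.up 5 2334 [580] 1163 [57,110,90,237])) (.leaf (.up 4 2668 [591] 274 [87,94,42,212]))) (.node (.leaf (.up 5 1444 [883] 1649 [87,110,155,95])) (.leaf (.up 6 1278 [883] 1649 [55,42,114]))))) (.node (.node (.node (.leaf (.up 4 1197 [580] 1163 [88,93,44,157])) (.leaf (.up 5 3596 [582] 1163 [87,104,187]))) (.node (.leaf (.up 5 1621 [883] 1649 [88,93,44,25])) (.leaf (.up 4 137 [579] 1163 [93,116,214])))) (.node (.node (.leaf (.up 5 3596 [591] 274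 [57,93,91,139])) (.leaf (.up 4 3581 [578] 0 [88,55,89,99]))) (.leaf (.up 4 1021 [579] 1163 [42,178])))))) (.node (.node (.node (.node (.node (.leaf (.up 2 1108 [578] 0 [94,176,199])) (.leaf (.up 4 2708 [883] 1649 [57,116,108]))) (.node (.leaf (.up 4 1764 [883] 1649 [55,104,196])) (.leaf (.up 6 1601 [580] 1163 [87,110,123,193])))) (.node (.node (.leaf (.up 4 506 [582] 1163 [88,155,163])) (.leaf (.up 4 1022 [580] 1163 [93,90,130]))) (.node (.leaf (.up 3 3152 [582] 1163 [57,56,90,95])) (.leaf (.up 4 2814 [573] 0 [56,116,221]))))) (.node (.node (.node (.leaf (.up 5 1590 [579] 1163 [88,110,89,76])) (.leaf (.up 5 2020 [591] 274 [110,90,190]))) (.node (.leaf (.up 4 3671 [883] 1649 [57,93,155,231])) (.leaf (.up 5 667 [578] 0 [88,110,103,183])))) (.node (.node (.leaf (.up 5 2494 [579] 1163 [87,93,44,233])) (.leaf (.up 4 1048 [883] 1649 [57,110,116,240]))) (.leaf (.up 3 2909 [582] 1163 [88,56,123,34]))))) (.node (.node (.node (.node (.leaf (.up 4 2128 [581] 0 [87,110,91,192]))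 (.leaf (.up 6 2579 [883] 1649 [87,93,44,204]))) (.node (.leaf (.up 3 701 [578] 0 [57,110,44,33])) (.leaf (.up 5 2045 [591] 274 [87,55,90,7])))) (.node (.node (.leaf (.up 4 276 [581] 0 [57,94,103,190])) (.leaf (.up 4 1639 [581] 0 [57,110,116,144]))) (.node (.leaf (.up 4 2864 [580] 1163 [88,103,178])) (.leaf (.up 4 1003 [581] 0 [44,11]))))) (.node (.node (.node (.leaf (.up 5 99 [581] 0 [88,55,140,168])) (.leaf (.up 5 1889 [591] 274 [94,44,204]))) (.node (.leaf (.up 4 901 [582] 1163 [116,102])) (.leaf (.up 4 2510 [883] 1649 [57,44,7])))) (.node (.node (.leaf (.up 4 1231 [883] 1649 [87,56,89,7])) (.leaf (.up 4 1810 [580] 1163 [88,55,43,237]))) (.leaf (.up 3 2591 [883] 1649 [57,55,42,171]))))))) (.node (.node (.node (.node (.node (.node (.leaf (.up 4 1113 [573] 0 [93,123,61])) (.leaf (.up 3 2270 [883] 1649 [57,93,43,122]))) (.node (.leaf (.up 6 2040 [579] 1163 [87,55,165])) (.leaf (.up 4 2149 [582] 1163 [91,172])))) (.node (.node (.leaf (.up 4 3431 [582] 1163 [87,110,140,11]))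 (.leaf (.up 5 98 [883] 1649 [55,44,223]))) (.node (.leaf (.up 4 1049 [582] 1163 [88,110,91,120])) (.leaf (.up 4 944 [582] 1163 [57,94,42,74]))))) (.node (.node (.node (.leaf (.up 5 369 [582] 1163 [91,29])) (.leaf (.up 5 3204 [582] 1163 [87,56,91,210]))) (.node (.leaf (.up 4 2298 [591] 274 [88,93,140,20])) (.leaf (.up 4 3457 [883] 1649 [87,93,104,229])))) (.node (.node (.leaf (.up 1 14 [883] 1649 [55,104,107])) (.leaf (.up 5 1444 [582] 1163 [87,93,89,97]))) (.leaf (.up 3 358 [591] 274 [88,93,140,60]))))) (.node (.node (.node (.node (.leaf (.up 2 20 [579] 1163 [57,56,43,158])) (.leaf (.up 3 1618 [573] 0 [110,123,228]))) (.node (.leaf (.up 4 137 [578] 0 [94,90,215])) (.leaf (.up 3 2969 [573] 0 [57,56,176,22])))) (.node (.node (.leaf (.up 4 3597 [573] 0 [110,191])) (.leaf (.up 5 3411 [573] 0 [57,42,99]))) (.node (.leaf (.up 5 1115 [581] 0 [57,55,89,180])) (.leaf (.up 4 2814 [591] 274 [57,110,91,74]))))) (.node (.node (.node (.leaf (.up 5 3077 [582] 1163 [57,110,43,131]))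 (.leaf (.up 5 2822 [582] 1163 [87,110,176,137]))) (.node (.leaf (.up 2 3586 [582] 1163 [57,93,43,92])) (.leaf (.up 4 646 [591] 274 [88,90,216])))) (.node (.node (.leaf (.up 4 3485 [582] 1163 [93,43,143])) (.leaf (.up 5 3084 [883] 1649 [57,94,104,149]))) (.leaf (.up 4 1522 [883] 1649 [87,55,42,165])))))) (.node (.node (.node (.node (.node (.leaf (.up 4 248 [573] 0 [57,123,148])) (.leaf (.up 5 1163 [578] 0 [57,55,91,152]))) (.node (.leaf (.up 4 1190 [883] 1649 [55,104,200])) (.leaf (.up 3 3766 [573] 0 [87,110,42,96])))) (.node (.node (.leaf (.up 5 281 [573] 0 [93,104,237])) (.leaf (.up 4 3457 [580] 1163 [56,230]))) (.node (.leaf (.up 3 2596 [579] 1163 [87,93,43,122])) (.leaf (.up 6 657 [883] 1649 [94,155,25]))))) (.node (.node (.node (.leaf (.up 4 3289 [591] 274 [110,90,139])) (.leaf (.up 4 422 [883] 1649 [93,104,69]))) (.node (.leaf (.up 4 1087 [581] 0 [93,103,135])) (.leaf (.up 3 136 [579] 1163 [110,43,29])))) (.node (.node (.leaf (.up 3 2496 [883] 1649 [57,56,176,129]))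 (.leaf (.up 4 706 [580] 1163 [57,55,89,218]))) (.leaf (.up 3 2892 [883] 1649 [44,3]))))) (.node (.node (.node (.node (.leaf (.up 5 3460 [581] 0 [87,123,151])) (.leaf (.up 4 334 [883] 1649 [87,56,44,240]))) (.node (.leaf (.up 4 2055 [591] 274 [88,110,155,35])) (.leaf (.up 4 562 [582] 1163 [87,56,140,157])))) (.node (.node (.leaf (.up 4 1360 [573] 0 [88,93,155,229])) (.leaf (.up 3 1953 [591] 274 [87,94,103,184]))) (.leaf (.up 3 3331 [591] 274 [57,56,90,148])))) (.node (.node (.node (.leaf (.up 6 1430 [883] 1649 [87,56,89,30])) (.leaf (.up 4 751 [883] 1649 [88,93,89,13]))) (.node (.leaf (.up 5 1700 [581] 0 [116,141])) (.leaf (.up 4 1906 [591] 274 [87,93,44,16])))) (.node (.node (.leaf (.up 4 2665 [582] 1163 [87,56,91,186])) (.leaf (.up 4 1810 [579] 1163 [57,93,103,75]))) (.leaf (.up 3 2761 [582] 1163 [87,104,159])))))))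

noncomputable def trio4_11101 : Tr TStep :=
  .node (.node (.node (.node (.node (.node (.node (.leaf (.up 3 2789 [573] 0 [90,215])) (.leaf (.up 3 2591 [579] 1163 [88,56,176,186]))) (.node (.leaf (.up 4 682 [573] 0 [87,56,42,248])) (.leaf (.up 2 1045 [581] 0 [110,174])))) (.node (.node (.leaf (.up 4 3055 [582] 1163 [88,110,176,4])) (.leaf (.up 4 1632 [578] 0 [42,159]))) (.node (.leaf (.up 3 373 [581] 0 [88,94,76])) (.leaf (.up 5 83 [591] 274 [57,55,91,98]))))) (.node (.node (.node (.leaf (.up 2 1045 [580] 1163 [87,94,104,114])) (.leaf (.up 5 2875 [582] 1163 [88,110,42,97]))) (.node (.leaf (.up 5 2245 [883] 1649 [55,176,97])) (.leaf (.up 4 288 [578] 0 [87,94,42,167])))) (.node (.node (.leaf (.up 4 2754 [582] 1163 [88,110,91,195])) (.leaf (.up 4 1639 [573] 0 [57,110,44,179]))) (.leaf (.up 5 2757 [591] 274 [57,110,176,61]))))) (.node (.node (.node (.node (.leaf (.up 2 20 [883] 1649 [55,103,212])) (.leaf (.up 4 2149 [591] 274 [94,203]))) (.node (.leaf (.up 4 3431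 [573] 0 [88,55,44,178])) (.leaf (.up 4 2164 [582] 1163 [88,93,42,237])))) (.node (.node (.leaf (.up 5 2526 [581] 0 [57,93,91,132])) (.leaf (.up 5 2953 [579] 1163 [88,55,90,105]))) (.node (.leaf (.up 5 2887 [578] 0 [87,89,242])) (.leaf (.up 4 3120 [582] 1163 [88,110,123,165]))))) (.node (.node (.node (.leaf (.up 4 2431 [579] 1163 [57,55,103,2])) (.leaf (.up 5 2938 [578] 0 [88,94,103,46]))) (.node (.leaf (.up 4 2807 [580] 1163 [87,110,91,101])) (.leaf (.up 4 1490 [883] 1649 [57,56,89,217])))) (.node (.node (.leaf (.up 5 3679 [580] 1163 [93,44,165])) (.leaf (.up 5 1646 [582] 1163 [57,103,118]))) (.leaf (.up 4 334 [580] 1163 [87,110,104,208])))))) (.node (.node (.node (.node (.node (.leaf (.up 4 2614 [591] 274 [57,94,103,169])) (.leaf (.up 4 1991 [582] 1163 [57,55,44,169]))) (.node (.leaf (.up 5 98 [582] 1163 [57,43,242])) (.leaf (.up 4 2668 [883] 1649 [57,91,0])))) (.node (.node (.leaf (.up 5 2321 [883] 1649 [88,94,176,2])) (.leaf (.up 4 2175 [883] 1649 [87,94,44,233])))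 (.node (.leaf (.up 6 2472 [883] 1649 [56,155,158])) (.leaf (.up 3 1399 [582] 1163 [87,110,89,195]))))) (.node (.node (.node (.leaf (.up 5 3660 [582] 1163 [88,94,91,146])) (.leaf (.up 5 830 [581] 0 [87,90,8]))) (.node (.leaf (.up 5 614 [883] 1649 [87,93,103,92])) (.leaf (.up 5 511 [573] 0 [57,56,43,247])))) (.node (.node (.leaf (.up 4 1736 [581] 0 [87,104,3])) (.leaf (.up 2 2555 [580] 1163 [88,55,149]))) (.leaf (.up 4 450 [883] 1649 [56,155,160]))))) (.node (.node (.node (.node (.leaf (.up 4 3224 [579] 1163 [57,55,42,61])) (.leaf (.up 4 2071 [581] 0 [110,42,10]))) (.node (.leaf (.up 4 270 [580] 1163 [87,43,20])) (.leaf (.up 4 104 [883] 1649 [93,90,195])))) (.node (.node (.leaf (.up 5 3094 [582] 1163 [57,55,176,127])) (.leaf (.up 4 1619 [581] 0 [57,91,95]))) (.leaf (.up 5 628 [591] 274 [55,103,158])))) (.node (.node (.node (.leaf (.up 5 1574 [591] 274 [57,56,116,216])) (.leaf (.up 4 2364 [883] 1649 [42,33]))) (.node (.leaf (.up 4 340 [582] 1163 [94,140,233])) (.leaf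 (.up 3 1013 [591] 274 [57,55,103,152])))) (.node (.node (.leaf (.up 4 3446 [578] 0 [87,93,123,245])) (.leaf (.up 4 3785 [573] 0 [87,110,91,198]))) (.leaf (.up 3 2961 [883] 1649 [88,55,43,151]))))))) (.node (.node (.node (.node (.node (.node (.leaf (.up 4 3332 [580] 1163 [110,61])) (.leaf (.up 4 45 [581] 0 [93,116,223]))) (.node (.leaf (.up 4 3518 [578] 0 [110,176,223])) (.leaf (.up 5 2638 [579] 1163 [57,56,102])))) (.node (.node (.leaf (.up 5 2893 [883] 1649 [87,140,243])) (.leaf (.up 4 706 [578] 0 [57,55,91,197]))) (.node (.leaf (.up 5 2073 [573] 0 [94,155,244])) (.leaf (.up 4 1075 [579] 1163 [88,110,179]))))) (.node (.node (.node (.leaf (.up 3 3274 [582] 1163 [93,116,72])) (.leaf (.up 4 642 [578] 0 [56,176,25]))) (.node (.leaf (.up 3 2674 [578] 0 [87,91,165])) (.leaf (.up 4 3025 [573] 0 [57,93,246])))) (.node (.node (.leaf (.up 5 3529 [581] 0 [88,110,91,229])) (.leaf (.up 4 878 [591] 274 [88,55,103,232]))) (.leaf (.up 4 1957 [582] 1163 [93,155,215]))))) (.node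 (.node (.node (.node (.leaf (.up 4 2309 [579] 1163 [87,94,43,100])) (.leaf (.up 4 3494 [591] 274 [103,36]))) (.node (.leaf (.up 4 1437 [580] 1163 [87,94,224])) (.leaf (.up 4 1353 [579] 1163 [88,93,89,160])))) (.node (.node (.leaf (.up 3 3564 [579] 1163 [88,56,43,179])) (.leaf (.up 4 1872 [591] 274 [93,176,3]))) (.node (.leaf (.up 5 772 [883] 1649 [88,155,121])) (.leaf (.up 5 1272 [580] 1163 [88,93,91,119]))))) (.node (.node (.node (.leaf (.up 5 3100 [578] 0 [88,93,103,125])) (.leaf (.up 4 1486 [578] 0 [88,55,89,225]))) (.node (.leaf (.up 5 472 [581] 0 [87,94,104,95])) (.leaf (.up 4 1684 [883] 1649 [87,93,116,184])))) (.node (.node (.leaf (.up 5 1391 [580] 1163 [57,2])) (.leaf (.up 3 1322 [573] 0 [57,56,176,169]))) (.leaf (.up 5 1880 [580] 1163 [88,93,103,142])))))) (.node (.node (.node (.node (.node (.leaf (.up 4 1524 [579] 1163 [88,93,103,20])) (.leaf (.up 4 507 [579] 1163 [57,110,103,59]))) (.node (.leaf (.up 5 1012 [578] 0 [57,94,103,133])) (.leaf (.up 4 75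 [582] 1163 [88,55,43,242])))) (.node (.node (.leaf (.up 5 3202 [579] 1163 [87,110,140,3])) (.leaf (.up 4 3608 [573] 0 [88,55,43,244]))) (.node (.leaf (.up 1 1 [573] 0 [89,60])) (.leaf (.up 4 1520 [883] 1649 [57,56,44,163]))))) (.node (.node (.node (.leaf (.up 4 980 [573] 0 [56,140,18])) (.leaf (.up 3 1786 [579] 1163 [57,55,156]))) (.node (.leaf (.up 2 92 [579] 1163 [88,56,176,18])) (.leaf (.up 5 286 [582] 1163 [87,56,123,8])))) (.node (.node (.leaf (.up 4 2530 [579] 1163 [88,55,103,243])) (.leaf (.up 3 1399 [580] 1163 [57,94,91,215]))) (.leaf (.up 3 2353 [578] 0 [87,110,90,46]))))) (.node (.node (.node (.node (.leaf (.up 5 2722 [581] 0 [57,155,113])) (.leaf (.up 4 1277 [573] 0 [93,89,170]))) (.node (.leaf (.up 5 2383 [591] 274 [87,94,89,46])) (.leaf (.up 4 1564 [582] 1163 [55,90,137])))) (.node (.node (.leaf (.up 4 1866 [591] 274 [110,42,61])) (.leaf (.up 3 1924 [578] 0 [55,90,152]))) (.leaf (.up 3 1502 [578] 0 [87,104,61])))) (.node (.node (.node (.leaf (.up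 3 2469 [579] 1163 [57,93,43,108])) (.leaf (.up 5 975 [573] 0 [87,94,42,187]))) (.node (.leaf (.up 3 354 [883] 1649 [55,42,147])) (.leaf (.up 2 1655 [578] 0 [88,55,42,75])))) (.node (.node (.leaf (.up 3 56 [883] 1649 [42,158])) (.leaf (.up 5 1523 [883] 1649 [57,55,103,135]))) (.leaf (.up 4 3233 [580] 1163 [87,94,104,131])))))))

noncomputable def trio4_1110 : Tr TStep := .node trio4_11100 trio4_11101

noncomputable def trio4_11110 : Tr TStep :=
  .node (.node (.node (.node (.node (.node (.node (.leaf (.up 2 2617 [581] 0 [87,140,34])) (.leaf (.up 3 1322 [579] 1163 [57,94,123,222]))) (.node (.leaf (.up 4 2220 [581] 0 [88,56,155,31])) (.leaf (.up 4 380 [579] 1163 [87,55,42,95])))) (.node (.node (.leaf (.up 1 0 [578] 0 [88,221])) (.leaf (.up 4 871 [580] 1163 [110,176,122]))) (.node (.leaf (.up 5 2877 [581] 0 [87,110,90,241])) (.leaf (.up 4 1696 [582] 1163 [116,209]))))) (.node (.node (.node (.leaf (.up 4 3025 [581] 0 [57,155,33])) (.leaf (.up 4 2490 [580] 1163 [57,56,169])))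 (.node (.leaf (.up 4 1169 [580] 1163 [57,123,174])) (.leaf (.up 4 2115 [591] 274 [87,56,123,10])))) (.node (.node (.leaf (.up 2 1645 [578] 0 [94,44,132])) (.leaf (.up 3 358 [580] 1163 [57,110,91,158]))) (.leaf (.up 4 1323 [582] 1163 [57,42,114]))))) (.node (.node (.node (.node (.leaf (.up 5 772 [581] 0 [57,140,13])) (.leaf (.up 4 724 [573] 0 [57,110,103,144]))) (.node (.leaf (.up 5 1672 [573] 0 [57,55,91,61])) (.leaf (.up 2 1655 [581] 0 [88,55,91,177])))) (.node (.node (.leaf (.up 4 1958 [573] 0 [87,55,90,222])) (.leaf (.up 5 1272 [883] 1649 [88,94,90,138]))) (.node (.leaf (.up 5 1210 [579] 1163 [87,56,44,219])) (.leaf (.up 4 1522 [578] 0 [94,155,96]))))) (.node (.node (.node (.leaf (.up 2 1108 [582] 1163 [87,94,91,153])) (.leaf (.up 4 68 [591] 274 [87,94,116,178]))) (.node (.leaf (.up 4 3438 [578] 0 [88,94,140,191])) (.leaf (.up 5 2045 [573] 0 [57,55,90,69])))) (.node (.node (.leaf (.up 6 3254 [883] 1649 [57,55,103,36])) (.leaf (.up 4 175 [578] 0 [87,94,116,154])))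 (.leaf (.up 4 664 [591] 274 [55,140,6])))))) (.node (.node (.node (.node (.node (.leaf (.up 4 871 [578] 0 [87,55,43,31])) (.leaf (.up 5 718 [883] 1649 [88,110,44,167]))) (.node (.leaf (.up 3 3750 [578] 0 [94,176,229])) (.leaf (.up 5 2611 [883] 1649 [57,94,140,186])))) (.node (.node (.leaf (.up 4 89 [883] 1649 [87,93,42,239])) (.leaf (.up 4 3352 [579] 1163 [88,94,176,207]))) (.node (.leaf (.up 5 3117 [578] 0 [87,55,42,132])) (.leaf (.up 4 2215 [883] 1649 [88,110,91,5]))))) (.node (.node (.node (.leaf (.up 3 3750 [883] 1649 [88,94,91,178])) (.leaf (.up 4 3446 [579] 1163 [87,55,176,156]))) (.node (.leaf (.up 4 441 [578] 0 [88,55,44,30])) (.leaf (.up 4 1595 [581] 0 [88,110,90,46])))) (.node (.node (.leaf (.up 4 2220 [579] 1163 [110,44,25])) (.leaf (.up 4 1015 [883] 1649 [55,104,158]))) (.leaf (.up 4 1524 [883] 1649 [88,55,103,164]))))) (.node (.node (.node (.node (.leaf (.up 5 3117 [581] 0 [93,104,10])) (.leaf (.up 5 2795 [582] 1163 [55,43,119]))) (.node (.leaf (.up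 3 1634 [580] 1163 [57,110,176,143])) (.leaf (.up 6 1981 [591] 274 [88,110,176,98])))) (.node (.node (.leaf (.up 5 2393 [573] 0 [57,93,123,127])) (.leaf (.up 3 1634 [578] 0 [87,55,43,225]))) (.node (.leaf (.up 5 1770 [883] 1649 [57,110,90,73])) (.leaf (.up 6 1585 [883] 1649 [87,56,42,166]))))) (.node (.node (.node (.leaf (.up 5 3140 [581] 0 [110,116,187])) (.leaf (.up 5 2688 [883] 1649 [87,93,103,92]))) (.node (.leaf (.up 5 1187 [883] 1649 [87,55,101])) (.leaf (.up 4 3414 [579] 1163 [88,93,42,25])))) (.node (.node (.leaf (.up 4 65 [581] 0 [88,56,140,202])) (.leaf (.up 4 3253 [581] 0 [57,43,102]))) (.leaf (.up 4 3238 [573] 0 [88,94,44,106]))))))) (.node (.node (.node (.node (.node (.node (.leaf (.up 5 1890 [581] 0 [57,110,176,189])) (.leaf (.up 5 578 [883] 1649 [93,91,36]))) (.node (.leaf (.up 3 2268 [581] 0 [87,110,176,153])) (.leaf (.up 4 1049 [573] 0 [88,55,44,154])))) (.node (.node (.leaf (.up 3 677 [581] 0 [57,55,43,128])) (.leaf (.up 5 3424 [573] 0 [93,44,159])))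 (.node (.leaf (.up 4 1905 [883] 1649 [57,93,123,92])) (.leaf (.up 4 3650 [580] 1163 [55,43,121]))))) (.node (.node (.node (.leaf (.up 4 1171 [573] 0 [88,93,123,167])) (.leaf (.up 4 2588 [883] 1649 [57,56,155,201]))) (.node (.leaf (.up 4 1212 [573] 0 [87,56,155,113])) (.leaf (.up 5 651 [883] 1649 [87,155,73])))) (.node (.node (.leaf (.up 4 75 [573] 0 [56,155,203])) (.leaf (.up 4 2065 [591] 274 [57,110,116,4]))) (.leaf (.up 5 2369 [591] 274 [55,89,10]))))) (.node (.node (.node (.node (.leaf (.up 3 3579 [578] 0 [87,56,144])) (.leaf (.up 6 2964 [883] 1649 [57,56,105]))) (.node (.leaf (.up 4 3389 [591] 274 [56,91,203])) (.leaf (.up 6 426 [883] 1649 [87,155,247])))) (.node (.node (.leaf (.up 5 3168 [883] 1649 [56,155,8])) (.leaf (.up 5 2543 [578] 0 [57,110,42,230]))) (.node (.leaf (.up 5 1499 [883] 1649 [57,155,247])) (.leaf (.up 5 518 [581] 0 [88,55,43,149]))))) (.node (.node (.node (.leaf (.up 6 1186 [883] 1649 [88,94,140,112])) (.leaf (.up 4 1486 [582] 1163 [87,55,123,223])))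 (.node (.leaf (.up 4 348 [579] 1163 [87,55,104,141])) (.leaf (.up 4 2681 [883] 1649 [88,123,22])))) (.node (.node (.leaf (.up 5 1180 [883] 1649 [55,89,222])) (.leaf (.up 4 3560 [578] 0 [88,55,90,235]))) (.leaf (.up 4 3401 [579] 1163 [87,55,89,144])))))) (.node (.node (.node (.node (.node (.leaf (.up 5 2948 [883] 1649 [87,56,90,95])) (.leaf (.up 3 3215 [883] 1649 [94,91,172]))) (.node (.leaf (.up 4 857 [883] 1649 [57,55,44,74])) (.leaf (.up 4 2692 [581] 0 [57,93,42,76])))) (.node (.node (.leaf (.up 4 3461 [579] 1163 [87,110,44,69])) (.leaf (.up 4 3756 [582] 1163 [57,155,12]))) (.node (.leaf (.up 4 244 [883] 1649 [88,56,44,225])) (.leaf (.up 4 1145 [883] 1649 [57,94,90,75]))))) (.node (.node (.node (.leaf (.up 4 2298 [581] 0 [87,42,170])) (.leaf (.up 5 1365 [579] 1163 [87,93,43,160]))) (.node (.leaf (.up 4 2248 [573] 0 [57,55,89,60])) (.leaf (.up 4 342 [581] 0 [87,55,43,169])))) (.node (.node (.leaf (.up 5 3013 [573] 0 [57,94,155,169])) (.leaf (.up 5 2259 [591]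 274 [93,116,4]))) (.leaf (.up 6 1324 [573] 0 [57,93,103,145]))))) (.node (.node (.node (.node (.leaf (.up 4 3253 [580] 1163 [94,140,20])) (.leaf (.up 5 680 [579] 1163 [88,56,43,148]))) (.node (.leaf (.up 5 3664 [578] 0 [57,91,150])) (.leaf (.up 5 3203 [573] 0 [87,55,104,113])))) (.node (.node (.leaf (.up 3 3112 [591] 274 [57,56,123,216])) (.leaf (.up 3 2819 [883] 1649 [87,56,116,168]))) (.leaf (.up 5 3571 [883] 1649 [55,90,73])))) (.node (.node (.node (.leaf (.up 4 1474 [591] 274 [116,99])) (.leaf (.up 4 906 [581] 0 [94,246]))) (.node (.leaf (.up 4 1528 [883] 1649 [57,94,116,18])) (.leaf (.up 4 1810 [578] 0 [57,44,204])))) (.node (.node (.leaf (.up 5 597 [580] 1163 [56,43,95])) (.leaf (.up 3 2969 [579] 1163 [93,103,229]))) (.leaf (.up 4 3461 [573] 0 [87,110,91,207])))))))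

noncomputable def trio4_11111 : Tr TStep :=
  .node (.node (.node (.node (.node (.node (.node (.leaf (.up 4 1388 [591] 274 [140,60])) (.leaf (.up 4 3665 [883] 1649 [87,56,140,29]))) (.node (.leaf (.up 4 686 [578] 0 [57,94,90,237])) (.leaf (.up 4 2831 [580] 1163 [87,56,43,3])))) (.node (.node (.leaf (.up 4 1716 [883] 1649 [57,93,104,180])) (.leaf (.up 2 801 [578] 0 [94,43,11]))) (.node (.leaf (.up 3 775 [573] 0 [88,94,116,37])) (.leaf (.up 4 966 [582] 1163 [93,44,122]))))) (.node (.node (.node (.leaf (.up 4 2486 [579] 1163 [87,55,140,22])) (.leaf (.up 5 2684 [591] 274 [55,42,117]))) (.node (.leaf (.up 4 3758 [591] 274 [88,55,104,65])) (.leaf (.up 4 2987 [582] 1163 [87,55,103,11])))) (.node (.node (.leaf (.up 4 1673 [581] 0 [94,176,119])) (.leaf (.up 4 3075 [578] 0 [87,56,140,212]))) (.leaf (.up 4 1279 [573] 0 [87,90,36]))))) (.node (.node (.node (.node (.leaf (.up 4 1781 [883] 1649 [87,94,89,21])) (.leaf (.up 4 1353 [582] 1163 [176,65]))) (.node (.leaf (.up 5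 1258 [573] 0 [57,55,155,106])) (.leaf (.up 4 492 [591] 274 [88,94,42,1])))) (.node (.node (.leaf (.up 4 3543 [582] 1163 [88,56,155,145])) (.leaf (.up 6 1325 [883] 1649 [88,91,208]))) (.node (.leaf (.up 4 3295 [883] 1649 [57,94,42,7])) (.leaf (.up 5 1608 [579] 1163 [57,94,103,8]))))) (.node (.node (.node (.leaf (.up 4 2728 [573] 0 [88,110,90,7])) (.leaf (.up 5 2943 [580] 1163 [88,93,103,12]))) (.node (.leaf (.up 4 1851 [573] 0 [87,56,42,170])) (.leaf (.up 4 2215 [580] 1163 [87,93,44,73])))) (.node (.node (.leaf (.up 3 2278 [573] 0 [87,110,90,115])) (.leaf (.up 3 3019 [581] 0 [57,56,89,219]))) (.leaf (.up 2 884 [582] 1163 [57,56,116,106])))))) (.node (.node (.node (.node (.node (.leaf (.up 3 3357 [883] 1649 [87,140,69])) (.leaf (.up 4 2642 [591] 274 [88,116,107]))) (.node (.leaf (.up 4 2215 [591] 274 [88,56,103,180])) (.leaf (.up 4 3461 [578] 0 [57,56,116,4])))) (.node (.node (.leaf (.up 6 143 [883] 1649 [87,123,105])) (.leaf (.up 3 373 [582] 1163 [87,110,90,146])))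 (.node (.leaf (.up 4 2864 [581] 0 [87,55,43,126])) (.leaf (.up 4 2754 [591] 274 [56,116,69]))))) (.node (.node (.node (.leaf (.up 6 951 [582] 1163 [56,103,195])) (.leaf (.up 4 831 [579] 1163 [87,55,155,183]))) (.node (.leaf (.up 4 1345 [883] 1649 [88,155,203])) (.leaf (.up 5 1272 [578] 0 [94,43,161])))) (.node (.node (.leaf (.up 5 2918 [579] 1163 [110,155,13])) (.leaf (.up 4 1872 [579] 1163 [93,176,170]))) (.leaf (.up 4 3500 [582] 1163 [57,10]))))) (.node (.node (.node (.node (.leaf (.up 3 2909 [581] 0 [88,93,44,75])) (.leaf (.up 3 12 [581] 0 [57,55,176,192]))) (.node (.leaf (.up 4 2843 [579] 1163 [88,56,90,126])) (.leaf (.up 3 388 [580] 1163 [110,91,196])))) (.node (.node (.leaf (.up 4 276 [582] 1163 [93,140,122])) (.leaf (.up 4 2886 [580] 1163 [87,55,42,74]))) (.leaf (.up 4 300 [573] 0 [57,30])))) (.node (.node (.node (.leaf (.up 4 3582 [579] 1163 [87,155,224])) (.leaf (.up 3 2270 [573] 0 [93,90,6]))) (.node (.leaf (.up 5 1444 [580] 1163 [87,55,44,125])) (.leaf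 (.up 4 441 [579] 1163 [88,116,7])))) (.node (.node (.leaf (.up 3 1951 [582] 1163 [87,55,104,166])) (.leaf (.up 4 691 [883] 1649 [87,56,43,203]))) (.leaf (.up 4 1518 [573] 0 [87,94,43,120]))))))) (.node (.node (.node (.node (.node (.node (.leaf (.up 5 49 [591] 274 [88,94,42,214])) (.leaf (.up 6 255 [883] 1649 [57,55,89,143]))) (.node (.leaf (.up 3 1452 [883] 1649 [87,56,89,184])) (.leaf (.up 4 1248 [883] 1649 [88,94,104,71])))) (.node (.node (.leaf (.up 4 344 [579] 1163 [57,94,90,243])) (.leaf (.up 4 2814 [580] 1163 [87,110,42,172]))) (.node (.leaf (.up 4 1489 [582] 1163 [55,140,131])) (.leaf (.up 4 927 [578] 0 [55,42,130]))))) (.node (.node (.node (.leaf (.up 5 1170 [573] 0 [87,94,90,153])) (.leaf (.up 5 3691 [883] 1649 [93,176,172]))) (.node (.leaf (.up 4 1293 [883] 1649 [88,110,103,69])) (.leaf (.up 4 3446 [883] 1649 [88,56,90,243])))) (.node (.node (.leaf (.up 3 1924 [579] 1163 [88,93,103,23])) (.leaf (.up 3 3693 [582] 1163 [88,110,123,97]))) (.leaf (.up 4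 1260 [883] 1649 [87,155,178]))))) (.node (.node (.node (.node (.leaf (.up 4 1009 [579] 1163 [91,65])) (.leaf (.up 4 3605 [581] 0 [57,110,90,100]))) (.node (.leaf (.up 3 1618 [581] 0 [55,104,209])) (.leaf (.up 4 3608 [591] 274 [110,44,109])))) (.node (.node (.leaf (.up 6 2574 [883] 1649 [87,94,103,156])) (.leaf (.up 4 2433 [591] 274 [110,90,172]))) (.node (.leaf (.up 5 597 [591] 274 [88,90,211])) (.leaf (.up 4 2104 [883] 1649 [93,43,154]))))) (.node (.node (.node (.leaf (.up 5 3696 [581] 0 [87,56,155,240])) (.leaf (.up 4 831 [580] 1163 [87,55,42,97]))) (.node (.leaf (.up 6 2060 [883] 1649 [186])) (.leaf (.up 2 3788 [578] 0 [87,55,116,21])))) (.node (.node (.leaf (.up 5 649 [582] 1163 [55,44,209])) (.leaf (.up 5 1652 [578] 0 [43,108]))) (.leaf (.up 4 2935 [883] 1649 [57,110,91,229])))))) (.node (.node (.node (.node (.node (.leaf (.up 5 98 [578] 0 [88,93,155,207])) (.leaf (.up 3 2353 [591] 274 [87,56,90,11]))) (.node (.leaf (.up 3 3750 [582] 1163 [56,116,210]))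 (.leaf (.up 4 695 [580] 1163 [88,155,1])))) (.node (.node (.leaf (.up 4 1171 [579] 1163 [87,55,43,210])) (.leaf (.up 4 1331 [580] 1163 [88,104,150]))) (.node (.leaf (.up 5 2757 [582] 1163 [225])) (.leaf (.up 3 1013 [582] 1163 [88,55,176,220]))))) (.node (.node (.node (.leaf (.up 4 1040 [582] 1163 [57,110,116,75])) (.leaf (.up 3 1447 [582] 1163 [57,55,104,22]))) (.node (.leaf (.up 3 373 [578] 0 [57,94,176,20])) (.leaf (.up 4 2156 [578] 0 [88,93,155,95])))) (.node (.node (.leaf (.up 3 2198 [573] 0 [88,155,210])) (.leaf (.up 4 334 [573] 0 [88,155,10]))) (.leaf (.up 5 652 [883] 1649 [55,42,4]))))) (.node (.node (.node (.node (.leaf (.up 5 576 [581] 0 [88,55,43,227])) (.leaf (.up 5 3135 [581] 0 [88,94,116,162]))) (.node (.leaf (.up 3 358 [581] 0 [87,93,89,148])) (.leaf (.up 4 2637 [578] 0 [88,116,170])))) (.node (.node (.leaf (.up 4 450 [581] 0 [93,103,181])) (.leaf (.up 4 3401 [582] 1163 [88,56,90,219]))) (.leaf (.up 4 1489 [883] 1649 [87,110,104,95])))) (.node (.node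 (.node (.leaf (.up 4 643 [580] 1163 [57,55,89,246])) (.leaf (.up 2 1922 [582] 1163 [88,94,155,216]))) (.node (.leaf (.up 3 1482 [591] 274 [110,90,130])) (.leaf (.up 4 3662 [581] 0 [88,93,155,207])))) (.node (.node (.leaf (.up 4 1151 [573] 0 [88,56,140,241])) (.leaf (.up 4 2507 [883] 1649 [87,56,42,174]))) (.leaf (.up 4 1321 [591] 274 [87,56,123,125])))))))

noncomputable def trio4_1111 : Tr TStep := .node trio4_11110 trio4_11111

noncomputable def trio4_111 : Tr TStep := .node trio4_1110 trio4_1111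

noncomputable def trio4_11 : Tr TStep := .node trio4_110 trio4_111

noncomputable def trio4_1 : Tr TStep := .node trio4_10 trio4_11

noncomputable def trio4_ : Tr TStep := .node trio4_0 trio4_1

noncomputable def vt4_0_0000 : Tr VStep :=
  .node (.node (.node (.node (.node (.node (.node (.leaf (.root 572)) (.leaf (.up 5 802 4))) (.node (.leaf (.up 5 837 3)) (.leaf (.up 5 811 1)))) (.node (.node (.leaf (.up 5 769 5)) (.leaf (.up 5 474 2))) (.node (.leaf (.up 3 1244 3)) (.leaf (.up 4 472 2))))) (.node (.node (.node (.leaf (.up 5 168 3)) (.leaf (.up 2 584 4))) (.node (.leaf (.up 4 1974 2)) (.leaf (.up 3 934 5)))) (.node (.node (.leaf (.up 5 1841 3)) (.leaf (.up 4 1646 2))) (.node (.leaf (.up 4 1509 4)) (.leaf (.up 3 1479 3)))))) (.node (.node (.node (.node (.leaf (.up 4 847 1)) (.leaf (.up 2 584 5))) (.node (.leaf (.up 5 1140 0)) (.leaf (.up 5 372 0)))) (.node (.node (.leaf (.up 4 591 1)) (.leaf (.up 3 1275 1))) (.node (.leaf (.up 4 2000 1)) (.leaf (.up 4 160 5)))))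 (.node (.node (.node (.leaf (.up 6 1973 2)) (.leaf (.up 4 1135 2))) (.node (.leaf (.up 6 124 5)) (.leaf (.up 5 1133 2)))) (.node (.node (.leaf (.up 5 44 0)) (.leaf (.up 5 507 1))) (.node (.leaf (.up 5 751 5)) (.leaf (.up 4 1992 5))))))) (.node (.node (.node (.node (.node (.leaf (.up 6 384 1)) (.leaf (.up 5 2010 2))) (.node (.leaf (.up 3 1246 5)) (.leaf (.up 4 87 4)))) (.node (.node (.leaf (.up 4 1590 5)) (.leaf (.up 5 83 4))) (.node (.leaf (.up 5 1311 1)) (.leaf (.up 5 583 0))))) (.node (.node (.node (.leaf (.up 3 799 0)) (.leaf (.up 4 1770 5))) (.node (.leaf (.up 4 950 2)) (.leaf (.up 5 1823 0)))) (.node (.node (.leaf (.up 3 1833 3)) (.leaf (.up 4 1145 5))) (.node (.leaf (.up 2 1337 3)) (.leaf (.up 5 1707 1)))))) (.node (.node (.node (.node (.leaf (.up 4 1966 0)) (.leaf (.up 5 82 4))) (.node (.leaf (.up 4 118 4)) (.leaf (.up 5 1796 5)))) (.node (.node (.leaf (.up 5 368 3)) (.leaf (.up 5 1516 5))) (.node (.leaf (.up 3 1539 2)) (.leaf (.up 5 228 1))))) (.node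 (.node (.node (.leaf (.up 5 1010 0)) (.leaf (.up 5 23 5))) (.node (.leaf (.up 4 592 1)) (.leaf (.up 6 108 5)))) (.node (.node (.leaf (.up 5 758 0)) (.leaf (.up 6 644 5))) (.node (.leaf (.up 4 2008 5)) (.leaf (.up 5 316 4)))))))) (.node (.node (.node (.node (.node (.node (.leaf (.up 5 1498 3)) (.leaf (.up 5 1707 4))) (.node (.leaf (.up 5 1994 3)) (.leaf (.up 5 1836 3)))) (.node (.node (.leaf (.up 5 1695 2)) (.leaf (.up 4 768 5))) (.node (.leaf (.up 5 262 4)) (.leaf (.up 5 181 3))))) (.node (.node (.node (.leaf (.up 3 905 1)) (.leaf (.up 3 1479 0))) (.node (.leaf (.up 5 935 5)) (.leaf (.up 2 162 1)))) (.node (.node (.leaf (.up 5 958 3)) (.leaf (.up 2 1085 1))) (.node (.leaf (.up 5 308 5)) (.leaf (.up 2 755 2)))))) (.node (.node (.node (.node (.leaf (.up 5 1674 4)) (.leaf (.up 3 291 4))) (.node (.leaf (.up 3 562 5)) (.leaf (.up 2 1773 1)))) (.node (.node (.leaf (.up 5 1222 1)) (.leaf (.up 5 1706 4))) (.node (.leaf (.up 5 345 1)) (.leaf (.up 4 295 4))))) (.node (.node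 (.node (.leaf (.up 5 1313 5)) (.leaf (.up 5 240 2))) (.node (.leaf (.up 5 403 3)) (.leaf (.up 5 1066 0)))) (.node (.node (.leaf (.up 6 1050 3)) (.leaf (.up 5 1984 4))) (.node (.leaf (.up 6 1546 3)) (.leaf (.up 3 750 5))))))) (.node (.node (.node (.node (.node (.leaf (.up 5 1601 0)) (.leaf (.up 4 445 1))) (.node (.leaf (.up 4 157 2)) (.leaf (.up 5 1502 4)))) (.node (.node (.leaf (.up 5 603 3)) (.leaf (.up 5 189 1))) (.node (.leaf (.up 5 669 2)) (.leaf (.up 5 1314 1))))) (.node (.node (.node (.leaf (.up 4 1835 2)) (.leaf (.up 5 972 5))) (.node (.leaf (.up 3 1833 2)) (.leaf (.up 4 1267 2)))) (.node (.node (.leaf (.up 3 934 3)) (.leaf (.up 5 351 5))) (.node (.leaf (.up 4 537 0)) (.leaf (.up 5 1779 2)))))) (.node (.node (.node (.node (.leaf (.up 4 614 3)) (.leaf (.up 4 940 0))) (.node (.leaf (.up 4 1797 5)) (.leaf (.up 4 144 3)))) (.node (.node (.leaf (.up 4 1517 5)) (.leaf (.up 5 1010 1))) (.node (.leaf (.up 4 630 4)) (.leaf (.up 5 1645 1))))) (.node (.node (.node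 (.leaf (.up 4 22 5)) (.leaf (.up 6 1201 4))) (.node (.leaf (.up 5 1832 2)) (.leaf (.up 6 1266 2)))) (.node (.node (.leaf (.up 5 1169 4)) (.leaf (.up 6 1780 0))) (.node (.leaf (.up 5 766 5)) (.leaf (.up 5 2009 5))))))))

noncomputable def vt4_0_0001 : Tr VStep :=
  .node (.node (.node (.node (.node (.node (.node (.leaf (.up 4 1349 3)) (.leaf (.up 6 978 2))) (.node (.leaf (.up 3 10 2)) (.leaf (.up 5 233 5)))) (.node (.node (.leaf (.up 4 520 2)) (.leaf (.up 5 513 5))) (.node (.leaf (.up 5 522 2)) (.leaf (.up 5 634 5))))) (.node (.node (.node (.leaf (.up 4 1025 1)) (.leaf (.up 6 2042 5))) (.node (.leaf (.up 3 461 0)) (.leaf (.up 4 698 4)))) (.node (.node (.leaf (.up 3 78 5)) (.leaf (.up 6 967 3))) (.node (.leaf (.up 4 201 0)) (.leaf (.up 5 471 3)))))) (.node (.node (.node (.node (.leaf (.up 1 9 2)) (.leaf (.up 4 981 4))) (.node (.leaf (.up 1 11 2)) (.leaf (.up 3 357 1)))) (.node (.node (.leaf (.up 3 1400 0)) (.leaf (.up 5 1276 5))) (.node (.leaf (.up 3 1896 3)) (.leaf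 (.up 3 101 1))))) (.node (.node (.node (.leaf (.up 6 1056 5)) (.leaf (.up 4 1127 2))) (.node (.leaf (.up 4 721 1)) (.leaf (.up 5 380 5)))) (.node (.node (.leaf (.up 5 1469 2)) (.leaf (.up 3 1123 3))) (.node (.leaf (.up 4 1471 2)) (.leaf (.up 3 1381 1))))))) (.node (.node (.node (.node (.node (.leaf (.up 6 130 5)) (.leaf (.up 5 843 0))) (.node (.leaf (.up 6 1869 3)) (.leaf (.up 4 2000 2)))) (.node (.node (.leaf (.up 5 133 4)) (.leaf (.up 4 591 0))) (.node (.leaf (.up 5 618 5)) (.leaf (.up 4 847 0))))) (.node (.node (.node (.leaf (.up 4 2026 5)) (.leaf (.up 4 102 2))) (.node (.leaf (.up 5 1937 5)) (.leaf (.up 4 1602 4)))) (.node (.node (.leaf (.up 4 1153 1)) (.leaf (.up 4 614 2))) (.node (.leaf (.up 5 286 1)) (.leaf (.up 4 37 5)))))) (.node (.node (.node (.node (.leaf (.up 5 132 4)) (.leaf (.up 3 934 0))) (.node (.leaf (.up 5 1617 1)) (.leaf (.up 3 229 1)))) (.node (.node (.leaf (.up 5 1805 4)) (.leaf (.up 4 1414 3))) (.node (.leaf (.up 4 1873 1)) (.leaf (.up 2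 485 1))))) (.node (.node (.node (.leaf (.up 3 762 0)) (.leaf (.up 5 1072 5))) (.node (.leaf (.up 6 1018 0)) (.leaf (.up 3 101 2)))) (.node (.node (.leaf (.up 4 1022 0)) (.leaf (.up 5 462 4))) (.node (.leaf (.up 3 1677 3)) (.leaf (.up 4 1752 5)))))))) (.node (.node (.node (.node (.node (.node (.leaf (.up 5 1175 2)) (.leaf (.up 5 316 1))) (.node (.leaf (.up 4 232 5)) (.leaf (.up 5 403 0)))) (.node (.node (.leaf (.up 5 1175 0)) (.leaf (.up 5 1831 5))) (.node (.leaf (.up 5 1431 0)) (.leaf (.up 6 1884 5))))) (.node (.node (.node (.leaf (.up 4 648 1)) (.leaf (.up 5 190 4))) (.node (.leaf (.up 4 1920 5)) (.leaf (.up 4 419 1)))) (.node (.node (.leaf (.up 3 291 2)) (.leaf (.up 4 1864 3))) (.node (.leaf (.up 4 1299 5)) (.leaf (.up 6 163 1)))))) (.node (.node (.node (.node (.leaf (.up 4 1646 3)) (.leaf (.up 5 1628 4))) (.node (.leaf (.up 4 344 1)) (.leaf (.up 6 818 5)))) (.node (.node (.leaf (.up 3 503 3)) (.leaf (.up 5 474 5))) (.node (.leaf (.up 4 1402 0)) (.leaf (.up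 5 769 3))))) (.node (.node (.node (.leaf (.up 5 262 5)) (.leaf (.up 5 1846 4))) (.node (.leaf (.up 5 34 0)) (.leaf (.up 3 1381 3)))) (.node (.node (.leaf (.up 3 10 3)) (.leaf (.up 5 1714 5))) (.node (.leaf (.up 5 288 2)) (.leaf (.up 3 762 2))))))) (.node (.node (.node (.node (.node (.leaf (.up 6 1444 5)) (.leaf (.up 5 308 3))) (.node (.leaf (.up 5 1503 5)) (.leaf (.up 4 1315 1)))) (.node (.node (.leaf (.up 6 663 2)) (.leaf (.up 5 1709 3))) (.node (.leaf (.up 6 663 1)) (.leaf (.up 5 1059 1))))) (.node (.node (.node (.leaf (.up 5 716 5)) (.leaf (.up 4 201 3))) (.node (.leaf (.up 6 1687 1)) (.leaf (.up 3 971 4)))) (.node (.node (.leaf (.up 4 1315 2)) (.leaf (.up 3 1400 5))) (.node (.leaf (.up 5 1003 4)) (.leaf (.up 3 291 1)))))) (.node (.node (.node (.node (.leaf (.up 4 1956 0)) (.leaf (.up 3 1680 3))) (.node (.leaf (.up 5 802 5)) (.leaf (.up 3 1152 3)))) (.node (.node (.leaf (.up 5 1095 1)) (.leaf (.up 2 755 1))) (.node (.leaf (.up 4 472 1)) (.leaf (.up 3 1900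 1))))) (.node (.node (.node (.leaf (.up 4 1016 0)) (.leaf (.up 5 1779 1))) (.node (.leaf (.up 6 1496 1)) (.leaf (.up 5 1405 3)))) (.node (.node (.leaf (.up 5 1314 2)) (.leaf (.up 5 2044 0))) (.node (.leaf (.up 3 1123 4)) (.leaf (.up 4 1022 5))))))))

noncomputable def vt4_0_000 : Tr VStep := .node vt4_0_0000 vt4_0_0001

noncomputable def vt4_0_0010 : Tr VStep :=
  .node (.node (.node (.node (.node (.node (.node (.leaf (.up 4 768 4)) (.leaf (.up 4 1974 1))) (.node (.leaf (.up 5 1945 0)) (.leaf (.up 5 425 5)))) (.node (.node (.leaf (.up 4 1752 3)) (.leaf (.up 5 833 5))) (.node (.leaf (.up 5 1224 3)) (.leaf (.up 4 1197 4))))) (.node (.node (.node (.leaf (.up 4 1956 2)) (.leaf (.up 4 694 1))) (.node (.leaf (.up 5 965 0)) (.leaf (.up 3 1833 1)))) (.node (.node (.leaf (.up 5 270 5)) (.leaf (.up 4 586 4))) (.node (.leaf (.up 4 157 1)) (.leaf (.up 3 1479 4)))))) (.node (.node (.node (.node (.leaf (.up 4 520 5)) (.leaf (.up 3 1539 3))) (.node (.leaf (.up 5 1269 3)) (.leaf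 (.up 4 1043 3)))) (.node (.node (.leaf (.up 5 380 3)) (.leaf (.up 5 1468 5))) (.node (.leaf (.up 4 1746 1)) (.leaf (.up 3 1479 5))))) (.node (.node (.node (.leaf (.up 6 1376 5)) (.leaf (.up 5 71 5))) (.node (.leaf (.up 6 808 0)) (.leaf (.up 2 1518 3)))) (.node (.node (.leaf (.up 6 2035 5)) (.leaf (.up 6 1474 4))) (.node (.leaf (.up 6 978 1)) (.leaf (.up 4 591 4))))))) (.node (.node (.node (.node (.node (.leaf (.up 5 2040 4)) (.leaf (.up 4 1590 1))) (.node (.leaf (.up 5 1347 0)) (.leaf (.up 4 1992 2)))) (.node (.node (.leaf (.up 6 1552 2)) (.leaf (.up 4 2008 4))) (.node (.leaf (.up 5 2044 4)) (.leaf (.up 4 1480 2))))) (.node (.node (.node (.leaf (.up 4 1682 4)) (.leaf (.up 5 822 1))) (.node (.leaf (.up 3 934 2)) (.leaf (.up 5 1718 4)))) (.node (.node (.leaf (.up 3 283 0)) (.leaf (.up 5 1714 4))) (.node (.leaf (.up 3 422 2)) (.leaf (.up 3 357 5)))))) (.node (.node (.node (.node (.leaf (.up 4 1855 5)) (.leaf (.up 5 536 5))) (.node (.leaf (.up 4 1043 2)) (.leaf (.up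 5 611 5)))) (.node (.node (.leaf (.up 3 1452 5)) (.leaf (.up 4 1145 1))) (.node (.leaf (.up 4 1495 5)) (.leaf (.up 5 240 5))))) (.node (.node (.node (.leaf (.up 4 933 2)) (.leaf (.up 6 1392 5))) (.node (.leaf (.up 5 935 2)) (.leaf (.up 5 318 4)))) (.node (.node (.leaf (.up 4 1683 4)) (.leaf (.up 5 639 2))) (.node (.leaf (.up 5 246 0)) (.leaf (.up 6 637 2)))))))) (.node (.node (.node (.node (.node (.node (.leaf (.up 5 1931 1)) (.leaf (.up 5 288 4))) (.node (.leaf (.up 5 260 4)) (.leaf (.up 5 1184 1)))) (.node (.node (.leaf (.up 5 1679 2)) (.leaf (.up 4 689 3))) (.node (.leaf (.up 3 1677 2)) (.leaf (.up 5 1440 1))))) (.node (.node (.node (.leaf (.up 5 827 2)) (.leaf (.up 4 1087 1))) (.node (.leaf (.up 6 711 0)) (.leaf (.up 4 1733 3)))) (.node (.node (.leaf (.up 3 707 0)) (.leaf (.up 3 271 5))) (.node (.leaf (.up 5 1107 5)) (.leaf (.up 3 739 2)))))) (.node (.node (.node (.node (.leaf (.up 5 618 3)) (.leaf (.up 4 630 0))) (.node (.leaf (.up 5 1654 0)) (.leaf (.up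 4 293 4)))) (.node (.node (.leaf (.up 5 1469 5)) (.leaf (.up 5 880 1))) (.node (.leaf (.up 5 261 4)) (.leaf (.up 3 1366 2))))) (.node (.node (.node (.leaf (.up 6 70 5)) (.leaf (.up 6 1904 1))) (.node (.leaf (.up 6 61 5)) (.leaf (.up 5 751 1)))) (.node (.node (.leaf (.up 5 314 2)) (.leaf (.up 5 1648 1))) (.node (.leaf (.up 6 111 4)) (.leaf (.up 5 1582 0))))))) (.node (.node (.node (.node (.node (.leaf (.up 5 1345 0)) (.leaf (.up 5 65 0))) (.node (.leaf (.up 5 1183 5)) (.leaf (.up 5 321 0)))) (.node (.node (.leaf (.up 4 591 3)) (.leaf (.up 5 593 4))) (.node (.leaf (.up 4 1349 0)) (.leaf (.up 4 69 0))))) (.node (.node (.node (.leaf (.up 2 1067 3)) (.leaf (.up 4 1471 1))) (.node (.leaf (.up 3 1849 2)) (.leaf (.up 5 1251 2)))) (.node (.node (.leaf (.up 4 523 1)) (.leaf (.up 5 1305 0))) (.node (.leaf (.up 2 1337 2)) (.leaf (.up 5 288 1)))))) (.node (.node (.node (.node (.leaf (.up 3 1452 0)) (.leaf (.up 4 592 4))) (.node (.leaf (.up 4 98 3)) (.leaf (.up 5 132 3))))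 (.node (.node (.leaf (.up 4 1092 1)) (.leaf (.up 5 424 0))) (.node (.leaf (.up 4 652 2)) (.leaf (.up 5 168 0))))) (.node (.node (.node (.leaf (.up 5 1393 5)) (.leaf (.up 5 86 5))) (.node (.leaf (.up 5 240 0)) (.leaf (.up 5 45 5)))) (.node (.node (.leaf (.up 5 1046 3)) (.leaf (.up 6 1203 4))) (.node (.leaf (.up 5 1945 5)) (.leaf (.up 6 702 5))))))))

noncomputable def vt4_0_0011 : Tr VStep :=
  .node (.node (.node (.node (.node (.node (.node (.leaf (.up 5 1937 0)) (.leaf (.up 6 1525 5))) (.node (.leaf (.up 5 1010 4)) (.leaf (.up 4 1422 5)))) (.node (.node (.leaf (.up 5 577 5)) (.leaf (.up 6 1894 5))) (.node (.leaf (.up 6 538 2)) (.leaf (.up 6 978 4))))) (.node (.node (.node (.leaf (.up 5 1964 2)) (.leaf (.up 5 700 4))) (.node (.leaf (.up 3 1985 5)) (.leaf (.up 5 742 5)))) (.node (.node (.leaf (.up 3 1452 2)) (.leaf (.up 5 1654 2))) (.node (.leaf (.up 4 412 1)) (.leaf (.up 5 1832 1)))))) (.node (.node (.node (.node (.leaf (.up 4 757 3)) (.leaf (.up 5 963 2))) (.node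 (.leaf (.up 3 229 3)) (.leaf (.up 5 892 0)))) (.node (.node (.leaf (.up 4 588 1)) (.leaf (.up 5 888 0))) (.node (.leaf (.up 4 1916 3)) (.leaf (.up 5 1114 4))))) (.node (.node (.node (.leaf (.up 5 327 5)) (.leaf (.up 5 1143 2))) (.node (.leaf (.up 4 544 0)) (.leaf (.up 4 510 3)))) (.node (.node (.leaf (.up 5 1169 3)) (.leaf (.up 5 1143 3))) (.node (.leaf (.up 4 943 5)) (.leaf (.up 4 1127 1))))))) (.node (.node (.node (.node (.node (.leaf (.up 4 1509 5)) (.leaf (.up 5 1838 4))) (.node (.leaf (.up 6 1050 2)) (.leaf (.up 5 1984 2)))) (.node (.node (.leaf (.up 6 1560 2)) (.leaf (.up 5 593 5))) (.node (.leaf (.up 5 1805 5)) (.leaf (.up 4 38 3))))) (.node (.node (.node (.leaf (.up 4 940 2)) (.leaf (.up 4 118 2))) (.node (.leaf (.up 5 758 5)) (.leaf (.up 4 2001 5)))) (.node (.node (.leaf (.up 5 813 3)) (.leaf (.up 2 1337 5))) (.node (.leaf (.up 3 101 5)) (.leaf (.up 4 1043 0)))))) (.node (.node (.node (.node (.leaf (.up 5 716 1)) (.leaf (.up 4 166 0))) (.node (.leaf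 (.up 4 1190 0)) (.leaf (.up 3 422 0)))) (.node (.node (.leaf (.up 5 972 1)) (.leaf (.up 3 1426 3))) (.node (.leaf (.up 6 1563 2)) (.leaf (.up 2 162 0))))) (.node (.node (.node (.leaf (.up 4 1637 4)) (.leaf (.up 6 1014 3))) (.node (.leaf (.up 4 943 2)) (.leaf (.up 5 1601 4)))) (.node (.node (.leaf (.up 5 1740 1)) (.leaf (.up 4 1135 3))) (.node (.leaf (.up 3 851 1)) (.leaf (.up 6 1511 1)))))))) (.node (.node (.node (.node (.node (.node (.leaf (.up 4 1683 0)) (.leaf (.up 6 211 5))) (.node (.leaf (.up 6 1659 4)) (.leaf (.up 5 168 5)))) (.node (.node (.leaf (.up 5 1671 2)) (.leaf (.up 5 318 1))) (.node (.leaf (.up 5 1111 3)) (.leaf (.up 6 571 5))))) (.node (.node (.node (.leaf (.up 4 906 1)) (.leaf (.up 5 1342 1))) (.node (.leaf (.up 4 743 5)) (.leaf (.up 5 1984 5)))) (.node (.node (.leaf (.up 3 971 0)) (.leaf (.up 5 1320 5))) (.node (.leaf (.up 4 116 5)) (.leaf (.up 5 1363 5)))))) (.node (.node (.node (.node (.leaf (.up 4 1658 3)) (.leaf (.up 5 1582 5))) (.node (.leaf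 (.up 4 499 4)) (.leaf (.up 4 1774 1)))) (.node (.node (.leaf (.up 3 1670 2)) (.leaf (.up 5 625 1))) (.node (.leaf (.up 3 346 1)) (.leaf (.up 5 1374 2))))) (.node (.node (.node (.leaf (.up 5 1121 5)) (.leaf (.up 2 1649 1))) (.node (.leaf (.up 5 1431 3)) (.leaf (.up 5 1393 3)))) (.node (.node (.leaf (.up 4 806 0)) (.leaf (.up 4 981 5))) (.node (.leaf (.up 5 1114 1)) (.leaf (.up 3 750 1))))))) (.node (.node (.node (.node (.node (.leaf (.up 5 1097 0)) (.leaf (.up 5 288 3))) (.node (.leaf (.up 5 133 2)) (.leaf (.up 5 1322 4)))) (.node (.node (.leaf (.up 4 592 5)) (.leaf (.up 4 1721 3))) (.node (.leaf (.up 6 1103 3)) (.leaf (.up 5 351 2))))) (.node (.node (.node (.leaf (.up 5 522 1)) (.leaf (.up 4 652 5))) (.node (.leaf (.up 4 2000 5)) (.leaf (.up 3 1088 4)))) (.node (.node (.leaf (.up 5 778 1)) (.leaf (.up 4 1092 4))) (.node (.leaf (.up 5 17 0)) (.leaf (.up 4 33 1)))))) (.node (.node (.node (.node (.leaf (.up 5 1093 1)) (.leaf (.up 2 1327 4))) (.node (.leaf (.up 5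 474 1)) (.leaf (.up 4 862 2)))) (.node (.node (.leaf (.up 4 1197 5)) (.leaf (.up 4 1009 1))) (.node (.leaf (.up 4 1238 5)) (.leaf (.up 3 781 3))))) (.node (.node (.node (.leaf (.up 4 1951 3)) (.leaf (.up 4 1913 3))) (.node (.leaf (.up 5 1121 4)) (.leaf (.up 5 968 4)))) (.node (.node (.leaf (.up 4 69 1)) (.leaf (.up 4 1768 2))) (.node (.leaf (.up 4 1000 4)) (.leaf (.up 4 1770 2))))))))

noncomputable def vt4_0_001 : Tr VStep := .node vt4_0_0010 vt4_0_0011

noncomputable def vt4_0_00 : Tr VStep := .node vt4_0_000 vt4_0_001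

noncomputable def vt4_0_0100 : Tr VStep :=
  .node (.node (.node (.node (.node (.node (.node (.leaf (.up 4 69 3)) (.leaf (.up 5 730 2))) (.node (.leaf (.up 5 262 0)) (.leaf (.up 5 822 4)))) (.node (.node (.leaf (.up 4 768 2)) (.leaf (.up 5 1850 3))) (.node (.leaf (.up 5 190 5)) (.leaf (.up 3 1433 5))))) (.node (.node (.node (.leaf (.up 5 1342 5)) (.leaf (.up 3 1390 2))) (.node (.leaf (.up 4 1349 5)) (.leaf (.up 4 1839 1)))) (.node (.node (.leaf (.up 5 1374 0)) (.leaf (.up 4 1735 3))) (.node (.leaf (.up 5 155 1)) (.leaf (.up 3 1900 2)))))) (.node (.node (.node (.node (.leaf (.up 5 587 1)) (.leaf (.up 4 1515 0))) (.node (.leaf (.up 5 791 4)) (.leaf (.up 3 503 5)))) (.node (.node (.leaf (.up 5 769 2)) (.leaf (.up 3 799 5))) (.node (.leaf (.up 5 239 0)) (.leaf (.up 5 96 1))))) (.node (.node (.node (.leaf (.up 5 963 5)) (.leaf (.up 4 439 0))) (.node (.leaf (.up 6 952 5)) (.leaf (.up 5 1695 5)))) (.node (.node (.leaf (.up 6 336 5)) (.leaf (.up 5 1143 5))) (.node (.leaf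 (.up 6 1203 0)) (.leaf (.up 6 883 3))))))) (.node (.node (.node (.node (.node (.leaf (.up 4 2026 4)) (.leaf (.up 4 2012 0))) (.node (.leaf (.up 6 103 4)) (.leaf (.up 4 1752 2)))) (.node (.node (.leaf (.up 5 1792 2)) (.leaf (.up 4 1752 0))) (.node (.leaf (.up 4 1794 2)) (.leaf (.up 4 2008 0))))) (.node (.node (.node (.leaf (.up 1 9 5)) (.leaf (.up 5 366 2))) (.node (.leaf (.up 4 1920 0)) (.leaf (.up 4 1365 5)))) (.node (.node (.leaf (.up 3 180 2)) (.leaf (.up 5 1759 3))) (.node (.leaf (.up 3 283 1)) (.leaf (.up 5 1967 1)))))) (.node (.node (.node (.node (.leaf (.up 3 971 1)) (.leaf (.up 5 1841 0))) (.node (.leaf (.up 5 2031 4)) (.leaf (.up 5 1216 5)))) (.node (.node (.leaf (.up 4 1793 2)) (.leaf (.up 5 1576 5))) (.node (.leaf (.up 4 1876 1)) (.leaf (.up 6 662 3))))) (.node (.node (.node (.leaf (.up 5 1645 0)) (.leaf (.up 5 1697 4))) (.node (.leaf (.up 5 1679 5)) (.leaf (.up 6 1266 3)))) (.node (.node (.leaf (.up 4 1127 5)) (.leaf (.up 5 320 5))) (.node (.leaf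 (.up 6 596 1)) (.leaf (.up 5 1701 4)))))))) (.node (.node (.node (.node (.node (.node (.leaf (.up 4 1226 3)) (.leaf (.up 5 1028 0))) (.node (.leaf (.up 5 1754 3)) (.leaf (.up 4 1190 1)))) (.node (.node (.leaf (.up 1 0 0)) (.leaf (.up 5 1093 2))) (.node (.leaf (.up 5 323 3)) (.leaf (.up 4 310 4))))) (.node (.node (.node (.leaf (.up 6 1368 0)) (.leaf (.up 3 1489 3))) (.node (.leaf (.up 5 1831 3)) (.leaf (.up 3 422 1)))) (.node (.node (.leaf (.up 4 43 2)) (.leaf (.up 2 584 3))) (.node (.leaf (.up 5 190 3)) (.leaf (.up 4 166 1)))))) (.node (.node (.node (.node (.leaf (.up 4 397 5)) (.leaf (.up 4 630 1))) (.node (.leaf (.up 5 502 5)) (.leaf (.up 4 408 3)))) (.node (.node (.leaf (.up 6 1474 1)) (.leaf (.up 4 1517 0))) (.node (.leaf (.up 5 1767 3)) (.leaf (.up 4 1602 5))))) (.node (.node (.node (.leaf (.up 6 1461 0)) (.leaf (.up 4 2000 4))) (.node (.leaf (.up 6 1694 5)) (.leaf (.up 3 101 3)))) (.node (.node (.leaf (.up 6 194 1)) (.leaf (.up 5 1516 3))) (.node (.leaf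 (.up 5 1037 5)) (.leaf (.up 5 1010 2))))))) (.node (.node (.node (.node (.node (.leaf (.up 5 583 5)) (.leaf (.up 5 1482 4))) (.node (.leaf (.up 2 1518 4)) (.leaf (.up 5 1572 3)))) (.node (.node (.leaf (.up 5 1805 1)) (.leaf (.up 4 69 2))) (.node (.leaf (.up 5 175 5)) (.leaf (.up 4 1062 1))))) (.node (.node (.node (.leaf (.up 2 1327 3)) (.leaf (.up 5 1184 4))) (.node (.leaf (.up 4 1682 1)) (.leaf (.up 4 38 1)))) (.node (.node (.leaf (.up 2 1067 2)) (.leaf (.up 4 592 3))) (.node (.leaf (.up 3 781 4)) (.leaf (.up 5 294 1)))))) (.node (.node (.node (.node (.leaf (.up 4 1346 1)) (.leaf (.up 5 413 5))) (.node (.leaf (.up 4 412 2)) (.leaf (.up 5 486 5)))) (.node (.node (.leaf (.up 4 1263 3)) (.leaf (.up 4 1483 4))) (.node (.leaf (.up 5 1519 4)) (.leaf (.up 5 885 5))))) (.node (.node (.node (.leaf (.up 4 1153 4)) (.leaf (.up 5 1781 5))) (.node (.leaf (.up 4 937 5)) (.leaf (.up 6 1678 5)))) (.node (.node (.leaf (.up 5 321 5)) (.leaf (.up 6 1126 5))) (.node (.leaf (.up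 4 1899 0)) (.leaf (.up 6 1053 5))))))))

noncomputable def vt4_0_0101 : Tr VStep :=
  .node (.node (.node (.node (.node (.node (.node (.leaf (.up 2 1649 5)) (.leaf (.up 6 854 5))) (.node (.leaf (.up 4 266 2)) (.leaf (.up 5 1097 4)))) (.node (.node (.leaf (.up 3 10 0)) (.leaf (.up 6 453 5))) (.node (.leaf (.up 4 266 0)) (.leaf (.up 5 314 3))))) (.node (.node (.node (.leaf (.up 4 281 5)) (.leaf (.up 5 82 0))) (.node (.leaf (.up 4 1976 3)) (.leaf (.up 4 1315 4)))) (.node (.node (.leaf (.up 4 1110 0)) (.leaf (.up 4 689 1))) (.node (.leaf (.up 3 1366 0)) (.leaf (.up 5 1838 1)))))) (.node (.node (.node (.node (.leaf (.up 4 1009 3)) (.leaf (.up 5 791 3))) (.node (.leaf (.up 3 1749 1)) (.leaf (.up 4 721 2)))) (.node (.node (.leaf (.up 4 1128 3)) (.leaf (.up 5 965 4))) (.node (.leaf (.up 4 1656 3)) (.leaf (.up 5 1096 4))))) (.node (.node (.node (.leaf (.up 4 1471 0)) (.leaf (.up 3 707 5))) (.node (.leaf (.up 4 1951 5)) (.leaf (.up 3 1381 2)))) (.node (.node (.leaf (.up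 5 1286 4)) (.leaf (.up 4 510 1))) (.node (.leaf (.up 5 651 4)) (.leaf (.up 4 1891 3))))))) (.node (.node (.node (.node (.node (.leaf (.up 6 1288 2)) (.leaf (.up 4 1633 5))) (.node (.leaf (.up 5 829 5)) (.leaf (.up 6 1723 3)))) (.node (.node (.leaf (.up 5 133 1)) (.leaf (.up 4 2000 0))) (.node (.leaf (.up 6 430 5)) (.leaf (.up 6 942 1))))) (.node (.node (.node (.leaf (.up 5 700 2)) (.leaf (.up 3 1366 3))) (.node (.leaf (.up 5 1109 5)) (.leaf (.up 4 1966 1)))) (.node (.node (.leaf (.up 5 1654 4)) (.leaf (.up 5 719 3))) (.node (.leaf (.up 5 507 4)) (.leaf (.up 4 652 0)))))) (.node (.node (.node (.node (.leaf (.up 5 714 1)) (.leaf (.up 3 180 4))) (.node (.leaf (.up 4 144 4)) (.leaf (.up 3 1745 2)))) (.node (.node (.leaf (.up 5 1136 3)) (.leaf (.up 4 527 5))) (.node (.leaf (.up 5 829 0)) (.leaf (.up 3 1670 3))))) (.node (.node (.node (.leaf (.up 5 1994 1)) (.leaf (.up 5 754 3))) (.node (.leaf (.up 4 1637 0)) (.leaf (.up 3 357 2)))) (.node (.node (.leaf (.up 4 1738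 1)) (.leaf (.up 5 1623 4))) (.node (.leaf (.up 5 191 2)) (.leaf (.up 3 609 0)))))))) (.node (.node (.node (.node (.node (.node (.leaf (.up 5 484 4)) (.leaf (.up 5 1648 5))) (.node (.leaf (.up 5 714 3)) (.leaf (.up 5 1547 5)))) (.node (.node (.leaf (.up 5 1645 4)) (.leaf (.up 5 1251 5))) (.node (.leaf (.up 5 1363 3)) (.leaf (.up 6 1288 0))))) (.node (.node (.node (.leaf (.up 4 295 3)) (.leaf (.up 5 1831 4))) (.node (.leaf (.up 4 1092 5)) (.leaf (.up 5 167 1)))) (.node (.node (.leaf (.up 4 652 1)) (.leaf (.up 6 907 5))) (.node (.leaf (.up 4 33 2)) (.leaf (.up 5 1096 3)))))) (.node (.node (.node (.node (.leaf (.up 4 1644 4)) (.leaf (.up 4 887 1))) (.node (.leaf (.up 3 1390 3)) (.leaf (.up 4 1608 4)))) (.node (.node (.leaf (.up 2 485 0)) (.leaf (.up 6 1 3))) (.node (.leaf (.up 3 229 0)) (.leaf (.up 4 1102 2))))) (.node (.node (.node (.leaf (.up 5 1667 3)) (.leaf (.up 4 445 0))) (.node (.leaf (.up 4 544 2)) (.leaf (.up 4 1000 1)))) (.node (.node (.leaf (.up 4 81 5))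 (.leaf (.up 4 1016 2))) (.node (.leaf (.up 4 1794 4)) (.leaf (.up 4 1004 3))))))) (.node (.node (.node (.node (.node (.leaf (.up 6 1632 5)) (.leaf (.up 5 440 1))) (.node (.leaf (.up 6 1563 5)) (.leaf (.up 4 591 2)))) (.node (.node (.leaf (.up 4 1267 5)) (.leaf (.up 4 1746 0))) (.node (.leaf (.up 6 1304 4)) (.leaf (.up 4 431 5))))) (.node (.node (.node (.leaf (.up 5 1674 0)) (.leaf (.up 4 906 0))) (.node (.leaf (.up 3 815 3)) (.leaf (.up 4 295 1)))) (.node (.node (.leaf (.up 5 1059 2)) (.leaf (.up 4 1724 5))) (.node (.leaf (.up 4 1683 1)) (.leaf (.up 4 987 4)))))) (.node (.node (.node (.node (.leaf (.up 4 157 5)) (.leaf (.up 4 588 2))) (.node (.leaf (.up 4 404 2)) (.leaf (.up 3 1424 3)))) (.node (.node (.leaf (.up 5 1347 1)) (.leaf (.up 3 1833 5))) (.node (.leaf (.up 5 751 3)) (.leaf (.up 2 1337 4))))) (.node (.node (.node (.leaf (.up 4 1022 4)) (.leaf (.up 5 1111 4))) (.node (.leaf (.up 2 1163 3)) (.leaf (.up 5 1133 3)))) (.node (.node (.leaf (.up 4 1891 0))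 (.leaf (.up 5 484 3))) (.node (.leaf (.up 5 1500 1)) (.leaf (.up 5 1107 4))))))))

noncomputable def vt4_0_010 : Tr VStep := .node vt4_0_0100 vt4_0_0101

noncomputable def vt4_0_0110 : Tr VStep :=
  .node (.node (.node (.node (.node (.node (.node (.leaf (.up 4 81 3)) (.leaf (.up 5 714 2))) (.node (.leaf (.up 2 274 2)) (.leaf (.up 5 712 2)))) (.node (.node (.leaf (.up 4 1992 3)) (.leaf (.up 4 1794 0))) (.node (.leaf (.up 5 1181 4)) (.leaf (.up 5 1342 3))))) (.node (.node (.node (.leaf (.up 5 1286 1)) (.leaf (.up 4 602 0))) (.node (.leaf (.up 5 1626 0)) (.leaf (.up 2 1581 1)))) (.node (.node (.leaf (.up 5 714 5)) (.leaf (.up 3 1747 3))) (.node (.leaf (.up 4 689 5)) (.leaf (.up 4 1219 3)))))) (.node (.node (.node (.node (.leaf (.up 5 1003 0)) (.leaf (.up 4 1259 5))) (.node (.leaf (.up 4 1509 3)) (.leaf (.up 4 98 1)))) (.node (.node (.leaf (.up 5 751 0)) (.leaf (.up 4 1656 5))) (.node (.leaf (.up 6 2006 1)) (.leaf (.up 3 1539 5))))) (.node (.node (.node (.leaf (.up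 5 1701 2)) (.leaf (.up 4 1774 3))) (.node (.leaf (.up 5 1759 5)) (.leaf (.up 4 1016 5)))) (.node (.node (.leaf (.up 6 1079 5)) (.leaf (.up 5 603 4))) (.node (.leaf (.up 5 639 4)) (.leaf (.up 5 1494 4))))))) (.node (.node (.node (.node (.node (.leaf (.up 3 518 5)) (.leaf (.up 3 1244 0))) (.node (.leaf (.up 5 601 3)) (.leaf (.up 4 69 4)))) (.node (.node (.leaf (.up 4 2000 3)) (.leaf (.up 4 1226 2))) (.node (.leaf (.up 3 101 4)) (.leaf (.up 5 1996 4))))) (.node (.node (.node (.leaf (.up 3 1390 5)) (.leaf (.up 3 562 1))) (.node (.leaf (.up 3 1670 4)) (.leaf (.up 5 380 2)))) (.node (.node (.leaf (.up 2 1581 3)) (.leaf (.up 5 730 5))) (.node (.leaf (.up 2 1085 3)) (.leaf (.up 5 132 0)))))) (.node (.node (.node (.node (.leaf (.up 3 1275 5)) (.leaf (.up 5 476 5))) (.node (.leaf (.up 3 1152 5)) (.leaf (.up 5 482 1)))) (.node (.node (.leaf (.up 4 1640 5)) (.leaf (.up 4 847 5))) (.node (.leaf (.up 5 612 3)) (.leaf (.up 5 68 4))))) (.node (.node (.node (.leaf (.up 5 1667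 4)) (.leaf (.up 6 381 1))) (.node (.leaf (.up 4 1000 5)) (.leaf (.up 6 1743 5)))) (.node (.node (.leaf (.up 4 266 4)) (.leaf (.up 5 361 0))) (.node (.leaf (.up 5 167 2)) (.leaf (.up 6 1506 1)))))))) (.node (.node (.node (.node (.node (.node (.leaf (.up 3 1246 3)) (.leaf (.up 4 1721 4))) (.node (.leaf (.up 4 1742 3)) (.leaf (.up 5 1623 2)))) (.node (.node (.leaf (.up 4 768 0)) (.leaf (.up 5 1109 2))) (.node (.leaf (.up 5 1933 2)) (.leaf (.up 5 1792 0))))) (.node (.node (.node (.leaf (.up 4 1315 3)) (.leaf (.up 4 1477 3))) (.node (.leaf (.up 5 569 2)) (.leaf (.up 5 94 4)))) (.node (.node (.leaf (.up 4 698 3)) (.leaf (.up 4 1083 1))) (.node (.leaf (.up 5 1628 0)) (.leaf (.up 4 995 2)))))) (.node (.node (.node (.node (.leaf (.up 4 1422 2)) (.leaf (.up 3 461 5))) (.node (.leaf (.up 5 1169 5)) (.leaf (.up 4 1724 4)))) (.node (.node (.leaf (.up 5 1216 1)) (.leaf (.up 2 1773 0))) (.node (.leaf (.up 5 351 1)) (.leaf (.up 4 805 5))))) (.node (.node (.node (.leaf (.up 6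 898 5)) (.leaf (.up 3 609 3))) (.node (.leaf (.up 6 1017 5)) (.leaf (.up 5 1758 5)))) (.node (.node (.leaf (.up 6 273 5)) (.leaf (.up 4 689 0))) (.node (.leaf (.up 6 362 5)) (.leaf (.up 5 2024 3))))))) (.node (.node (.node (.node (.node (.leaf (.up 4 222 0)) (.leaf (.up 5 1502 0))) (.node (.leaf (.up 4 397 2)) (.leaf (.up 3 1246 0)))) (.node (.node (.leaf (.up 3 609 4)) (.leaf (.up 4 1480 4))) (.node (.leaf (.up 4 1480 5)) (.leaf (.up 4 87 2))))) (.node (.node (.node (.leaf (.up 2 72 5)) (.leaf (.up 5 811 4))) (.node (.leaf (.up 3 1936 1)) (.leaf (.up 4 1190 4)))) (.node (.node (.leaf (.up 4 1083 2)) (.leaf (.up 5 2044 5))) (.node (.leaf (.up 3 178 3)) (.leaf (.up 3 815 4)))))) (.node (.node (.node (.node (.leaf (.up 3 1088 1)) (.leaf (.up 5 900 3))) (.node (.leaf (.up 3 422 5)) (.leaf (.up 4 1899 1)))) (.node (.node (.leaf (.up 3 1275 3)) (.leaf (.up 6 1053 3))) (.node (.leaf (.up 5 612 4)) (.leaf (.up 5 86 2))))) (.node (.node (.node (.leaf (.up 4 1135 0))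 (.leaf (.up 6 367 0))) (.node (.leaf (.up 4 1742 5)) (.leaf (.up 6 1001 5)))) (.node (.node (.leaf (.up 4 1062 5)) (.leaf (.up 6 257 5))) (.node (.leaf (.up 5 1131 0)) (.leaf (.up 6 1191 4))))))))

noncomputable def vt4_0_0111 : Tr VStep :=
  .node (.node (.node (.node (.node (.node (.node (.leaf (.up 5 263 1)) (.leaf (.up 5 1585 5))) (.node (.leaf (.up 5 1131 4)) (.leaf (.up 5 1610 5)))) (.node (.node (.leaf (.up 4 1135 4)) (.leaf (.up 6 194 2))) (.node (.leaf (.up 4 510 5)) (.leaf (.up 6 812 1))))) (.node (.node (.node (.leaf (.up 4 652 4)) (.leaf (.up 5 1317 4))) (.node (.leaf (.up 4 1710 2)) (.leaf (.up 5 1836 1)))) (.node (.node (.leaf (.up 2 1773 5)) (.leaf (.up 3 707 3))) (.node (.leaf (.up 4 648 4)) (.leaf (.up 5 1313 4)))))) (.node (.node (.node (.node (.leaf (.up 2 584 1)) (.leaf (.up 3 707 2))) (.node (.leaf (.up 3 1424 5)) (.leaf (.up 5 355 1)))) (.node (.node (.leaf (.up 3 1148 3)) (.leaf (.up 4 1102 4))) (.node (.leaf (.up 4 1644 3)) (.leaf (.up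 5 1674 3))))) (.node (.node (.node (.leaf (.up 4 1864 1)) (.leaf (.up 4 1956 5))) (.node (.leaf (.up 5 727 1)) (.leaf (.up 3 1123 1)))) (.node (.node (.leaf (.up 4 1197 2)) (.leaf (.up 5 252 1))) (.node (.leaf (.up 5 1937 3)) (.leaf (.up 5 1911 3))))))) (.node (.node (.node (.node (.node (.leaf (.up 5 1569 5)) (.leaf (.up 6 1492 0))) (.node (.leaf (.up 5 1626 5)) (.leaf (.up 4 940 1)))) (.node (.node (.leaf (.up 6 1202 5)) (.leaf (.up 4 806 3))) (.node (.leaf (.up 6 208 0)) (.leaf (.up 4 494 5))))) (.node (.node (.node (.leaf (.up 5 1415 1)) (.leaf (.up 3 1134 5))) (.node (.leaf (.up 6 306 5)) (.leaf (.up 3 1616 4)))) (.node (.node (.leaf (.up 5 986 5)) (.leaf (.up 5 731 3))) (.node (.leaf (.up 5 1648 4)) (.leaf (.up 3 1670 5)))))) (.node (.node (.node (.node (.leaf (.up 5 150 4)) (.leaf (.up 2 1337 0))) (.node (.leaf (.up 5 167 5)) (.leaf (.up 3 178 4)))) (.node (.node (.leaf (.up 4 591 5)) (.leaf (.up 2 1085 0))) (.node (.leaf (.up 5 1819 2)) (.leaf (.up 4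 1682 3))))) (.node (.node (.node (.leaf (.up 5 508 4)) (.leaf (.up 3 357 0))) (.node (.leaf (.up 2 1649 4)) (.leaf (.up 3 101 0)))) (.node (.node (.leaf (.up 3 1433 3)) (.leaf (.up 1 0 5))) (.node (.leaf (.up 5 175 2)) (.leaf (.up 5 885 2)))))))) (.node (.node (.node (.node (.node (.node (.leaf (.up 5 1415 2)) (.leaf (.up 5 791 5))) (.node (.leaf (.up 5 482 4)) (.leaf (.up 6 1189 1)))) (.node (.node (.leaf (.up 4 520 0)) (.leaf (.up 6 388 5))) (.node (.leaf (.up 6 1240 5)) (.leaf (.up 5 511 5))))) (.node (.node (.node (.leaf (.up 4 344 5)) (.leaf (.up 4 592 0))) (.node (.leaf (.up 3 1616 0)) (.leaf (.up 5 965 3)))) (.node (.node (.leaf (.up 3 971 5)) (.leaf (.up 5 1338 1))) (.node (.leaf (.up 4 1793 4)) (.leaf (.up 5 1003 2)))))) (.node (.node (.node (.node (.leaf (.up 4 1898 3)) (.leaf (.up 5 1628 2))) (.node (.leaf (.up 3 182 5)) (.leaf (.up 4 2026 1)))) (.node (.node (.leaf (.up 4 741 0)) (.leaf (.up 4 1913 5))) (.node (.leaf (.up 3 739 3)) (.leaf (.up 4 1794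 5))))) (.node (.node (.node (.leaf (.up 3 562 2)) (.leaf (.up 2 1649 3))) (.node (.leaf (.up 5 2014 5)) (.leaf (.up 4 957 0)))) (.node (.node (.leaf (.up 4 1721 0)) (.leaf (.up 4 1000 2))) (.node (.leaf (.up 5 137 4)) (.leaf (.up 4 1016 3))))))) (.node (.node (.node (.node (.node (.leaf (.up 6 663 4)) (.leaf (.up 4 1238 0))) (.node (.leaf (.up 5 892 5)) (.leaf (.up 4 544 3)))) (.node (.node (.leaf (.up 4 404 5)) (.leaf (.up 4 1961 3))) (.node (.leaf (.up 6 901 2)) (.leaf (.up 5 1224 5))))) (.node (.node (.node (.leaf (.up 4 1135 5)) (.leaf (.up 3 461 3))) (.node (.leaf (.up 5 1585 2)) (.leaf (.up 4 37 1)))) (.node (.node (.leaf (.up 5 1714 3)) (.leaf (.up 3 398 0))) (.node (.leaf (.up 4 1422 0)) (.leaf (.up 3 928 5)))))) (.node (.node (.node (.node (.leaf (.up 5 1345 1)) (.leaf (.up 4 1940 3))) (.node (.leaf (.up 4 222 1)) (.leaf (.up 4 166 5)))) (.node (.node (.leaf (.up 5 63 0)) (.leaf (.up 4 590 5))) (.node (.leaf (.up 5 478 1)) (.leaf (.up 4 1898 1))))) (.node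 (.node (.node (.leaf (.up 5 1679 3)) (.leaf (.up 5 1781 1))) (.node (.leaf (.up 4 1016 4)) (.leaf (.up 4 1145 3)))) (.node (.node (.leaf (.up 3 1123 0)) (.leaf (.up 5 2024 2))) (.node (.leaf (.up 3 1246 1)) (.leaf (.up 4 2026 2))))))))

noncomputable def vt4_0_011 : Tr VStep := .node vt4_0_0110 vt4_0_0111

noncomputable def vt4_0_01 : Tr VStep := .node vt4_0_010 vt4_0_011

noncomputable def vt4_0_0 : Tr VStep := .node vt4_0_00 vt4_0_01

noncomputable def vt4_0_1000 : Tr VStep :=
  .node (.node (.node (.node (.node (.node (.node (.leaf (.up 5 181 5)) (.leaf (.up 3 1426 5))) (.node (.leaf (.up 4 981 3)) (.leaf (.up 4 1041 1)))) (.node (.node (.leaf (.up 5 1594 1)) (.leaf (.up 4 1793 5))) (.node (.leaf (.up 4 933 1)) (.leaf (.up 3 1914 5))))) (.node (.node (.node (.leaf (.up 5 133 0)) (.leaf (.up 3 762 5))) (.node (.leaf (.up 6 194 4)) (.leaf (.up 4 1899 4)))) (.node (.node (.leaf (.up 5 1358 5)) (.leaf (.up 4 1153 0))) (.node (.leaf (.up 5 1701 1)) (.leaf (.up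 5 1409 0)))))) (.node (.node (.node (.node (.leaf (.up 4 1633 3)) (.leaf (.up 5 566 2))) (.node (.leaf (.up 4 494 2)) (.leaf (.up 4 788 5)))) (.node (.node (.leaf (.up 4 1004 2)) (.leaf (.up 4 397 4))) (.node (.leaf (.up 4 1000 3)) (.leaf (.up 5 782 3))))) (.node (.node (.node (.leaf (.up 5 288 5)) (.leaf (.up 3 1985 1))) (.node (.leaf (.up 5 1626 2)) (.leaf (.up 3 1148 5)))) (.node (.node (.leaf (.up 5 947 5)) (.leaf (.up 4 227 3))) (.node (.leaf (.up 5 1114 2)) (.leaf (.up 2 755 3))))))) (.node (.node (.node (.node (.node (.leaf (.up 3 1539 0)) (.leaf (.up 5 315 3))) (.node (.leaf (.up 4 805 1)) (.leaf (.up 4 222 5)))) (.node (.node (.leaf (.up 5 1604 3)) (.leaf (.up 4 765 4))) (.node (.leaf (.up 4 1898 5)) (.leaf (.up 5 1169 1))))) (.node (.node (.node (.leaf (.up 5 954 1)) (.leaf (.up 6 387 2))) (.node (.leaf (.up 5 603 2)) (.leaf (.up 4 1974 5)))) (.node (.node (.leaf (.up 4 698 1)) (.leaf (.up 5 1374 5))) (.node (.leaf (.up 5 603 0)) (.leaf (.up 5 1317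 5)))))) (.node (.node (.node (.node (.leaf (.up 4 1774 0)) (.leaf (.up 4 1590 2))) (.node (.leaf (.up 2 1518 2)) (.leaf (.up 3 750 0)))) (.node (.node (.leaf (.up 4 2026 0)) (.leaf (.up 5 262 3))) (.node (.leaf (.up 4 1770 0)) (.leaf (.up 5 2014 1))))) (.node (.node (.node (.leaf (.up 4 245 1)) (.leaf (.up 5 1601 1))) (.node (.leaf (.up 4 602 2)) (.leaf (.up 5 1714 0)))) (.node (.node (.leaf (.up 4 1668 5)) (.leaf (.up 5 251 3))) (.node (.leaf (.up 4 525 3)) (.leaf (.up 4 1974 0)))))))) (.node (.node (.node (.node (.node (.node (.leaf (.up 4 940 4)) (.leaf (.up 3 180 5))) (.node (.leaf (.up 5 1882 3)) (.leaf (.up 4 475 0)))) (.node (.node (.leaf (.up 5 1247 0)) (.leaf (.up 5 551 5))) (.node (.leaf (.up 5 1503 0)) (.leaf (.up 4 37 3))))) (.node (.node (.node (.leaf (.up 6 1203 1)) (.leaf (.up 4 2012 5))) (.node (.leaf (.up 5 640 5)) (.leaf (.up 5 1601 3)))) (.node (.node (.leaf (.up 6 1359 4)) (.leaf (.up 5 742 4))) (.node (.leaf (.up 5 318 3)) (.leaf (.up 4 472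 3)))))) (.node (.node (.node (.node (.leaf (.up 3 750 3)) (.leaf (.up 4 520 3))) (.node (.leaf (.up 4 1891 1)) (.leaf (.up 4 310 0)))) (.node (.node (.leaf (.up 5 1020 1)) (.leaf (.up 5 1242 5))) (.node (.leaf (.up 5 1895 3)) (.leaf (.up 3 905 4))))) (.node (.node (.node (.leaf (.up 5 2044 1)) (.leaf (.up 4 1013 3))) (.node (.leaf (.up 3 707 4)) (.leaf (.up 2 485 3)))) (.node (.node (.leaf (.up 5 199 2)) (.leaf (.up 2 72 1))) (.node (.leaf (.up 4 1774 5)) (.leaf (.up 3 739 4))))))) (.node (.node (.node (.node (.node (.leaf (.up 4 1793 0)) (.leaf (.up 5 1671 1))) (.node (.leaf (.up 3 1452 1)) (.leaf (.up 4 1956 3)))) (.node (.node (.leaf (.up 5 307 1)) (.leaf (.up 5 557 3))) (.node (.leaf (.up 4 1797 0)) (.leaf (.up 4 1899 5))))) (.node (.node (.node (.leaf (.up 5 1734 2)) (.leaf (.up 5 1097 3))) (.node (.leaf (.up 3 1732 2)) (.leaf (.up 6 656 5)))) (.node (.node (.leaf (.up 4 439 4)) (.leaf (.up 5 120 5))) (.node (.leaf (.up 5 857 0)) (.leaf (.up 5 403 4))))))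 (.node (.node (.node (.node (.leaf (.up 5 758 3)) (.leaf (.up 4 1480 1))) (.node (.leaf (.up 4 1873 4)) (.leaf (.up 1 0 3)))) (.node (.node (.leaf (.up 4 1768 0)) (.leaf (.up 4 1000 0))) (.node (.leaf (.up 5 2024 0)) (.leaf (.up 5 1945 3))))) (.node (.node (.node (.leaf (.up 4 1735 2)) (.leaf (.up 5 1046 5))) (.node (.leaf (.up 3 283 3)) (.leaf (.up 5 1133 5)))) (.node (.node (.leaf (.up 4 930 5)) (.leaf (.up 5 1140 3))) (.node (.leaf (.up 3 739 1)) (.leaf (.up 5 1790 5))))))))

noncomputable def vt4_0_1001 : Tr VStep :=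
  .node (.node (.node (.node (.node (.node (.node (.leaf (.root 1344)) (.leaf (.up 5 1779 4))) (.node (.leaf (.up 4 932 1)) (.leaf (.up 5 462 5)))) (.node (.node (.leaf (.up 3 1747 4)) (.leaf (.up 4 806 5))) (.node (.leaf (.up 4 1658 5)) (.leaf (.up 5 1783 4))))) (.node (.node (.node (.leaf (.up 4 397 0)) (.leaf (.up 5 1945 4))) (.node (.leaf (.up 5 1592 3)) (.leaf (.up 5 1758 3)))) (.node (.node (.leaf (.up 5 137 0)) (.leaf (.up 4 1102 5))) (.node (.leaf (.up 2 274 5)) (.leaf (.up 5 327 3)))))) (.node (.node (.node (.node (.leaf (.up 4 1746 4)) (.leaf (.up 4 1864 5))) (.node (.leaf (.up 5 351 4)) (.leaf (.up 5 316 0)))) (.node (.node (.leaf (.up 5 252 5)) (.leaf (.up 6 1499 5))) (.node (.leaf (.up 5 2040 3)) (.leaf (.up 5 1440 5))))) (.node (.node (.node (.leaf (.up 3 1616 2)) (.leaf (.up 5 17 4))) (.node (.leaf (.up 4 412 3)) (.leaf (.up 6 1948 4)))) (.node (.node (.leaf (.up 4 1940 5)) (.leaf (.up 4 1267 3))) (.node (.leaf (.up 4 1259 1)) (.leaf (.up 5 712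 5))))))) (.node (.node (.node (.node (.node (.leaf (.up 4 1509 2)) (.leaf (.up 3 271 1))) (.node (.leaf (.up 5 478 5)) (.leaf (.up 4 1168 1)))) (.node (.node (.leaf (.up 5 822 5)) (.leaf (.up 4 1087 2))) (.node (.leaf (.up 5 68 3)) (.leaf (.up 2 1085 2))))) (.node (.node (.node (.leaf (.up 5 593 2)) (.leaf (.up 4 1238 3))) (.node (.leaf (.up 5 1568 3)) (.leaf (.up 5 1734 3)))) (.node (.node (.leaf (.up 4 937 3)) (.leaf (.up 4 847 3))) (.node (.leaf (.up 3 851 0)) (.leaf (.up 3 905 2)))))) (.node (.node (.node (.node (.leaf (.up 6 1880 5)) (.leaf (.up 5 742 0))) (.node (.leaf (.up 6 1827 5)) (.leaf (.up 5 2015 1)))) (.node (.node (.leaf (.up 4 1483 5)) (.leaf (.up 5 832 1))) (.node (.leaf (.up 6 1456 5)) (.leaf (.up 5 1415 4))))) (.node (.node (.node (.leaf (.up 4 592 2)) (.leaf (.up 5 1856 1))) (.node (.leaf (.up 4 698 0)) (.leaf (.up 4 392 2)))) (.node (.node (.leaf (.up 5 1037 3)) (.leaf (.up 4 864 4))) (.node (.leaf (.up 5 82 2)) (.leaf (.up 4 2047 5))))))))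 (.node (.node (.node (.node (.node (.node (.leaf (.up 3 178 1)) (.leaf (.up 6 1171 5))) (.node (.leaf (.up 3 1400 2)) (.leaf (.up 4 940 3)))) (.node (.node (.leaf (.up 3 434 1)) (.leaf (.up 4 1267 4))) (.node (.leaf (.up 3 1069 1)) (.leaf (.up 5 471 0))))) (.node (.node (.node (.leaf (.up 5 167 3)) (.leaf (.up 5 65 3))) (.node (.leaf (.up 5 716 2)) (.leaf (.up 5 593 3)))) (.node (.node (.leaf (.up 5 206 2)) (.leaf (.up 2 1163 0))) (.node (.leaf (.up 5 139 0)) (.leaf (.up 4 1480 3)))))) (.node (.node (.node (.node (.leaf (.up 5 1790 3)) (.leaf (.up 5 318 0))) (.node (.leaf (.up 4 1262 3)) (.leaf (.up 6 533 5)))) (.node (.node (.leaf (.up 4 765 1)) (.leaf (.up 5 1097 1))) (.node (.leaf (.up 4 1913 2)) (.leaf (.up 5 314 0))))) (.node (.node (.node (.leaf (.up 4 33 5)) (.leaf (.up 5 1286 5))) (.node (.leaf (.up 4 1299 3)) (.leaf (.up 5 1405 5)))) (.node (.node (.leaf (.up 4 1464 4)) (.leaf (.up 6 329 1))) (.node (.leaf (.up 4 102 0)) (.leaf (.up 4 1238 1))))))) (.node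 (.node (.node (.node (.node (.leaf (.up 4 43 4)) (.leaf (.up 4 420 3))) (.node (.leaf (.up 4 1197 1)) (.leaf (.up 3 948 3)))) (.node (.node (.leaf (.up 5 1805 0)) (.leaf (.up 1 11 4))) (.node (.leaf (.up 5 888 2)) (.leaf (.up 2 162 2))))) (.node (.node (.node (.leaf (.up 4 1742 2)) (.leaf (.up 4 1768 4))) (.node (.leaf (.up 5 1740 2)) (.leaf (.up 3 357 4)))) (.node (.node (.leaf (.up 5 1230 2)) (.leaf (.up 5 1984 3))) (.node (.leaf (.up 5 593 0)) (.leaf (.up 4 1873 0)))))) (.node (.node (.node (.node (.leaf (.up 5 638 5)) (.leaf (.up 3 10 4))) (.node (.leaf (.up 6 517 5)) (.leaf (.up 5 1826 5)))) (.node (.node (.leaf (.up 6 237 5)) (.leaf (.up 5 1482 5))) (.node (.leaf (.up 5 150 5)) (.leaf (.up 3 905 3))))) (.node (.node (.node (.leaf (.up 5 1819 3)) (.leaf (.up 4 1976 0))) (.node (.leaf (.up 6 324 4)) (.leaf (.up 2 1773 4)))) (.node (.node (.leaf (.up 5 320 4)) (.leaf (.up 4 1724 0))) (.node (.leaf (.up 5 700 0)) (.leaf (.up 3 1366 1))))))))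

noncomputable def vt4_0_100 : Tr VStep := .node vt4_0_1000 vt4_0_1001

noncomputable def vt4_0_1010 : Tr VStep :=
  .node (.node (.node (.node (.node (.node (.node (.leaf (.up 5 1592 1)) (.leaf (.up 4 245 5))) (.node (.leaf (.up 5 935 1)) (.leaf (.up 4 1299 1)))) (.node (.node (.leaf (.up 4 1608 3)) (.leaf (.up 3 398 4))) (.node (.leaf (.up 5 1850 5)) (.leaf (.up 3 1539 4))))) (.node (.node (.node (.leaf (.up 4 698 5)) (.leaf (.up 5 202 3))) (.node (.leaf (.up 6 1865 4)) (.leaf (.up 5 730 3)))) (.node (.node (.leaf (.up 5 1097 2)) (.leaf (.up 5 228 4))) (.node (.leaf (.up 5 82 5)) (.leaf (.up 5 1665 0)))))) (.node (.node (.node (.node (.leaf (.up 3 815 5)) (.leaf (.up 4 1683 3))) (.node (.leaf (.up 4 510 2)) (.leaf (.up 5 1628 1)))) (.node (.node (.leaf (.up 4 431 4)) (.leaf (.up 3 707 1))) (.node (.leaf (.up 4 1022 2)) (.leaf (.up 5 560 0))))) (.node (.node (.node (.leaf (.up 4 1608 2)) (.leaf (.up 3 229 4))) (.node (.leaf (.up 5 1432 3)) (.leaf (.up 3 1424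 2)))) (.node (.node (.leaf (.up 5 1096 2)) (.leaf (.up 3 247 3))) (.node (.leaf (.up 4 1864 4)) (.leaf (.up 3 1936 2))))))) (.node (.node (.node (.node (.node (.leaf (.up 3 229 5)) (.leaf (.up 5 303 3))) (.node (.leaf (.up 5 158 5)) (.leaf (.up 5 1394 4)))) (.node (.node (.leaf (.up 3 1616 3)) (.leaf (.up 4 1873 5))) (.node (.leaf (.up 3 1088 3)) (.leaf (.up 4 1190 3))))) (.node (.node (.node (.leaf (.up 5 351 0)) (.leaf (.up 5 403 2))) (.node (.leaf (.up 5 1831 1)) (.leaf (.up 4 721 5)))) (.node (.node (.leaf (.up 5 1965 3)) (.leaf (.up 5 57 5))) (.node (.leaf (.up 3 1381 5)) (.leaf (.up 6 913 2)))))) (.node (.node (.node (.node (.leaf (.up 2 1518 0)) (.leaf (.up 5 1574 2))) (.node (.leaf (.up 4 1262 0)) (.leaf (.up 3 762 4)))) (.node (.node (.leaf (.up 2 1163 5)) (.leaf (.up 2 274 3))) (.node (.leaf (.up 5 730 4)) (.leaf (.up 5 1060 2))))) (.node (.node (.node (.leaf (.up 2 584 2)) (.leaf (.up 5 1111 5))) (.node (.leaf (.up 3 178 0)) (.leaf (.up 5 1382 3))))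 (.node (.node (.leaf (.up 1 9 3)) (.leaf (.up 3 1732 5))) (.node (.leaf (.up 4 537 3)) (.leaf (.up 5 767 3)))))))) (.node (.node (.node (.node (.node (.node (.leaf (.up 5 1374 3)) (.leaf (.up 4 1720 2))) (.node (.leaf (.up 5 1326 1)) (.leaf (.up 5 922 1)))) (.node (.node (.leaf (.up 5 2015 0)) (.leaf (.up 4 1797 1))) (.node (.leaf (.up 5 1059 4)) (.leaf (.up 4 906 4))))) (.node (.node (.node (.leaf (.up 6 1948 5)) (.leaf (.up 5 699 5))) (.node (.leaf (.up 6 2023 5)) (.leaf (.up 5 1671 0)))) (.node (.node (.leaf (.up 6 1295 5)) (.leaf (.up 5 1667 0))) (.node (.leaf (.up 6 1396 5)) (.leaf (.up 5 782 2)))))) (.node (.node (.node (.node (.leaf (.up 3 762 3)) (.leaf (.up 4 1721 2))) (.node (.leaf (.up 4 1633 1)) (.leaf (.up 5 566 0)))) (.node (.node (.leaf (.up 4 1891 2)) (.leaf (.up 3 562 0))) (.node (.leaf (.up 5 1907 3)) (.leaf (.up 6 1211 2))))) (.node (.node (.node (.leaf (.up 5 618 0)) (.leaf (.up 4 1898 0))) (.node (.leaf (.up 5 865 1)) (.leaf (.up 2 1085 5))))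 (.node (.node (.leaf (.up 5 1010 5)) (.leaf (.up 3 1749 5))) (.node (.leaf (.up 3 905 5)) (.leaf (.up 4 1640 3))))))) (.node (.node (.node (.node (.node (.leaf (.up 4 1025 0)) (.leaf (.up 5 228 5))) (.node (.leaf (.up 4 1464 5)) (.leaf (.up 4 698 2)))) (.node (.node (.leaf (.up 4 735 3)) (.leaf (.up 5 569 3))) (.node (.leaf (.up 4 864 2)) (.leaf (.up 5 261 0))))) (.node (.node (.node (.leaf (.up 4 683 5)) (.leaf (.up 6 1117 3))) (.node (.leaf (.up 5 349 0)) (.leaf (.up 5 2039 5)))) (.node (.node (.leaf (.up 4 1238 2)) (.leaf (.up 5 1311 5))) (.node (.leaf (.up 5 433 4)) (.leaf (.up 5 1380 5)))))) (.node (.node (.node (.node (.leaf (.up 5 355 2)) (.leaf (.up 4 1226 1))) (.node (.leaf (.up 5 1516 0)) (.leaf (.up 5 341 1)))) (.node (.node (.leaf (.up 4 222 4)) (.leaf (.up 4 232 0))) (.node (.leaf (.up 4 1899 3)) (.leaf (.up 4 85 1))))) (.node (.node (.node (.leaf (.up 3 799 3)) (.leaf (.up 4 404 4))) (.node (.leaf (.up 3 1749 2)) (.leaf (.up 4 266 5)))) (.node (.node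 (.leaf (.up 4 1733 5)) (.leaf (.up 5 1805 2))) (.node (.leaf (.up 3 180 0)) (.leaf (.up 4 1365 1))))))))

noncomputable def vt4_0_1011 : Tr VStep :=
  .node (.node (.node (.node (.node (.node (.node (.leaf (.up 3 1745 0)) (.leaf (.up 4 397 1))) (.node (.leaf (.up 3 503 2)) (.leaf (.up 4 721 0)))) (.node (.node (.leaf (.up 4 344 4)) (.leaf (.up 5 1601 5))) (.node (.leaf (.up 2 72 3)) (.leaf (.up 4 981 0))))) (.node (.node (.node (.leaf (.up 5 1601 2)) (.leaf (.up 5 954 5))) (.node (.leaf (.up 5 54 4)) (.leaf (.up 2 274 1)))) (.node (.node (.leaf (.up 3 905 0)) (.leaf (.up 4 835 3))) (.node (.leaf (.up 5 1141 5)) (.leaf (.up 4 22 4)))))) (.node (.node (.node (.node (.leaf (.up 5 345 4)) (.leaf (.up 6 558 2))) (.node (.leaf (.up 5 502 2)) (.leaf (.up 6 596 5)))) (.node (.node (.leaf (.up 5 1532 3)) (.leaf (.up 6 188 5))) (.node (.leaf (.up 5 349 4)) (.leaf (.up 5 199 5))))) (.node (.node (.node (.leaf (.up 4 374 1)) (.leaf (.up 6 1888 0))) (.node (.leaf (.up 4 1602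 2)) (.leaf (.up 5 366 3)))) (.node (.node (.leaf (.up 2 755 5)) (.leaf (.up 6 19 4))) (.node (.leaf (.up 4 648 5)) (.leaf (.up 5 1967 5))))))) (.node (.node (.node (.node (.node (.leaf (.up 4 1721 1)) (.leaf (.up 2 485 5))) (.node (.leaf (.up 4 806 1)) (.leaf (.up 1 11 0)))) (.node (.node (.leaf (.up 5 1977 1)) (.leaf (.up 4 678 3))) (.node (.leaf (.up 4 1039 0)) (.leaf (.up 3 781 5))))) (.node (.node (.node (.leaf (.up 4 87 0)) (.leaf (.up 3 1677 5))) (.node (.leaf (.up 5 1230 4)) (.leaf (.up 4 1746 3)))) (.node (.node (.leaf (.up 4 957 3)) (.leaf (.up 5 1037 1))) (.node (.leaf (.up 5 83 0)) (.leaf (.up 4 1262 4)))))) (.node (.node (.node (.node (.leaf (.up 6 1441 4)) (.leaf (.up 4 520 4))) (.node (.leaf (.up 6 580 5)) (.leaf (.up 4 1891 5)))) (.node (.node (.leaf (.up 5 172 5)) (.leaf (.up 5 1419 5))) (.node (.leaf (.up 5 361 1)) (.leaf (.up 5 482 0))))) (.node (.node (.node (.leaf (.up 5 246 1)) (.leaf (.up 4 1602 1))) (.node (.leaf (.up 6 1324 5)) (.leaf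 (.up 1 11 5)))) (.node (.node (.leaf (.up 5 502 1)) (.leaf (.up 3 739 5))) (.node (.leaf (.up 5 190 0)) (.leaf (.up 4 1470 0)))))))) (.node (.node (.node (.node (.node (.node (.leaf (.up 4 432 1)) (.leaf (.up 5 1796 1))) (.node (.leaf (.up 3 1747 0)) (.leaf (.up 5 1714 2)))) (.node (.node (.leaf (.up 4 1898 2)) (.leaf (.up 5 888 4))) (.node (.leaf (.up 2 1327 1)) (.leaf (.up 5 727 0))))) (.node (.node (.node (.leaf (.up 3 562 4)) (.leaf (.up 4 85 3))) (.node (.leaf (.up 4 1471 4)) (.leaf (.up 5 262 2)))) (.node (.node (.leaf (.up 4 222 2)) (.leaf (.up 4 1039 5))) (.node (.leaf (.up 5 566 4)) (.leaf (.up 5 1500 3)))))) (.node (.node (.node (.node (.leaf (.up 4 1770 3)) (.leaf (.up 5 1548 3))) (.node (.leaf (.up 5 1598 0)) (.leaf (.up 6 1906 5)))) (.node (.node (.leaf (.up 4 1899 2)) (.leaf (.up 6 1201 2))) (.node (.leaf (.up 5 1850 0)) (.leaf (.up 6 901 3))))) (.node (.node (.node (.leaf (.up 4 2047 1)) (.leaf (.up 5 261 2))) (.node (.leaf (.up 4 1341 5)) (.leaf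 (.up 5 263 2)))) (.node (.node (.leaf (.up 4 614 0)) (.leaf (.up 5 754 5))) (.node (.leaf (.up 4 1966 5)) (.leaf (.up 6 1492 1))))))) (.node (.node (.node (.node (.node (.leaf (.up 5 484 5)) (.leaf (.up 1 9 0))) (.node (.leaf (.up 5 45 4)) (.leaf (.up 3 928 3)))) (.node (.node (.leaf (.up 4 887 5)) (.leaf (.up 3 1616 5))) (.node (.leaf (.up 4 1956 4)) (.leaf (.up 3 178 2))))) (.node (.node (.node (.leaf (.up 4 1738 4)) (.leaf (.up 5 1109 0))) (.node (.leaf (.up 4 85 0)) (.leaf (.up 4 1774 4)))) (.node (.node (.leaf (.up 3 1246 2)) (.leaf (.up 4 1770 4))) (.node (.leaf (.up 3 1244 2)) (.leaf (.up 5 323 5)))))) (.node (.node (.node (.node (.leaf (.up 6 1817 5)) (.leaf (.up 4 1483 1))) (.node (.leaf (.up 5 361 2)) (.leaf (.up 5 581 5)))) (.node (.node (.leaf (.up 5 1418 5)) (.leaf (.up 4 397 3))) (.node (.leaf (.up 5 44 4)) (.leaf (.up 5 179 2))))) (.node (.node (.node (.leaf (.up 5 440 0)) (.leaf (.up 3 1366 5))) (.node (.leaf (.up 3 10 5)) (.leaf (.up 4 1464 0))))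 (.node (.node (.leaf (.up 5 1247 2)) (.leaf (.up 4 1797 2))) (.node (.leaf (.up 5 736 1)) (.leaf (.up 4 1982 5))))))))

noncomputable def vt4_0_101 : Tr VStep := .node vt4_0_1010 vt4_0_1011

noncomputable def vt4_0_10 : Tr VStep := .node vt4_0_100 vt4_0_101

noncomputable def vt4_0_1100 : Tr VStep :=
  .node (.node (.node (.node (.node (.node (.node (.leaf (.up 5 1598 1)) (.leaf (.up 5 51 3))) (.node (.leaf (.up 5 239 2)) (.leaf (.up 2 1581 5)))) (.node (.node (.leaf (.up 5 482 5)) (.leaf (.up 4 1346 0))) (.node (.leaf (.up 5 440 4)) (.leaf (.up 4 1214 5))))) (.node (.node (.node (.leaf (.up 6 1881 2)) (.leaf (.up 5 462 3))) (.node (.leaf (.up 5 1697 1)) (.leaf (.up 4 1153 2)))) (.node (.node (.leaf (.up 5 1674 5)) (.leaf (.up 5 1623 3))) (.node (.leaf (.up 6 1953 1)) (.leaf (.up 5 1665 2)))))) (.node (.node (.node (.node (.leaf (.up 5 1393 1)) (.leaf (.up 5 822 2))) (.node (.leaf (.up 5 1527 5)) (.leaf (.up 5 1415 3)))) (.node (.node (.leaf (.up 4 445 4)) (.leaf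 (.up 4 310 2))) (.node (.leaf (.up 3 750 2)) (.leaf (.up 5 308 2))))) (.node (.node (.node (.leaf (.up 5 1527 0)) (.leaf (.up 3 247 0))) (.node (.leaf (.up 2 1518 1)) (.leaf (.up 3 503 0)))) (.node (.node (.leaf (.up 4 1267 0)) (.leaf (.up 4 499 0))) (.node (.leaf (.up 4 1262 1)) (.leaf (.up 4 995 3))))))) (.node (.node (.node (.node (.node (.leaf (.up 4 1982 1)) (.leaf (.up 4 266 1))) (.node (.leaf (.up 4 1263 2)) (.leaf (.up 6 794 5)))) (.node (.node (.leaf (.up 2 1773 2)) (.leaf (.up 3 10 1))) (.node (.leaf (.up 4 1198 5)) (.leaf (.up 5 1688 0))))) (.node (.node (.node (.leaf (.up 5 1984 0)) (.leaf (.up 6 1033 5))) (.node (.leaf (.up 5 341 5)) (.leaf (.up 6 960 0)))) (.node (.node (.leaf (.up 3 1732 0)) (.leaf (.up 6 1690 5))) (.node (.leaf (.up 5 1066 4)) (.leaf (.up 6 1761 5)))))) (.node (.node (.node (.node (.leaf (.up 5 187 5)) (.leaf (.up 2 1649 0))) (.node (.leaf (.up 4 1262 2)) (.leaf (.up 5 2010 1)))) (.node (.node (.leaf (.up 4 1349 4)) (.leaf (.up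 4 22 3))) (.node (.leaf (.up 4 1774 2)) (.leaf (.up 3 518 3))))) (.node (.node (.node (.leaf (.up 3 934 4)) (.leaf (.up 4 1039 4))) (.node (.leaf (.up 2 1581 0)) (.leaf (.up 5 730 1)))) (.node (.node (.leaf (.up 4 344 2)) (.leaf (.up 5 642 2))) (.node (.leaf (.up 3 1390 1)) (.leaf (.up 5 28 5)))))))) (.node (.node (.node (.node (.node (.node (.leaf (.up 5 1623 5)) (.leaf (.up 3 1539 1))) (.node (.leaf (.up 5 1320 1)) (.leaf (.up 4 1092 0)))) (.node (.node (.leaf (.up 4 439 1)) (.leaf (.up 3 1088 0))) (.node (.leaf (.up 5 1648 2)) (.leaf (.up 4 408 5))))) (.node (.node (.node (.leaf (.up 6 319 5)) (.leaf (.up 5 1345 3))) (.node (.leaf (.up 6 324 5)) (.leaf (.up 3 1123 5)))) (.node (.node (.leaf (.up 4 940 5)) (.leaf (.up 5 28 0))) (.node (.leaf (.up 6 46 3)) (.leaf (.up 5 754 4)))))) (.node (.node (.node (.node (.leaf (.up 4 1016 1)) (.leaf (.up 4 1961 2))) (.node (.leaf (.up 4 494 3)) (.leaf (.up 5 264 3)))) (.node (.node (.leaf (.up 4 1127 3)) (.leaf (.up 4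 1197 0))) (.node (.leaf (.up 2 1649 2)) (.leaf (.up 6 1681 3))))) (.node (.node (.node (.leaf (.up 5 727 4)) (.leaf (.up 4 741 3))) (.node (.leaf (.up 5 1977 5)) (.leaf (.up 2 755 4)))) (.node (.node (.leaf (.up 5 1374 4)) (.leaf (.up 4 118 5))) (.node (.leaf (.up 5 1322 5)) (.leaf (.up 3 1900 3))))))) (.node (.node (.node (.node (.node (.leaf (.up 4 864 5)) (.leaf (.up 6 1188 3))) (.node (.leaf (.up 5 1856 4)) (.leaf (.up 5 233 4)))) (.node (.node (.leaf (.up 4 499 5)) (.leaf (.up 5 424 2))) (.node (.leaf (.up 4 392 5)) (.leaf (.up 6 1888 4))))) (.node (.node (.node (.leaf (.up 4 1471 3)) (.leaf (.up 5 303 5))) (.node (.leaf (.up 5 1139 5)) (.leaf (.up 6 387 4)))) (.node (.node (.leaf (.up 5 1691 5)) (.leaf (.up 6 710 0))) (.node (.leaf (.up 4 419 4)) (.leaf (.up 6 967 5)))))) (.node (.node (.node (.node (.leaf (.up 5 1437 5)) (.leaf (.up 4 768 3))) (.node (.leaf (.up 5 502 3)) (.leaf (.up 5 339 1)))) (.node (.node (.leaf (.up 4 887 0)) (.leaf (.up 5 425 2)))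 (.node (.leaf (.up 5 1767 1)) (.leaf (.up 4 232 4))))) (.node (.node (.node (.leaf (.up 4 757 5)) (.leaf (.up 3 815 0))) (.node (.leaf (.up 1 11 3)) (.leaf (.up 4 1961 5)))) (.node (.node (.leaf (.up 3 422 4)) (.leaf (.up 5 1345 5))) (.node (.leaf (.up 4 1477 2)) (.leaf (.up 5 1363 1))))))))

noncomputable def vt4_0_1101 : Tr VStep :=
  .node (.node (.node (.node (.node (.node (.node (.leaf (.root 885)) (.leaf (.up 5 625 5))) (.node (.leaf (.up 3 1749 3)) (.leaf (.up 4 1102 0)))) (.node (.node (.leaf (.up 4 1477 5)) (.leaf (.up 5 139 1))) (.node (.leaf (.up 3 928 1)) (.leaf (.up 5 366 4))))) (.node (.node (.node (.leaf (.up 4 1961 4)) (.leaf (.up 1 0 4))) (.node (.leaf (.up 4 69 5)) (.leaf (.up 5 1933 4)))) (.node (.node (.leaf (.up 6 1361 2)) (.leaf (.up 4 22 0))) (.node (.leaf (.up 5 1363 2)) (.leaf (.up 4 87 3)))))) (.node (.node (.node (.node (.leaf (.up 5 228 2)) (.leaf (.up 6 1164 5))) (.node (.leaf (.up 4 419 0)) (.leaf (.up 6 1271 5)))) (.node (.node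 (.leaf (.up 6 423 0)) (.leaf (.up 5 318 2))) (.node (.leaf (.up 4 835 5)) (.leaf (.up 5 316 2))))) (.node (.node (.node (.leaf (.up 4 1731 5)) (.leaf (.up 5 511 0))) (.node (.leaf (.up 4 1720 5)) (.leaf (.up 5 603 1)))) (.node (.node (.leaf (.up 4 1531 0)) (.leaf (.up 3 1732 1))) (.node (.leaf (.up 2 1067 5)) (.leaf (.up 5 507 0))))))) (.node (.node (.node (.node (.node (.leaf (.up 3 609 5)) (.leaf (.up 1 11 1))) (.node (.leaf (.up 6 538 5)) (.leaf (.up 4 1853 2)))) (.node (.node (.leaf (.up 5 242 5)) (.leaf (.up 3 1680 0))) (.node (.leaf (.up 4 544 1)) (.leaf (.up 3 434 3))))) (.node (.node (.node (.leaf (.up 5 1289 5)) (.leaf (.up 5 139 2))) (.node (.leaf (.up 3 1244 4)) (.leaf (.up 4 85 5)))) (.node (.node (.leaf (.up 5 703 1)) (.leaf (.up 5 716 0))) (.node (.leaf (.up 5 1740 0)) (.leaf (.up 4 404 1)))))) (.node (.node (.node (.node (.leaf (.up 6 1180 5)) (.leaf (.up 4 1913 0))) (.node (.leaf (.up 5 361 3)) (.leaf (.up 5 1431 4)))) (.node (.node (.leaf (.up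 6 1764 2)) (.leaf (.up 5 1342 2))) (.node (.leaf (.up 6 367 1)) (.leaf (.up 3 851 5))))) (.node (.node (.node (.leaf (.up 5 240 1)) (.leaf (.up 3 1747 5))) (.node (.leaf (.up 5 911 5)) (.leaf (.up 4 987 1)))) (.node (.node (.leaf (.up 5 359 5)) (.leaf (.up 3 1088 5))) (.node (.leaf (.up 4 1135 1)) (.leaf (.up 4 1083 5)))))))) (.node (.node (.node (.node (.node (.node (.leaf (.up 5 74 3)) (.leaf (.up 4 1794 1))) (.node (.leaf (.up 4 602 3)) (.leaf (.up 5 1836 5)))) (.node (.node (.leaf (.up 2 72 0)) (.leaf (.up 5 1440 2))) (.node (.leaf (.up 4 1656 2)) (.leaf (.up 4 1471 5))))) (.node (.node (.node (.leaf (.up 4 544 4)) (.leaf (.up 5 63 5))) (.node (.leaf (.up 5 935 3)) (.leaf (.up 4 22 2)))) (.node (.node (.leaf (.up 5 462 2)) (.leaf (.up 6 1736 3))) (.node (.leaf (.up 5 1086 3)) (.leaf (.up 5 727 5)))))) (.node (.node (.node (.node (.leaf (.up 5 1218 4)) (.leaf (.up 6 1953 2))) (.node (.leaf (.up 4 1145 2)) (.leaf (.up 6 1441 0)))) (.node (.node (.leaf (.up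 5 843 4)) (.leaf (.up 6 1441 2))) (.node (.leaf (.up 4 1637 5)) (.leaf (.up 6 834 5))))) (.node (.node (.node (.leaf (.up 4 2041 1)) (.leaf (.up 5 513 4))) (.node (.leaf (.up 4 614 1)) (.leaf (.up 4 1721 5)))) (.node (.node (.leaf (.up 3 1785 1)) (.leaf (.up 5 1105 5))) (.node (.leaf (.up 3 461 2)) (.leaf (.up 5 1066 5))))))) (.node (.node (.node (.node (.node (.leaf (.up 5 82 3)) (.leaf (.up 3 180 3))) (.node (.leaf (.up 5 63 4)) (.leaf (.up 3 797 1)))) (.node (.node (.leaf (.up 4 310 1)) (.leaf (.up 4 416 2))) (.node (.leaf (.up 4 1974 4)) (.leaf (.up 4 1682 0))))) (.node (.node (.node (.leaf (.up 4 1752 4)) (.leaf (.up 5 714 0))) (.node (.leaf (.up 4 1738 0)) (.leaf (.up 5 857 3)))) (.node (.node (.leaf (.up 4 1742 0)) (.leaf (.up 5 642 1))) (.node (.leaf (.up 4 1062 3)) (.leaf (.up 5 1216 3)))))) (.node (.node (.node (.node (.leaf (.up 6 442 5)) (.leaf (.up 5 1181 5))) (.node (.leaf (.up 6 449 5)) (.leaf (.up 5 82 1)))) (.node (.node (.leaf (.up 5 639 0))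 (.leaf (.up 5 137 3))) (.node (.leaf (.up 5 639 3)) (.leaf (.up 4 419 2))))) (.node (.node (.node (.leaf (.up 4 1746 5)) (.leaf (.up 2 1773 3))) (.node (.leaf (.up 5 1051 3)) (.leaf (.up 4 1277 3)))) (.node (.node (.leaf (.up 4 1913 1)) (.leaf (.up 3 461 1))) (.node (.leaf (.up 5 742 1)) (.leaf (.up 5 285 5))))))))

noncomputable def vt4_0_110 : Tr VStep := .node vt4_0_1100 vt4_0_1101

noncomputable def vt4_0_1110 : Tr VStep :=
  .node (.node (.node (.node (.node (.node (.node (.leaf (.up 5 582 0)) (.leaf (.up 4 1862 0))) (.node (.leaf (.up 4 721 3)) (.leaf (.up 4 805 2)))) (.node (.node (.leaf (.up 4 765 2)) (.leaf (.up 4 1602 0))) (.node (.leaf (.up 5 767 2)) (.leaf (.up 4 293 2))))) (.node (.node (.node (.leaf (.up 5 316 3)) (.leaf (.up 5 474 3))) (.node (.leaf (.up 5 261 5)) (.leaf (.up 4 1913 4)))) (.node (.node (.leaf (.up 5 1701 3)) (.leaf (.up 4 1738 5))) (.node (.leaf (.up 6 918 5)) (.leaf (.up 5 1107 3)))))) (.node (.node (.node (.node (.leaf (.up 4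 683 0)) (.leaf (.up 4 806 2))) (.node (.leaf (.up 4 144 5)) (.leaf (.up 5 1707 0)))) (.node (.node (.leaf (.up 4 1590 4)) (.leaf (.up 5 294 2))) (.node (.leaf (.up 5 443 4)) (.leaf (.up 5 1828 5))))) (.node (.node (.node (.leaf (.up 4 1864 2)) (.leaf (.up 4 676 5))) (.node (.leaf (.up 5 2040 5)) (.leaf (.up 3 1134 3)))) (.node (.node (.leaf (.up 5 1296 5)) (.leaf (.up 2 755 0))) (.node (.leaf (.up 5 1779 0)) (.leaf (.up 3 1680 2))))))) (.node (.node (.node (.node (.node (.leaf (.up 4 1724 1)) (.leaf (.up 5 63 3))) (.node (.leaf (.up 4 1346 4)) (.leaf (.up 5 1431 1)))) (.node (.node (.leaf (.up 3 434 5)) (.leaf (.up 5 264 1))) (.node (.leaf (.up 5 457 5)) (.leaf (.up 4 1262 5))))) (.node (.node (.node (.leaf (.up 4 933 4)) (.leaf (.up 5 366 5))) (.node (.leaf (.up 5 843 2)) (.leaf (.up 6 978 3)))) (.node (.node (.leaf (.up 5 1754 5)) (.leaf (.up 6 901 4))) (.node (.leaf (.up 4 1197 3)) (.leaf (.up 5 902 5)))))) (.node (.node (.node (.node (.leaf (.up 5 1276 2))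 (.leaf (.up 3 750 4))) (.node (.leaf (.up 5 714 4)) (.leaf (.up 4 1752 1)))) (.node (.node (.leaf (.up 4 1267 1)) (.leaf (.up 5 583 1))) (.node (.leaf (.up 5 1790 2)) (.leaf (.up 4 2008 1))))) (.node (.node (.node (.leaf (.up 3 1069 0)) (.leaf (.up 5 900 4))) (.node (.leaf (.up 3 928 4)) (.leaf (.up 4 144 2)))) (.node (.node (.leaf (.up 4 932 4)) (.leaf (.up 5 1037 4))) (.node (.leaf (.up 4 1065 0)) (.leaf (.up 5 896 4)))))))) (.node (.node (.node (.node (.node (.node (.leaf (.up 4 1102 3)) (.leaf (.up 4 1793 1))) (.node (.leaf (.up 5 1066 1)) (.leaf (.up 4 1644 5)))) (.node (.node (.leaf (.up 4 419 5)) (.leaf (.up 4 1464 2))) (.node (.leaf (.up 4 472 5)) (.leaf (.up 4 1043 4))))) (.node (.node (.node (.leaf (.up 6 1112 5)) (.leaf (.up 4 1365 3))) (.node (.leaf (.up 5 1059 5)) (.leaf (.up 5 260 5)))) (.node (.node (.leaf (.up 6 1739 5)) (.leaf (.up 4 1004 5))) (.node (.leaf (.up 5 1712 5)) (.leaf (.up 6 526 2)))))) (.node (.node (.node (.node (.leaf (.up 3 1123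 2)) (.leaf (.up 4 1102 1))) (.node (.leaf (.up 5 506 3)) (.leaf (.up 4 1961 0)))) (.node (.node (.leaf (.up 5 1139 3)) (.leaf (.up 5 1965 0))) (.node (.leaf (.up 4 1633 2)) (.leaf (.up 5 1709 0))))) (.node (.node (.node (.leaf (.up 5 2037 0)) (.leaf (.up 4 757 0))) (.node (.leaf (.up 4 981 2)) (.leaf (.up 3 1400 4)))) (.node (.node (.leaf (.up 4 1422 3)) (.leaf (.up 3 78 1))) (.node (.leaf (.up 6 1950 3)) (.leaf (.up 3 1489 1))))))) (.node (.node (.node (.node (.node (.leaf (.up 4 1862 4)) (.leaf (.up 5 239 4))) (.node (.leaf (.up 5 1660 5)) (.leaf (.up 5 954 2)))) (.node (.node (.leaf (.up 5 975 3)) (.leaf (.up 5 440 2))) (.node (.leaf (.up 4 1263 5)) (.leaf (.up 6 313 3))))) (.node (.node (.node (.leaf (.up 6 1474 0)) (.leaf (.up 5 1096 5))) (.node (.leaf (.up 5 1218 0)) (.leaf (.up 6 1038 2)))) (.node (.node (.leaf (.up 3 562 3)) (.leaf (.up 5 1755 5))) (.node (.leaf (.up 5 1576 4)) (.leaf (.up 6 1822 1)))))) (.node (.node (.node (.node (.leaf (.up 5 1010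 3)) (.leaf (.up 4 788 3))) (.node (.leaf (.up 5 482 3)) (.leaf (.up 4 81 1)))) (.node (.node (.leaf (.up 5 1131 3)) (.leaf (.up 5 1230 1))) (.node (.leaf (.up 3 609 2)) (.leaf (.up 4 1891 4))))) (.node (.node (.node (.leaf (.up 2 1327 0)) (.leaf (.up 5 1037 2))) (.node (.leaf (.up 4 31 3)) (.leaf (.up 4 1039 2)))) (.node (.node (.leaf (.up 2 1581 4)) (.leaf (.up 4 38 5))) (.node (.leaf (.up 4 416 4)) (.leaf (.up 4 43 0))))))))

noncomputable def vt4_0_1111 : Tr VStep :=
  .node (.node (.node (.node (.node (.node (.node (.leaf (.up 4 245 2)) (.leaf (.up 3 815 2))) (.node (.leaf (.up 3 247 2)) (.leaf (.up 5 813 2)))) (.node (.node (.leaf (.up 2 162 5)) (.leaf (.up 5 303 2))) (.node (.leaf (.up 4 344 3)) (.leaf (.up 5 1046 1))))) (.node (.node (.node (.leaf (.up 5 829 1)) (.leaf (.up 5 1482 3))) (.node (.leaf (.up 5 1314 5)) (.leaf (.up 4 22 1)))) (.node (.node (.leaf (.up 5 1994 5)) (.leaf (.up 5 1691 2))) (.node (.leaf (.up 4 38 4)) (.leaf (.up 5 534 0)))))) (.node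 (.node (.node (.node (.leaf (.up 5 885 3)) (.leaf (.up 5 361 4))) (.node (.leaf (.up 3 357 3)) (.leaf (.up 6 812 2)))) (.node (.node (.leaf (.up 6 329 4)) (.leaf (.up 5 888 5))) (.node (.leaf (.up 3 1732 4)) (.leaf (.up 6 771 5))))) (.node (.node (.node (.leaf (.up 4 932 5)) (.leaf (.up 5 1734 1))) (.node (.leaf (.up 4 1517 1)) (.leaf (.up 5 857 1)))) (.node (.node (.leaf (.up 4 1344 2)) (.leaf (.up 5 1527 3))) (.node (.leaf (.up 4 1966 4)) (.leaf (.up 5 1131 5))))))) (.node (.node (.node (.node (.node (.leaf (.up 4 404 0)) (.leaf (.up 4 1839 2))) (.node (.leaf (.up 6 1271 2)) (.leaf (.up 4 602 5)))) (.node (.node (.leaf (.up 4 144 0)) (.leaf (.up 1 9 1))) (.node (.leaf (.up 2 1518 5)) (.leaf (.up 3 422 3))))) (.node (.node (.node (.leaf (.up 4 1480 0)) (.leaf (.up 5 155 2))) (.node (.leaf (.up 4 835 2)) (.leaf (.up 5 406 1)))) (.node (.node (.leaf (.up 3 851 4)) (.leaf (.up 5 2010 5))) (.node (.leaf (.up 3 1246 4)) (.leaf (.up 4 887 4)))))) (.node (.node (.node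 (.node (.leaf (.up 5 507 5)) (.leaf (.up 3 1244 5))) (.node (.leaf (.up 6 384 5)) (.leaf (.up 5 1836 2)))) (.node (.node (.leaf (.up 5 872 5)) (.leaf (.up 5 1405 0))) (.node (.leaf (.up 6 787 5)) (.leaf (.up 5 1149 0))))) (.node (.node (.node (.leaf (.up 4 1683 5)) (.leaf (.up 3 948 5))) (.node (.leaf (.up 4 1768 5)) (.leaf (.up 4 293 0)))) (.node (.node (.leaf (.up 5 242 1)) (.leaf (.up 4 295 5))) (.node (.leaf (.up 5 1313 0)) (.leaf (.up 4 348 5)))))))) (.node (.node (.node (.node (.node (.node (.leaf (.up 3 180 1)) (.leaf (.up 5 872 4))) (.node (.leaf (.up 3 1900 5)) (.leaf (.up 5 587 5)))) (.node (.node (.leaf (.up 4 840 0)) (.leaf (.up 4 1608 0))) (.node (.leaf (.up 2 1067 1)) (.leaf (.up 4 1864 0))))) (.node (.node (.node (.leaf (.up 4 419 3)) (.leaf (.up 4 768 1))) (.node (.leaf (.up 4 43 1)) (.leaf (.up 4 1315 5)))) (.node (.node (.leaf (.up 5 748 5)) (.leaf (.up 5 1419 4))) (.node (.leaf (.up 5 1066 3)) (.leaf (.up 3 518 2)))))) (.node (.node (.node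 (.node (.leaf (.up 5 490 5)) (.leaf (.up 6 1953 0))) (.node (.leaf (.up 6 1129 2)) (.leaf (.up 5 1697 0)))) (.node (.node (.leaf (.up 4 933 0)) (.leaf (.up 5 1701 0))) (.node (.leaf (.up 6 627 3)) (.leaf (.up 6 1573 5))))) (.node (.node (.node (.leaf (.up 4 991 2)) (.leaf (.up 4 933 5))) (.node (.leaf (.up 3 1785 5)) (.leaf (.up 4 765 0)))) (.node (.node (.leaf (.up 4 1041 5)) (.leaf (.up 4 310 5))) (.node (.leaf (.up 3 1785 0)) (.leaf (.up 4 1422 4))))))) (.node (.node (.node (.node (.node (.leaf (.up 4 544 5)) (.leaf (.up 3 1936 4))) (.node (.leaf (.up 5 603 5)) (.leaf (.up 4 688 3)))) (.node (.node (.leaf (.up 5 618 2)) (.leaf (.up 3 1849 3))) (.node (.leaf (.up 6 1487 3)) (.leaf (.up 3 799 1))))) (.node (.node (.node (.leaf (.up 4 1226 0)) (.leaf (.up 5 349 3))) (.node (.leaf (.up 4 2012 2)) (.leaf (.up 5 1823 1)))) (.node (.node (.leaf (.up 5 1754 4)) (.leaf (.up 3 1732 3))) (.node (.leaf (.up 5 1500 2)) (.leaf (.up 5 462 0)))))) (.node (.node (.node (.node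 (.leaf (.up 6 1245 5)) (.leaf (.up 5 1796 3))) (.node (.leaf (.up 4 1190 5)) (.leaf (.up 5 947 2)))) (.node (.node (.leaf (.up 6 1614 5)) (.leaf (.up 4 157 3))) (.node (.leaf (.up 5 1589 5)) (.leaf (.up 5 28 4))))) (.node (.node (.node (.leaf (.up 5 1755 4)) (.leaf (.up 3 1785 3))) (.node (.leaf (.up 4 1039 3)) (.leaf (.up 4 1104 1)))) (.node (.node (.leaf (.up 4 1315 0)) (.leaf (.up 4 1025 5))) (.node (.leaf (.up 5 349 5)) (.leaf (.up 3 291 0))))))))

noncomputable def vt4_0_111 : Tr VStep := .node vt4_0_1110 vt4_0_1111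

noncomputable def vt4_0_11 : Tr VStep := .node vt4_0_110 vt4_0_111

noncomputable def vt4_0_1 : Tr VStep := .node vt4_0_10 vt4_0_11

noncomputable def vt4_0_ : Tr VStep := .node vt4_0_0 vt4_0_1

noncomputable def vt4_1_0000 : Tr VStep :=
  .node (.node (.node (.node (.node (.node (.node (.leaf (.root 884)) (.leaf (.up 8 718 1))) (.node (.leaf (.up 10 276 1)) (.leaf (.up 4 284 0)))) (.node (.node (.leaf (.up 11 260 1)) (.leaf (.up 9 222 1))) (.node (.leaf (.up 13 1551 0)) (.leaf (.up 9 734 1))))) (.node (.node (.node (.leaf (.up 11 1096 1)) (.leaf (.up 5 1861 0))) (.node (.leaf (.up 11 702 0)) (.leaf (.up 5 1912 0)))) (.node (.node (.leaf (.up 10 86 0)) (.leaf (.up 8 1424 0))) (.node (.leaf (.up 6 1112 1)) (.leaf (.up 8 1453 0)))))) (.node (.node (.node (.node (.leaf (.up 8 340 1)) (.leaf (.up 10 142 1))) (.node (.leaf (.up 4 1996 0)) (.leaf (.up 12 654 1)))) (.node (.node (.leaf (.up 5 1316 0)) (.leaf (.up 9 226 0))) (.node (.leaf (.up 9 1305 0)) (.leaf (.up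 7 158 1))))) (.node (.node (.node (.leaf (.up 5 405 0)) (.leaf (.up 9 1107 0))) (.node (.leaf (.up 11 1032 1)) (.leaf (.up 9 1490 1)))) (.node (.node (.leaf (.up 10 832 0)) (.leaf (.up 8 1474 1))) (.node (.leaf (.up 8 1560 1)) (.leaf (.up 12 1986 1))))))) (.node (.node (.node (.node (.node (.leaf (.up 14 308 1)) (.leaf (.up 10 1696 0))) (.node (.leaf (.up 6 820 1)) (.leaf (.up 8 1693 0)))) (.node (.node (.leaf (.up 11 804 1)) (.leaf (.up 9 1141 0))) (.node (.leaf (.up 7 398 0)) (.leaf (.up 11 1096 0))))) (.node (.node (.node (.leaf (.up 11 1282 0)) (.leaf (.up 5 1970 1))) (.node (.leaf (.up 7 1343 0)) (.leaf (.up 9 1458 1)))) (.node (.node (.leaf (.up 6 1144 1)) (.leaf (.up 12 529 0))) (.node (.leaf (.up 10 1656 1)) (.leaf (.up 12 1954 1)))))) (.node (.node (.node (.node (.leaf (.up 8 884 1)) (.leaf (.up 14 1462 0))) (.node (.leaf (.up 10 372 1)) (.leaf (.up 6 1419 0)))) (.node (.node (.leaf (.up 11 677 0)) (.leaf (.up 7 190 1))) (.node (.leaf (.up 5 664 0))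 (.leaf (.up 7 1886 0))))) (.node (.node (.node (.leaf (.up 11 1064 1)) (.leaf (.up 11 1522 1))) (.node (.leaf (.up 11 1577 0)) (.leaf (.up 5 1007 0)))) (.node (.node (.leaf (.up 10 1592 1)) (.leaf (.up 12 263 0))) (.node (.leaf (.up 10 1080 1)) (.leaf (.up 10 314 0)))))))) (.node (.node (.node (.node (.node (.node (.leaf (.up 11 622 0)) (.leaf (.up 7 1960 0))) (.node (.leaf (.up 13 532 1)) (.leaf (.up 7 974 1)))) (.node (.node (.leaf (.up 12 187 0)) (.leaf (.up 10 990 1))) (.node (.leaf (.up 14 4 1)) (.leaf (.up 10 478 1))))) (.node (.node (.node (.leaf (.up 12 1034 0)) (.leaf (.up 14 1682 1))) (.node (.leaf (.up 4 1079 0)) (.leaf (.up 6 497 0)))) (.node (.node (.leaf (.up 5 1759 0)) (.leaf (.up 7 1154 1))) (.node (.leaf (.up 9 1762 0)) (.leaf (.up 11 1666 1)))))) (.node (.node (.node (.node (.leaf (.up 11 596 1)) (.leaf (.up 5 1214 0))) (.node (.leaf (.up 11 84 1)) (.leaf (.up 7 398 1)))) (.node (.node (.leaf (.up 10 941 0)) (.leaf (.up 10 414 1))) (.node (.leaf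 (.up 10 912 0)) (.leaf (.up 4 926 1))))) (.node (.node (.node (.leaf (.up 10 1288 1)) (.leaf (.up 10 730 0))) (.node (.leaf (.up 12 1825 0)) (.leaf (.up 10 1746 1)))) (.node (.node (.leaf (.up 9 1481 0)) (.leaf (.up 11 1730 1))) (.node (.leaf (.up 7 1524 0)) (.leaf (.up 7 1218 1))))))) (.node (.node (.node (.node (.node (.leaf (.up 9 1519 0)) (.leaf (.up 9 1006 1))) (.node (.leaf (.up 5 52 1)) (.leaf (.up 11 494 1)))) (.node (.node (.leaf (.up 12 1850 0)) (.leaf (.up 10 764 0))) (.node (.leaf (.up 8 1799 0)) (.leaf (.up 8 1022 1))))) (.node (.node (.node (.leaf (.up 8 1384 1)) (.leaf (.up 10 1613 0))) (.node (.leaf (.up 4 950 0)) (.leaf (.up 10 1714 1)))) (.node (.node (.leaf (.up 5 350 0)) (.leaf (.up 11 1698 1))) (.node (.leaf (.up 13 355 0)) (.leaf (.up 11 1189 0)))))) (.node (.node (.node (.node (.leaf (.up 7 1785 0)) (.leaf (.up 5 430 1))) (.node (.leaf (.up 9 628 1)) (.leaf (.up 13 770 0)))) (.node (.node (.leaf (.up 8 612 1)) (.leaf (.up 12 490 0))) (.node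 (.leaf (.up 2 1041 0)) (.leaf (.up 12 446 1))))) (.node (.node (.node (.leaf (.up 8 1832 1)) (.leaf (.up 8 1371 0))) (.node (.leaf (.up 12 1320 1)) (.leaf (.up 10 1382 0)))) (.node (.node (.leaf (.up 5 584 0)) (.leaf (.up 7 1250 1))) (.node (.leaf (.up 9 629 0)) (.leaf (.up 9 1762 1))))))))

noncomputable def vt4_1_0001 : Tr VStep :=
  .node (.node (.node (.node (.node (.node (.node (.leaf (.root 1062)) (.leaf (.up 10 1672 0))) (.node (.leaf (.up 8 883 0)) (.leaf (.up 8 710 1)))) (.node (.node (.leaf (.up 9 411 0)) (.leaf (.up 9 726 1))) (.node (.leaf (.up 9 422 0)) (.leaf (.up 11 214 1))))) (.node (.node (.node (.leaf (.up 9 1322 0)) (.leaf (.up 9 236 0))) (.node (.leaf (.up 7 1303 0)) (.leaf (.up 9 1434 1)))) (.node (.node (.leaf (.up 6 1104 1)) (.leaf (.up 8 1418 1))) (.node (.leaf (.up 8 1616 1)) (.leaf (.up 12 1930 1)))))) (.node (.node (.node (.node (.leaf (.up 8 860 1)) (.leaf (.up 10 646 1))) (.node (.leaf (.up 4 101 0)) (.leaf (.up 10 1443 0)))) (.node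 (.node (.leaf (.up 5 332 1)) (.leaf (.up 7 150 1))) (.node (.leaf (.up 5 688 0)) (.leaf (.up 11 662 1))))) (.node (.node (.node (.leaf (.up 5 1596 0)) (.leaf (.up 11 1498 1))) (.node (.leaf (.up 5 1536 1)) (.leaf (.up 9 2010 1)))) (.node (.node (.leaf (.up 8 1552 1)) (.leaf (.up 8 1994 1))) (.node (.leaf (.up 8 1236 0)) (.leaf (.up 2 274 0))))))) (.node (.node (.node (.node (.node (.leaf (.up 8 828 1)) (.leaf (.up 10 265 0))) (.node (.leaf (.up 14 1266 0)) (.leaf (.up 14 308 0)))) (.node (.node (.leaf (.up 7 1562 0)) (.leaf (.up 11 988 0))) (.node (.leaf (.up 9 812 1)) (.leaf (.up 7 993 0))))) (.node (.node (.node (.leaf (.up 15 1120 1)) (.leaf (.up 11 1466 1))) (.node (.leaf (.up 7 1632 1)) (.leaf (.up 5 1872 0)))) (.node (.node (.leaf (.up 10 126 0)) (.leaf (.up 8 1464 0))) (.node (.leaf (.up 6 1136 1)) (.leaf (.up 6 1450 1)))))) (.node (.node (.node (.node (.leaf (.up 8 380 1)) (.leaf (.up 10 166 1))) (.node (.leaf (.up 12 892 1)) (.leaf (.up 14 546 0))))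 (.node (.node (.leaf (.up 13 876 1)) (.leaf (.up 7 694 1))) (.node (.leaf (.up 9 1329 0)) (.leaf (.up 7 182 1))))) (.node (.node (.node (.leaf (.up 9 1568 1)) (.leaf (.up 7 2042 1))) (.node (.leaf (.up 11 384 0)) (.leaf (.up 11 1094 0)))) (.node (.node (.leaf (.up 10 1072 1)) (.leaf (.up 10 1514 1))) (.node (.leaf (.up 12 853 0)) (.leaf (.up 6 1683 0)))))))) (.node (.node (.node (.node (.node (.node (.leaf (.up 11 1479 0)) (.leaf (.up 9 966 1))) (.node (.leaf (.up 11 28 1)) (.leaf (.up 7 454 1)))) (.node (.node (.leaf (.up 10 12 1)) (.leaf (.up 10 470 1))) (.node (.leaf (.up 10 1839 0)) (.leaf (.up 12 745 0))))) (.node (.node (.node (.leaf (.up 10 1344 1)) (.leaf (.up 14 1178 1))) (.node (.leaf (.up 4 926 0)) (.leaf (.up 10 1690 1)))) (.node (.node (.leaf (.up 5 374 0)) (.leaf (.up 11 1674 1))) (.node (.leaf (.up 7 331 0)) (.leaf (.up 11 1162 1)))))) (.node (.node (.node (.node (.leaf (.up 7 1745 0)) (.leaf (.up 5 791 0))) (.node (.leaf (.up 7 604 1)) (.leaf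 (.up 9 902 1)))) (.node (.node (.leaf (.up 10 1028 0)) (.leaf (.up 8 918 1))) (.node (.leaf (.up 2 1081 0)) (.leaf (.up 8 406 1))))) (.node (.node (.node (.leaf (.up 10 1792 1)) (.leaf (.up 12 1395 0))) (.node (.leaf (.up 10 1280 1)) (.leaf (.up 10 1242 1)))) (.node (.node (.leaf (.up 11 1296 1)) (.leaf (.up 11 1958 0))) (.node (.leaf (.up 7 605 0)) (.leaf (.up 9 1947 0))))))) (.node (.node (.node (.node (.node (.leaf (.up 7 582 0)) (.leaf (.up 9 486 1))) (.node (.leaf (.up 9 572 1)) (.leaf (.up 9 998 1)))) (.node (.node (.leaf (.up 12 147 0)) (.leaf (.up 8 1014 1))) (.node (.leaf (.up 10 174 0)) (.leaf (.up 8 1384 0))))) (.node (.node (.node (.leaf (.up 8 1888 1)) (.leaf (.up 8 484 0))) (.node (.leaf (.up 8 1376 1)) (.leaf (.up 6 473 0)))) (.node (.node (.leaf (.up 13 1392 1)) (.leaf (.up 7 1194 1))) (.node (.leaf (.up 13 1904 1)) (.leaf (.up 9 1706 1)))))) (.node (.node (.node (.node (.leaf (.up 11 336 0)) (.leaf (.up 5 1174 0))) (.node (.leaf (.up 7 124 1))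 (.leaf (.up 9 1195 0)))) (.node (.node (.leaf (.up 10 901 0)) (.leaf (.up 12 1603 0))) (.node (.leaf (.up 14 620 1)) (.leaf (.up 4 950 1))))) (.node (.node (.node (.leaf (.up 10 1312 1)) (.leaf (.up 8 754 0))) (.node (.leaf (.up 12 1824 1)) (.leaf (.up 12 719 0)))) (.node (.node (.leaf (.up 9 1505 0)) (.leaf (.up 9 1770 1))) (.node (.leaf (.up 11 1500 0)) (.leaf (.up 9 26 0))))))))

noncomputable def vt4_1_000 : Tr VStep := .node vt4_1_0000 vt4_1_0001

noncomputable def vt4_1_0010 : Tr VStep :=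
  .node (.node (.node (.node (.node (.node (.node (.leaf (.up 13 278 1)) (.leaf (.up 9 204 1))) (.node (.leaf (.up 11 790 1)) (.leaf (.up 9 1687 0)))) (.node (.node (.leaf (.up 10 441 0)) (.leaf (.up 4 732 1))) (.node (.leaf (.up 12 388 0)) (.leaf (.up 8 220 1))))) (.node (.node (.node (.leaf (.up 10 1288 0)) (.leaf (.up 8 206 0))) (.node (.leaf (.up 10 1333 0)) (.leaf (.up 8 1424 1)))) (.node (.node (.leaf (.up 11 1114 1)) (.leaf (.up 9 1408 1))) (.node (.leaf (.up 11 2016 0)) (.leaf (.up 9 1920 1)))))) (.node (.node (.node (.node (.leaf (.up 9 122 0)) (.leaf (.up 7 1468 0))) (.node (.leaf (.up 13 342 1)) (.leaf (.up 9 140 1)))) (.node (.node (.leaf (.up 12 326 1)) (.leaf (.up 12 1897 0))) (.node (.leaf (.up 8 838 1)) (.leaf (.up 6 1876 0))))) (.node (.node (.node (.leaf (.up 8 1566 0)) (.leaf (.up 8 984 0))) (.node (.leaf (.up 10 1546 1)) (.leaf (.up 8 2000 1)))) (.node (.node (.leaf (.up 7 1562 1)) (.leaf (.up 9 269 0))) (.node (.leaf (.up 13 1270 0)) (.leaf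 (.up 9 1472 1))))))) (.node (.node (.node (.node (.node (.leaf (.up 11 822 1)) (.leaf (.up 11 299 0))) (.node (.leaf (.up 11 1232 0)) (.leaf (.up 9 236 1)))) (.node (.node (.leaf (.up 10 294 1)) (.leaf (.up 4 252 1))) (.node (.leaf (.up 10 1541 0)) (.leaf (.up 10 764 1))))) (.node (.node (.node (.leaf (.up 10 1130 1)) (.leaf (.up 8 1871 0))) (.node (.leaf (.up 10 692 0)) (.leaf (.up 12 1968 1)))) (.node (.node (.leaf (.up 7 1658 1)) (.leaf (.up 9 1434 0))) (.node (.leaf (.up 11 97 0)) (.leaf (.up 9 1447 0)))))) (.node (.node (.node (.node (.leaf (.up 5 2043 0)) (.leaf (.up 11 573 0))) (.node (.leaf (.up 7 886 1)) (.leaf (.up 7 684 1)))) (.node (.node (.leaf (.up 10 1326 0)) (.leaf (.up 10 700 1))) (.node (.leaf (.up 4 358 1)) (.leaf (.up 10 188 1))))) (.node (.node (.node (.leaf (.up 14 1578 1)) (.leaf (.up 10 1113 0))) (.node (.leaf (.up 6 1066 1)) (.leaf (.up 8 1520 1)))) (.node (.node (.leaf (.up 7 842 0)) (.leaf (.up 13 1504 1))) (.node (.leaf (.up 3 887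 0)) (.leaf (.up 11 2016 1)))))))) (.node (.node (.node (.node (.node (.node (.leaf (.up 14 534 1)) (.leaf (.up 10 35 0))) (.node (.leaf (.up 12 22 1)) (.leaf (.up 14 460 1)))) (.node (.node (.leaf (.up 9 1840 0)) (.leaf (.up 11 758 0))) (.node (.leaf (.up 3 518 1)) (.leaf (.up 11 988 1))))) (.node (.node (.node (.leaf (.up 9 897 0)) (.leaf (.up 11 1607 0))) (.node (.leaf (.up 9 1866 1)) (.leaf (.up 7 1658 0)))) (.node (.node (.leaf (.up 8 340 0)) (.leaf (.up 6 1664 1))) (.node (.leaf (.up 12 1370 1)) (.leaf (.up 6 1152 1)))))) (.node (.node (.node (.node (.leaf (.up 10 86 1)) (.leaf (.up 4 821 0))) (.node (.leaf (.up 10 1742 0)) (.leaf (.up 10 776 0)))) (.node (.node (.leaf (.up 7 582 1)) (.leaf (.up 11 924 1))) (.node (.leaf (.up 7 70 1)) (.leaf (.up 5 477 0))))) (.node (.node (.node (.leaf (.up 11 151 0)) (.leaf (.up 7 1361 0))) (.node (.leaf (.up 9 1290 1)) (.leaf (.up 11 1388 0)))) (.node (.node (.leaf (.up 12 1306 1)) (.leaf (.up 10 1216 1))) (.node (.leaf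 (.up 10 639 0)) (.leaf (.up 10 1977 0))))))) (.node (.node (.node (.node (.node (.leaf (.up 4 54 1)) (.leaf (.up 12 1954 0))) (.node (.leaf (.up 8 601 0)) (.leaf (.up 10 1951 0)))) (.node (.node (.leaf (.up 13 550 1)) (.leaf (.up 7 1399 0))) (.node (.leaf (.up 5 38 1)) (.leaf (.up 9 508 1))))) (.node (.node (.node (.leaf (.up 9 1024 0)) (.leaf (.up 7 454 0))) (.node (.leaf (.up 9 1386 1)) (.leaf (.up 7 507 0)))) (.node (.node (.leaf (.up 8 1402 1)) (.leaf (.up 6 1184 1))) (.node (.leaf (.up 12 1768 0)) (.leaf (.up 10 814 0)))))) (.node (.node (.node (.node (.leaf (.up 6 370 0)) (.leaf (.up 4 940 1))) (.node (.leaf (.up 8 335 0)) (.leaf (.up 8 428 1)))) (.node (.node (.leaf (.up 9 935 0)) (.leaf (.up 9 444 1))) (.node (.leaf (.up 7 922 0)) (.leaf (.up 13 956 1))))) (.node (.node (.node (.leaf (.up 9 1814 0)) (.leaf (.up 9 1264 1))) (.node (.leaf (.up 9 1834 1)) (.leaf (.up 11 1776 1)))) (.node (.node (.leaf (.up 8 1475 0)) (.leaf (.up 6 1760 1))) (.node (.leaf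 (.up 8 1338 1)) (.leaf (.up 8 56 0))))))))

noncomputable def vt4_1_0011 : Tr VStep :=
  .node (.node (.node (.node (.node (.node (.node (.leaf (.up 9 798 1)) (.leaf (.up 11 708 1))) (.node (.leaf (.up 9 1272 0)) (.leaf (.up 9 196 1)))) (.node (.node (.leaf (.up 8 1552 0)) (.leaf (.up 12 212 1))) (.node (.leaf (.up 12 782 1)) (.leaf (.up 10 724 1))))) (.node (.node (.node (.leaf (.up 8 673 0)) (.leaf (.up 8 1895 0))) (.node (.leaf (.up 10 668 0)) (.leaf (.up 12 1944 1)))) (.node (.node (.leaf (.up 7 1618 1)) (.leaf (.up 9 1458 0))) (.node (.leaf (.up 9 73 0)) (.leaf (.up 5 1423 0)))))) (.node (.node (.node (.node (.leaf (.up 5 2003 0)) (.leaf (.up 11 132 1))) (.node (.leaf (.up 9 2030 0)) (.leaf (.up 11 644 1)))) (.node (.node (.leaf (.up 4 846 1)) (.leaf (.up 6 192 0))) (.node (.leaf (.up 4 334 1)) (.leaf (.up 10 148 1))))) (.node (.node (.node (.leaf (.up 8 439 0)) (.leaf (.up 10 2008 1))) (.node (.leaf (.up 12 1026 1)) (.leaf (.up 12 1100 0)))) (.node (.node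 (.leaf (.up 13 1042 1)) (.leaf (.up 9 1480 1))) (.node (.leaf (.up 13 863 0)) (.leaf (.up 3 1992 1))))))) (.node (.node (.node (.node (.node (.leaf (.up 9 836 0)) (.leaf (.up 11 1666 0))) (.node (.leaf (.up 11 830 1)) (.leaf (.up 7 740 1)))) (.node (.node (.leaf (.up 10 401 0)) (.leaf (.up 10 756 1))) (.node (.leaf (.up 8 428 0)) (.leaf (.up 10 244 1))))) (.node (.node (.node (.leaf (.up 10 1634 1)) (.leaf (.up 10 1976 1))) (.node (.leaf (.up 6 1122 1)) (.leaf (.up 8 1464 1)))) (.node (.node (.leaf (.up 7 2037 0)) (.leaf (.up 9 1448 1))) (.node (.leaf (.up 3 1992 0)) (.leaf (.up 3 526 0)))))) (.node (.node (.node (.node (.leaf (.up 13 82 0)) (.leaf (.up 7 1428 0))) (.node (.leaf (.up 13 382 1)) (.leaf (.up 11 1449 0)))) (.node (.node (.leaf (.up 12 366 1)) (.leaf (.up 10 180 1))) (.node (.leaf (.up 12 698 0)) (.leaf (.up 6 1916 0))))) (.node (.node (.node (.leaf (.up 8 1590 0)) (.leaf (.up 10 1008 0))) (.node (.leaf (.up 10 1570 1)) (.leaf (.up 10 2040 1))))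 (.node (.node (.leaf (.up 11 1251 0)) (.leaf (.up 7 2024 1))) (.node (.leaf (.up 9 1246 0)) (.leaf (.up 11 1512 1)))))))) (.node (.node (.node (.node (.node (.node (.leaf (.up 10 588 0)) (.leaf (.up 8 452 1))) (.node (.leaf (.up 10 542 1)) (.leaf (.up 14 1975 0)))) (.node (.node (.leaf (.up 3 526 1)) (.leaf (.up 11 1375 0))) (.node (.leaf (.up 11 14 1)) (.leaf (.up 13 1378 0))))) (.node (.node (.node (.leaf (.up 11 1858 1)) (.leaf (.up 11 1688 1))) (.node (.leaf (.up 9 1346 1)) (.leaf (.up 11 467 0)))) (.node (.node (.leaf (.up 8 1362 1)) (.leaf (.up 10 1160 1))) (.node (.leaf (.up 10 1728 0)) (.leaf (.up 10 1672 1)))))) (.node (.node (.node (.node (.leaf (.up 6 346 0)) (.leaf (.up 12 1180 0))) (.node (.leaf (.up 6 359 0)) (.leaf (.up 12 1185 0)))) (.node (.node (.leaf (.up 7 78 1)) (.leaf (.up 9 404 1))) (.node (.leaf (.up 7 946 0)) (.leaf (.up 9 1652 0))))) (.node (.node (.node (.leaf (.up 7 1854 0)) (.leaf (.up 13 760 0))) (.node (.leaf (.up 3 1795 0)) (.leaf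 (.up 7 709 0)))) (.node (.node (.leaf (.up 10 1515 0)) (.leaf (.up 10 1736 1))) (.node (.leaf (.up 10 1298 1)) (.leaf (.up 12 16 0))))))) (.node (.node (.node (.node (.node (.leaf (.up 10 574 1)) (.leaf (.up 4 996 1))) (.node (.leaf (.up 8 1520 0)) (.leaf (.up 4 54 0)))) (.node (.node (.leaf (.up 13 46 1)) (.leaf (.up 9 734 0))) (.node (.leaf (.up 7 558 1)) (.leaf (.up 9 1012 1))))) (.node (.node (.node (.leaf (.up 9 937 0)) (.leaf (.up 9 1208 1))) (.node (.leaf (.up 9 1890 1)) (.leaf (.up 7 1618 0)))) (.node (.node (.leaf (.up 8 380 0)) (.leaf (.up 6 1704 1))) (.node (.leaf (.up 12 321 0)) (.leaf (.up 8 1159 0)))))) (.node (.node (.node (.node (.leaf (.up 6 1755 0)) (.leaf (.up 4 797 0))) (.node (.leaf (.up 10 638 1)) (.leaf (.up 8 800 0)))) (.node (.node (.leaf (.up 7 1038 0)) (.leaf (.up 9 456 0))) (.node (.leaf (.up 11 110 1)) (.leaf (.up 5 501 0))))) (.node (.node (.node (.leaf (.up 3 1826 1)) (.leaf (.up 13 1401 0))) (.node (.leaf (.up 9 130 0)) (.leaf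 (.up 9 1272 1)))) (.node (.node (.leaf (.up 8 1330 1)) (.leaf (.up 4 1964 0))) (.node (.leaf (.up 10 1842 1)) (.leaf (.up 12 1937 0))))))))

noncomputable def vt4_1_001 : Tr VStep := .node vt4_1_0010 vt4_1_0011

noncomputable def vt4_1_00 : Tr VStep := .node vt4_1_000 vt4_1_001

noncomputable def vt4_1_0100 : Tr VStep :=
  .node (.node (.node (.node (.node (.node (.node (.leaf (.up 9 1006 0)) (.leaf (.up 11 202 1))) (.node (.leaf (.up 11 979 0)) (.leaf (.up 11 714 1)))) (.node (.node (.leaf (.up 14 315 0)) (.leaf (.up 10 730 1))) (.node (.leaf (.up 12 256 1)) (.leaf (.up 6 218 1))))) (.node (.node (.node (.leaf (.up 8 1418 0)) (.leaf (.up 6 76 0))) (.node (.leaf (.up 8 1463 0)) (.leaf (.up 10 113 0)))) (.node (.node (.leaf (.up 13 1116 1)) (.leaf (.up 11 665 0))) (.node (.leaf (.up 9 1890 0)) (.leaf (.up 11 676 0)))))) (.node (.node (.node (.node (.leaf (.up 11 848 1)) (.leaf (.up 11 650 1))) (.node (.leaf (.up 11 336 1)) (.leaf (.up 9 1283 0)))) (.node (.node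 (.leaf (.up 6 320 1)) (.leaf (.up 8 154 1))) (.node (.leaf (.up 10 832 1)) (.leaf (.up 10 2006 0))))) (.node (.node (.node (.leaf (.up 12 1036 1)) (.leaf (.up 6 858 0))) (.node (.leaf (.up 10 1548 1)) (.leaf (.up 10 871 0)))) (.node (.node (.leaf (.up 11 1097 0)) (.leaf (.up 7 1990 1))) (.node (.leaf (.up 5 1140 0)) (.leaf (.up 11 1478 1))))))) (.node (.node (.node (.node (.node (.leaf (.up 9 1135 0)) (.leaf (.up 11 425 0))) (.node (.leaf (.up 13 304 1)) (.leaf (.up 9 404 0)))) (.node (.node (.leaf (.up 12 1722 0)) (.leaf (.up 12 892 0))) (.node (.leaf (.up 8 800 1)) (.leaf (.up 2 762 1))))) (.node (.node (.node (.leaf (.up 8 523 0)) (.leaf (.up 10 1997 0))) (.node (.leaf (.up 12 566 0)) (.leaf (.up 10 2032 0)))) (.node (.node (.leaf (.up 9 222 0)) (.leaf (.up 11 1304 0))) (.node (.leaf (.up 5 227 0)) (.leaf (.up 11 1317 0)))))) (.node (.node (.node (.node (.leaf (.up 9 368 1)) (.leaf (.up 5 703 0))) (.node (.leaf (.up 3 880 1)) (.leaf (.up 9 642 0)))) (.node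 (.node (.leaf (.up 6 864 1)) (.leaf (.up 12 106 0))) (.node (.leaf (.up 12 1425 0)) (.leaf (.up 8 186 1))))) (.node (.node (.node (.leaf (.up 8 1580 1)) (.leaf (.up 6 1243 0))) (.node (.leaf (.up 12 1068 1)) (.leaf (.up 8 1254 0)))) (.node (.node (.leaf (.up 5 1084 1)) (.leaf (.up 9 1550 0))) (.node (.leaf (.up 5 1596 1)) (.leaf (.up 11 1587 0)))))))) (.node (.node (.node (.node (.node (.node (.leaf (.up 10 1383 0)) (.leaf (.up 12 970 1))) (.node (.leaf (.up 12 1370 0)) (.leaf (.up 12 458 1)))) (.node (.node (.leaf (.up 1 0 1)) (.leaf (.up 9 628 0))) (.node (.leaf (.up 11 512 1)) (.leaf (.up 13 585 0))))) (.node (.node (.node (.leaf (.up 7 1356 1)) (.leaf (.up 5 1174 1))) (.node (.leaf (.up 11 1868 1)) (.leaf (.up 13 1784 0)))) (.node (.node (.leaf (.up 10 1884 1)) (.leaf (.up 8 1670 1))) (.node (.leaf (.up 10 1372 1)) (.leaf (.up 4 1069 0)))))) (.node (.node (.node (.node (.leaf (.up 12 1649 0)) (.leaf (.up 12 951 0))) (.node (.leaf (.up 12 592 1)) (.leaf (.up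 6 906 0)))) (.node (.node (.leaf (.up 5 576 1)) (.leaf (.up 7 922 1))) (.node (.leaf (.up 9 64 1)) (.leaf (.up 13 351 0))))) (.node (.node (.node (.leaf (.up 11 21 0)) (.leaf (.up 13 1491 0))) (.node (.leaf (.up 9 40 0)) (.leaf (.up 9 1238 1)))) (.node (.node (.leaf (.up 12 704 0)) (.leaf (.up 8 1798 0))) (.node (.leaf (.up 14 1820 1)) (.leaf (.up 8 1851 0))))))) (.node (.node (.node (.node (.node (.leaf (.up 10 742 0)) (.leaf (.up 12 1824 0))) (.node (.leaf (.up 2 731 0)) (.leaf (.up 14 1821 0)))) (.node (.node (.leaf (.up 7 544 1)) (.leaf (.up 7 1525 0))) (.node (.leaf (.up 11 14 0)) (.leaf (.up 9 506 1))))) (.node (.node (.node (.leaf (.up 7 1154 0)) (.leaf (.up 9 1718 1))) (.node (.leaf (.up 11 1388 1)) (.leaf (.up 9 1206 1)))) (.node (.node (.leaf (.up 10 1404 1)) (.leaf (.up 8 1190 1))) (.node (.leaf (.up 6 1916 1)) (.leaf (.up 4 940 0)))))) (.node (.node (.node (.node (.leaf (.up 6 496 0)) (.leaf (.up 10 938 1))) (.node (.leaf (.up 8 461 0)) (.leaf (.up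 6 426 1)))) (.node (.node (.leaf (.up 5 805 0)) (.leaf (.up 11 1763 0))) (.node (.leaf (.up 11 608 1)) (.leaf (.up 11 954 1))))) (.node (.node (.node (.leaf (.up 7 1940 0)) (.leaf (.up 13 594 0))) (.node (.leaf (.up 7 1961 0)) (.leaf (.up 11 1782 1)))) (.node (.node (.leaf (.up 10 1345 0)) (.leaf (.up 10 1766 1))) (.node (.leaf (.up 10 1340 1)) (.leaf (.up 8 1254 1))))))))

noncomputable def vt4_1_0101 : Tr VStep :=
  .node (.node (.node (.node (.node (.node (.node (.leaf (.up 11 1095 0)) (.leaf (.up 11 385 0))) (.node (.leaf (.up 11 1146 0)) (.leaf (.up 9 444 0)))) (.node (.node (.leaf (.up 10 264 1)) (.leaf (.up 8 852 0))) (.node (.leaf (.up 10 776 1)) (.leaf (.up 10 722 1))))) (.node (.node (.node (.leaf (.up 8 547 0)) (.leaf (.up 10 2021 0))) (.node (.leaf (.up 10 542 0)) (.leaf (.up 10 2008 0)))) (.node (.node (.leaf (.up 11 1620 1)) (.leaf (.up 7 1934 1))) (.node (.leaf (.up 5 203 0)) (.leaf (.up 11 1293 0)))))) (.node (.node (.node (.node (.leaf (.up 11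 344 1)) (.leaf (.up 9 663 0))) (.node (.leaf (.up 3 856 1)) (.leaf (.up 9 642 1)))) (.node (.node (.leaf (.up 6 840 1)) (.leaf (.up 12 658 1))) (.node (.leaf (.up 6 328 1)) (.leaf (.up 8 146 1))))) (.node (.node (.node (.leaf (.up 10 1540 1)) (.leaf (.up 10 2014 1))) (.node (.leaf (.up 10 1028 1)) (.leaf (.up 12 1230 0)))) (.node (.node (.leaf (.up 11 1044 1)) (.leaf (.up 5 1486 1))) (.node (.leaf (.up 11 989 0)) (.leaf (.up 7 1998 1))))))) (.node (.node (.node (.node (.node (.leaf (.up 9 966 0)) (.leaf (.up 5 1536 0))) (.node (.leaf (.up 11 824 1)) (.leaf (.up 13 1597 0)))) (.node (.node (.leaf (.up 10 808 1)) (.leaf (.up 8 754 1))) (.node (.leaf (.up 8 296 1)) (.leaf (.up 8 242 1))))) (.node (.node (.node (.leaf (.up 8 1636 1)) (.leaf (.up 6 100 0))) (.node (.leaf (.up 12 1124 1)) (.leaf (.up 8 89 0)))) (.node (.node (.leaf (.up 5 1140 1)) (.leaf (.up 5 1454 1))) (.node (.leaf (.up 9 1652 1)) (.leaf (.up 11 652 0)))))) (.node (.node (.node (.node (.leaf (.up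 11 208 0)) (.leaf (.up 9 1302 0))) (.node (.leaf (.up 11 237 0)) (.leaf (.up 9 1323 0)))) (.node (.node (.leaf (.up 14 517 0)) (.leaf (.up 8 178 1))) (.node (.leaf (.up 10 568 0)) (.leaf (.up 12 690 1))))) (.node (.node (.node (.leaf (.up 8 1716 0)) (.leaf (.up 12 1534 1))) (.node (.leaf (.up 10 1572 1)) (.leaf (.up 8 847 0)))) (.node (.node (.leaf (.up 11 1121 0)) (.leaf (.up 9 2030 1))) (.node (.leaf (.up 13 1116 0)) (.leaf (.up 9 1518 1)))))))) (.node (.node (.node (.node (.node (.node (.leaf (.up 8 718 0)) (.leaf (.up 12 450 1))) (.node (.leaf (.up 12 536 1)) (.leaf (.up 6 962 1)))) (.node (.node (.leaf (.up 9 520 1)) (.leaf (.up 11 1501 0))) (.node (.leaf (.up 1 8 1)) (.leaf (.up 13 1504 0))))) (.node (.node (.node (.leaf (.up 7 1194 0)) (.leaf (.up 13 364 0))) (.node (.leaf (.up 9 1175 0)) (.leaf (.up 9 337 0)))) (.node (.node (.leaf (.up 12 1663 0)) (.leaf (.up 8 953 0))) (.node (.leaf (.up 6 1876 1)) (.leaf (.up 12 1678 1)))))) (.node (.node (.node (.node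 (.leaf (.up 8 600 1)) (.leaf (.up 10 898 1))) (.node (.leaf (.up 8 485 0)) (.leaf (.up 10 1059 0)))) (.node (.node (.leaf (.up 5 781 0)) (.leaf (.up 11 402 1))) (.node (.leaf (.up 5 584 1)) (.leaf (.up 11 1782 0))))) (.node (.node (.node (.leaf (.up 5 1284 1)) (.leaf (.up 9 1246 1))) (.node (.leaf (.up 9 1921 0)) (.leaf (.up 11 1758 1)))) (.node (.node (.leaf (.up 8 1385 0)) (.leaf (.up 10 1742 1))) (.node (.leaf (.up 12 1300 1)) (.leaf (.up 8 146 0))))))) (.node (.node (.node (.node (.node (.leaf (.up 10 568 1)) (.leaf (.up 6 994 1))) (.node (.leaf (.up 8 56 1)) (.leaf (.up 6 482 1)))) (.node (.node (.leaf (.up 9 40 1)) (.leaf (.up 7 604 0))) (.node (.leaf (.up 11 1959 0)) (.leaf (.up 11 1010 1))))) (.node (.node (.node (.leaf (.up 7 811 0)) (.leaf (.up 5 1214 1))) (.node (.leaf (.up 11 1892 1)) (.leaf (.up 11 1726 1)))) (.node (.node (.leaf (.up 14 510 0)) (.leaf (.up 10 1080 0))) (.node (.leaf (.up 10 1396 1)) (.leaf (.up 4 1029 0)))))) (.node (.node (.node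 (.node (.leaf (.up 8 1625 0)) (.leaf (.up 10 418 1))) (.node (.leaf (.up 8 632 1)) (.leaf (.up 6 930 0)))) (.node (.node (.leaf (.up 9 1164 0)) (.leaf (.up 7 946 1))) (.node (.leaf (.up 9 104 1)) (.leaf (.up 11 375 0))))) (.node (.node (.node (.leaf (.up 11 1828 1)) (.leaf (.up 11 1531 0))) (.node (.leaf (.up 1 0 0)) (.leaf (.up 11 1478 0)))) (.node (.node (.leaf (.up 8 1332 1)) (.leaf (.up 10 1838 0))) (.node (.leaf (.up 10 1844 1)) (.leaf (.up 6 1774 1))))))))

noncomputable def vt4_1_010 : Tr VStep := .node vt4_1_0100 vt4_1_0101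

noncomputable def vt4_1_0110 : Tr VStep :=
  .node (.node (.node (.node (.node (.node (.node (.leaf (.up 8 1125 0)) (.leaf (.up 6 712 1))) (.node (.leaf (.up 2 274 1)) (.leaf (.up 6 200 1)))) (.node (.node (.leaf (.up 11 1712 0)) (.leaf (.up 7 886 0))) (.node (.leaf (.up 13 770 1)) (.leaf (.up 7 843 0))))) (.node (.node (.node (.leaf (.up 13 513 0)) (.leaf (.up 7 1991 0))) (.node (.leaf (.up 9 572 0)) (.leaf (.up 7 1940 1)))) (.node (.node (.leaf (.up 8 1630 1)) (.leaf (.up 10 1298 0))) (.node (.leaf (.up 8 1118 1)) (.leaf (.up 10 1412 1)))))) (.node (.node (.node (.node (.leaf (.up 6 338 1)) (.leaf (.up 10 693 0))) (.node (.leaf (.up 6 1870 0)) (.leaf (.up 8 648 0)))) (.node (.node (.leaf (.up 11 1446 0)) (.leaf (.up 5 664 1))) (.node (.leaf (.up 7 322 1)) (.leaf (.up 11 93 0))))) (.node (.node (.node (.leaf (.up 9 1550 1)) (.leaf (.up 11 1233 0))) (.node (.leaf (.up 7 1038 1)) (.leaf (.up 11 1260 0)))) (.node (.node (.leaf (.up 6 962 0)) (.leaf (.up 10 1540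 0))) (.node (.leaf (.up 8 1566 1)) (.leaf (.up 6 1593 0))))))) (.node (.node (.node (.node (.node (.leaf (.up 4 996 0)) (.leaf (.up 10 1570 0))) (.node (.leaf (.up 12 818 1)) (.leaf (.up 8 1567 0)))) (.node (.node (.leaf (.up 9 305 0)) (.leaf (.up 13 760 1))) (.node (.leaf (.up 9 268 0)) (.leaf (.up 11 1226 0))))) (.node (.node (.node (.leaf (.up 9 1408 0)) (.leaf (.up 7 70 0))) (.node (.leaf (.up 13 1134 1)) (.leaf (.up 7 1460 1)))) (.node (.node (.leaf (.up 8 1877 0)) (.leaf (.up 10 1444 1))) (.node (.leaf (.up 8 1896 0)) (.leaf (.up 10 1956 1)))))) (.node (.node (.node (.node (.leaf (.up 8 242 0)) (.leaf (.up 8 1332 0))) (.node (.leaf (.up 6 207 0)) (.leaf (.up 12 1289 0)))) (.node (.node (.leaf (.up 3 551 0)) (.leaf (.up 9 184 1))) (.node (.leaf (.up 13 866 1)) (.leaf (.up 9 696 1))))) (.node (.node (.node (.leaf (.up 13 1070 1)) (.leaf (.up 7 1524 1))) (.node (.leaf (.up 9 1707 0)) (.leaf (.up 9 2036 1)))) (.node (.node (.leaf (.up 8 1598 1)) (.leaf (.up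 12 389 0))) (.node (.leaf (.up 8 1086 1)) (.leaf (.up 14 1508 1)))))))) (.node (.node (.node (.node (.node (.node (.leaf (.up 11 18 1)) (.leaf (.up 9 1834 0))) (.node (.leaf (.up 13 530 1)) (.leaf (.up 9 968 1)))) (.node (.node (.leaf (.up 12 514 1)) (.leaf (.up 8 984 1))) (.node (.leaf (.up 10 2 1)) (.leaf (.up 8 1474 0))))) (.node (.node (.node (.leaf (.up 6 1870 1)) (.leaf (.up 4 334 0))) (.node (.leaf (.up 10 1205 0)) (.leaf (.up 12 1172 1)))) (.node (.node (.leaf (.up 7 1374 1)) (.leaf (.up 9 1156 1))) (.node (.leaf (.up 7 1886 1)) (.leaf (.up 9 1668 1)))))) (.node (.node (.node (.node (.leaf (.up 9 506 0)) (.leaf (.up 5 1084 0))) (.node (.leaf (.up 9 455 0)) (.leaf (.up 7 1025 0)))) (.node (.node (.leaf (.up 12 815 0)) (.leaf (.up 6 1769 0))) (.node (.leaf (.up 12 578 1)) (.leaf (.up 8 920 1))))) (.node (.node (.node (.leaf (.up 10 1294 1)) (.leaf (.up 8 1236 1))) (.node (.leaf (.up 8 1806 1)) (.leaf (.up 12 1748 1)))) (.node (.node (.leaf (.up 9 1822 1))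 (.leaf (.up 9 1732 1))) (.node (.leaf (.up 11 1310 1)) (.leaf (.up 9 176 0))))))) (.node (.node (.node (.node (.node (.leaf (.up 3 562 1)) (.leaf (.up 9 171 0))) (.node (.leaf (.up 11 1360 0)) (.leaf (.up 7 150 0)))) (.node (.node (.leaf (.up 10 34 1)) (.leaf (.up 10 504 1))) (.node (.leaf (.up 10 1925 0)) (.leaf (.up 12 1016 1))))) (.node (.node (.node (.leaf (.up 6 1390 1)) (.leaf (.up 8 1204 1))) (.node (.leaf (.up 6 820 0)) (.leaf (.up 8 1716 1)))) (.node (.node (.leaf (.up 11 1918 1)) (.leaf (.up 13 1700 1))) (.node (.leaf (.up 3 481 0)) (.leaf (.up 9 1188 1)))))) (.node (.node (.node (.node (.leaf (.up 7 114 1)) (.leaf (.up 11 957 0))) (.node (.leaf (.up 9 626 1)) (.leaf (.up 7 936 1)))) (.node (.node (.leaf (.up 4 610 1)) (.leaf (.up 14 952 1))) (.node (.leaf (.up 6 1171 0)) (.leaf (.up 14 440 1))))) (.node (.node (.node (.leaf (.up 10 1838 1)) (.leaf (.up 12 1780 1))) (.node (.leaf (.up 10 1326 1)) (.leaf (.up 10 1268 1)))) (.node (.node (.leaf (.up 11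 714 0)) (.leaf (.up 11 1252 1))) (.node (.leaf (.up 7 759 0)) (.leaf (.up 9 1764 1))))))))

noncomputable def vt4_1_0111 : Tr VStep :=
  .node (.node (.node (.node (.node (.node (.node (.leaf (.up 10 282 1)) (.leaf (.up 6 192 1))) (.node (.leaf (.up 2 794 1)) (.leaf (.up 8 1591 0)))) (.node (.node (.leaf (.up 11 778 1)) (.leaf (.up 9 1247 0))) (.node (.leaf (.up 11 292 0)) (.leaf (.up 7 1250 0))))) (.node (.node (.node (.leaf (.up 9 1448 0)) (.leaf (.up 11 1948 1))) (.node (.leaf (.up 11 1429 0)) (.leaf (.up 11 83 0)))) (.node (.node (.leaf (.up 6 1110 1)) (.leaf (.up 10 699 0))) (.node (.leaf (.up 8 1856 0)) (.leaf (.up 6 1932 1)))))) (.node (.node (.node (.node (.leaf (.up 6 218 0)) (.leaf (.up 12 640 1))) (.node (.leaf (.up 6 231 0)) (.leaf (.up 12 128 1)))) (.node (.node (.leaf (.up 3 527 0)) (.leaf (.up 13 1993 0))) (.node (.leaf (.up 3 562 0)) (.leaf (.up 5 656 1))))) (.node (.node (.node (.leaf (.up 7 1030 1)) (.leaf (.up 11 1500 1))) (.node (.leaf (.up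 7 1542 1)) (.leaf (.up 9 837 0)))) (.node (.node (.leaf (.up 10 1131 0)) (.leaf (.up 4 1996 1))) (.node (.leaf (.up 6 1110 0)) (.leaf (.up 6 400 0))))))) (.node (.node (.node (.node (.node (.leaf (.up 12 1101 0)) (.leaf (.up 12 395 0))) (.node (.leaf (.up 6 1136 0)) (.leaf (.up 12 438 0)))) (.node (.node (.leaf (.up 11 298 1)) (.leaf (.up 9 240 1))) (.node (.leaf (.up 9 810 1)) (.leaf (.up 9 867 0))))) (.node (.node (.node (.leaf (.up 9 1126 1)) (.leaf (.up 7 2031 0))) (.node (.leaf (.up 13 532 0)) (.leaf (.up 9 1980 1)))) (.node (.node (.leaf (.up 4 252 0)) (.leaf (.up 4 1964 1))) (.node (.leaf (.up 12 1142 1)) (.leaf (.up 10 1452 1)))))) (.node (.node (.node (.node (.leaf (.up 10 1883 0)) (.leaf (.up 12 669 0))) (.node (.leaf (.up 10 890 1)) (.leaf (.up 8 672 0)))) (.node (.node (.leaf (.up 11 874 1)) (.leaf (.up 5 688 1))) (.node (.leaf (.up 11 1459 0)) (.leaf (.up 9 176 1))))) (.node (.node (.node (.leaf (.up 9 1574 1)) (.leaf (.up 13 2044 1))) (.node (.leaf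 (.up 11 1062 1)) (.leaf (.up 5 1532 1)))) (.node (.node (.leaf (.up 10 1078 1)) (.leaf (.up 8 1516 1))) (.node (.leaf (.up 8 1590 1)) (.leaf (.up 8 1553 0)))))))) (.node (.node (.node (.node (.node (.node (.leaf (.up 13 538 1)) (.leaf (.up 9 960 1))) (.node (.leaf (.up 9 26 1)) (.leaf (.up 7 190 0)))) (.node (.node (.leaf (.up 12 10 1)) (.leaf (.up 10 464 1))) (.node (.leaf (.up 8 1965 0)) (.leaf (.up 8 976 1))))) (.node (.node (.node (.leaf (.up 6 1350 1)) (.leaf (.up 8 1767 0))) (.node (.leaf (.up 12 796 0)) (.leaf (.up 12 1754 0)))) (.node (.node (.leaf (.up 9 500 0)) (.leaf (.up 13 1074 0))) (.node (.leaf (.up 3 457 0)) (.leaf (.up 9 1164 1)))))) (.node (.node (.node (.node (.leaf (.up 9 90 1)) (.leaf (.up 7 917 0))) (.node (.leaf (.up 9 602 1)) (.leaf (.up 7 936 0)))) (.node (.node (.leaf (.up 4 586 1)) (.leaf (.up 6 320 0))) (.node (.leaf (.up 12 1211 0)) (.leaf (.up 6 400 1))))) (.node (.node (.node (.leaf (.up 8 1798 1)) (.leaf (.up 8 1756 1))) (.node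 (.leaf (.up 8 1286 1)) (.leaf (.up 10 1484 0)))) (.node (.node (.leaf (.up 9 1302 1)) (.leaf (.up 11 1228 1))) (.node (.leaf (.up 9 1814 1)) (.leaf (.up 9 1817 0))))))) (.node (.node (.node (.node (.node (.leaf (.up 11 58 1)) (.leaf (.up 7 1794 0))) (.node (.leaf (.up 9 570 1)) (.leaf (.up 7 1855 0)))) (.node (.node (.leaf (.up 12 554 1)) (.leaf (.up 10 1008 1))) (.node (.leaf (.up 10 44 0)) (.leaf (.up 6 496 1))))) (.node (.node (.node (.leaf (.up 6 1184 0)) (.leaf (.up 4 358 0))) (.node (.leaf (.up 10 1382 1)) (.leaf (.up 10 1212 1)))) (.node (.node (.leaf (.up 11 1653 0)) (.leaf (.up 11 947 0))) (.node (.leaf (.up 11 1608 0)) (.leaf (.up 9 1708 1)))))) (.node (.node (.node (.node (.leaf (.up 9 634 1)) (.leaf (.up 11 1044 0))) (.node (.leaf (.up 9 122 1)) (.leaf (.up 7 1065 0)))) (.node (.node (.leaf (.up 12 106 1)) (.leaf (.up 6 1729 0))) (.node (.leaf (.up 12 618 1)) (.leaf (.up 10 1788 0))))) (.node (.node (.node (.leaf (.up 10 1974 0)) (.leaf (.up 10 624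 0))) (.node (.leaf (.up 12 1931 0)) (.leaf (.up 10 1788 1)))) (.node (.node (.leaf (.up 13 1379 0)) (.leaf (.up 11 1772 1))) (.node (.leaf (.up 7 1374 0)) (.leaf (.up 11 1260 1))))))))

noncomputable def vt4_1_011 : Tr VStep := .node vt4_1_0110 vt4_1_0111

noncomputable def vt4_1_01 : Tr VStep := .node vt4_1_010 vt4_1_011

noncomputable def vt4_1_0 : Tr VStep := .node vt4_1_00 vt4_1_01

noncomputable def vt4_1_1000 : Tr VStep :=
  .node (.node (.node (.node (.node (.node (.node (.leaf (.up 8 277 1)) (.leaf (.up 6 1704 0))) (.node (.leaf (.up 12 789 1)) (.leaf (.up 8 1685 0)))) (.node (.node (.leaf (.up 9 773 1)) (.leaf (.up 9 735 1))) (.node (.leaf (.up 9 390 0)) (.leaf (.up 11 1088 0))))) (.node (.node (.node (.leaf (.up 9 1290 0)) (.leaf (.up 9 204 0))) (.node (.leaf (.up 11 1097 1)) (.leaf (.up 9 1427 1)))) (.node (.node (.leaf (.up 10 1113 1)) (.leaf (.up 12 1411 1))) (.node (.leaf (.up 8 1625 1)) (.leaf (.up 8 1923 1)))))) (.node (.node (.node (.node (.leaf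 (.up 12 120 0)) (.leaf (.up 12 655 1))) (.node (.leaf (.up 10 69 0)) (.leaf (.up 12 143 1)))) (.node (.node (.leaf (.up 11 685 0)) (.leaf (.up 9 1899 0))) (.node (.leaf (.up 5 656 0)) (.leaf (.up 9 1878 0))))) (.node (.node (.node (.leaf (.up 11 1033 1)) (.leaf (.up 13 1491 1))) (.node (.leaf (.up 11 1569 0)) (.leaf (.up 5 2003 1)))) (.node (.node (.leaf (.up 10 1225 0)) (.leaf (.up 4 271 0))) (.node (.leaf (.up 10 1268 0)) (.leaf (.up 8 1475 1))))))) (.node (.node (.node (.node (.node (.leaf (.root 1286)) (.leaf (.up 10 297 0))) (.node (.leaf (.up 10 309 1)) (.leaf (.up 10 276 0)))) (.node (.node (.leaf (.up 7 1594 0)) (.leaf (.up 11 1020 0))) (.node (.leaf (.up 5 1543 0)) (.leaf (.up 11 961 0))))) (.node (.node (.node (.leaf (.up 11 1129 1)) (.leaf (.up 11 1459 1))) (.node (.leaf (.up 7 694 0)) (.leaf (.up 13 1904 0)))) (.node (.node (.leaf (.up 10 1657 1)) (.leaf (.up 8 1955 1))) (.node (.leaf (.up 10 99 0)) (.leaf (.up 10 1443 1)))))) (.node (.node (.node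 (.node (.leaf (.up 10 373 1)) (.leaf (.up 10 575 0))) (.node (.leaf (.up 10 1988 0)) (.leaf (.up 12 514 0)))) (.node (.node (.leaf (.up 11 869 1)) (.leaf (.up 5 703 1))) (.node (.leaf (.up 7 357 1)) (.leaf (.up 7 191 1))))) (.node (.node (.node (.leaf (.up 11 1577 1)) (.leaf (.up 9 1115 0))) (.node (.leaf (.up 7 1065 1)) (.leaf (.up 5 1523 1)))) (.node (.node (.leaf (.up 2 1081 1)) (.leaf (.up 8 1507 1))) (.node (.leaf (.up 6 1593 1)) (.leaf (.up 12 1715 0)))))))) (.node (.node (.node (.node (.node (.node (.leaf (.up 11 533 1)) (.leaf (.up 1 33 0))) (.node (.leaf (.up 11 1498 0)) (.leaf (.up 7 463 1)))) (.node (.node (.leaf (.up 6 5 1)) (.leaf (.up 10 756 0))) (.node (.leaf (.up 14 517 1)) (.leaf (.up 8 991 1))))) (.node (.node (.node (.leaf (.up 10 1353 1)) (.leaf (.up 6 1171 1))) (.node (.leaf (.up 12 1865 1)) (.leaf (.up 6 1683 1)))) (.node (.node (.leaf (.up 9 1881 1)) (.leaf (.up 11 1667 1))) (.node (.leaf (.up 11 363 0)) (.leaf (.up 11 1197 0)))))) (.node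 (.node (.node (.node (.leaf (.up 11 1777 0)) (.leaf (.up 11 823 0))) (.node (.leaf (.up 9 597 1)) (.leaf (.up 11 911 1)))) (.node (.node (.leaf (.up 8 581 1)) (.leaf (.up 6 482 0))) (.node (.leaf (.up 10 69 1)) (.leaf (.up 14 479 0))))) (.node (.node (.node (.leaf (.up 12 149 0)) (.leaf (.up 10 1747 1))) (.node (.leaf (.up 12 1289 1)) (.leaf (.up 6 1390 0)))) (.node (.node (.leaf (.up 5 576 0)) (.leaf (.up 11 1926 0))) (.node (.leaf (.up 9 1817 1)) (.leaf (.up 11 1731 1))))))) (.node (.node (.node (.node (.node (.leaf (.up 7 614 0)) (.leaf (.up 9 495 1))) (.node (.leaf (.up 9 603 0)) (.leaf (.up 5 1007 1)))) (.node (.node (.leaf (.up 8 179 0)) (.leaf (.up 8 1023 1))) (.node (.leaf (.up 6 37 1)) (.leaf (.up 8 1352 0))))) (.node (.node (.node (.leaf (.up 12 1026 0)) (.leaf (.up 8 452 0))) (.node (.leaf (.up 8 1087 0)) (.leaf (.up 10 1203 1)))) (.node (.node (.leaf (.up 9 1751 0)) (.leaf (.up 11 1187 1))) (.node (.leaf (.up 9 1913 1)) (.leaf (.up 9 812 0)))))) (.node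 (.node (.node (.node (.leaf (.up 9 368 0)) (.leaf (.up 9 1206 0))) (.node (.leaf (.up 9 333 0)) (.leaf (.up 11 431 1)))) (.node (.node (.leaf (.up 4 101 1)) (.leaf (.up 10 447 1))) (.node (.leaf (.up 8 920 0)) (.leaf (.up 8 959 1))))) (.node (.node (.node (.leaf (.up 8 1321 1)) (.leaf (.up 10 722 0))) (.node (.leaf (.up 12 1833 0)) (.leaf (.up 10 751 0)))) (.node (.node (.leaf (.up 5 1473 0)) (.leaf (.up 11 7 0))) (.node (.leaf (.up 5 1337 1)) (.leaf (.up 11 58 0))))))))

noncomputable def vt4_1_1001 : Tr VStep :=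
  .node (.node (.node (.node (.node (.node (.node (.leaf (.root 1148)) (.leaf (.up 10 711 1))) (.node (.leaf (.up 12 1274 0)) (.leaf (.up 14 199 1)))) (.node (.node (.leaf (.up 9 269 1)) (.leaf (.up 11 215 1))) (.node (.leaf (.up 5 1583 0)) (.leaf (.up 11 727 1))))) (.node (.node (.node (.leaf (.up 9 675 0)) (.leaf (.up 11 1893 0))) (.node (.leaf (.up 13 1601 1)) (.leaf (.up 9 1947 1)))) (.node (.node (.leaf (.up 8 118 0)) (.leaf (.up 12 1931 1))) (.node (.leaf (.up 12 75 0)) (.leaf (.up 6 1419 1)))))) (.node (.node (.node (.node (.leaf (.up 8 349 1)) (.leaf (.up 10 535 0))) (.node (.leaf (.up 12 861 1)) (.leaf (.up 12 554 0)))) (.node (.node (.leaf (.up 5 1284 0)) (.leaf (.up 9 663 1))) (.node (.leaf (.up 5 1337 0)) (.leaf (.up 11 151 1))))) (.node (.node (.node (.leaf (.up 9 1537 1)) (.leaf (.up 9 1139 0))) (.node (.leaf (.up 7 1025 1)) (.leaf (.up 13 1102 0)))) (.node (.node (.leaf (.up 2 1041 1)) (.leaf (.up 8 1702 0))) (.node (.leaf (.up 8 1553 1)) (.leaf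 (.up 12 1995 1))))))) (.node (.node (.node (.node (.node (.leaf (.up 8 838 0)) (.leaf (.up 6 1664 0))) (.node (.leaf (.up 12 891 0)) (.leaf (.up 10 1725 0)))) (.node (.node (.leaf (.up 9 403 0)) (.leaf (.up 7 759 1))) (.node (.leaf (.up 5 430 0)) (.leaf (.up 11 1128 0))))) (.node (.node (.node (.leaf (.up 13 1633 1)) (.leaf (.up 11 1979 1))) (.node (.leaf (.up 11 1121 1)) (.leaf (.up 11 1467 1)))) (.node (.node (.leaf (.up 10 2039 0)) (.leaf (.up 10 1451 1))) (.node (.leaf (.up 8 1994 0)) (.leaf (.up 6 1963 1)))))) (.node (.node (.node (.node (.leaf (.up 12 893 1)) (.leaf (.up 10 679 1))) (.node (.leaf (.up 10 381 1)) (.leaf (.up 10 1451 0)))) (.node (.node (.leaf (.up 11 365 1)) (.leaf (.up 7 183 1))) (.node (.leaf (.up 9 696 0)) (.leaf (.up 11 695 1))))) (.node (.node (.node (.leaf (.up 11 1588 0)) (.leaf (.up 11 1010 0))) (.node (.leaf (.up 11 1569 1)) (.leaf (.up 5 2043 1)))) (.node (.node (.leaf (.up 6 1585 1)) (.leaf (.up 4 295 0))) (.node (.leaf (.up 10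 1073 1)) (.leaf (.up 10 282 0)))))))) (.node (.node (.node (.node (.node (.node (.leaf (.up 7 590 0)) (.leaf (.up 9 455 1))) (.node (.leaf (.up 11 627 0)) (.leaf (.up 13 967 1)))) (.node (.node (.leaf (.up 10 525 1)) (.leaf (.up 8 1373 0))) (.node (.leaf (.up 6 13 1)) (.leaf (.up 8 1376 0))))) (.node (.node (.node (.leaf (.up 6 1066 0)) (.leaf (.up 12 492 0))) (.node (.leaf (.up 10 1345 1)) (.leaf (.up 6 465 0)))) (.node (.node (.leaf (.up 7 1361 1)) (.leaf (.up 11 825 0))) (.node (.leaf (.up 11 1730 0)) (.leaf (.up 13 1675 1)))))) (.node (.node (.node (.node (.leaf (.up 7 605 1)) (.leaf (.up 9 903 1))) (.node (.leaf (.up 7 357 0)) (.leaf (.up 7 391 1)))) (.node (.node (.leaf (.up 10 77 1)) (.leaf (.up 10 1611 0))) (.node (.leaf (.up 14 589 1)) (.leaf (.up 8 919 1))))) (.node (.node (.node (.leaf (.up 10 1281 1)) (.leaf (.up 2 762 0))) (.node (.leaf (.up 12 1793 0)) (.leaf (.up 6 1755 1)))) (.node (.node (.leaf (.up 5 1513 0)) (.leaf (.up 15 47 0))) (.node (.leaf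 (.up 11 1492 0)) (.leaf (.up 11 18 0))))))) (.node (.node (.node (.node (.node (.leaf (.up 11 573 1)) (.leaf (.up 1 9 0))) (.node (.leaf (.up 11 1522 0)) (.leaf (.up 5 52 0)))) (.node (.node (.leaf (.up 10 45 1)) (.leaf (.up 4 732 0))) (.node (.leaf (.up 10 557 1)) (.leaf (.up 8 1015 1))))) (.node (.node (.node (.leaf (.up 6 1377 1)) (.leaf (.up 8 1645 0))) (.node (.leaf (.up 8 918 0)) (.leaf (.up 8 1616 0)))) (.node (.node (.leaf (.up 9 1905 1)) (.leaf (.up 9 1208 0))) (.node (.leaf (.up 7 323 0)) (.leaf (.up 9 1195 1)))))) (.node (.node (.node (.node (.leaf (.up 7 125 1)) (.leaf (.up 9 799 0))) (.node (.leaf (.up 9 1764 0)) (.leaf (.up 9 935 1)))) (.node (.node (.leaf (.up 12 1036 0)) (.leaf (.up 12 951 1))) (.node (.leaf (.up 10 1073 0)) (.leaf (.up 8 439 1))))) (.node (.node (.node (.leaf (.up 12 1825 1)) (.leaf (.up 12 1787 1))) (.node (.leaf (.up 12 128 0)) (.leaf (.up 6 1350 0)))) (.node (.node (.leaf (.up 9 1329 1)) (.leaf (.up 11 1966 0))) (.node (.leaf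 (.up 9 597 0)) (.leaf (.up 13 1939 0))))))))

noncomputable def vt4_1_100 : Tr VStep := .node vt4_1_1000 vt4_1_1001

noncomputable def vt4_1_1010 : Tr VStep :=
  .node (.node (.node (.node (.node (.node (.node (.leaf (.up 5 791 1)) (.leaf (.up 3 291 0))) (.node (.leaf (.up 13 279 1)) (.leaf (.up 9 205 1)))) (.node (.node (.leaf (.up 12 263 1)) (.leaf (.up 4 221 1))) (.node (.leaf (.up 8 1549 0)) (.leaf (.up 6 971 0))))) (.node (.node (.node (.leaf (.up 12 641 0)) (.leaf (.up 12 1863 0))) (.node (.leaf (.up 10 700 0)) (.leaf (.up 12 1937 1)))) (.node (.node (.leaf (.up 11 84 0)) (.leaf (.up 9 1426 0))) (.node (.leaf (.up 9 1115 1)) (.leaf (.up 9 1455 0)))))) (.node (.node (.node (.node (.leaf (.up 9 343 1)) (.leaf (.up 9 565 0))) (.node (.leaf (.up 7 1998 0)) (.leaf (.up 9 520 0)))) (.node (.node (.leaf (.up 14 1318 0)) (.leaf (.up 12 669 1))) (.node (.leaf (.up 8 327 1)) (.leaf (.up 4 221 0))))) (.node (.node (.node (.leaf (.up 10 1547 1)) (.leaf (.up 12 1105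 0))) (.node (.leaf (.up 6 426 0)) (.leaf (.up 8 1132 0)))) (.node (.node (.leaf (.up 11 834 0)) (.leaf (.up 5 1473 1))) (.node (.leaf (.up 11 1563 1)) (.leaf (.up 9 1985 1))))))) (.node (.node (.node (.node (.node (.leaf (.up 5 868 0)) (.leaf (.up 11 237 1))) (.node (.leaf (.up 11 823 1)) (.leaf (.up 11 749 1)))) (.node (.node (.leaf (.up 10 807 1)) (.leaf (.up 10 1143 0))) (.node (.leaf (.up 4 295 1)) (.leaf (.up 10 1098 0))))) (.node (.node (.node (.leaf (.up 10 1643 1)) (.leaf (.up 10 1969 1))) (.node (.leaf (.up 10 1341 0)) (.leaf (.up 12 1457 1)))) (.node (.node (.leaf (.up 11 1147 1)) (.leaf (.up 9 531 0))) (.node (.leaf (.up 7 2024 0)) (.leaf (.up 7 558 0)))))) (.node (.node (.node (.node (.leaf (.up 3 887 1)) (.leaf (.up 7 1460 0))) (.node (.leaf (.up 11 375 1)) (.leaf (.up 13 173 1)))) (.node (.node (.leaf (.up 6 359 1)) (.leaf (.up 8 1889 0))) (.node (.leaf (.up 10 871 1)) (.leaf (.up 10 1884 0))))) (.node (.node (.node (.leaf (.up 10 1558 0)) (.leaf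 (.up 8 976 0))) (.node (.leaf (.up 6 1579 0)) (.leaf (.up 12 2033 1)))) (.node (.node (.leaf (.up 7 1595 1)) (.leaf (.up 13 261 0))) (.node (.leaf (.up 11 1083 1)) (.leaf (.up 9 1505 1)))))))) (.node (.node (.node (.node (.node (.node (.leaf (.up 10 23 1)) (.leaf (.up 8 461 1))) (.node (.leaf (.up 10 535 1)) (.leaf (.up 10 973 1)))) (.node (.node (.leaf (.up 7 185 0)) (.leaf (.up 7 1407 0))) (.node (.leaf (.up 11 132 0)) (.leaf (.up 5 477 1))))) (.node (.node (.node (.leaf (.up 11 1867 1)) (.leaf (.up 7 1681 1))) (.node (.leaf (.up 13 1077 0)) (.leaf (.up 7 1169 1)))) (.node (.node (.leaf (.up 4 1757 0)) (.leaf (.up 10 1153 1))) (.node (.leaf (.up 6 1760 0)) (.leaf (.up 10 1665 1)))))) (.node (.node (.node (.node (.leaf (.up 10 378 0)) (.leaf (.up 10 1212 0))) (.node (.leaf (.up 8 327 0)) (.leaf (.up 10 1153 0)))) (.node (.node (.leaf (.up 13 943 0)) (.leaf (.up 11 413 1))) (.node (.leaf (.up 11 914 0)) (.leaf (.up 7 925 1))))) (.node (.node (.node (.leaf (.up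 9 1822 0)) (.leaf (.up 11 1233 1))) (.node (.leaf (.up 13 1803 1)) (.leaf (.up 7 1745 1)))) (.node (.node (.leaf (.up 12 1819 1)) (.leaf (.up 6 1729 1))) (.node (.leaf (.up 12 1526 0)) (.leaf (.up 10 48 0))))))) (.node (.node (.node (.node (.node (.leaf (.up 6 1517 0)) (.leaf (.up 12 1005 1))) (.node (.leaf (.up 8 55 1)) (.leaf (.up 12 493 1)))) (.node (.node (.leaf (.up 9 1848 0)) (.leaf (.up 9 509 1))) (.node (.leaf (.up 3 551 1)) (.leaf (.up 9 707 0))))) (.node (.node (.node (.leaf (.up 13 905 0)) (.leaf (.up 9 1201 1))) (.node (.leaf (.up 9 1899 1)) (.leaf (.up 7 1650 0)))) (.node (.node (.leaf (.up 8 348 0)) (.leaf (.up 14 1178 0))) (.node (.leaf (.up 12 353 0)) (.leaf (.up 12 1185 1)))))) (.node (.node (.node (.node (.leaf (.up 12 119 1)) (.leaf (.up 8 429 1))) (.node (.leaf (.up 8 631 1)) (.leaf (.up 10 941 1)))) (.node (.node (.leaf (.up 9 615 1)) (.leaf (.up 11 957 1))) (.node (.leaf (.up 9 1043 0)) (.leaf (.up 13 469 0))))) (.node (.node (.node (.leaf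 (.up 9 1835 1)) (.leaf (.up 11 1777 1))) (.node (.leaf (.up 9 1323 1)) (.leaf (.up 11 1380 0)))) (.node (.node (.leaf (.up 4 586 0)) (.leaf (.up 6 1932 0))) (.node (.leaf (.up 8 631 0)) (.leaf (.up 6 1761 1))))))))

noncomputable def vt4_1_1011 : Tr VStep :=
  .node (.node (.node (.node (.node (.node (.node (.leaf (.up 5 844 0)) (.leaf (.up 11 1674 0))) (.node (.leaf (.up 9 881 0)) (.leaf (.up 7 709 1)))) (.node (.node (.leaf (.up 8 409 0)) (.leaf (.up 10 1119 0))) (.node (.leaf (.up 4 271 1)) (.leaf (.up 6 1122 0))))) (.node (.node (.node (.leaf (.up 12 1603 1)) (.leaf (.up 10 238 0))) (.node (.leaf (.up 8 1301 0)) (.leaf (.up 12 211 0)))) (.node (.node (.leaf (.up 9 1107 1)) (.leaf (.up 9 571 0))) (.node (.leaf (.up 13 1619 1)) (.leaf (.up 3 518 0)))))) (.node (.node (.node (.node (.leaf (.up 9 90 0)) (.leaf (.up 11 1436 0))) (.node (.leaf (.up 13 351 1)) (.leaf (.up 9 1441 0)))) (.node (.node (.leaf (.up 8 335 1)) (.leaf (.up 12 149 1))) (.node (.leaf (.up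 8 847 1)) (.leaf (.up 14 661 1))))) (.node (.node (.node (.leaf (.up 8 1598 0)) (.leaf (.up 12 1016 0))) (.node (.leaf (.up 6 1539 0)) (.leaf (.up 12 2009 1)))) (.node (.node (.leaf (.up 7 1555 1)) (.leaf (.up 9 301 0))) (.node (.leaf (.up 9 1043 1)) (.leaf (.up 9 1481 1))))))) (.node (.node (.node (.node (.node (.leaf (.up 9 831 1)) (.leaf (.up 3 267 0))) (.node (.leaf (.up 9 1264 0)) (.leaf (.up 11 310 0)))) (.node (.node (.leaf (.up 8 303 1)) (.leaf (.up 10 990 0))) (.node (.leaf (.up 12 815 1)) (.leaf (.up 6 995 0))))) (.node (.node (.node (.leaf (.up 12 681 0)) (.leaf (.up 10 1465 1))) (.node (.leaf (.up 10 660 0)) (.leaf (.up 10 1977 1)))) (.node (.node (.leaf (.up 7 124 0)) (.leaf (.up 7 1961 1))) (.node (.leaf (.up 9 1139 1)) (.leaf (.up 7 1415 0)))))) (.node (.node (.node (.node (.leaf (.up 13 2011 0)) (.leaf (.up 11 165 1))) (.node (.leaf (.up 11 895 1)) (.leaf (.up 7 544 0)))) (.node (.node (.leaf (.up 10 879 1)) (.leaf (.up 6 200 0))) (.node (.leaf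 (.up 8 1331 0)) (.leaf (.up 10 245 0))))) (.node (.node (.node (.leaf (.up 10 447 0)) (.leaf (.up 10 1145 0))) (.node (.leaf (.up 10 1059 1)) (.leaf (.up 8 1092 0)))) (.node (.node (.leaf (.up 11 874 0)) (.leaf (.up 5 1513 1))) (.node (.leaf (.up 11 855 0)) (.leaf (.up 7 1681 0)))))))) (.node (.node (.node (.node (.node (.node (.leaf (.up 6 1477 0)) (.leaf (.up 12 965 1))) (.node (.leaf (.up 10 1528 0)) (.leaf (.up 12 62 0)))) (.node (.node (.leaf (.up 11 15 1)) (.leaf (.up 9 726 0))) (.node (.leaf (.up 3 527 1)) (.leaf (.up 13 747 0))))) (.node (.node (.node (.leaf (.up 7 1347 1)) (.leaf (.up 13 1639 0))) (.node (.leaf (.up 11 924 0)) (.leaf (.up 7 1689 1)))) (.node (.node (.leaf (.up 10 372 0)) (.leaf (.up 10 1673 1))) (.node (.leaf (.up 6 329 0)) (.leaf (.up 8 1167 0)))))) (.node (.node (.node (.node (.leaf (.up 10 1747 0)) (.leaf (.up 12 789 0))) (.node (.leaf (.up 6 1774 0)) (.leaf (.up 10 808 0)))) (.node (.node (.leaf (.up 7 1030 0)) (.leaf (.up 7 917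 1))) (.node (.leaf (.up 11 1083 0)) (.leaf (.up 5 405 1))))) (.node (.node (.node (.leaf (.up 3 1795 1)) (.leaf (.up 7 1753 1))) (.node (.leaf (.up 9 1283 1)) (.leaf (.up 3 1241 1)))) (.node (.node (.leaf (.up 4 610 0)) (.leaf (.up 10 1225 1))) (.node (.leaf (.up 10 1811 1)) (.leaf (.up 14 1945 0))))))) (.node (.node (.node (.node (.node (.leaf (.up 10 63 1)) (.leaf (.up 8 485 1))) (.node (.leaf (.up 10 633 0)) (.leaf (.up 12 997 1)))) (.node (.node (.leaf (.up 11 559 1)) (.leaf (.up 9 1013 1))) (.node (.leaf (.up 11 172 0)) (.leaf (.up 5 501 1))))) (.node (.node (.node (.leaf (.up 11 1891 1)) (.leaf (.up 9 486 0))) (.node (.leaf (.up 13 1379 1)) (.leaf (.up 9 475 0)))) (.node (.node (.leaf (.up 12 1395 1)) (.leaf (.up 12 819 0))) (.node (.leaf (.up 10 1736 0)) (.leaf (.up 12 1705 1)))))) (.node (.node (.node (.node (.leaf (.up 6 338 0)) (.leaf (.up 8 933 1))) (.node (.leaf (.up 12 127 1)) (.leaf (.up 12 421 1)))) (.node (.node (.leaf (.up 9 903 0)) (.leaf (.up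 9 437 1))) (.node (.leaf (.up 11 954 0)) (.leaf (.up 9 1660 0))))) (.node (.node (.node (.leaf (.up 9 1315 1)) (.leaf (.up 13 752 0))) (.node (.leaf (.up 13 1803 0)) (.leaf (.up 7 1785 1)))) (.node (.node (.leaf (.up 8 1507 0)) (.leaf (.up 6 1769 1))) (.node (.leaf (.up 8 1331 1)) (.leaf (.up 12 1257 1))))))))

noncomputable def vt4_1_101 : Tr VStep := .node vt4_1_1010 vt4_1_1011

noncomputable def vt4_1_10 : Tr VStep := .node vt4_1_100 vt4_1_101

noncomputable def vt4_1_1100 : Tr VStep :=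
  .node (.node (.node (.node (.node (.node (.node (.leaf (.up 15 1127 0)) (.leaf (.up 11 715 1))) (.node (.leaf (.up 7 273 1)) (.leaf (.up 5 203 1)))) (.node (.node (.leaf (.up 10 1714 0)) (.leaf (.up 8 884 0))) (.node (.leaf (.up 10 1679 0)) (.leaf (.up 2 731 1))))) (.node (.node (.node (.leaf (.up 8 515 0)) (.leaf (.up 10 1989 0))) (.node (.leaf (.up 10 574 0)) (.leaf (.up 10 2040 0)))) (.node (.node (.leaf (.up 11 1629 1)) (.leaf (.up 11 1296 0))) (.node (.leaf (.up 13 1117 1)) (.leaf (.up 7 1415 1)))))) (.node (.node (.node (.node (.leaf (.up 9 1905 0)) (.leaf (.up 7 139 1))) (.node (.leaf (.up 11 1868 0)) (.leaf (.up 11 650 0)))) (.node (.node (.leaf (.up 6 833 1)) (.leaf (.up 6 667 1))) (.node (.leaf (.up 12 321 1)) (.leaf (.up 10 95 0))))) (.node (.node (.node (.leaf (.up 8 1549 1)) (.leaf (.up 10 2007 1))) (.node (.leaf (.up 8 296 0)) (.leaf (.up 10 1495 1)))) (.node (.node (.leaf (.up 9 960 0)) (.leaf (.up 7 1542 0))) (.node (.leaf (.up 9 1021 0)) (.leaf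 (.up 7 1595 0))))))) (.node (.node (.node (.node (.node (.leaf (.up 9 305 1)) (.leaf (.up 9 1568 0))) (.node (.leaf (.up 7 987 0)) (.leaf (.up 13 1565 0)))) (.node (.node (.leaf (.up 2 307 0)) (.leaf (.up 8 763 1))) (.node (.leaf (.up 8 289 1)) (.leaf (.up 12 251 1))))) (.node (.node (.node (.leaf (.up 8 1645 1)) (.leaf (.up 10 68 0))) (.node (.leaf (.up 8 1471 0)) (.leaf (.up 8 1463 1)))) (.node (.node (.leaf (.up 9 1879 0)) (.leaf (.up 9 1447 1))) (.node (.leaf (.up 13 1898 0)) (.leaf (.up 7 684 0)))))) (.node (.node (.node (.node (.leaf (.up 9 240 0)) (.leaf (.up 11 1334 0))) (.node (.leaf (.up 5 369 1)) (.leaf (.up 9 171 1)))) (.node (.node (.leaf (.up 12 549 0)) (.leaf (.up 12 187 1))) (.node (.leaf (.up 8 865 1)) (.leaf (.up 10 699 1))))) (.node (.node (.node (.leaf (.up 4 1069 1)) (.leaf (.up 10 850 0))) (.node (.leaf (.up 12 1705 0)) (.leaf (.up 10 2039 1)))) (.node (.node (.leaf (.up 13 1597 1)) (.leaf (.up 7 391 0))) (.node (.leaf (.up 5 1148 0)) (.leaf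 (.up 11 1511 1)))))))) (.node (.node (.node (.node (.node (.node (.leaf (.up 12 17 1)) (.leaf (.up 8 1832 0))) (.node (.leaf (.up 8 723 0)) (.leaf (.up 6 1813 0)))) (.node (.node (.leaf (.up 9 59 0)) (.leaf (.up 7 1533 0))) (.node (.leaf (.up 9 6 0)) (.leaf (.up 9 475 1))))) (.node (.node (.node (.leaf (.up 11 1162 0)) (.leaf (.up 5 332 0))) (.node (.leaf (.up 9 1207 0)) (.leaf (.up 5 369 0)))) (.node (.node (.leaf (.up 8 1373 1)) (.leaf (.up 8 1159 1))) (.node (.leaf (.up 6 1885 1)) (.leaf (.up 12 1671 1)))))) (.node (.node (.node (.node (.leaf (.up 10 504 0)) (.leaf (.up 8 1086 0))) (.node (.leaf (.up 12 453 0)) (.leaf (.up 12 395 1)))) (.node (.node (.leaf (.up 13 65 1)) (.leaf (.up 9 411 1))) (.node (.leaf (.up 11 577 1)) (.leaf (.up 13 1750 0))))) (.node (.node (.node (.leaf (.up 11 1293 1)) (.leaf (.up 9 602 0))) (.node (.leaf (.up 7 1805 1)) (.leaf (.up 9 615 0)))) (.node (.node (.leaf (.up 10 1353 0)) (.leaf (.up 12 143 0))) (.node (.leaf (.up 10 1309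 1)) (.leaf (.up 4 1223 1))))))) (.node (.node (.node (.node (.node (.leaf (.up 10 1391 0)) (.leaf (.up 14 169 0))) (.node (.leaf (.up 8 1362 0)) (.leaf (.up 10 148 0)))) (.node (.node (.leaf (.up 1 33 1)) (.leaf (.up 7 507 1))) (.node (.leaf (.up 11 1927 0)) (.leaf (.up 11 1019 1))))) (.node (.node (.node (.leaf (.up 7 1389 1)) (.leaf (.up 9 1207 1))) (.node (.leaf (.up 11 822 0)) (.leaf (.up 11 1776 0)))) (.node (.node (.leaf (.up 10 1917 1)) (.leaf (.up 10 1703 1))) (.node (.leaf (.up 10 1405 1)) (.leaf (.up 12 1061 0)))))) (.node (.node (.node (.node (.leaf (.up 10 113 1)) (.leaf (.up 8 959 0))) (.node (.leaf (.up 10 625 1)) (.leaf (.up 10 898 0)))) (.node (.node (.leaf (.up 11 609 1)) (.leaf (.up 11 955 1))) (.node (.leaf (.up 7 1169 0)) (.leaf (.up 9 343 0))))) (.node (.node (.node (.leaf (.up 7 29 0)) (.leaf (.up 13 1783 1))) (.node (.leaf (.up 11 1325 1)) (.leaf (.up 13 1510 0)))) (.node (.node (.leaf (.up 6 712 0)) (.leaf (.up 4 1255 1))) (.node (.leaf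 (.up 6 1853 1)) (.leaf (.up 8 1767 1))))))))

noncomputable def vt4_1_1101 : Tr VStep :=
  .node (.node (.node (.node (.node (.node (.node (.leaf (.up 7 974 0)) (.leaf (.up 9 1544 0))) (.node (.leaf (.up 7 1011 0)) (.leaf (.up 9 707 1)))) (.node (.node (.leaf (.up 2 283 0)) (.leaf (.up 8 1245 0))) (.node (.leaf (.up 10 294 0)) (.leaf (.up 12 211 1))))) (.node (.node (.node (.leaf (.up 6 1450 0)) (.leaf (.up 10 1951 1))) (.node (.leaf (.up 10 1093 1)) (.leaf (.up 12 1439 1)))) (.node (.node (.leaf (.up 11 1919 0)) (.leaf (.up 5 1423 1))) (.node (.leaf (.up 11 1621 1)) (.leaf (.up 11 644 0)))))) (.node (.node (.node (.node (.leaf (.up 11 216 0)) (.leaf (.up 11 643 1))) (.node (.leaf (.up 11 229 0)) (.leaf (.up 9 131 1)))) (.node (.node (.leaf (.up 6 329 1)) (.leaf (.up 12 1995 0))) (.node (.leaf (.up 6 560 0)) (.leaf (.up 10 2038 0))))) (.node (.node (.node (.leaf (.up 4 1029 1)) (.leaf (.up 10 890 0))) (.node (.leaf (.up 10 1541 1)) (.leaf (.up 14 839 0)))) (.node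 (.node (.leaf (.up 11 1557 1)) (.leaf (.up 11 431 0))) (.node (.leaf (.up 5 1108 0)) (.leaf (.up 11 402 0))))))) (.node (.node (.node (.node (.node (.leaf (.up 11 825 1)) (.leaf (.up 9 393 0))) (.node (.leaf (.up 11 1138 0)) (.leaf (.up 5 227 1)))) (.node (.node (.leaf (.up 10 1690 0)) (.leaf (.up 8 860 0))) (.node (.leaf (.up 6 809 1)) (.leaf (.up 8 865 0))))) (.node (.node (.node (.leaf (.up 8 1125 1)) (.leaf (.up 8 1471 1))) (.node (.leaf (.up 14 534 0)) (.leaf (.up 8 2000 0)))) (.node (.node (.leaf (.up 11 1653 1)) (.leaf (.up 9 1967 1))) (.node (.leaf (.up 9 195 0)) (.leaf (.up 5 1285 0)))))) (.node (.node (.node (.node (.leaf (.up 9 1881 0)) (.leaf (.up 9 163 1))) (.node (.leaf (.up 11 1892 0)) (.leaf (.up 9 675 1)))) (.node (.node (.leaf (.up 10 873 1)) (.leaf (.up 12 74 0))) (.node (.leaf (.up 12 1457 0)) (.leaf (.up 8 179 1))))) (.node (.node (.node (.leaf (.up 12 317 0)) (.leaf (.up 10 2047 1))) (.node (.leaf (.up 12 256 0)) (.leaf (.up 12 1222 0))))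 (.node (.node (.leaf (.up 13 1077 1)) (.leaf (.up 9 1519 1))) (.node (.leaf (.up 13 1589 1)) (.leaf (.up 7 1555 0)))))))) (.node (.node (.node (.node (.node (.node (.leaf (.up 8 1351 0)) (.leaf (.up 10 129 0))) (.node (.leaf (.up 8 1402 0)) (.leaf (.up 10 188 0)))) (.node (.node (.leaf (.up 1 9 1)) (.leaf (.up 11 596 0))) (.node (.leaf (.up 9 1967 0)) (.leaf (.up 11 979 1))))) (.node (.node (.node (.leaf (.up 9 803 0)) (.leaf (.up 9 1183 1))) (.node (.leaf (.up 5 1861 1)) (.leaf (.up 11 1752 0)))) (.node (.node (.leaf (.up 8 1877 1)) (.leaf (.up 10 1679 1))) (.node (.leaf (.up 12 459 0)) (.leaf (.up 8 1167 1)))))) (.node (.node (.node (.node (.leaf (.up 8 89 1)) (.leaf (.up 8 919 0))) (.node (.leaf (.up 8 601 1)) (.leaf (.up 10 938 0)))) (.node (.node (.leaf (.up 9 1156 0)) (.leaf (.up 7 915 1))) (.node (.leaf (.up 9 1209 0)) (.leaf (.up 9 403 1))))) (.node (.node (.node (.leaf (.up 7 53 0)) (.leaf (.up 5 1523 0))) (.node (.leaf (.up 1 8 0)) (.leaf (.up 5 1486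 0)))) (.node (.node (.leaf (.up 8 1301 1)) (.leaf (.up 12 1231 1))) (.node (.leaf (.up 6 1813 1)) (.leaf (.up 12 1819 0))))))) (.node (.node (.node (.node (.node (.leaf (.up 8 710 0)) (.leaf (.up 10 1792 0))) (.node (.leaf (.up 8 763 0)) (.leaf (.up 6 1853 0)))) (.node (.node (.leaf (.up 13 553 1)) (.leaf (.up 7 1493 0))) (.node (.leaf (.up 9 41 1)) (.leaf (.up 7 499 1))))) (.node (.node (.node (.leaf (.up 11 1893 1)) (.leaf (.up 11 1727 1))) (.node (.leaf (.up 9 1381 1)) (.leaf (.up 11 1215 1)))) (.node (.node (.leaf (.up 12 1397 1)) (.leaf (.up 10 945 0))) (.node (.leaf (.up 10 1610 0)) (.leaf (.up 10 1711 1)))))) (.node (.node (.node (.node (.leaf (.up 10 633 1)) (.leaf (.up 10 1046 0))) (.node (.leaf (.up 8 121 1)) (.leaf (.up 10 419 1)))) (.node (.node (.leaf (.up 9 773 0)) (.leaf (.up 11 435 1))) (.node (.leaf (.up 11 824 0)) (.leaf (.up 11 947 1))))) (.node (.node (.node (.leaf (.up 11 1317 1)) (.leaf (.up 9 626 0))) (.node (.leaf (.up 7 1929 0)) (.leaf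 (.up 11 591 0)))) (.node (.node (.leaf (.up 6 1377 0)) (.leaf (.up 10 1775 1))) (.node (.leaf (.up 10 1333 1)) (.leaf (.up 4 1263 1))))))))

noncomputable def vt4_1_110 : Tr VStep := .node vt4_1_1100 vt4_1_1101

noncomputable def vt4_1_1110 : Tr VStep :=
  .node (.node (.node (.node (.node (.node (.node (.leaf (.up 10 275 1)) (.leaf (.up 10 201 1))) (.node (.leaf (.up 10 977 0)) (.leaf (.up 4 1559 0)))) (.node (.node (.leaf (.up 11 771 1)) (.leaf (.up 9 1279 0))) (.node (.leaf (.up 11 260 0)) (.leaf (.up 7 1218 0))))) (.node (.node (.node (.leaf (.up 9 1416 0)) (.leaf (.up 7 78 0))) (.node (.leaf (.up 11 1103 1)) (.leaf (.up 11 115 0)))) (.node (.node (.leaf (.up 6 1885 0)) (.leaf (.up 6 667 0))) (.node (.leaf (.up 8 1888 0)) (.leaf (.up 10 1925 1)))))) (.node (.node (.node (.node (.leaf (.up 12 851 1)) (.leaf (.up 10 1340 0))) (.node (.leaf (.up 14 339 1)) (.leaf (.up 10 137 1)))) (.node (.node (.leaf (.up 7 323 1)) (.leaf (.up 7 153 1))) (.node (.leaf (.up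 13 530 0)) (.leaf (.up 11 665 1))))) (.node (.node (.node (.leaf (.up 13 1039 1)) (.leaf (.up 3 856 0))) (.node (.leaf (.up 9 1699 0)) (.leaf (.up 11 869 0)))) (.node (.node (.leaf (.up 8 1567 1)) (.leaf (.up 10 1989 1))) (.node (.leaf (.up 12 1055 1)) (.leaf (.up 6 432 0))))))) (.node (.node (.node (.node (.node (.leaf (.up 12 1133 0)) (.leaf (.up 12 427 0))) (.node (.leaf (.up 2 307 1)) (.leaf (.up 8 406 0)))) (.node (.node (.leaf (.up 3 291 1)) (.leaf (.up 13 249 1))) (.node (.leaf (.up 9 803 1)) (.leaf (.up 13 761 1))))) (.node (.node (.node (.leaf (.up 9 1135 1)) (.leaf (.up 11 1999 0))) (.node (.leaf (.up 9 1647 1)) (.leaf (.up 9 2034 0)))) (.node (.node (.leaf (.up 8 220 0)) (.leaf (.up 8 1957 1))) (.node (.leaf (.up 8 1151 1)) (.leaf (.up 10 1445 1)))))) (.node (.node (.node (.node (.leaf (.up 12 371 1)) (.leaf (.up 14 169 1))) (.node (.leaf (.up 8 883 1)) (.leaf (.up 12 681 1)))) (.node (.node (.leaf (.up 5 1454 0)) (.leaf (.up 9 104 0))) (.node (.leaf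 (.up 9 1427 0)) (.leaf (.up 7 185 1))))) (.node (.node (.node (.leaf (.up 5 1583 1)) (.leaf (.up 3 1241 0))) (.node (.leaf (.up 13 1071 1)) (.leaf (.up 7 1525 1)))) (.node (.node (.leaf (.up 8 1087 1)) (.leaf (.up 10 1548 0))) (.node (.leaf (.up 4 1599 1)) (.leaf (.up 6 1585 0)))))))) (.node (.node (.node (.node (.node (.node (.leaf (.up 9 1381 0)) (.leaf (.up 9 969 1))) (.node (.leaf (.up 9 1368 0)) (.leaf (.up 3 457 1)))) (.node (.node (.leaf (.up 12 1968 0)) (.leaf (.up 6 473 1))) (.node (.leaf (.up 4 1933 0)) (.leaf (.up 12 985 1))))) (.node (.node (.node (.leaf (.up 10 1359 1)) (.leaf (.up 8 1173 1))) (.node (.leaf (.up 8 828 0)) (.leaf (.up 8 1685 1)))) (.node (.node (.leaf (.up 13 468 0)) (.leaf (.up 13 1042 0))) (.node (.leaf (.up 7 489 0)) (.leaf (.up 13 1071 0)))))) (.node (.node (.node (.node (.leaf (.up 11 83 1)) (.leaf (.up 9 393 1))) (.node (.leaf (.up 13 1614 0)) (.leaf (.up 9 904 0)))) (.node (.node (.leaf (.up 8 1190 0)) (.leaf (.up 12 352 0)))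 (.node (.leaf (.up 10 67 1)) (.leaf (.up 8 409 1))))) (.node (.node (.node (.leaf (.up 10 23 0)) (.leaf (.up 8 1749 1))) (.node (.leaf (.up 10 42 0)) (.leaf (.up 8 1516 0)))) (.node (.node (.leaf (.up 11 706 0)) (.leaf (.up 9 1796 0))) (.node (.leaf (.up 7 1823 1)) (.leaf (.up 9 1849 0))))))) (.node (.node (.node (.node (.node (.leaf (.up 7 740 0)) (.leaf (.up 3 1826 0))) (.node (.leaf (.up 9 563 1)) (.leaf (.up 7 1823 0)))) (.node (.node (.leaf (.up 8 547 1)) (.leaf (.up 10 1017 1))) (.node (.leaf (.up 10 35 1)) (.leaf (.up 6 1482 0))))) (.node (.node (.node (.leaf (.up 6 1152 0)) (.leaf (.up 8 1717 1))) (.node (.leaf (.up 10 1391 1)) (.leaf (.up 10 1205 1)))) (.node (.node (.leaf (.up 7 1407 1)) (.leaf (.up 7 915 0))) (.node (.leaf (.up 11 1919 1)) (.leaf (.up 13 942 0)))))) (.node (.node (.node (.node (.leaf (.up 11 498 0)) (.leaf (.up 9 937 1))) (.node (.leaf (.up 7 463 0)) (.leaf (.up 11 1033 0)))) (.node (.node (.leaf (.up 10 99 1)) (.leaf (.up 6 1761 0)))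 (.node (.leaf (.up 2 794 0)) (.leaf (.up 8 953 1))))) (.node (.node (.node (.leaf (.up 10 1942 0)) (.leaf (.up 12 592 0))) (.node (.leaf (.up 6 1963 0)) (.leaf (.up 12 621 0)))) (.node (.node (.leaf (.up 7 1855 1)) (.leaf (.up 13 1765 1))) (.node (.leaf (.up 7 1406 0)) (.leaf (.up 9 184 0))))))))

noncomputable def vt4_1_1111 : Tr VStep :=
  .node (.node (.node (.node (.node (.node (.node (.leaf (.up 10 795 1)) (.leaf (.up 12 387 0))) (.node (.leaf (.up 2 283 1)) (.leaf (.up 12 446 0)))) (.node (.node (.leaf (.up 3 267 1)) (.leaf (.up 13 209 1))) (.node (.leaf (.up 11 779 1)) (.leaf (.up 13 875 0))))) (.node (.node (.node (.leaf (.up 11 1095 1)) (.leaf (.up 7 2023 0))) (.node (.leaf (.up 11 540 0)) (.leaf (.up 9 2010 0)))) (.node (.node (.leaf (.up 10 244 0)) (.leaf (.up 4 1933 1))) (.node (.leaf (.up 10 201 0)) (.leaf (.up 10 1421 1)))))) (.node (.node (.node (.node (.leaf (.up 10 347 1)) (.leaf (.up 10 129 1))) (.node (.leaf (.up 10 1902 0)) (.leaf (.up 8 680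 0)))) (.node (.node (.leaf (.up 7 843 1)) (.leaf (.up 9 64 0))) (.node (.leaf (.up 7 331 1)) (.leaf (.up 7 125 0))))) (.node (.node (.node (.leaf (.up 5 1543 1)) (.leaf (.up 11 1265 0))) (.node (.leaf (.up 11 1031 1)) (.leaf (.up 11 1501 1)))) (.node (.node (.leaf (.up 6 994 0)) (.leaf (.up 10 1572 0))) (.node (.leaf (.up 4 1559 1)) (.leaf (.up 10 1997 1))))))) (.node (.node (.node (.node (.node (.leaf (.up 14 315 1)) (.leaf (.up 12 225 1))) (.node (.leaf (.up 10 1017 0)) (.leaf (.up 4 1599 0)))) (.node (.node (.leaf (.up 7 811 1)) (.leaf (.up 9 1239 0))) (.node (.leaf (.up 11 299 1)) (.leaf (.up 9 241 1))))) (.node (.node (.node (.leaf (.up 13 1639 1)) (.leaf (.up 9 102 0))) (.node (.leaf (.up 11 1437 0)) (.leaf (.up 9 91 0)))) (.node (.node (.leaf (.up 10 1143 1)) (.leaf (.up 8 1453 1))) (.node (.leaf (.up 12 1655 1)) (.leaf (.up 8 1965 1)))))) (.node (.node (.node (.node (.leaf (.up 12 891 1)) (.leaf (.up 8 673 1))) (.node (.leaf (.up 10 379 1)) (.leaf (.up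 8 1321 0)))) (.node (.node (.leaf (.up 11 519 0)) (.leaf (.up 9 1985 0))) (.node (.leaf (.up 9 570 0)) (.leaf (.up 9 689 1))))) (.node (.node (.node (.leaf (.up 9 1718 0)) (.leaf (.up 3 880 0))) (.node (.leaf (.up 9 1575 1)) (.leaf (.up 9 845 0)))) (.node (.node (.leaf (.up 8 1591 1)) (.leaf (.up 8 2029 1))) (.node (.leaf (.up 4 1079 1)) (.leaf (.up 6 408 0)))))))) (.node (.node (.node (.node (.node (.node (.leaf (.up 9 27 1)) (.leaf (.up 11 449 1))) (.node (.leaf (.up 9 539 1)) (.leaf (.up 7 1847 0)))) (.node (.node (.leaf (.up 8 523 1)) (.leaf (.up 10 977 1))) (.node (.leaf (.up 8 11 1)) (.leaf (.up 6 465 1))))) (.node (.node (.node (.leaf (.up 12 1863 1)) (.leaf (.up 8 1693 1))) (.node (.leaf (.up 8 1173 0)) (.leaf (.up 14 339 0)))) (.node (.node (.leaf (.up 13 1367 1)) (.leaf (.up 11 955 0))) (.node (.leaf (.up 9 1879 1)) (.leaf (.up 9 902 0)))))) (.node (.node (.node (.node (.leaf (.up 9 474 0)) (.leaf (.up 9 897 1))) (.node (.leaf (.up 9 487 0)) (.leaf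 (.up 11 385 1)))) (.node (.node (.leaf (.up 12 75 1)) (.leaf (.up 10 401 1))) (.node (.leaf (.up 12 818 0)) (.leaf (.up 12 1780 0))))) (.node (.node (.node (.leaf (.up 10 1982 0)) (.leaf (.up 8 632 0))) (.node (.leaf (.up 8 1923 0)) (.leaf (.up 4 1757 1)))) (.node (.node (.leaf (.up 13 1387 0)) (.leaf (.up 13 1741 1))) (.node (.leaf (.up 7 1366 0)) (.leaf (.up 13 1229 1))))))) (.node (.node (.node (.node (.node (.leaf (.up 9 571 1)) (.leaf (.up 7 993 1))) (.node (.leaf (.up 9 59 1)) (.leaf (.up 3 481 1)))) (.node (.node (.leaf (.up 12 1944 0)) (.leaf (.up 6 497 1))) (.node (.leaf (.up 8 1957 0)) (.leaf (.up 6 1009 1))))) (.node (.node (.node (.leaf (.up 6 809 0)) (.leaf (.up 10 1213 1))) (.node (.leaf (.up 4 788 0)) (.leaf (.up 10 1725 1)))) (.node (.node (.leaf (.up 9 1911 1)) (.leaf (.up 7 1082 0))) (.node (.leaf (.up 7 1399 1)) (.leaf (.up 11 1031 0)))))) (.node (.node (.node (.node (.leaf (.up 11 123 1)) (.leaf (.up 7 925 0))) (.node (.leaf (.up 9 635 1))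 (.leaf (.up 11 928 0)))) (.node (.node (.leaf (.up 12 619 1)) (.leaf (.up 6 328 0))) (.node (.leaf (.up 10 107 1)) (.leaf (.up 10 373 0))))) (.node (.node (.node (.leaf (.up 10 63 0)) (.leaf (.up 8 1789 1))) (.node (.leaf (.up 10 2 0)) (.leaf (.up 10 1476 0)))) (.node (.node (.leaf (.up 11 1335 1)) (.leaf (.up 11 1836 0))) (.node (.leaf (.up 7 1847 1)) (.leaf (.up 9 1809 0))))))))

noncomputable def vt4_1_111 : Tr VStep := .node vt4_1_1110 vt4_1_1111

noncomputable def vt4_1_11 : Tr VStep := .node vt4_1_110 vt4_1_111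

noncomputable def vt4_1_1 : Tr VStep := .node vt4_1_10 vt4_1_11

noncomputable def vt4_1_ : Tr VStep := .node vt4_1_0 vt4_1_1

noncomputable def vt4_2_0000 : Tr VStep :=
  .node (.node (.node (.node (.node (.node (.node (.leaf (.root 886)) (.leaf (.up 11 1601 1))) (.node (.leaf (.up 8 1121 0)) (.leaf (.up 7 558 0)))) (.node (.node (.leaf (.up 5 1731 1)) (.leaf (.up 8 1307 1))) (.node (.leaf (.up 3 1666 0)) (.leaf (.up 12 205 0))))) (.node (.node (.node (.leaf (.up 10 1603 1)) (.leaf (.up 8 1695 0))) (.node (.leaf (.up 12 557 1)) (.leaf (.up 5 1987 0)))) (.node (.node (.leaf (.up 11 563 0)) (.leaf (.up 6 1148 0))) (.node (.leaf (.up 9 375 1)) (.leaf (.up 11 1312 0)))))) (.node (.node (.node (.node (.leaf (.up 10 313 0)) (.leaf (.up 12 188 1))) (.node (.leaf (.up 5 101 0)) (.leaf (.up 10 1234 1)))) (.node (.node (.leaf (.up 11 986 0)) (.leaf (.up 9 998 1))) (.node (.leaf (.up 9 1104 1)) (.leaf (.up 10 1225 0))))) (.node (.node (.node (.leaf (.up 8 1236 0)) (.leaf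 (.up 11 667 0))) (.node (.leaf (.up 10 1232 1)) (.leaf (.up 12 1800 1)))) (.node (.node (.leaf (.up 12 1591 0)) (.leaf (.up 11 60 1))) (.node (.leaf (.up 7 1899 0)) (.leaf (.up 10 1106 1))))))) (.node (.node (.node (.node (.node (.leaf (.up 8 459 0)) (.leaf (.up 5 530 1))) (.node (.leaf (.up 11 1444 1)) (.leaf (.up 11 1660 1)))) (.node (.node (.leaf (.up 8 656 1)) (.leaf (.up 10 328 1))) (.node (.leaf (.up 11 628 0)) (.leaf (.up 8 1318 1))))) (.node (.node (.node (.leaf (.up 9 1062 0)) (.leaf (.up 13 456 1))) (.node (.leaf (.up 8 1662 1)) (.leaf (.up 7 821 0)))) (.node (.node (.leaf (.up 6 1733 0)) (.leaf (.up 11 138 0))) (.node (.leaf (.up 10 1945 0)) (.leaf (.up 13 1788 1)))))) (.node (.node (.node (.node (.leaf (.up 10 1487 0)) (.leaf (.up 10 1263 1))) (.node (.leaf (.up 11 857 1)) (.leaf (.up 12 129 1)))) (.node (.node (.leaf (.up 9 1133 1)) (.leaf (.up 12 1973 1))) (.node (.leaf (.up 9 1648 0)) (.leaf (.up 11 987 1))))) (.node (.node (.node (.leaf (.up 10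 34 0)) (.leaf (.up 10 1845 1))) (.node (.leaf (.up 13 131 1)) (.leaf (.up 11 1841 0)))) (.node (.node (.leaf (.up 8 1975 1)) (.leaf (.up 10 1166 0))) (.node (.leaf (.up 10 985 1)) (.leaf (.up 1 1 1)))))))) (.node (.node (.node (.node (.node (.node (.leaf (.up 9 743 0)) (.leaf (.up 9 1192 0))) (.node (.leaf (.up 9 955 0)) (.leaf (.up 8 1524 0)))) (.node (.node (.leaf (.up 5 4 0)) (.leaf (.up 13 1611 0))) (.node (.leaf (.up 6 344 0)) (.leaf (.up 9 1711 1))))) (.node (.node (.node (.leaf (.up 9 1802 0)) (.leaf (.up 9 577 1))) (.node (.leaf (.up 7 1622 0)) (.leaf (.up 7 1583 1)))) (.node (.node (.leaf (.up 11 1513 0)) (.leaf (.up 7 934 0))) (.node (.leaf (.up 10 1709 1)) (.leaf (.up 4 762 0)))))) (.node (.node (.node (.node (.leaf (.up 14 1214 1)) (.leaf (.up 8 172 0))) (.node (.leaf (.up 9 1983 0)) (.leaf (.up 9 496 0)))) (.node (.node (.leaf (.up 9 2020 1)) (.leaf (.up 9 591 0))) (.node (.leaf (.up 11 906 1)) (.leaf (.up 12 82 1))))) (.node (.node (.node (.leaf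 (.up 10 782 0)) (.leaf (.up 9 1212 1))) (.node (.leaf (.up 8 594 0)) (.leaf (.up 11 210 1)))) (.node (.node (.leaf (.up 12 1086 1)) (.leaf (.up 10 2022 1))) (.node (.leaf (.up 11 177 0)) (.leaf (.up 9 904 1))))))) (.node (.node (.node (.node (.node (.leaf (.up 7 1553 0)) (.leaf (.up 9 1480 1))) (.node (.leaf (.up 11 1869 0)) (.leaf (.up 10 258 0)))) (.node (.node (.leaf (.up 12 1266 0)) (.leaf (.up 12 701 0))) (.node (.leaf (.up 10 292 1)) (.leaf (.up 7 993 0))))) (.node (.node (.node (.leaf (.up 9 1020 0)) (.leaf (.up 11 1554 1))) (.node (.leaf (.up 9 672 0)) (.leaf (.up 10 1263 0)))) (.node (.node (.leaf (.up 7 287 0)) (.leaf (.up 9 1352 1))) (.node (.leaf (.up 6 766 1)) (.leaf (.up 9 294 1)))))) (.node (.node (.node (.node (.leaf (.up 12 533 0)) (.leaf (.up 6 1114 0))) (.node (.leaf (.up 11 1155 1)) (.leaf (.up 8 1883 1)))) (.node (.node (.leaf (.up 11 951 1)) (.leaf (.up 9 111 1))) (.node (.leaf (.up 11 2009 1)) (.leaf (.up 11 2021 0))))) (.node (.node (.node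 (.leaf (.up 9 2040 0)) (.leaf (.up 12 239 1))) (.node (.leaf (.up 10 1881 1)) (.leaf (.up 9 1153 1)))) (.node (.node (.leaf (.up 8 1307 0)) (.leaf (.up 9 949 1))) (.node (.leaf (.up 10 1027 1)) (.leaf (.up 12 2011 1))))))))

noncomputable def vt4_2_0001 : Tr VStep :=
  .node (.node (.node (.node (.node (.node (.node (.leaf (.up 2 1036 1)) (.leaf (.up 12 2004 1))) (.node (.leaf (.up 12 99 0)) (.leaf (.up 12 954 1)))) (.node (.node (.leaf (.up 7 988 0)) (.leaf (.up 9 1427 0))) (.node (.leaf (.up 11 824 1)) (.leaf (.up 11 224 1))))) (.node (.node (.node (.leaf (.up 10 1234 0)) (.leaf (.up 8 669 0))) (.node (.leaf (.up 7 1422 0)) (.leaf (.up 11 96 1)))) (.node (.node (.leaf (.up 10 1164 1)) (.leaf (.up 9 126 0))) (.node (.leaf (.up 8 1901 0)) (.leaf (.up 11 290 0)))))) (.node (.node (.node (.node (.leaf (.up 5 1339 0)) (.leaf (.up 8 297 1))) (.node (.leaf (.up 8 1695 1)) (.leaf (.up 6 552 0)))) (.node (.node (.leaf (.up 9 2008 0)) (.leaf (.up 8 407 0))) (.node (.leaf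 (.up 3 1477 1)) (.leaf (.up 9 1565 1))))) (.node (.node (.node (.leaf (.up 11 299 1)) (.leaf (.up 7 1689 0))) (.node (.leaf (.up 12 1349 1)) (.leaf (.up 9 1989 0)))) (.node (.node (.leaf (.up 12 625 1)) (.leaf (.up 8 1146 0))) (.node (.leaf (.up 7 1567 1)) (.leaf (.up 8 1318 0))))))) (.node (.node (.node (.node (.node (.leaf (.up 7 95 1)) (.leaf (.up 11 902 0))) (.node (.leaf (.up 5 1173 0)) (.leaf (.up 11 730 0)))) (.node (.node (.leaf (.up 10 773 1)) (.leaf (.up 12 357 0))) (.node (.leaf (.up 7 1899 1)) (.leaf (.up 10 57 0))))) (.node (.node (.node (.leaf (.up 10 901 1)) (.leaf (.up 8 93 1))) (.node (.leaf (.up 10 2027 1)) (.leaf (.up 12 1075 1)))) (.node (.node (.leaf (.up 8 223 1)) (.leaf (.up 9 775 1))) (.node (.leaf (.up 11 1201 1)) (.leaf (.up 10 1492 0)))))) (.node (.node (.node (.node (.leaf (.up 13 461 0)) (.leaf (.up 6 1922 0))) (.node (.leaf (.up 5 716 1)) (.leaf (.up 9 1758 0)))) (.node (.node (.leaf (.up 12 1528 1)) (.leaf (.up 9 1377 0))) (.node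 (.leaf (.up 6 626 0)) (.leaf (.up 7 590 1))))) (.node (.node (.node (.leaf (.up 6 1056 0)) (.leaf (.up 8 1696 1))) (.node (.leaf (.up 9 278 1)) (.leaf (.up 7 718 1)))) (.node (.node (.leaf (.up 5 1731 0)) (.leaf (.up 10 140 0))) (.node (.leaf (.up 4 588 1)) (.leaf (.up 11 404 1)))))))) (.node (.node (.node (.node (.node (.node (.leaf (.up 9 1765 0)) (.leaf (.up 12 14 1))) (.node (.leaf (.up 12 1976 1)) (.leaf (.up 7 502 0)))) (.node (.node (.leaf (.up 9 1030 0)) (.leaf (.up 11 585 0))) (.node (.leaf (.up 13 1250 1)) (.leaf (.up 12 1850 1))))) (.node (.node (.node (.leaf (.up 9 12 1)) (.leaf (.up 8 1351 0))) (.node (.leaf (.up 12 1122 1)) (.leaf (.up 12 1978 1)))) (.node (.node (.leaf (.up 7 854 1)) (.leaf (.up 7 142 1))) (.node (.leaf (.up 11 1848 1)) (.leaf (.up 11 1248 1)))))) (.node (.node (.node (.node (.leaf (.up 5 737 0)) (.leaf (.up 9 1779 1))) (.node (.leaf (.up 11 325 1)) (.leaf (.up 8 669 1)))) (.node (.node (.leaf (.up 5 1649 1)) (.leaf (.up 10 1449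 1))) (.node (.leaf (.up 8 543 1)) (.leaf (.up 9 455 1))))) (.node (.node (.node (.leaf (.up 11 1777 1)) (.leaf (.up 9 1321 1))) (.node (.leaf (.up 10 1616 0)) (.leaf (.up 12 31 0)))) (.node (.node (.leaf (.up 12 1451 1)) (.leaf (.up 11 928 0))) (.node (.leaf (.up 11 1203 0)) (.leaf (.up 8 764 0))))))) (.node (.node (.node (.node (.node (.leaf (.up 8 1925 1)) (.leaf (.up 11 1117 1))) (.node (.leaf (.up 10 1003 1)) (.leaf (.up 9 1280 0)))) (.node (.node (.leaf (.up 5 1247 1)) (.leaf (.up 8 1727 0))) (.node (.leaf (.up 10 428 0)) (.leaf (.up 10 2019 0))))) (.node (.node (.node (.leaf (.up 11 2046 0)) (.leaf (.up 12 1927 1))) (.node (.leaf (.up 12 49 1)) (.leaf (.up 13 237 0)))) (.node (.node (.leaf (.up 12 1309 0)) (.leaf (.up 9 850 0))) (.node (.leaf (.up 10 875 1)) (.leaf (.up 11 526 0)))))) (.node (.node (.node (.node (.leaf (.up 12 1559 0)) (.leaf (.up 6 88 0))) (.node (.leaf (.up 11 1867 0)) (.leaf (.up 5 1742 1)))) (.node (.node (.leaf (.up 13 1268 0)) (.leaf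 (.up 8 506 1))) (.node (.leaf (.up 8 1612 1)) (.leaf (.up 4 1428 1))))) (.node (.node (.node (.leaf (.up 6 674 1)) (.leaf (.up 12 378 1))) (.node (.leaf (.up 9 678 0)) (.leaf (.up 12 1257 0)))) (.node (.node (.leaf (.up 6 281 0)) (.leaf (.up 11 1878 0))) (.node (.leaf (.up 5 1430 1)) (.leaf (.up 8 1614 1))))))))

noncomputable def vt4_2_000 : Tr VStep := .node vt4_2_0000 vt4_2_0001

noncomputable def vt4_2_0010 : Tr VStep :=
  .node (.node (.node (.node (.node (.node (.node (.leaf (.up 4 588 0)) (.leaf (.up 10 1027 0))) (.node (.leaf (.up 7 784 0)) (.leaf (.up 5 469 1)))) (.node (.node (.leaf (.up 9 175 0)) (.leaf (.up 10 1761 1))) (.node (.leaf (.up 7 499 0)) (.leaf (.up 10 655 1))))) (.node (.node (.node (.leaf (.up 11 1465 1)) (.leaf (.up 6 494 0))) (.node (.leaf (.up 10 1789 0)) (.leaf (.up 7 527 1)))) (.node (.node (.leaf (.up 12 1346 0)) (.leaf (.up 5 1339 1))) (.node (.leaf (.up 11 1054 0)) (.leaf (.up 9 341 1)))))) (.node (.node (.node (.node (.leaf (.up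 7 1608 0)) (.leaf (.up 11 838 1))) (.node (.leaf (.up 11 1812 0)) (.leaf (.up 9 347 0)))) (.node (.node (.leaf (.up 8 964 1)) (.leaf (.up 12 28 1))) (.node (.leaf (.up 11 1527 0)) (.leaf (.up 11 1138 1))))) (.node (.node (.node (.leaf (.up 12 836 1)) (.leaf (.up 10 156 1))) (.node (.leaf (.up 12 761 0)) (.leaf (.up 11 1206 0)))) (.node (.node (.leaf (.up 11 326 0)) (.leaf (.up 5 966 1))) (.node (.leaf (.up 7 1136 1)) (.leaf (.up 8 1621 0))))))) (.node (.node (.node (.node (.node (.leaf (.up 12 560 1)) (.leaf (.up 6 488 1))) (.node (.leaf (.up 10 2022 0)) (.leaf (.up 11 1414 1)))) (.node (.node (.leaf (.up 9 1113 0)) (.leaf (.up 9 534 0))) (.node (.leaf (.up 10 1285 0)) (.leaf (.up 9 1756 1))))) (.node (.node (.node (.leaf (.up 8 490 1)) (.leaf (.up 12 1304 0))) (.node (.leaf (.up 5 523 0)) (.leaf (.up 11 1628 1)))) (.node (.node (.leaf (.up 9 436 0)) (.leaf (.up 10 2043 0))) (.node (.leaf (.up 7 232 0)) (.leaf (.up 11 1286 1)))))) (.node (.node (.node (.node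 (.leaf (.up 10 1229 1)) (.leaf (.up 8 1813 1))) (.node (.leaf (.up 13 163 1)) (.leaf (.up 11 891 1)))) (.node (.node (.leaf (.up 8 93 0)) (.leaf (.up 9 1103 1))) (.node (.leaf (.up 10 1017 1)) (.leaf (.up 11 1870 0))))) (.node (.node (.node (.leaf (.up 10 1875 0)) (.leaf (.up 12 284 0))) (.node (.leaf (.up 12 889 1)) (.leaf (.up 11 64 0)))) (.node (.node (.leaf (.up 10 1456 0)) (.leaf (.up 10 1023 0))) (.node (.leaf (.up 14 1260 0)) (.leaf (.up 8 675 0)))))))) (.node (.node (.node (.node (.node (.node (.leaf (.up 5 1430 0)) (.leaf (.up 3 609 1))) (.node (.leaf (.up 7 1495 1)) (.leaf (.up 8 645 0)))) (.node (.node (.leaf (.up 8 1909 0)) (.leaf (.up 12 315 1))) (.node (.leaf (.up 2 1677 1)) (.leaf (.up 10 1365 1))))) (.node (.node (.node (.leaf (.up 9 123 0)) (.leaf (.up 9 1588 0))) (.node (.leaf (.up 9 295 0)) (.leaf (.up 8 1896 0)))) (.node (.node (.leaf (.up 10 313 1)) (.leaf (.up 3 1239 0))) (.node (.leaf (.up 8 964 0)) (.leaf (.up 7 1679 1)))))) (.node (.node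 (.node (.node (.leaf (.up 11 402 0)) (.leaf (.up 11 2013 0))) (.node (.leaf (.up 12 206 0)) (.leaf (.up 8 1665 0)))) (.node (.node (.leaf (.up 11 1054 1)) (.leaf (.up 9 1342 0))) (.node (.leaf (.up 12 557 0)) (.leaf (.up 12 936 1))))) (.node (.node (.node (.leaf (.up 10 1151 0)) (.leaf (.up 7 1862 1))) (.node (.leaf (.up 9 1315 0)) (.leaf (.up 4 876 0)))) (.node (.node (.leaf (.up 9 1988 1)) (.leaf (.up 9 211 0))) (.node (.leaf (.up 11 938 1)) (.leaf (.up 11 114 1))))))) (.node (.node (.node (.node (.node (.leaf (.up 10 352 0)) (.leaf (.up 9 1839 0))) (.node (.leaf (.up 11 60 0)) (.leaf (.up 8 604 1)))) (.node (.node (.leaf (.up 9 899 0)) (.leaf (.up 10 1384 1))) (.node (.leaf (.up 10 735 0)) (.leaf (.up 7 262 1))))) (.node (.node (.node (.leaf (.up 10 1165 0)) (.leaf (.up 8 706 0))) (.node (.leaf (.up 6 606 1)) (.leaf (.up 6 390 1)))) (.node (.node (.leaf (.up 8 1646 0)) (.leaf (.up 9 1714 1))) (.node (.leaf (.up 9 1842 0)) (.leaf (.up 13 732 1)))))) (.node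 (.node (.node (.node (.leaf (.up 9 791 1)) (.leaf (.up 11 811 0))) (.node (.leaf (.up 10 1913 1)) (.leaf (.up 5 1185 1)))) (.node (.node (.leaf (.up 11 77 1)) (.leaf (.up 12 917 1))) (.node (.leaf (.up 8 1059 1)) (.leaf (.up 10 2043 1))))) (.node (.node (.node (.leaf (.up 12 205 1)) (.leaf (.up 12 1734 0))) (.node (.leaf (.up 5 469 0)) (.leaf (.up 9 1946 0)))) (.node (.node (.leaf (.up 10 919 1)) (.leaf (.up 7 1061 0))) (.node (.leaf (.up 11 2041 1)) (.leaf (.up 12 1057 1))))))))

noncomputable def vt4_2_0011 : Tr VStep :=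
  .node (.node (.node (.node (.node (.node (.node (.leaf (.up 8 1614 0)) (.leaf (.up 1 1 0))) (.node (.leaf (.up 10 1810 0)) (.leaf (.up 8 349 0)))) (.node (.node (.leaf (.up 8 1196 1)) (.leaf (.up 11 738 0))) (.node (.leaf (.up 11 194 1)) (.leaf (.up 13 794 1))))) (.node (.node (.node (.leaf (.up 9 931 0)) (.leaf (.up 9 1516 0))) (.node (.leaf (.up 13 767 0)) (.leaf (.up 12 922 1)))) (.node (.node (.leaf (.up 12 320 0)) (.leaf (.up 9 1807 0))) (.node (.leaf (.up 12 28 0)) (.leaf (.up 9 192 1)))))) (.node (.node (.node (.node (.leaf (.up 9 267 1)) (.leaf (.up 12 1029 0))) (.node (.leaf (.up 3 1381 1)) (.leaf (.up 7 1725 1)))) (.node (.node (.leaf (.up 10 593 1)) (.leaf (.up 11 393 1))) (.node (.leaf (.up 6 1599 1)) (.leaf (.up 8 1511 1))))) (.node (.node (.node (.leaf (.up 10 721 1)) (.leaf (.up 6 488 0))) (.node (.leaf (.up 4 1787 0)) (.leaf (.up 11 180 0)))) (.node (.node (.leaf (.up 11 395 1)) (.leaf (.up 11 595 1))) (.node (.leaf (.up 10 1509 1)) (.leaf (.up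 9 1597 1))))))) (.node (.node (.node (.node (.node (.leaf (.up 13 696 0)) (.leaf (.up 8 125 1))) (.node (.leaf (.up 12 1995 1)) (.leaf (.up 11 1043 1)))) (.node (.node (.leaf (.up 12 91 0)) (.leaf (.up 9 807 1))) (.node (.leaf (.up 9 263 0)) (.leaf (.up 10 1864 0))))) (.node (.node (.node (.leaf (.up 7 1877 0)) (.leaf (.up 7 935 1))) (.node (.leaf (.up 10 1545 0)) (.leaf (.up 9 70 0)))) (.node (.node (.leaf (.up 9 805 1)) (.leaf (.up 5 253 1))) (.node (.leaf (.up 11 1867 1)) (.leaf (.up 11 677 0)))))) (.node (.node (.node (.node (.leaf (.up 7 1724 0)) (.leaf (.up 6 1664 1))) (.node (.leaf (.up 2 2016 0)) (.leaf (.up 8 750 1)))) (.node (.node (.leaf (.up 12 1538 1)) (.leaf (.up 7 1498 1))) (.node (.leaf (.up 3 620 1)) (.leaf (.up 7 844 0))))) (.node (.node (.node (.leaf (.up 3 1666 1)) (.leaf (.up 13 1310 0))) (.node (.leaf (.up 8 525 0)) (.leaf (.up 9 1090 0)))) (.node (.node (.leaf (.up 9 434 0)) (.leaf (.up 8 1536 1))) (.node (.leaf (.up 6 238 0)) (.leaf (.up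 11 622 1)))))))) (.node (.node (.node (.node (.node (.node (.leaf (.up 11 404 0)) (.leaf (.up 12 1012 1))) (.node (.leaf (.up 9 1090 1)) (.leaf (.up 9 1946 1)))) (.node (.node (.leaf (.up 11 887 0)) (.leaf (.up 9 174 1))) (.node (.leaf (.up 11 555 0)) (.leaf (.up 9 1124 0))))) (.node (.node (.node (.leaf (.up 9 1145 0)) (.leaf (.up 10 46 1))) (.node (.leaf (.up 8 1317 0)) (.leaf (.up 11 874 0)))) (.node (.node (.leaf (.up 8 172 1)) (.leaf (.up 9 884 1))) (.node (.leaf (.up 12 1218 1)) (.leaf (.up 5 1818 1)))))) (.node (.node (.node (.node (.leaf (.up 5 1745 1)) (.leaf (.up 11 991 0))) (.node (.leaf (.up 7 1228 0)) (.leaf (.up 10 359 1)))) (.node (.node (.leaf (.up 6 1907 0)) (.leaf (.up 10 1619 1))) (.node (.leaf (.up 7 1583 0)) (.leaf (.up 6 573 1))))) (.node (.node (.node (.leaf (.up 8 125 0)) (.leaf (.up 10 1586 0))) (.node (.leaf (.up 12 357 1)) (.leaf (.up 8 1902 0)))) (.node (.node (.leaf (.up 8 670 0)) (.leaf (.up 10 1417 1))) (.node (.leaf (.up 6 962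 0)) (.leaf (.up 6 1421 0))))))) (.node (.node (.node (.node (.node (.leaf (.up 10 1151 1)) (.leaf (.up 9 813 0))) (.node (.leaf (.up 12 17 1)) (.leaf (.up 12 969 1)))) (.node (.node (.leaf (.up 10 1829 1)) (.leaf (.up 7 1277 1))) (.node (.leaf (.up 10 1757 0)) (.leaf (.up 11 146 0))))) (.node (.node (.node (.leaf (.up 11 1957 1)) (.leaf (.up 8 1149 1))) (.node (.leaf (.up 8 467 0)) (.leaf (.up 6 1948 0)))) (.node (.node (.leaf (.up 3 620 0)) (.leaf (.up 8 1059 0))) (.node (.leaf (.up 11 816 0)) (.leaf (.up 11 1407 0)))))) (.node (.node (.node (.node (.leaf (.up 12 642 1)) (.leaf (.up 5 346 1))) (.node (.leaf (.up 10 1772 1)) (.leaf (.up 10 1653 0)))) (.node (.node (.leaf (.up 10 901 0)) (.leaf (.up 9 512 1))) (.node (.leaf (.up 10 729 0)) (.leaf (.up 8 1174 0))))) (.node (.node (.node (.leaf (.up 6 344 1)) (.leaf (.up 13 640 1))) (.node (.leaf (.up 7 1334 1)) (.leaf (.up 12 1774 1)))) (.node (.node (.leaf (.up 7 514 1)) (.leaf (.up 10 474 1))) (.node (.leaf (.up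 8 1844 0)) (.leaf (.up 10 1460 1))))))))

noncomputable def vt4_2_001 : Tr VStep := .node vt4_2_0010 vt4_2_0011

noncomputable def vt4_2_00 : Tr VStep := .node vt4_2_000 vt4_2_001

noncomputable def vt4_2_0100 : Tr VStep :=
  .node (.node (.node (.node (.node (.node (.node (.leaf (.up 6 1673 0)) (.leaf (.up 8 199 1))) (.node (.leaf (.up 6 2005 0)) (.leaf (.up 11 1193 1)))) (.node (.node (.leaf (.up 9 69 1)) (.leaf (.up 7 549 0))) (.node (.leaf (.up 7 1334 0)) (.leaf (.up 12 889 0))))) (.node (.node (.node (.leaf (.up 11 868 0)) (.leaf (.up 8 1323 0))) (.node (.leaf (.up 11 568 0)) (.leaf (.up 2 1143 0)))) (.node (.node (.leaf (.up 11 391 0)) (.leaf (.up 9 1992 0))) (.node (.leaf (.up 11 2033 1)) (.leaf (.up 5 1065 1)))))) (.node (.node (.node (.node (.leaf (.up 13 653 0)) (.leaf (.up 8 1594 1))) (.node (.leaf (.up 11 977 0)) (.leaf (.up 11 1438 0)))) (.node (.node (.leaf (.up 11 110 0)) (.leaf (.up 11 1569 0))) (.node (.leaf (.up 8 306 0)) (.leaf (.up 9 1917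 0))))) (.node (.node (.node (.leaf (.up 10 1592 1)) (.leaf (.up 11 1504 1))) (.node (.leaf (.up 7 598 1)) (.leaf (.up 7 398 1)))) (.node (.node (.leaf (.up 9 1411 0)) (.leaf (.up 11 972 0))) (.node (.leaf (.up 5 1247 0)) (.leaf (.up 8 656 0))))))) (.node (.node (.node (.node (.node (.leaf (.up 9 1868 1)) (.leaf (.up 10 1172 1))) (.node (.leaf (.up 12 803 0)) (.leaf (.up 8 250 1)))) (.node (.node (.leaf (.up 10 156 0)) (.leaf (.up 10 1998 1))) (.node (.leaf (.up 13 448 0)) (.leaf (.up 10 1935 0))))) (.node (.node (.node (.leaf (.up 5 1938 0)) (.leaf (.up 11 1870 1))) (.node (.leaf (.up 5 1742 0)) (.leaf (.up 12 129 0)))) (.node (.node (.leaf (.up 6 1393 0)) (.leaf (.up 4 1044 1))) (.node (.leaf (.up 7 1069 0)) (.leaf (.up 10 610 0)))))) (.node (.node (.node (.node (.leaf (.up 12 1659 0)) (.leaf (.up 11 52 0))) (.node (.leaf (.up 9 1503 1)) (.leaf (.up 7 1543 1)))) (.node (.node (.leaf (.up 9 1176 0)) (.leaf (.up 10 727 0))) (.node (.leaf (.up 6 1476 0)) (.leaf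 (.up 9 907 0))))) (.node (.node (.node (.leaf (.up 11 619 1)) (.leaf (.up 12 1497 0))) (.node (.leaf (.up 10 1541 1)) (.leaf (.up 10 1157 0)))) (.node (.node (.leaf (.up 10 305 1)) (.leaf (.up 12 1850 0))) (.node (.leaf (.up 12 41 0)) (.leaf (.up 8 1638 0)))))))) (.node (.node (.node (.node (.node (.node (.leaf (.up 6 1221 1)) (.leaf (.up 10 1821 1))) (.node (.leaf (.up 4 15 0)) (.leaf (.up 10 883 1)))) (.node (.node (.leaf (.up 7 1951 1)) (.leaf (.up 11 1095 1))) (.node (.leaf (.up 9 748 0)) (.leaf (.up 9 1187 0))))) (.node (.node (.node (.leaf (.up 10 1823 1)) (.leaf (.up 8 1223 1))) (.node (.leaf (.up 13 1506 0)) (.leaf (.up 12 941 0)))) (.node (.node (.leaf (.up 10 1093 1)) (.leaf (.up 7 18 0))) (.node (.leaf (.up 11 1793 0)) (.leaf (.up 4 334 0)))))) (.node (.node (.node (.node (.leaf (.up 11 568 1)) (.leaf (.up 9 480 1))) (.node (.leaf (.up 7 1622 1)) (.leaf (.up 7 1422 1)))) (.node (.node (.leaf (.up 10 354 1)) (.leaf (.up 12 698 1))) (.node (.leaf (.up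 8 1768 0)) (.leaf (.up 5 1748 1))))) (.node (.node (.node (.leaf (.up 10 186 0)) (.leaf (.up 9 1781 0))) (.node (.leaf (.up 7 486 0)) (.leaf (.up 9 1620 1)))) (.node (.node (.leaf (.up 11 601 0)) (.leaf (.up 10 352 1))) (.node (.leaf (.up 10 773 0)) (.leaf (.up 11 1294 1))))))) (.node (.node (.node (.node (.node (.leaf (.up 5 150 1)) (.leaf (.up 10 846 1))) (.node (.leaf (.up 12 1273 0)) (.leaf (.up 9 1824 1)))) (.node (.node (.leaf (.up 7 1862 0)) (.leaf (.up 6 20 1))) (.node (.leaf (.up 11 1954 1)) (.leaf (.up 8 1146 1))))) (.node (.node (.node (.leaf (.up 6 72 0)) (.leaf (.up 7 1543 0))) (.node (.leaf (.up 9 276 0)) (.leaf (.up 8 1883 0)))) (.node (.node (.leaf (.up 8 683 0)) (.leaf (.up 13 1252 0))) (.node (.leaf (.up 6 1015 0)) (.leaf (.up 10 1464 0)))))) (.node (.node (.node (.node (.leaf (.up 10 417 0)) (.leaf (.up 10 2030 0))) (.node (.leaf (.up 5 253 0)) (.leaf (.up 9 1714 0)))) (.node (.node (.leaf (.up 9 834 0)) (.leaf (.up 9 1293 0))) (.node (.leaf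 (.up 11 351 1)) (.leaf (.up 12 647 1))))) (.node (.node (.node (.leaf (.up 11 1457 1)) (.leaf (.up 11 515 0))) (.node (.leaf (.up 12 479 1)) (.leaf (.up 8 519 1)))) (.node (.node (.leaf (.up 9 1711 0)) (.leaf (.up 11 1331 1))) (.node (.leaf (.up 8 645 1)) (.leaf (.up 4 444 0))))))))

noncomputable def vt4_2_0101 : Tr VStep :=
  .node (.node (.node (.node (.node (.node (.node (.leaf (.up 9 650 1)) (.leaf (.up 11 1220 0))) (.node (.leaf (.up 11 983 0)) (.leaf (.up 8 1432 0)))) (.node (.node (.leaf (.up 13 464 1)) (.leaf (.up 12 1575 0))) (.node (.leaf (.up 10 1470 1)) (.leaf (.up 8 1638 1))))) (.node (.node (.node (.leaf (.up 10 336 1)) (.leaf (.up 8 648 1))) (.node (.leaf (.up 8 1594 0)) (.leaf (.up 9 117 0)))) (.node (.node (.leaf (.up 12 522 1)) (.leaf (.up 12 970 0))) (.node (.leaf (.up 10 1241 0)) (.leaf (.up 9 1468 1)))))) (.node (.node (.node (.node (.leaf (.up 2 1143 1)) (.leaf (.up 8 1967 1))) (.node (.leaf (.up 8 25 1)) (.leaf (.up 9 412 0)))) (.node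 (.node (.leaf (.up 7 1132 0)) (.leaf (.up 11 1269 1))) (.node (.leaf (.up 11 835 1)) (.leaf (.up 11 895 0))))) (.node (.node (.node (.leaf (.up 7 866 0)) (.leaf (.up 11 1325 0))) (.node (.leaf (.up 11 574 0)) (.leaf (.up 7 1137 0)))) (.node (.node (.leaf (.up 11 1271 1)) (.leaf (.up 9 1839 1))) (.node (.leaf (.up 11 153 1)) (.leaf (.up 13 833 1))))))) (.node (.node (.node (.node (.node (.leaf (.up 11 1661 0)) (.leaf (.up 6 50 0))) (.node (.leaf (.up 8 1825 0)) (.leaf (.up 11 366 0)))) (.node (.node (.leaf (.up 9 1411 1)) (.leaf (.up 10 721 0))) (.node (.leaf (.up 12 1474 0)) (.leaf (.up 13 565 1))))) (.node (.node (.node (.leaf (.up 11 912 0)) (.leaf (.up 9 1503 0))) (.node (.leaf (.up 5 716 0)) (.leaf (.up 11 1155 0)))) (.node (.node (.leaf (.up 10 1625 1)) (.leaf (.up 12 1852 0))) (.node (.leaf (.up 10 567 1)) (.leaf (.up 11 495 1)))))) (.node (.node (.node (.node (.leaf (.up 13 633 0)) (.leaf (.up 9 1020 1))) (.node (.leaf (.up 9 805 0)) (.leaf (.up 5 1938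 1)))) (.node (.node (.leaf (.up 10 894 1)) (.leaf (.up 8 1749 0))) (.node (.leaf (.up 10 1808 1)) (.leaf (.up 8 1224 1))))) (.node (.node (.node (.leaf (.up 8 1940 0)) (.leaf (.up 12 38 1))) (.node (.leaf (.up 5 1936 1)) (.leaf (.up 9 1096 1)))) (.node (.node (.leaf (.up 7 1399 0)) (.leaf (.up 11 892 1))) (.node (.leaf (.up 10 1067 0)) (.leaf (.up 10 1810 1)))))))) (.node (.node (.node (.node (.node (.node (.leaf (.up 10 1361 0)) (.leaf (.up 12 798 0))) (.node (.leaf (.up 12 318 1)) (.leaf (.up 12 578 0)))) (.node (.node (.leaf (.up 9 1546 1)) (.leaf (.up 9 509 0))) (.node (.leaf (.up 12 1774 0)) (.leaf (.up 4 444 1))))) (.node (.node (.node (.leaf (.up 10 1674 1)) (.leaf (.up 9 1779 0))) (.node (.leaf (.up 9 480 0)) (.leaf (.up 8 1967 0)))) (.node (.node (.leaf (.up 11 1488 1)) (.leaf (.up 10 1040 0))) (.node (.leaf (.up 11 771 0)) (.leaf (.up 8 614 1)))))) (.node (.node (.node (.node (.leaf (.up 9 341 0)) (.leaf (.up 5 1818 0))) (.node (.leaf (.up 1 9 0)) (.leaf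 (.up 11 1606 0)))) (.node (.node (.leaf (.up 4 950 0)) (.leaf (.up 13 1529 0))) (.node (.leaf (.up 6 746 0)) (.leaf (.up 10 1189 0))))) (.node (.node (.node (.leaf (.up 12 119 1)) (.leaf (.up 7 759 0))) (.node (.leaf (.up 10 1049 1)) (.leaf (.up 10 1985 1)))) (.node (.node (.leaf (.up 9 813 1)) (.leaf (.up 6 20 0))) (.node (.leaf (.up 10 1859 1)) (.leaf (.up 10 328 0))))))) (.node (.node (.node (.node (.node (.leaf (.up 12 259 1)) (.leaf (.up 12 2024 0))) (.node (.leaf (.up 10 251 0)) (.leaf (.up 7 1716 0)))) (.node (.node (.leaf (.up 11 601 1)) (.leaf (.up 11 385 1))) (.node (.leaf (.up 12 1591 1)) (.leaf (.up 11 1111 0))))) (.node (.node (.node (.leaf (.up 9 1098 0)) (.leaf (.up 8 517 0))) (.node (.leaf (.up 11 1719 1)) (.leaf (.up 11 857 0)))) (.node (.node (.leaf (.up 11 387 1)) (.leaf (.up 6 603 1))) (.node (.leaf (.up 11 1517 1)) (.leaf (.up 11 1589 1)))))) (.node (.node (.node (.node (.leaf (.up 10 1443 0)) (.leaf (.up 7 1004 0))) (.node (.leaf (.up 7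 1279 0)) (.leaf (.up 6 72 1)))) (.node (.node (.leaf (.up 11 1856 0)) (.leaf (.up 9 1916 1))) (.node (.leaf (.up 8 202 1)) (.leaf (.up 8 83 0))))) (.node (.node (.node (.leaf (.up 7 1060 1)) (.leaf (.up 11 2044 1))) (.node (.leaf (.up 3 74 1)) (.leaf (.up 12 914 1)))) (.node (.node (.leaf (.up 7 685 0)) (.leaf (.up 10 1190 1))) (.node (.leaf (.up 7 784 1)) (.leaf (.up 10 1470 0))))))))

noncomputable def vt4_2_010 : Tr VStep := .node vt4_2_0100 vt4_2_0101

noncomputable def vt4_2_0110 : Tr VStep :=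
  .node (.node (.node (.node (.node (.node (.node (.leaf (.up 7 504 0)) (.leaf (.up 8 1975 0))) (.node (.leaf (.up 9 1163 1)) (.leaf (.up 10 1875 1)))) (.node (.node (.leaf (.up 6 795 0)) (.leaf (.up 10 103 1))) (.node (.leaf (.up 8 2001 1)) (.leaf (.up 12 1033 1))))) (.node (.node (.node (.leaf (.up 12 1045 0)) (.leaf (.up 2 602 0))) (.node (.leaf (.up 9 1873 1)) (.leaf (.up 8 1161 1)))) (.node (.node (.leaf (.up 5 101 1)) (.leaf (.up 10 185 0))) (.node (.leaf (.up 10 1035 1)) (.leaf (.up 8 485 0)))))) (.node (.node (.node (.node (.leaf (.up 8 1560 1)) (.leaf (.up 8 947 0))) (.node (.leaf (.up 11 630 1)) (.leaf (.up 10 751 0)))) (.node (.node (.leaf (.up 10 1823 0)) (.leaf (.up 9 1690 1))) (.node (.leaf (.up 10 1603 0)) (.leaf (.up 6 756 1))))) (.node (.node (.node (.leaf (.up 12 17 0)) (.leaf (.up 13 1562 1))) (.node (.leaf (.up 6 333 0)) (.leaf (.up 11 628 1)))) (.node (.node (.leaf (.up 13 1688 1)) (.leaf (.up 10 1344 1))) (.node (.leaf (.up 4 758 1)) (.leaf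 (.up 12 302 1))))))) (.node (.node (.node (.node (.node (.leaf (.up 11 1294 0)) (.leaf (.up 8 1902 1))) (.node (.leaf (.up 10 1106 0)) (.leaf (.up 4 768 1)))) (.node (.node (.leaf (.up 8 2029 0)) (.leaf (.up 7 418 0))) (.node (.leaf (.up 8 1713 0)) (.leaf (.up 10 254 0))))) (.node (.node (.node (.leaf (.up 8 1900 1)) (.leaf (.up 9 1204 1))) (.node (.leaf (.up 8 770 1)) (.leaf (.up 13 2032 0)))) (.node (.node (.leaf (.up 9 512 0)) (.leaf (.up 9 1103 0))) (.node (.leaf (.up 6 88 1)) (.leaf (.up 10 896 1)))))) (.node (.node (.node (.node (.leaf (.up 10 587 1)) (.leaf (.up 9 403 1))) (.node (.leaf (.up 7 1573 1)) (.leaf (.up 7 1533 1)))) (.node (.node (.leaf (.up 12 273 1)) (.leaf (.up 10 1446 0))) (.node (.leaf (.up 11 1407 1)) (.leaf (.up 11 1703 1))))) (.node (.node (.node (.leaf (.up 9 1255 0)) (.leaf (.up 11 585 1))) (.node (.leaf (.up 11 1467 0)) (.leaf (.up 12 1012 0)))) (.node (.node (.leaf (.up 6 1540 0)) (.leaf (.up 9 75 0))) (.node (.leaf (.up 8 1701 1))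 (.leaf (.up 9 279 0)))))))) (.node (.node (.node (.node (.node (.node (.leaf (.up 9 1855 1)) (.leaf (.up 9 1255 1))) (.node (.leaf (.up 8 1918 0)) (.leaf (.up 10 305 0)))) (.node (.node (.leaf (.up 8 1217 0)) (.leaf (.up 10 1981 1))) (.node (.leaf (.up 4 1437 0)) (.leaf (.up 11 978 0))))) (.node (.node (.node (.leaf (.up 4 975 0)) (.leaf (.up 7 1408 0))) (.node (.leaf (.up 12 659 0)) (.leaf (.up 9 851 1)))) (.node (.node (.leaf (.up 9 1983 1)) (.leaf (.up 4 1891 0))) (.node (.leaf (.up 11 977 1)) (.leaf (.up 1 9 1)))))) (.node (.node (.node (.node (.leaf (.up 10 450 1)) (.leaf (.up 11 1129 0))) (.node (.leaf (.up 6 1452 1)) (.leaf (.up 6 1652 1)))) (.node (.node (.leaf (.up 13 664 1)) (.leaf (.up 10 1674 0))) (.node (.leaf (.up 6 1782 1)) (.leaf (.up 10 1326 1))))) (.node (.node (.node (.leaf (.up 12 1995 0)) (.leaf (.up 13 448 1))) (.node (.leaf (.up 11 1654 1)) (.leaf (.up 12 1454 1)))) (.node (.node (.leaf (.up 12 322 1)) (.leaf (.up 10 666 1))) (.node (.leaf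 (.up 10 1324 1)) (.leaf (.up 10 1780 1))))))) (.node (.node (.node (.node (.node (.leaf (.up 4 876 1)) (.leaf (.up 10 1179 0))) (.node (.leaf (.up 9 904 0)) (.leaf (.up 8 1242 1)))) (.node (.node (.leaf (.up 5 54 1)) (.leaf (.up 6 1656 0))) (.node (.leaf (.up 10 1112 1)) (.leaf (.up 10 1828 0))))) (.node (.node (.node (.leaf (.up 9 1849 0)) (.leaf (.up 10 374 0))) (.node (.leaf (.up 8 1637 0)) (.leaf (.up 12 42 0)))) (.node (.node (.leaf (.up 7 1004 1)) (.leaf (.up 11 52 1))) (.node (.leaf (.up 3 1158 0)) (.leaf (.up 6 1114 1)))))) (.node (.node (.node (.node (.leaf (.up 12 1744 0)) (.leaf (.up 7 159 0))) (.node (.leaf (.up 10 1932 0)) (.leaf (.up 10 551 1)))) (.node (.node (.leaf (.up 9 1739 1)) (.leaf (.up 11 636 0))) (.node (.leaf (.up 11 677 1)) (.leaf (.up 12 800 0))))) (.node (.node (.node (.leaf (.up 10 829 0)) (.leaf (.up 9 1427 1))) (.node (.leaf (.up 3 609 0)) (.leaf (.up 5 1070 0)))) (.node (.node (.leaf (.up 6 1297 1)) (.leaf (.up 12 1737 1))) (.node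 (.leaf (.up 10 383 1)) (.leaf (.up 10 679 1))))))))

noncomputable def vt4_2_0111 : Tr VStep :=
  .node (.node (.node (.node (.node (.node (.node (.leaf (.up 11 1530 0)) (.leaf (.up 9 949 0))) (.node (.leaf (.up 10 1190 0)) (.leaf (.up 12 1734 1)))) (.node (.node (.leaf (.up 9 554 1)) (.leaf (.up 10 498 1))) (.node (.leaf (.up 9 1605 0)) (.leaf (.up 10 1436 1))))) (.node (.node (.node (.leaf (.up 6 682 1)) (.leaf (.up 9 1624 0))) (.node (.leaf (.up 11 331 0)) (.leaf (.up 10 1308 1)))) (.node (.node (.leaf (.up 6 756 0)) (.leaf (.up 6 552 1))) (.node (.leaf (.up 11 1438 1)) (.leaf (.up 8 1511 0)))))) (.node (.node (.node (.node (.leaf (.up 8 1933 1)) (.leaf (.up 10 1969 0))) (.node (.leaf (.up 6 162 0)) (.leaf (.up 7 59 1)))) (.node (.node (.leaf (.up 3 1239 1)) (.leaf (.up 9 1807 1))) (.node (.leaf (.up 9 577 0)) (.leaf (.up 10 865 1))))) (.node (.node (.node (.leaf (.up 11 1111 1)) (.leaf (.up 8 604 0))) (.node (.leaf (.up 6 1359 0)) (.leaf (.up 4 768 0))))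 (.node (.node (.leaf (.up 10 1776 0)) (.leaf (.up 9 191 0))) (.node (.leaf (.up 12 1964 0)) (.leaf (.up 9 483 0))))))) (.node (.node (.node (.node (.node (.leaf (.up 9 1315 1)) (.leaf (.up 4 1787 1))) (.node (.leaf (.up 6 333 1)) (.leaf (.up 7 1567 0)))) (.node (.node (.leaf (.up 11 1007 0)) (.leaf (.up 9 1441 1))) (.node (.leaf (.up 12 691 0)) (.leaf (.up 7 463 1))))) (.node (.node (.node (.leaf (.up 8 1249 0)) (.leaf (.up 9 1313 1))) (.node (.leaf (.up 10 1469 0)) (.leaf (.up 9 1010 0)))) (.node (.node (.leaf (.up 10 1443 1)) (.leaf (.up 11 77 0))) (.node (.leaf (.up 12 1886 0)) (.leaf (.up 12 273 0)))))) (.node (.node (.node (.node (.leaf (.up 10 1288 0)) (.leaf (.up 8 6 1))) (.node (.leaf (.up 10 1968 1)) (.leaf (.up 7 539 0)))) (.node (.node (.leaf (.up 10 2027 0)) (.leaf (.up 8 860 1))) (.node (.leaf (.up 11 1719 0)) (.leaf (.up 7 248 0))))) (.node (.node (.node (.leaf (.up 5 4 1)) (.leaf (.up 7 988 1))) (.node (.leaf (.up 7 441 0)) (.leaf (.up 11 2038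 0)))) (.node (.node (.leaf (.up 5 862 1)) (.leaf (.up 11 1097 0))) (.node (.leaf (.up 7 858 0)) (.leaf (.up 9 1256 1)))))))) (.node (.node (.node (.node (.node (.node (.leaf (.up 12 1706 1)) (.leaf (.up 10 1394 1))) (.node (.leaf (.up 11 892 0)) (.leaf (.up 11 1331 0)))) (.node (.node (.leaf (.up 6 195 0)) (.leaf (.up 12 1576 1))) (.node (.leaf (.up 11 415 0)) (.leaf (.up 10 2000 0))))) (.node (.node (.node (.leaf (.up 10 1392 1)) (.leaf (.up 12 386 0))) (.node (.leaf (.up 7 286 1)) (.leaf (.up 7 710 1)))) (.node (.node (.leaf (.up 10 1326 0)) (.leaf (.up 10 865 0))) (.node (.leaf (.up 11 1138 0)) (.leaf (.up 6 573 0)))))) (.node (.node (.node (.node (.leaf (.up 11 87 1)) (.leaf (.up 7 911 1))) (.node (.leaf (.up 5 1912 0)) (.leaf (.up 12 311 0)))) (.node (.node (.leaf (.up 8 1223 0)) (.leaf (.up 8 648 0))) (.node (.leaf (.up 4 1891 1)) (.leaf (.up 11 1211 1))))) (.node (.node (.node (.leaf (.up 12 969 0)) (.leaf (.up 11 1414 0))) (.node (.leaf (.up 10 2019 1))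 (.leaf (.up 8 1242 0)))) (.node (.node (.leaf (.up 10 298 0)) (.leaf (.up 9 1893 0))) (.node (.leaf (.up 13 1209 1)) (.leaf (.up 10 1593 0))))))) (.node (.node (.node (.node (.node (.leaf (.up 12 761 1)) (.leaf (.up 11 153 0))) (.node (.leaf (.up 10 1930 0)) (.leaf (.up 6 1359 1)))) (.node (.node (.leaf (.up 11 1077 0)) (.leaf (.up 8 634 0))) (.node (.leaf (.up 8 1485 1)) (.leaf (.up 9 806 0))))) (.node (.node (.node (.leaf (.up 11 291 1)) (.leaf (.up 13 1396 0))) (.node (.leaf (.up 12 1357 1)) (.leaf (.up 10 1685 1)))) (.node (.node (.leaf (.up 13 633 1)) (.leaf (.up 9 1943 0))) (.node (.leaf (.up 12 132 0)) (.leaf (.up 9 1739 0)))))) (.node (.node (.node (.node (.leaf (.up 8 722 0)) (.leaf (.up 7 2012 1))) (.node (.leaf (.up 12 910 0)) (.leaf (.up 7 946 1)))) (.node (.node (.leaf (.up 12 49 0)) (.leaf (.up 3 1158 1))) (.node (.leaf (.up 9 365 0)) (.leaf (.up 7 232 1))))) (.node (.node (.node (.leaf (.up 9 1855 0)) (.leaf (.up 9 1030 1))) (.node (.leaf (.up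 5 1635 0)) (.leaf (.up 14 104 1)))) (.node (.node (.leaf (.up 7 1156 1)) (.leaf (.up 7 1884 1))) (.node (.leaf (.up 9 1152 0)) (.leaf (.up 10 719 0))))))))

noncomputable def vt4_2_011 : Tr VStep := .node vt4_2_0110 vt4_2_0111

noncomputable def vt4_2_01 : Tr VStep := .node vt4_2_010 vt4_2_011

noncomputable def vt4_2_0 : Tr VStep := .node vt4_2_00 vt4_2_01

noncomputable def vt4_2_1000 : Tr VStep :=
  .node (.node (.node (.node (.node (.node (.node (.leaf (.root 976)) (.leaf (.up 11 1005 0))) (.node (.leaf (.up 10 1278 0)) (.leaf (.up 10 689 0)))) (.node (.node (.leaf (.up 11 1369 1)) (.leaf (.up 8 1665 1))) (.node (.leaf (.up 9 1565 0)) (.leaf (.up 10 751 1))))) (.node (.node (.node (.leaf (.up 11 79 0)) (.leaf (.up 8 1536 0))) (.node (.leaf (.up 13 439 1)) (.leaf (.up 7 1884 0)))) (.node (.node (.leaf (.up 10 1667 1)) (.leaf (.up 11 1251 0))) (.node (.leaf (.up 11 1008 0)) (.leaf (.up 12 309 1)))))) (.node (.node (.node (.node (.leaf (.up 10 254 1)) (.leaf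 (.up 9 806 1))) (.node (.leaf (.up 8 250 0)) (.leaf (.up 10 1864 1)))) (.node (.node (.leaf (.up 8 932 1)) (.leaf (.up 13 124 1))) (.node (.leaf (.up 12 537 0)) (.leaf (.up 11 1042 1))))) (.node (.node (.node (.leaf (.up 8 1099 0)) (.leaf (.up 7 252 1))) (.node (.leaf (.up 12 1866 1)) (.leaf (.up 9 1170 1)))) (.node (.node (.leaf (.up 9 126 1)) (.leaf (.up 6 231 0))) (.node (.leaf (.up 10 1040 1)) (.leaf (.up 9 1992 1))))))) (.node (.node (.node (.node (.node (.leaf (.up 10 592 1)) (.leaf (.up 11 392 1))) (.node (.leaf (.up 3 8 0)) (.leaf (.up 10 1510 1)))) (.node (.node (.leaf (.up 11 951 0)) (.leaf (.up 8 722 1))) (.node (.leaf (.up 10 1380 1)) (.leaf (.up 7 1724 1))))) (.node (.node (.node (.leaf (.up 13 1209 0)) (.leaf (.up 4 758 0))) (.node (.leaf (.up 10 1509 0)) (.leaf (.up 11 938 0)))) (.node (.node (.leaf (.up 9 720 1)) (.leaf (.up 8 264 1))) (.node (.leaf (.up 11 1726 1)) (.leaf (.up 11 1382 1)))))) (.node (.node (.node (.node (.leaf (.up 9 1197 1))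 (.leaf (.up 7 799 0))) (.node (.leaf (.up 2 1036 0)) (.leaf (.up 6 795 1)))) (.node (.node (.leaf (.up 9 2039 1)) (.leaf (.up 8 1071 1))) (.node (.leaf (.up 9 921 1)) (.leaf (.up 10 160 0))))) (.node (.node (.node (.leaf (.up 8 1911 1)) (.leaf (.up 7 1199 1))) (.node (.leaf (.up 4 793 1)) (.leaf (.up 9 193 1)))) (.node (.node (.leaf (.up 6 606 0)) (.leaf (.up 11 2037 1))) (.node (.leaf (.up 6 67 1)) (.leaf (.up 12 1357 0)))))))) (.node (.node (.node (.node (.node (.node (.leaf (.up 11 473 1)) (.leaf (.up 11 513 1))) (.node (.leaf (.up 11 804 0)) (.leaf (.up 6 1647 1)))) (.node (.node (.leaf (.up 11 643 1)) (.leaf (.up 5 1748 0))) (.node (.leaf (.up 9 455 0)) (.leaf (.up 10 1333 1))))) (.node (.node (.node (.leaf (.up 11 515 1)) (.leaf (.up 10 474 0))) (.node (.leaf (.up 12 1737 0)) (.leaf (.up 13 134 0)))) (.node (.node (.leaf (.up 9 345 1)) (.leaf (.up 12 825 0))) (.node (.leaf (.up 7 1066 0)) (.leaf (.up 12 1775 1)))))) (.node (.node (.node (.node (.leaf (.up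 10 1828 1)) (.leaf (.up 13 51 0))) (.node (.leaf (.up 9 1824 0)) (.leaf (.up 11 146 1)))) (.node (.node (.leaf (.up 6 1183 0)) (.leaf (.up 9 720 0))) (.node (.leaf (.up 10 1475 0)) (.leaf (.up 8 968 1))))) (.node (.node (.node (.leaf (.up 8 913 0)) (.leaf (.up 10 1502 0))) (.node (.leaf (.up 9 717 0)) (.leaf (.up 4 840 1)))) (.node (.node (.leaf (.up 10 370 0)) (.leaf (.up 6 1148 1))) (.node (.leaf (.up 10 46 0)) (.leaf (.up 7 18 1))))))) (.node (.node (.node (.node (.node (.leaf (.up 11 1678 0)) (.leaf (.up 8 1618 1))) (.node (.leaf (.up 11 484 1)) (.leaf (.up 11 413 0)))) (.node (.node (.leaf (.up 9 1133 0)) (.leaf (.up 10 1288 1))) (.node (.leaf (.up 11 1329 0)) (.leaf (.up 10 894 0))))) (.node (.node (.node (.leaf (.up 10 1616 1)) (.leaf (.up 10 1324 0))) (.node (.leaf (.up 9 575 0)) (.leaf (.up 7 1136 0)))) (.node (.node (.leaf (.up 12 384 0)) (.leaf (.up 10 1746 1))) (.node (.leaf (.up 9 220 0)) (.leaf (.up 9 700 1)))))) (.node (.node (.node (.node (.leaf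 (.up 9 650 0)) (.leaf (.up 6 1221 0))) (.node (.leaf (.up 11 982 0)) (.leaf (.up 4 1433 0)))) (.node (.node (.leaf (.up 10 105 0)) (.leaf (.up 5 1574 0))) (.node (.leaf (.up 12 309 0)) (.leaf (.up 6 1947 1))))) (.node (.node (.node (.leaf (.up 9 1895 0)) (.leaf (.up 11 296 0))) (.node (.leaf (.up 8 1219 1)) (.leaf (.up 10 116 0)))) (.node (.node (.leaf (.up 6 1015 1)) (.leaf (.up 10 47 1))) (.node (.leaf (.up 10 1945 1)) (.leaf (.up 10 1089 1))))))))

noncomputable def vt4_2_1001 : Tr VStep :=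
  .node (.node (.node (.node (.node (.node (.node (.leaf (.root 1514)) (.leaf (.up 11 1102 1))) (.node (.leaf (.up 6 1016 1)) (.leaf (.up 9 32 1)))) (.node (.node (.leaf (.up 7 1228 1)) (.leaf (.up 11 1812 1))) (.node (.leaf (.up 6 162 1)) (.leaf (.up 9 890 1))))) (.node (.node (.node (.leaf (.up 11 1101 0)) (.leaf (.up 7 514 0))) (.node (.leaf (.up 6 1297 0)) (.leaf (.up 5 862 0)))) (.node (.node (.leaf (.up 10 1710 0)) (.leaf (.up 9 1230 1))) (.node (.leaf (.up 5 2034 0)) (.leaf (.up 9 445 0)))))) (.node (.node (.node (.node (.leaf (.up 11 1444 0)) (.leaf (.up 10 1003 0))) (.node (.leaf (.up 10 1285 1)) (.leaf (.up 10 1757 1)))) (.node (.node (.leaf (.up 12 561 1)) (.leaf (.up 8 264 0))) (.node (.leaf (.up 10 1631 1)) (.leaf (.up 12 84 0))))) (.node (.node (.node (.leaf (.up 10 689 1)) (.leaf (.up 9 361 1))) (.node (.leaf (.up 11 1759 1)) (.leaf (.up 11 1287 1)))) (.node (.node (.leaf (.up 6 682 0)) (.leaf (.up 8 1253 0))) (.node (.leaf (.up 11 1014 0)) (.leaf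 (.up 11 1465 0))))))) (.node (.node (.node (.node (.node (.leaf (.up 11 1366 0)) (.leaf (.up 4 793 0))) (.node (.leaf (.up 11 1963 1)) (.leaf (.up 7 581 0)))) (.node (.node (.leaf (.up 7 159 1)) (.leaf (.up 8 506 0))) (.node (.leaf (.up 12 1265 1)) (.leaf (.up 9 166 0))))) (.node (.node (.node (.leaf (.up 12 31 1)) (.leaf (.up 10 1780 0))) (.node (.leaf (.up 7 1137 1)) (.leaf (.up 11 1961 1)))) (.node (.node (.leaf (.up 11 837 1)) (.leaf (.up 9 157 1))) (.node (.leaf (.up 8 772 0)) (.leaf (.up 10 1267 1)))))) (.node (.node (.node (.node (.leaf (.up 9 1336 1)) (.leaf (.up 10 1821 0))) (.node (.leaf (.up 12 14 0)) (.leaf (.up 11 1601 0)))) (.node (.node (.leaf (.up 8 1634 1)) (.leaf (.up 7 1466 1))) (.node (.leaf (.up 11 749 0)) (.leaf (.up 10 468 1))))) (.node (.node (.node (.leaf (.up 9 1215 0)) (.leaf (.up 11 752 0))) (.node (.leaf (.up 12 1507 0)) (.leaf (.up 12 940 0)))) (.node (.node (.leaf (.up 10 1464 1)) (.leaf (.up 10 19 0))) (.node (.leaf (.up 13 1792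 0)) (.leaf (.up 11 526 1)))))))) (.node (.node (.node (.node (.node (.node (.leaf (.up 7 1658 0)) (.leaf (.up 9 916 1))) (.node (.leaf (.up 11 1058 1)) (.leaf (.up 9 361 0)))) (.node (.node (.leaf (.up 5 790 1)) (.leaf (.up 12 206 1))) (.node (.leaf (.up 3 1477 0)) (.leaf (.up 11 906 0))))) (.node (.node (.node (.leaf (.up 10 919 0)) (.leaf (.up 9 78 1))) (.node (.leaf (.up 9 2040 1)) (.leaf (.up 6 1056 1)))) (.node (.node (.leaf (.up 11 204 1)) (.leaf (.up 3 788 1))) (.node (.leaf (.up 8 40 0)) (.leaf (.up 9 1914 1)))))) (.node (.node (.node (.node (.leaf (.up 8 1713 1)) (.leaf (.up 8 1385 1))) (.node (.leaf (.up 10 735 1)) (.leaf (.up 9 263 1)))) (.node (.node (.leaf (.up 8 1515 1)) (.leaf (.up 10 1746 0))) (.node (.leaf (.up 10 449 0)) (.leaf (.up 9 1934 0))))) (.node (.node (.node (.leaf (.up 11 1939 0)) (.leaf (.up 9 476 0))) (.node (.leaf (.up 9 261 1)) (.leaf (.up 11 128 0)))) (.node (.node (.leaf (.up 10 1392 0)) (.leaf (.up 11 1513 1))) (.node (.leaf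 (.up 9 1068 0)) (.leaf (.up 10 611 0))))))) (.node (.node (.node (.node (.node (.leaf (.up 9 1055 1)) (.leaf (.up 5 1991 1))) (.node (.leaf (.up 10 113 1)) (.leaf (.up 9 937 1)))) (.node (.node (.leaf (.up 9 111 0)) (.leaf (.up 9 1181 1))) (.node (.leaf (.up 11 811 1)) (.leaf (.up 8 243 1))))) (.node (.node (.node (.leaf (.up 9 1989 1)) (.leaf (.up 12 302 0))) (.node (.leaf (.up 9 1597 0)) (.leaf (.up 11 114 0)))) (.node (.node (.leaf (.up 6 1183 1)) (.leaf (.up 10 973 0))) (.node (.leaf (.up 10 241 1)) (.leaf (.up 13 657 0)))))) (.node (.node (.node (.node (.leaf (.up 11 738 1)) (.leaf (.up 8 199 0))) (.node (.leaf (.up 12 2004 0)) (.leaf (.up 10 1364 1)))) (.node (.node (.leaf (.up 12 1131 0)) (.leaf (.up 11 548 0))) (.node (.leaf (.up 11 1335 0)) (.leaf (.up 9 888 0))))) (.node (.node (.node (.leaf (.up 6 312 1)) (.leaf (.up 11 1322 0))) (.node (.leaf (.up 11 569 0)) (.leaf (.up 8 1142 0)))) (.node (.node (.leaf (.up 6 390 0)) (.leaf (.up 12 1993 0))) (.node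 (.leaf (.up 9 1548 1)) (.leaf (.up 10 1685 0))))))))

noncomputable def vt4_2_100 : Tr VStep := .node vt4_2_1000 vt4_2_1001

noncomputable def vt4_2_1010 : Tr VStep :=
  .node (.node (.node (.node (.node (.node (.node (.leaf (.up 12 723 0)) (.leaf (.up 11 1569 1))) (.node (.leaf (.up 7 911 0)) (.leaf (.up 9 591 1)))) (.node (.node (.leaf (.up 8 48 0)) (.leaf (.up 9 1663 0))) (.node (.leaf (.up 9 717 1)) (.leaf (.up 11 1827 0))))) (.node (.node (.node (.leaf (.up 10 1571 1)) (.leaf (.up 9 1531 1))) (.node (.leaf (.up 7 589 1)) (.leaf (.up 9 405 1)))) (.node (.node (.leaf (.up 12 1501 0)) (.leaf (.up 12 1697 1))) (.node (.leaf (.up 9 1153 0)) (.leaf (.up 7 718 0)))))) (.node (.node (.node (.node (.leaf (.up 8 772 1)) (.leaf (.up 9 220 1))) (.node (.leaf (.up 6 1931 0)) (.leaf (.up 8 1202 1)))) (.node (.node (.leaf (.up 10 1076 0)) (.leaf (.up 11 635 0))) (.node (.leaf (.up 10 1384 0)) (.leaf (.up 9 807 0))))) (.node (.node (.node (.leaf (.up 13 826 0)) (.leaf (.up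 5 1397 0))) (.node (.leaf (.up 8 614 0)) (.leaf (.up 5 1065 0)))) (.node (.node (.leaf (.up 11 473 0)) (.leaf (.up 2 1942 0))) (.node (.leaf (.up 11 133 0)) (.leaf (.up 8 1738 0))))))) (.node (.node (.node (.node (.node (.leaf (.up 7 1573 0)) (.leaf (.up 6 626 1))) (.node (.leaf (.up 6 1476 1)) (.leaf (.up 6 310 0)))) (.node (.node (.leaf (.up 11 752 1)) (.leaf (.up 7 649 0))) (.node (.leaf (.up 8 1694 1)) (.leaf (.up 9 981 0))))) (.node (.node (.node (.leaf (.up 8 968 0)) (.leaf (.up 9 424 1))) (.node (.leaf (.up 10 660 0)) (.leaf (.up 7 1243 0)))) (.node (.node (.leaf (.up 10 298 1)) (.leaf (.up 12 1892 0))) (.node (.leaf (.up 12 119 0)) (.leaf (.up 10 1592 0)))))) (.node (.node (.node (.node (.leaf (.up 4 545 0)) (.leaf (.up 8 1167 1))) (.node (.leaf (.up 12 825 1)) (.leaf (.up 7 1330 0)))) (.node (.node (.leaf (.up 11 194 0)) (.leaf (.up 2 1677 0))) (.node (.leaf (.up 11 414 0)) (.leaf (.up 8 2001 0))))) (.node (.node (.node (.leaf (.up 10 1996 0)) (.leaf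 (.up 7 1877 1))) (.node (.leaf (.up 8 227 1)) (.leaf (.up 8 223 0)))) (.node (.node (.leaf (.up 7 2007 1)) (.leaf (.up 9 1039 1))) (.node (.leaf (.up 8 1139 0)) (.leaf (.up 10 97 1)))))))) (.node (.node (.node (.node (.node (.node (.leaf (.up 12 1289 0)) (.leaf (.up 11 838 0))) (.node (.leaf (.up 11 1109 0)) (.leaf (.up 10 1429 1)))) (.node (.node (.leaf (.up 11 2026 0)) (.leaf (.up 11 421 0))) (.node (.leaf (.up 13 1303 1)) (.leaf (.up 7 249 0))))) (.node (.node (.node (.leaf (.up 7 505 1)) (.leaf (.up 4 545 1))) (.node (.leaf (.up 10 1431 1)) (.leaf (.up 9 2039 0)))) (.node (.node (.leaf (.up 8 675 1)) (.leaf (.up 9 1096 0))) (.node (.leaf (.up 11 1741 1)) (.leaf (.up 12 1301 1)))))) (.node (.node (.node (.node (.leaf (.up 12 269 0)) (.leaf (.up 10 1858 0))) (.node (.leaf (.up 10 176 1)) (.leaf (.up 7 872 1)))) (.node (.node (.leaf (.up 8 1006 0)) (.leaf (.up 9 1441 0))) (.node (.leaf (.up 10 690 0)) (.leaf (.up 6 50 1))))) (.node (.node (.node (.leaf (.up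 11 1796 1)) (.leaf (.up 11 1244 1))) (.node (.leaf (.up 9 1468 0)) (.leaf (.up 7 178 1)))) (.node (.node (.leaf (.up 4 1539 0)) (.leaf (.up 9 1926 1))) (.node (.leaf (.up 8 48 1)) (.leaf (.up 5 1000 1))))))) (.node (.node (.node (.node (.node (.leaf (.up 9 1648 1)) (.leaf (.up 10 1448 1))) (.node (.leaf (.up 12 542 1)) (.leaf (.up 10 1772 0)))) (.node (.node (.leaf (.up 11 1322 1)) (.leaf (.up 9 1778 1))) (.node (.leaf (.up 6 576 0)) (.leaf (.up 9 668 1))))) (.node (.node (.node (.leaf (.up 11 1042 0)) (.leaf (.up 10 1650 1))) (.node (.leaf (.up 10 1358 0)) (.leaf (.up 10 540 1)))) (.node (.node (.leaf (.up 10 1776 1)) (.leaf (.up 12 190 0))) (.node (.leaf (.up 8 670 1)) (.leaf (.up 11 326 1)))))) (.node (.node (.node (.node (.leaf (.up 8 141 1)) (.leaf (.up 10 948 0))) (.node (.leaf (.up 9 1191 0)) (.leaf (.up 9 1851 1)))) (.node (.node (.leaf (.up 11 983 1)) (.leaf (.up 4 15 1))) (.node (.leaf (.up 10 1604 0)) (.leaf (.up 7 11 0))))) (.node (.node (.node (.leaf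 (.up 8 855 1)) (.leaf (.up 10 1625 0))) (.node (.leaf (.up 8 330 0)) (.leaf (.up 8 1249 1)))) (.node (.node (.leaf (.up 6 13 1)) (.leaf (.up 9 981 1))) (.node (.leaf (.up 8 1123 1)) (.leaf (.up 10 1510 0))))))))

noncomputable def vt4_2_1011 : Tr VStep :=
  .node (.node (.node (.node (.node (.node (.node (.leaf (.up 5 1745 0)) (.leaf (.up 11 158 0))) (.node (.leaf (.up 7 2 1)) (.leaf (.up 10 450 0)))) (.node (.node (.leaf (.up 11 1846 1)) (.leaf (.up 8 1262 1))) (.node (.leaf (.up 9 1390 0)) (.leaf (.up 11 128 1))))) (.node (.node (.node (.leaf (.up 7 1974 1)) (.leaf (.up 9 1134 1))) (.node (.leaf (.up 12 984 1)) (.leaf (.up 1 0 1)))) (.node (.node (.leaf (.up 12 479 0)) (.leaf (.up 5 1936 0))) (.node (.leaf (.up 12 130 1)) (.leaf (.up 7 858 1)))))) (.node (.node (.node (.node (.leaf (.up 10 725 0)) (.leaf (.up 10 1178 0))) (.node (.leaf (.up 6 905 0)) (.leaf (.up 11 1478 0)))) (.node (.node (.leaf (.up 5 54 0)) (.leaf (.up 11 531 1))) (.node (.leaf (.up 11 362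 0)) (.leaf (.up 10 1829 0))))) (.node (.node (.node (.leaf (.up 11 331 1)) (.leaf (.up 9 375 0))) (.node (.leaf (.up 8 1317 1)) (.leaf (.up 10 1789 1)))) (.node (.node (.leaf (.up 12 529 1)) (.leaf (.up 7 457 1))) (.node (.leaf (.up 9 1663 1)) (.leaf (.up 11 1447 1))))))) (.node (.node (.node (.node (.node (.leaf (.up 10 551 0)) (.leaf (.up 6 999 1))) (.node (.leaf (.up 11 891 0)) (.leaf (.up 10 1929 1)))) (.node (.node (.leaf (.up 12 869 1)) (.leaf (.up 10 189 1))) (.node (.leaf (.up 8 408 0)) (.leaf (.up 7 2007 0))))) (.node (.node (.node (.leaf (.up 9 997 1)) (.leaf (.up 8 61 1))) (.node (.leaf (.up 6 1931 1)) (.leaf (.up 9 1107 1)))) (.node (.node (.leaf (.up 9 1321 0)) (.leaf (.up 10 871 1))) (.node (.leaf (.up 11 1233 1)) (.leaf (.up 10 1801 1)))))) (.node (.node (.node (.node (.leaf (.up 8 1730 1)) (.leaf (.up 8 108 0))) (.node (.leaf (.up 11 684 1)) (.leaf (.up 12 372 1)))) (.node (.node (.leaf (.up 8 1432 1)) (.leaf (.up 10 655 0))) (.node (.leaf (.up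 7 502 1)) (.leaf (.up 7 558 1))))) (.node (.node (.node (.leaf (.up 12 1304 1)) (.leaf (.up 12 1409 0))) (.node (.leaf (.up 10 374 1)) (.leaf (.up 10 1245 0)))) (.node (.node (.leaf (.up 12 1602 1)) (.leaf (.up 10 1890 0))) (.node (.leaf (.up 10 113 0)) (.leaf (.up 7 1598 0)))))))) (.node (.node (.node (.node (.node (.node (.leaf (.up 4 950 1)) (.leaf (.up 11 110 1))) (.node (.leaf (.up 9 2008 1)) (.leaf (.up 8 1560 0)))) (.node (.node (.leaf (.up 4 236 1)) (.leaf (.up 11 820 1))) (.node (.leaf (.up 7 692 0)) (.leaf (.up 9 1275 0))))) (.node (.node (.node (.leaf (.up 8 108 1)) (.leaf (.up 8 681 0))) (.node (.leaf (.up 7 1466 0)) (.leaf (.up 9 1013 0)))) (.node (.node (.leaf (.up 10 1541 0)) (.leaf (.up 3 74 0))) (.node (.leaf (.up 10 1880 1)) (.leaf (.up 9 1152 1)))))) (.node (.node (.node (.node (.leaf (.up 7 1295 0)) (.leaf (.up 10 832 0))) (.node (.leaf (.up 9 1107 0)) (.leaf (.up 10 765 1)))) (.node (.node (.leaf (.up 7 1553 1)) (.leaf (.up 9 1481 1))) (.node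 (.leaf (.up 11 639 1)) (.leaf (.up 13 255 0))))) (.node (.node (.node (.leaf (.up 12 226 0)) (.leaf (.up 9 1353 1))) (.node (.leaf (.up 13 767 1)) (.leaf (.up 9 295 1)))) (.node (.node (.leaf (.up 10 1483 1)) (.leaf (.up 11 1102 0))) (.node (.leaf (.up 11 421 1)) (.leaf (.up 10 637 1))))))) (.node (.node (.node (.node (.node (.leaf (.up 7 1533 0)) (.leaf (.up 7 946 0))) (.node (.leaf (.up 5 1185 0)) (.leaf (.up 8 83 1)))) (.node (.node (.leaf (.up 9 1215 1)) (.leaf (.up 7 337 0))) (.node (.leaf (.up 9 209 1)) (.leaf (.up 6 13 0))))) (.node (.node (.node (.leaf (.up 9 1087 1)) (.leaf (.up 10 1631 0))) (.node (.leaf (.up 11 81 1)) (.leaf (.up 6 905 1)))) (.node (.node (.leaf (.up 8 755 0)) (.leaf (.up 9 1212 0))) (.node (.leaf (.up 11 943 0)) (.leaf (.up 9 211 1)))))) (.node (.node (.node (.node (.leaf (.up 7 505 0)) (.leaf (.up 7 1974 0))) (.node (.leaf (.up 9 165 0)) (.leaf (.up 10 1710 1)))) (.node (.node (.leaf (.up 12 578 1)) (.leaf (.up 10 1365 0))) (.node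 (.leaf (.up 12 1580 1)) (.leaf (.up 8 1524 1))))) (.node (.node (.node (.leaf (.up 4 1044 0)) (.leaf (.up 6 603 0))) (.node (.leaf (.up 9 1352 0)) (.leaf (.up 9 775 0)))) (.node (.node (.leaf (.up 8 408 1)) (.leaf (.up 6 576 1))) (.node (.leaf (.up 11 1963 0)) (.leaf (.up 8 1582 1))))))))

noncomputable def vt4_2_101 : Tr VStep := .node vt4_2_1010 vt4_2_1011

noncomputable def vt4_2_10 : Tr VStep := .node vt4_2_100 vt4_2_101

noncomputable def vt4_2_1100 : Tr VStep :=
  .node (.node (.node (.node (.node (.node (.node (.leaf (.up 11 133 1)) (.leaf (.up 9 89 0))) (.node (.leaf (.up 10 1259 1)) (.leaf (.up 3 1843 1)))) (.node (.node (.leaf (.up 11 1269 0)) (.leaf (.up 11 7 1))) (.node (.leaf (.up 10 1449 0)) (.leaf (.up 9 998 0))))) (.node (.node (.node (.leaf (.up 12 863 1)) (.leaf (.up 10 135 1))) (.node (.leaf (.up 10 679 0)) (.leaf (.up 9 1256 0)))) (.node (.node (.leaf (.up 10 280 0)) (.leaf (.up 8 1879 0))) (.node (.leaf (.up 8 68 0)) (.leaf (.up 12 1547 0))))))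 (.node (.node (.node (.node (.leaf (.up 5 530 0)) (.leaf (.up 11 1117 0))) (.node (.leaf (.up 9 534 1)) (.leaf (.up 9 1281 0)))) (.node (.node (.leaf (.up 10 241 0)) (.leaf (.up 11 1726 0))) (.node (.leaf (.up 10 429 0)) (.leaf (.up 9 2018 0))))) (.node (.node (.node (.leaf (.up 5 1442 1)) (.leaf (.up 7 1658 1))) (.node (.leaf (.up 11 1699 0)) (.leaf (.up 4 236 0)))) (.node (.node (.leaf (.up 10 1308 0)) (.leaf (.up 9 851 0))) (.node (.leaf (.up 13 662 1)) (.leaf (.up 4 334 1))))))) (.node (.node (.node (.node (.node (.leaf (.up 14 1238 1)) (.leaf (.up 7 1199 0))) (.node (.leaf (.up 12 184 1)) (.leaf (.up 9 1523 0)))) (.node (.node (.leaf (.up 10 1932 1)) (.leaf (.up 8 1612 0))) (.node (.leaf (.up 11 351 0)) (.leaf (.up 10 1808 0))))) (.node (.node (.node (.leaf (.up 12 1805 0)) (.leaf (.up 8 1236 1))) (.node (.leaf (.up 7 866 1)) (.leaf (.up 10 186 1)))) (.node (.node (.leaf (.up 12 1518 0)) (.leaf (.up 9 1934 1))) (.node (.leaf (.up 8 1202 0)) (.leaf (.up 10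 765 0)))))) (.node (.node (.node (.node (.leaf (.up 11 555 1)) (.leaf (.up 7 499 1))) (.node (.leaf (.up 9 1605 1)) (.leaf (.up 4 1437 1)))) (.node (.node (.leaf (.up 11 369 1)) (.leaf (.up 8 681 1))) (.node (.leaf (.up 12 1371 0)) (.leaf (.up 3 788 0))))) (.node (.node (.node (.leaf (.up 7 497 1)) (.leaf (.up 10 1350 0))) (.node (.leaf (.up 11 1439 1)) (.leaf (.up 13 1607 1)))) (.node (.node (.leaf (.up 8 683 1)) (.leaf (.up 11 1957 0))) (.node (.leaf (.up 6 1733 1)) (.leaf (.up 9 1785 0)))))))) (.node (.node (.node (.node (.node (.node (.leaf (.up 9 1887 1)) (.leaf (.up 10 1159 1))) (.node (.leaf (.up 10 144 0)) (.leaf (.up 10 233 1)))) (.node (.node (.leaf (.up 12 1029 1)) (.leaf (.up 11 2013 1))) (.node (.leaf (.up 12 627 0)) (.leaf (.up 8 947 1))))) (.node (.node (.node (.leaf (.up 10 1157 1)) (.leaf (.up 11 622 0))) (.node (.leaf (.up 11 235 1)) (.leaf (.up 11 819 1)))) (.node (.node (.leaf (.up 8 1730 0)) (.leaf (.up 8 141 0))) (.node (.leaf (.up 7 1950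 0)) (.leaf (.up 10 105 1)))))) (.node (.node (.node (.node (.leaf (.up 7 418 1)) (.leaf (.up 8 634 1))) (.node (.leaf (.up 10 1172 0)) (.leaf (.up 9 1556 1)))) (.node (.node (.leaf (.up 10 760 1)) (.leaf (.up 9 288 1))) (.node (.leaf (.up 8 1655 0)) (.leaf (.up 9 56 0))))) (.node (.node (.node (.leaf (.up 8 37 0)) (.leaf (.up 6 1642 0))) (.node (.leaf (.up 11 1558 1)) (.leaf (.up 10 1486 1)))) (.node (.node (.leaf (.up 7 710 0)) (.leaf (.up 4 762 1))) (.node (.leaf (.up 12 1356 1)) (.leaf (.up 9 1684 1))))))) (.node (.node (.node (.node (.node (.leaf (.up 12 1338 0)) (.leaf (.up 11 212 1))) (.node (.leaf (.up 10 1890 1)) (.leaf (.up 9 1210 1)))) (.node (.node (.leaf (.up 11 2009 0)) (.leaf (.up 10 406 0))) (.node (.leaf (.up 10 1669 0)) (.leaf (.up 2 2016 1))))) (.node (.node (.node (.leaf (.up 13 214 1)) (.leaf (.up 10 782 1))) (.node (.leaf (.up 11 395 0)) (.leaf (.up 9 1988 0)))) (.node (.node (.leaf (.up 12 564 0)) (.leaf (.up 11 1147 0))) (.node (.leaf (.up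 7 872 0)) (.leaf (.up 11 1319 0)))))) (.node (.node (.node (.node (.leaf (.up 11 1521 1)) (.leaf (.up 7 1905 0))) (.node (.leaf (.up 11 415 1)) (.leaf (.up 10 583 1)))) (.node (.node (.leaf (.up 12 989 0)) (.leaf (.up 8 1426 0))) (.node (.leaf (.up 9 709 1)) (.leaf (.up 5 285 1))))) (.node (.node (.node (.leaf (.up 7 1235 0)) (.leaf (.up 9 1523 1))) (.node (.leaf (.up 7 581 1)) (.leaf (.up 8 960 0)))) (.node (.node (.leaf (.up 6 1393 1)) (.leaf (.up 8 127 0))) (.node (.leaf (.up 7 287 1)) (.leaf (.up 11 711 1))))))))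

noncomputable def vt4_2_1101 : Tr VStep :=
  .node (.node (.node (.node (.node (.node (.node (.leaf (.up 6 272 1)) (.leaf (.up 9 1115 0))) (.node (.leaf (.up 4 1406 1)) (.leaf (.up 11 1287 0)))) (.node (.node (.leaf (.up 8 247 0)) (.leaf (.up 11 402 1))) (.node (.leaf (.up 11 427 0)) (.leaf (.up 9 2020 0))))) (.node (.node (.node (.leaf (.up 11 2041 0)) (.leaf (.up 8 274 1))) (.node (.leaf (.up 8 1701 0)) (.leaf (.up 9 234 0)))) (.node (.node (.leaf (.up 10 1306 0)) (.leaf (.up 9 584 1))) (.node (.leaf (.up 8 1534 1)) (.leaf (.up 5 1574 1)))))) (.node (.node (.node (.node (.leaf (.up 8 2029 1)) (.leaf (.up 7 95 0))) (.node (.leaf (.up 9 899 1)) (.leaf (.up 12 91 1)))) (.node (.node (.leaf (.up 10 1267 0)) (.leaf (.up 9 700 0))) (.node (.leaf (.up 12 217 1)) (.leaf (.up 10 769 1))))) (.node (.node (.node (.leaf (.up 12 1021 0)) (.leaf (.up 14 2031 1))) (.node (.leaf (.up 9 89 1)) (.leaf (.up 8 1262 0)))) (.node (.node (.leaf (.up 7 286 0)) (.leaf (.up 9 1873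 0))) (.node (.leaf (.up 11 771 1)) (.leaf (.up 11 1549 0))))))) (.node (.node (.node (.node (.node (.leaf (.up 11 1762 0)) (.leaf (.up 9 1691 1))) (.node (.leaf (.up 10 1982 0)) (.leaf (.up 7 497 0)))) (.node (.node (.leaf (.up 10 1561 1)) (.leaf (.up 7 1473 1))) (.node (.leaf (.up 10 631 1)) (.leaf (.up 10 786 0))))) (.node (.node (.node (.leaf (.up 7 1689 1)) (.leaf (.up 10 1344 0))) (.node (.leaf (.up 7 759 1)) (.leaf (.up 13 303 1)))) (.node (.node (.leaf (.up 10 1475 1)) (.leaf (.up 11 1955 0))) (.node (.leaf (.up 10 429 1)) (.leaf (.up 10 1791 0)))))) (.node (.node (.node (.node (.leaf (.up 12 742 0)) (.leaf (.up 11 102 1))) (.node (.leaf (.up 10 2000 1)) (.leaf (.up 10 1525 0)))) (.node (.node (.leaf (.up 11 228 1)) (.leaf (.up 10 1610 0))) (.node (.leaf (.up 9 1162 1)) (.leaf (.up 6 1874 1))))) (.node (.node (.node (.leaf (.up 10 1803 0)) (.leaf (.up 9 324 0))) (.node (.leaf (.up 12 1034 1)) (.leaf (.up 10 24 0)))) (.node (.node (.leaf (.up 9 830 1))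 (.leaf (.up 7 935 0))) (.node (.leaf (.up 9 1204 0)) (.leaf (.up 9 1160 1)))))))) (.node (.node (.node (.node (.node (.node (.leaf (.up 8 1738 1)) (.leaf (.up 12 897 0))) (.node (.leaf (.up 6 676 1)) (.leaf (.up 11 380 1)))) (.node (.node (.leaf (.up 8 1837 0)) (.leaf (.up 7 1608 1))) (.node (.leaf (.up 5 1649 0)) (.leaf (.up 11 550 1))))) (.node (.node (.node (.leaf (.up 14 1296 1)) (.leaf (.up 9 1644 0))) (.node (.leaf (.up 10 383 0)) (.leaf (.up 8 1840 0)))) (.node (.node (.leaf (.up 10 1610 1)) (.leaf (.up 8 1426 1))) (.node (.leaf (.up 11 548 1)) (.leaf (.up 5 1491 0)))))) (.node (.node (.node (.node (.leaf (.up 11 55 1)) (.leaf (.up 8 1925 0))) (.node (.leaf (.up 5 150 0)) (.leaf (.up 12 1753 0)))) (.node (.node (.leaf (.up 8 877 1)) (.leaf (.up 11 1382 0))) (.node (.leaf (.up 10 1795 1)) (.leaf (.up 7 1243 1))))) (.node (.node (.node (.leaf (.up 11 1005 1)) (.leaf (.up 6 616 0))) (.node (.leaf (.up 13 1403 0)) (.leaf (.up 9 1115 1)))) (.node (.node (.leaf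 (.up 11 183 1)) (.leaf (.up 12 139 0))) (.node (.leaf (.up 10 1241 1)) (.leaf (.up 11 1793 1))))))) (.node (.node (.node (.node (.node (.leaf (.up 6 312 0)) (.leaf (.up 8 1911 0))) (.node (.leaf (.up 11 100 0)) (.leaf (.up 8 1579 0)))) (.node (.node (.leaf (.up 11 451 1)) (.leaf (.up 4 1428 0))) (.node (.leaf (.up 11 1453 1)) (.leaf (.up 8 1224 0))))) (.node (.node (.node (.leaf (.up 11 323 1)) (.leaf (.up 10 666 0))) (.node (.leaf (.up 10 1417 0)) (.leaf (.up 5 966 0)))) (.node (.node (.leaf (.up 9 1590 0)) (.leaf (.up 10 449 1))) (.node (.leaf (.up 8 1655 1)) (.leaf (.up 12 293 0)))))) (.node (.node (.node (.node (.leaf (.up 8 1340 0)) (.leaf (.up 10 883 0))) (.node (.leaf (.up 10 10 1)) (.leaf (.up 11 978 1)))) (.node (.node (.leaf (.up 10 1854 1)) (.leaf (.up 12 1254 1))) (.node (.leaf (.up 10 1667 0)) (.leaf (.up 11 136 1))))) (.node (.node (.node (.leaf (.up 9 209 0)) (.leaf (.up 8 1694 0))) (.node (.leaf (.up 12 976 1)) (.leaf (.up 3 8 1)))) (.node (.node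 (.leaf (.up 13 1252 1)) (.leaf (.up 8 1149 0))) (.node (.leaf (.up 11 138 1)) (.leaf (.up 9 850 1))))))))

noncomputable def vt4_2_110 : Tr VStep := .node vt4_2_1100 vt4_2_1101

noncomputable def vt4_2_1110 : Tr VStep :=
  .node (.node (.node (.node (.node (.node (.node (.leaf (.up 10 359 0)) (.leaf (.up 11 1832 0))) (.node (.leaf (.up 7 59 0)) (.leaf (.up 6 1652 0)))) (.node (.node (.leaf (.up 8 37 1)) (.leaf (.up 10 1483 0))) (.node (.leaf (.up 8 1099 1)) (.leaf (.up 10 1175 0))))) (.node (.node (.node (.leaf (.up 9 165 1)) (.leaf (.up 9 709 0))) (.node (.leaf (.up 11 1494 0)) (.leaf (.up 9 921 0)))) (.node (.node (.leaf (.up 10 1023 1)) (.leaf (.up 12 39 1))) (.node (.leaf (.up 10 1845 0)) (.leaf (.up 11 1097 1)))))) (.node (.node (.node (.node (.leaf (.up 9 1379 0)) (.leaf (.up 10 812 0))) (.node (.leaf (.up 9 1087 0)) (.leaf (.up 12 564 1)))) (.node (.node (.leaf (.up 12 1920 0)) (.leaf (.up 7 463 0))) (.node (.leaf (.up 9 1756 0)) (.leaf (.up 11 147 0)))))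 (.node (.node (.node (.leaf (.up 7 142 0)) (.leaf (.up 7 1408 1))) (.node (.leaf (.up 10 566 1)) (.leaf (.up 6 494 1)))) (.node (.node (.leaf (.up 8 1282 1)) (.leaf (.up 11 1754 1))) (.node (.leaf (.up 12 817 0)) (.leaf (.up 4 1406 0))))))) (.node (.node (.node (.node (.node (.leaf (.up 11 1836 1)) (.leaf (.up 13 1268 1))) (.node (.leaf (.up 9 834 1)) (.leaf (.up 11 154 1)))) (.node (.node (.leaf (.up 8 1142 1)) (.leaf (.up 10 317 0))) (.node (.leaf (.up 8 1582 0)) (.leaf (.up 8 960 1))))) (.node (.node (.node (.leaf (.up 10 1270 1)) (.leaf (.up 8 1838 1))) (.node (.leaf (.up 9 288 0)) (.leaf (.up 10 1903 0)))) (.node (.node (.leaf (.up 12 671 0)) (.leaf (.up 10 1232 0))) (.node (.leaf (.up 6 962 1)) (.leaf (.up 10 1420 0)))))) (.node (.node (.node (.node (.leaf (.up 9 405 0)) (.leaf (.up 7 521 1))) (.node (.leaf (.up 11 201 0)) (.leaf (.up 9 1670 0)))) (.node (.node (.leaf (.up 9 651 1)) (.leaf (.up 10 1337 0))) (.node (.leaf (.up 9 1765 1)) (.leaf (.up 8 1341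 1))))) (.node (.node (.node (.leaf (.up 5 523 1)) (.leaf (.up 8 467 1))) (.node (.leaf (.up 8 1637 1)) (.leaf (.up 10 875 0)))) (.node (.node (.leaf (.up 7 337 1)) (.leaf (.up 7 649 1))) (.node (.leaf (.up 5 1991 0)) (.leaf (.up 11 1767 1)))))))) (.node (.node (.node (.node (.node (.node (.leaf (.up 7 1725 0)) (.leaf (.up 9 1917 1))) (.node (.leaf (.up 13 2017 0)) (.leaf (.up 11 430 0)))) (.node (.node (.leaf (.up 8 1118 0)) (.leaf (.up 12 529 0))) (.node (.leaf (.up 8 1282 0)) (.leaf (.up 12 73 1))))) (.node (.node (.node (.leaf (.up 11 1919 1)) (.leaf (.up 9 1191 1))) (.node (.leaf (.up 10 785 1)) (.leaf (.up 11 201 1)))) (.node (.node (.leaf (.up 7 1061 1)) (.leaf (.up 9 2045 1))) (.node (.leaf (.up 9 75 1)) (.leaf (.up 8 915 1)))))) (.node (.node (.node (.node (.leaf (.up 10 697 0)) (.leaf (.up 10 1270 0))) (.node (.leaf (.up 9 1590 1)) (.leaf (.up 12 1518 1)))) (.node (.node (.leaf (.up 10 258 1)) (.leaf (.up 11 730 1))) (.node (.leaf (.up 7 262 0)) (.leaf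 (.up 7 1716 1))))) (.node (.node (.node (.leaf (.up 12 386 1)) (.leaf (.up 2 602 1))) (.node (.leaf (.up 9 1516 1)) (.leaf (.up 9 1588 1)))) (.node (.node (.leaf (.up 11 728 1)) (.leaf (.up 6 256 1))) (.node (.leaf (.up 10 1259 0)) (.leaf (.up 6 676 0))))))) (.node (.node (.node (.node (.node (.leaf (.up 10 587 0)) (.leaf (.up 11 1028 0))) (.node (.leaf (.up 9 791 0)) (.leaf (.up 11 1856 1)))) (.node (.node (.leaf (.up 11 168 0)) (.leaf (.up 10 116 1))) (.node (.leaf (.up 9 1986 1)) (.leaf (.up 13 1050 1))))) (.node (.node (.node (.leaf (.up 10 812 1)) (.leaf (.up 11 489 0))) (.node (.leaf (.up 10 1858 1)) (.leaf (.up 10 1178 1)))) (.node (.node (.leaf (.up 12 1349 0)) (.leaf (.up 11 778 0))) (.node (.leaf (.up 10 1049 0)) (.leaf (.up 7 598 0)))))) (.node (.node (.node (.node (.leaf (.up 11 1615 0)) (.leaf (.up 1 0 0))) (.node (.leaf (.up 9 1811 0)) (.leaf (.up 7 348 0)))) (.node (.node (.leaf (.up 8 1196 0)) (.leaf (.up 6 1673 1))) (.node (.leaf (.up 10 1520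 0)) (.leaf (.up 7 959 0))))) (.node (.node (.node (.leaf (.up 7 1489 1)) (.leaf (.up 10 1545 1))) (.node (.leaf (.up 6 766 0)) (.leaf (.up 11 1201 0)))) (.node (.node (.leaf (.up 9 321 0)) (.leaf (.up 10 1363 1))) (.node (.leaf (.up 5 29 0)) (.leaf (.up 8 1618 0))))))))

noncomputable def vt4_2_1111 : Tr VStep :=
  .node (.node (.node (.node (.node (.node (.node (.leaf (.up 3 1381 0)) (.leaf (.up 8 306 1))) (.node (.leaf (.up 6 1081 0)) (.leaf (.up 11 1372 1)))) (.node (.node (.leaf (.up 8 432 1)) (.leaf (.up 6 616 1))) (.node (.leaf (.up 10 1502 1)) (.leaf (.up 8 149 0))))) (.node (.node (.node (.leaf (.up 11 136 0)) (.leaf (.up 7 1735 0))) (.node (.leaf (.up 9 1374 1)) (.leaf (.up 6 1947 0)))) (.node (.node (.leaf (.up 10 618 1)) (.leaf (.up 7 1060 0))) (.node (.leaf (.up 6 1540 1)) (.leaf (.up 9 1400 0)))))) (.node (.node (.node (.node (.leaf (.up 10 1047 1)) (.leaf (.up 8 1838 0))) (.node (.leaf (.up 8 61 0)) (.leaf (.up 10 1650 0)))) (.node (.node (.leaf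 (.up 11 1869 1)) (.leaf (.up 5 1173 1))) (.node (.leaf (.up 11 734 0)) (.leaf (.up 10 251 1))))) (.node (.node (.node (.leaf (.up 10 1164 0)) (.leaf (.up 12 1045 1))) (.node (.leaf (.up 9 931 1)) (.leaf (.up 9 123 1)))) (.node (.node (.leaf (.up 6 1647 0)) (.leaf (.up 9 32 0))) (.node (.leaf (.up 3 1843 0)) (.leaf (.up 11 801 1))))))) (.node (.node (.node (.node (.node (.leaf (.up 9 403 0)) (.leaf (.up 7 2012 0))) (.node (.leaf (.up 10 727 1)) (.leaf (.up 6 1664 0)))) (.node (.node (.leaf (.up 12 880 0)) (.leaf (.up 8 1343 0))) (.node (.leaf (.up 13 556 0)) (.leaf (.up 8 1123 0))))) (.node (.node (.node (.leaf (.up 8 1150 0)) (.leaf (.up 6 1723 1))) (.node (.leaf (.up 11 1314 0)) (.leaf (.up 8 877 0)))) (.node (.node (.leaf (.up 10 1593 1)) (.leaf (.up 11 210 0))) (.node (.leaf (.up 10 1985 0)) (.leaf (.up 7 398 0)))))) (.node (.node (.node (.node (.leaf (.up 8 68 1)) (.leaf (.up 12 984 0))) (.node (.leaf (.up 7 1066 1)) (.leaf (.up 5 2034 1)))) (.node (.node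 (.leaf (.up 11 1908 0)) (.leaf (.up 12 315 0))) (.node (.leaf (.up 12 1904 1)) (.leaf (.up 9 1192 1))))) (.node (.node (.node (.leaf (.up 11 122 0)) (.leaf (.up 9 70 1))) (.node (.leaf (.up 9 294 0)) (.leaf (.up 11 1897 0)))) (.node (.node (.leaf (.up 10 665 0)) (.leaf (.up 12 796 1))) (.node (.leaf (.up 10 1194 1)) (.leaf (.up 13 1906 1)))))))) (.node (.node (.node (.node (.node (.node (.leaf (.up 11 703 0)) (.leaf (.up 8 1768 1))) (.node (.leaf (.up 7 995 0)) (.leaf (.up 6 1452 0)))) (.node (.node (.leaf (.up 6 1642 1)) (.leaf (.up 11 1555 0))) (.node (.leaf (.up 6 256 0)) (.leaf (.up 9 476 1))))) (.node (.node (.node (.leaf (.up 6 1874 0)) (.leaf (.up 5 285 0))) (.node (.leaf (.up 11 644 1)) (.leaf (.up 7 348 1)))) (.node (.node (.leaf (.up 10 1456 1)) (.leaf (.up 10 1022 0))) (.node (.leaf (.up 11 478 1)) (.leaf (.up 6 674 0)))))) (.node (.node (.node (.node (.leaf (.up 6 1723 0)) (.leaf (.up 13 244 0))) (.node (.leaf (.up 11 1955 1)) (.leaf (.up 9 424 0))))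 (.node (.node (.leaf (.up 10 1112 0)) (.leaf (.up 12 847 1))) (.node (.leaf (.up 11 1284 0)) (.leaf (.up 8 1825 1))))) (.node (.node (.node (.leaf (.up 7 854 0)) (.leaf (.up 4 975 1))) (.node (.leaf (.up 9 1145 1)) (.leaf (.up 10 1093 0)))) (.node (.node (.leaf (.up 11 437 0)) (.leaf (.up 8 149 1))) (.node (.leaf (.up 10 233 0)) (.leaf (.up 9 1275 1))))))) (.node (.node (.node (.node (.node (.leaf (.up 11 1609 0)) (.leaf (.up 8 6 0))) (.node (.leaf (.up 8 1813 0)) (.leaf (.up 5 346 0)))) (.node (.node (.leaf (.up 10 1194 0)) (.leaf (.up 7 481 1))) (.node (.leaf (.up 13 1526 0)) (.leaf (.up 8 1423 1))))) (.node (.node (.node (.leaf (.up 8 932 0)) (.leaf (.up 8 1515 0))) (.node (.leaf (.up 10 760 0)) (.leaf (.up 7 1295 1)))) (.node (.node (.leaf (.up 9 483 1)) (.leaf (.up 12 1800 0))) (.node (.leaf (.up 6 1421 1)) (.leaf (.up 8 1621 1)))))) (.node (.node (.node (.node (.leaf (.up 7 1950 1)) (.leaf (.up 9 1094 1))) (.node (.leaf (.up 10 785 0)) (.leaf (.up 8 40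 1)))) (.node (.node (.leaf (.up 9 174 0)) (.leaf (.up 10 1761 0))) (.node (.leaf (.up 10 498 0)) (.leaf (.up 10 1981 0))))) (.node (.node (.node (.leaf (.up 12 1092 1)) (.leaf (.up 6 1948 1))) (.node (.leaf (.up 12 42 1)) (.leaf (.up 9 1010 1)))) (.node (.node (.leaf (.up 11 1822 1)) (.leaf (.up 12 780 0))) (.node (.leaf (.up 9 1055 0)) (.leaf (.up 10 592 0))))))))

noncomputable def vt4_2_111 : Tr VStep := .node vt4_2_1110 vt4_2_1111

noncomputable def vt4_2_11 : Tr VStep := .node vt4_2_110 vt4_2_111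

noncomputable def vt4_2_1 : Tr VStep := .node vt4_2_10 vt4_2_11

noncomputable def vt4_2_ : Tr VStep := .node vt4_2_0 vt4_2_1

noncomputable def vt4_3_0000 : Tr VStep :=
  .node (.node (.node (.node (.node (.node (.node (.leaf (.root 990)) (.leaf (.up 4 2030 3))) (.node (.leaf (.up 2 636 3)) (.leaf (.up 6 1426 3)))) (.node (.node (.leaf (.up 4 451 3)) (.leaf (.up 4 1091 1))) (.node (.leaf (.up 4 1689 1)) (.leaf (.up 5 1105 3))))) (.node (.node (.node (.leaf (.up 5 1114 1)) (.leaf (.up 5 369 3))) (.node (.leaf (.up 5 453 1)) (.leaf (.up 4 586 4)))) (.node (.node (.leaf (.up 6 1217 2)) (.leaf (.up 4 178 3))) (.node (.leaf (.up 3 1039 0)) (.leaf (.up 3 1087 0)))))) (.node (.node (.node (.node (.leaf (.up 2 440 3)) (.leaf (.up 4 1622 3))) (.node (.leaf (.up 5 1100 4)) (.leaf (.up 4 1066 3)))) (.node (.node (.leaf (.up 6 1974 4)) (.leaf (.up 5 1592 4))) (.node (.leaf (.up 4 519 3)) (.leaf (.up 5 1513 3))))) (.node (.node (.node (.leaf (.up 4 610 2)) (.leaf (.up 6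 201 3))) (.node (.leaf (.up 4 125 1)) (.leaf (.up 5 1017 4)))) (.node (.node (.leaf (.up 6 893 1)) (.leaf (.up 6 3 4))) (.node (.leaf (.up 6 821 2)) (.leaf (.up 6 423 1))))))) (.node (.node (.node (.node (.node (.leaf (.up 2 1796 0)) (.leaf (.up 5 1330 1))) (.node (.leaf (.up 4 1689 4)) (.leaf (.up 4 727 3)))) (.node (.node (.leaf (.up 5 1670 3)) (.leaf (.up 4 173 0))) (.node (.leaf (.up 5 1274 3)) (.leaf (.up 2 788 3))))) (.node (.node (.node (.leaf (.up 6 34 2)) (.leaf (.up 5 1956 0))) (.node (.leaf (.up 3 162 4)) (.leaf (.up 6 1974 0)))) (.node (.node (.leaf (.up 4 25 3)) (.leaf (.up 6 61 0))) (.node (.leaf (.up 3 373 2)) (.leaf (.up 4 47 0)))))) (.node (.node (.node (.node (.leaf (.up 4 1789 3)) (.leaf (.up 3 1892 0))) (.node (.leaf (.up 5 1153 3)) (.leaf (.up 5 1700 4)))) (.node (.node (.leaf (.up 5 1232 4)) (.leaf (.up 5 208 3))) (.node (.leaf (.up 5 714 4)) (.leaf (.up 4 239 0))))) (.node (.node (.node (.leaf (.up 4 524 1)) (.leaf (.up 5 96 2))) (.node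 (.leaf (.up 7 273 4)) (.leaf (.up 5 843 2)))) (.node (.node (.leaf (.up 6 747 4)) (.leaf (.up 4 982 1))) (.node (.leaf (.up 5 1265 4)) (.leaf (.up 6 127 0)))))))) (.node (.node (.node (.node (.node (.node (.leaf (.up 4 258 1)) (.leaf (.up 5 865 3))) (.node (.leaf (.up 5 790 0)) (.leaf (.up 4 285 3)))) (.node (.node (.leaf (.up 3 1968 2)) (.leaf (.up 2 1197 0))) (.node (.leaf (.up 5 1840 3)) (.leaf (.up 4 222 3))))) (.node (.node (.node (.leaf (.up 5 916 0)) (.leaf (.up 5 1534 3))) (.node (.leaf (.up 6 902 0)) (.leaf (.up 4 1158 4)))) (.node (.node (.leaf (.up 6 979 3)) (.leaf (.up 3 1085 0))) (.node (.leaf (.up 4 1055 0)) (.leaf (.up 5 1071 0)))))) (.node (.node (.node (.node (.leaf (.up 4 852 0)) (.leaf (.up 5 729 3))) (.node (.leaf (.up 6 1867 3)) (.leaf (.up 4 165 3)))) (.node (.node (.leaf (.up 5 378 4)) (.leaf (.up 5 794 3))) (.node (.leaf (.up 4 1247 0)) (.leaf (.up 5 1263 0))))) (.node (.node (.node (.leaf (.up 4 1789 2)) (.leaf (.up 4 1012 0))) (.node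 (.leaf (.up 4 982 0)) (.leaf (.up 7 331 2)))) (.node (.node (.leaf (.up 5 1153 2)) (.leaf (.up 7 1743 4))) (.node (.leaf (.up 5 23 3)) (.leaf (.up 4 1340 1))))))) (.node (.node (.node (.node (.node (.leaf (.up 5 1772 1)) (.leaf (.up 6 1998 2))) (.node (.leaf (.up 3 1798 0)) (.leaf (.up 5 1253 2)))) (.node (.node (.leaf (.up 5 521 3)) (.leaf (.up 5 1511 3))) (.node (.leaf (.up 4 516 2)) (.leaf (.up 4 1689 2))))) (.node (.node (.node (.leaf (.up 4 1839 1)) (.leaf (.up 3 32 2))) (.node (.leaf (.up 4 1833 3)) (.leaf (.up 5 779 2)))) (.node (.node (.leaf (.up 5 1729 2)) (.leaf (.up 6 1781 1))) (.node (.leaf (.up 5 1071 1)) (.leaf (.up 2 260 3)))))) (.node (.node (.node (.node (.leaf (.up 6 2044 4)) (.leaf (.up 4 17 1))) (.node (.leaf (.up 4 1878 0)) (.leaf (.up 7 104 4)))) (.node (.node (.leaf (.up 5 1520 2)) (.leaf (.up 5 365 2))) (.node (.leaf (.up 5 207 0)) (.leaf (.up 3 1571 3))))) (.node (.node (.node (.leaf (.up 5 455 4)) (.leaf (.up 5 1279 2))) (.node (.leaf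 (.up 7 2013 4)) (.leaf (.up 4 2038 0)))) (.node (.node (.leaf (.up 7 1326 3)) (.leaf (.up 4 125 0))) (.node (.leaf (.up 6 95 0)) (.leaf (.up 7 1448 2))))))))

noncomputable def vt4_3_0001 : Tr VStep :=
  .node (.node (.node (.node (.node (.node (.node (.leaf (.up 6 1342 0)) (.leaf (.up 5 1899 2))) (.node (.leaf (.up 5 961 4)) (.leaf (.up 5 1088 2)))) (.node (.node (.leaf (.up 5 59 4)) (.leaf (.up 5 42 1))) (.node (.leaf (.up 7 1832 3)) (.leaf (.up 4 1967 4))))) (.node (.node (.node (.leaf (.up 5 1048 2)) (.leaf (.up 5 1438 0))) (.node (.leaf (.up 5 1530 4)) (.leaf (.up 4 1140 4)))) (.node (.node (.leaf (.up 6 971 3)) (.leaf (.up 4 1934 4))) (.node (.leaf (.up 6 549 0)) (.leaf (.up 6 404 4)))))) (.node (.node (.node (.node (.leaf (.up 2 1327 3)) (.leaf (.up 5 1805 1))) (.node (.leaf (.up 5 1404 0)) (.leaf (.up 4 658 1)))) (.node (.node (.leaf (.up 5 1260 3)) (.leaf (.up 3 770 3))) (.node (.leaf (.up 4 1938 4)) (.leaf (.up 5 1564 4))))) (.node (.node (.node (.leaf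 (.up 5 1534 0)) (.leaf (.up 4 1118 3))) (.node (.leaf (.up 4 1044 1)) (.leaf (.up 6 1905 2)))) (.node (.node (.leaf (.up 5 1971 4)) (.leaf (.up 4 1597 4))) (.node (.leaf (.up 5 15 3)) (.leaf (.up 4 581 0))))))) (.node (.node (.node (.node (.node (.leaf (.up 4 302 0)) (.leaf (.up 7 1843 4))) (.node (.leaf (.up 6 1602 2)) (.leaf (.up 4 297 4)))) (.node (.node (.leaf (.up 5 1813 2)) (.leaf (.up 5 1535 3))) (.node (.leaf (.up 6 1086 2)) (.leaf (.up 6 1225 4))))) (.node (.node (.node (.leaf (.up 5 134 4)) (.leaf (.up 5 675 3))) (.node (.leaf (.up 4 578 1)) (.leaf (.up 6 1810 4)))) (.node (.node (.leaf (.up 4 322 1)) (.leaf (.up 6 864 3))) (.node (.leaf (.up 6 1589 0)) (.leaf (.up 5 1869 2)))))) (.node (.node (.node (.node (.leaf (.up 6 438 2)) (.leaf (.up 3 1412 3))) (.node (.leaf (.up 4 669 2)) (.leaf (.up 5 2040 3)))) (.node (.node (.leaf (.up 5 937 3)) (.leaf (.up 5 1095 3))) (.node (.leaf (.up 4 225 2)) (.leaf (.up 3 1148 2))))) (.node (.node (.node (.leaf (.up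 3 1269 3)) (.leaf (.up 6 795 3))) (.node (.leaf (.up 4 1839 4)) (.leaf (.up 4 359 3)))) (.node (.node (.leaf (.up 6 1237 4)) (.leaf (.up 4 1983 1))) (.node (.leaf (.up 5 1637 0)) (.leaf (.up 4 1621 0)))))))) (.node (.node (.node (.node (.node (.node (.leaf (.up 7 1326 0)) (.leaf (.up 4 2038 3))) (.node (.leaf (.up 4 1340 0)) (.leaf (.up 6 1292 0)))) (.node (.node (.leaf (.up 4 1012 1)) (.leaf (.up 6 1589 3))) (.node (.leaf (.up 7 237 4)) (.leaf (.up 4 302 1))))) (.node (.node (.node (.leaf (.up 6 1324 4)) (.leaf (.up 6 1186 4))) (.node (.leaf (.up 5 1275 3)) (.leaf (.up 4 1436 0)))) (.node (.node (.leaf (.up 5 204 4)) (.leaf (.up 2 535 0))) (.node (.leaf (.up 5 565 0)) (.leaf (.up 6 1880 4)))))) (.node (.node (.node (.node (.leaf (.up 4 1235 1)) (.leaf (.up 4 1835 2))) (.node (.leaf (.up 5 988 3)) (.leaf (.up 5 1024 2)))) (.node (.node (.leaf (.up 6 588 1)) (.leaf (.up 3 1289 1))) (.node (.leaf (.up 4 543 3)) (.leaf (.up 5 208 4))))) (.node (.node (.node (.leaf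 (.up 3 1296 1)) (.leaf (.up 5 209 3))) (.node (.leaf (.up 4 645 4)) (.leaf (.up 5 779 4)))) (.node (.node (.leaf (.up 4 631 0)) (.leaf (.up 3 1226 1))) (.node (.leaf (.up 5 1552 1)) (.leaf (.up 4 402 2))))))) (.node (.node (.node (.node (.node (.leaf (.up 4 645 1)) (.leaf (.up 7 1387 2))) (.node (.leaf (.up 6 733 2)) (.leaf (.up 4 2021 4)))) (.node (.node (.leaf (.up 6 906 2)) (.leaf (.up 4 1055 4))) (.node (.leaf (.up 5 907 4)) (.leaf (.up 6 517 4))))) (.node (.node (.node (.leaf (.up 7 430 0)) (.leaf (.up 4 645 2))) (.node (.leaf (.up 3 958 3)) (.leaf (.up 5 396 0)))) (.node (.node (.leaf (.up 1 1 3)) (.leaf (.up 6 548 4))) (.node (.leaf (.up 5 1573 0)) (.leaf (.up 3 1427 3)))))) (.node (.node (.node (.node (.leaf (.up 5 1321 2)) (.leaf (.up 4 76 4))) (.node (.leaf (.up 5 1698 1)) (.leaf (.up 4 1622 4)))) (.node (.node (.leaf (.up 4 1442 1)) (.leaf (.up 6 1452 4))) (.node (.leaf (.up 5 1370 3)) (.leaf (.up 4 1749 0))))) (.node (.node (.node (.leaf (.up 4 122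 3)) (.leaf (.up 6 1940 3))) (.node (.leaf (.up 3 518 3)) (.leaf (.up 4 1393 2)))) (.node (.node (.leaf (.up 5 1639 0)) (.leaf (.up 4 1623 0))) (.node (.leaf (.up 5 1653 0)) (.leaf (.up 4 1605 0))))))))

noncomputable def vt4_3_000 : Tr VStep := .node vt4_3_0000 vt4_3_0001

noncomputable def vt4_3_0010 : Tr VStep :=
  .node (.node (.node (.node (.node (.node (.node (.leaf (.up 5 1480 2)) (.leaf (.up 5 341 2))) (.node (.leaf (.up 3 1929 0)) (.leaf (.up 5 1977 0)))) (.node (.node (.leaf (.up 1 2 0)) (.leaf (.up 4 50 0))) (.node (.leaf (.up 5 16 0)) (.leaf (.up 1 2 2))))) (.node (.node (.node (.leaf (.up 4 516 3)) (.leaf (.up 4 610 4))) (.node (.leaf (.up 5 1817 0)) (.leaf (.up 4 1424 2)))) (.node (.node (.leaf (.up 6 1548 4)) (.leaf (.up 2 1065 3))) (.node (.leaf (.up 5 881 2)) (.leaf (.up 4 1621 3)))))) (.node (.node (.node (.node (.leaf (.up 4 1995 0)) (.leaf (.up 6 1514 4))) (.node (.leaf (.up 5 572 2)) (.leaf (.up 5 177 3)))) (.node (.node (.leaf (.up 6 82 0))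 (.leaf (.up 4 2038 2))) (.node (.leaf (.up 3 64 0)) (.leaf (.up 5 1552 4))))) (.node (.node (.node (.leaf (.up 5 365 1)) (.leaf (.up 5 977 4))) (.node (.leaf (.up 4 1490 2)) (.leaf (.up 7 1483 4)))) (.node (.node (.leaf (.up 4 639 3)) (.leaf (.up 7 1585 4))) (.node (.leaf (.up 5 208 0)) (.leaf (.up 5 43 4))))))) (.node (.node (.node (.node (.node (.leaf (.up 5 907 0)) (.leaf (.up 6 1855 4))) (.node (.leaf (.up 5 921 0)) (.leaf (.up 5 1612 3)))) (.node (.node (.leaf (.up 6 541 3)) (.leaf (.up 3 1462 2))) (.node (.leaf (.up 3 512 2)) (.leaf (.up 5 1693 2))))) (.node (.node (.node (.leaf (.up 5 1345 3)) (.leaf (.up 2 260 4))) (.node (.leaf (.up 4 1938 2)) (.leaf (.up 4 825 0)))) (.node (.node (.leaf (.up 2 1154 0)) (.leaf (.up 6 600 2))) (.node (.leaf (.up 4 1518 2)) (.leaf (.up 4 272 3)))))) (.node (.node (.node (.node (.leaf (.up 5 1794 4)) (.leaf (.up 4 1676 4))) (.node (.leaf (.up 5 969 0)) (.leaf (.up 5 1017 0)))) (.node (.node (.leaf (.up 4 738 4)) (.leaf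 (.up 7 876 4))) (.node (.leaf (.up 5 473 3)) (.leaf (.up 2 773 1))))) (.node (.node (.node (.leaf (.up 5 843 0)) (.leaf (.up 5 1275 2))) (.node (.leaf (.up 7 1827 4)) (.leaf (.up 5 363 3)))) (.node (.node (.leaf (.up 6 1338 3)) (.leaf (.up 5 1881 1))) (.node (.leaf (.up 5 707 4)) (.leaf (.up 6 1452 2)))))))) (.node (.node (.node (.node (.node (.node (.leaf (.up 5 1931 0)) (.leaf (.up 3 1979 0))) (.node (.leaf (.up 2 636 2)) (.leaf (.up 5 1414 3)))) (.node (.node (.leaf (.up 3 811 2)) (.leaf (.up 5 1593 3))) (.node (.leaf (.up 1 0 0)) (.leaf (.up 5 1181 2))))) (.node (.node (.node (.leaf (.up 5 1675 3)) (.leaf (.up 3 357 3))) (.node (.leaf (.up 5 1271 3)) (.leaf (.up 3 271 2)))) (.node (.node (.leaf (.up 5 192 4)) (.leaf (.up 4 178 0))) (.node (.leaf (.up 4 2030 2)) (.leaf (.up 5 730 3)))))) (.node (.node (.node (.node (.leaf (.up 5 428 3)) (.leaf (.up 6 2027 0))) (.node (.leaf (.up 6 1202 4)) (.leaf (.up 4 1340 4)))) (.node (.node (.leaf (.up 6 1864 4)) (.leaf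 (.up 5 873 2))) (.node (.leaf (.up 3 338 4)) (.leaf (.up 5 96 0))))) (.node (.node (.node (.leaf (.up 6 1867 0)) (.leaf (.up 5 1309 4))) (.node (.leaf (.up 5 649 4)) (.leaf (.up 7 775 4)))) (.node (.node (.leaf (.up 5 371 4)) (.leaf (.up 7 1159 2))) (.node (.leaf (.up 5 192 0)) (.leaf (.up 5 1964 2))))))) (.node (.node (.node (.node (.node (.leaf (.up 4 125 4)) (.leaf (.up 4 939 0))) (.node (.leaf (.up 4 905 0)) (.leaf (.up 4 126 2)))) (.node (.node (.leaf (.up 5 1682 3)) (.leaf (.up 4 297 2))) (.node (.leaf (.up 6 1262 3)) (.leaf (.up 5 521 4))))) (.node (.node (.node (.leaf (.up 4 928 1)) (.leaf (.up 5 1568 3))) (.node (.leaf (.up 3 946 3)) (.leaf (.up 5 378 1)))) (.node (.node (.leaf (.up 5 13 3)) (.leaf (.up 6 1186 0))) (.node (.leaf (.up 5 369 2)) (.leaf (.up 4 1200 0)))))) (.node (.node (.node (.node (.leaf (.up 6 971 0)) (.leaf (.up 3 64 4))) (.node (.leaf (.up 6 60 2)) (.leaf (.up 6 1001 0)))) (.node (.node (.leaf (.up 5 363 2)) (.leaf (.up 6 196 3)))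 (.node (.leaf (.up 5 564 4)) (.leaf (.up 4 1757 2))))) (.node (.node (.node (.leaf (.up 5 859 0)) (.leaf (.up 6 100 2))) (.node (.leaf (.up 6 495 4)) (.leaf (.up 5 97 4)))) (.node (.node (.leaf (.up 6 533 4)) (.leaf (.up 5 923 4))) (.node (.leaf (.up 3 1039 4)) (.leaf (.up 6 1248 0))))))))

noncomputable def vt4_3_0011 : Tr VStep :=
  .node (.node (.node (.node (.node (.node (.node (.leaf (.up 6 1001 4)) (.leaf (.up 3 385 0))) (.node (.leaf (.up 3 1523 4)) (.leaf (.up 5 1438 3)))) (.node (.node (.leaf (.up 5 1545 4)) (.leaf (.up 5 396 2))) (.node (.leaf (.up 7 19 4)) (.leaf (.up 5 1546 0))))) (.node (.node (.node (.leaf (.up 4 1490 4)) (.leaf (.up 5 1017 1))) (.node (.leaf (.up 5 1263 3)) (.leaf (.up 3 259 0)))) (.node (.node (.leaf (.up 4 50 4)) (.leaf (.up 4 444 4))) (.node (.leaf (.up 5 1576 4)) (.leaf (.up 6 1353 2)))))) (.node (.node (.node (.node (.leaf (.up 3 946 2)) (.leaf (.up 4 1839 2))) (.node (.leaf (.up 5 499 0)) (.leaf (.up 4 451 0)))) (.node (.node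 (.leaf (.up 5 1656 0)) (.leaf (.up 3 1363 2))) (.node (.leaf (.up 5 1642 0)) (.leaf (.up 5 46 4))))) (.node (.node (.node (.leaf (.up 4 1835 3)) (.leaf (.up 4 321 0))) (.node (.leaf (.up 4 155 1)) (.leaf (.up 3 339 0)))) (.node (.node (.leaf (.up 3 385 4)) (.leaf (.up 5 15 4))) (.node (.leaf (.up 4 1172 3)) (.leaf (.up 2 890 3))))))) (.node (.node (.node (.node (.node (.leaf (.up 5 498 2)) (.leaf (.up 7 257 4))) (.node (.leaf (.up 5 729 2)) (.leaf (.up 5 1411 0)))) (.node (.node (.leaf (.up 6 910 2)) (.leaf (.up 5 843 1))) (.node (.leaf (.up 4 165 2)) (.leaf (.up 7 763 4))))) (.node (.node (.node (.leaf (.up 5 1564 2)) (.leaf (.up 5 1850 4))) (.node (.leaf (.up 4 1335 2)) (.leaf (.up 5 1299 0)))) (.node (.node (.leaf (.up 4 1120 2)) (.leaf (.up 5 730 4))) (.node (.leaf (.up 6 1867 2)) (.leaf (.up 4 982 2)))))) (.node (.node (.node (.node (.leaf (.up 6 1325 2)) (.leaf (.up 4 178 4))) (.node (.leaf (.up 4 1165 3)) (.leaf (.up 5 867 3)))) (.node (.node (.leaf (.up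 3 1462 1)) (.leaf (.up 5 972 2))) (.node (.leaf (.up 6 1146 2)) (.leaf (.up 4 586 0))))) (.node (.node (.node (.leaf (.up 5 110 3)) (.leaf (.up 4 1920 3))) (.node (.leaf (.up 4 285 4)) (.leaf (.up 4 1397 2)))) (.node (.node (.leaf (.up 3 1141 1)) (.leaf (.up 5 816 1))) (.node (.leaf (.up 5 916 2)) (.leaf (.up 3 1087 3)))))))) (.node (.node (.node (.node (.node (.node (.leaf (.up 7 1317 4)) (.leaf (.up 5 1195 4))) (.node (.leaf (.up 4 217 2)) (.leaf (.up 4 830 1)))) (.node (.node (.leaf (.up 5 197 4)) (.leaf (.up 5 1299 2))) (.node (.leaf (.up 7 1759 4)) (.leaf (.up 5 1873 4))))) (.node (.node (.node (.leaf (.up 5 540 3)) (.leaf (.up 6 1890 1))) (.node (.leaf (.up 5 1284 4)) (.leaf (.up 3 765 1)))) (.node (.node (.leaf (.up 6 1720 1)) (.leaf (.up 3 765 2))) (.node (.leaf (.up 5 1355 2)) (.leaf (.up 6 362 4)))))) (.node (.node (.node (.node (.leaf (.up 5 1339 3)) (.leaf (.up 5 1817 1))) (.node (.leaf (.up 5 1863 3)) (.leaf (.up 3 770 4)))) (.node (.node (.leaf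 (.up 6 1640 0)) (.leaf (.up 4 460 2))) (.node (.leaf (.up 5 1658 0)) (.leaf (.up 6 362 3))))) (.node (.node (.node (.leaf (.up 5 353 0)) (.leaf (.up 4 1118 2))) (.node (.leaf (.up 5 1024 1)) (.leaf (.up 5 1337 4)))) (.node (.node (.leaf (.up 4 703 2)) (.leaf (.up 6 1417 3))) (.node (.leaf (.up 4 27 3)) (.leaf (.up 3 1289 2))))))) (.node (.node (.node (.node (.node (.leaf (.up 5 1546 1)) (.leaf (.up 7 1997 4))) (.node (.leaf (.up 4 1606 2)) (.leaf (.up 3 1427 0)))) (.node (.node (.leaf (.up 6 517 3)) (.leaf (.up 3 557 4))) (.node (.leaf (.up 5 1465 4)) (.leaf (.up 7 1079 4))))) (.node (.node (.node (.leaf (.up 6 120 4)) (.leaf (.up 5 502 4))) (.node (.leaf (.up 4 1331 0)) (.leaf (.up 4 2028 4)))) (.node (.node (.leaf (.up 3 1432 4)) (.leaf (.up 5 1046 4))) (.node (.leaf (.up 6 1225 1)) (.leaf (.up 4 524 4)))))) (.node (.node (.node (.node (.leaf (.up 6 434 2)) (.leaf (.up 2 1327 2))) (.node (.leaf (.up 1 2 3)) (.leaf (.up 4 2028 3)))) (.node (.node (.leaf (.up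 4 974 2)) (.leaf (.up 4 1107 3))) (.node (.leaf (.up 6 229 2)) (.leaf (.up 3 1412 4))))) (.node (.node (.node (.leaf (.up 4 1649 1)) (.leaf (.up 5 783 3))) (.node (.leaf (.up 5 1693 3)) (.leaf (.up 3 1363 0)))) (.node (.node (.leaf (.up 5 744 0)) (.leaf (.up 5 728 0))) (.node (.leaf (.up 4 1393 1)) (.leaf (.up 5 714 0))))))))

noncomputable def vt4_3_001 : Tr VStep := .node vt4_3_0010 vt4_3_0011

noncomputable def vt4_3_00 : Tr VStep := .node vt4_3_000 vt4_3_001

noncomputable def vt4_3_0100 : Tr VStep :=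
  .node (.node (.node (.node (.node (.node (.node (.leaf (.root 887)) (.leaf (.up 5 81 4))) (.node (.leaf (.up 6 1635 3)) (.leaf (.up 5 1611 4)))) (.node (.node (.leaf (.up 3 1087 4)) (.leaf (.up 4 1649 2))) (.node (.leaf (.up 2 1679 0)) (.leaf (.up 4 939 4))))) (.node (.node (.node (.leaf (.up 5 1918 2)) (.leaf (.up 1 9 1))) (.node (.leaf (.up 5 252 3)) (.leaf (.up 6 1810 3)))) (.node (.node (.leaf (.up 4 516 4)) (.leaf (.up 2 1197 3))) (.node (.leaf (.up 5 1577 2)) (.leaf (.up 4 1424 4)))))) (.node (.node (.node (.node (.leaf (.up 6 1447 3)) (.leaf (.up 4 482 4))) (.node (.leaf (.up 3 1892 2)) (.leaf (.up 5 2040 4)))) (.node (.node (.leaf (.up 3 1587 2)) (.leaf (.up 4 1789 0))) (.node (.leaf (.up 6 918 4)) (.leaf (.up 4 1775 0))))) (.node (.node (.node (.leaf (.up 4 1623 4)) (.leaf (.up 6 2009 4))) (.node (.leaf (.up 6 138 2)) (.leaf (.up 4 451 4)))) (.node (.node (.leaf (.up 6 477 2)) (.leaf (.up 5 1645 0))) (.node (.leaf (.up 6 1453 4)) (.leaf (.up 7 1059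 4))))))) (.node (.node (.node (.node (.node (.leaf (.up 5 697 4)) (.leaf (.up 4 658 2))) (.node (.leaf (.up 4 1278 1)) (.leaf (.up 6 1325 4)))) (.node (.node (.leaf (.up 5 1139 2)) (.leaf (.up 6 1751 4))) (.node (.leaf (.up 6 609 1)) (.leaf (.up 4 1316 1))))) (.node (.node (.node (.leaf (.up 2 1154 4)) (.leaf (.up 5 1404 2))) (.node (.leaf (.up 5 714 2)) (.leaf (.up 4 1623 2)))) (.node (.node (.leaf (.up 4 1597 1)) (.leaf (.up 3 557 0))) (.node (.leaf (.up 4 182 2)) (.leaf (.up 5 1255 1)))))) (.node (.node (.node (.node (.leaf (.up 4 738 3)) (.leaf (.up 6 1292 3))) (.node (.leaf (.up 3 1296 4)) (.leaf (.up 4 1904 3)))) (.node (.node (.leaf (.up 4 1606 1)) (.leaf (.up 3 1892 4))) (.node (.leaf (.up 6 349 3)) (.leaf (.up 5 1715 3))))) (.node (.node (.node (.leaf (.up 6 1342 2)) (.leaf (.up 5 419 2))) (.node (.leaf (.up 3 811 4)) (.leaf (.up 6 648 2)))) (.node (.node (.leaf (.up 3 589 0)) (.leaf (.up 5 192 1))) (.node (.leaf (.up 7 1739 4)) (.leaf (.up 6 1861 4))))))))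 (.node (.node (.node (.node (.node (.node (.leaf (.up 3 1039 2)) (.leaf (.up 5 1918 3))) (.node (.leaf (.up 5 748 3)) (.leaf (.up 5 1282 3)))) (.node (.node (.leaf (.up 3 1677 0)) (.leaf (.up 4 974 1))) (.node (.leaf (.up 4 1368 2)) (.leaf (.up 5 1383 4))))) (.node (.node (.node (.leaf (.up 6 1551 3)) (.leaf (.up 4 481 3))) (.node (.leaf (.up 3 202 2)) (.leaf (.up 4 422 0)))) (.node (.node (.leaf (.up 3 1996 3)) (.leaf (.up 5 1280 2))) (.node (.leaf (.up 6 1551 0)) (.leaf (.up 3 1579 2)))))) (.node (.node (.node (.node (.leaf (.up 5 208 2)) (.leaf (.up 6 372 0))) (.node (.leaf (.up 3 1587 1)) (.leaf (.up 5 358 0)))) (.node (.node (.leaf (.up 2 235 3)) (.leaf (.up 5 1797 3))) (.node (.leaf (.up 5 1370 4)) (.leaf (.up 5 1306 2))))) (.node (.node (.node (.leaf (.up 4 1975 3)) (.leaf (.up 6 89 3))) (.node (.leaf (.up 6 454 0)) (.leaf (.up 5 1807 4)))) (.node (.node (.leaf (.up 5 1346 2)) (.leaf (.up 3 1269 4))) (.node (.leaf (.up 5 367 1)) (.leaf (.up 7 756 2)))))))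 (.node (.node (.node (.node (.node (.leaf (.up 3 1141 4)) (.leaf (.up 4 703 1))) (.node (.leaf (.up 5 443 2)) (.leaf (.up 3 1824 1)))) (.node (.node (.leaf (.up 4 669 0)) (.leaf (.up 4 27 4))) (.node (.leaf (.up 4 655 0)) (.leaf (.up 4 703 0))))) (.node (.node (.node (.leaf (.up 3 590 4)) (.leaf (.up 5 1700 3))) (.node (.leaf (.up 4 1621 2)) (.leaf (.up 3 1462 0)))) (.node (.node (.leaf (.up 5 1794 2)) (.leaf (.up 5 1568 4))) (.node (.leaf (.up 2 1065 2)) (.leaf (.up 5 180 2)))))) (.node (.node (.node (.node (.leaf (.up 5 1478 4)) (.leaf (.up 6 1096 4))) (.node (.leaf (.up 5 988 4)) (.leaf (.up 4 594 4)))) (.node (.node (.leaf (.up 5 38 4)) (.leaf (.up 3 765 0))) (.node (.leaf (.up 4 1596 4)) (.leaf (.up 5 572 3))))) (.node (.node (.node (.leaf (.up 7 1021 4)) (.leaf (.up 4 1340 2))) (.node (.leaf (.up 5 1511 4)) (.leaf (.up 6 1883 1)))) (.node (.node (.leaf (.up 4 605 0)) (.leaf (.up 6 1115 1))) (.node (.leaf (.up 7 7 4)) (.leaf (.up 4 639 0))))))))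

noncomputable def vt4_3_0101 : Tr VStep :=
  .node (.node (.node (.node (.node (.node (.node (.leaf (.up 5 565 2)) (.leaf (.up 6 1443 1))) (.node (.leaf (.up 6 507 4)) (.leaf (.up 4 117 4)))) (.node (.node (.leaf (.up 7 73 2)) (.leaf (.up 6 911 4))) (.node (.leaf (.up 4 165 0)) (.leaf (.up 6 2047 2))))) (.node (.node (.node (.leaf (.up 5 1982 0)) (.leaf (.up 4 1120 1))) (.node (.leaf (.up 5 1776 2)) (.leaf (.up 7 1948 0)))) (.node (.node (.leaf (.up 5 1959 2)) (.leaf (.up 5 23 0))) (.node (.leaf (.up 5 544 4)) (.leaf (.up 4 17 2)))))) (.node (.node (.node (.node (.leaf (.up 5 1918 0)) (.leaf (.up 4 1870 0))) (.node (.leaf (.up 3 72 4)) (.leaf (.up 6 454 4)))) (.node (.node (.leaf (.up 3 946 4)) (.leaf (.up 5 572 4))) (.node (.leaf (.up 4 655 3)) (.leaf (.up 5 1377 3))))) (.node (.node (.node (.leaf (.up 2 260 2)) (.leaf (.up 2 1433 2))) (.node (.leaf (.up 4 1651 4)) (.leaf (.up 3 1996 0)))) (.node (.node (.leaf (.up 6 1644 3)) (.leaf (.up 4 2021 2))) (.node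 (.leaf (.up 6 101 0)) (.leaf (.up 5 1230 2))))))) (.node (.node (.node (.node (.node (.leaf (.up 4 830 0)) (.leaf (.up 3 1289 4))) (.node (.leaf (.up 4 669 4)) (.leaf (.up 7 787 4)))) (.node (.node (.leaf (.up 4 359 4)) (.leaf (.up 7 233 4))) (.node (.leaf (.up 6 1533 2)) (.leaf (.up 5 1779 4))))) (.node (.node (.node (.leaf (.up 3 338 3)) (.leaf (.up 5 926 0))) (.node (.leaf (.up 5 1190 4)) (.leaf (.up 5 1266 2)))) (.node (.node (.leaf (.up 6 145 3)) (.leaf (.up 4 1919 3))) (.node (.leaf (.up 4 326 4)) (.leaf (.up 6 200 4)))))) (.node (.node (.node (.node (.leaf (.up 4 117 2)) (.leaf (.up 5 411 3))) (.node (.leaf (.up 6 814 4)) (.leaf (.up 4 672 4)))) (.node (.node (.leaf (.up 5 521 2)) (.leaf (.up 2 346 4))) (.node (.leaf (.up 3 1968 1)) (.leaf (.up 6 548 3))))) (.node (.node (.node (.leaf (.up 5 783 4)) (.leaf (.up 2 1796 3))) (.node (.leaf (.up 4 1200 2)) (.leaf (.up 5 988 0)))) (.node (.node (.leaf (.up 4 297 3)) (.leaf (.up 5 1193 1))) (.node (.leaf (.up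 3 1141 0)) (.leaf (.up 5 1093 0)))))))) (.node (.node (.node (.node (.node (.node (.leaf (.up 5 1661 1)) (.leaf (.up 6 567 2))) (.node (.leaf (.up 7 1659 3)) (.leaf (.up 6 1820 0)))) (.node (.node (.leaf (.up 7 1238 2)) (.leaf (.up 4 151 0))) (.node (.leaf (.up 4 727 4)) (.leaf (.up 6 864 2))))) (.node (.node (.node (.leaf (.up 5 1814 4)) (.leaf (.up 3 1497 2))) (.node (.leaf (.up 5 1980 0)) (.leaf (.up 6 130 4)))) (.node (.node (.leaf (.up 5 55 0)) (.leaf (.up 6 1957 2))) (.node (.leaf (.up 5 1260 4)) (.leaf (.up 4 1378 4)))))) (.node (.node (.node (.node (.leaf (.up 6 158 4)) (.leaf (.up 4 272 4))) (.node (.leaf (.up 4 1916 0)) (.leaf (.up 6 1868 0)))) (.node (.node (.leaf (.up 1 9 2)) (.leaf (.up 4 1172 2))) (.node (.leaf (.up 6 229 0)) (.leaf (.up 4 896 1))))) (.node (.node (.node (.leaf (.up 6 1435 2)) (.leaf (.up 4 1835 4))) (.node (.leaf (.up 4 191 4)) (.leaf (.up 3 557 2)))) (.node (.node (.leaf (.up 6 837 4)) (.leaf (.up 2 890 2))) (.node (.leaf (.up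 4 117 0)) (.leaf (.up 5 81 2))))))) (.node (.node (.node (.node (.node (.leaf (.up 6 814 0)) (.leaf (.up 5 965 4))) (.node (.leaf (.up 4 1036 1)) (.leaf (.up 7 1503 4)))) (.node (.node (.leaf (.up 5 585 2)) (.leaf (.up 5 1573 4))) (.node (.leaf (.up 5 354 2)) (.leaf (.up 4 63 4))))) (.node (.node (.node (.leaf (.up 3 958 0)) (.leaf (.up 5 1534 4))) (.node (.leaf (.up 6 1264 2)) (.leaf (.up 5 79 3)))) (.node (.node (.leaf (.up 6 1447 2)) (.leaf (.up 5 1047 0))) (.node (.leaf (.up 4 1676 2)) (.leaf (.up 5 396 3)))))) (.node (.node (.node (.node (.leaf (.up 3 1258 2)) (.leaf (.up 5 630 4))) (.node (.leaf (.up 5 134 3)) (.leaf (.up 4 1896 3)))) (.node (.node (.leaf (.up 4 1686 2)) (.leaf (.up 5 1942 4))) (.node (.leaf (.up 1 2 4)) (.leaf (.up 5 396 4))))) (.node (.node (.node (.leaf (.up 6 1125 3)) (.leaf (.up 4 1945 2))) (.node (.leaf (.up 4 47 2)) (.leaf (.up 5 503 3)))) (.node (.node (.leaf (.up 5 1143 0)) (.leaf (.up 4 50 1))) (.node (.leaf (.up 5 1593 4)) (.leaf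 (.up 4 1975 4))))))))

noncomputable def vt4_3_010 : Tr VStep := .node vt4_3_0100 vt4_3_0101

noncomputable def vt4_3_0110 : Tr VStep :=
  .node (.node (.node (.node (.node (.node (.node (.leaf (.up 3 512 1)) (.leaf (.up 6 1635 4))) (.node (.leaf (.up 2 1433 0)) (.leaf (.up 6 957 2)))) (.node (.node (.leaf (.up 5 525 4)) (.leaf (.up 5 986 1))) (.node (.leaf (.up 3 512 0)) (.leaf (.up 2 1433 4))))) (.node (.node (.node (.leaf (.up 4 1563 3)) (.leaf (.up 3 501 3))) (.node (.leaf (.up 3 1289 0)) (.leaf (.up 4 905 3)))) (.node (.node (.leaf (.up 5 409 2)) (.leaf (.up 4 54 3))) (.node (.leaf (.up 5 690 2)) (.leaf (.up 4 586 3)))))) (.node (.node (.node (.node (.leaf (.up 6 952 1)) (.leaf (.up 5 1097 2))) (.node (.leaf (.up 4 1023 2)) (.leaf (.up 3 1529 0)))) (.node (.node (.leaf (.up 3 1319 1)) (.leaf (.up 4 560 4))) (.node (.leaf (.up 6 387 2)) (.leaf (.up 4 1066 4))))) (.node (.node (.node (.leaf (.up 5 1850 2)) (.leaf (.up 6 491 4))) (.node (.leaf (.up 6 1041 2))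 (.leaf (.up 5 2033 4)))) (.node (.node (.leaf (.up 5 1350 2)) (.leaf (.up 4 1035 4))) (.node (.leaf (.up 5 704 0)) (.leaf (.up 7 529 4))))))) (.node (.node (.node (.node (.node (.leaf (.up 4 1518 1)) (.leaf (.up 4 47 3))) (.node (.leaf (.up 5 447 2)) (.leaf (.up 5 595 3)))) (.node (.node (.leaf (.up 4 232 2)) (.leaf (.up 3 1141 2))) (.node (.leaf (.up 5 1552 0)) (.leaf (.up 5 1568 0))))) (.node (.node (.node (.leaf (.up 5 267 0)) (.leaf (.up 4 830 4))) (.node (.leaf (.up 6 1617 2)) (.leaf (.up 4 1316 4)))) (.node (.node (.leaf (.up 3 1798 2)) (.leaf (.up 5 1907 3))) (.node (.leaf (.up 4 330 4)) (.leaf (.up 5 176 2)))))) (.node (.node (.node (.node (.leaf (.up 5 1611 2)) (.leaf (.up 6 507 0))) (.node (.leaf (.up 5 473 0)) (.leaf (.up 4 1676 1)))) (.node (.node (.leaf (.up 4 216 4)) (.leaf (.up 4 170 2))) (.node (.leaf (.up 4 1878 1)) (.leaf (.up 6 1868 4))))) (.node (.node (.node (.leaf (.up 7 347 0)) (.leaf (.up 5 363 0))) (.node (.leaf (.up 5 1305 4)) (.leaf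 (.up 6 377 0)))) (.node (.node (.leaf (.up 5 1730 0)) (.leaf (.up 6 1860 2))) (.node (.leaf (.up 7 249 4)) (.leaf (.up 5 375 4)))))))) (.node (.node (.node (.node (.node (.node (.leaf (.up 4 1035 3)) (.leaf (.up 4 997 3))) (.node (.leaf (.up 6 1851 4)) (.leaf (.up 5 1465 0)))) (.node (.node (.leaf (.up 5 744 2)) (.leaf (.up 5 1653 2))) (.node (.leaf (.up 4 451 2)) (.leaf (.up 4 734 1))))) (.node (.node (.node (.leaf (.up 6 1914 2)) (.leaf (.up 4 1684 4))) (.node (.leaf (.up 4 232 3)) (.leaf (.up 3 1798 3)))) (.node (.node (.leaf (.up 4 658 0)) (.leaf (.up 5 411 2))) (.node (.leaf (.up 5 1112 1)) (.leaf (.up 4 1390 4)))))) (.node (.node (.node (.node (.leaf (.up 7 1827 1)) (.leaf (.up 4 605 3))) (.node (.leaf (.up 3 1497 0)) (.leaf (.up 3 1798 4)))) (.node (.node (.leaf (.up 3 1591 2)) (.leaf (.up 4 610 0))) (.node (.leaf (.up 5 872 4)) (.leaf (.up 3 385 2))))) (.node (.node (.node (.leaf (.up 5 1705 4)) (.leaf (.up 6 1831 4))) (.node (.leaf (.up 6 142 2)) (.leaf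 (.up 5 1043 2)))) (.node (.node (.leaf (.up 5 473 2)) (.leaf (.up 5 1850 1))) (.node (.leaf (.up 3 1363 4)) (.leaf (.up 6 1245 4))))))) (.node (.node (.node (.node (.node (.leaf (.up 3 373 1)) (.leaf (.up 5 969 4))) (.node (.leaf (.up 3 1258 1)) (.leaf (.up 5 1491 4)))) (.node (.node (.leaf (.up 5 1143 2)) (.leaf (.up 5 1577 4))) (.node (.leaf (.up 5 241 3)) (.leaf (.up 5 961 2))))) (.node (.node (.node (.leaf (.up 3 1148 4)) (.leaf (.up 6 2035 1))) (.node (.leaf (.up 5 718 2)) (.leaf (.up 5 620 1)))) (.node (.node (.leaf (.up 5 921 2)) (.leaf (.up 2 1796 2))) (.node (.leaf (.up 4 178 2)) (.leaf (.up 5 1071 2)))))) (.node (.node (.node (.node (.leaf (.up 4 1012 4)) (.leaf (.up 6 491 0))) (.node (.leaf (.up 4 1518 4)) (.leaf (.up 2 535 1)))) (.node (.node (.leaf (.up 6 1556 4)) (.leaf (.up 4 1243 3))) (.node (.leaf (.up 5 1616 0)) (.leaf (.up 6 1632 0))))) (.node (.node (.node (.leaf (.up 6 1338 2)) (.leaf (.up 5 1089 4))) (.node (.leaf (.up 5 345 0)) (.leaf (.up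 6 652 2)))) (.node (.node (.leaf (.up 4 47 4)) (.leaf (.up 6 987 2))) (.node (.leaf (.up 6 1589 4)) (.leaf (.up 3 1979 4))))))))

noncomputable def vt4_3_0111 : Tr VStep :=
  .node (.node (.node (.node (.node (.node (.node (.leaf (.up 5 467 4)) (.leaf (.up 6 913 0))) (.node (.leaf (.up 7 1993 4)) (.leaf (.up 3 385 3)))) (.node (.node (.leaf (.up 7 1075 4)) (.leaf (.up 5 1971 1))) (.node (.leaf (.up 4 1066 0)) (.leaf (.up 6 556 1))))) (.node (.node (.node (.leaf (.up 5 2024 4)) (.leaf (.up 4 1378 3))) (.node (.leaf (.up 5 565 1)) (.leaf (.up 6 1392 1)))) (.node (.node (.leaf (.up 5 847 3)) (.leaf (.up 6 902 4))) (.node (.leaf (.up 5 23 2)) (.leaf (.up 3 1007 1)))))) (.node (.node (.node (.node (.leaf (.up 5 96 4)) (.leaf (.up 4 581 3))) (.node (.leaf (.up 2 346 2)) (.leaf (.up 6 979 0)))) (.node (.node (.leaf (.up 4 1128 0)) (.leaf (.up 5 1547 1))) (.node (.leaf (.up 5 1233 1)) (.leaf (.up 3 1979 2))))) (.node (.node (.node (.leaf (.up 5 865 0)) (.leaf (.up 4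 258 2))) (.node (.leaf (.up 4 65 4)) (.leaf (.up 5 835 0)))) (.node (.node (.leaf (.up 5 759 3)) (.leaf (.up 5 1305 3))) (.node (.leaf (.up 3 1258 0)) (.leaf (.up 5 1071 4))))))) (.node (.node (.node (.node (.node (.leaf (.up 4 49 2)) (.leaf (.up 5 1730 1))) (.node (.leaf (.up 5 794 2)) (.leaf (.up 8 1313 4)))) (.node (.node (.leaf (.up 3 589 2)) (.leaf (.up 6 1755 4))) (.node (.leaf (.up 5 358 2)) (.leaf (.up 5 193 4))))) (.node (.node (.node (.leaf (.up 4 2015 2)) (.leaf (.up 5 1280 4))) (.node (.leaf (.up 6 660 4)) (.leaf (.up 5 794 4)))) (.node (.node (.leaf (.up 6 1443 2)) (.leaf (.up 5 224 4))) (.node (.leaf (.up 3 1654 3)) (.leaf (.up 6 154 0)))))) (.node (.node (.node (.node (.leaf (.up 4 63 1)) (.leaf (.up 5 1280 3))) (.node (.leaf (.up 6 2035 0)) (.leaf (.up 4 1916 3)))) (.node (.node (.leaf (.up 5 1682 2)) (.leaf (.up 3 72 0))) (.node (.leaf (.up 5 106 0)) (.leaf (.up 5 1727 3))))) (.node (.node (.node (.leaf (.up 5 768 2)) (.leaf (.up 5 1949 2)))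 (.node (.leaf (.up 5 1549 3)) (.leaf (.up 5 681 4)))) (.node (.node (.leaf (.up 4 232 0)) (.leaf (.up 3 339 4))) (.node (.leaf (.up 6 1998 3)) (.leaf (.up 3 202 0)))))))) (.node (.node (.node (.node (.node (.node (.leaf (.up 6 1823 4)) (.leaf (.up 6 1906 3))) (.node (.leaf (.up 6 261 4)) (.leaf (.up 5 139 4)))) (.node (.node (.leaf (.up 6 767 4)) (.leaf (.up 5 881 4))) (.node (.leaf (.up 5 1253 4)) (.leaf (.up 6 2043 2))))) (.node (.node (.node (.leaf (.up 5 801 0)) (.leaf (.up 4 170 4))) (.node (.leaf (.up 6 1854 4)) (.leaf (.up 6 1712 4)))) (.node (.node (.leaf (.up 5 1955 2)) (.leaf (.up 4 830 2))) (.node (.leaf (.up 4 734 4)) (.leaf (.up 4 1178 0)))))) (.node (.node (.node (.node (.leaf (.up 5 842 1)) (.leaf (.up 3 1039 1))) (.node (.leaf (.up 4 182 4)) (.leaf (.up 6 963 0)))) (.node (.node (.leaf (.up 5 231 3)) (.leaf (.up 5 15 2))) (.node (.leaf (.up 5 1977 2)) (.leaf (.up 4 1397 3))))) (.node (.node (.node (.leaf (.up 3 1979 3)) (.leaf (.up 5 833 0)))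 (.node (.leaf (.up 3 1677 4)) (.leaf (.up 5 1795 4)))) (.node (.node (.leaf (.up 5 1656 3)) (.leaf (.up 5 406 3))) (.node (.leaf (.up 4 87 2)) (.leaf (.up 3 1226 0))))))) (.node (.node (.node (.node (.node (.leaf (.up 6 1198 2)) (.leaf (.up 5 601 1))) (.node (.leaf (.up 5 131 1)) (.leaf (.up 7 587 3)))) (.node (.node (.leaf (.up 5 409 4)) (.leaf (.up 5 23 4))) (.node (.leaf (.up 3 1529 2)) (.leaf (.up 5 1549 4))))) (.node (.node (.node (.leaf (.up 4 578 4)) (.leaf (.up 5 972 4))) (.node (.leaf (.up 5 1112 4)) (.leaf (.up 5 1811 0)))) (.node (.node (.leaf (.up 6 1954 4)) (.leaf (.up 5 1441 2))) (.node (.leaf (.up 2 440 4)) (.leaf (.up 4 54 4)))))) (.node (.node (.node (.node (.leaf (.up 3 1188 1)) (.leaf (.up 5 1260 2))) (.node (.leaf (.up 6 976 4)) (.leaf (.up 5 606 4)))) (.node (.node (.leaf (.up 5 525 2)) (.leaf (.up 3 420 4))) (.node (.leaf (.up 4 122 0)) (.leaf (.up 4 560 3))))) (.node (.node (.node (.leaf (.up 4 1951 2)) (.leaf (.up 3 770 2))) (.node (.leaf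 (.up 5 1907 0)) (.leaf (.up 6 41 2)))) (.node (.node (.leaf (.up 5 248 0)) (.leaf (.up 4 1951 4))) (.node (.leaf (.up 5 833 3)) (.leaf (.up 5 1199 3))))))))

noncomputable def vt4_3_011 : Tr VStep := .node vt4_3_0110 vt4_3_0111

noncomputable def vt4_3_01 : Tr VStep := .node vt4_3_010 vt4_3_011

noncomputable def vt4_3_0 : Tr VStep := .node vt4_3_00 vt4_3_01

noncomputable def vt4_3_1000 : Tr VStep :=
  .node (.node (.node (.node (.node (.node (.node (.leaf (.root 888)) (.leaf (.up 6 668 3))) (.node (.leaf (.up 7 1806 3)) (.leaf (.up 5 843 4)))) (.node (.node (.leaf (.up 6 1969 2)) (.leaf (.up 5 812 2))) (.node (.leaf (.up 4 1829 4)) (.leaf (.up 6 1707 4))))) (.node (.node (.node (.leaf (.up 6 547 2)) (.leaf (.up 4 874 4))) (.node (.leaf (.up 4 1278 4)) (.leaf (.up 6 1392 4)))) (.node (.node (.leaf (.up 2 1796 4)) (.leaf (.up 7 1218 2))) (.node (.leaf (.up 6 884 2)) (.leaf (.up 5 1980 3)))))) (.node (.node (.node (.node (.leaf (.up 3 1226 3)) (.leaf (.up 4 1423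 2))) (.node (.leaf (.up 5 1228 1)) (.leaf (.up 4 905 1)))) (.node (.node (.leaf (.up 3 1289 3)) (.leaf (.up 4 258 4))) (.node (.leaf (.up 4 1686 4)) (.leaf (.up 4 155 3))))) (.node (.node (.node (.leaf (.up 4 1788 2)) (.leaf (.up 5 729 4))) (.node (.leaf (.up 6 41 3)) (.leaf (.up 4 586 1)))) (.node (.node (.leaf (.up 6 1152 2)) (.leaf (.up 4 1849 4))) (.node (.leaf (.up 4 173 4)) (.leaf (.up 6 1237 1))))))) (.node (.node (.node (.node (.node (.leaf (.up 5 1797 1)) (.leaf (.up 3 1591 4))) (.node (.leaf (.up 5 419 4)) (.leaf (.up 6 1957 3)))) (.node (.node (.leaf (.up 4 1012 3)) (.leaf (.up 7 983 4))) (.node (.leaf (.up 4 1091 4)) (.leaf (.up 4 1485 4))))) (.node (.node (.node (.leaf (.up 5 386 4)) (.leaf (.up 6 33 2))) (.node (.leaf (.up 7 1944 4)) (.leaf (.up 5 1959 0)))) (.node (.node (.leaf (.up 6 1728 2)) (.leaf (.up 4 605 2))) (.node (.leaf (.up 5 1478 1)) (.leaf (.up 7 62 0)))))) (.node (.node (.node (.node (.leaf (.up 4 1933 2)) (.leaf (.up 5 1924 4)))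 (.node (.leaf (.up 5 499 3)) (.leaf (.up 5 59 2)))) (.node (.node (.leaf (.up 4 1002 4)) (.leaf (.up 4 364 2))) (.node (.leaf (.up 4 1754 2)) (.leaf (.up 4 760 1))))) (.node (.node (.node (.leaf (.up 3 1296 3)) (.leaf (.up 4 1278 2))) (.node (.leaf (.up 3 1579 4)) (.leaf (.up 5 2005 2)))) (.node (.node (.leaf (.up 3 1489 4)) (.leaf (.up 5 1700 1))) (.node (.leaf (.up 5 1711 3)) (.leaf (.up 4 321 3)))))))) (.node (.node (.node (.node (.node (.node (.leaf (.up 3 338 2)) (.leaf (.up 5 925 4))) (.node (.leaf (.up 6 1033 4)) (.leaf (.up 6 1764 2)))) (.node (.node (.leaf (.up 6 2035 4)) (.leaf (.up 5 1971 2))) (.node (.leaf (.up 4 578 3)) (.leaf (.up 6 1452 3))))) (.node (.node (.node (.leaf (.up 5 1724 2)) (.leaf (.up 5 949 0))) (.node (.leaf (.up 6 919 0)) (.leaf (.up 7 956 4)))) (.node (.node (.leaf (.up 5 812 1)) (.leaf (.up 7 70 4))) (.node (.leaf (.up 5 1715 1)) (.leaf (.up 4 1628 4)))))) (.node (.node (.node (.node (.leaf (.up 4 928 4)) (.leaf (.up 4 272 2)))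 (.node (.leaf (.up 4 87 1)) (.leaf (.up 5 1076 4)))) (.node (.node (.leaf (.up 5 2033 2)) (.leaf (.up 5 1260 0))) (.node (.leaf (.up 5 1242 2)) (.leaf (.up 4 1278 0))))) (.node (.node (.node (.leaf (.up 4 1754 3)) (.leaf (.up 4 997 0))) (.node (.leaf (.up 5 1190 3)) (.leaf (.up 4 1015 0)))) (.node (.node (.leaf (.up 5 31 2)) (.leaf (.up 2 1154 2))) (.node (.leaf (.up 4 1118 0)) (.leaf (.up 6 1134 0))))))) (.node (.node (.node (.node (.node (.leaf (.up 3 373 4)) (.leaf (.up 4 342 3))) (.node (.leaf (.up 6 1254 2)) (.leaf (.up 6 1831 0)))) (.node (.node (.leaf (.up 6 1457 2)) (.leaf (.up 6 149 3))) (.node (.leaf (.up 4 655 4)) (.leaf (.up 4 519 2))))) (.node (.node (.node (.leaf (.up 4 1870 4)) (.leaf (.up 6 1957 0))) (.node (.leaf (.up 7 340 4)) (.leaf (.up 4 1975 0)))) (.node (.node (.leaf (.up 7 686 4)) (.leaf (.up 5 1546 3))) (.node (.leaf (.up 6 349 1)) (.leaf (.up 5 46 0)))))) (.node (.node (.node (.node (.leaf (.up 5 786 2)) (.leaf (.up 6 328 4))) (.node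 (.leaf (.up 5 1977 1)) (.leaf (.up 3 1188 2)))) (.node (.node (.leaf (.up 4 1318 4)) (.leaf (.up 3 1523 2))) (.node (.leaf (.up 4 222 0)) (.leaf (.up 5 690 4))))) (.node (.node (.node (.leaf (.up 4 1789 4)) (.leaf (.up 4 1649 3))) (.node (.leaf (.up 4 995 3)) (.leaf (.up 5 842 2)))) (.node (.node (.leaf (.up 4 797 4)) (.leaf (.up 6 541 2))) (.node (.leaf (.up 5 544 3)) (.leaf (.up 4 126 0))))))))

noncomputable def vt4_3_1001 : Tr VStep :=
  .node (.node (.node (.node (.node (.node (.node (.leaf (.root 1254)) (.leaf (.up 5 1547 3))) (.node (.leaf (.up 4 1091 2)) (.leaf (.up 4 222 2)))) (.node (.node (.leaf (.up 5 38 3)) (.leaf (.up 2 1679 4))) (.node (.leaf (.up 4 283 4)) (.leaf (.up 6 674 2))))) (.node (.node (.node (.leaf (.up 5 1242 4)) (.leaf (.up 4 516 1))) (.node (.leaf (.up 4 222 1)) (.leaf (.up 5 744 3)))) (.node (.node (.leaf (.up 5 762 2)) (.leaf (.up 5 180 4))) (.node (.leaf (.up 3 1824 4)) (.leaf (.up 2 260 1)))))) (.node (.node (.node (.node (.leaf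 (.up 6 850 4)) (.leaf (.up 4 639 1))) (.node (.leaf (.up 4 165 1)) (.leaf (.up 7 1025 2)))) (.node (.node (.leaf (.up 4 1714 4)) (.leaf (.up 5 1366 2))) (.node (.leaf (.up 6 168 4)) (.leaf (.up 4 1036 3))))) (.node (.node (.node (.leaf (.up 5 1730 3)) (.leaf (.up 5 1255 4))) (.node (.leaf (.up 5 883 4)) (.leaf (.up 3 1007 2)))) (.node (.node (.leaf (.up 5 630 0)) (.leaf (.up 4 239 3))) (.node (.leaf (.up 4 1405 3)) (.leaf (.up 6 1821 4))))))) (.node (.node (.node (.node (.node (.leaf (.up 5 503 2)) (.leaf (.up 1 9 4))) (.node (.leaf (.up 5 1949 4)) (.leaf (.up 4 285 0)))) (.node (.node (.leaf (.up 3 1523 1)) (.leaf (.up 4 1686 0))) (.node (.leaf (.up 6 1716 0)) (.leaf (.up 3 1085 2))))) (.node (.node (.node (.leaf (.up 4 63 3)) (.leaf (.up 4 1586 4))) (.node (.leaf (.up 4 422 4)) (.leaf (.up 4 117 1)))) (.node (.node (.leaf (.up 6 508 3)) (.leaf (.up 5 248 2))) (.node (.leaf (.up 4 1870 2)) (.leaf (.up 5 1480 4)))))) (.node (.node (.node (.node (.leaf (.up 5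 52 4)) (.leaf (.up 7 442 4))) (.node (.leaf (.up 6 1539 2)) (.leaf (.up 5 1952 4)))) (.node (.node (.leaf (.up 6 1755 3)) (.leaf (.up 5 1114 4))) (.node (.leaf (.up 4 974 4)) (.leaf (.up 6 576 4))))) (.node (.node (.node (.leaf (.up 6 1551 4)) (.leaf (.up 6 463 0))) (.node (.leaf (.up 4 1019 3)) (.leaf (.up 5 411 4)))) (.node (.node (.leaf (.up 3 1007 4)) (.leaf (.up 4 1622 0))) (.node (.leaf (.up 5 23 1)) (.leaf (.up 5 1147 4)))))))) (.node (.node (.node (.node (.node (.node (.leaf (.up 3 1386 3)) (.leaf (.up 6 1443 4))) (.node (.leaf (.up 5 1814 3)) (.leaf (.up 5 1309 0)))) (.node (.node (.leaf (.up 5 1193 3)) (.leaf (.up 4 451 1))) (.node (.leaf (.up 4 672 2)) (.leaf (.up 4 1597 2))))) (.node (.node (.node (.leaf (.up 5 1455 0)) (.leaf (.up 5 132 2))) (.node (.leaf (.up 4 1036 4)) (.leaf (.up 3 1410 4)))) (.node (.node (.leaf (.up 4 2038 4)) (.leaf (.up 1 0 1))) (.node (.leaf (.up 4 492 4)) (.leaf (.up 3 532 0)))))) (.node (.node (.node (.node (.leaf (.up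 5 1438 4)) (.leaf (.up 5 949 2))) (.node (.leaf (.up 4 1405 0)) (.leaf (.up 6 158 2)))) (.node (.node (.leaf (.up 4 126 4)) (.leaf (.up 6 457 2))) (.node (.leaf (.up 6 1636 4)) (.leaf (.up 4 738 2))))) (.node (.node (.node (.leaf (.up 3 589 3)) (.leaf (.up 6 1443 3))) (.node (.leaf (.up 4 49 3)) (.leaf (.up 4 2015 3)))) (.node (.node (.leaf (.up 4 1605 4)) (.leaf (.up 2 440 1))) (.node (.leaf (.up 5 498 3)) (.leaf (.up 5 1564 3))))))) (.node (.node (.node (.node (.node (.leaf (.up 6 1867 4)) (.leaf (.up 3 501 2))) (.node (.leaf (.up 5 616 1)) (.leaf (.up 4 734 2)))) (.node (.node (.leaf (.up 5 683 4)) (.leaf (.up 4 905 2))) (.node (.leaf (.up 3 1087 2)) (.leaf (.up 3 162 2))))) (.node (.node (.node (.leaf (.up 4 646 2)) (.leaf (.up 4 1563 2))) (.node (.leaf (.up 4 939 1)) (.leaf (.up 6 1764 4)))) (.node (.node (.leaf (.up 6 1168 4)) (.leaf (.up 4 2030 1))) (.node (.leaf (.up 5 1588 0)) (.leaf (.up 4 225 3)))))) (.node (.node (.node (.node (.leaf (.up 5 1784 4))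 (.leaf (.up 7 1910 4))) (.node (.leaf (.up 5 365 0)) (.leaf (.up 4 364 4)))) (.node (.node (.leaf (.up 5 208 1)) (.leaf (.up 4 1878 2))) (.node (.leaf (.up 5 1282 4)) (.leaf (.up 6 1164 4))))) (.node (.node (.node (.leaf (.up 6 495 0)) (.leaf (.up 4 479 0))) (.node (.leaf (.up 4 1394 2)) (.leaf (.up 5 1366 1)))) (.node (.node (.leaf (.up 3 1654 0)) (.leaf (.up 2 1197 4))) (.node (.leaf (.up 4 825 4)) (.leaf (.up 5 345 3))))))))

noncomputable def vt4_3_100 : Tr VStep := .node vt4_3_1000 vt4_3_1001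

noncomputable def vt4_3_1010 : Tr VStep :=
  .node (.node (.node (.node (.node (.node (.node (.leaf (.up 4 489 3)) (.leaf (.up 5 867 4))) (.node (.leaf (.up 5 1271 4)) (.leaf (.up 5 1147 3)))) (.node (.node (.leaf (.up 5 1805 4)) (.leaf (.up 4 1975 2))) (.node (.leaf (.up 1 1 0)) (.leaf (.up 4 49 0))))) (.node (.node (.node (.leaf (.up 6 1720 2)) (.leaf (.up 4 1368 4))) (.node (.leaf (.up 3 1427 2)) (.leaf (.up 7 834 4)))) (.node (.node (.leaf (.up 5 131 0)) (.leaf (.up 6 89 2))) (.node (.leaf (.up 6 1225 3)) (.leaf (.up 4 482 1)))))) (.node (.node (.node (.node (.leaf (.up 5 81 3)) (.leaf (.up 4 1983 3))) (.node (.leaf (.up 3 557 3)) (.leaf (.up 3 1226 4)))) (.node (.node (.leaf (.up 4 402 3)) (.leaf (.up 5 872 2))) (.node (.leaf (.up 5 81 0)) (.leaf (.up 5 1024 3))))) (.node (.node (.node (.leaf (.up 4 1055 1)) (.leaf (.up 6 1914 0))) (.node (.leaf (.up 6 332 2)) (.leaf (.up 3 1489 2)))) (.node (.node (.leaf (.up 4 27 2)) (.leaf (.up 4 1158 2))) (.node (.leaf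 (.up 4 1393 3)) (.leaf (.up 5 241 0))))))) (.node (.node (.node (.node (.node (.leaf (.up 5 395 4)) (.leaf (.up 4 852 2))) (.node (.leaf (.up 5 1937 4)) (.leaf (.up 4 830 3)))) (.node (.node (.leaf (.up 5 1131 4)) (.leaf (.up 6 296 2))) (.node (.leaf (.up 5 1299 3)) (.leaf (.up 3 765 3))))) (.node (.node (.node (.leaf (.up 3 1968 4)) (.leaf (.up 6 1292 1))) (.node (.leaf (.up 7 2006 1)) (.leaf (.up 5 1937 2)))) (.node (.node (.leaf (.up 7 592 4)) (.leaf (.up 5 1187 0))) (.node (.leaf (.up 5 1153 0)) (.leaf (.up 5 1517 2)))))) (.node (.node (.node (.node (.leaf (.up 5 790 2)) (.leaf (.up 5 1931 2))) (.node (.leaf (.up 6 61 2)) (.leaf (.up 4 646 3)))) (.node (.node (.leaf (.up 2 1197 1)) (.leaf (.up 5 1123 0))) (.node (.leaf (.up 5 306 1)) (.leaf (.up 6 1756 2))))) (.node (.node (.node (.leaf (.up 5 395 3)) (.leaf (.up 4 874 0))) (.node (.leaf (.up 4 25 4)) (.leaf (.up 6 888 0)))) (.node (.node (.leaf (.up 3 72 3)) (.leaf (.up 6 537 2))) (.node (.leaf (.up 3 1529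 4)) (.leaf (.up 3 1498 3)))))))) (.node (.node (.node (.node (.node (.node (.leaf (.up 4 1057 4)) (.leaf (.up 5 1455 4))) (.node (.leaf (.up 5 571 4)) (.leaf (.up 4 639 2)))) (.node (.node (.leaf (.up 6 1632 1)) (.leaf (.up 5 843 3))) (.node (.leaf (.up 4 17 0)) (.leaf (.up 4 1621 4))))) (.node (.node (.node (.leaf (.up 5 1017 3)) (.leaf (.up 5 916 4))) (.node (.leaf (.up 5 1024 4)) (.leaf (.up 7 1422 4)))) (.node (.node (.leaf (.up 5 570 3)) (.leaf (.up 7 1222 2))) (.node (.leaf (.up 5 572 1)) (.leaf (.up 5 110 4)))))) (.node (.node (.node (.node (.leaf (.up 6 1426 4)) (.leaf (.up 5 816 3))) (.node (.leaf (.up 5 1698 3)) (.leaf (.up 3 518 4)))) (.node (.node (.leaf (.up 4 874 2)) (.leaf (.up 6 508 4))) (.node (.leaf (.up 4 65 0)) (.leaf (.up 5 1282 1))))) (.node (.node (.node (.leaf (.up 5 132 1)) (.leaf (.up 5 1455 3))) (.node (.leaf (.up 5 1491 2)) (.leaf (.up 3 1085 4)))) (.node (.node (.leaf (.up 4 1563 1)) (.leaf (.up 4 25 2))) (.node (.leaf (.up 4 1967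 2)) (.leaf (.up 4 225 0))))))) (.node (.node (.node (.node (.node (.leaf (.up 5 1863 4)) (.leaf (.up 4 1737 4))) (.node (.leaf (.up 4 125 2)) (.leaf (.up 5 211 4)))) (.node (.node (.leaf (.up 5 298 2)) (.leaf (.up 7 1739 1))) (.node (.leaf (.up 5 1213 4)) (.leaf (.up 4 1331 4))))) (.node (.node (.node (.leaf (.up 5 794 0)) (.leaf (.up 6 37 2))) (.node (.leaf (.up 6 1728 3)) (.leaf (.up 4 302 3)))) (.node (.node (.leaf (.up 7 1155 0)) (.leaf (.up 5 601 2))) (.node (.leaf (.up 4 646 4)) (.leaf (.up 6 370 2)))))) (.node (.node (.node (.node (.leaf (.up 3 1929 2)) (.leaf (.up 2 788 2))) (.node (.leaf (.up 6 487 3)) (.leaf (.up 4 63 2)))) (.node (.node (.leaf (.up 2 788 4)) (.leaf (.up 3 1462 3))) (.node (.leaf (.up 5 1105 0)) (.leaf (.up 5 748 1))))) (.node (.node (.node (.leaf (.up 5 1284 3)) (.leaf (.up 2 890 0))) (.node (.leaf (.up 4 1749 4)) (.leaf (.up 5 872 0)))) (.node (.node (.leaf (.up 2 1327 4)) (.leaf (.up 5 1670 2))) (.node (.leaf (.up 6 1723 3)) (.leaf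 (.up 5 341 3))))))))

noncomputable def vt4_3_1011 : Tr VStep :=
  .node (.node (.node (.node (.node (.node (.node (.leaf (.up 4 1235 4)) (.leaf (.up 6 1902 2))) (.node (.leaf (.up 4 216 2)) (.leaf (.up 4 727 1)))) (.node (.node (.leaf (.up 5 1593 0)) (.leaf (.up 5 1545 0))) (.node (.leaf (.up 3 1579 0)) (.leaf (.up 4 1563 0))))) (.node (.node (.node (.leaf (.up 5 744 4)) (.leaf (.up 3 1039 3))) (.node (.leaf (.up 5 1105 1)) (.leaf (.up 2 788 1)))) (.node (.node (.leaf (.up 5 1705 0)) (.leaf (.up 4 1689 0))) (.node (.leaf (.up 4 274 4)) (.leaf (.up 3 1968 3)))))) (.node (.node (.node (.node (.leaf (.up 6 1376 4)) (.leaf (.up 5 1776 1))) (.node (.leaf (.up 2 890 4)) (.leaf (.up 6 154 2)))) (.node (.node (.leaf (.up 5 1285 3)) (.leaf (.up 6 747 3))) (.node (.leaf (.up 7 1690 4)) (.leaf (.up 4 151 3))))) (.node (.node (.node (.leaf (.up 5 601 3)) (.leaf (.up 6 336 0))) (.node (.leaf (.up 5 1513 1)) (.leaf (.up 4 1995 3)))) (.node (.node (.leaf (.up 6 1723 4)) (.leaf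 (.up 3 1571 2))) (.node (.leaf (.up 6 161 4)) (.leaf (.up 6 1755 0))))))) (.node (.node (.node (.node (.node (.leaf (.up 5 571 3)) (.leaf (.up 5 1595 4))) (.node (.leaf (.up 2 636 1)) (.leaf (.up 5 730 2)))) (.node (.node (.leaf (.up 5 1808 2)) (.leaf (.up 5 909 2))) (.node (.leaf (.up 5 1083 2)) (.leaf (.up 5 1473 4))))) (.node (.node (.node (.leaf (.up 3 1188 3)) (.leaf (.up 1 0 4))) (.node (.leaf (.up 5 1330 0)) (.leaf (.up 5 1282 0)))) (.node (.node (.leaf (.up 4 191 1)) (.leaf (.up 5 1123 2))) (.node (.leaf (.up 5 1312 1)) (.leaf (.up 6 1018 4)))))) (.node (.node (.node (.node (.leaf (.up 5 1504 0)) (.leaf (.up 7 1326 2))) (.node (.leaf (.up 6 964 1)) (.leaf (.up 4 402 4)))) (.node (.node (.leaf (.up 4 975 2)) (.leaf (.up 5 616 4))) (.node (.leaf (.up 5 619 0)) (.leaf (.up 7 1138 4))))) (.node (.node (.node (.leaf (.up 6 61 4)) (.leaf (.up 5 704 2))) (.node (.leaf (.up 4 1378 0)) (.leaf (.up 5 1346 1)))) (.node (.node (.leaf (.up 4 1247 3)) (.leaf (.up 4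 1107 4))) (.node (.leaf (.up 7 1699 3)) (.leaf (.up 5 585 4)))))))) (.node (.node (.node (.node (.node (.node (.leaf (.up 4 543 4)) (.leaf (.up 6 979 1))) (.node (.leaf (.up 5 909 3)) (.leaf (.up 4 402 0)))) (.node (.node (.leaf (.up 3 1296 2)) (.leaf (.up 4 1649 4))) (.node (.leaf (.up 3 590 3)) (.leaf (.up 5 211 1))))) (.node (.node (.node (.leaf (.up 6 288 0)) (.leaf (.up 4 272 0))) (.node (.leaf (.up 3 202 1)) (.leaf (.up 4 258 0)))) (.node (.node (.leaf (.up 5 452 4)) (.leaf (.up 6 1635 2))) (.node (.leaf (.up 4 1621 1)) (.leaf (.up 4 272 1)))))) (.node (.node (.node (.node (.leaf (.up 7 940 4)) (.leaf (.up 5 1959 3))) (.node (.leaf (.up 3 1462 4)) (.leaf (.up 6 1029 2)))) (.node (.node (.leaf (.up 5 1612 4)) (.leaf (.up 6 1362 2))) (.node (.leaf (.up 7 1014 3)) (.leaf (.up 5 363 1))))) (.node (.node (.node (.leaf (.up 6 368 0)) (.leaf (.up 5 192 2))) (.node (.leaf (.up 5 909 4)) (.leaf (.up 3 338 0)))) (.node (.node (.leaf (.up 5 1813 3)) (.leaf (.up 4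 1335 1))) (.node (.leaf (.up 5 1645 4)) (.leaf (.up 6 168 1))))))) (.node (.node (.node (.node (.node (.leaf (.up 5 499 2)) (.leaf (.up 2 346 3))) (.node (.leaf (.up 5 1224 3)) (.leaf (.up 3 1410 0)))) (.node (.node (.leaf (.up 5 1911 3)) (.leaf (.up 5 521 0))) (.node (.leaf (.up 6 120 1)) (.leaf (.up 4 1081 2))))) (.node (.node (.node (.leaf (.up 5 43 3)) (.leaf (.up 4 1740 4))) (.node (.leaf (.up 6 1334 2)) (.leaf (.up 5 1465 3)))) (.node (.node (.leaf (.up 5 681 0)) (.leaf (.up 5 812 4))) (.node (.leaf (.up 5 916 3)) (.leaf (.up 6 1146 3)))))) (.node (.node (.node (.node (.leaf (.up 3 202 4)) (.leaf (.up 7 324 4))) (.node (.leaf (.up 6 1506 0)) (.leaf (.up 4 1490 0)))) (.node (.node (.leaf (.up 6 1872 2)) (.leaf (.up 3 1188 4))) (.node (.leaf (.up 5 816 4)) (.leaf (.up 6 702 4))))) (.node (.node (.node (.leaf (.up 6 1376 0)) (.leaf (.up 4 1919 4))) (.node (.leaf (.up 2 235 4)) (.leaf (.up 3 357 4)))) (.node (.node (.leaf (.up 4 1436 1)) (.leaf (.up 5 1982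 3))) (.node (.leaf (.up 6 747 0)) (.leaf (.up 5 1157 4))))))))

noncomputable def vt4_3_101 : Tr VStep := .node vt4_3_1010 vt4_3_1011

noncomputable def vt4_3_10 : Tr VStep := .node vt4_3_100 vt4_3_101

noncomputable def vt4_3_1100 : Tr VStep :=
  .node (.node (.node (.node (.node (.node (.node (.leaf (.up 5 365 3)) (.leaf (.up 5 1899 4))) (.node (.leaf (.up 4 1829 2)) (.leaf (.up 5 369 4)))) (.node (.node (.leaf (.up 2 773 4)) (.leaf (.up 5 1724 0))) (.node (.leaf (.up 7 1694 0)) (.leaf (.up 4 1340 3))))) (.node (.node (.node (.leaf (.up 4 222 4)) (.leaf (.up 6 336 4))) (.node (.leaf (.up 6 407 0)) (.leaf (.up 5 1110 2)))) (.node (.node (.leaf (.up 5 1564 0)) (.leaf (.up 4 1200 4))) (.node (.leaf (.up 4 1550 0)) (.leaf (.up 6 682 4)))))) (.node (.node (.node (.node (.leaf (.up 4 1878 4)) (.leaf (.up 3 373 0))) (.node (.leaf (.up 5 681 3)) (.leaf (.up 4 359 0)))) (.node (.node (.leaf (.up 5 1242 1)) (.leaf (.up 5 1772 0))) (.node (.leaf (.up 4 874 3)) (.leaf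 (.up 5 1156 3))))) (.node (.node (.node (.leaf (.up 5 469 0)) (.leaf (.up 3 420 3))) (.node (.leaf (.up 4 1044 2)) (.leaf (.up 5 503 0)))) (.node (.node (.leaf (.up 3 1929 3)) (.leaf (.up 5 1660 0))) (.node (.leaf (.up 5 134 1)) (.leaf (.up 5 793 4))))))) (.node (.node (.node (.node (.node (.leaf (.up 5 1411 4)) (.leaf (.up 6 454 3))) (.node (.leaf (.up 5 921 4)) (.leaf (.up 2 535 4)))) (.node (.node (.leaf (.up 6 668 0)) (.leaf (.up 5 493 4))) (.node (.leaf (.up 5 1657 4)) (.leaf (.up 6 1883 2))))) (.node (.node (.node (.leaf (.up 6 952 4)) (.leaf (.up 4 566 4))) (.node (.leaf (.up 4 1442 4)) (.leaf (.up 6 713 2)))) (.node (.node (.leaf (.up 4 524 0)) (.leaf (.up 5 926 2))) (.node (.leaf (.up 7 66 4)) (.leaf (.up 4 460 4)))))) (.node (.node (.node (.node (.leaf (.up 6 1936 3)) (.leaf (.up 4 126 3))) (.node (.leaf (.up 5 554 4)) (.leaf (.up 5 932 4)))) (.node (.node (.leaf (.up 5 1619 3)) (.leaf (.up 6 445 3))) (.node (.leaf (.up 4 734 0)) (.leaf (.up 5 961 3)))))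 (.node (.node (.node (.leaf (.up 3 271 3)) (.leaf (.up 6 1525 0))) (.node (.leaf (.up 5 883 3)) (.leaf (.up 4 1714 1)))) (.node (.node (.leaf (.up 5 988 2)) (.leaf (.up 5 620 0))) (.node (.leaf (.up 3 247 2)) (.leaf (.up 6 127 4)))))))) (.node (.node (.node (.node (.node (.node (.leaf (.up 6 41 4)) (.leaf (.up 4 1036 2))) (.node (.leaf (.up 3 1587 4)) (.leaf (.up 6 1831 2)))) (.node (.node (.leaf (.up 4 1692 0)) (.leaf (.up 4 975 3))) (.node (.leaf (.up 6 454 2)) (.leaf (.up 4 605 4))))) (.node (.node (.node (.leaf (.up 4 1919 2)) (.leaf (.up 7 1948 4))) (.node (.leaf (.up 6 391 0)) (.leaf (.up 4 1775 3)))) (.node (.node (.leaf (.up 6 702 3)) (.leaf (.up 2 636 4))) (.node (.leaf (.up 5 194 3)) (.leaf (.up 7 693 2)))))) (.node (.node (.node (.node (.leaf (.up 5 341 0)) (.leaf (.up 3 357 0))) (.node (.leaf (.up 4 1920 4)) (.leaf (.up 4 1550 4)))) (.node (.node (.leaf (.up 2 1433 3)) (.leaf (.up 2 1796 1))) (.node (.leaf (.up 4 2021 3)) (.leaf (.up 6 11 3))))) (.node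 (.node (.node (.leaf (.up 4 928 2)) (.leaf (.up 3 501 0))) (.node (.leaf (.up 5 185 3)) (.leaf (.up 5 1046 2)))) (.node (.node (.leaf (.up 4 1628 0)) (.leaf (.up 4 975 4))) (.node (.leaf (.up 5 378 3)) (.leaf (.up 4 1684 3))))))) (.node (.node (.node (.node (.node (.leaf (.up 4 1550 2)) (.leaf (.up 6 1353 3))) (.node (.leaf (.up 6 1287 0)) (.leaf (.up 2 440 2)))) (.node (.node (.leaf (.up 5 1711 4)) (.leaf (.up 3 338 1))) (.node (.leaf (.up 5 280 3)) (.leaf (.up 6 964 2))))) (.node (.node (.node (.leaf (.up 7 480 2)) (.leaf (.up 4 1405 2))) (.node (.leaf (.up 6 878 4)) (.leaf (.up 4 1622 2)))) (.node (.node (.leaf (.up 5 540 0)) (.leaf (.up 6 556 0))) (.node (.leaf (.up 7 587 1)) (.leaf (.up 4 1066 2)))))) (.node (.node (.node (.node (.leaf (.up 6 304 1)) (.leaf (.up 4 1397 0))) (.node (.leaf (.up 5 1199 1)) (.leaf (.up 3 1677 3)))) (.node (.node (.leaf (.up 4 173 2)) (.leaf (.up 5 1330 3))) (.node (.leaf (.up 4 560 1)) (.leaf (.up 4 1870 3))))) (.node (.node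 (.node (.leaf (.up 4 1223 4)) (.leaf (.up 5 418 2))) (.node (.leaf (.up 6 733 4)) (.leaf (.up 4 18 3)))) (.node (.node (.leaf (.up 4 1091 3)) (.leaf (.up 2 636 0))) (.node (.leaf (.up 4 1128 2)) (.leaf (.up 5 1715 4))))))))

noncomputable def vt4_3_1101 : Tr VStep :=
  .node (.node (.node (.node (.node (.node (.node (.leaf (.up 5 1530 3)) (.leaf (.up 3 532 3))) (.node (.leaf (.up 5 1729 4)) (.leaf (.up 4 285 2)))) (.node (.node (.leaf (.up 4 1081 3)) (.leaf (.up 6 74 2))) (.node (.leaf (.up 4 1605 3)) (.leaf (.up 5 132 0))))) (.node (.node (.node (.leaf (.up 4 1623 1)) (.leaf (.up 4 274 1))) (.node (.leaf (.up 6 281 3)) (.leaf (.up 4 1933 0)))) (.node (.node (.leaf (.up 4 54 0)) (.leaf (.up 4 1933 1))) (.node (.leaf (.up 4 18 2)) (.leaf (.up 4 1172 4)))))) (.node (.node (.node (.node (.leaf (.up 5 1090 3)) (.leaf (.up 6 1769 2))) (.node (.leaf (.up 6 1906 4)) (.leaf (.up 4 1788 4)))) (.node (.node (.leaf (.up 6 1160 4)) (.leaf (.up 4 2038 1))) (.node (.leaf (.up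 4 658 4)) (.leaf (.up 5 1982 2))))) (.node (.node (.node (.leaf (.up 6 733 3)) (.leaf (.up 3 1999 0))) (.node (.leaf (.up 5 329 4)) (.leaf (.up 6 556 2)))) (.node (.node (.leaf (.up 6 368 1)) (.leaf (.up 6 1589 1))) (.node (.leaf (.up 5 1193 4)) (.leaf (.up 3 1319 4))))))) (.node (.node (.node (.node (.node (.leaf (.up 4 122 1)) (.leaf (.up 5 1193 2))) (.node (.leaf (.up 6 1447 4)) (.leaf (.up 2 1065 4)))) (.node (.node (.leaf (.up 6 584 2)) (.leaf (.up 4 1158 0))) (.node (.leaf (.up 2 890 1)) (.leaf (.up 3 1087 1))))) (.node (.node (.node (.leaf (.up 5 1414 4)) (.leaf (.up 4 1788 1))) (.node (.leaf (.up 4 1628 3)) (.leaf (.up 5 867 1)))) (.node (.node (.leaf (.up 5 1062 0)) (.leaf (.up 5 525 3))) (.node (.leaf (.up 3 1677 2)) (.leaf (.up 5 2034 4)))))) (.node (.node (.node (.node (.leaf (.up 6 1259 2)) (.leaf (.up 4 896 4))) (.node (.leaf (.up 4 1044 4)) (.leaf (.up 7 1434 4)))) (.node (.node (.leaf (.up 4 2030 4)) (.leaf (.up 6 1632 4))) (.node (.leaf (.up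 6 1468 2)) (.leaf (.up 4 122 4))))) (.node (.node (.node (.leaf (.up 1 1 1)) (.leaf (.up 5 630 3))) (.node (.leaf (.up 5 46 2)) (.leaf (.up 5 1203 2)))) (.node (.node (.leaf (.up 5 469 4)) (.leaf (.up 5 949 3))) (.node (.leaf (.up 3 1999 4)) (.leaf (.up 5 1601 4)))))))) (.node (.node (.node (.node (.node (.node (.leaf (.up 3 373 3)) (.leaf (.up 4 1945 4))) (.node (.leaf (.up 5 777 3)) (.leaf (.up 3 1410 2)))) (.node (.node (.leaf (.up 3 72 2)) (.leaf (.up 5 134 0))) (.node (.leaf (.up 5 714 3)) (.leaf (.up 4 1316 3))))) (.node (.node (.node (.leaf (.up 3 1498 2)) (.leaf (.up 5 418 4))) (.node (.leaf (.up 6 1430 3)) (.leaf (.up 4 1976 4)))) (.node (.node (.leaf (.up 4 1107 1)) (.leaf (.up 5 790 1))) (.node (.leaf (.up 4 1165 2)) (.leaf (.up 5 16 2)))))) (.node (.node (.node (.node (.leaf (.up 4 1919 0)) (.leaf (.up 5 630 2))) (.node (.leaf (.up 7 446 4)) (.leaf (.up 6 349 2)))) (.node (.node (.leaf (.up 6 580 4)) (.leaf (.up 6 214 0))) (.node (.leaf (.up 4 1118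 4)) (.leaf (.up 5 801 2))))) (.node (.node (.node (.leaf (.up 6 415 4)) (.leaf (.up 3 1432 2))) (.node (.leaf (.up 5 1925 4)) (.leaf (.up 5 1715 2)))) (.node (.node (.leaf (.up 5 1937 3)) (.leaf (.up 6 127 3))) (.node (.leaf (.up 5 1517 3)) (.leaf (.up 4 1003 4))))))) (.node (.node (.node (.node (.node (.leaf (.up 4 1393 4)) (.leaf (.up 4 54 2))) (.node (.leaf (.up 4 1920 2)) (.leaf (.up 4 797 0)))) (.node (.node (.leaf (.up 5 1190 0)) (.leaf (.up 4 586 2))) (.node (.leaf (.up 4 1423 3)) (.leaf (.up 5 353 2))))) (.node (.node (.node (.leaf (.up 5 842 4)) (.leaf (.up 5 708 4))) (.node (.leaf (.up 5 110 2)) (.leaf (.up 5 909 0)))) (.node (.node (.leaf (.up 4 364 3)) (.leaf (.up 6 1828 4))) (.node (.leaf (.up 5 176 4)) (.leaf (.up 2 1679 2)))))) (.node (.node (.node (.node (.leaf (.up 7 116 2)) (.leaf (.up 4 1356 4))) (.node (.leaf (.up 5 728 4)) (.leaf (.up 6 854 4)))) (.node (.node (.leaf (.up 5 1611 3)) (.leaf (.up 6 172 4))) (.node (.leaf (.up 6 1252 0)) (.leaf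 (.up 6 1236 0))))) (.node (.node (.node (.leaf (.up 4 1178 1)) (.leaf (.up 4 975 0))) (.node (.leaf (.up 6 261 1)) (.leaf (.up 5 1157 3)))) (.node (.node (.leaf (.up 5 1817 4)) (.leaf (.up 5 1850 3))) (.node (.leaf (.up 3 259 4)) (.leaf (.up 5 1350 3))))))))

noncomputable def vt4_3_110 : Tr VStep := .node vt4_3_1100 vt4_3_1101

noncomputable def vt4_3_1110 : Tr VStep :=
  .node (.node (.node (.node (.node (.node (.node (.leaf (.up 6 149 2)) (.leaf (.up 5 345 4))) (.node (.leaf (.up 3 958 2)) (.leaf (.up 6 100 3)))) (.node (.node (.leaf (.up 4 1335 4)) (.leaf (.up 5 1209 4))) (.node (.leaf (.up 6 813 4)) (.leaf (.up 5 675 4))))) (.node (.node (.node (.leaf (.up 5 1772 4)) (.leaf (.up 6 1890 4))) (.node (.leaf (.up 6 1104 2)) (.leaf (.up 5 1131 1)))) (.node (.node (.leaf (.up 5 46 1)) (.leaf (.up 5 1348 3))) (.node (.leaf (.up 5 641 0)) (.leaf (.up 7 756 1)))))) (.node (.node (.node (.node (.leaf (.up 4 1738 1)) (.leaf (.up 4 928 3))) (.node (.leaf (.up 4 1586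 3)) (.leaf (.up 5 1776 4)))) (.node (.node (.leaf (.up 5 1156 4)) (.leaf (.up 5 683 2))) (.node (.leaf (.up 5 2033 3)) (.leaf (.up 4 655 1))))) (.node (.node (.node (.leaf (.up 5 932 2)) (.leaf (.up 3 1386 0))) (.node (.leaf (.up 4 173 3)) (.leaf (.up 5 1491 1)))) (.node (.node (.leaf (.up 4 703 4)) (.leaf (.up 5 817 4))) (.node (.leaf (.up 6 366 3)) (.leaf (.up 4 737 0))))))) (.node (.node (.node (.node (.node (.leaf (.up 5 1546 2)) (.leaf (.up 6 663 2))) (.node (.leaf (.up 5 207 3)) (.leaf (.up 4 444 2)))) (.node (.node (.leaf (.up 6 1617 4)) (.leaf (.up 2 235 2))) (.node (.leaf (.up 6 1885 2)) (.leaf (.up 5 453 4))))) (.node (.node (.node (.leaf (.up 6 1418 4)) (.leaf (.up 5 298 0))) (.node (.leaf (.up 5 1616 3)) (.leaf (.up 6 1618 2)))) (.node (.node (.leaf (.up 5 106 4)) (.leaf (.up 5 1797 2))) (.node (.leaf (.up 8 1648 4)) (.leaf (.up 4 125 3)))))) (.node (.node (.node (.node (.leaf (.up 5 779 3)) (.leaf (.up 5 1608 2))) (.node (.leaf (.up 5 1048 4)) (.leaf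 (.up 4 1689 3)))) (.node (.node (.leaf (.up 3 1979 1)) (.leaf (.up 4 1651 0))) (.node (.leaf (.up 5 180 3)) (.leaf (.up 5 1882 3))))) (.node (.node (.node (.leaf (.up 4 1081 4)) (.leaf (.up 4 422 2))) (.node (.leaf (.up 5 2024 3)) (.leaf (.up 4 6 3)))) (.node (.node (.leaf (.up 5 473 4)) (.leaf (.up 4 87 4))) (.node (.leaf (.up 3 1579 3)) (.leaf (.up 5 453 3)))))))) (.node (.node (.node (.node (.node (.node (.leaf (.up 4 1563 4)) (.leaf (.up 4 151 2))) (.node (.leaf (.up 1 1 4)) (.leaf (.up 5 399 4)))) (.node (.node (.leaf (.up 3 1654 2)) (.leaf (.up 6 547 0))) (.node (.leaf (.up 6 1505 4)) (.leaf (.up 5 1964 1))))) (.node (.node (.node (.leaf (.up 3 32 4)) (.leaf (.up 7 430 4))) (.node (.leaf (.up 5 207 2)) (.leaf (.up 5 1972 4)))) (.node (.node (.leaf (.up 5 1573 3)) (.leaf (.up 5 1285 2))) (.node (.leaf (.up 5 986 4)) (.leaf (.up 7 596 4)))))) (.node (.node (.node (.node (.leaf (.up 3 1498 0)) (.leaf (.up 4 1839 3))) (.node (.leaf (.up 5 1480 0)) (.leaf (.up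 3 1363 3)))) (.node (.node (.leaf (.up 4 258 3)) (.leaf (.up 5 1588 2))) (.node (.leaf (.up 5 386 2)) (.leaf (.up 6 1168 3))))) (.node (.node (.node (.leaf (.up 6 1851 2)) (.leaf (.up 5 29 4))) (.node (.leaf (.up 3 1929 4)) (.leaf (.up 5 972 3)))) (.node (.node (.leaf (.up 5 1949 3)) (.leaf (.up 6 1533 4))) (.node (.leaf (.up 6 1644 2)) (.leaf (.up 4 999 4))))))) (.node (.node (.node (.node (.node (.leaf (.up 4 1405 4)) (.leaf (.up 6 1544 2))) (.node (.leaf (.up 5 1088 3)) (.leaf (.up 2 440 0)))) (.node (.node (.leaf (.up 6 1539 0)) (.leaf (.up 3 1587 0))) (.node (.leaf (.up 5 1411 3)) (.leaf (.up 7 1801 4))))) (.node (.node (.node (.leaf (.up 7 838 4)) (.leaf (.up 5 641 1))) (.node (.leaf (.up 5 1616 2)) (.leaf (.up 6 296 0)))) (.node (.node (.leaf (.up 5 859 1)) (.leaf (.up 6 922 2))) (.node (.leaf (.up 7 188 4)) (.leaf (.up 3 385 1)))))) (.node (.node (.node (.node (.leaf (.up 5 1924 3)) (.leaf (.up 4 727 2))) (.node (.leaf (.up 3 32 1)) (.leaf (.up 6 508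 2)))) (.node (.node (.leaf (.up 4 302 4)) (.leaf (.up 6 171 2))) (.node (.leaf (.up 5 1601 0)) (.leaf (.up 4 1649 0))))) (.node (.node (.node (.leaf (.up 2 346 0)) (.leaf (.up 4 825 1))) (.node (.leaf (.up 4 655 2)) (.leaf (.up 5 1161 3)))) (.node (.node (.leaf (.up 4 216 3)) (.leaf (.up 5 1779 0))) (.node (.leaf (.up 3 271 4)) (.leaf (.up 6 1134 2))))))))

noncomputable def vt4_3_1111 : Tr VStep :=
  .node (.node (.node (.node (.node (.node (.node (.leaf (.up 4 560 2)) (.leaf (.up 2 1679 3))) (.node (.leaf (.up 4 283 2)) (.leaf (.up 5 1414 2)))) (.node (.node (.leaf (.up 2 1065 0)) (.leaf (.up 5 1233 2))) (.node (.leaf (.up 4 734 3)) (.leaf (.up 4 1035 0))))) (.node (.node (.node (.leaf (.up 5 210 4)) (.leaf (.up 5 16 3))) (.node (.leaf (.up 3 1410 3)) (.leaf (.up 1 2 1)))) (.node (.node (.leaf (.up 4 1597 3)) (.leaf (.up 3 770 1))) (.node (.leaf (.up 5 1161 2)) (.leaf (.up 5 1693 1)))))) (.node (.node (.node (.node (.leaf (.up 4 1775 2)) (.leaf (.up 6 626 2)))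 (.node (.leaf (.up 7 320 4)) (.leaf (.up 5 345 2)))) (.node (.node (.leaf (.up 7 698 4)) (.leaf (.up 5 1097 0))) (.node (.leaf (.up 4 1976 2)) (.leaf (.up 6 1115 0))))) (.node (.node (.node (.leaf (.up 4 1606 3)) (.leaf (.up 4 239 4))) (.node (.leaf (.up 5 554 2)) (.leaf (.up 6 1781 4)))) (.node (.node (.leaf (.up 5 1153 4)) (.leaf (.up 6 1295 4))) (.node (.leaf (.up 3 1529 3)) (.leaf (.up 2 535 3))))))) (.node (.node (.node (.node (.node (.leaf (.up 3 1269 1)) (.leaf (.up 4 50 2))) (.node (.leaf (.up 5 1924 2)) (.leaf (.up 5 793 2)))) (.node (.node (.leaf (.up 6 2023 3)) (.leaf (.up 1 9 0))) (.node (.leaf (.up 5 1653 4)) (.leaf (.up 3 357 2))))) (.node (.node (.node (.leaf (.up 5 833 2)) (.leaf (.up 4 2012 2))) (.node (.leaf (.up 5 106 2)) (.leaf (.up 4 2028 1)))) (.node (.node (.leaf (.up 5 169 0)) (.leaf (.up 4 1686 3))) (.node (.leaf (.up 6 78 4)) (.leaf (.up 3 1258 3)))))) (.node (.node (.node (.node (.leaf (.up 7 112 2)) (.leaf (.up 6 1458 4))) (.node (.leaf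 (.up 5 859 2)) (.leaf (.up 7 936 4)))) (.node (.node (.leaf (.up 4 524 2)) (.leaf (.up 6 82 4))) (.node (.leaf (.up 7 295 2)) (.leaf (.up 5 1608 4))))) (.node (.node (.node (.leaf (.up 3 259 3)) (.leaf (.up 4 905 4))) (.node (.leaf (.up 6 1906 0)) (.leaf (.up 3 1427 4)))) (.node (.node (.leaf (.up 5 192 3)) (.leaf (.up 6 201 0))) (.node (.leaf (.up 2 235 0)) (.leaf (.up 6 1362 3)))))))) (.node (.node (.node (.node (.node (.node (.leaf (.up 4 928 0)) (.leaf (.up 3 512 3))) (.node (.leaf (.up 3 946 0)) (.leaf (.up 5 1370 1)))) (.node (.node (.leaf (.up 4 1235 2)) (.leaf (.up 6 1033 0))) (.node (.leaf (.up 5 2040 2)) (.leaf (.up 5 965 1))))) (.node (.node (.node (.leaf (.up 4 321 2)) (.leaf (.up 5 768 0))) (.node (.leaf (.up 5 988 1)) (.leaf (.up 5 786 0)))) (.node (.node (.leaf (.up 5 1193 0)) (.leaf (.up 4 1945 1))) (.node (.leaf (.up 5 22 2)) (.leaf (.up 3 1824 3)))))) (.node (.node (.node (.node (.leaf (.up 5 406 4)) (.leaf (.up 6 1773 2))) (.node (.leaf (.up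 7 1932 4)) (.leaf (.up 5 452 3)))) (.node (.node (.leaf (.up 7 1142 4)) (.leaf (.up 5 1528 4))) (.node (.leaf (.up 5 620 4)) (.leaf (.up 6 1978 2))))) (.node (.node (.node (.leaf (.up 5 1438 2)) (.leaf (.up 3 259 2))) (.node (.leaf (.up 5 882 0)) (.leaf (.up 6 1883 3)))) (.node (.node (.leaf (.up 3 589 4)) (.leaf (.up 6 1225 0))) (.node (.leaf (.up 5 1111 4)) (.leaf (.up 3 1497 4))))))) (.node (.node (.node (.node (.node (.leaf (.up 3 1968 0)) (.leaf (.up 2 1197 2))) (.node (.leaf (.up 6 795 2)) (.leaf (.up 4 1849 3)))) (.node (.node (.leaf (.up 5 872 3)) (.leaf (.up 4 1158 3))) (.node (.leaf (.up 4 359 2)) (.leaf (.up 5 1530 2))))) (.node (.node (.node (.leaf (.up 3 1824 0)) (.leaf (.up 5 986 3))) (.node (.leaf (.up 3 1269 2)) (.leaf (.up 4 422 3)))) (.node (.node (.leaf (.up 4 1442 2)) (.leaf (.up 6 537 3))) (.node (.leaf (.up 5 1931 3)) (.leaf (.up 3 532 2)))))) (.node (.node (.node (.node (.leaf (.up 5 1263 2)) (.leaf (.up 5 894 4))) (.node (.leaf (.up 3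 1258 4)) (.leaf (.up 7 857 2)))) (.node (.node (.leaf (.up 5 1808 4)) (.leaf (.up 6 1342 3))) (.node (.leaf (.up 6 172 3)) (.leaf (.up 3 1427 1))))) (.node (.node (.node (.leaf (.up 4 1227 4)) (.leaf (.up 4 610 3))) (.node (.leaf (.up 5 42 2)) (.leaf (.up 6 719 1)))) (.node (.node (.leaf (.up 7 381 2)) (.leaf (.up 4 165 4))) (.node (.leaf (.up 3 1587 3)) (.leaf (.up 5 1727 4))))))))

noncomputable def vt4_3_111 : Tr VStep := .node vt4_3_1110 vt4_3_1111

noncomputable def vt4_3_11 : Tr VStep := .node vt4_3_110 vt4_3_111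

noncomputable def vt4_3_1 : Tr VStep := .node vt4_3_10 vt4_3_11

noncomputable def vt4_3_ : Tr VStep := .node vt4_3_0 vt4_3_1

noncomputable def roots4 : List Root := [⟨0,[⟨[591],18954068202960563999883857393414895132340544,274,11152074094197286909595604394219313580077376,[57,103,156]⟩,⟨[581,573],11152654021508584373286546892004240464561978,0,11152654021508584373286546892004240464561978,[88,94,91,183]⟩,⟨[579,579],11151683218758795568376062856368578576253421,0,11151683218758795568376062856368578576253421,[57,116,92]⟩,⟨[883,578],13007259087124887320543206528923496264827024,1649,11150678493204247063887034670775768903123088,[87,56,123,27]⟩,⟨[578,582],17484954126477071077354513678158930300736174,1163,11152979842812248149228038983068587421962926,[176,182]⟩,⟨[579,883,579],13340822074995258213307549314150340287545639,1518,11152125890959782016311123839149207151460647,[87,55,44,99]⟩],vt4_0_⟩,⟨1,[⟨[883,581,582],17985207145868629862334584046170091323168649,762,11152337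218096185515990021928940185637132169,[56,123,205]⟩,⟨[591,579,579],15441282901669874155740475237617549965279745,274,11151002819530682008394248187117816355242497,[87,55,89,20]⟩],vt4_1_⟩,⟨3,[⟨[883,591],18453617880125195515106857834617892173987999,1143,11152519415469539843036692257561873428988063,[87,91,193]⟩,⟨[578,591],18953675036448477710831517183563073101259674,1677,11151680927685200620543264184367491548996506,[87,55,43,33]⟩],vt4_2_⟩,⟨14,[⟨[582,591,578],15440716490343736921761987541991098977157137,788,11150436408204544774415760491491365367119889,[88,104,188]⟩,⟨[883,883,883],18954840868445243565122220367859236518061426,1433,11152846759681966474833967368663654965798258,[87,56,103,34]⟩,⟨[580,591,573],12997634238942479182383616565297100218971294,788,11151942680763308956558272694587189440033950,[57,110,42,214]⟩,⟨[581,578,578],11153071138526319766191400431686465519482226,0,11153071138526319766191400431686465519482226,[94,103,240]⟩,⟨[581,582,883],16579086456147615161179176905286275018499898,1197,11150902139024804792011425167534708509353786,[87,56,89,119]⟩],vt4_3_⟩]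

noncomputable def sel4_000 : Tr (ℕ × ℕ × ℕ) :=
  .node (.node (.node (.node (.node (.node (.node (.leaf (11151856111227815387454224167439927067279624,573,0)) (.leaf (16072228014270606421310988617490368510828545,397,312))) (.leaf (17484968131003555614328550615287915003449345,250,252))) (.node (.node (.leaf (17484970779644296983109071398682417435365871,65,2)) (.leaf (13916357985088510276979292607613262297571329,504,315))) (.leaf (14227886951714851608110095534278113880973313,348,315)))) (.node (.node (.node (.leaf (11150415764238445057303588137661903177122253,54,1)) (.leaf (18392942662984350186022806987958269113278465,432,280))) (.leaf (19296732629526362744981529945297045482905601,316,315))) (.node (.node (.leaf (16579857200715867182892922435354709205414874,127,7)) (.leaf (21458206224208163864900885451703637162074113,703,279))) (.leaf (19066712843174864899788685162889928771641345,368,332))))) (.node (.node (.node (.node (.leaf (11152653969947691566137628501098959649313270,19,0))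 (.leaf (16388009507853679717597211393036375818248193,412,315))) (.leaf (12451616368842280577736035070107147141386241,286,287))) (.node (.node (.leaf (21507442435013070276233149706291972616659395,65,7)) (.leaf (11592739842436315932170728833041813175541761,529,315))) (.leaf (21816193824976490086764963130787942327394305,358,312)))) (.node (.node (.node (.leaf (17482558436658877981276291359553668605818007,33,2)) (.leaf (21168455788907550810310732241199106420121601,477,280))) (.leaf (19360875772746756309464490222211674299965441,318,280))) (.node (.leaf (16445093262332976993391035644051604503009177,142,198)) (.leaf (18556278658949188863364220540810205530693633,381,312)))))) (.node (.node (.node (.node (.node (.leaf (11150584254187819151222631255443689068560679,15,0)) (.leaf (18636754895938999259214429057596871545987073,405,332))) (.leaf (19994044623984633464146491486914604048774951,267,271))) (.node (.node (.leaf (21507127540036991919074188513242984395675367,31,7))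 (.leaf (16350057473307062167669347799965268545904641,515,280))) (.leaf (12746978090874927415117489242735058624716801,352,332)))) (.node (.node (.node (.leaf (17483962158213173742660597854114310055772837,1,2)) (.leaf (16716031158797965438075296922534515367223297,456,280))) (.leaf (17010035123817656270507652583355563101921281,317,332))) (.node (.leaf (21027910113324453973292368619048954068669425,133,200)) (.leaf (16066942460952071983139024022272158013071361,374,312))))) (.node (.node (.node (.node (.leaf (11152877310084590182274430644533932110218580,28,1)) (.leaf (20879737294129625033121545071286389802278913,421,332))) (.leaf (17482558376603618829535258510591701463581801,270,8))) (.node (.node (.leaf (16580815737653566185159313752080281066419937,95,7)) (.leaf (12168667748582570328631400623843700763533313,545,280))) (.leaf (12810961809700332187478006379864301972234241,364,315)))) (.node (.node (.node (.leaf (17483657861033870482506168036309216612164396,49,2)) (.leaf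 (18658533050498708703804881136782384092422145,489,280))) (.leaf (13148521374766345545425885130285942445187073,337,280))) (.node (.leaf (12860737372181697406896901364034226025580392,220,7)) (.leaf (20411508214326856109588152751309603150503937,388,332))))))) (.node (.node (.node (.node (.node (.node (.leaf (11151683586179142441533580972572264899306394,0,0)) (.leaf (13382636186127508806096475720349672567480321,401,312))) (.leaf (19623843775247874016738792511205437891502965,262,263))) (.node (.node (.leaf (21508104453060763505804304568101222795359971,15,7)) (.leaf (22029880600635340483519354792189007757320193,509,280))) (.leaf (20901515365612565094783201046162022967812097,350,315)))) (.node (.node (.node (.leaf (17482410779490669219860952259892826607853608,10,2)) (.leaf (12293891576532706300257126375068712084447233,441,315))) (.leaf (13971994151947517668706644088204736510042113,326,315))) (.node (.leaf (11151683259763805615165036357963559562260481,4,19)) (.leaf (16513233961800142669959522108721940112875521,371,315)))))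 (.node (.node (.node (.node (.leaf (11151662228964089073153833825482657092789211,23,1)) (.leaf (14689320475103912505795834212887662499471361,417,312))) (.leaf (17270182322881324642788506054053402498838529,253,288))) (.node (.node (.leaf (16580358285582600546637750889776695321674593,78,7)) (.leaf (16284723258858241982684379875338369049305089,536,280))) (.leaf (19133397553247100497398103875014484417323009,361,315)))) (.node (.node (.node (.leaf (17482428362164891828631239679864096253626293,41,2)) (.leaf (19339097701263816247802834247336041134432257,484,332))) (.leaf (12794627713168569543423975538556903505272833,326,280))) (.node (.leaf (12860731964404519242873907645626066719028130,201,7)) (.leaf (16371835544790002229331003774840901711437825,384,280)))))) (.node (.node (.node (.node (.node (.leaf (11152877018660409882229265883523998426334266,13,1)) (.leaf (14140774665783091361463471634775581218840577,409,312))) (.leaf (17123178927874664973729338803740366541430785,274,279)))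 (.node (.node (.leaf (21508552026918003443660242451048709387200436,46,7)) (.leaf (20369302650061160781818086707921978885414913,523,280))) (.leaf (12354972804182006305207681694973661645119489,355,315)))) (.node (.node (.node (.leaf (17483658141824245530723679535801130106077775,25,2)) (.leaf (18887202801069579351252268872976532330520577,470,280))) (.leaf (12534641434073473599037349746412947584851969,325,332))) (.node (.leaf (16443209850936651894514476187458922421977600,136,198)) (.leaf (20547621704014789092781291454432984027897857,377,315))))) (.node (.node (.node (.node (.leaf (11151549293593798305274148270910952159597361,38,0)) (.leaf (12333194732699066243546025720098028479586305,425,332))) (.leaf (12643531791488173907345629620791113412517889,311,252))) (.node (.node (.leaf (16578979827797707093772625478442009243353969,110,7)) (.leaf (21103121574458730625325764316572206923522049,563,280))) (.leaf (12001079142584230303205772103244622705205249,366,315)))) (.node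 (.node (.node (.leaf (17485045362203059132064610301101477687637097,57,2)) (.leaf (20008613891892464968847517216110389588140033,495,315))) (.leaf (16769285266276888971727429212011327601516545,345,280))) (.node (.leaf (11150415760557651690148980782917783045275649,200,200)) (.leaf (14037328366396337853691612012831636006641665,392,280)))))))

noncomputable def sel4_001 : Tr (ℕ × ℕ × ℕ) :=
  .node (.node (.node (.node (.node (.node (.node (.leaf (11150415176208252634312857168602930502911271,581,0)) (.leaf (16536362528906498144245628871095229427490817,399,312))) (.leaf (17482394911831445470533903675493797051105320,258,259))) (.node (.node (.leaf (21506009555142209751548298997022928737297740,0,7)) (.leaf (21457015236056506627327673908301245863436289,506,280))) (.leaf (18015920894123006924613784375140628534665217,349,315)))) (.node (.node (.node (.leaf (11152654193314853647472515576191059563296578,64,0)) (.leaf (15685826293077390286988840566258456997142529,436,280)))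 (.leaf (12190445820065510390293056598719333929066497,320,315))) (.node (.leaf (18256118986597118633493624584027011465019908,7,2)) (.leaf (20732734768700222019097578380725192342118401,370,312))))) (.node (.node (.node (.node (.leaf (11151856457864497924108657364877502317954835,21,0)) (.leaf (17173371119782494947849066136207499519336449,415,312))) (.leaf (17270352630267650467237305988768989326741505,247,288))) (.node (.node (.leaf (16578610116664352112219953892664907385565220,70,7)) (.leaf (13246682203911333997954575275877663076524033,533,315))) (.leaf (16850794069785713625715189719294254178639873,359,315)))) (.node (.node (.node (.leaf (17483961906134037587442878483031304983151215,37,2)) (.leaf (20161219982821572958459143403201072514211841,480,280))) (.leaf (11368164031035995504585509184202931162849281,322,280))) (.node (.leaf (16444194566182046870744100614564174358609922,151,198)) (.leaf (12725200019391987353455833267859425459183617,383,315)))))) (.node (.node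 (.node (.node (.node (.leaf (11152653791506039968693653875042561220019023,9,1)) (.leaf (16427472171491797835937348996717063599824897,407,315))) (.leaf (12644212357540398175257835111034666111534887,6,275))) (.node (.node (.leaf (21507769541143529504663079280644871385051280,39,7)) (.leaf (14967149934140368252154193395362562534547457,518,280))) (.leaf (15925384996312961582338260185580542437105665,354,312)))) (.node (.node (.node (.leaf (17483523888467339272750441509051676397945074,21,2)) (.leaf (15224233262216571214251862643553643528200193,463,280))) (.leaf (12996234464934292671774327669117761053794305,321,332))) (.node (.leaf (18257243517422368537164558899466116551737362,135,2)) (.leaf (14570891577571157579281177138569336238120961,375,315))))) (.node (.node (.node (.node (.leaf (11151689077033070342113775323626885531148855,32,0)) (.leaf (18490944444500368678379252616183306034094081,423,332))) (.leaf (11152654194612624858483008112660335998682619,40,46))) (.node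 (.node (.leaf (16578720924627782886284118401927133011625820,102,7)) (.leaf (18413529746315633010111251419431510980173825,553,315))) (.leaf (18126161747161122645546515037016450511413249,365,315)))) (.node (.node (.node (.leaf (17484628467833671251654763878723607243187801,53,2)) (.leaf (21903306110908250333411587030290474989527041,493,332))) (.leaf (18195748948409463010565895566365299943940097,341,280))) (.node (.leaf (11467812370026728033612565618523844152402102,226,7)) (.leaf (15153454989739804228730474466492523416133633,390,312))))))) (.node (.node (.node (.node (.node (.node (.leaf (11151522777798772849031237482895470979785584,11,0)) (.leaf (12578197577039353722360661696164213915918337,403,280))) (.leaf (11151683218758795568376062856368578576253421,2,2))) (.node (.node (.leaf (21507769215652849058189714887670969934783519,24,7)) (.leaf (18173811369454764773853001332838295391969281,512,332))) (.leaf (13153966435556638158649087984155524329381889,351,315)))) (.node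 (.node (.node (.leaf (17483708427903279735016805610648299992814838,14,2)) (.leaf (14662097342830679830910975384142447449743361,448,315))) (.leaf (17482517190419945374075458493498193153630209,331,252))) (.node (.leaf (16442759159709645707261163840786096557715716,132,198)) (.leaf (16095356581376961895597095379863657825443841,372,332))))) (.node (.node (.node (.node (.leaf (11151987994599201092733547282291087884546488,26,0)) (.leaf (17994142822640066862952128400264995369132033,419,332))) (.leaf (12462672956726753736011050330863509511901185,281,288))) (.node (.node (.leaf (16578720867083250610442897870664916942377685,87,7)) (.leaf (22246310736764556304582668634581697346674689,540,315))) (.leaf (15522331709326369864354175251880631081115649,363,315)))) (.node (.node (.node (.leaf (17484627921268256049095567868842690370142528,45,2)) (.leaf (16791063337759829033389085186886960767049729,486,315))) (.leaf (20030391963375405030509173190986022753673217,333,280))) (.node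 (.leaf (12859983754835091728520832742325924947066952,208,7)) (.leaf (17210131706334667045324724444591527817125889,386,315)))))) (.node (.node (.node (.node (.node (.leaf (11152766898283162922536214097738638367360895,17,1)) (.leaf (11977950575477874828919665340871333390589953,411,312))) (.leaf (12208952574976708711830637784962950372761601,250,280))) (.node (.node (.leaf (21507992405624074214600119580497273762493696,54,7)) (.leaf (13807467627673809968671012733235096469905409,525,280))) (.leaf (14460650724533041858348446476693514261372929,356,332)))) (.node (.node (.node (.leaf (17484740874541509888444707338214745135646119,29,2)) (.leaf (19807326321223796956457233811472033574297601,475,280))) (.leaf (16475281301257198139295073551190279866818561,312,280))) (.node (.leaf (21027266591053038584370624301654215824868998,137,200)) (.leaf (21376538915989926848548669287204700467240961,379,332))))) (.node (.node (.node (.node (.leaf (11153071445240541593056768513550143024027222,46,0))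 (.leaf (16901144766402955962199372708977397274255361,428,280))) (.leaf (17362737797263775034936350631682210743197697,312,315))) (.node (.node (.leaf (16580704111977191633237884144990530593620996,119,7)) (.leaf (18413742272068378144843095153071271364919510,286,699))) (.leaf (21011756218650680815715931708037844944560129,367,315)))) (.node (.node (.node (.leaf (17483523693803716560033252788160325095421502,61,2)) (.leaf (19318510701009302806643185920172678648438785,498,280))) (.leaf (21822989381390198112612616772155180360671233,280,315))) (.node (.leaf (11150542823566106405135165025436400516866049,251,247)) (.leaf (14482428796015981920010102451569147426906113,395,315)))))))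

noncomputable def sel4_00 : Tr (ℕ × ℕ × ℕ) := .node sel4_000 sel4_001

noncomputable def sel4_010 : Tr (ℕ × ℕ × ℕ) :=
  .node (.node (.node (.node (.node (.node (.node (.leaf (17483523452600486240576791281379096617489739,579,0)) (.leaf (13737880343348700220722836099576367656476673,398,315))) (.leaf (15289984014196802459465857161024547832899298,257,29))) (.node (.node (.leaf (17483830768376234077490294288575352890458369,67,2)) (.leaf (17848490875910848644481407616067439974948865,505,280))) (.leaf (22284422904779259010298355450764728979169281,348,280)))) (.node (.node (.node (.leaf (11151688702453314206946197271767475166405097,56,1)) (.leaf (13698577187182340277433936754547051261337601,434,315))) (.leaf (16262945187375301921022723900462735883771905,318,315))) (.node (.leaf (16578720953502875875073200371810615143286110,130,7)) (.leaf (17722075893655516669424878112820278593593345,369,312))))) (.node (.node (.node (.node (.leaf (11151688968994777325370206488702567481534205,20,0))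 (.leaf (19971853305340292871371858907726361290350593,414,315))) (.leaf (12452294306304508633221409654602059413671937,200,288))) (.node (.node (.leaf (21507769020742834987227824270651840155648132,67,7)) (.leaf (13464463001817503997499931128943874112757761,530,280))) (.leaf (11771058896389944243133933579552818318024705,358,332)))) (.node (.node (.node (.leaf (17483197916299336552492587611846581133246656,35,2)) (.leaf (20053520613558529887724075072225297985183745,479,332))) (.leaf (14629589743078027913469729680480369087881217,320,280))) (.node (.leaf (18257757820776810053379489042702936251568288,147,2)) (.leaf (18103033180054767171260408274643161196797953,382,312)))))) (.node (.node (.node (.node (.node (.leaf (11150453945513863028905342116676994594390414,0,1)) (.leaf (19046285267315340250751479975511951755190273,406,312))) (.leaf (20881087246853782582776816901713026153979905,273,248))) (.node (.node (.leaf (21506130499972185728951958143578468357257129,37,7)) (.leaf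 (14859450564877325181419125064386788005519361,517,332))) (.leaf (13333634982371336069549960916728824352219137,353,312)))) (.node (.node (.node (.leaf (17485045335578910232692680739526985074573630,19,2)) (.leaf (21663906915144437213113405669619760936001537,459,280))) (.leaf (18327608448535530001037839063331369616678913,319,332))) (.node (.leaf (16443356442928174291926289194992187828024086,134,198)) (.leaf (18576706234808713512401425728188182547144705,374,280))))) (.node (.node (.node (.node (.leaf (11152199291565539454546748281120701413799480,29,1)) (.leaf (19231398415077542559996562020670145986306049,422,280))) (.leaf (17482349986765280751871850759772118889005057,252,198))) (.node (.node (.leaf (16579385036240612383617173709506070796697648,97,7)) (.leaf (15708795352711987586223708084536481461313537,549,315))) (.leaf (18082605604195242522223203087265184180346881,364,280)))) (.node (.node (.node (.leaf (17484851319860881871143311688294812059563815,51,2)) (.leaf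 (13950216080464577607044988113329103344508929,491,280))) (.leaf (22224532665281616242921012659706064181141505,339,280))) (.node (.leaf (12862075599376075995808706022790091942635479,222,7)) (.leaf (19627498183860571487576326515937482784120833,389,312))))))) (.node (.node (.node (.node (.node (.node (.leaf (11151662121921144275839049965323791549662519,9,0)) (.leaf (16181118371685306729619268491868534338494465,402,332))) (.leaf (17390328958479929107302884477035795790095443,265,265))) (.node (.node (.leaf (21507671207213579920948178547395112549918044,20,7)) (.leaf (16693062099163368138840429404256490903052289,511,315))) (.leaf (19950075233857352809710202932850728124817409,350,280)))) (.node (.node (.node (.leaf (17482389459904053774842000972936010637461050,12,2)) (.leaf (14390031039842456618120310061158283647918081,444,280))) (.leaf (11151544275146208644716319408824312448155649,260,329))) (.node (.leaf (18279365441574910907995331281851126957217673,132,0)) (.leaf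 (16878175623691589280035709086389493429182465,372,312))))) (.node (.node (.node (.node (.leaf (11151223351996887954721698675525921737801846,25,0)) (.leaf (13066854149624877912002464084652991667249153,418,312))) (.leaf (12453954553541484705787776571002223395897345,255,288))) (.node (.node (.leaf (16580815836607586379563816783045149041334243,83,7)) (.leaf (13019203524568889971009195187395785517965313,538,280))) (.leaf (11364070551708233499602334838132352613359617,362,315)))) (.node (.node (.node (.leaf (17483636553470155823865710086954931345241042,43,2)) (.leaf (12773009149157387656813557822332641726177281,485,315))) (.leaf (18549642610007239012567805158094338883854337,328,280))) (.node (.leaf (21315969678258979127807815077916887081816311,205,7)) (.leaf (11455435824439513926283371342356835211419649,385,315)))))) (.node (.node (.node (.node (.node (.leaf (11151223647561119165446865174358076045148879,15,1)) (.leaf (14798210832518612814104114087265828327137281,410,315)))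 (.leaf (17125629943684959802574996878240733076975617,200,280))) (.node (.node (.leaf (21507127035706556445776596398876275535426172,50,7)) (.leaf (15353710702962554346648586949405051222761473,524,332))) (.leaf (12859961927617389728408943463183803001872385,356,312)))) (.node (.node (.node (.leaf (17482389594919486397762882337777195722866902,27,2)) (.leaf (19721405023443693947383821455371892210802689,474,280))) (.leaf (18952537015518399536237236797603431827120129,327,332))) (.node (.leaf (18255475705475388019554983528204231607076749,137,2)) (.leaf (17662027232525230922611874783411589594750977,378,315))))) (.node (.node (.node (.node (.leaf (11150853986334547033552097473880659451606763,40,0)) (.leaf (14880037648208608005507569495860029872414721,426,280))) (.leaf (11151053736234081633718125706588751826468865,252,249))) (.node (.node (.leaf (16580480361300934805486222488294797014835840,114,7)) (.leaf (16987066064183058971272785065077538637750273,567,280))) (.leaf (11428054270533638271962851975261595960877057,366,280))))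 (.node (.node (.node (.leaf (17482558523992468160877723192229490333853263,59,2)) (.leaf (12555228517404756423125794177886189451747329,497,332))) (.leaf (13611305393778821855736074596393147212767233,347,280))) (.node (.leaf (17482390058186733587485166994024378278461441,246,200)) (.leaf (21267648558575226540240389412826534639575041,394,312)))))))

noncomputable def sel4_011 : Tr (ℕ × ℕ × ℕ) :=
  .node (.node (.node (.node (.node (.node (.node (.leaf (18954068202960563999883857393414895132340544,591,0)) (.leaf (11451182837639993746248958737634885275492353,400,312))) (.leaf (21507442580037448775323871998151712495542997,260,261))) (.node (.node (.leaf (21508006188008824184539901193698347268944683,11,7)) (.leaf (20260412292646460473509806833543813057748993,508,280))) (.leaf (16449250242974737897599004971592696765358081,349,280)))) (.node (.node (.node (.leaf (17483496712032140676935524563973829874204902,8,2)) (.leaf (16856397552208649218374053111513860263649281,440,332)))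 (.leaf (13486241073300444059161587103819507278290945,323,315))) (.node (.leaf (17483708584632729430511971896913045515403265,3,197)) (.leaf (13405764753233864280382582482722961882095617,370,280))))) (.node (.node (.node (.node (.leaf (11150454095048375569944851378597344789043073,22,1)) (.leaf (11912616361029054643934697416244433893990401,416,315))) (.leaf (12451954553923906333114937449871568568438785,249,288))) (.node (.node (.leaf (16580245389139158585191962821556174399213727,74,7)) (.leaf (13574544347383861543381422546724431239061505,535,332))) (.leaf (19540385897928811240929702616434950121988097,360,315)))) (.node (.node (.node (.leaf (17483830385862277863526669994814416283042855,39,2)) (.leaf (15420235905563031769206766417434342017998849,482,280))) (.leaf (20498620500258616356234776650812135812636673,324,280))) (.node (.leaf (21317038637785124410542417191917005524988701,195,7)) (.leaf (15545460276432725338640282014253920395730945,384,312)))))) (.node (.node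 (.node (.node (.node (.leaf (11151856164174886524571642377615321767200170,11,1)) (.leaf (13672546128899880035737868174949468159877121,408,312))) (.leaf (16262777548795878820100967510452826833682433,78,277))) (.node (.node (.leaf (21506925356507073829703836936756495197250010,44,7)) (.leaf (21752210189227854697333241112524684896772097,521,280))) (.leaf (17728711942597466520221293495536145240432641,354,332)))) (.node (.node (.node (.leaf (17483662972525609156385518777694951290275296,23,2)) (.leaf (17700138314700818432711983879293274041622529,466,315))) (.leaf (14324696825393636433135342136531384151318529,323,332))) (.node (.leaf (18278053498632216719009056882375562587603216,136,0)) (.leaf (22176883042987974114614526363884219300585473,376,315))))) (.node (.node (.node (.node (.leaf (11151683301298762904435374749682438246506560,34,1)) (.leaf (13551575287749264244146555028446406774890497,424,280))) (.leaf (13972976451436419319697811803950134601486337,6,309))) (.node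 (.node (.leaf (16580382059484079083473999233600262193529948,108,7)) (.leaf (14304109742062353609046897705058142284423169,555,280))) (.leaf (14117646098676735887177364872402291904225281,365,280)))) (.node (.node (.node (.leaf (17483497078004074759260105636003658414363513,55,2)) (.leaf (16012337774772963653933645826431703712800769,494,315))) (.leaf (14749369136234198252608837542296351498313729,343,280))) (.node (.leaf (17483657584851327083392329255333910407581697,198,200)) (.leaf (19518607826445871179268046641559316956454913,391,332))))))) (.node (.node (.node (.node (.node (.node (.leaf (11153071482249284165060884728465967157437663,13,0)) (.leaf (21844767452873138174274272747030813526204417,404,332))) (.leaf (17485045502340719569552413708138981750150023,2,269))) (.node (.node (.leaf (21508552394587864178011854101124020044548016,28,7)) (.leaf (15310154559996674223325274999653784891695105,514,280))) (.leaf (18065080519511822640595959717111500950740993,352,312))))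 (.node (.node (.node (.leaf (17483713372254671998848752573106546954629132,16,2)) (.leaf (13895770901757227452890848176140020430675969,453,280))) (.leaf (21082534491127447801237319885098965056626689,315,332))) (.node (.leaf (18257126174362659051999762122355311025862047,133,2)) (.leaf (13213855589215165730410853054912841941786625,373,312))))) (.node (.node (.node (.node (.leaf (11152766832675826809207871297127129951147462,27,0)) (.leaf (17935603161842608891128031515569972637081601,420,280))) (.leaf (17392132370341747364651551103767863168839681,283,288))) (.node (.node (.leaf (16580717541537140876005321724844042297755574,91,7)) (.leaf (15658444113175187651931736234702664772886529,543,332))) (.leaf (13089982716731233386288570847026280981864449,363,280)))) (.node (.node (.node (.leaf (17483663392178667403573159788426606807810635,47,2)) (.leaf (17570820464503362858295293936403117114400769,488,315))) (.leaf (15636825549164005765321318518478402993790977,335,280))) (.node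 (.leaf (11466161283034248046634098132983819624517641,215,7)) (.leaf (16829015998302773564053533744418621013106689,387,332)))))) (.node (.node (.node (.node (.node (.leaf (11150584413592420850906379275448633910752414,1,1)) (.leaf (22008102529152400421857698817313374591787009,411,280))) (.leaf (15108643504216723822573215414916995050808336,264,285))) (.node (.node (.leaf (21506925290645867114126723971481332712236115,59,7)) (.leaf (12103333534133750143646432699216801266933761,526,280))) (.leaf (19426209987195576494449458146838573796564993,357,312)))) (.node (.node (.node (.leaf (17484851314761993660189988524281655864607233,31,2)) (.leaf (21522349450505326812312641832928145360035841,476,280))) (.leaf (21037627769461382882360762028984056659582977,316,280))) (.node (.leaf (21028416551788746375377066652522871707927267,139,200)) (.leaf (15903606924830021520676604210704909271572481,380,332))))) (.node (.node (.node (.node (.leaf (11152766580435526211414318659595634408027834,51,1))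 (.leaf (19943439184915402958913787550134861477978113,430,315))) (.leaf (17826712804427908582819751641191806809415681,315,315))) (.node (.node (.leaf (16579314672198896092948137820644860557001744,123,7)) (.leaf (11613159287188175655337416874505145992347649,700,701))) (.leaf (11830948050048471814895698650310135930429441,368,312)))) (.node (.node (.node (.leaf (17483962531328624138731779711898680359519770,63,2)) (.leaf (17505486250054542673310326011776217617801217,501,280))) (.leaf (19420606504772640901790594754618967711555585,280,280))) (.node (.leaf (11152716360531451939497418307813255837229057,200,252)) (.leaf (11683946610458183996487309680050285655891969,396,312)))))))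

noncomputable def sel4_01 : Tr (ℕ × ℕ × ℕ) := .node sel4_010 sel4_011

noncomputable def sel4_0 : Tr (ℕ × ℕ × ℕ) := .node sel4_00 sel4_01

noncomputable def sel4_100 : Tr (ℕ × ℕ × ℕ) :=
  .node (.node (.node (.node (.node (.node (.node (.leaf (11150436964104438789412841366945893804802081,578,0)) (.leaf (19447828551206758381059875863062835575660545,397,315))) (.leaf (18954715775173398340300749066251625524379660,0,6))) (.node (.node (.leaf (17483636471062576415817342146959968521003413,66,2)) (.leaf (14057915449727620677780056444304877873537025,504,332))) (.leaf (13759658414831640282384492074452000822009857,348,332)))) (.node (.node (.node (.leaf (11153056513470761749376571079943394461615930,55,0)) (.leaf (19104823925350452409888794258771613218512897,433,315))) (.leaf (22116992886567100730165978691691540419452929,317,315))) (.node (.node (.leaf (16580899256073054271519225550812179399414122,128,7)) (.leaf (11150542906755122445948983798407850274856961,704,680)))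 (.leaf (16743254207994428730031360632413744500056065,368,280))))) (.node (.node (.node (.node (.leaf (11151987663356871988846768416546603207738631,19,1)) (.leaf (21910101667321958359259240671657713022803969,413,312))) (.leaf (17270015314070182474834374207432702187540481,198,288))) (.node (.node (.leaf (21506268611470466665242370072373557712200952,66,7)) (.leaf (13126902810755163658815467414061680666091521,530,332))) (.leaf (16159340300202366667957612516992901172961281,358,315)))) (.node (.node (.node (.leaf (17483636868951807836181109084973825754988568,34,2)) (.leaf (18866615717738296527163824441503290463625217,479,315))) (.leaf (11863615157272881907388182612623585678729217,319,280))) (.node (.leaf (18256145437826501999140554798961414013661712,143,2)) (.leaf (21794575260965308200154545414563680548298753,381,315)))))) (.node (.node (.node (.node (.node (.leaf (11152199402581633076305575106198130124403558,16,0)) (.leaf (21544127521988266873974297807803778525569025,405,280)))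 (.leaf (21353441625120468568003879891454039983915009,264,272))) (.node (.node (.leaf (21507670901916179774501729131966844733048152,32,7)) (.leaf (12910313167154189662700915313017619690299393,517,315))) (.leaf (11890838289546114582273041441368800728457217,352,280)))) (.node (.node (.node (.leaf (17484741196475860639653426786254085451022701,18,2)) (.leaf (14188583795548491664821196189248797485834241,459,332))) (.leaf (11504436568352898447950893390136889214771201,318,332))) (.node (.leaf (18277568323927413423304346984751995458564102,134,0)) (.leaf (19487291214844876499400013466743523357237249,374,315))))) (.node (.node (.node (.node (.leaf (11151549593376865243878232715611555682607172,29,0)) (.leaf (21032183794510205464753136895415821961011201,422,312))) (.leaf (19295374002795282406486562011884745134178305,257,304))) (.node (.node (.leaf (16580556259368883050729845304029369154393034,96,7)) (.leaf (12511672374438876299802482228134923120680961,546,280))) (.leaf (15130326422633448754444367704119234101518337,364,332))))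 (.node (.node (.node (.leaf (17484851315967629157163645777261575853310957,50,2)) (.leaf (17634804100251998247727015954666374545022977,491,332))) (.leaf (19017871146890450338293408617920451942817793,338,280))) (.node (.leaf (11951502533432476080595610232305750021059087,221,7)) (.leaf (15333123619631271522560142517931809355866113,388,280))))))) (.node (.node (.node (.node (.node (.node (.leaf (11153056884154046826833241820432665976648876,8,0)) (.leaf (11792836967872884304795589554428451483557889,402,315))) (.leaf (12523291528158624443008085405961966914990297,7,7))) (.node (.node (.leaf (21507533948804761339203337560937151822775177,19,7)) (.leaf (21686875974779034512348273187897785400172545,510,280))) (.leaf (18233701608952407541230344123896960189997057,350,332)))) (.node (.node (.node (.leaf (17482428222360390501709612044247703483946596,11,2)) (.leaf (18282701726869465082161281207216461219635201,442,315))) (.leaf (17483636593365660858054845993739816982643500,270,14)))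 (.node (.leaf (21027807709190817774357111006723239308010809,7,200)) (.leaf (19607070608001046838539121328559505767669761,371,280))))) (.node (.node (.node (.node (.leaf (11150854352066025461342653096512153914914325,24,1)) (.leaf (20690529204434526691327512337337568077029377,417,280))) (.leaf (12454234938332988474073008262313495790358529,254,288))) (.node (.node (.leaf (16579636569893592425485627316797192320284485,80,7)) (.leaf (19654720230294688966845607624381350648225793,538,332))) (.leaf (17232069285289365282037618678118532369096705,362,312)))) (.node (.node (.node (.leaf (17485031156053824657765704955329844340139746,42,2)) (.leaf (18304639388900932701802971545053345152507905,484,280))) (.leaf (15092373762090504223779919146587573855461377,327,280))) (.node (.leaf (11467929582617494932920425020744922930275793,203,7)) (.leaf (12267860518250246058561057795471128982986753,385,312)))))) (.node (.node (.node (.node (.node (.leaf (11151549428884992047327494347429610042610332,14,1))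 (.leaf (11950886950676400329086044770777489727299585,409,315))) (.leaf (12206779399288119978684298708447508801028097,198,280))) (.node (.node (.leaf (21507027669408675941696165878126725243150961,49,7)) (.leaf (12446338159990056114817514303508023624081409,524,315))) (.leaf (15632572562364485585286905913756453057863681,355,332)))) (.node (.node (.node (.leaf (17485030834210013534004293931729147663718051,26,2)) (.leaf (21191424848542148109545599759477130884292609,472,280))) (.leaf (13830436687308407267905880251513120934076417,326,332))) (.node (.leaf (21027153644644280289731749275655268476363008,136,200)) (.leaf (12315510140543888186867544091292973863542785,378,312))))) (.node (.node (.node (.node (.leaf (11150415590338939184451989730175123821703264,39,0)) (.leaf (12834090376806687661764113142237591286849537,426,312))) (.leaf (20141836017029524185447466311852018175418369,258,105))) (.node (.node (.leaf (16580480636749953171905470207872524192581385,113,7)) (.leaf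 (18768614396065066249686372554562941218725889,566,332))) (.leaf (15975577188220791556457987518047675415011329,366,332)))) (.node (.node (.node (.leaf (17482428273635206956561120405687901989823123,58,2)) (.leaf (15201264202581973915016995125275619064029185,497,315))) (.leaf (21391521431059158884362671620713095599497217,346,280))) (.node (.leaf (11151544094508742855349687083727678183522305,246,198)) (.leaf (16763681783853953379068565819791721516507137,393,312)))))))

noncomputable def sel4_101 : Tr (ℕ × ℕ × ℕ) :=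
  .node (.node (.node (.node (.node (.node (.node (.leaf (17484388817042162250159409721932091806662951,582,0)) (.leaf (17253847439849074726628070757304044915531777,399,280))) (.leaf (16580899207602230067754866039650527752728577,3,7))) (.node (.node (.leaf (21506673750521381008461328338411298231927328,10,7)) (.leaf (11390101609990693741298403417729935714820097,507,312))) (.leaf (20945071508578445218106512995913289298878465,349,332)))) (.node (.node (.node (.leaf (17484173625454200796869006156261772276819237,0,2)) (.leaf (21304568652599156812767285979861934323802113,437,315))) (.leaf (14945371862657428190492537420486929369014273,321,315))) (.node (.leaf (11151223424973070321767032408198944733003855,40,36)) (.leaf (17193798695642019596886271323585476535787521,370,315))))) (.node (.node (.node (.node (.leaf (11150436490632280846847932212636947176301053,21,1)) (.leaf (20074107696889812711812519503698539852079105,415,280))) (.leaf (12454175407604423746465950046103588535382017,248,288)))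 (.node (.node (.leaf (16581179851302992031339249173264204664750141,73,7)) (.leaf (14413000099477053917355177579436308112089089,535,315))) (.leaf (11477054388450695812893789058581096990515201,360,312)))) (.node (.node (.node (.leaf (17484741448700949429927842116582850012734126,38,2)) (.leaf (14253758502525553674754925855224325595996161,482,332))) (.leaf (17956190162097122332287679842733335123075073,323,280))) (.node (.leaf (16443779869478208145794119377956235194173087,154,198)) (.leaf (15044564632325103920422194592114357588467713,383,332)))))) (.node (.node (.node (.node (.node (.leaf (11151733968579795388840505232576966999884864,10,1)) (.leaf (11342292480225293437940678863256719447826433,407,332))) (.leaf (21081181809614852827969446528407421204722251,276,17))) (.node (.node (.leaf (21506268797049762071765821696733833394409841,43,7)) (.leaf (22095214815084160668504322716815907253919745,520,280))) (.leaf (21354760844506986786887013312329067301707777,354,315))))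 (.node (.node (.node (.leaf (17484173355261119407117474885834411362932061,22,2)) (.leaf (17591407547834645682383738367876358981296129,465,280))) (.leaf (16607140801383265129767017048156349539557377,322,332))) (.node (.leaf (16443625939887148797897842673495904489539117,135,198)) (.leaf (18261083162858283195550863490992199440539649,376,312))))) (.node (.node (.node (.node (.leaf (11152036040946252299583299168772704110014681,34,0)) (.leaf (17641599656665706273574669596033612578299905,424,312))) (.leaf (17484009918539229719429302601399436941739815,270,308))) (.node (.node (.leaf (16578841520784890772906922219425383590528191,103,7)) (.leaf (11173511966389719745183851316685874739027969,554,280))) (.leaf (20793975503821280199099371959281513289228289,365,332)))) (.node (.node (.node (.leaf (17483496951797180139420077258195703917122439,54,2)) (.leaf (18975506075152996835472104315881456291291137,493,280))) (.leaf (11722057692633771506587418775931970102763521,342,280)))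 (.node (.leaf (11950732721290740472734971650763870392201701,227,7)) (.leaf (19398828433289700840128938779743334546022401,391,315))))))) (.node (.node (.node (.node (.node (.node (.leaf (11152766581805771598149607167178753037631624,12,0)) (.leaf (17108036905333674762864098211580600022736897,404,315))) (.leaf (11150415217638118984666845790557745144922176,268,268))) (.node (.node (.leaf (21505899320418486199896284750743678998937888,27,7)) (.leaf (20603416918502766444680888437835035414896641,512,280))) (.leaf (14776432761035672752442458112390195161604097,351,332)))) (.node (.node (.node (.leaf (17484010297252702138779049045187821406519872,15,2)) (.leaf (12930900250485472486789359744490861557194753,451,280))) (.leaf (21772797272559137521421685543997926763667457,312,332))) (.node (.leaf (18278122716647144752835464486597080624351124,133,0)) (.leaf (21288076134434751189277594600204511656026113,372,280))))) (.node (.node (.node (.node (.leaf (11152035583357089473567926694474492365611087,26,1))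 (.leaf (18146589323020647294583720224394427527864321,420,312))) (.leaf (17391615112212888466857029477534602502303745,282,288))) (.node (.node (.leaf (16580703952353035500686026074218092026819584,88,7)) (.leaf (19698435963809096648148953937093867746631681,542,315))) (.leaf (12244731951143890584274951033097839668371457,363,332)))) (.node (.node (.node (.leaf (17482828690911828592967098864651971616401353,46,2)) (.leaf (16921731849734238786287817140450639141150721,486,280))) (.leaf (17613185536240816361116598238442112765927425,334,280))) (.node (.leaf (11950749202468401294543520206709988850910511,213,7)) (.leaf (22262644833296318948636699475889095813636097,387,315)))))) (.node (.node (.node (.node (.node (.leaf (11150454317087303964180729912656578156345276,1,0)) (.leaf (20950515483529622635714138129481523997450241,411,332))) (.leaf (17485045678650302261731244771928458586428281,4,2))) (.node (.node (.leaf (21507992600287684849789470498635374114899456,55,7)) (.leaf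 (11885552736227580144101076846150590230700033,526,315))) (.leaf (20440081842223504197097462367552474349314049,356,280)))) (.node (.node (.node (.leaf (17483713662387550245440905661079810496004666,30,2)) (.leaf (20477001936247434469624358934587874033541121,476,315))) (.leaf (13268300767922515884564992992101924855619585,315,280))) (.node (.leaf (16442982460857813488200532902780903957046106,139,198)) (.leaf (20527194128155264443744086267055007011446785,380,312))))) (.node (.node (.node (.node (.leaf (11151733841724021460716628278688553284142081,50,0)) (.leaf (15549553755760487343623456360324498945220609,429,315))) (.leaf (20139441911338632896797487428325439348678657,315,312))) (.node (.node (.leaf (16579857482004772755577966924768107955074014,120,7)) (.leaf (17483713827851602203526587401944747250062344,270,27))) (.leaf (21930529243181483008296445859035690039255041,367,280)))) (.node (.node (.node (.leaf (17482828526365244291742938876911630712452878,62,2)) (.leaf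 (17340959725780834973274694656806577577664513,500,280))) (.leaf (17086258833850734701202442236704966857203713,280,332))) (.node (.leaf (17482517344158688927525911477764090861977601,198,252)) (.leaf (13317301971678688621111507795722773070880769,395,332)))))))

noncomputable def sel4_10 : Tr (ℕ × ℕ × ℕ) := .node sel4_100 sel4_101

noncomputable def sel4_110 : Tr (ℕ × ℕ × ℕ) :=
  .node (.node (.node (.node (.node (.node (.node (.leaf (17484971147151572103134726821545425451566587,580,0)) (.leaf (14206108880231911546448439559402480715440129,398,332))) (.leaf (18952558159098116285238521648626694209179784,29,6))) (.node (.node (.leaf (17482519961086449269653685430234388128858241,68,2)) (.leaf (13589686829767639969125656880168885433671681,506,332))) (.leaf (11972505514687582215696462487001751506395137,349,312)))) (.node (.node (.node (.leaf (11152877041469168215540856680577687260435190,62,1)) (.leaf (16045164389469131921477368047396524847538177,436,332))) (.leaf (20625194989985706506342544412710668580429825,319,315)))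 (.node (.leaf (18279071668562263215680584339932142747566428,7,0)) (.leaf (14712449042210267980081940975260951814086657,369,315))))) (.node (.node (.node (.node (.leaf (11152997135434567441335473572914560614184443,20,1)) (.leaf (19155175624730040559059759849890117582856193,414,332))) (.leaf (17270692900235771718718545004233229197574145,246,288))) (.node (.node (.leaf (16579838726194512996392677962745877324440803,69,7)) (.leaf (16627727884714547953855461479629591406452737,532,280))) (.leaf (20389730142843916047926496776433969984970753,359,312)))) (.node (.node (.node (.leaf (17484173697945678573592495615508049637696796,36,2)) (.leaf (21413459010013857121075565854240100151468033,480,332))) (.leaf (15990719210761781767323228110207441933705217,321,280))) (.node (.leaf (16443644382348077783026635783253730793043346,150,198)) (.leaf (15005101968686985802082056988433669806891009,382,315)))))) (.node (.node (.node (.node (.node (.leaf (11150415135230498681179743989574651432440301,8,1))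 (.leaf (13355572561326034306262855150255828904189953,406,315))) (.leaf (17483713413725541260420714213694924700307945,6,6))) (.node (.node (.leaf (21508468798907051034442808326000429594060708,38,7)) (.leaf (20820006562103740440795440538879096390688769,518,332))) (.leaf (15865336335182675835525256856171853438263297,353,315)))) (.node (.node (.node (.leaf (17482519688411396530456666903949023774363714,20,2)) (.leaf (20754672347654920255810472614252196894089217,460,315))) (.leaf (15794716650492090595297120440636622824808449,320,332))) (.node (.leaf (21028478801316656641425950700175078277031069,134,200)) (.leaf (14640478778819497944300557667918185670647809,375,312))))) (.node (.node (.node (.node (.leaf (11152199277939065295497557245320983170129930,30,0)) (.leaf (20461859913706444258759118342428107514847233,423,315))) (.leaf (15794717110202332419327546870786530377474049,305,306))) (.node (.node (.leaf (16581263532384839239882497280675231048328628,101,7)) (.leaf (11527405627987495747185760908414913678942209,550,280)))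 (.leaf (19083205361339270523278376542547351439417345,365,312)))) (.node (.node (.node (.leaf (17483636674288185127114309655280168343646815,52,2)) (.leaf (18527705031052540775854910924567334331883521,492,312))) (.leaf (20841625126114922327405858255103358169784321,340,280))) (.node (.leaf (21315629086301357999203623200635712016593486,223,7)) (.leaf (14542317949674509491771867522326465039310849,389,315))))))) (.node (.node (.node (.node (.node (.node (.leaf (11150854416281484978565039245047859054457267,10,0)) (.leaf (14547763010464802104995070376196046923505665,403,312))) (.leaf (20129168757181793385566829697101815607518715,7,266))) (.node (.node (.leaf (21507647156181015212469222166005994211169139,23,7)) (.leaf (11237655192686882692595607697910382936989697,511,332))) (.leaf (20972293555012562697375794104357157162983425,351,312)))) (.node (.node (.node (.leaf (17482828497404498910745058247891257213596612,13,2)) (.leaf (12425751076658773290729069872034781757186049,447,280)))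 (.leaf (17483708095627401593004787653954412965011457,330,247))) (.node (.leaf (18257281933228388159043962591602688322639228,132,2)) (.leaf (11707075177564539470773416442423574970507265,372,315))))) (.node (.node (.node (.node (.leaf (11151688619396882389496809170130314989196579,25,1)) (.leaf (20923293437095505156444857021037656133345281,419,315))) (.leaf (17271836341681691363457550488723763581947905,256,288))) (.node (.node (.leaf (16579738885781233656323057379836566183285621,84,7)) (.leaf (15070436183135805987067024913060569303490561,539,315))) (.leaf (13676639608227642040721042521020046709366785,363,312)))) (.node (.node (.node (.leaf (17482558728713670945863758354422858410624008,44,2)) (.leaf (17275625511332014788289726732179678081064961,485,280))) (.leaf (12206619783129187878559264216914808035876865,332,280))) (.node (.leaf (11952217930093231098694256577808511255879963,207,7)) (.leaf (20814403079680804848136577146659490305679361,386,312)))))) (.node (.node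 (.node (.node (.node (.leaf (11151522387477124493875827075729826328412240,16,1)) (.leaf (13175744507039578220310743959031157494915073,410,332))) (.leaf (17124832921601243719623999079883107841564673,249,280))) (.node (.node (.leaf (21507127353332663721945599093688114471851763,51,7)) (.leaf (17144956999357605035390994778615999706963969,525,332))) (.leaf (13295523900195748559449851820847139905347585,356,315)))) (.node (.node (.node (.leaf (17482828694715807172686556881564264623019912,28,2)) (.leaf (14607811671595087851808073705604735922348033,475,332))) (.leaf (20280999375977743297598251265017054924644353,328,332))) (.node (.leaf (16444132587736324911695268675713019495879604,137,198)) (.leaf (17750490014080406581882949470411778405965825,379,315))))) (.node (.node (.node (.node (.leaf (11151987867743428397747062900647551437501810,42,0)) (.leaf (22137420379349855996274388760203531519008769,428,332))) (.leaf (21435237164573566565666017933425612697903105,313,314)))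 (.node (.node (.leaf (16579385443087492125359616855443402863202336,115,7)) (.leaf (21507534062057530722738560078007950249039360,4,7))) (.leaf (15571491334715185580336350593851503497191425,367,312)))) (.node (.node (.node (.leaf (17483708457776953162469669783957611066425352,60,2)) (.leaf (14727431557279500015895943308769346946342913,498,332))) (.leaf (18614976824456059197552773082721238380453889,280,312))) (.node (.leaf (17484968746534287859772512171307232063913985,5,8)) (.leaf (12881899506572087965121837696710807553843201,394,315)))))))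

noncomputable def sel4_111 : Tr (ℕ × ℕ × ℕ) :=
  .node (.node (.node (.node (.node (.node (.node (.leaf (21506603623233874559022145060548145239176194,883,0)) (.leaf (19589545523317626956911877958405822538063873,400,315))) (.leaf (17484173388662938876381607413478602464085332,259,6))) (.node (.node (.leaf (21507145852926046600435052107193428048536282,14,7)) (.leaf (17977808726108304218898097558957596902170625,509,315))) (.leaf (19567607944362928720198983724878817986093057,350,312)))) (.node (.node (.node (.leaf (17484971147151594481093059003672464116701172,9,2)) (.leaf (11613326925767598756259173264515055042437121,440,280))) (.leaf (15442013977045971830868422392309975183532033,325,315))) (.node (.leaf (16444591005890408341874596606265619373884544,7,198)) (.leaf (22159198450832796057936044735079164684541953,371,312))))) (.node (.node (.node (.node (.leaf (11152877363312978876496185283485508764017160,23,0)) (.leaf (15887114406665615897186912831047486603796481,416,332)))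 (.leaf (17272573883121555918418766603357954929205249,250,288))) (.node (.node (.leaf (16579042363123445980093396349451006175084928,77,7)) (.leaf (11743995271588469743300313009458974654734337,536,332))) (.leaf (16409947086808377954310105626563380370219009,361,312)))) (.node (.node (.node (.leaf (17482411263347419632194939388429242020202026,40,2)) (.leaf (16496899865268380025905491267414541645914113,483,312))) (.leaf (21881528039425310271749931055414841823993857,325,280))) (.node (.leaf (11952835586178130425970964105403659954398842,199,7)) (.leaf (18043302448028882578934303742235867785207809,384,332)))))) (.node (.node (.node (.node (.node (.leaf (11151739047633009587059711642474957224558597,12,1)) (.leaf (18745645336430468950451505036284916754554881,408,280))) (.leaf (21081343962686032387694534771846481310654465,253,278))) (.node (.node (.leaf (21506330801892729674104823919358231312134272,45,7)) (.leaf (20712307275917466752989168312213201242562561,522,280))) (.leaf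 (14520699385663327605161449806102203260215297,355,312)))) (.node (.node (.node (.leaf (17483830389662771560475548140613974543581421,24,2)) (.leaf (20346333590426563482583219189643954421243905,468,280))) (.leaf (15289567476665391399236830568180543024799745,324,332))) (.node (.leaf (18257938766594542885235285522256578631775429,136,2)) (.leaf (19921501605960704722200893316607856926007297,377,312))))) (.node (.node (.node (.node (.leaf (11151683844085730390710840875504255329371431,36,0)) (.leaf (15610794490881545523625249938880819892330497,425,315))) (.leaf (13970803080606844390319613771830895453413377,310,246))) (.node (.node (.leaf (16580717308193573048898530822072872385046196,109,7)) (.leaf (15774129567160807771208676009163380957913089,559,280))) (.leaf (14166805724065551603159540214373164320301057,366,312)))) (.node (.node (.node (.leaf (17483658074016436368541879376728908630589686,56,2)) (.leaf (17913825090359668829466375540694339471548417,494,280))) (.leaf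 (16132276675400892168123991946899057509670913,344,280))) (.node (.leaf (17483517933596327386916060167050021818073089,200,198)) (.leaf (22197310618847498763651731551262196317036545,392,312))))))) (.node (.node (.node (.node (.node (.node (.leaf (11150545410019682884648399981743125571252813,14,0)) (.leaf (19862962947925592563063579033348195462684673,405,312))) (.leaf (17482411320773170387475314700332973430194200,270,21))) (.node (.node (.leaf (21507845290360895036826892763376717787407320,30,7)) (.leaf (21059565348416081119073656262511061211553793,515,315))) (.leaf (15066342703808043982083850566989990754000897,352,315)))) (.node (.node (.node (.leaf (17484851690545464153828300377130983685997745,17,2)) (.leaf (11809329486037289928285280934085874151333889,454,315))) (.leaf (19786739237892514132368789379998791707402241,316,332))) (.node (.leaf (16444520234938168762013388933401130466150083,133,198)) (.leaf (13649417561793524561451761412576178845261825,373,315))))) (.node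 (.node (.node (.node (.leaf (11151739419517941189435232047361517316617709,27,1)) (.leaf (18211923537469467479568688149021327024463873,421,315))) (.leaf (12465124490555957085309097581475999760310273,284,288))) (.node (.node (.leaf (16580480683211388200444969650257900509008002,94,7)) (.leaf (12665309862971113969007285595666746578051073,543,280))) (.leaf (21326187216610338699377703696086196102897665,364,312)))) (.node (.node (.node (.leaf (17483830814464861434876089590140212540366971,48,2)) (.leaf (12228557362083886115272158450441812587847681,489,332))) (.leaf (14275696081480251911467820088751330147966977,336,280))) (.node (.leaf (11952841391490536821565617519918520758494779,219,7)) (.leaf (19507718790704401148437218654121500373688321,388,312)))))) (.node (.node (.node (.node (.node (.leaf (11152199245084096801932016669058861214212340,18,1)) (.leaf (15952448621114436082171880755674386100396033,412,312))) (.leaf (18257222287706097847667203821386306950460078,267,123)))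 (.node (.node (.leaf (21506130673871641166570619650596404577566754,63,7)) (.leaf (18996093075407510276631752643044818777284609,527,315))) (.leaf (18469166373017428616717596641307672868560897,357,315)))) (.node (.node (.node (.leaf (17482519684518143812873835366401242277355523,32,2)) (.leaf (16154054746883832229785647921774690675204097,477,315))) (.leaf (19676498301777629028507263599256983813758977,317,280))) (.node (.leaf (18279953435171084520889941586295398667039854,141,0)) (.leaf (12081555462650810081984776724341168101400577,380,280))))) (.node (.node (.node (.node (.leaf (11150437033419248960343392226852670183374865,53,0)) (.leaf (13235633660698105792072509029788475107319809,432,332))) (.leaf (18680311121981648765466537111658017257955329,316,312))) (.node (.node (.leaf (16579739126515209068206614758700697655035886,124,7)) (.leaf (13551575747459506068176981458596314327556097,702,306))) (.leaf (19883390523785117212100784220726172479135745,368,315)))) (.node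 (.node (.node (.leaf (17485045558164399175205771353002488231347920,64,2)) (.leaf (19209620343594602498334906045794512820772865,502,280))) (.leaf (14983483404675803915471639272209408027795457,348,312))) (.node (.leaf (11152196586054498170748810515147535092416513,249,252)) (.leaf (11260624252321479991830475216188407401160705,396,280)))))))

noncomputable def sel4_11 : Tr (ℕ × ℕ × ℕ) := .node sel4_110 sel4_111

noncomputable def sel4_1 : Tr (ℕ × ℕ × ℕ) := .node sel4_10 sel4_11

noncomputable def sel4_ : Tr (ℕ × ℕ × ℕ) := .node sel4_0 sel4_1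

noncomputable def orb4 : Orb := ⟨trio4_, roots4, sel4_, 706, 8, [(1,[706,0,8,9,10,11,12,13,14,15,16,17,1,18,19,20,21,22,23,24,25,26,27,28,29,30,31,32,33,34,35,36,37,38,39,40,41,42,43,44,45,46,47,48,49,50,51,52,53,54,55,56,57,58,59,60,61,62,63,64,65,66,67,68,2,69,70,71,72,73,74,75,76,77,78,79,80,81,82,83,84,85,86,87,88,89,90,91,92,93,94,95,96,97,98,99,100,101,102,103,104,105,106,107,108,109,110,111,112,113,114,115,116,117,118,119,120,121,122,123,124,125,126,127,128,129,130,131,7,132,133,134,135,136,137,138,139,140,141,142,143,144,145,146,147,148,149,150,151,152,153,154,155,156,157,158,159,160,161,162,163,164,165,166,167,168,169,170,171,172,173,174,175,176,177,178,179,180,181,182,183,184,185,186,187,188,189,190,191,192,193,194,195,196,199,201,202,203,204,205,206,207,208,209,210,211,212,213,214,215,216,217,218,219,220,221,222,223,224,225,226,227,228,229,230,231,232,233,234,235,236,237,238,239,240,241,242,243,244,245]),(2,[706,198,200,246,247,248,249,250,253,25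4,255,256,281,282,283,284,288,289,290,291,292,293,294,295,296,297,298,299,300,301,302,303]),(4,[706,252,307]),(2048,[706,312,315,316,317,318,319,320,321,322,323,324,325,326,327,328,332,333,334,335,336,337,338,339,340,341,342,343,344,345,346,347,280,348,349,350,351,352,353,354,355,356,357,358,359,360,361,362,363,364,365,366,367,368,369,370,371,372,373,374,375,376,377,378,379,380,381,382,383,384,385,386,387,388,389,390,391,392,393,394,395,396,397,398,399,400,401,402,403,404,405,406,407,408,409,410,411,412,413,414,415,416,417,418,419,420,421,422,423,424,425,426,427,428,429,430,431,432,433,434,435,436,437,438,439,440,441,442,443,444,445,446,447,448,449,450,451,452,453,454,455,456,457,458,459,460,461,462,463,464,465,466,467,468,469,470,471,472,473,474,475,476,477,478,479,480,481,482,483,484,485,486,487,488,489,490,491,492,493,494,495,496,497,498,499,500,501,502,503,504,505,506,507,508,509,510,511,512,513,514,515,516,517,518,519,520,521,522,523,524,525,526,527,528,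529,530,531,532,533,534,535,536,537,538,539,540,541,542,543,544,545,546,547,548,549,550,551,552,553,554,555,556,557,558,559,560,561,562,563,564,565,566,567,568,569,570,571,572,573,574,575,576,577,578,579,580,581,582,583,584,585,586,587,588,589,590,591,592,593,594,595,596,597,598,599,600,601,602,603,604,605,606,607,608,609,610,611,612,613,614,615,616,617,618,619,620,621,622,623,624,625,626,627,628,629,630,631,632,633,634,635,636,637,638,639,640,641,642,643,644,645,646,647,648,649,650,651,652,653,654,655,656,657,658,659,660,661,662,663,664,665,666,667,668,669,670,671,672,673,674,675,676,677,678,679,680,681,682,683,684,685,686,687,688,689,690,691,692,693,694,695,696,697,698]),(16,[706,705])], 28336⟩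

end Cfsg.Agent.Lib.J4Dce59.Data
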