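import Cfsg.Agent.Lib.J4Dce59.CoverRules

/-! # Generated data for the double coset enumeration (Orb5) -/

set_option autoImplicit false
set_option maxRecDepth 100000
set_option maxHeartbeats 0

namespace Cfsg.Agent.Lib.J4Dce59.Data

noncomputable def trio5_00000 : Tr TStep :=
  .node (.node (.node (.node (.node (.node (.node (.leaf (.root 0)) (.leaf (.up 4 1158 [631] 1193 [88,110,104,12]))) (.node (.leaf (.up 7 79 [670] 55 [55,116,75])) (.leaf (.up 5 2563 [670] 55 [110,43,202])))) (.node (.node (.leaf (.up 6 3524 [623] 0 [87,56,42,114])) (.leaf (.up 6 2942 [623] 0 [88,42,129]))) (.node (.leaf (.up 7 1502 [623] 0 [88,110,91,5])) (.leaf (.up 3 806 [670] 55 [56,91,75]))))) (.node (.node (.node (.leaf (.up 7 478 [645] 1169 [88,94,91,122])) (.leaf (.up 5 2212 [631] 1193 [88,93,176,105]))) (.node (.leaf (.up 4 766 [670] 55 [57,94,42,142])) (.leaf (.up 5 3439 [645] 1169 [57,56,44,184])))) (.node (.node (.leaf (.up 7 330 [670] 55 [88,93,103,6]))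 (.leaf (.up 5 874 [610] 0 [88,94,43,160]))) (.leaf (.up 4 2245 [631] 1193 [57,93]))))) (.node (.node (.node (.node (.leaf (.up 4 2879 [670] 55 [87,94,145])) (.leaf (.up 5 642 [631] 1193 [110,155,96]))) (.node (.leaf (.up 5 2910 [670] 55 [87,110,42,234])) (.leaf (.up 5 2202 [670] 55 [88,93,116,142])))) (.node (.node (.leaf (.up 6 1903 [645] 1169 [57,176,34])) (.leaf (.up 5 3018 [670] 55 [55,104,170]))) (.node (.leaf (.up 1 168 [623] 0 [57,123,118])) (.leaf (.up 5 2996 [670] 55 [88,43,129]))))) (.node (.node (.node (.leaf (.up 5 694 [631] 1193 [87,94,42,23])) (.leaf (.up 6 2318 [623] 0 [88,55,176,37]))) (.node (.leaf (.up 4 1947 [623] 0 [88,93,89,192])) (.leaf (.up 5 3563 [645] 1169 [57,110,42,31])))) (.node (.node (.leaf (.up 7 838 [623] 0 [57,110,176,224])) (.leaf (.up 6 1772 [645] 1169 [55,103,153]))) (.leaf (.up 5 2743 [631] 1193 [87,55,241])))))) (.node (.node (.node (.node (.node (.leaf (.up 6 143 [670] 55 [56,44,137])) (.leaf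 (.up 4 1542 [670] 55 [87,90,65]))) (.node (.leaf (.up 6 2133 [670] 55 [87,56,89,98])) (.leaf (.up 6 3362 [645] 1169 [57,110,104,241])))) (.node (.node (.leaf (.up 4 1454 [631] 1193 [88,91,221])) (.leaf (.up 5 3191 [610] 0 [88,110,123,106]))) (.node (.leaf (.up 6 2366 [670] 55 [43,145])) (.leaf (.up 5 3726 [670] 55 [88,93,104,139]))))) (.node (.node (.node (.leaf (.up 3 2243 [631] 1193 [57,110,91,117])) (.leaf (.up 5 50 [631] 1193 [87,93,42,8]))) (.node (.leaf (.up 6 3528 [631] 1193 [57,55,42,20])) (.leaf (.up 4 2638 [610] 0 [88,94,91,190])))) (.node (.node (.leaf (.up 5 1752 [645] 1169 [87,94,91,156])) (.leaf (.up 5 692 [645] 1169 [88,44,126]))) (.leaf (.up 3 3450 [645] 1169 [57,93,104,10]))))) (.node (.node (.node (.node (.leaf (.up 6 1495 [645] 1169 [110,176,34])) (.leaf (.up 6 950 [631] 1193 [57,94,116,238]))) (.node (.leaf (.up 6 2303 [645] 1169 [57,110,89,5])) (.leaf (.up 4 1987 [670] 55 [88,94,123,72])))) (.node (.node (.leaf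 (.up 4 381 [631] 1193 [87,110,116,6])) (.leaf (.up 6 3072 [623] 0 [88,116,1]))) (.node (.leaf (.up 6 2318 [670] 55 [88,93,44,212])) (.leaf (.up 5 1742 [645] 1169 [57,44,3]))))) (.node (.node (.node (.leaf (.up 5 1342 [631] 1193 [87,42,219])) (.leaf (.up 5 264 [645] 1169 [57,55,140,77]))) (.node (.leaf (.up 6 3582 [645] 1169 [88,55,43,231])) (.leaf (.up 4 3430 [670] 55 [88,110,116,27])))) (.node (.node (.leaf (.up 4 2550 [631] 1193 [88,110,91,139])) (.leaf (.up 6 2754 [623] 0 [55,155,1]))) (.leaf (.up 5 3111 [670] 55 [57,56,89,153]))))))) (.node (.node (.node (.node (.node (.node (.leaf (.up 6 1192 [610] 0 [88,56,42,159])) (.leaf (.up 6 3254 [631] 1193 [57,55,104,151]))) (.node (.leaf (.up 6 3072 [631] 1193 [88,56,91,144])) (.leaf (.up 5 2918 [645] 1169 [87,110,104,191])))) (.node (.node (.leaf (.up 6 94 [645] 1169 [57,110,123,223])) (.leaf (.up 4 3289 [670] 55 [57,55,123,193]))) (.node (.leaf (.up 5 2011 [610] 0 [57,93,104,181]))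 (.leaf (.up 6 3692 [610] 0 [57,93,104]))))) (.node (.node (.node (.leaf (.up 4 2511 [610] 0 [57,94,44,222])) (.leaf (.up 5 586 [623] 0 [94,91,20]))) (.node (.leaf (.up 1 10 [645] 1169 [56,123,124])) (.leaf (.up 5 3781 [623] 0 [88,155,105])))) (.node (.node (.leaf (.up 4 2338 [623] 0 [110,42,96])) (.leaf (.up 5 3163 [623] 0 [89,191]))) (.leaf (.up 5 948 [645] 1169 [57,90,139]))))) (.node (.node (.node (.node (.leaf (.up 4 2599 [623] 0 [87,110,140,75])) (.leaf (.up 6 696 [610] 0 [57,110,103,246]))) (.node (.leaf (.up 3 1669 [631] 1193 [88,43,101])) (.leaf (.up 6 2498 [623] 0 [88,123,221])))) (.node (.node (.leaf (.up 5 403 [645] 1169 [87,93,155,15])) (.leaf (.up 3 825 [631] 1193 [110,140,151]))) (.node (.leaf (.up 4 3364 [623] 0 [88,55,89,144])) (.leaf (.up 6 3272 [631] 1193 [87,93,104,142]))))) (.node (.node (.node (.leaf (.up 6 2273 [631] 1193 [57,104])) (.leaf (.up 6 1993 [610] 0 [87,110,43,131]))) (.node (.leaf (.up 6 3633 [670]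 55 [87,43,96])) (.leaf (.up 6 1520 [610] 0 [87,93,116,168])))) (.node (.node (.leaf (.up 6 2457 [631] 1193 [57,94,43,137])) (.leaf (.up 4 2567 [645] 1169 [87,55,90,156]))) (.leaf (.up 6 3262 [645] 1169 [57,44,142])))))) (.node (.node (.node (.node (.node (.leaf (.up 4 1012 [631] 1193 [87,93,91,246])) (.leaf (.up 4 1482 [645] 1169 [88,55,91,191]))) (.node (.leaf (.up 6 1181 [631] 1193 [87,94,103,223])) (.leaf (.up 5 2745 [631] 1193 [88,94,90,61])))) (.node (.node (.leaf (.up 6 1192 [623] 0 [55,116,233])) (.leaf (.up 4 1667 [623] 0 [57,93,104,27]))) (.node (.leaf (.up 3 3275 [645] 1169 [110,140,112])) (.leaf (.up 3 165 [623] 0 [57,56,89,6]))))) (.node (.node (.node (.leaf (.up 4 2456 [623] 0 [57,93,90,248])) (.leaf (.up 5 170 [631] 1193 [88,94,176,204]))) (.node (.leaf (.up 7 2031 [645] 1169 [93,89,153])) (.leaf (.up 4 878 [631] 1193 [57,90,22])))) (.node (.node (.leaf (.up 6 104 [670] 55 [93,176,163])) (.leaf (.up 5 1631 [610] 0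 [56,90,22]))) (.leaf (.up 6 3305 [645] 1169 [57,110,123,12]))))) (.node (.node (.node (.node (.leaf (.up 6 3038 [645] 1169 [57,94,91,159])) (.leaf (.up 4 385 [670] 55 [91,117]))) (.node (.leaf (.up 2 1312 [623] 0 [57,55,103,37])) (.leaf (.up 5 3195 [645] 1169 [87,94,91,22])))) (.node (.node (.leaf (.up 5 513 [645] 1169 [87,55,210])) (.leaf (.up 4 1224 [670] 55 [110,104,124]))) (.leaf (.up 4 3663 [645] 1169 [110,43,227])))) (.node (.node (.node (.leaf (.up 7 1553 [623] 0 [87,55,42,211])) (.leaf (.up 5 408 [631] 1193 [104,135]))) (.node (.leaf (.up 6 863 [670] 55 [94,103,166])) (.leaf (.up 4 3387 [645] 1169 [88,55,42,99])))) (.node (.node (.leaf (.up 4 3675 [670] 55 [88,93,103,170])) (.leaf (.up 3 1453 [631] 1193 [88,110,89,22]))) (.leaf (.up 5 2132 [670] 55 [87,116,154])))))))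

noncomputable def trio5_00001 : Tr TStep :=
  .node (.node (.node (.node (.node (.node (.node (.leaf (.up 4 523 [610] 0 [88,93,103,207])) (.leaf (.up 4 2245 [670] 55 [87,93,155,76]))) (.node (.leaf (.up 5 1544 [623] 0 [57,93,134])) (.leaf (.up 6 3511 [623] 0 [93,91,73])))) (.node (.node (.leaf (.up 4 23 [670] 55 [110,116,164])) (.leaf (.up 5 2314 [610] 0 [88,93,116,207]))) (.node (.leaf (.up 6 1149 [645] 1169 [88,110,119])) (.leaf (.up 6 217 [645] 1169 [57,93,104,129]))))) (.node (.node (.node (.leaf (.up 5 50 [645] 1169 [93,176,187])) (.leaf (.up 4 2623 [631] 1193 [87,103,65]))) (.node (.leaf (.up 6 2280 [631] 1193 [87,110,123,196])) (.leaf (.up 6 1192 [645] 1169 [93,44,127])))) (.node (.node (.leaf (.up 7 2409 [610] 0 [55,44,153])) (.leaf (.up 4 2092 [623] 0 [87,55,42,156]))) (.leaf (.up 7 29 [631] 1193 [94,44,153]))))) (.node (.node (.node (.node (.leaf (.up 6 319 [623] 0 [88,93,140,75])) (.leaf (.up 4 2005 [631] 1193 [56,90,95])))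 (.node (.leaf (.up 4 732 [631] 1193 [88,56,103,36])) (.leaf (.up 6 1277 [623] 0 [57,93,104,138])))) (.node (.node (.leaf (.up 5 3781 [645] 1169 [88,93,44,76])) (.leaf (.up 6 510 [631] 1193 [57,91,23]))) (.node (.leaf (.up 4 1894 [631] 1193 [87,55,140,126])) (.leaf (.up 5 1533 [623] 0 [110,140,190]))))) (.node (.node (.node (.leaf (.up 5 3499 [623] 0 [87,56,44,22])) (.leaf (.up 6 549 [631] 1193 [110,176,212]))) (.node (.leaf (.up 5 1420 [623] 0 [87,93,123,229])) (.leaf (.up 3 1423 [670] 55 [87,93,104,122])))) (.node (.node (.leaf (.up 5 759 [670] 55 [91,165])) (.leaf (.up 3 1789 [645] 1169 [88,94,140,152]))) (.leaf (.up 5 516 [631] 1193 [87,94,176,148])))))) (.node (.node (.node (.node (.node (.leaf (.up 4 2623 [623] 0 [87,94,123,76])) (.leaf (.up 5 573 [670] 55 [88,116,11]))) (.node (.leaf (.up 7 2020 [631] 1193 [87,93,42,174])) (.leaf (.up 5 2296 [631] 1193 [88,55,91,178])))) (.node (.node (.leaf (.up 5 170 [645] 1169 [87,56,44,11]))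 (.leaf (.up 1 424 [645] 1169 [94,89,74]))) (.node (.leaf (.up 6 1993 [631] 1193 [57,110,130])) (.leaf (.up 4 3221 [623] 0 [88,55,140,175]))))) (.node (.node (.node (.leaf (.up 5 3140 [631] 1193 [87,110,90,227])) (.leaf (.up 5 3097 [645] 1169 [57,55,140,143]))) (.node (.leaf (.up 4 3550 [610] 0 [88,56,42,160])) (.leaf (.up 4 3430 [623] 0 [110,90,195])))) (.node (.node (.leaf (.up 2 1811 [670] 55 [56,103,127])) (.leaf (.up 3 2571 [645] 1169 [87,56,44,224]))) (.leaf (.up 5 3299 [670] 55 [87,55,176,198]))))) (.node (.node (.node (.node (.leaf (.up 6 3082 [645] 1169 [87,94,42,191])) (.leaf (.up 4 2354 [645] 1169 [88,55,123,0]))) (.node (.leaf (.up 5 833 [610] 0 [110,90,210])) (.leaf (.up 4 1628 [631] 1193 [57,55,89,234])))) (.node (.node (.leaf (.up 5 3336 [631] 1193 [88,110,44,244])) (.leaf (.up 5 2030 [631] 1193 [87,55,140,132]))) (.node (.leaf (.up 5 1956 [623] 0 [87,93,155,145])) (.leaf (.up 3 2455 [670] 55 [87,94,140,102]))))) (.node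 (.node (.node (.leaf (.up 5 1551 [670] 55 [94,90,120])) (.leaf (.up 6 2317 [670] 55 [87,93,126]))) (.node (.leaf (.up 4 2385 [670] 55 [87,110,103,198])) (.leaf (.up 4 3040 [645] 1169 [57,104,132])))) (.node (.node (.leaf (.up 6 656 [645] 1169 [88,94,155,120])) (.leaf (.up 6 1277 [631] 1193 [55,90,164]))) (.leaf (.up 6 632 [670] 55 [57,55,116,92]))))))) (.node (.node (.node (.node (.node (.node (.leaf (.up 3 3007 [645] 1169 [87,110,104,211])) (.leaf (.up 4 822 [645] 1169 [55,103,117]))) (.node (.leaf (.up 5 3019 [670] 55 [55,176,126])) (.leaf (.up 6 337 [670] 55 [57,110,44,149])))) (.node (.node (.leaf (.up 4 385 [645] 1169 [57,110,140,111])) (.leaf (.up 5 24 [623] 0 [140,185]))) (.node (.leaf (.up 4 1856 [623] 0 [88,93,44,247])) (.leaf (.up 4 1266 [645] 1169 [57,110,46]))))) (.node (.node (.node (.leaf (.up 5 2733 [670] 55 [88,55,44,37])) (.leaf (.up 6 1160 [645] 1169 [56,104,170]))) (.node (.leaf (.up 6 3585 [631] 1193 [57,93,43,230]))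 (.leaf (.up 6 1981 [670] 55 [57,56,91,186])))) (.node (.node (.leaf (.up 6 2281 [623] 0 [56,103,125])) (.leaf (.up 4 2684 [670] 55 [88,94,9]))) (.leaf (.up 4 1856 [670] 55 [57,94,91,240]))))) (.node (.node (.node (.node (.leaf (.up 6 3081 [631] 1193 [88,116,108])) (.leaf (.up 5 1864 [670] 55 [56,42,230]))) (.node (.leaf (.up 3 711 [610] 0 [88,110,42,230])) (.leaf (.up 5 3151 [670] 55 [87,94,42,169])))) (.node (.node (.leaf (.up 4 1934 [645] 1169 [87,110,91,132])) (.leaf (.up 5 80 [670] 55 [94,103,36]))) (.node (.leaf (.up 3 75 [631] 1193 [88,94,176,73])) (.leaf (.up 5 16 [631] 1193 [57,55,123,21]))))) (.node (.node (.node (.leaf (.up 2 3028 [631] 1193 [57,93,89,236])) (.leaf (.up 4 2985 [645] 1169 [88,55,91,130]))) (.node (.leaf (.up 5 2011 [623] 0 [87,90,177])) (.leaf (.up 5 348 [631] 1193 [42,72])))) (.node (.node (.leaf (.up 5 128 [610] 0 [88,91,241])) (.leaf (.up 6 2085 [610] 0 [90,159]))) (.leaf (.up 5 1696 [670] 55 [57,110,89,98]))))))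 (.node (.node (.node (.node (.node (.leaf (.up 6 722 [670] 55 [87,93,161])) (.leaf (.up 3 114 [631] 1193 [57,56,176,146]))) (.node (.leaf (.up 5 2423 [631] 1193 [56,140,111])) (.leaf (.up 7 3271 [670] 55 [88,55,239])))) (.node (.node (.leaf (.up 4 219 [631] 1193 [57,56,43,156])) (.leaf (.up 6 1181 [645] 1169 [88,93,90,2]))) (.node (.leaf (.up 4 3673 [631] 1193 [110,43,141])) (.leaf (.up 3 2243 [623] 0 [87,93,103,143]))))) (.node (.node (.node (.leaf (.up 3 2578 [670] 55 [56,43,181])) (.leaf (.up 6 1772 [631] 1193 [88,94,104,111]))) (.node (.leaf (.up 4 3739 [623] 0 [94,140,6])) (.leaf (.up 4 1996 [623] 0 [88,176,171])))) (.node (.node (.leaf (.up 3 1871 [670] 55 [155,95])) (.leaf (.up 3 2759 [631] 1193 [87,56,104,122]))) (.leaf (.up 2 2522 [631] 1193 [87,94,123,152]))))) (.node (.node (.node (.node (.leaf (.up 5 156 [610] 0 [55,43,221])) (.leaf (.up 6 2849 [631] 1193 [110,155,202]))) (.node (.leaf (.up 4 3741 [610] 0 [56,75])) (.leaf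 (.up 5 2649 [631] 1193 [43,240])))) (.node (.node (.leaf (.up 3 1706 [610] 0 [123,164])) (.leaf (.up 5 3738 [670] 55 [87,56,91,216]))) (.leaf (.up 5 1668 [645] 1169 [57,56,116,107])))) (.node (.node (.node (.leaf (.up 6 541 [670] 55 [88,56,123,229])) (.leaf (.up 6 2229 [623] 0 [87,89,98]))) (.node (.leaf (.up 5 972 [670] 55 [94,238])) (.leaf (.up 4 1158 [645] 1169 [88,140,243])))) (.node (.node (.leaf (.up 5 2987 [631] 1193 [87,94,91,230])) (.leaf (.up 6 198 [623] 0 [88,55,116,132]))) (.leaf (.up 5 2839 [670] 55 [57,140,61])))))))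

noncomputable def trio5_0000 : Tr TStep := .node trio5_00000 trio5_00001

noncomputable def trio5_00010 : Tr TStep :=
  .node (.node (.node (.node (.node (.node (.node (.leaf (.root 4)) (.leaf (.up 5 2558 [670] 55 [57,42,170]))) (.node (.leaf (.up 5 128 [631] 1193 [87,56,44,137])) (.leaf (.up 5 1455 [631] 1193 [88,93,90,7])))) (.node (.node (.leaf (.up 6 3203 [631] 1193 [87,104,115])) (.leaf (.up 4 3765 [623] 0 [88,55,155,177]))) (.node (.leaf (.up 4 1240 [631] 1193 [56,103,211])) (.leaf (.up 5 591 [645] 1169 [93,89,1]))))) (.node (.node (.node (.leaf (.up 4 2346 [610] 0 [57,93,91,227])) (.leaf (.up 5 981 [631] 1193 [57,94,104,217]))) (.node (.leaf (.up 5 3062 [631] 1193 [57,55,91,245])) (.leaf (.up 4 1730 [670] 55 [87,110,89,202])))) (.node (.node (.leaf (.up 6 3268 [610] 0 [57,55,140,147])) (.leaf (.up 5 1840 [610] 0 [88,110,44,193]))) (.leaf (.up 4 3742 [623] 0 [110,176,113]))))) (.node (.node (.node (.node (.leaf (.up 4 2914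 [610] 0 [57,56,140,178])) (.leaf (.up 4 1451 [670] 55 [57,93,123,117]))) (.node (.leaf (.up 5 3632 [610] 0 [87,93,155,33])) (.leaf (.up 5 1837 [645] 1169 [88,93,116,138])))) (.node (.node (.leaf (.up 3 1627 [610] 0 [56,91,229])) (.leaf (.up 1 168 [610] 0 [57,55,91,238]))) (.node (.leaf (.up 6 34 [623] 0 [56,90,125])) (.leaf (.up 4 3771 [645] 1169 [88,93,43,46]))))) (.node (.node (.node (.leaf (.up 5 3743 [670] 55 [56,43,130])) (.leaf (.up 4 756 [645] 1169 [87,56,116,223]))) (.node (.leaf (.up 6 3092 [610] 0 [87,110,176,122])) (.leaf (.up 5 528 [610] 0 [88,110,123,199])))) (.node (.node (.leaf (.up 6 606 [645] 1169 [57,155,127])) (.leaf (.up 6 3098 [631] 1193 [87,56,89,132]))) (.leaf (.up 6 3716 [670] 55 [88,94,44,16])))))) (.node (.node (.node (.node (.node (.leaf (.up 3 2571 [670] 55 [57,110,123,7])) (.leaf (.up 4 1009 [670] 55 [87,55,44]))) (.node (.leaf (.up 4 577 [670] 55 [57,93,91,128])) (.leaf (.up 4 3534 [645] 1169 [87,104,59]))))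 (.node (.node (.leaf (.up 4 3765 [631] 1193 [88,94,43,96])) (.leaf (.up 4 1086 [645] 1169 [87,11]))) (.node (.leaf (.up 5 429 [670] 55 [57,55,123,149])) (.leaf (.up 5 1840 [623] 0 [110,91,212]))))) (.node (.node (.node (.leaf (.up 6 1962 [645] 1169 [87,94,90,244])) (.leaf (.up 4 3160 [670] 55 [57,94,103,18]))) (.node (.leaf (.up 5 590 [623] 0 [87,110,104,12])) (.leaf (.up 3 2491 [623] 0 [88,94,42,133])))) (.node (.node (.leaf (.up 5 3233 [631] 1193 [88,55,44,229])) (.leaf (.up 2 2269 [623] 0 [57,56,42,0]))) (.leaf (.up 4 3765 [610] 0 [57,55,140,136]))))) (.node (.node (.node (.node (.leaf (.up 4 146 [610] 0 [87,110,90,212])) (.leaf (.up 4 3721 [670] 55 [87,94,43,157]))) (.node (.leaf (.up 3 1274 [670] 55 [57,94,42,225])) (.leaf (.up 5 558 [623] 0 [87,43,107])))) (.node (.node (.leaf (.up 5 3274 [631] 1193 [56,155,156])) (.leaf (.up 3 1453 [623] 0 [87,93,104,164]))) (.node (.leaf (.up 5 1268 [631] 1193 [87,94,90,125])) (.leaf (.up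 4 71 [631] 1193 [88,43,240]))))) (.node (.node (.node (.leaf (.up 5 972 [623] 0 [88,94,104,77])) (.leaf (.up 7 3232 [670] 55 [93,43,118]))) (.node (.leaf (.up 5 2402 [610] 0 [87,55,44,135])) (.leaf (.up 5 3614 [645] 1169 [87,176,96])))) (.node (.node (.leaf (.up 6 3159 [631] 1193 [87,56,42,240])) (.leaf (.up 5 2654 [631] 1193 [110,90,173]))) (.leaf (.up 2 2013 [670] 55 [56,43,10]))))))) (.node (.node (.node (.node (.node (.node (.leaf (.up 6 1051 [610] 0 [103,139])) (.leaf (.up 5 2980 [623] 0 [57,110,116,130]))) (.node (.leaf (.up 6 3778 [623] 0 [88,55,44,154])) (.leaf (.up 5 1551 [623] 0 [87,56,89,127])))) (.node (.node (.leaf (.up 5 1715 [623] 0 [110,140,92])) (.leaf (.up 4 614 [645] 1169 [88,110,176,178]))) (.node (.leaf (.up 5 2277 [645] 1169 [55,44,189])) (.leaf (.up 4 1393 [670] 55 [87,56,104,189]))))) (.node (.node (.node (.leaf (.up 4 23 [645] 1169 [87,44,112])) (.leaf (.up 4 2354 [670] 55 [42,230]))) (.node (.leaf (.up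 5 2729 [623] 0 [88,94,176,182])) (.leaf (.up 6 1242 [610] 0 [42,238])))) (.node (.node (.leaf (.up 4 1208 [645] 1169 [87,110,43,13])) (.leaf (.up 5 808 [631] 1193 [93,180]))) (.leaf (.up 6 849 [631] 1193 [88,55,91,133]))))) (.node (.node (.node (.node (.leaf (.root 6)) (.leaf (.up 4 3774 [670] 55 [55,90,194]))) (.node (.leaf (.up 5 2631 [670] 55 [88,94,123,201])) (.leaf (.up 5 1742 [623] 0 [56,140,150])))) (.node (.node (.leaf (.up 4 275 [631] 1193 [88,94,104,234])) (.leaf (.up 6 242 [631] 1193 [57,91,108]))) (.node (.leaf (.up 5 2113 [645] 1169 [87,110,176,124])) (.leaf (.up 6 1695 [670] 55 [57,93,44,111]))))) (.node (.node (.node (.leaf (.root 7)) (.leaf (.up 6 1129 [610] 0 [57,94,90,77]))) (.node (.leaf (.up 5 68 [670] 55 [91,135])) (.leaf (.up 3 1684 [670] 55 [87,110,89,227])))) (.node (.node (.leaf (.up 5 1648 [631] 1193 [57,110,176,0])) (.leaf (.up 7 2583 [631] 1193 [88,110,155,96]))) (.leaf (.up 5 1935 [623] 0 [87,110,104,212]))))))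 (.node (.node (.node (.node (.node (.leaf (.up 5 415 [623] 0 [88,93,176,206])) (.leaf (.up 4 2349 [631] 1193 [88,93,44,160]))) (.node (.leaf (.up 5 504 [631] 1193 [57,176,60])) (.leaf (.up 4 1109 [623] 0 [88,110,155,206])))) (.node (.node (.leaf (.up 6 716 [631] 1193 [57,94,177])) (.leaf (.up 3 724 [631] 1193 [87,56,176,171]))) (.node (.leaf (.up 5 1031 [610] 0 [87,56,103,132])) (.leaf (.up 5 3468 [623] 0 [87,116,71]))))) (.node (.node (.node (.leaf (.up 4 135 [645] 1169 [57,140,72])) (.leaf (.up 6 2516 [645] 1169 [57,55,176,201]))) (.node (.leaf (.up 5 3411 [623] 0 [87,56,123,132])) (.leaf (.up 5 2806 [645] 1169 [44,236])))) (.node (.node (.leaf (.up 5 156 [631] 1193 [88,116,112])) (.leaf (.up 4 1198 [610] 0 [87,93,116,226]))) (.leaf (.up 6 3393 [610] 0 [87,110,176,161]))))) (.node (.node (.node (.node (.leaf (.up 6 2754 [645] 1169 [87,55,89,153])) (.leaf (.up 5 550 [670] 55 [88,56,103,141]))) (.node (.leaf (.up 7 1900 [645] 1169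 [123,153])) (.leaf (.up 5 3523 [610] 0 [57,56,90,212])))) (.node (.node (.leaf (.up 4 385 [610] 0 [88,94,103,159])) (.leaf (.up 4 3644 [631] 1193 [57,94,90,30]))) (.leaf (.up 4 2292 [670] 55 [55,43,219])))) (.node (.node (.node (.leaf (.up 5 2523 [670] 55 [87,94,90,184])) (.leaf (.up 5 3195 [670] 55 [88,91,167]))) (.node (.leaf (.up 4 1266 [670] 55 [88,94,176,99])) (.leaf (.up 5 2806 [623] 0 [87,56,103,127])))) (.node (.node (.leaf (.up 5 2216 [623] 0 [87,110,90,229])) (.leaf (.up 6 3778 [645] 1169 [94,104,226]))) (.leaf (.up 6 1290 [631] 1193 [88,93,140,213])))))))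

noncomputable def trio5_00011 : Tr TStep :=
  .node (.node (.node (.node (.node (.node (.node (.leaf (.up 4 3364 [645] 1169 [57,110,123,195])) (.leaf (.up 4 180 [645] 1169 [87,42,209]))) (.node (.leaf (.up 6 3628 [670] 55 [55,42,209])) (.leaf (.up 6 1506 [631] 1193 [88,55,103,244])))) (.node (.node (.leaf (.up 5 200 [645] 1169 [87,55,155,10])) (.leaf (.up 4 1517 [631] 1193 [44,189]))) (.node (.leaf (.up 5 403 [631] 1193 [94,116,169])) (.leaf (.up 5 2745 [623] 0 [110,44,27]))))) (.node (.node (.node (.leaf (.up 5 3630 [631] 1193 [87,110,104,46])) (.leaf (.up 7 1233 [631] 1193 [57,110,123,133]))) (.node (.leaf (.up 6 2004 [645] 1169 [110,103,247])) (.leaf (.up 5 3453 [623] 0 [57,110,90,248])))) (.node (.node (.leaf (.up 2 2391 [631] 1193 [87,93,135])) (.leaf (.up 5 3353 [623] 0 [57,110,180]))) (.leaf (.up 7 1845 [610] 0 [87,94,140,153]))))) (.node (.node (.node (.node (.leaf (.up 3 140 [631] 1193 [87,94,89,200])) (.leaf (.up 3 1401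 [631] 1193 [57,94,42,4]))) (.node (.leaf (.up 5 1840 [631] 1193 [57,94,42,74])) (.leaf (.up 4 3433 [670] 55 [93,42,202])))) (.node (.node (.leaf (.up 5 2212 [670] 55 [88,93,91,131])) (.leaf (.up 7 1341 [670] 55 [110,90,196]))) (.node (.leaf (.up 4 577 [631] 1193 [87,155,236])) (.leaf (.up 6 2412 [645] 1169 [110,155,172]))))) (.node (.node (.node (.leaf (.up 4 2804 [645] 1169 [94,104,6])) (.leaf (.up 3 1735 [645] 1169 [57,56,42,5]))) (.node (.leaf (.up 5 3182 [631] 1193 [88,93,90,190])) (.leaf (.up 5 807 [645] 1169 [87,93,43,219])))) (.node (.node (.leaf (.up 4 3741 [645] 1169 [110,44,246])) (.leaf (.up 4 3609 [670] 55 [56,104,130]))) (.leaf (.up 3 2860 [645] 1169 [57,123,35])))))) (.node (.node (.node (.node (.node (.leaf (.up 5 2389 [631] 1193 [87,94,140,195])) (.leaf (.up 6 3341 [610] 0 [56,104,240]))) (.node (.leaf (.up 3 2655 [670] 55 [93,116,60])) (.leaf (.up 3 595 [670] 55 [57,94,104,46])))) (.node (.node (.leaf (.up 4 3732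 [670] 55 [57,55,91,0])) (.leaf (.up 5 1569 [610] 0 [110,104,215]))) (.node (.leaf (.up 4 3529 [631] 1193 [110,116,137])) (.leaf (.up 6 1774 [631] 1193 [87,91,206]))))) (.node (.node (.node (.leaf (.up 4 1409 [645] 1169 [94,140,228])) (.leaf (.up 3 2591 [631] 1193 [57,93,104,115]))) (.node (.leaf (.up 6 814 [610] 0 [55,154])) (.leaf (.up 6 1537 [645] 1169 [57,93,104,9])))) (.node (.node (.leaf (.up 5 3429 [610] 0 [88,110,89,150])) (.leaf (.up 4 1807 [645] 1169 [88,55,155,240]))) (.leaf (.up 5 2248 [645] 1169 [88,104,108]))))) (.node (.node (.node (.node (.leaf (.up 4 1711 [670] 55 [57,55,90,134])) (.leaf (.up 6 1215 [670] 55 [57,94,44,231]))) (.node (.leaf (.up 3 2759 [670] 55 [91,126])) (.leaf (.up 5 2843 [631] 1193 [55,43,219])))) (.node (.node (.leaf (.up 7 2472 [623] 0 [57,56,176,177])) (.leaf (.up 3 2118 [610] 0 [93,42,206]))) (.leaf (.up 4 3484 [623] 0 [88,43,209])))) (.node (.node (.node (.leaf (.up 6 466 [631] 1193 [87,56,123,179]))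 (.leaf (.up 3 2435 [670] 55 [87,110,43,220]))) (.node (.leaf (.up 5 1840 [645] 1169 [93,140,23])) (.leaf (.up 6 407 [623] 0 [87,94,176,187])))) (.node (.node (.leaf (.up 5 59 [610] 0 [57,116,46])) (.leaf (.up 3 737 [670] 55 [93,43,122]))) (.leaf (.up 6 543 [631] 1193 [88,55,42,178]))))))) (.node (.node (.node (.node (.node (.node (.leaf (.up 3 36 [610] 0 [87,110,43,148])) (.leaf (.up 5 2568 [631] 1193 [87,56,91,223]))) (.node (.leaf (.up 5 3327 [670] 55 [87,43,158])) (.leaf (.up 6 1822 [670] 55 [140,65])))) (.node (.node (.leaf (.up 3 711 [631] 1193 [57,200])) (.leaf (.up 6 944 [631] 1193 [88,56,42,137]))) (.node (.leaf (.up 5 692 [623] 0 [110,90,238])) (.leaf (.up 5 1626 [645] 1169 [57,110,104,187]))))) (.node (.node (.node (.leaf (.up 6 615 [670] 55 [57,110,91,168])) (.leaf (.up 5 1755 [631] 1193 [87,56,176,142]))) (.node (.leaf (.up 4 2923 [670] 55 [87,110,89,31])) (.leaf (.up 5 662 [631] 1193 [93])))) (.node (.node (.leaf (.up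 4 3433 [645] 1169 [87,90,7])) (.leaf (.up 6 147 [623] 0 [87,55,90,216]))) (.leaf (.up 5 1810 [610] 0 [87,55,104,141]))))) (.node (.node (.node (.node (.leaf (.up 5 2048 [645] 1169 [93,90,245])) (.leaf (.up 5 3059 [623] 0 [88,103,180]))) (.node (.leaf (.up 3 2619 [610] 0 [57,55,104,204])) (.leaf (.up 6 3228 [610] 0 [55,104,185])))) (.node (.node (.leaf (.up 5 1941 [670] 55 [87,110,155,185])) (.leaf (.up 5 1785 [631] 1193 [57,56,44,99]))) (.node (.leaf (.up 4 1021 [645] 1169 [88,110,91,207])) (.leaf (.up 7 2239 [645] 1169 [93,155,186]))))) (.node (.node (.node (.leaf (.up 6 1610 [645] 1169 [57,55,140,230])) (.leaf (.up 5 2103 [645] 1169 [88,94,140,173]))) (.node (.leaf (.up 5 1488 [645] 1169 [87,55,120])) (.leaf (.up 3 1786 [645] 1169 [55,116,194])))) (.node (.node (.leaf (.up 4 2550 [670] 55 [56,43,198])) (.leaf (.up 4 2157 [631] 1193 [55,89,20]))) (.leaf (.up 4 281 [670] 55 [87,110,103,169])))))) (.node (.node (.node (.node (.node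 (.leaf (.up 5 3624 [623] 0 [87,93,103,118])) (.leaf (.up 7 236 [631] 1193 [88,94,155,145]))) (.node (.leaf (.up 4 3554 [645] 1169 [88,56,91,157])) (.leaf (.up 4 3610 [631] 1193 [87,110,140,65])))) (.node (.node (.leaf (.up 5 999 [623] 0 [104,207])) (.leaf (.up 7 2129 [623] 0 [57,56,89,35]))) (.node (.leaf (.up 5 3308 [631] 1193 [110,42,96])) (.leaf (.up 4 2051 [610] 0 [94,123,138]))))) (.node (.node (.node (.leaf (.up 5 1037 [670] 55 [55,190])) (.leaf (.up 6 649 [645] 1169 [88,110,116,243]))) (.node (.leaf (.up 5 3070 [645] 1169 [87,94,90,119])) (.leaf (.up 7 262 [631] 1193 [87,155,16])))) (.node (.node (.leaf (.up 6 1357 [631] 1193 [88,94,43,127])) (.leaf (.up 6 2273 [645] 1169 [110,103,92]))) (.leaf (.up 4 2162 [631] 1193 [94,90,2]))))) (.node (.node (.node (.node (.leaf (.up 5 1163 [610] 0 [57,90,240])) (.leaf (.up 4 676 [623] 0 [88,110,89,72]))) (.node (.leaf (.up 6 500 [645] 1169 [94,155,99])) (.leaf (.up 6 3341 [631] 1193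 [57,176,210])))) (.node (.node (.leaf (.up 4 341 [631] 1193 [57,110,89,121])) (.leaf (.up 6 3179 [623] 0 [88,110,42,177]))) (.leaf (.up 6 393 [670] 55 [87,55,91,150])))) (.node (.node (.node (.leaf (.up 4 1522 [670] 55 [88,110,103,173])) (.leaf (.up 6 799 [645] 1169 [87,93,44,92]))) (.node (.leaf (.up 5 2055 [631] 1193 [88,94,43,227])) (.leaf (.up 5 126 [645] 1169 [111])))) (.node (.node (.leaf (.up 3 806 [623] 0 [57,56,43,108])) (.leaf (.up 5 3419 [610] 0 [87,155,204]))) (.leaf (.up 4 3020 [645] 1169 [57,110,42,222])))))))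

noncomputable def trio5_0001 : Tr TStep := .node trio5_00010 trio5_00011

noncomputable def trio5_000 : Tr TStep := .node trio5_0000 trio5_0001

noncomputable def trio5_00100 : Tr TStep :=
  .node (.node (.node (.node (.node (.node (.node (.leaf (.up 6 2180 [623] 0 [88,56,176,31])) (.leaf (.up 5 2843 [670] 55 [87,110,91,217]))) (.node (.leaf (.up 5 2821 [631] 1193 [87,56,155,141])) (.leaf (.up 6 863 [623] 0 [87,110,176,195])))) (.node (.node (.leaf (.up 4 3534 [631] 1193 [110,43,186])) (.leaf (.up 6 255 [645] 1169 [110,44,231]))) (.node (.leaf (.up 5 1889 [631] 1193 [56,15])) (.leaf (.up 5 1859 [670] 55 [87,90,46]))))) (.node (.node (.node (.leaf (.up 5 3446 [631] 1193 [87,55,176,184])) (.leaf (.up 7 1067 [670] 55 [57,44,132]))) (.node (.leaf (.up 6 2695 [610] 0 [57,89,222])) (.leaf (.up 5 2482 [631] 1193 [87,94,90,46])))) (.node (.node (.leaf (.up 6 1764 [631] 1193 [88,56,116,130])) (.leaf (.up 4 1224 [645] 1169 [87,110,140,227])))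 (.leaf (.up 5 3287 [670] 55 [56,140,247]))))) (.node (.node (.node (.node (.leaf (.up 6 1430 [645] 1169 [87,110,116,172])) (.leaf (.up 5 3182 [670] 55 [87,103,31]))) (.node (.leaf (.up 6 3023 [645] 1169 [87,94,123,184])) (.leaf (.up 5 1715 [631] 1193 [57,110,123,168])))) (.node (.node (.leaf (.up 6 2905 [623] 0 [88,110,116,76])) (.leaf (.up 5 2097 [631] 1193 [94,116,171]))) (.node (.leaf (.up 4 3785 [670] 55 [88,110,116,147])) (.leaf (.up 5 189 [645] 1169 [87,55,176,154]))))) (.node (.node (.node (.leaf (.up 4 2431 [623] 0 [57,55,44,12])) (.leaf (.up 4 1944 [645] 1169 [88,94,43,146]))) (.node (.leaf (.up 6 1445 [631] 1193 [94,103,146])) (.leaf (.up 6 329 [623] 0 [87,103,35])))) (.node (.node (.leaf (.up 6 2667 [670] 55 [57,56,44,183])) (.leaf (.up 6 604 [631] 1193 [57,93,176,227]))) (.leaf (.up 5 270 [645] 1169 [88,94,90,213])))))) (.node (.node (.node (.node (.node (.leaf (.up 4 2623 [645] 1169 [57,93,116,239])) (.leaf (.up 4 2911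 [623] 0 [56,123,247]))) (.node (.leaf (.up 6 740 [631] 1193 [88,94,44,92])) (.leaf (.up 4 1022 [670] 55 [87,93,116,241])))) (.node (.node (.leaf (.up 6 536 [631] 1193 [57,56,104,77])) (.leaf (.up 6 2831 [610] 0 [87,44,152]))) (.node (.leaf (.up 6 705 [645] 1169 [57,110,155,195])) (.leaf (.up 4 3394 [670] 55 [55,116,12]))))) (.node (.node (.node (.leaf (.up 6 3666 [610] 0 [110,104,241])) (.leaf (.up 5 1268 [670] 55 [55,155,154]))) (.node (.leaf (.up 6 267 [645] 1169 [57,116,141])) (.leaf (.up 5 550 [645] 1169 [90,22])))) (.node (.node (.leaf (.up 6 2368 [623] 0 [110,104,139])) (.leaf (.up 5 2499 [623] 0 [87,110,116,29]))) (.leaf (.up 5 1853 [623] 0 [90,230]))))) (.node (.node (.node (.node (.leaf (.up 5 3629 [645] 1169 [88,110,42,98])) (.leaf (.up 5 408 [610] 0 [88,56,123,198]))) (.node (.leaf (.up 3 2183 [610] 0 [57,93,176,203])) (.leaf (.up 5 415 [631] 1193 [110,44,197])))) (.node (.node (.leaf (.up 4 1944 [610] 0 [88,55,43,196]))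 (.leaf (.up 5 2009 [670] 55 [57,110,91,188]))) (.node (.leaf (.up 4 2349 [670] 55 [87,94,116,241])) (.leaf (.up 4 2313 [631] 1193 [88,93,123,12]))))) (.node (.node (.node (.leaf (.up 5 3614 [610] 0 [57,110,89,12])) (.leaf (.up 6 1772 [670] 55 [87,43,185]))) (.node (.leaf (.up 5 2499 [610] 0 [176,214])) (.leaf (.up 5 3163 [610] 0 [57,55,104,151])))) (.node (.node (.leaf (.up 4 869 [610] 0 [87,110,44,168])) (.leaf (.up 6 1561 [631] 1193 [88,155,46]))) (.leaf (.up 5 3149 [623] 0 [88,94,90,229]))))))) (.node (.node (.node (.node (.node (.node (.leaf (.up 2 2269 [645] 1169 [57,94,116,46])) (.leaf (.up 5 3754 [623] 0 [88,56,91,235]))) (.node (.leaf (.up 4 601 [610] 0 [87,55,43,161])) (.leaf (.up 3 3521 [631] 1193 [57,94,95])))) (.node (.node (.leaf (.up 6 252 [631] 1193 [88,110,129])) (.leaf (.up 6 3790 [670] 55 [94,42,228]))) (.node (.leaf (.up 5 1326 [631] 1193 [88,110,155,241])) (.leaf (.up 4 3223 [623] 0 [87,110,89,120]))))) (.node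 (.node (.node (.leaf (.up 6 2586 [645] 1169 [88,110,103,224])) (.leaf (.up 7 236 [623] 0 [87,94,116,223]))) (.node (.leaf (.up 7 1585 [623] 0 [56,90,164])) (.leaf (.up 3 522 [670] 55 [93,90,21])))) (.node (.node (.leaf (.up 7 1472 [670] 55 [57,110,44,208])) (.leaf (.up 5 1793 [645] 1169 [57,55,176,225]))) (.leaf (.up 1 168 [645] 1169 [56,44,11]))))) (.node (.node (.node (.node (.leaf (.up 4 2160 [645] 1169 [57,55,176,151])) (.leaf (.up 4 1023 [623] 0 [57,56,140,163]))) (.node (.leaf (.up 5 528 [631] 1193 [57,56,176,182])) (.leaf (.up 5 350 [631] 1193 [88,55,140,246])))) (.node (.node (.leaf (.up 3 1865 [670] 55 [94,123,119])) (.leaf (.up 7 379 [670] 55 [57,55,155,107]))) (.node (.leaf (.up 4 1783 [670] 55 [55,89,221])) (.leaf (.up 5 1330 [670] 55 [87,93,104,186]))))) (.node (.node (.node (.leaf (.up 3 2298 [670] 55 [88,110,44,129])) (.leaf (.up 5 459 [670] 55 [87,94,123,207]))) (.node (.leaf (.up 5 2101 [610] 0 [94,123,124])) (.leaf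 (.up 3 2063 [610] 0 [88,94,123,98])))) (.node (.node (.leaf (.up 5 870 [623] 0 [57,110,43,151])) (.leaf (.up 4 3221 [670] 55 [57,55,116,229]))) (.leaf (.up 4 48 [670] 55 [88,140,121])))))) (.node (.node (.node (.node (.node (.leaf (.up 3 2963 [631] 1193 [57,56,176,239])) (.leaf (.up 5 1563 [670] 55 [57,94,176,8]))) (.node (.leaf (.up 5 2452 [631] 1193 [87,42,122])) (.leaf (.up 5 3619 [631] 1193 [93,42,191])))) (.node (.node (.leaf (.up 6 103 [610] 0 [110,42,244])) (.leaf (.up 3 1274 [631] 1193 [57,110,89,189]))) (.node (.leaf (.up 7 1106 [670] 55 [87,110,44,12])) (.leaf (.up 5 2910 [645] 1169 [56,123,214]))))) (.node (.node (.node (.leaf (.up 4 2776 [645] 1169 [87,90,156])) (.leaf (.up 6 3296 [623] 0 [88,140,224]))) (.node (.leaf (.up 4 1198 [645] 1169 [87,93,116,228])) (.leaf (.up 4 3266 [623] 0 [87,93,104,207])))) (.node (.node (.leaf (.up 6 3511 [610] 0 [57,93,104,107])) (.leaf (.up 5 3046 [645] 1169 [87,94,44,114]))) (.leaf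 (.up 6 1677 [670] 55 [93,103,181]))))) (.node (.node (.node (.node (.leaf (.up 5 3439 [631] 1193 [57,56,42,208])) (.leaf (.up 4 145 [610] 0 [87,94,89,34]))) (.node (.leaf (.up 4 3774 [631] 1193 [57,94,91,69])) (.leaf (.up 5 3225 [631] 1193 [57,94,104,180])))) (.node (.node (.leaf (.up 5 2311 [670] 55 [93,140,229])) (.leaf (.up 4 443 [645] 1169 [103,169]))) (.leaf (.up 5 2718 [670] 55 [140,225])))) (.node (.node (.node (.leaf (.up 2 502 [623] 0 [57,55,123,29])) (.leaf (.up 6 3026 [631] 1193 [57,56,140,129]))) (.node (.leaf (.up 4 2997 [670] 55 [57,93,176,214])) (.leaf (.up 5 2002 [631] 1193 [87,55,44,246])))) (.node (.node (.leaf (.up 3 1992 [623] 0 [88,42,126])) (.leaf (.up 3 174 [670] 55 [88,55,44,96]))) (.leaf (.up 6 3204 [670] 55 [56,123,22])))))))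

noncomputable def trio5_00101 : Tr TStep :=
  .node (.node (.node (.node (.node (.node (.node (.leaf (.up 4 762 [631] 1193 [55,155,27])) (.leaf (.up 6 2062 [610] 0 [88,42,18]))) (.node (.leaf (.up 4 2392 [645] 1169 [57,110,116,172])) (.leaf (.up 5 2159 [670] 55 [87,56,150])))) (.node (.node (.leaf (.up 4 880 [623] 0 [55,104,11])) (.leaf (.up 4 2983 [645] 1169 [57,93,89,100]))) (.node (.leaf (.up 4 257 [631] 1193 [57,93,44,207])) (.leaf (.up 5 913 [623] 0 [110,44,150]))))) (.node (.node (.node (.leaf (.up 5 3022 [610] 0 [88,94,44,247])) (.leaf (.up 5 2402 [623] 0 [94,116,144]))) (.node (.leaf (.up 6 3208 [631] 1193 [88,110,155,225])) (.leaf (.up 5 2248 [610] 0 [93,103,187])))) (.node (.node (.leaf (.up 5 2177 [645] 1169 [110,116,143])) (.leaf (.up 6 672 [645] 1169 [87,110,104,139]))) (.leaf (.up 5 1420 [670] 55 [88,56,90,122]))))) (.node (.node (.node (.node (.leaf (.up 6 3130 [645] 1169 [87,110,44,247])) (.leaf (.up 3 1706 [670]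 55 [88,110,123,168]))) (.node (.leaf (.up 7 2378 [670] 55 [183])) (.leaf (.up 6 1026 [645] 1169 [93,91,148])))) (.node (.node (.leaf (.up 6 2205 [670] 55 [94,155,248])) (.leaf (.up 6 279 [623] 0 [87,55,155,245]))) (.node (.leaf (.up 2 447 [670] 55 [44,225])) (.leaf (.up 3 2591 [670] 55 [57,110,42,212]))))) (.node (.node (.node (.leaf (.up 4 3675 [645] 1169 [87,93,90,25])) (.leaf (.up 4 1503 [645] 1169 [88,110,44,4]))) (.node (.leaf (.up 2 1664 [631] 1193 [87,55,176,173])) (.leaf (.up 5 824 [623] 0 [104,108])))) (.node (.node (.leaf (.up 4 213 [631] 1193 [87,56,91,137])) (.leaf (.up 4 3792 [631] 1193 [93,104,214]))) (.leaf (.up 2 3425 [645] 1169 [57,140,222])))))) (.node (.node (.node (.node (.node (.leaf (.up 4 2684 [645] 1169 [57,55,103,226])) (.leaf (.up 4 3680 [645] 1169 [88,56,155,163]))) (.node (.leaf (.up 5 807 [610] 0 [87,55,42,170])) (.leaf (.up 4 869 [645] 1169 [94,42,71])))) (.node (.node (.leaf (.up 5 3070 [623] 0 [57,91,166]))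 (.leaf (.up 4 222 [623] 0 [88,104,174]))) (.node (.leaf (.up 5 824 [610] 0 [57,55,176,126])) (.leaf (.up 5 3500 [645] 1169 [43,159]))))) (.node (.node (.node (.leaf (.up 6 2407 [631] 1193 [88,56,155,153])) (.leaf (.up 4 3522 [623] 0 [87,140,23]))) (.node (.leaf (.up 4 2371 [645] 1169 [93,42,147])) (.leaf (.up 4 180 [631] 1193 [57,94,90,163])))) (.node (.node (.leaf (.up 5 299 [645] 1169 [88,55,155,169])) (.leaf (.up 4 1588 [670] 55 [88,56,176,212]))) (.leaf (.up 7 1058 [631] 1193 [93,43,36]))))) (.node (.node (.node (.node (.leaf (.up 7 1057 [631] 1193 [88,55,104,152])) (.leaf (.up 4 1100 [645] 1169 [88,55,123,132]))) (.node (.leaf (.up 5 307 [623] 0 [88,94,104,108])) (.leaf (.up 6 2895 [670] 55 [57,94,140,2])))) (.node (.node (.leaf (.up 2 2286 [631] 1193 [57,56,155,129])) (.leaf (.up 4 1239 [670] 55 [57,110,89,242]))) (.leaf (.up 5 3129 [645] 1169 [57,110,123,178])))) (.node (.node (.node (.leaf (.up 6 665 [645] 1169 [87,44,205]))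 (.leaf (.up 5 2037 [670] 55 [93,43,128]))) (.node (.leaf (.up 4 2503 [645] 1169 [57,93,89,178])) (.leaf (.up 6 1103 [631] 1193 [44,141])))) (.node (.node (.leaf (.up 7 1594 [623] 0 [87,93,103])) (.leaf (.up 1 8 [645] 1169 [57,56,140,239]))) (.leaf (.up 5 513 [623] 0 [57,110,90,210]))))))) (.node (.node (.node (.node (.node (.node (.leaf (.up 6 3640 [645] 1169 [57,176,100])) (.leaf (.up 6 1375 [645] 1169 [93,104,240]))) (.node (.leaf (.up 4 2358 [670] 55 [55,103,3])) (.leaf (.up 4 1122 [631] 1193 [88,110,104,9])))) (.node (.node (.leaf (.up 5 313 [631] 1193 [87,93,44,150])) (.leaf (.up 2 1828 [631] 1193 [88,55,116,111]))) (.node (.leaf (.up 3 2455 [645] 1169 [91,161])) (.leaf (.up 5 160 [631] 1193 [56,43,108]))))) (.node (.node (.node (.leaf (.up 5 760 [670] 55 [91,125])) (.leaf (.up 5 2002 [645] 1169 [88,110,91,132]))) (.node (.leaf (.up 5 2234 [631] 1193 [88,55,140,227])) (.leaf (.up 6 223 [631] 1193 [57,110,43,189])))) (.node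 (.node (.leaf (.up 5 1031 [623] 0 [87,56,116,181])) (.leaf (.up 7 2582 [631] 1193 [87,93,140,222]))) (.leaf (.up 4 3100 [670] 55 [55,140,203]))))) (.node (.node (.node (.node (.leaf (.up 3 139 [610] 0 [88,110,176,20])) (.leaf (.up 3 559 [670] 55 [93,160]))) (.node (.leaf (.up 5 2039 [670] 55 [88,110,103,210])) (.leaf (.up 5 1153 [645] 1169 [57,93,116,149])))) (.node (.node (.leaf (.up 4 1682 [670] 55 [57,110,176,223])) (.leaf (.up 5 1810 [623] 0 [88,55,91,37]))) (.node (.leaf (.up 4 2371 [631] 1193 [56,89,214])) (.leaf (.up 6 604 [623] 0 [87,104,186]))))) (.node (.node (.node (.leaf (.up 3 2271 [670] 55 [87,123,170])) (.leaf (.up 5 2477 [623] 0 [55,155,128]))) (.node (.leaf (.up 5 1956 [645] 1169 [88,123,193])) (.leaf (.up 5 3154 [623] 0 [88,110,91,173])))) (.node (.node (.leaf (.up 4 187 [670] 55 [57,55,140,241])) (.leaf (.up 4 325 [670] 55 [87,110,116,162]))) (.leaf (.up 4 2392 [631] 1193 [110,104,139])))))) (.node (.node (.node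 (.node (.node (.leaf (.up 4 3785 [631] 1193 [87,55,104,25])) (.leaf (.up 3 2846 [670] 55 [57,91,21]))) (.node (.leaf (.up 5 2592 [610] 0 [87,93,44,150])) (.leaf (.up 6 932 [631] 1193 [87,56,44,5])))) (.node (.node (.leaf (.up 5 826 [623] 0 [57,55,103,213])) (.leaf (.up 5 2743 [645] 1169 [56,155,120]))) (.node (.leaf (.up 5 3520 [623] 0 [42,148])) (.leaf (.up 2 483 [623] 0 [87,110,104,69]))))) (.node (.node (.node (.leaf (.up 5 3138 [645] 1169 [88,55,44,181])) (.leaf (.up 4 3383 [670] 55 [57,56,140,157]))) (.node (.leaf (.up 4 1947 [631] 1193 [57,43,8])) (.leaf (.up 2 1664 [645] 1169 [110,90,114])))) (.node (.node (.leaf (.up 6 1125 [645] 1169 [93,43,100])) (.leaf (.up 5 2314 [670] 55 [57,56,42,193]))) (.leaf (.up 5 1294 [631] 1193 [57,56,176,37]))))) (.node (.node (.node (.node (.leaf (.up 6 3227 [670] 55 [87,94,176,129])) (.leaf (.up 3 2860 [623] 0 [88,93,90,238]))) (.node (.leaf (.up 4 297 [623] 0 [88,176,23])) (.leaf (.up 5 2423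 [645] 1169 [88,93,103,10])))) (.node (.node (.leaf (.up 3 1590 [645] 1169 [87,94,140,248])) (.leaf (.up 3 3498 [610] 0 [87,55,140,69]))) (.leaf (.up 6 124 [670] 55 [94,44,163])))) (.node (.node (.node (.leaf (.up 5 2362 [670] 55 [88,94,138])) (.leaf (.up 2 3292 [631] 1193 [87,93,44,129]))) (.node (.leaf (.up 5 364 [631] 1193 [94,42,148])) (.leaf (.up 6 46 [645] 1169 [93,104,192])))) (.node (.node (.leaf (.up 3 2619 [631] 1193 [116,105])) (.leaf (.up 5 1027 [670] 55 [123,11]))) (.leaf (.up 7 2000 [645] 1169 [87,94,155,21])))))))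

noncomputable def trio5_0010 : Tr TStep := .node trio5_00100 trio5_00101

noncomputable def trio5_00110 : Tr TStep :=
  .node (.node (.node (.node (.node (.node (.node (.leaf (.up 3 2183 [670] 55 [55,90,34])) (.leaf (.up 3 75 [670] 55 [57,94,44,72]))) (.node (.leaf (.up 3 1789 [670] 55 [94,145])) (.leaf (.up 5 2891 [631] 1193 [93,140,16])))) (.node (.node (.leaf (.up 5 3740 [645] 1169 [88,56,104,209])) (.leaf (.up 5 960 [623] 0 [88,110,44,187]))) (.node (.leaf (.up 5 20 [631] 1193 [88,56,91,178])) (.leaf (.up 6 2498 [670] 55 [88,55,140,149]))))) (.node (.node (.node (.leaf (.up 4 3100 [645] 1169 [88,94,104,10])) (.leaf (.up 5 1492 [670] 55 [57,55,91,167]))) (.node (.leaf (.up 6 230 [670] 55 [87,110,90,164])) (.leaf (.up 3 2963 [645] 1169 [57,89,230])))) (.node (.node (.leaf (.up 4 1709 [670] 55 [57,239])) (.leaf (.up 3 140 [645] 1169 [57,93,104,234]))) (.leaf (.up 4 1239 [631] 1193 [57,94,104,117]))))) (.node (.node (.node (.node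 (.leaf (.up 2 3028 [645] 1169 [110,90,128])) (.leaf (.up 6 441 [610] 0 [87,103,192]))) (.node (.leaf (.up 5 1512 [670] 55 [57,55,89,233])) (.leaf (.up 3 2489 [670] 55 [87,55,155,215])))) (.node (.node (.leaf (.up 6 1430 [610] 0 [57,56,155,106])) (.leaf (.up 4 48 [631] 1193 [110,116,175]))) (.node (.leaf (.up 6 1235 [631] 1193 [57,93,176,59])) (.leaf (.up 4 1856 [610] 0 [87,56,155,158]))))) (.node (.node (.node (.leaf (.up 6 2867 [645] 1169 [87,55,90,239])) (.leaf (.up 7 1318 [670] 55 [57,42,216]))) (.node (.leaf (.up 4 2338 [670] 55 [87,110,103,179])) (.leaf (.up 4 1517 [645] 1169 [140,13])))) (.node (.node (.leaf (.up 3 75 [645] 1169 [56,91,175])) (.leaf (.up 5 2518 [645] 1169 [123,76]))) (.leaf (.up 3 2578 [631] 1193 [88,110,246])))))) (.node (.node (.node (.node (.node (.leaf (.up 1 8 [631] 1193 [57,55,155,163])) (.leaf (.up 6 3786 [645] 1169 [88,44,179]))) (.node (.leaf (.up 3 724 [645] 1169 [57,44,133])) (.leaf (.up 3 3643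 [631] 1193 [87,94,42,149])))) (.node (.node (.leaf (.up 5 1484 [670] 55 [57,55,155,71])) (.leaf (.up 5 986 [670] 55 [55,90,131]))) (.node (.leaf (.up 6 722 [645] 1169 [88,55,43,223])) (.leaf (.up 6 3036 [610] 0 [57,94,176,59]))))) (.node (.node (.node (.leaf (.up 6 392 [670] 55 [87,110,44,12])) (.leaf (.up 4 2638 [645] 1169 [110,44,16]))) (.node (.leaf (.up 5 3629 [670] 55 [57,55,90,159])) (.leaf (.up 5 504 [610] 0 [88,123,240])))) (.node (.node (.leaf (.up 6 1192 [631] 1193 [88,93,103,99])) (.leaf (.up 6 1214 [670] 55 [57,93,42,173]))) (.leaf (.up 4 2601 [631] 1193 [87,94,104,204]))))) (.node (.node (.node (.node (.leaf (.up 6 1764 [610] 0 [88,110,15])) (.leaf (.up 6 3709 [645] 1169 [88,110,103,97]))) (.node (.leaf (.up 1 6 [623] 0 [93,42,18])) (.leaf (.up 6 3193 [670] 55 [87,94,104,200])))) (.node (.node (.leaf (.up 5 2216 [631] 1193 [57,56,91,217])) (.leaf (.up 6 3504 [670] 55 [57,94,116,141]))) (.node (.leaf (.up 5 2806 [631]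 1193 [88,56,91,125])) (.leaf (.up 6 3414 [631] 1193 [88,93,155,77]))))) (.node (.node (.node (.leaf (.up 3 2619 [645] 1169 [57,13])) (.leaf (.up 6 1831 [670] 55 [57,55,91,156]))) (.node (.leaf (.up 4 3003 [645] 1169 [88,110,104,131])) (.leaf (.up 6 1160 [670] 55 [88,176,216])))) (.node (.node (.leaf (.up 4 3364 [610] 0 [87,110,43,244])) (.leaf (.up 3 3402 [623] 0 [94,116,194]))) (.leaf (.up 3 737 [610] 0 [57,140,174]))))))) (.node (.node (.node (.node (.node (.node (.leaf (.up 5 824 [645] 1169 [88,93,103,13])) (.leaf (.up 3 834 [645] 1169 [87,94,176,108]))) (.node (.leaf (.up 5 2917 [631] 1193 [88,110,123,194])) (.leaf (.up 6 1537 [670] 55 [57,94,123,100])))) (.node (.node (.leaf (.up 2 447 [631] 1193 [87,55,123,107])) (.leaf (.up 5 1797 [623] 0 [110,109]))) (.node (.leaf (.up 4 3774 [645] 1169 [110,43,227])) (.leaf (.up 5 2314 [631] 1193 [87,93,42,100]))))) (.node (.node (.node (.leaf (.up 3 2491 [645] 1169 [57,94,140,60])) (.leaf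 (.up 4 3011 [670] 55 [57,56,123,242]))) (.node (.leaf (.up 5 3346 [631] 1193 [55,91,223])) (.leaf (.up 6 814 [670] 55 [87,55,90,141])))) (.node (.node (.leaf (.up 6 143 [645] 1169 [88,110,42,156])) (.leaf (.up 2 2235 [610] 0 [87,94,176,61]))) (.leaf (.up 4 1322 [623] 0 [57,56,89,154]))))) (.node (.node (.node (.node (.leaf (.up 5 1837 [670] 55 [91,214])) (.leaf (.up 3 1789 [631] 1193 [57,56,155,182]))) (.node (.leaf (.up 4 985 [623] 0 [88,93,116])) (.leaf (.up 4 2379 [631] 1193 [87,94,89,109])))) (.node (.node (.leaf (.up 6 1693 [631] 1193 [88,56,140,200])) (.leaf (.up 6 2043 [623] 0 [56,116,21]))) (.node (.leaf (.up 7 1847 [645] 1169 [56,44,208])) (.leaf (.up 5 3129 [670] 55 [57,110,103,234]))))) (.node (.node (.node (.leaf (.up 6 1269 [610] 0 [55,44,4])) (.leaf (.up 5 1890 [623] 0 [87,93,126]))) (.node (.leaf (.up 5 3359 [645] 1169 [88,110,214])) (.leaf (.up 4 119 [631] 1193 [87,56,176,211])))) (.node (.node (.leaf (.up 5 3624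 [645] 1169 [123,121])) (.leaf (.up 5 2939 [670] 55 [57,94,42,214]))) (.leaf (.up 3 3643 [610] 0 [55,123,136])))))) (.node (.node (.node (.node (.node (.leaf (.up 6 2016 [631] 1193 [88,56,123,71])) (.leaf (.up 4 1807 [670] 55 [116,216]))) (.node (.leaf (.up 4 1310 [631] 1193 [93,235])) (.leaf (.up 4 3787 [631] 1193 [110,176,172])))) (.node (.node (.leaf (.up 4 3550 [670] 55 [87,94,44,237])) (.leaf (.up 5 583 [670] 55 [87,93,155,5]))) (.node (.leaf (.up 7 3006 [610] 0 [88,56,89,20])) (.leaf (.up 5 3264 [670] 55 [94,103,95]))))) (.node (.node (.node (.leaf (.up 4 2354 [623] 0 [94,43,151])) (.leaf (.up 5 2806 [610] 0 [87,110,44,179]))) (.node (.leaf (.up 6 2318 [610] 0 [88,93,104,229])) (.leaf (.up 5 1663 [631] 1193 [88,94,140,182])))) (.node (.node (.leaf (.up 5 3662 [670] 55 [55,42,208])) (.leaf (.up 6 2461 [670] 55 [123,177]))) (.leaf (.up 6 2088 [645] 1169 [94,155,96]))))) (.node (.node (.node (.node (.leaf (.up 6 1374 [670] 55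 [88,55,155,136])) (.leaf (.up 5 2198 [631] 1193 [87,56,91,181]))) (.node (.leaf (.up 4 211 [645] 1169 [88,93,116,247])) (.leaf (.up 4 325 [631] 1193 [57,110,116,205])))) (.node (.node (.leaf (.up 5 2394 [670] 55 [57,104,225])) (.leaf (.up 4 12 [645] 1169 [87,93,91,243]))) (.leaf (.up 5 913 [645] 1169 [87,90,161])))) (.node (.node (.node (.leaf (.up 6 2932 [645] 1169 [56,155,172])) (.leaf (.up 6 656 [631] 1193 [56,89,245]))) (.node (.leaf (.up 4 938 [610] 0 [88,55,90,128])) (.leaf (.up 5 2661 [670] 55 [56,89,147])))) (.node (.node (.leaf (.up 5 2702 [610] 0 [88,94,140,142])) (.leaf (.up 5 2843 [645] 1169 [88,55,91,151]))) (.leaf (.up 5 981 [645] 1169 [87,93,123,159])))))))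

noncomputable def trio5_00111 : Tr TStep :=
  .node (.node (.node (.node (.node (.node (.node (.leaf (.up 4 3387 [631] 1193 [43,137])) (.leaf (.up 6 3604 [670] 55 [55,21]))) (.node (.leaf (.up 6 2062 [623] 0 [57,176,25])) (.leaf (.up 3 1940 [645] 1169 [88,94,155,132])))) (.node (.node (.leaf (.up 5 1898 [670] 55 [57,93,176,61])) (.leaf (.up 7 2512 [631] 1193 [57,110,130]))) (.node (.leaf (.up 3 1237 [645] 1169 [56,90,106])) (.leaf (.up 4 3050 [670] 55 [88,110,202]))))) (.node (.node (.node (.leaf (.up 4 1980 [645] 1169 [55,123,183])) (.leaf (.up 6 1968 [645] 1169 [88,56,44,20]))) (.node (.leaf (.up 7 2925 [623] 0 [87,94,42,194])) (.leaf (.up 3 1627 [670] 55 [93,123,141])))) (.node (.node (.leaf (.up 5 2064 [645] 1169 [87,55,89,243])) (.leaf (.up 3 1943 [670] 55 [88,56,123,245]))) (.leaf (.up 6 1924 [631] 1193 [88,110,90,102]))))) (.node (.node (.node (.node (.leaf (.up 4 1287 [631] 1193 [93,90,69])) (.leaf (.up 2 661 [670] 55 [57,128])))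 (.node (.leaf (.up 4 2623 [610] 0 [88,110,103,222])) (.leaf (.up 5 2918 [631] 1193 [57,94,44,36])))) (.node (.node (.leaf (.up 4 1045 [610] 0 [55,44,4])) (.leaf (.up 3 1111 [610] 0 [57,42,144]))) (.node (.leaf (.up 5 1549 [670] 55 [55,104,60])) (.leaf (.up 4 1856 [631] 1193 [87,93,116,168]))))) (.node (.node (.node (.leaf (.up 6 1670 [645] 1169 [87,94,104,231])) (.leaf (.up 4 2760 [670] 55 [55,89,223]))) (.node (.leaf (.up 4 278 [610] 0 [110,176,29])) (.leaf (.up 3 1487 [610] 0 [57,93,91,136])))) (.node (.node (.leaf (.up 5 1921 [670] 55 [88,94,155,223])) (.leaf (.up 5 2519 [623] 0 [87,93,89,31]))) (.leaf (.up 5 1921 [645] 1169 [55,91,95])))))) (.node (.node (.node (.node (.node (.leaf (.up 5 1484 [645] 1169 [87,55,90,153])) (.leaf (.up 6 1032 [610] 0 [57,56,89,119]))) (.node (.leaf (.up 4 2734 [623] 0 [87,94,89,230])) (.leaf (.up 3 3402 [645] 1169 [93,155,202])))) (.node (.node (.leaf (.up 5 2037 [645] 1169 [93,104,5])) (.leaf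 (.up 5 2131 [670] 55 [87,94,176,222]))) (.node (.leaf (.up 3 3306 [670] 55 [88,93,91,188])) (.leaf (.up 5 1513 [631] 1193 [88,93,42,204]))))) (.node (.node (.node (.leaf (.up 4 946 [623] 0 [56,42,34])) (.leaf (.up 6 1448 [623] 0 [88,110,140,223]))) (.node (.leaf (.up 6 172 [645] 1169 [88,94,103,142])) (.leaf (.up 5 2344 [645] 1169 [57,56,89,160])))) (.node (.node (.leaf (.up 5 1410 [645] 1169 [87,44,192])) (.leaf (.up 6 1772 [623] 0 [88,167]))) (.leaf (.up 4 2574 [645] 1169 [87,110,42,92]))))) (.node (.node (.node (.node (.leaf (.up 4 2003 [623] 0 [57,116,141])) (.leaf (.up 6 3240 [670] 55 [88,93,44,76]))) (.node (.leaf (.up 6 2905 [631] 1193 [88,94,89,20])) (.leaf (.up 1 3 [645] 1169 [87,155,247])))) (.node (.node (.leaf (.up 3 1865 [610] 0 [57,55,140,166])) (.leaf (.up 3 2435 [631] 1193 [87,94,116,154]))) (.leaf (.up 5 3639 [670] 55 [57,94,104,243])))) (.node (.node (.node (.leaf (.up 6 730 [670] 55 [88,56,44,183])) (.leaf (.up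 5 3144 [670] 55 [87,93,89,217]))) (.node (.leaf (.up 6 1125 [670] 55 [87,56,43,10])) (.leaf (.up 3 3589 [631] 1193 [88,56,155,204])))) (.node (.node (.leaf (.up 5 3371 [645] 1169 [43,27])) (.leaf (.up 5 651 [645] 1169 [88,93,44,159]))) (.leaf (.up 4 436 [623] 0 [88,56,104,150]))))))) (.node (.node (.node (.node (.node (.node (.leaf (.up 5 1037 [645] 1169 [88,94,90,34])) (.leaf (.up 6 1103 [610] 0 [88,56,116,141]))) (.node (.leaf (.up 4 368 [631] 1193 [88,123,1])) (.leaf (.up 5 1863 [623] 0 [87,110,140,220])))) (.node (.node (.leaf (.up 3 2458 [623] 0 [88,199])) (.leaf (.up 5 2751 [670] 55 [57,94,103,201]))) (.node (.leaf (.up 7 1062 [631] 1193 [123,190])) (.leaf (.up 3 2118 [623] 0 [88,56,91,245]))))) (.node (.node (.node (.leaf (.up 5 1362 [623] 0 [87,56,42,118])) (.leaf (.up 5 509 [670] 55 [87,56,140,237]))) (.node (.leaf (.up 7 2713 [645] 1169 [57,110,42,228])) (.leaf (.up 4 683 [645] 1169 [56,89,96])))) (.node (.node (.leaf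 (.up 6 2636 [610] 0 [57,91,179])) (.leaf (.up 6 799 [670] 55 [55,103,166]))) (.leaf (.up 5 3599 [670] 55 [88,56,176,153]))))) (.node (.node (.node (.node (.leaf (.up 5 3568 [631] 1193 [57,89,121])) (.leaf (.up 7 390 [610] 0 [93,103,149]))) (.node (.leaf (.up 5 1336 [631] 1193 [57,55,91,33])) (.leaf (.up 3 687 [645] 1169 [87,93,155,196])))) (.node (.node (.leaf (.up 6 2662 [645] 1169 [57,55,104,248])) (.leaf (.up 4 3522 [610] 0 [93,104,145]))) (.node (.leaf (.up 5 1115 [645] 1169 [110,116,189])) (.leaf (.up 6 3666 [645] 1169 [87,110,91,97]))))) (.node (.node (.node (.leaf (.up 5 2131 [623] 0 [55,103,239])) (.leaf (.up 6 3061 [631] 1193 [88,94,103,33]))) (.node (.leaf (.up 3 2893 [645] 1169 [56,155,0])) (.leaf (.up 5 1685 [670] 55 [88,2])))) (.node (.node (.leaf (.up 3 2578 [645] 1169 [57,110,101])) (.leaf (.up 6 2496 [670] 55 [88,56,91,231]))) (.leaf (.up 3 2951 [610] 0 [87,94,91,223])))))) (.node (.node (.node (.node (.node (.leaf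 (.up 5 1567 [645] 1169 [87,93,42,216])) (.leaf (.up 6 3127 [645] 1169 [155,137]))) (.node (.leaf (.up 4 3741 [623] 0 [87,140,222])) (.leaf (.up 6 1394 [645] 1169 [57,110,140,170])))) (.node (.node (.leaf (.up 7 417 [631] 1193 [87,56,89,237])) (.leaf (.up 3 1992 [610] 0 [87,110,89,204]))) (.node (.leaf (.up 5 265 [670] 55 [87,93,43,23])) (.leaf (.up 5 1755 [610] 0 [88,94,123,98]))))) (.node (.node (.node (.leaf (.up 4 2086 [645] 1169 [94,42,174])) (.leaf (.up 5 3345 [631] 1193 [116,145]))) (.node (.leaf (.up 6 765 [623] 0 [57,91,239])) (.leaf (.up 5 1159 [670] 55 [55,90,13])))) (.node (.node (.leaf (.up 6 855 [610] 0 [57,55,91,186])) (.leaf (.up 5 1039 [610] 0 [87,93,116,10]))) (.leaf (.up 6 3236 [623] 0 [94,176,106]))))) (.node (.node (.node (.node (.leaf (.up 5 1864 [631] 1193 [88,56,44,198])) (.leaf (.up 4 1036 [623] 0 [57,94,90,196]))) (.node (.leaf (.up 4 3148 [631] 1193 [55,90,18])) (.leaf (.up 6 3432 [623] 0 [87,94,104,220]))))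 (.node (.node (.leaf (.up 5 817 [623] 0 [87,55,116,145])) (.leaf (.up 5 2659 [670] 55 [55,140,248]))) (.leaf (.up 4 2003 [610] 0 [57,93,176,180])))) (.node (.node (.node (.leaf (.up 6 1246 [645] 1169 [56,43,197])) (.leaf (.up 6 1051 [623] 0 [57,103,118]))) (.node (.leaf (.up 2 3425 [623] 0 [88,89,231])) (.leaf (.up 6 3084 [623] 0 [87,110,117])))) (.node (.node (.leaf (.up 4 639 [623] 0 [87,55,42,170])) (.leaf (.up 6 3246 [631] 1193 [88,104,61]))) (.leaf (.up 6 2494 [623] 0 [123,145])))))))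

noncomputable def trio5_0011 : Tr TStep := .node trio5_00110 trio5_00111

noncomputable def trio5_001 : Tr TStep := .node trio5_0010 trio5_0011

noncomputable def trio5_00 : Tr TStep := .node trio5_000 trio5_001

noncomputable def trio5_01000 : Tr TStep :=
  .node (.node (.node (.node (.node (.node (.node (.leaf (.root 1)) (.leaf (.up 4 3409 [623] 0 [57,93,44,131]))) (.node (.leaf (.up 5 2275 [623] 0 [87,94,123,128])) (.leaf (.up 4 23 [631] 1193 [57,55,89,213])))) (.node (.node (.leaf (.up 5 3067 [631] 1193 [57,56,176,111])) (.leaf (.up 5 3658 [645] 1169 [116,111]))) (.node (.leaf (.up 7 3307 [670] 55 [87,110,60])) (.leaf (.up 6 1670 [670] 55 [57,94,42,175]))))) (.node (.node (.node (.leaf (.up 6 1546 [645] 1169 [44,61])) (.leaf (.up 5 3664 [631] 1193 [87,110,116,95]))) (.node (.leaf (.up 5 314 [631] 1193 [57,55,104,144])) (.leaf (.up 5 2362 [610] 0 [87,110,90,193])))) (.node (.node (.leaf (.up 4 1531 [645] 1169 [57,55,43,198]))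 (.leaf (.up 5 2980 [670] 55 [87,94,239]))) (.leaf (.up 4 1468 [631] 1193 [57,93,90,164]))))) (.node (.node (.node (.node (.leaf (.up 6 2438 [670] 55 [110,104,33])) (.leaf (.up 6 955 [623] 0 [88,103,156]))) (.node (.leaf (.up 6 1525 [670] 55 [88,94,90,141])) (.leaf (.up 6 95 [631] 1193 [88,56,155,138])))) (.node (.node (.leaf (.up 4 229 [623] 0 [56,140,16])) (.leaf (.up 3 2249 [645] 1169 [57,110,176,231]))) (.node (.leaf (.up 5 459 [645] 1169 [87,42,71])) (.leaf (.up 5 3664 [670] 55 [88,110,140,179]))))) (.node (.node (.node (.leaf (.up 4 3108 [645] 1169 [56,103,37])) (.leaf (.up 6 3349 [610] 0 [88,140,46]))) (.node (.leaf (.up 4 798 [623] 0 [88,56,155,61])) (.leaf (.up 5 694 [623] 0 [57,55,90,181])))) (.node (.node (.leaf (.up 4 3785 [623] 0 [57,55,89,190])) (.leaf (.up 5 270 [610] 0 [88,94,97]))) (.leaf (.up 5 972 [645] 1169 [87,94,90,162])))))) (.node (.node (.node (.node (.node (.leaf (.up 5 3601 [645] 1169 [87,94,103,225]))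 (.leaf (.up 5 3595 [623] 0 [87,93,72]))) (.node (.leaf (.up 6 3360 [631] 1193 [57,56,104,0])) (.leaf (.up 4 3680 [631] 1193 [88,56,42,107])))) (.node (.node (.leaf (.up 5 220 [631] 1193 [55,44,247])) (.leaf (.up 6 2180 [645] 1169 [88,123,150]))) (.node (.leaf (.up 5 415 [610] 0 [57,94,140,101])) (.leaf (.up 4 1929 [610] 0 [55,104,1]))))) (.node (.node (.node (.leaf (.up 6 3718 [670] 55 [57,110,0])) (.leaf (.up 5 1648 [670] 55 [87,140,231]))) (.node (.leaf (.up 5 1759 [631] 1193 [87,123,117])) (.leaf (.up 3 484 [631] 1193 [87,42,137])))) (.node (.node (.leaf (.up 2 502 [610] 0 [88,56,103,159])) (.leaf (.up 5 3264 [631] 1193 [57,93,90,142]))) (.leaf (.up 7 375 [645] 1169 [57,94,104,218]))))) (.node (.node (.node (.node (.leaf (.up 5 2770 [670] 55 [56,89,223])) (.leaf (.up 5 404 [645] 1169 [57,94,42,65]))) (.node (.leaf (.up 4 3050 [610] 0 [57,55,89,241])) (.leaf (.up 3 1161 [670] 55 [57,55,91,151])))) (.node (.node (.leaf (.up 7 2908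 [631] 1193 [87,44,69])) (.leaf (.up 5 2631 [610] 0 [88,93,91,165]))) (.node (.leaf (.up 3 1161 [623] 0 [87,93,104,216])) (.leaf (.up 5 3632 [631] 1193 [87,93,176,120]))))) (.node (.node (.node (.leaf (.up 4 3645 [670] 55 [87,110,176,114])) (.leaf (.up 5 1358 [645] 1169 [87,93,90,3]))) (.node (.leaf (.up 4 3350 [631] 1193 [94,123,159])) (.leaf (.up 3 1487 [631] 1193 [88,56,44,184])))) (.node (.node (.leaf (.up 6 223 [623] 0 [88,110,116,76])) (.leaf (.up 4 367 [610] 0 [87,55,43,75]))) (.leaf (.up 4 1045 [631] 1193 [87,110,43,59]))))))) (.node (.node (.node (.node (.node (.node (.leaf (.up 5 2592 [670] 55 [55,116,221])) (.leaf (.up 6 53 [645] 1169 [93,90,23]))) (.node (.leaf (.up 6 1445 [645] 1169 [88,55,44,0])) (.leaf (.up 6 3104 [670] 55 [87,89,112])))) (.node (.node (.leaf (.up 3 792 [610] 0 [57,176,157])) (.leaf (.up 4 2511 [631] 1193 [87,55,116,241]))) (.node (.leaf (.up 5 1434 [623] 0 [87,56,140,187])) (.leaf (.up 6 1217 [610]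 0 [88,90,72]))))) (.node (.node (.node (.leaf (.up 6 351 [645] 1169 [55,226])) (.leaf (.up 3 3007 [670] 55 [93,43,13]))) (.node (.leaf (.up 5 749 [670] 55 [55,155,130])) (.leaf (.up 5 1626 [631] 1193 [87,55,72])))) (.node (.node (.leaf (.up 5 1210 [623] 0 [57,55,44,181])) (.leaf (.up 4 2599 [631] 1193 [93,176,35]))) (.leaf (.up 3 1735 [670] 55 [56,140,23]))))) (.node (.node (.node (.node (.leaf (.up 4 1712 [623] 0 [55,91,187])) (.leaf (.up 2 3201 [670] 55 [57,94,44,150]))) (.node (.leaf (.up 4 1409 [631] 1193 [88,176,6])) (.leaf (.up 4 1287 [645] 1169 [57,55,43,27])))) (.node (.node (.leaf (.up 6 3304 [670] 55 [87,55,91,181])) (.leaf (.up 6 3524 [631] 1193 [87,94,98]))) (.node (.leaf (.up 5 3151 [645] 1169 [88,55,140,188])) (.leaf (.up 6 2281 [610] 0 [57,56,43,119]))))) (.node (.node (.node (.leaf (.up 7 1585 [631] 1193 [88,93,116,244])) (.leaf (.up 5 3551 [610] 0 [88,110,36]))) (.node (.leaf (.up 5 2186 [631] 1193 [57,94,176,46]))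 (.leaf (.up 7 1585 [610] 0 [57,56,91,4])))) (.node (.node (.leaf (.up 6 3695 [631] 1193 [88,94,155,173])) (.leaf (.up 4 2431 [645] 1169 [88,94,104,106]))) (.leaf (.up 5 293 [670] 55 [88,110,155,164])))))) (.node (.node (.node (.node (.node (.leaf (.up 6 3222 [631] 1193 [87,55,89,188])) (.leaf (.up 6 1743 [631] 1193 [110,90,160]))) (.node (.leaf (.up 3 3313 [631] 1193 [87,94,89,139])) (.leaf (.up 4 2385 [623] 0 [57,94,140,199])))) (.node (.node (.leaf (.up 3 2210 [623] 0 [94,42,137])) (.leaf (.up 5 3661 [645] 1169 [87,43,244]))) (.node (.leaf (.up 4 2520 [623] 0 [57,116,75])) (.leaf (.up 6 2610 [670] 55 [57,42,193]))))) (.node (.node (.node (.leaf (.up 5 586 [610] 0 [57,56,89,212])) (.leaf (.up 4 3732 [645] 1169 [88,94,123,151]))) (.node (.leaf (.up 5 1297 [645] 1169 [88,94,91,65])) (.leaf (.up 4 1200 [631] 1193 [87,55,155,8])))) (.node (.node (.leaf (.up 4 1036 [631] 1193 [57,103,228])) (.leaf (.up 3 2888 [631] 1193 [57,56,89,137])))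 (.leaf (.up 4 2928 [670] 55 [57,55,104,218]))))) (.node (.node (.node (.node (.leaf (.up 4 3496 [670] 55 [87,94,103,139])) (.leaf (.up 6 182 [610] 0 [87,110,176,214]))) (.node (.leaf (.up 5 3359 [670] 55 [88,42,3])) (.leaf (.up 5 3624 [631] 1193 [87,110,103,235])))) (.node (.node (.leaf (.up 5 2376 [623] 0 [57,91,34])) (.leaf (.up 5 2796 [631] 1193 [93,104,20]))) (.leaf (.up 5 584 [645] 1169 [88,176,46])))) (.node (.node (.node (.leaf (.up 4 1783 [631] 1193 [87,56,126])) (.leaf (.up 6 823 [670] 55 [57,94,116,3]))) (.node (.leaf (.up 5 3163 [645] 1169 [93,123,11])) (.leaf (.up 3 2298 [631] 1193 [88,56,155,132])))) (.node (.node (.leaf (.up 4 3055 [623] 0 [87,94,116,10])) (.leaf (.up 4 2220 [645] 1169 [57,94,155,21]))) (.leaf (.up 6 1651 [631] 1193 [88,110,103,74])))))))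

noncomputable def trio5_01001 : Tr TStep :=
  .node (.node (.node (.node (.node (.node (.node (.leaf (.up 6 849 [623] 0 [88,56,104,232])) (.leaf (.up 5 128 [645] 1169 [93,42,210]))) (.node (.leaf (.up 4 1310 [670] 55 [94,44,9])) (.leaf (.up 2 3791 [623] 0 [87,89,145])))) (.node (.node (.leaf (.up 4 1449 [645] 1169 [88,94,155,198])) (.leaf (.up 2 76 [610] 0 [56,42,171]))) (.node (.leaf (.up 7 638 [670] 55 [57,94,155,238])) (.leaf (.up 4 3040 [610] 0 [87,110,43,98]))))) (.node (.node (.node (.leaf (.up 6 3228 [670] 55 [57,55,103,22])) (.leaf (.up 5 380 [670] 55 [87,110,89,102]))) (.node (.leaf (.up 4 1085 [623] 0 [57,55,44,31])) (.leaf (.up 4 819 [631] 1193 [87,94,43,96])))) (.node (.node (.leaf (.up 5 889 [645] 1169 [88,110,42,227])) (.leaf (.up 6 1885 [670] 55 [93,155,231]))) (.leaf (.up 4 2189 [645] 1169 [110,42,29]))))) (.node (.node (.node (.node (.leaf (.up 3 2183 [631] 1193 [87,55,104,163])) (.leaf (.up 5 299 [670] 55 [87,94,89,119])))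 (.node (.leaf (.up 5 605 [670] 55 [201])) (.leaf (.up 7 1847 [670] 55 [94,43,202])))) (.node (.node (.leaf (.up 6 3038 [631] 1193 [56,27])) (.leaf (.up 5 1921 [631] 1193 [88,55,104,112]))) (.node (.leaf (.up 3 3643 [670] 55 [57,94,116,46])) (.leaf (.up 6 1713 [610] 0 [87,110,155,236]))))) (.node (.node (.node (.leaf (.up 5 2185 [631] 1193 [94,155,141])) (.leaf (.up 3 2025 [631] 1193 [88,93,44,186]))) (.node (.leaf (.up 5 960 [631] 1193 [87,110,103,174])) (.leaf (.up 5 513 [631] 1193 [44,202])))) (.node (.node (.leaf (.up 4 2392 [623] 0 [87,94,103,65])) (.leaf (.up 3 432 [610] 0 [57,0]))) (.leaf (.up 6 2045 [623] 0 [87,56,103,207])))))) (.node (.node (.node (.node (.node (.leaf (.up 6 3073 [631] 1193 [87,56,44,131])) (.leaf (.up 6 1855 [631] 1193 [57,110,104,60]))) (.node (.leaf (.up 6 2484 [645] 1169 [87,56,43,195])) (.leaf (.up 4 2338 [631] 1193 [91,30])))) (.node (.node (.leaf (.up 6 1212 [610] 0 [87,93,42,101])) (.leaf (.up 4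 2960 [610] 0 [56,123,157]))) (.node (.leaf (.up 4 648 [670] 55 [87,93,42,144])) (.leaf (.up 5 2009 [645] 1169 [55,104,195]))))) (.node (.node (.node (.leaf (.up 5 800 [631] 1193 [87,93,176,248])) (.leaf (.up 2 1882 [623] 0 [88,93,116,148]))) (.node (.leaf (.up 4 2844 [610] 0 [87,94,104,201])) (.leaf (.up 4 1065 [610] 0 [57,93,116,75])))) (.node (.node (.leaf (.up 6 2610 [610] 0 [94,118])) (.leaf (.up 5 2621 [631] 1193 [57,93,229]))) (.leaf (.up 5 1150 [670] 55 [88,110,91,201]))))) (.node (.node (.node (.node (.leaf (.up 4 2162 [670] 55 [57,93,158])) (.leaf (.up 5 3241 [670] 55 [57,116,222]))) (.node (.leaf (.up 6 1432 [670] 55 [93,103,34])) (.leaf (.up 4 2200 [623] 0 [87,43,27])))) (.node (.node (.leaf (.up 5 981 [623] 0 [87,42,15])) (.leaf (.up 4 1100 [631] 1193 [88,94,91,150]))) (.node (.leaf (.up 5 1720 [610] 0 [57,55,43,193])) (.leaf (.up 5 3113 [670] 55 [93,103,192]))))) (.node (.node (.node (.leaf (.up 5 1063 [670] 55 [88,110,89,125]))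 (.leaf (.up 6 2384 [623] 0 [110,140,197]))) (.node (.leaf (.up 6 181 [631] 1193 [57,94,90,236])) (.leaf (.up 3 1669 [645] 1169 [55,42,205])))) (.node (.node (.leaf (.up 5 24 [610] 0 [43,211])) (.leaf (.up 5 1864 [623] 0 [94,43,159]))) (.leaf (.up 4 297 [670] 55 [55,90,113]))))))) (.node (.node (.node (.node (.node (.node (.leaf (.up 4 2690 [670] 55 [94,43,220])) (.leaf (.up 5 1717 [670] 55 [87,56,91,46]))) (.node (.leaf (.up 4 2783 [631] 1193 [57,56,116,150])) (.leaf (.up 5 3767 [670] 55 [88,110,89,194])))) (.node (.node (.leaf (.up 6 3633 [645] 1169 [87,93,90,127])) (.leaf (.up 5 1710 [631] 1193 [88,94,104,11]))) (.node (.leaf (.up 6 2620 [645] 1169 [57,94,42,122])) (.leaf (.up 7 2924 [670] 55 [88,94,89,162]))))) (.node (.node (.node (.leaf (.up 4 2982 [645] 1169 [57,93,176,209])) (.leaf (.up 3 525 [631] 1193 [87,55,140,29]))) (.node (.leaf (.up 4 12 [670] 55 [57,93,90,207])) (.leaf (.up 5 3726 [645] 1169 [94,140,15])))) (.node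 (.node (.leaf (.up 6 1095 [670] 55 [103,205])) (.leaf (.up 5 3299 [610] 0 [93,89,222]))) (.leaf (.up 6 1834 [610] 0 [88,110,44,191]))))) (.node (.node (.node (.node (.leaf (.up 5 455 [670] 55 [94,123,27])) (.leaf (.up 5 2309 [631] 1193 [57,103,199]))) (.node (.leaf (.up 5 1180 [670] 55 [56,104,148])) (.leaf (.up 5 3111 [610] 0 [57,56,42,61])))) (.node (.node (.leaf (.up 3 2535 [670] 55 [88,93,116,120])) (.leaf (.up 5 2002 [623] 0 [94,91,133]))) (.node (.leaf (.up 5 1425 [670] 55 [88,94,90,128])) (.leaf (.up 5 3722 [623] 0 [88,94,116,142]))))) (.node (.node (.node (.leaf (.up 6 3420 [623] 0 [88,93,128])) (.leaf (.up 4 3350 [623] 0 [87,103,180]))) (.node (.leaf (.up 6 287 [631] 1193 [56,44,221])) (.leaf (.up 5 170 [670] 55 [94,44,224])))) (.node (.node (.leaf (.up 3 2435 [645] 1169 [87,89,108])) (.leaf (.up 5 2877 [631] 1193 [87,110,176,239]))) (.leaf (.up 3 1904 [670] 55 [88,93,176,167])))))) (.node (.node (.node (.node (.node (.leaf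 (.up 2 447 [610] 0 [94,140,173])) (.leaf (.up 3 1871 [610] 0 [57,55,103,224]))) (.node (.leaf (.up 6 797 [631] 1193 [57,44,216])) (.leaf (.up 7 3206 [670] 55 [93,176,235])))) (.node (.node (.leaf (.up 4 3383 [645] 1169 [94,91,15])) (.leaf (.up 7 2609 [645] 1169 [57,55,90,130]))) (.node (.leaf (.up 5 1710 [670] 55 [57,94,43,144])) (.leaf (.up 4 639 [631] 1193 [87,110,104,10]))))) (.node (.node (.node (.leaf (.up 4 3164 [645] 1169 [55,91,164])) (.leaf (.up 4 3044 [623] 0 [57,103,46]))) (.node (.leaf (.up 5 913 [610] 0 [93,100])) (.leaf (.up 7 1458 [610] 0 [57,56,90,198])))) (.node (.node (.leaf (.up 6 988 [670] 55 [57,93,155,148])) (.leaf (.up 5 1455 [623] 0 [57,55,123,146]))) (.leaf (.up 5 1061 [645] 1169 [94,42,177]))))) (.node (.node (.node (.node (.leaf (.up 5 723 [670] 55 [87,94,23])) (.leaf (.up 6 1692 [610] 0 [87,110,91,105]))) (.node (.leaf (.up 3 2025 [623] 0 [88,55,103,185])) (.leaf (.up 5 859 [623] 0 [87,55,143])))) (.node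 (.node (.leaf (.up 5 1280 [623] 0 [88,103,152])) (.leaf (.up 4 3548 [670] 55 [110,89,149]))) (.leaf (.up 7 3012 [645] 1169 [57,94,91,4])))) (.node (.node (.node (.leaf (.up 5 2501 [670] 55 [87,55,104,74])) (.leaf (.up 6 515 [631] 1193 [57,123,59]))) (.node (.leaf (.up 3 2249 [670] 55 [57,110,116,146])) (.leaf (.up 6 944 [645] 1169 [57,56,176,119])))) (.node (.node (.leaf (.up 2 76 [631] 1193 [88,55,116,242])) (.leaf (.up 5 3181 [631] 1193 [88,110,236]))) (.leaf (.up 6 1579 [631] 1193 [88,55,44,111])))))))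

noncomputable def trio5_0100 : Tr TStep := .node trio5_01000 trio5_01001

noncomputable def trio5_01010 : Tr TStep :=
  .node (.node (.node (.node (.node (.node (.node (.leaf (.root 5)) (.leaf (.up 6 1924 [623] 0 [57,94,90,133]))) (.node (.leaf (.up 5 3144 [645] 1169 [57,110,42,5])) (.leaf (.up 5 68 [645] 1169 [55,44,120])))) (.node (.node (.leaf (.up 2 2191 [610] 0 [87,56,103,186])) (.leaf (.up 4 546 [670] 55 [57,56,140,169]))) (.node (.leaf (.up 5 509 [623] 0 [87,55,123,71])) (.leaf (.up 3 2298 [645] 1169 [88,94,42,122]))))) (.node (.node (.node (.leaf (.up 5 694 [610] 0 [91,117])) (.leaf (.up 4 2092 [631] 1193 [57,93,43,142]))) (.node (.leaf (.up 5 54 [645] 1169 [88,110,43,71])) (.leaf (.up 5 952 [610] 0 [87,110,182])))) (.node (.node (.leaf (.up 3 2888 [645] 1169 [87,104,130])) (.leaf (.up 5 2861 [610] 0 [57,110,201]))) (.leaf (.up 4 3699 [670] 55 [87,94,155,219]))))) (.node (.node (.node (.node (.leaf (.up 6 2688 [670] 55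 [87,94,126])) (.leaf (.up 4 2970 [670] 55 [88,93,155,173]))) (.node (.leaf (.up 4 2379 [623] 0 [87,56,90,185])) (.leaf (.up 4 2456 [670] 55 [88,93,104,60])))) (.node (.node (.leaf (.up 6 501 [645] 1169 [88,110,155,218])) (.leaf (.up 6 1188 [623] 0 [88,93,89,187]))) (.node (.leaf (.up 5 1551 [631] 1193 [87,94,176,159])) (.leaf (.up 4 3696 [670] 55 [57,93,89,229]))))) (.node (.node (.node (.leaf (.up 5 1094 [645] 1169 [87,94,104,111])) (.leaf (.up 5 1685 [645] 1169 [88,55,116,211]))) (.node (.leaf (.up 5 2248 [670] 55 [57,55,116,164])) (.leaf (.up 6 2692 [623] 0 [87,94,176,194])))) (.node (.node (.leaf (.up 7 490 [670] 55 [88,110,123,217])) (.leaf (.up 6 541 [645] 1169 [57,93,116,184]))) (.leaf (.up 4 460 [631] 1193 [57,155,163])))))) (.node (.node (.node (.node (.node (.leaf (.up 5 898 [645] 1169 [94,91,163])) (.leaf (.up 4 1942 [645] 1169 [88,56,103,133]))) (.node (.leaf (.up 6 2334 [645] 1169 [93,176,211])) (.leaf (.up 5 760 [623]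 0 [87,56,155,202])))) (.node (.node (.leaf (.up 4 2605 [645] 1169 [88,94,176,190])) (.leaf (.up 5 344 [610] 0 [57,0]))) (.node (.leaf (.up 5 3632 [670] 55 [110,180])) (.leaf (.up 4 1254 [645] 1169 [93,43,222]))))) (.node (.node (.node (.leaf (.up 6 3132 [670] 55 [110,104,164])) (.leaf (.up 6 1822 [645] 1169 [55,90,75]))) (.node (.leaf (.up 5 920 [645] 1169 [87,93,103,8])) (.leaf (.up 2 1473 [631] 1193 [56,155,7])))) (.node (.node (.leaf (.up 4 1588 [623] 0 [87,44,71])) (.leaf (.up 6 875 [670] 55 [57,55,89,12]))) (.leaf (.up 6 3640 [631] 1193 [87,55,103,194]))))) (.node (.node (.node (.node (.leaf (.up 5 605 [623] 0 [87,55,155,232])) (.leaf (.up 6 198 [645] 1169 [87,42,4]))) (.node (.leaf (.up 4 3584 [610] 0 [88,110,42,145])) (.leaf (.up 4 2346 [631] 1193 [57,43,3])))) (.node (.node (.leaf (.up 6 1103 [670] 55 [88,56,1])) (.leaf (.up 5 532 [631] 1193 [57,123,214]))) (.node (.leaf (.up 7 674 [623] 0 [93,155,198])) (.leaf (.up 5 999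 [645] 1169 [57,93,123,148]))))) (.node (.node (.node (.leaf (.up 6 3559 [631] 1193 [88,55,44,169])) (.leaf (.up 5 247 [610] 0 [110,116,221]))) (.node (.leaf (.up 3 2441 [645] 1169 [88,104,200])) (.leaf (.up 6 983 [670] 55 [87,90,239])))) (.node (.node (.leaf (.up 4 2343 [670] 55 [57,55,116,98])) (.leaf (.up 4 298 [631] 1193 [88,55,155,20]))) (.leaf (.up 1 10 [670] 55 [57,93,123,147]))))))) (.node (.node (.node (.node (.node (.node (.leaf (.up 6 1506 [670] 55 [93,176,72])) (.leaf (.up 6 1164 [623] 0 [88,56,42,105]))) (.node (.leaf (.up 6 1782 [645] 1169 [87,93,43,161])) (.leaf (.up 6 184 [670] 55 [110,133])))) (.node (.node (.leaf (.up 6 3432 [645] 1169 [55,104,216])) (.leaf (.up 1 531 [631] 1193 [87,56,140,189]))) (.node (.leaf (.up 6 173 [645] 1169 [110,104,23])) (.leaf (.up 5 2123 [631] 1193 [90,61]))))) (.node (.node (.node (.leaf (.up 3 1955 [631] 1193 [88,94,104,178])) (.leaf (.up 3 727 [670] 55 [56,104,165]))) (.node (.leaf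 (.up 3 2907 [645] 1169 [57,56,12])) (.leaf (.up 5 116 [670] 55 [57,176,215])))) (.node (.node (.leaf (.up 4 3741 [631] 1193 [110,155,182])) (.leaf (.up 5 1076 [645] 1169 [88,94,104,199]))) (.leaf (.up 5 3439 [670] 55 [88,56,123,212]))))) (.node (.node (.node (.node (.leaf (.up 4 2511 [645] 1169 [57,176,13])) (.leaf (.up 6 448 [670] 55 [87,110,116,115]))) (.node (.leaf (.up 4 3383 [631] 1193 [87,55,23])) (.leaf (.up 2 502 [631] 1193 [88,55,176,21])))) (.node (.node (.leaf (.up 4 119 [623] 0 [87,55,176,8])) (.leaf (.up 5 1494 [631] 1193 [56,89,197]))) (.node (.leaf (.up 2 2479 [645] 1169 [57,110,90,203])) (.leaf (.up 4 676 [670] 55 [55,42,133]))))) (.node (.node (.node (.leaf (.up 6 2334 [623] 0 [56,4])) (.leaf (.up 5 2964 [610] 0 [57,56,91,118]))) (.node (.leaf (.up 6 3248 [610] 0 [87,55,91,35])) (.leaf (.up 2 2479 [670] 55 [57,94,103,35])))) (.node (.node (.leaf (.up 3 2947 [645] 1169 [93,116,150])) (.leaf (.up 5 3176 [631] 1193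 [88,94,140,10]))) (.leaf (.up 5 3523 [631] 1193 [93,155,230])))))) (.node (.node (.node (.node (.node (.leaf (.up 4 1363 [610] 0 [55,91,237])) (.leaf (.up 5 1810 [645] 1169 [87,56,140,34]))) (.node (.leaf (.up 5 815 [645] 1169 [88,56,91,213])) (.leaf (.up 4 3340 [645] 1169 [87,90,236])))) (.node (.node (.leaf (.up 5 2563 [610] 0 [57,56,155,3])) (.leaf (.up 5 497 [670] 55 [88,140,164]))) (.node (.leaf (.up 4 954 [631] 1193 [88,55,140,233])) (.leaf (.up 5 3000 [645] 1169 [43,35]))))) (.node (.node (.node (.leaf (.up 5 200 [670] 55 [87,94,104,148])) (.leaf (.up 4 2164 [645] 1169 [88,176,220]))) (.node (.leaf (.up 5 3133 [645] 1169 [88,56,103,65])) (.leaf (.up 6 3079 [670] 55 [42,148])))) (.node (.node (.leaf (.up 4 3221 [645] 1169 [57,56,123,108])) (.leaf (.up 4 1645 [631] 1193 [87,56,43,3]))) (.leaf (.up 4 2245 [623] 0 [88,123,27]))))) (.node (.node (.node (.node (.leaf (.up 5 833 [631] 1193 [87,94,116,239])) (.leaf (.up 3 373 [631]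 1193 [56,176,231]))) (.node (.leaf (.up 5 3074 [645] 1169 [93,116,13])) (.leaf (.up 2 1473 [610] 0 [87,93,89,77])))) (.node (.node (.leaf (.up 4 1123 [610] 0 [87,94,116,23])) (.leaf (.up 6 1130 [631] 1193 [93,44,209]))) (.leaf (.up 4 1313 [623] 0 [55,140,191])))) (.node (.node (.node (.leaf (.up 6 1235 [670] 55 [57,56,123,181])) (.leaf (.up 3 3275 [670] 55 [57,55,44,243]))) (.node (.leaf (.up 5 1919 [670] 55 [87,56,140,206])) (.leaf (.up 4 1123 [623] 0 [88,93,116,145])))) (.node (.node (.leaf (.up 6 3493 [610] 0 [88,94,176,1])) (.leaf (.up 3 2759 [645] 1169 [87,56,44,209]))) (.leaf (.up 3 3643 [645] 1169 [88,55,104,22])))))))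

noncomputable def trio5_01011 : Tr TStep :=
  .node (.node (.node (.node (.node (.node (.node (.leaf (.up 6 464 [623] 0 [87,56,103,115])) (.leaf (.up 6 1489 [623] 0 [94,140,142]))) (.node (.leaf (.up 4 2150 [631] 1193 [57,176,196])) (.leaf (.up 5 3740 [670] 55 [56,103,122])))) (.node (.node (.leaf (.up 5 960 [645] 1169 [55,140,126])) (.leaf (.up 5 1889 [645] 1169 [87,110,43,169]))) (.node (.leaf (.up 4 3266 [631] 1193 [88,90,3])) (.leaf (.up 3 2963 [623] 0 [57,43,105]))))) (.node (.node (.node (.leaf (.up 6 932 [645] 1169 [87,110,90,127])) (.leaf (.up 5 2015 [670] 55 [110,176,188]))) (.node (.leaf (.up 6 3335 [623] 0 [87,140,96])) (.leaf (.up 6 1089 [631] 1193 [57,90,156])))) (.node (.node (.leaf (.up 7 2908 [645] 1169 [57,94,116,183])) (.leaf (.up 3 3700 [645] 1169 [94,91,1]))) (.leaf (.up 6 3286 [670] 55 [87,90,164]))))) (.node (.node (.node (.node (.leaf (.up 5 733 [631] 1193 [88,55,104,217])) (.leaf (.up 4 2354 [631] 1193 [88,55,155,111])))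 (.node (.leaf (.up 4 2684 [623] 0 [57,56,42,231])) (.leaf (.up 7 301 [610] 0 [87,110,91,173])))) (.node (.node (.leaf (.up 5 2103 [670] 55 [87,110,44,120])) (.leaf (.up 6 2516 [631] 1193 [88,110,43,61]))) (.node (.leaf (.up 5 2568 [645] 1169 [57,93,140,244])) (.leaf (.up 4 975 [645] 1169 [94,90,29]))))) (.node (.node (.node (.leaf (.up 2 2881 [623] 0 [93,44,239])) (.leaf (.up 2 1664 [670] 55 [87,43,18]))) (.node (.leaf (.up 4 1417 [645] 1169 [93,123,18])) (.leaf (.up 5 3453 [645] 1169 [57,93,236])))) (.node (.node (.leaf (.up 4 2228 [631] 1193 [87,110,44,95])) (.leaf (.up 3 2846 [631] 1193 [57,94,44,120]))) (.leaf (.up 5 115 [610] 0 [87,94,89,34])))))) (.node (.node (.node (.node (.node (.leaf (.up 5 93 [645] 1169 [87,93,91,139])) (.leaf (.up 4 2720 [631] 1193 [57,110,123,157]))) (.node (.leaf (.up 5 2112 [645] 1169 [55,98])) (.leaf (.up 4 2379 [645] 1169 [88,110,176,4])))) (.node (.node (.leaf (.up 3 2210 [645] 1169 [176,76]))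 (.leaf (.up 5 2681 [610] 0 [87,56,104,229]))) (.node (.leaf (.up 4 3603 [610] 0 [88,56,42,240])) (.leaf (.up 6 2052 [631] 1193 [88,110,155,35]))))) (.node (.node (.node (.leaf (.up 2 2269 [610] 0 [87,110,103,183])) (.leaf (.up 4 3385 [670] 55 [87,93,240]))) (.node (.leaf (.up 5 3419 [670] 55 [88,55,91,225])) (.leaf (.up 5 2825 [670] 55 [88,93,91,242])))) (.node (.node (.leaf (.up 4 1588 [645] 1169 [88,55,123,37])) (.leaf (.up 3 1401 [645] 1169 [93,43,205]))) (.leaf (.up 1 424 [631] 1193 [93,155,115]))))) (.node (.node (.node (.node (.leaf (.up 4 2545 [670] 55 [57,56,90,173])) (.leaf (.up 6 890 [631] 1193 [56,176,69]))) (.node (.leaf (.up 5 3499 [670] 55 [87,110,104,174])) (.leaf (.up 5 2314 [623] 0 [94,116,154])))) (.node (.node (.leaf (.up 5 3388 [623] 0 [87,104,183])) (.leaf (.up 6 2662 [610] 0 [87,55,103,16]))) (.leaf (.up 6 2291 [645] 1169 [87,55,91,182])))) (.node (.node (.node (.leaf (.up 7 2483 [623] 0 [88,55,90,172])) (.leaf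 (.up 1 3 [631] 1193 [88,93,176,201]))) (.node (.leaf (.up 4 1065 [670] 55 [87,94,140,145])) (.leaf (.up 3 848 [623] 0 [88,55,155,240])))) (.node (.node (.leaf (.up 4 2086 [670] 55 [57,56,103,135])) (.leaf (.up 5 1465 [631] 1193 [90,1]))) (.leaf (.up 6 2919 [645] 1169 [88,56,103,135]))))))) (.node (.node (.node (.node (.node (.node (.leaf (.up 6 3268 [623] 0 [88,93,89,35])) (.leaf (.up 7 3764 [645] 1169 [57,110,76]))) (.node (.leaf (.up 4 2760 [645] 1169 [88,55,42,120])) (.leaf (.up 5 467 [623] 0 [57,110,155,100])))) (.node (.node (.leaf (.up 6 1079 [645] 1169 [94,44,12])) (.leaf (.up 5 3163 [670] 55 [87,110,116,213]))) (.node (.leaf (.up 6 172 [631] 1193 [57,110,176,189])) (.leaf (.up 7 2626 [631] 1193 [87,93,42,107]))))) (.node (.node (.node (.leaf (.up 4 146 [631] 1193 [110,155,59])) (.leaf (.up 4 3430 [631] 1193 [57,93,43,120]))) (.node (.leaf (.up 6 3314 [645] 1169 [57,93,176,122])) (.leaf (.up 6 3649 [645] 1169 [87,110,104,182]))))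 (.node (.node (.leaf (.up 4 187 [631] 1193 [87,94,34])) (.leaf (.up 4 683 [631] 1193 [88,55,161]))) (.leaf (.up 6 1874 [631] 1193 [57,94,116,200]))))) (.node (.node (.node (.node (.leaf (.up 4 1517 [670] 55 [110,90,220])) (.leaf (.up 4 2189 [623] 0 [88,93,44,180]))) (.node (.leaf (.up 4 1023 [631] 1193 [93,90,234])) (.leaf (.up 3 3521 [670] 55 [87,89,16])))) (.node (.node (.leaf (.up 6 2919 [670] 55 [57,55,43,147])) (.leaf (.up 4 954 [610] 0 [87,94,89,5]))) (.node (.leaf (.up 7 1613 [631] 1193 [110,91,149])) (.leaf (.up 5 733 [645] 1169 [57,93,89,208]))))) (.node (.node (.node (.leaf (.up 6 2516 [670] 55 [94,103,169])) (.leaf (.up 5 1042 [623] 0 [57,55,90,147]))) (.node (.leaf (.up 6 840 [670] 55 [55,104,29])) (.leaf (.up 6 1674 [623] 0 [87,93,136])))) (.node (.node (.leaf (.up 3 2951 [631] 1193 [56,136])) (.leaf (.up 6 1152 [610] 0 [57,110,103,182]))) (.leaf (.up 2 1994 [645] 1169 [88,110,42,206])))))) (.node (.node (.node (.node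 (.node (.leaf (.up 5 495 [631] 1193 [55,91,20])) (.leaf (.up 6 696 [623] 0 [55,155,9]))) (.node (.leaf (.up 5 952 [631] 1193 [88,94,158])) (.leaf (.up 7 2193 [623] 0 [88,94,91,184])))) (.node (.node (.leaf (.up 7 1278 [645] 1169 [57,56,103,31])) (.leaf (.up 7 3532 [631] 1193 [88,110,155,114]))) (.node (.leaf (.up 2 2191 [623] 0 [88,55,176,105])) (.leaf (.up 5 539 [623] 0 [87,94,234]))))) (.node (.node (.node (.leaf (.up 4 2601 [610] 0 [88,55,42,120])) (.leaf (.up 6 988 [645] 1169 [94,44,236]))) (.node (.leaf (.up 5 1890 [631] 1193 [88,110,140,200])) (.leaf (.up 2 3029 [670] 55 [57,94,123,241])))) (.node (.node (.leaf (.up 5 3523 [623] 0 [87,93,42,196])) (.leaf (.up 4 975 [670] 55 [87,110,103,239]))) (.leaf (.up 7 262 [610] 0 [110,43,167]))))) (.node (.node (.node (.node (.leaf (.up 3 2495 [631] 1193 [88,94,91,221])) (.leaf (.up 2 2696 [670] 55 [87,90,236]))) (.node (.leaf (.up 2 1828 [623] 0 [94,104,132])) (.leaf (.up 6 3139 [670]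 55 [55,43])))) (.node (.node (.leaf (.up 3 3700 [631] 1193 [87,110,176,20])) (.leaf (.up 6 3347 [631] 1193 [57,110,89,227]))) (.leaf (.up 2 3029 [610] 0 [88,110,91,227])))) (.node (.node (.node (.leaf (.up 6 1418 [631] 1193 [57,56,155,203])) (.leaf (.up 4 2371 [670] 55 [93,176,201]))) (.node (.leaf (.up 7 2781 [645] 1169 [87,55,91,138])) (.leaf (.up 5 2452 [670] 55 [88,94,116,129])))) (.node (.node (.leaf (.up 5 68 [623] 0 [57,42,184])) (.leaf (.up 5 3453 [610] 0 [57,110,91,102]))) (.leaf (.up 4 3534 [610] 0 [88,56,123,102])))))))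

noncomputable def trio5_0101 : Tr TStep := .node trio5_01010 trio5_01011

noncomputable def trio5_010 : Tr TStep := .node trio5_0100 trio5_0101

noncomputable def trio5_01100 : Tr TStep :=
  .node (.node (.node (.node (.node (.node (.node (.leaf (.root 3)) (.leaf (.up 5 1301 [645] 1169 [110,116,152]))) (.node (.leaf (.up 5 186 [631] 1193 [88,94,42,234])) (.leaf (.up 4 639 [645] 1169 [57,93,89,96])))) (.node (.node (.leaf (.up 5 2423 [610] 0 [88,89,179])) (.leaf (.up 5 1148 [645] 1169 [88,56,140,107]))) (.node (.leaf (.up 3 1518 [631] 1193 [87,55,103,165])) (.leaf (.up 5 682 [670] 55 [176,119]))))) (.node (.node (.node (.leaf (.up 6 3708 [645] 1169 [88,56,155,9])) (.leaf (.up 6 1151 [645] 1169 [94,42,97]))) (.node (.leaf (.up 4 975 [623] 0 [88,140,126])) (.leaf (.up 7 1887 [645] 1169 [88,94,103,7])))) (.node (.node (.leaf (.up 6 3776 [645] 1169 [55,155,239])) (.leaf (.up 5 2745 [610] 0 [57,110,104,2]))) (.leaf (.up 3 1590 [631]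 1193 [87,56,43,20]))))) (.node (.node (.node (.node (.leaf (.up 6 2934 [631] 1193 [56,140,232])) (.leaf (.up 4 2029 [610] 0 [94,91,195]))) (.node (.leaf (.up 3 724 [623] 0 [88,93,44,22])) (.leaf (.up 6 1250 [623] 0 [87,56,43,12])))) (.node (.node (.leaf (.up 6 1779 [623] 0 [57,55,104,224])) (.leaf (.up 5 2272 [610] 0 [57,55,43,119]))) (.node (.leaf (.up 5 459 [623] 0 [87,94,91,115])) (.leaf (.up 5 584 [670] 55 [88,93,104,146]))))) (.node (.node (.node (.leaf (.up 6 3733 [631] 1193 [88,123,112])) (.leaf (.up 5 2796 [623] 0 [88,55,155,113]))) (.node (.leaf (.up 5 3053 [645] 1169 [55,44,132])) (.leaf (.up 5 2719 [645] 1169 [88,55,140,130])))) (.node (.node (.leaf (.up 6 3393 [645] 1169 [57,43,240])) (.leaf (.up 6 543 [670] 55 [87,55,90,139]))) (.leaf (.up 6 813 [645] 1169 [57,110,176,178])))))) (.node (.node (.node (.node (.node (.leaf (.up 5 719 [645] 1169 [87,56,89,154])) (.leaf (.up 2 1473 [670] 55 [110,43,186]))) (.node (.leaf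 (.up 4 3529 [670] 55 [87,56,116,13])) (.leaf (.up 5 3639 [645] 1169 [93,90,166])))) (.node (.node (.leaf (.up 7 2587 [670] 55 [88,110,123,77])) (.leaf (.up 4 568 [670] 55 [87,42,129]))) (.node (.leaf (.up 5 2046 [645] 1169 [88,55,210])) (.leaf (.up 5 2686 [631] 1193 [57,110,44,21]))))) (.node (.node (.node (.leaf (.up 6 1359 [670] 55 [88,55,155,205])) (.leaf (.up 6 3692 [631] 1193 [110,43,115]))) (.node (.leaf (.up 3 559 [623] 0 [93,116,243])) (.leaf (.up 3 346 [670] 55 [94,42,156])))) (.node (.node (.leaf (.up 6 2291 [670] 55 [94,155,216])) (.leaf (.up 3 825 [645] 1169 [57,55,97]))) (.leaf (.up 4 3598 [670] 55 [88,110,140,10]))))) (.node (.node (.node (.node (.leaf (.up 5 1512 [631] 1193 [110,12])) (.leaf (.up 5 2589 [610] 0 [57,94,89,247]))) (.node (.leaf (.up 6 3036 [623] 0 [88,110,89,65])) (.leaf (.up 4 3701 [670] 55 [104,182])))) (.node (.node (.leaf (.up 5 2632 [623] 0 [88,110,7])) (.leaf (.up 5 270 [623] 0 [57,56,91,60])))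 (.node (.leaf (.up 6 2543 [645] 1169 [88,93,103,109])) (.leaf (.up 5 977 [631] 1193 [88,93,116,208]))))) (.node (.node (.node (.leaf (.up 6 1136 [623] 0 [87,44,178])) (.leaf (.up 5 3074 [670] 55 [88,93,91,235]))) (.node (.leaf (.up 4 119 [610] 0 [88,140,9])) (.leaf (.up 4 3160 [645] 1169 [110,91,25])))) (.node (.node (.leaf (.up 6 2366 [623] 0 [93,158])) (.leaf (.up 6 664 [670] 55 [57,89,230]))) (.leaf (.up 5 694 [670] 55 [93,44,133]))))))) (.node (.node (.node (.node (.node (.node (.leaf (.up 5 2131 [645] 1169 [57,94,42,73])) (.leaf (.up 3 2183 [623] 0 [88,110,155,126]))) (.node (.leaf (.up 6 2056 [645] 1169 [88,56,91,157])) (.leaf (.up 2 2881 [631] 1193 [87,103,218])))) (.node (.node (.leaf (.up 4 1021 [623] 0 [57,94,91,234])) (.leaf (.up 5 770 [670] 55 [57,56,140,226]))) (.node (.leaf (.up 5 1580 [623] 0 [57,94,155,231])) (.leaf (.up 2 3037 [670] 55 [88,90,213]))))) (.node (.node (.node (.leaf (.up 6 2898 [610] 0 [57,55,43,119]))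 (.leaf (.up 5 284 [623] 0 [110,103,169]))) (.node (.leaf (.up 6 3687 [623] 0 [87,89,36])) (.leaf (.up 4 1025 [631] 1193 [94,43,76])))) (.node (.node (.leaf (.up 2 3201 [645] 1169 [87,94,104,222])) (.leaf (.up 6 1881 [670] 55 [57,93,89,98]))) (.leaf (.up 4 3517 [670] 55 [57,94,103,196]))))) (.node (.node (.node (.node (.leaf (.up 6 632 [645] 1169 [87,90,169])) (.leaf (.up 6 452 [645] 1169 [87,94,104,177]))) (.node (.leaf (.up 5 3278 [645] 1169 [90,29])) (.leaf (.up 6 184 [645] 1169 [57,94,44,71])))) (.node (.node (.leaf (.up 7 3376 [645] 1169 [88,55,104,208])) (.leaf (.up 2 1882 [670] 55 [55,116,69]))) (.node (.leaf (.up 4 1310 [645] 1169 [103,115])) (.leaf (.up 5 3315 [631] 1193 [57,42,225]))))) (.node (.node (.node (.leaf (.up 6 194 [670] 55 [88,56,246])) (.leaf (.up 3 3242 [610] 0 [57,93,104,215]))) (.node (.leaf (.up 5 1563 [645] 1169 [90,151])) (.leaf (.up 5 1358 [631] 1193 [57,155,148])))) (.node (.node (.leaf (.up 6 3559 [623]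 0 [87,110,103,71])) (.leaf (.up 3 2893 [610] 0 [57,94,116,187]))) (.leaf (.up 6 863 [610] 0 [88,56,42,146])))))) (.node (.node (.node (.node (.node (.leaf (.up 4 1682 [645] 1169 [88,110,44,107])) (.leaf (.up 3 3589 [610] 0 [57,110,116,244]))) (.node (.leaf (.up 5 2380 [631] 1193 [93,176,69])) (.leaf (.up 4 2456 [645] 1169 [87,55,91,188])))) (.node (.node (.leaf (.up 3 1684 [631] 1193 [88,55,123,108])) (.leaf (.up 5 3652 [631] 1193 [57,93,89,1]))) (.node (.leaf (.up 6 1390 [670] 55 [57,94,123,156])) (.leaf (.up 4 3785 [610] 0 [57,94,175]))))) (.node (.node (.node (.leaf (.up 5 989 [645] 1169 [88,94,223])) (.leaf (.up 4 766 [610] 0 [110,43,171]))) (.node (.leaf (.up 6 3193 [623] 0 [87,42,75])) (.leaf (.up 3 1955 [670] 55 [90,227])))) (.node (.node (.leaf (.up 4 238 [670] 55 [57,117])) (.leaf (.up 4 1393 [631] 1193 [93,43,213]))) (.leaf (.up 3 432 [623] 0 [87,55,123,182]))))) (.node (.node (.node (.node (.leaf (.up 5 2877 [623] 0 [87,55,155,172]))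 (.leaf (.up 5 560 [670] 55 [88,93,104,208]))) (.node (.leaf (.up 3 2435 [610] 0 [57,56,44,92])) (.leaf (.up 6 234 [670] 55 [57,55,128])))) (.node (.node (.leaf (.up 5 1153 [623] 0 [88,103,154])) (.leaf (.up 6 120 [631] 1193 [88,94,43,2]))) (.leaf (.up 5 241 [631] 1193 [205])))) (.node (.node (.node (.leaf (.up 4 2638 [670] 55 [57,110,91,16])) (.leaf (.up 5 2105 [645] 1169 [88,110,176,75]))) (.node (.leaf (.up 6 1374 [623] 0 [57,55,43,114])) (.leaf (.up 6 3637 [631] 1193 [57,176,71])))) (.node (.node (.leaf (.up 6 2586 [670] 55 [94,44,233])) (.leaf (.up 4 1891 [610] 0 [90,3]))) (.leaf (.up 6 3537 [610] 0 [87,93,42,182])))))))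

noncomputable def trio5_01101 : Tr TStep :=
  .node (.node (.node (.node (.node (.node (.node (.leaf (.up 5 3705 [670] 55 [87,110,116,200])) (.leaf (.up 6 1903 [631] 1193 [56,42,0]))) (.node (.leaf (.up 6 2756 [645] 1169 [87,93,91,9])) (.leaf (.up 5 123 [623] 0 [88,94,103,232])))) (.node (.node (.leaf (.up 7 1507 [645] 1169 [88,93,90,191])) (.leaf (.up 6 1774 [670] 55 [57,110,176,238]))) (.node (.leaf (.up 5 1720 [631] 1193 [57,110,43,97])) (.leaf (.up 6 488 [645] 1169 [116,46]))))) (.node (.node (.node (.leaf (.up 3 737 [631] 1193 [88,55,155,229])) (.leaf (.up 2 2696 [631] 1193 [55,103,34]))) (.node (.leaf (.up 6 563 [645] 1169 [87,56,116,194])) (.leaf (.up 3 2907 [670] 55 [57,110,104,174])))) (.node (.node (.leaf (.up 4 341 [623] 0 [88,94,230])) (.leaf (.up 5 1479 [670] 55 [88,93,91,46]))) (.leaf (.up 5 3694 [645] 1169 [57,55,43,195]))))) (.node (.node (.node (.node (.leaf (.up 6 2364 [645] 1169 [87,110,176,227])) (.leaf (.up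 4 2780 [670] 55 [57,55,200]))) (.node (.leaf (.up 4 3741 [670] 55 [57,90,165])) (.leaf (.up 5 2700 [610] 0 [87,93,116,178])))) (.node (.node (.leaf (.up 4 3223 [670] 55 [87,56,44,184])) (.leaf (.up 5 688 [623] 0 [57,94,104,218]))) (.node (.leaf (.up 6 228 [623] 0 [88,110,90,124])) (.leaf (.up 5 2998 [623] 0 [88,90,220]))))) (.node (.node (.node (.leaf (.up 5 2770 [610] 0 [87,93,140,142])) (.leaf (.up 5 2584 [610] 0 [87,116,18]))) (.node (.leaf (.up 5 2399 [670] 55 [55,176,181])) (.leaf (.up 7 3380 [670] 55 [93,140,128])))) (.node (.node (.leaf (.up 3 3589 [623] 0 [87,56,3])) (.leaf (.up 5 3321 [610] 0 [57,93,44,126]))) (.leaf (.up 3 1428 [610] 0 [87,123,171])))))) (.node (.node (.node (.node (.node (.leaf (.up 6 1995 [645] 1169 [57,173])) (.leaf (.up 6 1011 [670] 55 [88,55,91,21]))) (.node (.leaf (.up 6 3052 [670] 55 [56,44,129])) (.leaf (.up 4 443 [610] 0 [57,93,43,148])))) (.node (.node (.leaf (.up 6 1799 [670] 55 [57,93,89,161]))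 (.leaf (.up 5 723 [631] 1193 [88,110,187]))) (.node (.leaf (.up 3 3242 [670] 55 [93,226])) (.leaf (.up 7 121 [610] 0 [55,44,201]))))) (.node (.node (.node (.leaf (.up 5 2198 [670] 55 [57,90,187])) (.leaf (.up 4 2684 [631] 1193 [87,110,104,153]))) (.node (.leaf (.up 7 2614 [645] 1169 [93,176,179])) (.leaf (.up 5 2477 [631] 1193 [88,93,104,117])))) (.node (.node (.leaf (.up 5 1868 [645] 1169 [88,56,244])) (.leaf (.up 5 1253 [631] 1193 [87,110,176,127]))) (.leaf (.up 5 3074 [610] 0 [87,176,46]))))) (.node (.node (.node (.node (.leaf (.up 5 415 [670] 55 [57,56,89,136])) (.leaf (.up 6 158 [610] 0 [87,93,140,178]))) (.node (.leaf (.up 4 300 [670] 55 [57,56,155,188])) (.leaf (.up 5 1863 [645] 1169 [56,103,147])))) (.node (.node (.leaf (.up 5 345 [670] 55 [88,123,192])) (.leaf (.up 6 786 [645] 1169 [87,93,103,139]))) (.leaf (.up 4 996 [670] 55 [88,110,123,25])))) (.node (.node (.node (.leaf (.up 6 2889 [670] 55 [94,103,99])) (.leaf (.up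 4 908 [631] 1193 [87,110,43,113]))) (.node (.leaf (.up 4 3603 [631] 1193 [88,93,43,35])) (.leaf (.up 6 1762 [631] 1193 [57,55,140,163])))) (.node (.node (.leaf (.up 4 367 [623] 0 [87,55,140,147])) (.leaf (.up 5 1326 [623] 0 [57,94,143]))) (.leaf (.up 6 571 [610] 0 [87,55,89,125]))))))) (.node (.node (.node (.node (.node (.node (.leaf (.up 4 3266 [610] 0 [44,138])) (.leaf (.up 5 106 [670] 55 [155,60]))) (.node (.leaf (.up 5 1513 [670] 55 [116,211])) (.leaf (.up 5 3138 [670] 55 [57,93,89,159])))) (.node (.node (.leaf (.up 6 1204 [631] 1193 [88,56,104,46])) (.leaf (.up 6 893 [645] 1169 [88,176,136]))) (.node (.leaf (.up 2 3028 [670] 55 [88,42,164])) (.leaf (.up 4 3594 [645] 1169 [88,55,42,127]))))) (.node (.node (.node (.leaf (.up 5 3581 [631] 1193 [88,140,21])) (.leaf (.up 3 1955 [623] 0 [87,55,42,169]))) (.node (.leaf (.up 5 948 [631] 1193 [88,93,44,198])) (.leaf (.up 4 3792 [670] 55 [87,94,89,136])))) (.node (.node (.leaf (.up 3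 1865 [645] 1169 [57,56,91,69])) (.leaf (.up 5 2980 [610] 0 [88,94,103,69]))) (.leaf (.up 6 2052 [645] 1169 [110,140,137]))))) (.node (.node (.node (.node (.leaf (.up 5 189 [631] 1193 [57,56,176,170])) (.leaf (.up 5 3359 [623] 0 [56,90,194]))) (.node (.leaf (.up 3 2963 [670] 55 [87,110,140,132])) (.leaf (.up 5 2256 [645] 1169 [88,55,44,242])))) (.node (.node (.leaf (.up 4 3350 [670] 55 [87,55,43,124])) (.leaf (.up 6 255 [631] 1193 [57,93,60]))) (.node (.leaf (.up 6 354 [631] 1193 [94,123,181])) (.leaf (.up 4 222 [610] 0 [88,93,103,12]))))) (.node (.node (.node (.leaf (.up 4 2470 [670] 55 [87,43,248])) (.leaf (.up 6 557 [631] 1193 [88,94,42,240]))) (.node (.leaf (.up 5 3317 [645] 1169 [57,55,140,137])) (.leaf (.up 5 305 [631] 1193 [57,94,44,183])))) (.node (.node (.leaf (.up 5 2796 [670] 55 [57,214])) (.leaf (.up 4 1891 [670] 55 [57,55,140,105]))) (.leaf (.up 5 296 [631] 1193 [87,43,95])))))) (.node (.node (.node (.node (.node (.leaf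 (.up 5 3274 [645] 1169 [57,110,89,204])) (.leaf (.up 6 2673 [631] 1193 [42,16]))) (.node (.leaf (.up 6 846 [610] 0 [110,42,136])) (.leaf (.up 6 515 [645] 1169 [88,110,43,99])))) (.node (.node (.leaf (.up 6 3681 [645] 1169 [93,155,29])) (.leaf (.up 4 526 [670] 55 [87,55,42,158]))) (.node (.leaf (.up 6 3166 [623] 0 [55,183])) (.leaf (.up 4 2914 [631] 1193 [57,55,104,105]))))) (.node (.node (.node (.leaf (.up 4 325 [645] 1169 [57,94,89,151])) (.leaf (.up 5 1930 [610] 0 [110,90,118]))) (.node (.leaf (.up 6 1744 [670] 55 [55,140,192])) (.leaf (.up 4 341 [670] 55 [57,55,155,229])))) (.node (.node (.leaf (.up 5 2507 [645] 1169 [57,89,109])) (.leaf (.up 5 2631 [645] 1169 [93,43,105]))) (.leaf (.up 5 2523 [610] 0 [87,90,191]))))) (.node (.node (.node (.node (.leaf (.up 6 2059 [623] 0 [88,56,104,136])) (.leaf (.up 5 1150 [610] 0 [57,110,42,198]))) (.node (.leaf (.up 5 3526 [623] 0 [87,56,116,242])) (.leaf (.up 5 344 [623] 0 [88,110,116,37]))))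 (.node (.node (.leaf (.up 6 1605 [645] 1169 [88,104,148])) (.leaf (.up 4 1158 [670] 55 [57,103,117]))) (.leaf (.up 5 3568 [670] 55 [93,103,69])))) (.node (.node (.node (.leaf (.up 1 2 [631] 1193 [88,110,90,5])) (.leaf (.up 3 1786 [670] 55 [88,56,90,108]))) (.node (.leaf (.up 6 1565 [631] 1193 [57,56,42,163])) (.leaf (.up 5 780 [623] 0 [88,55,155,218])))) (.node (.node (.leaf (.up 6 441 [645] 1169 [57,94,104,181])) (.leaf (.up 4 1622 [631] 1193 [55,168]))) (.leaf (.up 3 36 [623] 0 [57,94,91,165])))))))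

noncomputable def trio5_0110 : Tr TStep := .node trio5_01100 trio5_01101

noncomputable def trio5_01110 : Tr TStep :=
  .node (.node (.node (.node (.node (.node (.node (.leaf (.up 4 2720 [670] 55 [94,176,247])) (.leaf (.up 5 3568 [645] 1169 [57,94,91,35]))) (.node (.leaf (.up 5 3705 [645] 1169 [55,123,31])) (.leaf (.up 6 1414 [670] 55 [87,93,123,114])))) (.node (.node (.leaf (.up 3 2655 [623] 0 [87,110,91,16])) (.leaf (.up 3 2535 [645] 1169 [57,110,44,200]))) (.node (.leaf (.up 6 3132 [645] 1169 [87,123,1])) (.leaf (.up 3 3402 [631] 1193 [88,94,44,231]))))) (.node (.node (.node (.leaf (.up 4 683 [670] 55 [88,94,155,145])) (.leaf (.up 5 1253 [670] 55 [110,103,92]))) (.node (.leaf (.up 4 762 [645] 1169 [57,56,90,75])) (.leaf (.up 6 2636 [670] 55 [87,55,155,73])))) (.node (.node (.leaf (.up 4 766 [645] 1169 [88,56,90,102])) (.leaf (.up 6 649 [670] 55 [57,55,42,159]))) (.leaf (.up 6 3203 [623] 0 [110,123,12]))))) (.node (.node (.node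 (.node (.leaf (.up 7 2944 [610] 0 [43,194])) (.leaf (.up 7 1806 [645] 1169 [57,93,123,143]))) (.node (.leaf (.up 6 621 [645] 1169 [88,55,176,247])) (.leaf (.up 6 2516 [610] 0 [87,55,123,223])))) (.node (.node (.leaf (.up 4 2164 [610] 0 [56,34])) (.leaf (.up 4 1417 [631] 1193 [87,94,123,5]))) (.node (.leaf (.up 5 3225 [610] 0 [87,55,116,218])) (.leaf (.up 4 3108 [623] 0 [57,93,89,174]))))) (.node (.node (.node (.leaf (.up 6 852 [623] 0 [88,56,42])) (.leaf (.up 3 792 [670] 55 [87,94,140,203]))) (.node (.leaf (.up 4 1036 [645] 1169 [87,145])) (.leaf (.up 5 3724 [645] 1169 [55,176,117])))) (.node (.node (.leaf (.up 5 123 [645] 1169 [87,110,42,120])) (.leaf (.up 4 1503 [631] 1193 [88,56,123,128]))) (.leaf (.up 3 2183 [645] 1169 [87,110,44,144])))))) (.node (.node (.node (.node (.node (.leaf (.up 6 1608 [623] 0 [110,90,160])) (.leaf (.up 5 1810 [670] 55 [88,94,116,228]))) (.node (.leaf (.up 6 797 [623] 0 [57,93,123,74])) (.leaf (.up 3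 174 [631] 1193 [57,93,140,131])))) (.node (.node (.leaf (.up 4 2196 [631] 1193 [87,110,90,46])) (.leaf (.up 3 2888 [670] 55 [88,110,42,75]))) (.node (.leaf (.up 3 848 [631] 1193 [87,110,216])) (.leaf (.up 4 2574 [670] 55 [88,55,44,146]))))) (.node (.node (.node (.leaf (.up 7 1734 [623] 0 [57,110,116,23])) (.leaf (.up 6 2884 [670] 55 [88,56,225]))) (.node (.leaf (.up 4 1709 [645] 1169 [87,110,123,204])) (.leaf (.up 5 3321 [631] 1193 [88,55,43,27])))) (.node (.node (.leaf (.up 5 2123 [670] 55 [94,104,75])) (.leaf (.up 6 3231 [645] 1169 [57,93,178]))) (.leaf (.up 5 264 [623] 0 [88,110,44,118]))))) (.node (.node (.node (.node (.leaf (.up 5 2700 [670] 55 [88,94,123,247])) (.leaf (.up 5 3261 [670] 55 [55,91,218]))) (.node (.leaf (.up 4 3675 [610] 0 [87,110,89,113])) (.leaf (.up 4 1522 [645] 1169 [88,55,43,5])))) (.node (.node (.leaf (.up 5 2631 [631] 1193 [87,176,247])) (.leaf (.up 7 1013 [670] 55 [93,91,36]))) (.node (.leaf (.up 4 3603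 [645] 1169 [87,55,140,171])) (.leaf (.up 5 3624 [610] 0 [56,155,107]))))) (.node (.node (.node (.leaf (.up 3 2025 [610] 0 [87,94,104,36])) (.leaf (.up 5 573 [631] 1193 [88,55,123,106]))) (.node (.leaf (.up 5 265 [631] 1193 [87,55,123,165])) (.leaf (.up 3 3007 [631] 1193 [57,110,44,185])))) (.node (.node (.leaf (.up 7 30 [645] 1169 [88,56,89,8])) (.leaf (.up 4 819 [670] 55 [55,123,118]))) (.leaf (.up 4 2503 [631] 1193 [87,94,116,117]))))))) (.node (.node (.node (.node (.node (.node (.leaf (.up 5 2795 [623] 0 [55,42,125])) (.leaf (.up 6 3414 [623] 0 [57,104,173]))) (.node (.leaf (.up 2 3292 [623] 0 [88,142])) (.leaf (.up 6 2683 [610] 0 [87,94,104,22])))) (.node (.node (.leaf (.up 4 2379 [670] 55 [57,55,90,188])) (.leaf (.up 7 1653 [645] 1169 [87,110,104,192]))) (.node (.leaf (.up 1 531 [623] 0 [57,94,103,59])) (.leaf (.up 4 715 [631] 1193 [88,93,155,108]))))) (.node (.node (.node (.leaf (.up 7 2890 [645] 1169 [57,93,89,141])) (.leaf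 (.up 5 692 [670] 55 [56,176,96]))) (.node (.leaf (.up 4 2601 [645] 1169 [56,91,11])) (.leaf (.up 6 1430 [670] 55 [57,44,201])))) (.node (.node (.leaf (.up 5 2105 [670] 55 [57,94,44,244])) (.leaf (.up 4 2804 [670] 55 [176,213]))) (.leaf (.up 4 857 [670] 55 [56,91,100]))))) (.node (.node (.node (.node (.leaf (.up 2 3201 [610] 0 [57,56,140,178])) (.leaf (.up 5 1863 [670] 55 [88,55,44,25]))) (.node (.leaf (.up 3 3521 [645] 1169 [57,56,104,142])) (.leaf (.up 5 1755 [623] 0 [87,93,44,18])))) (.node (.node (.leaf (.up 6 2533 [631] 1193 [57,93,176,211])) (.leaf (.up 3 1590 [610] 0 [90,3]))) (.node (.leaf (.up 4 2358 [645] 1169 [87,55,176,29])) (.leaf (.up 5 2523 [623] 0 [94,176,33]))))) (.node (.node (.node (.leaf (.up 5 2917 [623] 0 [88,93,123,194])) (.leaf (.up 5 919 [645] 1169 [88,56,123,178]))) (.node (.leaf (.up 3 1786 [623] 0 [110,44,245])) (.leaf (.up 5 1137 [631] 1193 [88,110,104,198])))) (.node (.node (.leaf (.up 5 1162 [670] 55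 [57,94,90,144])) (.leaf (.up 4 1826 [670] 55 [56,123,178]))) (.leaf (.up 4 381 [645] 1169 [88,56,91,107])))))) (.node (.node (.node (.node (.node (.leaf (.up 3 432 [631] 1193 [57,55,103,188])) (.leaf (.up 7 1701 [631] 1193 [88,55,104,4]))) (.node (.leaf (.up 6 2685 [645] 1169 [88,56,116,128])) (.leaf (.up 4 2923 [623] 0 [88,94,155,241])))) (.node (.node (.leaf (.up 5 2717 [631] 1193 [87,93,44,243])) (.leaf (.up 4 341 [610] 0 [57,56,176,141]))) (.node (.leaf (.up 6 1524 [645] 1169 [88,94,90,111])) (.leaf (.up 4 2470 [645] 1169 [88,94,104,177]))))) (.node (.node (.node (.leaf (.up 4 3409 [631] 1193 [88,94,103,220])) (.leaf (.up 6 383 [623] 0 [155,174]))) (.node (.leaf (.up 5 2938 [623] 0 [93,140,178])) (.leaf (.up 5 2584 [670] 55 [87,110,43,159])))) (.node (.node (.leaf (.up 3 2893 [623] 0 [87,94,44,235])) (.leaf (.up 3 2491 [631] 1193 [94,89,100]))) (.leaf (.up 5 2132 [645] 1169 [87,93,44,239]))))) (.node (.node (.node (.node (.leaf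 (.up 3 2941 [645] 1169 [87,94,106])) (.leaf (.up 1 2 [610] 0 [88,55,176,199]))) (.node (.leaf (.up 6 541 [631] 1193 [88,56,89,191])) (.leaf (.up 5 1178 [670] 55 [57,94,103,136])))) (.node (.node (.leaf (.up 5 3224 [670] 55 [87,55,43,217])) (.leaf (.up 3 2326 [623] 0 [57,55,140,97]))) (.leaf (.up 5 575 [645] 1169 [87,94,103,131])))) (.node (.node (.node (.leaf (.up 4 1198 [623] 0 [55,43,160])) (.leaf (.up 5 3371 [631] 1193 [87,110,89,184]))) (.node (.leaf (.up 2 3028 [610] 0 [57,110,91,5])) (.leaf (.up 6 1030 [610] 0 [87,93,140,191])))) (.node (.node (.leaf (.up 4 3598 [645] 1169 [88,56,176,143])) (.leaf (.up 5 3353 [631] 1193 [88,42,11]))) (.leaf (.up 4 2863 [670] 55 [88,94,103,128])))))))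

noncomputable def trio5_01111 : Tr TStep :=
  .node (.node (.node (.node (.node (.node (.node (.leaf (.up 6 793 [623] 0 [87,55,155,18])) (.leaf (.up 5 1031 [631] 1193 [88,94,90,124]))) (.node (.leaf (.up 7 3136 [670] 55 [57,55,155,75])) (.leaf (.up 1 531 [670] 55 [88,93,176,233])))) (.node (.node (.leaf (.up 6 2442 [623] 0 [87,55,90,29])) (.leaf (.up 6 3073 [623] 0 [94,89,96]))) (.node (.leaf (.up 4 1025 [645] 1169 [87,93,44,22])) (.leaf (.up 4 2783 [670] 55 [55,176,156]))))) (.node (.node (.node (.leaf (.up 6 1089 [670] 55 [110,91,139])) (.leaf (.up 5 3738 [631] 1193 [57,103,9]))) (.node (.leaf (.up 3 2591 [645] 1169 [120])) (.leaf (.up 2 1203 [631] 1193 [87,55,103,133])))) (.node (.node (.leaf (.up 3 165 [670] 55 [110,104,121])) (.leaf (.up 2 76 [623] 0 [87,93,43,22]))) (.leaf (.up 5 2891 [623] 0 [57,56,155,151]))))) (.node (.node (.node (.node (.leaf (.up 5 609 [631] 1193 [57,56,104,114])) (.leaf (.up 5 3388 [645] 1169 [57,110,44,212])))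 (.node (.leaf (.up 4 2359 [670] 55 [88,94,43,181])) (.leaf (.up 6 3038 [623] 0 [87,44,156])))) (.node (.node (.leaf (.up 4 2358 [631] 1193 [57,93,44,224])) (.leaf (.up 4 146 [670] 55 [88,123,189]))) (.node (.leaf (.up 7 390 [623] 0 [88,44,206])) (.leaf (.up 3 2947 [670] 55 [87,93,89,156]))))) (.node (.node (.node (.leaf (.up 7 1244 [610] 0 [42,244])) (.leaf (.up 4 1459 [631] 1193 [88,94,116,207]))) (.node (.leaf (.up 4 1891 [631] 1193 [57,56,155,134])) (.leaf (.up 2 3292 [610] 0 [87,110,90,142])))) (.node (.node (.leaf (.up 6 1995 [631] 1193 [88,56,104,204])) (.leaf (.up 5 2423 [623] 0 [87,90,29]))) (.leaf (.up 6 1814 [623] 0 [55,176,117])))))) (.node (.node (.node (.node (.node (.leaf (.up 5 3408 [631] 1193 [104,8])) (.leaf (.up 4 2793 [631] 1193 [56,43,7]))) (.node (.leaf (.up 6 392 [645] 1169 [88,110,90,239])) (.leaf (.up 5 891 [645] 1169 [87,56,123,7])))) (.node (.node (.leaf (.up 5 1864 [645] 1169 [56,155,1])) (.leaf (.up 4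 1021 [610] 0 [88,140,21]))) (.node (.leaf (.up 4 2385 [631] 1193 [57,123,208])) (.leaf (.up 4 3245 [631] 1193 [87,123,232]))))) (.node (.node (.node (.leaf (.up 4 2346 [623] 0 [87,93,43,16])) (.leaf (.up 6 3038 [670] 55 [87,55,104,204]))) (.node (.leaf (.up 5 2477 [610] 0 [57,93,104,216])) (.leaf (.up 5 3463 [623] 0 [57,93,90,174])))) (.node (.node (.leaf (.up 5 3552 [631] 1193 [57,93,44,213])) (.leaf (.up 4 48 [610] 0 [56,42,171]))) (.leaf (.up 5 3632 [645] 1169 [57,55,155,145]))))) (.node (.node (.node (.node (.leaf (.up 3 1992 [631] 1193 [93,43,96])) (.leaf (.up 5 3093 [645] 1169 [93,43,185]))) (.node (.leaf (.up 5 1921 [623] 0 [94,104,31])) (.leaf (.up 6 2400 [623] 0 [88,56,43,244])))) (.node (.node (.leaf (.up 5 824 [670] 55 [55,176,172])) (.leaf (.up 5 288 [631] 1193 [87,110,44,147]))) (.leaf (.up 5 2770 [631] 1193 [88,93,155,143])))) (.node (.node (.node (.leaf (.up 6 1129 [623] 0 [57,94,91,137])) (.leaf (.up 5 1635 [631]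 1193 [57,93,116,164]))) (.node (.leaf (.up 6 3537 [631] 1193 [44,166])) (.leaf (.up 3 1518 [645] 1169 [88,94,42,203])))) (.node (.node (.leaf (.up 4 2799 [623] 0 [55,89,98])) (.leaf (.up 5 2938 [610] 0 [87,94,104,96]))) (.leaf (.up 5 3308 [645] 1169 [87,55,89,149]))))))) (.node (.node (.node (.node (.node (.node (.leaf (.up 5 3173 [645] 1169 [55,8])) (.leaf (.up 5 2965 [645] 1169 [56,89,209]))) (.node (.leaf (.up 3 724 [670] 55 [56,89,172])) (.leaf (.up 6 143 [631] 1193 [87,93,155,187])))) (.node (.node (.leaf (.up 5 1971 [631] 1193 [88,110,176,121])) (.leaf (.up 6 1579 [645] 1169 [88,55,103,77]))) (.node (.leaf (.up 6 3304 [645] 1169 [93,44,22])) (.leaf (.up 4 798 [645] 1169 [57,110,176,156]))))) (.node (.node (.node (.leaf (.up 6 2334 [631] 1193 [88,94,123,121])) (.leaf (.up 5 2592 [645] 1169 [87,90,185]))) (.node (.leaf (.up 4 3774 [623] 0 [57,116,241])) (.leaf (.up 7 1046 [670] 55 [110,140,194])))) (.node (.node (.leaf (.up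 5 866 [610] 0 [110,23])) (.leaf (.up 5 1422 [645] 1169 [56,43,72]))) (.leaf (.up 7 1550 [645] 1169 [57,110,91]))))) (.node (.node (.node (.node (.leaf (.up 5 914 [670] 55 [87,55,176,222])) (.leaf (.up 4 2160 [631] 1193 [88,90,148]))) (.node (.leaf (.up 5 2770 [623] 0 [93,42,168])) (.leaf (.up 5 3345 [670] 55 [88,172])))) (.node (.node (.leaf (.up 6 2254 [645] 1169 [93,37])) (.leaf (.up 5 270 [631] 1193 [87,94,89,248]))) (.node (.leaf (.up 6 120 [645] 1169 [55,145])) (.leaf (.up 3 727 [645] 1169 [87,94,123,215]))))) (.node (.node (.node (.leaf (.up 6 498 [610] 0 [44,5])) (.leaf (.up 5 1805 [670] 55 [87,55,176,95]))) (.node (.leaf (.up 6 2331 [645] 1169 [57,89,46])) (.leaf (.up 4 1224 [631] 1193 [93,176,111])))) (.node (.node (.leaf (.up 5 1286 [670] 55 [88,55,42,13])) (.leaf (.up 6 3262 [631] 1193 [88,93,140,210]))) (.leaf (.up 5 3500 [631] 1193 [87,55,42,129])))))) (.node (.node (.node (.node (.node (.leaf (.up 4 3721 [631] 1193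 [87,110,140,119])) (.leaf (.up 5 128 [623] 0 [87,56,42,201]))) (.node (.leaf (.up 4 2189 [631] 1193 [56,116,133])) (.leaf (.up 4 2962 [631] 1193 [88,110,123,213])))) (.node (.node (.leaf (.up 6 2882 [645] 1169 [88,42,108])) (.leaf (.up 4 1036 [610] 0 [94,104,216]))) (.node (.leaf (.up 5 3154 [610] 0 [110,104,202])) (.leaf (.up 6 2107 [631] 1193 [88,56,91,130]))))) (.node (.node (.node (.leaf (.up 5 2186 [670] 55 [88,110,42,200])) (.leaf (.up 6 3714 [670] 55 [87,93,44,118]))) (.node (.leaf (.up 3 2491 [610] 0 [94,89,105])) (.leaf (.up 4 2906 [645] 1169 [55,104,169])))) (.node (.node (.leaf (.up 5 874 [623] 0 [87,55,44,133])) (.leaf (.up 5 2184 [645] 1169 [87,110,140,133]))) (.leaf (.up 6 3208 [610] 0 [57,94,89,247]))))) (.node (.node (.node (.node (.leaf (.up 6 3438 [623] 0 [88,140,179])) (.leaf (.up 4 2245 [645] 1169 [94,43,107]))) (.node (.leaf (.up 6 2056 [670] 55 [57,56,123,166])) (.leaf (.up 6 3231 [610] 0 [55,155,15])))) (.node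 (.node (.leaf (.up 3 139 [645] 1169 [87,56,35])) (.leaf (.up 7 2100 [610] 0 [57,56,140,133]))) (.leaf (.up 5 1044 [670] 55 [88,176,182])))) (.node (.node (.node (.leaf (.up 5 296 [623] 0 [88,94,104,135])) (.leaf (.up 4 2601 [623] 0 [57,55,116,35]))) (.node (.leaf (.up 4 2446 [670] 55 [57,56,224])) (.leaf (.up 5 1642 [670] 55 [87,55,103,96])))) (.node (.node (.leaf (.up 3 556 [631] 1193 [88,93,90,180])) (.leaf (.up 4 320 [670] 55 [88,94,42]))) (.leaf (.up 4 2450 [623] 0 [93,140,163])))))))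

noncomputable def trio5_0111 : Tr TStep := .node trio5_01110 trio5_01111

noncomputable def trio5_011 : Tr TStep := .node trio5_0110 trio5_0111

noncomputable def trio5_01 : Tr TStep := .node trio5_010 trio5_011

noncomputable def trio5_0 : Tr TStep := .node trio5_00 trio5_01

noncomputable def trio5_10000 : Tr TStep :=
  .node (.node (.node (.node (.node (.node (.node (.leaf (.up 5 2030 [670] 55 [57,91,211])) (.leaf (.up 5 977 [610] 0 [57,89,120]))) (.node (.leaf (.up 3 1487 [645] 1169 [87,56,123,153])) (.leaf (.up 5 3624 [670] 55 [87,110,123,209])))) (.node (.node (.leaf (.up 4 1254 [670] 55 [87,91,138])) (.leaf (.up 6 2174 [670] 55 [88,110,155,127]))) (.node (.leaf (.up 5 3336 [645] 1169 [87,56,140,30])) (.leaf (.up 5 3443 [670] 55 [90,72]))))) (.node (.node (.node (.leaf (.up 3 1706 [623] 0 [110,89,242])) (.leaf (.up 4 3364 [670] 55 [88,93,123,16]))) (.node (.leaf (.up 6 2194 [610] 0 [56,42,188])) (.leaf (.up 6 593 [670] 55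 [56,155,12])))) (.node (.node (.leaf (.up 4 2470 [631] 1193 [57,55,103,124])) (.leaf (.up 6 3079 [631] 1193 [88,94,155,150]))) (.leaf (.up 4 1220 [631] 1193 [110,226]))))) (.node (.node (.node (.node (.leaf (.up 6 741 [670] 55 [88,93,43,229])) (.leaf (.up 4 1454 [645] 1169 [55,42,187]))) (.node (.leaf (.up 4 2923 [631] 1193 [123,114])) (.leaf (.up 1 6 [645] 1169 [87,55,155,109])))) (.node (.node (.leaf (.up 6 272 [631] 1193 [88,55,176,246])) (.leaf (.up 7 3542 [623] 0 [57,110,91,165]))) (.node (.leaf (.up 5 1084 [631] 1193 [110,144])) (.leaf (.up 3 2298 [623] 0 [57,93,148]))))) (.node (.node (.node (.leaf (.up 3 1992 [645] 1169 [87,103,216])) (.leaf (.up 4 1329 [631] 1193 [57,55,140,230]))) (.node (.leaf (.up 3 2435 [623] 0 [55,176,112])) (.leaf (.up 4 1628 [623] 0 [57,94,123,226])))) (.node (.node (.leaf (.up 5 3053 [623] 0 [88,94,104,143])) (.leaf (.up 5 1396 [610] 0 [94,176,33]))) (.leaf (.up 4 3512 [670] 55 [88,93,123,65]))))))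 (.node (.node (.node (.node (.node (.leaf (.up 6 1448 [645] 1169 [57,55,43,184])) (.leaf (.up 4 420 [645] 1169 [57,110,114]))) (.node (.leaf (.up 5 651 [670] 55 [87,140,227])) (.leaf (.up 6 2739 [610] 0 [57,55,103,195])))) (.node (.node (.leaf (.up 3 1789 [623] 0 [57,94,91,179])) (.leaf (.up 6 852 [610] 0 [87,93,42,174]))) (.node (.leaf (.up 4 690 [670] 55 [176,96])) (.leaf (.up 5 3781 [610] 0 [57,93,42,33]))))) (.node (.node (.node (.leaf (.up 6 3328 [610] 0 [87,93,140,142])) (.leaf (.up 6 1610 [623] 0 [56,89,156]))) (.node (.leaf (.up 5 992 [610] 0 [87,55,42,170])) (.leaf (.up 5 2751 [645] 1169 [55,104,69])))) (.node (.node (.leaf (.up 4 1309 [645] 1169 [88,110,176,227])) (.leaf (.up 1 3 [670] 55 [87,55,89,111]))) (.leaf (.up 7 2827 [610] 0 [56,91,194]))))) (.node (.node (.node (.node (.leaf (.up 6 3776 [670] 55 [87,89,46])) (.leaf (.up 5 1549 [631] 1193 [87,123,8]))) (.node (.leaf (.up 5 2938 [645] 1169 [55,140,145])) (.leaf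 (.up 2 3425 [610] 0 [87,55,42,232])))) (.node (.node (.leaf (.up 5 584 [623] 0 [88,110,103,148])) (.leaf (.up 6 3438 [631] 1193 [93,91,27]))) (.node (.leaf (.up 5 3111 [645] 1169 [57,56,104,148])) (.leaf (.up 5 3170 [631] 1193 [88,56,89,210]))))) (.node (.node (.node (.leaf (.up 4 2038 [670] 55 [94,90,221])) (.leaf (.up 6 3288 [631] 1193 [88,94,42,133]))) (.node (.leaf (.up 1 6 [670] 55 [87,116,177])) (.leaf (.up 2 1228 [645] 1169 [87,110,43,92])))) (.node (.node (.leaf (.up 7 2948 [623] 0 [57,110,91,154])) (.leaf (.up 5 3191 [623] 0 [57,89,152]))) (.leaf (.up 6 2334 [670] 55 [88,94,90,2]))))))) (.node (.node (.node (.node (.node (.node (.leaf (.up 6 2375 [631] 1193 [87,94,91,102])) (.leaf (.up 5 3067 [623] 0 [87,93,90,154]))) (.node (.leaf (.up 6 518 [670] 55 [56,90,168])) (.leaf (.up 5 2659 [645] 1169 [88,93,155,124])))) (.node (.node (.leaf (.up 5 2127 [623] 0 [88,110,234])) (.leaf (.up 5 2185 [645] 1169 [56,123,246]))) (.node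 (.leaf (.up 4 1266 [631] 1193 [55,155,112])) (.leaf (.up 6 2062 [631] 1193 [110,104,96]))))) (.node (.node (.node (.leaf (.up 4 2427 [645] 1169 [56,90,209])) (.leaf (.up 6 3080 [645] 1169 [239]))) (.node (.leaf (.up 3 3306 [631] 1193 [88,103,198])) (.leaf (.up 5 1055 [623] 0 [57,56,123,98])))) (.node (.node (.leaf (.up 5 3526 [645] 1169 [56,90,160])) (.leaf (.up 5 733 [670] 55 [44,181]))) (.leaf (.up 5 3526 [631] 1193 [87,56,123,127]))))) (.node (.node (.node (.node (.leaf (.up 4 927 [670] 55 [57,55,104,172])) (.leaf (.up 5 1700 [631] 1193 [87,55,89,3]))) (.node (.leaf (.up 5 2519 [631] 1193 [57,248])) (.leaf (.up 4 2162 [645] 1169 [88,110,90,129])))) (.node (.node (.leaf (.up 5 497 [623] 0 [88,110,155,246])) (.leaf (.up 5 3545 [610] 0 [57,110,104,74]))) (.node (.leaf (.up 6 1611 [631] 1193 [94,42,157])) (.leaf (.up 4 2962 [645] 1169 [110,42,148]))))) (.node (.node (.node (.leaf (.up 6 1610 [610] 0 [87,93,155,117])) (.leaf (.up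 5 3154 [631] 1193 [57,94,90,204]))) (.node (.leaf (.up 4 822 [623] 0 [110,224])) (.leaf (.up 5 1999 [631] 1193 [55,89,204])))) (.node (.node (.leaf (.up 6 3786 [631] 1193 [88,94,20])) (.leaf (.up 6 228 [631] 1193 [57,56,123,240]))) (.leaf (.up 7 2827 [623] 0 [87,56,43,208])))))) (.node (.node (.node (.node (.node (.leaf (.up 5 50 [623] 0 [42,185])) (.leaf (.up 6 464 [631] 1193 [88,94,103,239]))) (.node (.leaf (.up 3 853 [623] 0 [87,56,42,106])) (.leaf (.up 5 1488 [623] 0 [87,56,155,217])))) (.node (.node (.leaf (.up 4 2605 [623] 0 [87,110,103,198])) (.leaf (.up 5 1063 [610] 0 [44,18]))) (.node (.leaf (.up 6 349 [670] 55 [88,43,186])) (.leaf (.up 5 3653 [631] 1193 [87,56,42,219]))))) (.node (.node (.node (.leaf (.up 7 1502 [610] 0 [87,55,116,105])) (.leaf (.up 6 2062 [670] 55 [88,93,140,69]))) (.node (.leaf (.up 5 2862 [610] 0 [90,118])) (.leaf (.up 1 0 [631] 1193 [94,43,188])))) (.node (.node (.leaf (.up 6 1561 [670] 55 [57,110,43,73]))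 (.leaf (.up 6 2032 [645] 1169 [110,91,233]))) (.leaf (.up 4 1086 [631] 1193 [88,155,230]))))) (.node (.node (.node (.node (.leaf (.up 6 2534 [623] 0 [88,93,123,238])) (.leaf (.up 5 3173 [631] 1193 [87,94,44,74]))) (.node (.leaf (.up 5 2202 [610] 0 [110,116,106])) (.leaf (.up 6 592 [631] 1193 [57,110,91,147])))) (.node (.node (.leaf (.up 2 2269 [670] 55 [88,93,140,137])) (.leaf (.up 5 3631 [623] 0 [57,116,60]))) (.leaf (.up 5 558 [645] 1169 [87,55,116,147])))) (.node (.node (.node (.leaf (.up 4 1122 [623] 0 [57,93,116,191])) (.leaf (.up 4 3409 [645] 1169 [88,90,234]))) (.node (.leaf (.up 6 3231 [623] 0 [56,140,101])) (.leaf (.up 5 513 [610] 0 [87,89,8])))) (.node (.node (.leaf (.up 4 3610 [670] 55 [87,55,90,189])) (.leaf (.up 4 878 [670] 55 [87,110,176,247]))) (.leaf (.up 6 3762 [645] 1169 [57,110,89,182])))))))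

noncomputable def trio5_10001 : Tr TStep :=
  .node (.node (.node (.node (.node (.node (.node (.leaf (.up 6 2758 [645] 1169 [57,56,91,10])) (.leaf (.up 6 549 [670] 55 [57,90,172]))) (.node (.leaf (.up 6 3588 [670] 55 [57,94,176,221])) (.leaf (.up 6 2163 [623] 0 [87,110,140,138])))) (.node (.node (.leaf (.up 4 887 [645] 1169 [57,56,155,236])) (.leaf (.up 6 3367 [645] 1169 [88,56,103,225]))) (.node (.leaf (.up 6 1995 [670] 55 [57,56,104,182])) (.leaf (.up 4 1254 [623] 0 [88,55,42,77]))))) (.node (.node (.node (.leaf (.up 4 3040 [670] 55 [87,116,219])) (.leaf (.up 6 3335 [610] 0 [88,94,89,106]))) (.node (.leaf (.up 4 1468 [670] 55 [110,91,5])) (.leaf (.up 4 954 [623] 0 [57,116,188])))) (.node (.node (.leaf (.up 6 2323 [645] 1169 [88,110,116,205])) (.leaf (.up 6 319 [631] 1193 [94,123,11]))) (.leaf (.up 5 270 [670] 55 [110,116,223]))))) (.node (.node (.node (.node (.leaf (.up 3 1992 [670] 55 [110,90,9])) (.leaf (.up 6 795 [670] 55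 [55,90,211]))) (.node (.leaf (.up 6 2789 [670] 55 [57,56,146])) (.leaf (.up 6 1202 [631] 1193 [88,110,89,107])))) (.node (.node (.leaf (.up 5 1551 [610] 0 [57,56,89,121])) (.leaf (.up 6 3733 [670] 55 [110,140,22]))) (.node (.leaf (.up 5 2131 [631] 1193 [94,43,237])) (.leaf (.up 5 425 [631] 1193 [57,94,89,187]))))) (.node (.node (.node (.leaf (.up 6 1924 [645] 1169 [57,94,123,222])) (.leaf (.up 6 3685 [645] 1169 [87,93,91,120]))) (.node (.leaf (.up 4 48 [623] 0 [87,43,10])) (.leaf (.up 5 3382 [631] 1193 [87,94,44,183])))) (.node (.node (.leaf (.up 4 1100 [670] 55 [88,55,116,166])) (.leaf (.up 5 2101 [623] 0 [87,55,90,108]))) (.leaf (.up 6 2393 [631] 1193 [87,104,233])))))) (.node (.node (.node (.node (.node (.leaf (.up 6 2318 [631] 1193 [57,94,176,174])) (.leaf (.up 6 3073 [670] 55 [87,93,90,168]))) (.node (.leaf (.up 6 3516 [631] 1193 [57,94,89,15])) (.leaf (.up 6 1748 [610] 0 [57,93,155,2])))) (.node (.node (.leaf (.up 5 609 [645]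 1169 [88,56,140,71])) (.leaf (.up 7 1926 [631] 1193 [87,91,196]))) (.node (.leaf (.up 5 3336 [623] 0 [57,94,104,189])) (.leaf (.up 4 3584 [645] 1169 [88,55,89,246]))))) (.node (.node (.node (.leaf (.up 5 3173 [610] 0 [94,111])) (.leaf (.up 3 3450 [631] 1193 [57,110,90,164]))) (.node (.leaf (.up 4 1711 [645] 1169 [87,155,166])) (.leaf (.up 3 140 [670] 55 [88,123,191])))) (.node (.node (.leaf (.up 5 3520 [610] 0 [87,56,123,138])) (.leaf (.up 5 2939 [631] 1193 [55,124]))) (.leaf (.up 4 1826 [610] 0 [55,91,187]))))) (.node (.node (.node (.node (.leaf (.up 5 2519 [645] 1169 [88,93,155,188])) (.leaf (.up 6 2285 [670] 55 [87,110,123,223]))) (.node (.leaf (.up 6 1799 [645] 1169 [87,123,213])) (.leaf (.up 6 764 [645] 1169 [57,110,89,248])))) (.node (.node (.leaf (.up 5 2305 [645] 1169 [110,116,111])) (.leaf (.up 4 213 [623] 0 [87,94,89,107]))) (.node (.leaf (.up 4 3699 [645] 1169 [88,93,106])) (.leaf (.up 4 2635 [631] 1193 [57,55,236])))))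 (.node (.node (.node (.leaf (.up 4 2863 [610] 0 [57,56,91,99])) (.leaf (.up 5 3371 [610] 0 [88,155,133]))) (.node (.leaf (.up 5 2260 [670] 55 [57,55,91,210])) (.leaf (.up 5 1755 [645] 1169 [88,94,89,228])))) (.node (.node (.leaf (.up 4 1321 [631] 1193 [87,110,104,60])) (.leaf (.up 6 3203 [610] 0 [88,155,143]))) (.leaf (.up 6 452 [631] 1193 [44,109]))))))) (.node (.node (.node (.node (.node (.node (.leaf (.up 4 3645 [623] 0 [94,89,65])) (.leaf (.up 4 2923 [610] 0 [93,189]))) (.node (.leaf (.up 5 3612 [631] 1193 [57,56,89,157])) (.leaf (.up 3 947 [670] 55 [88,55,89,0])))) (.node (.node (.leaf (.up 4 1798 [623] 0 [88,110,90,107])) (.leaf (.up 6 1981 [645] 1169 [57,93,44,236]))) (.node (.leaf (.up 6 1129 [631] 1193 [57,55,123,127])) (.leaf (.up 5 3520 [670] 55 [88,94,103,127]))))) (.node (.node (.node (.leaf (.up 4 2220 [670] 55 [87,110,90,200])) (.leaf (.up 5 3658 [623] 0 [87,93,176,73]))) (.node (.leaf (.up 3 3521 [610] 0 [57,55,91,144]))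 (.leaf (.up 4 1322 [670] 55 [93,103,149])))) (.node (.node (.leaf (.up 4 2955 [670] 55 [110,123,134])) (.leaf (.up 5 2376 [610] 0 [88,94,176,165]))) (.leaf (.up 6 3776 [623] 0 [57,93,42,213]))))) (.node (.node (.node (.node (.leaf (.up 5 899 [645] 1169 [57,56,155,132])) (.leaf (.up 4 3258 [670] 55 [88,55,42,173]))) (.node (.leaf (.up 6 1677 [623] 0 [88,56,104,185])) (.leaf (.up 4 3484 [631] 1193 [110,90,117])))) (.node (.node (.leaf (.up 6 2085 [631] 1193 [87,155,165])) (.leaf (.up 6 3082 [670] 55 [56,176,230]))) (.node (.leaf (.up 5 1805 [645] 1169 [57,110,103,107])) (.leaf (.up 6 3709 [610] 0 [110,123,231]))))) (.node (.node (.node (.leaf (.up 5 977 [623] 0 [57,110,176,60])) (.leaf (.up 3 3444 [623] 0 [57,56,140,59]))) (.node (.leaf (.up 6 1779 [631] 1193 [57,110,91,233])) (.leaf (.up 5 3614 [670] 55 [88,93,103,2])))) (.node (.node (.leaf (.up 7 3076 [645] 1169 [176,237])) (.leaf (.up 6 863 [631] 1193 [87,93,91,60]))) (.leaf (.up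 5 2320 [623] 0 [56,176,245])))))) (.node (.node (.node (.node (.node (.leaf (.up 6 2853 [645] 1169 [110,44,189])) (.leaf (.up 5 2131 [610] 0 [87,94,140,153]))) (.node (.leaf (.up 4 918 [670] 55 [57,93,123,117])) (.leaf (.up 6 1332 [670] 55 [87,94,169])))) (.node (.node (.leaf (.up 5 3133 [631] 1193 [88,55,43,204])) (.leaf (.up 5 1930 [670] 55 [56,155,165]))) (.node (.leaf (.up 6 3179 [631] 1193 [88,93,43,172])) (.leaf (.up 5 429 [645] 1169 [88,94,43,188]))))) (.node (.node (.node (.leaf (.up 6 3319 [645] 1169 [91,186])) (.leaf (.up 4 3701 [645] 1169 [57,123,152]))) (.node (.leaf (.up 3 834 [670] 55 [87,155,178])) (.leaf (.up 6 1119 [645] 1169 [57,110,116,175])))) (.node (.node (.leaf (.up 4 3356 [623] 0 [57,55,104,27])) (.leaf (.up 7 2401 [631] 1193 [55,42,124]))) (.leaf (.up 6 3687 [631] 1193 [87,217]))))) (.node (.node (.node (.node (.leaf (.up 4 152 [670] 55 [56,42,119])) (.leaf (.up 6 3073 [645] 1169 [87,55,90,65]))) (.node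 (.leaf (.up 4 766 [631] 1193 [57,55,123,243])) (.leaf (.up 2 2235 [623] 0 [87,116,237])))) (.node (.node (.leaf (.up 6 2342 [670] 55 [55,123])) (.leaf (.up 4 2319 [670] 55 [87,93,140,106]))) (.leaf (.up 5 1494 [670] 55 [55,176,109])))) (.node (.node (.node (.leaf (.up 4 3409 [670] 55 [57,56,42,219])) (.leaf (.up 3 711 [670] 55 [57,56,176,228]))) (.node (.leaf (.up 5 2305 [610] 0 [57,116,131])) (.leaf (.up 6 133 [670] 55 [93,103,177])))) (.node (.node (.leaf (.up 3 1839 [631] 1193 [55,90,159])) (.leaf (.up 6 2902 [610] 0 [87,55,131]))) (.leaf (.up 6 3790 [645] 1169 [87,56,140,138])))))))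

noncomputable def trio5_1000 : Tr TStep := .node trio5_10000 trio5_10001

noncomputable def trio5_10010 : Tr TStep :=
  .node (.node (.node (.node (.node (.node (.node (.leaf (.up 4 1564 [670] 55 [88,91,74])) (.leaf (.up 6 2334 [610] 0 [88,94,44,20]))) (.node (.leaf (.up 6 1974 [645] 1169 [110,176,139])) (.leaf (.up 5 1063 [645] 1169 [57,93,123,2])))) (.node (.node (.leaf (.up 6 1968 [670] 55 [57,90,230])) (.leaf (.up 5 1512 [623] 0 [87,93,42,92]))) (.node (.leaf (.up 7 39 [645] 1169 [88,93,140,236])) (.leaf (.up 4 3011 [631] 1193 [56,155,154]))))) (.node (.node (.node (.leaf (.up 4 3394 [645] 1169 [88,55,44,74])) (.leaf (.up 3 1237 [670] 55 [57,110,103,224]))) (.node (.leaf (.up 5 2233 [645] 1169 [87,110,155,233])) (.leaf (.up 4 281 [631] 1193 [57,94,89,205])))) (.node (.node (.leaf (.up 7 1827 [623] 0 [88,110,11])) (.leaf (.up 4 3512 [645] 1169 [88,94,91,245]))) (.leaf (.up 6 1974 [670] 55 [57,56,116,201]))))) (.node (.node (.node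 (.node (.leaf (.up 7 1846 [631] 1193 [110,104,179])) (.leaf (.up 4 2511 [670] 55 [57,94,44,180]))) (.node (.leaf (.up 2 3029 [645] 1169 [87,110,89,188])) (.leaf (.up 4 614 [631] 1193 [88,55,104,92])))) (.node (.node (.leaf (.up 5 2621 [645] 1169 [87,93,123,77])) (.leaf (.up 5 2097 [670] 55 [140,71]))) (.node (.leaf (.up 5 2922 [670] 55 [88,176,197])) (.leaf (.up 3 1532 [670] 55 [110,155,177]))))) (.node (.node (.node (.leaf (.up 5 2046 [631] 1193 [55,103,198])) (.leaf (.up 2 1203 [670] 55 [57,110,44,4]))) (.node (.leaf (.up 3 825 [623] 0 [88,110,91,146])) (.leaf (.up 6 1437 [623] 0 [87,110,116,109])))) (.node (.node (.leaf (.up 6 3503 [645] 1169 [56,90,125])) (.leaf (.up 5 2585 [623] 0 [88,110,116,23]))) (.leaf (.up 3 1590 [670] 55 [57,110,201])))))) (.node (.node (.node (.node (.node (.leaf (.up 6 1652 [670] 55 [93,155,137])) (.leaf (.up 6 1452 [623] 0 [88,94,140,222]))) (.node (.leaf (.up 6 2789 [623] 0 [94,140,166])) (.leaf (.up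 5 3229 [610] 0 [87,103,244])))) (.node (.node (.leaf (.up 6 3432 [610] 0 [87,42,127])) (.leaf (.up 4 2793 [645] 1169 [57,56,116,128]))) (.node (.leaf (.up 5 1396 [670] 55 [57,55,155,12])) (.leaf (.up 5 1715 [610] 0 [57,94,160]))))) (.node (.node (.node (.leaf (.up 5 284 [631] 1193 [57,94,89,247])) (.leaf (.up 4 443 [670] 55 [104,232]))) (.node (.leaf (.up 5 1935 [645] 1169 [55,42,228])) (.leaf (.up 7 2483 [610] 0 [87,56,42,4])))) (.node (.node (.leaf (.up 3 2899 [610] 0 [57,155,177])) (.leaf (.up 5 3500 [610] 0 [87,110,104,3]))) (.leaf (.up 2 483 [645] 1169 [57,93,123,77]))))) (.node (.node (.node (.node (.leaf (.up 5 1297 [670] 55 [57,110,103,106])) (.leaf (.up 2 3029 [623] 0 [57,56,104,34]))) (.node (.leaf (.up 6 1212 [623] 0 [57,104,225])) (.leaf (.up 6 2498 [645] 1169 [57,110,155,187])))) (.node (.node (.leaf (.up 5 1137 [670] 55 [88,232])) (.leaf (.up 4 1023 [645] 1169 [87,176,96]))) (.node (.leaf (.up 4 368 [670] 55 [89,231]))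 (.leaf (.up 3 522 [631] 1193 [56,140,242]))))) (.node (.node (.node (.leaf (.up 5 314 [670] 55 [88,93,43,154])) (.leaf (.up 6 1232 [645] 1169 [110,90,198]))) (.node (.leaf (.up 5 817 [670] 55 [87,94,43,128])) (.leaf (.up 3 2489 [623] 0 [44,145])))) (.node (.node (.leaf (.up 5 3614 [623] 0 [57,94,103,212])) (.leaf (.up 6 2749 [670] 55 [87,110,37]))) (.leaf (.up 5 3129 [631] 1193 [57,110,44,181]))))))) (.node (.node (.node (.node (.node (.node (.leaf (.up 3 1403 [623] 0 [87,93,116,113])) (.leaf (.up 4 756 [631] 1193 [57,110,103,100]))) (.node (.leaf (.up 3 2118 [645] 1169 [87,110,104,5])) (.leaf (.up 4 1964 [670] 55 [87,110,43,171])))) (.node (.node (.leaf (.up 5 482 [631] 1193 [88,94,123,31])) (.leaf (.up 3 3622 [645] 1169 [57,93,116,170]))) (.node (.leaf (.up 5 560 [645] 1169 [56,140,244])) (.leaf (.up 4 2985 [670] 55 [57,55,103,133]))))) (.node (.node (.node (.leaf (.up 3 595 [631] 1193 [88,94,44,92])) (.leaf (.up 5 1956 [631]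 1193 [88,103,211]))) (.node (.leaf (.up 3 2951 [623] 0 [57,94,42,97])) (.leaf (.up 3 239 [645] 1169 [155,240])))) (.node (.node (.leaf (.up 6 1782 [631] 1193 [88,55,227])) (.leaf (.up 4 1667 [645] 1169 [87,110,140,247]))) (.leaf (.up 4 572 [670] 55 [88,44,61]))))) (.node (.node (.node (.node (.leaf (.up 6 439 [645] 1169 [88,110,103,182])) (.leaf (.up 7 652 [645] 1169 [88,93,140,219]))) (.node (.leaf (.up 5 3053 [670] 55 [57,94,139])) (.leaf (.up 4 381 [670] 55 [87,93,90,221])))) (.node (.node (.leaf (.up 3 2612 [623] 0 [88,56,140,216])) (.leaf (.up 4 460 [645] 1169 [88,94,100]))) (.node (.leaf (.up 5 2751 [631] 1193 [57,55,89,190])) (.leaf (.up 6 230 [645] 1169 [57,55,104,37]))))) (.node (.node (.node (.leaf (.up 4 3160 [610] 0 [110,155,134])) (.leaf (.up 6 2230 [670] 55 [88,110,140,214]))) (.node (.leaf (.up 3 1453 [670] 55 [57,110,140,198])) (.leaf (.up 6 1782 [610] 0 [57,42,191])))) (.node (.node (.leaf (.up 5 265 [645] 1169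 [57,55,123,138])) (.leaf (.up 3 3589 [670] 55 [57,94,140,217]))) (.leaf (.up 6 3574 [631] 1193 [88,93,161])))))) (.node (.node (.node (.node (.node (.leaf (.up 6 2085 [623] 0 [87,55,42,201])) (.leaf (.up 4 1240 [645] 1169 [57,55,176,237]))) (.node (.leaf (.up 5 1755 [670] 55 [57,110,103,221])) (.leaf (.up 5 1601 [610] 0 [88,93,90,34])))) (.node (.node (.leaf (.up 6 2650 [631] 1193 [87,56,104,215])) (.leaf (.up 6 3519 [623] 0 [57,55,42,106]))) (.node (.leaf (.up 6 383 [631] 1193 [87,55,89,220])) (.leaf (.up 5 1844 [631] 1193 [87,123,177]))))) (.node (.node (.node (.leaf (.up 5 1017 [631] 1193 [94,111])) (.leaf (.up 6 3708 [670] 55 [87,93,44,175]))) (.node (.leaf (.up 5 999 [631] 1193 [56,116,171])) (.leaf (.up 3 1487 [623] 0 [57,110,114])))) (.node (.node (.leaf (.up 4 3148 [645] 1169 [55,123,239])) (.leaf (.up 6 2667 [631] 1193 [57,94,140,215]))) (.leaf (.up 6 2413 [610] 0 [57,91,181]))))) (.node (.node (.node (.node (.leaf (.up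 4 1932 [610] 0 [88,55,42,120])) (.leaf (.up 5 3163 [631] 1193 [57,55,103,246]))) (.node (.leaf (.up 4 3484 [645] 1169 [88,56,90,227])) (.leaf (.up 5 1941 [645] 1169 [87,110,176,108])))) (.node (.node (.leaf (.up 6 1620 [645] 1169 [88,93,43,76])) (.leaf (.up 3 1010 [610] 0 [57,110,89,34]))) (.leaf (.up 7 1553 [610] 0 [110,89,222])))) (.node (.node (.node (.leaf (.up 4 1996 [631] 1193 [87,93,89,234])) (.leaf (.up 4 1964 [645] 1169 [88,110,116,35]))) (.node (.leaf (.up 4 146 [645] 1169 [57,93,104,35])) (.leaf (.up 6 1032 [623] 0 [87,110,103,242])))) (.node (.node (.leaf (.up 5 3181 [645] 1169 [94,140,232])) (.leaf (.up 5 1186 [610] 0 [57,93,91,244]))) (.leaf (.up 2 2286 [645] 1169 [57,56,43,181])))))))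

noncomputable def trio5_10011 : Tr TStep :=
  .node (.node (.node (.node (.node (.node (.node (.leaf (.up 6 1690 [645] 1169 [88,56,116,152])) (.leaf (.up 7 3115 [623] 0 [57,55,42,201]))) (.node (.leaf (.up 3 2210 [631] 1193 [55,42,3])) (.leaf (.up 4 2664 [670] 55 [88,55,155,210])))) (.node (.node (.leaf (.up 5 3429 [623] 0 [56,140,137])) (.leaf (.up 4 1730 [645] 1169 [57,56,42,175]))) (.node (.leaf (.up 5 2048 [670] 55 [87,94,103,125])) (.leaf (.up 3 1839 [645] 1169 [94,91,122]))))) (.node (.node (.node (.leaf (.up 3 2899 [670] 55 [57,42,172])) (.leaf (.up 5 1226 [623] 0 [94,116,23]))) (.node (.leaf (.up 6 2534 [631] 1193 [57,110,155,186])) (.leaf (.up 4 2520 [631] 1193 [87,110,44,230])))) (.node (.node (.leaf (.up 5 3336 [670] 55 [55,155,197])) (.leaf (.up 6 3462 [645] 1169 [87,94,44,187]))) (.leaf (.up 6 1692 [631] 1193 [94,43,3]))))) (.node (.node (.node (.node (.leaf (.up 4 2051 [623] 0 [87,94,115])) (.leaf (.up 5 2507 [670]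 55 [87,44,141]))) (.node (.leaf (.up 7 2915 [670] 55 [88,56,42,112])) (.leaf (.up 4 1109 [631] 1193 [56,91,151])))) (.node (.node (.leaf (.up 5 1003 [631] 1193 [88,93,237])) (.leaf (.up 6 1885 [631] 1193 [87,110,116,102]))) (.node (.leaf (.up 6 1606 [645] 1169 [57,110,89,247])) (.leaf (.up 5 1425 [645] 1169 [88,56,89,150]))))) (.node (.node (.node (.leaf (.up 5 584 [631] 1193 [87,56,155,125])) (.leaf (.up 5 3429 [645] 1169 [57,93,140,221]))) (.node (.leaf (.up 6 2657 [645] 1169 [87,55,44,15])) (.leaf (.up 3 2271 [645] 1169 [87,93,103,106])))) (.node (.node (.leaf (.up 7 2493 [631] 1193 [87,56,127])) (.leaf (.up 2 1882 [645] 1169 [88,56,103,236]))) (.leaf (.up 4 3108 [631] 1193 [88,44,169])))))) (.node (.node (.node (.node (.node (.leaf (.up 5 3261 [631] 1193 [87,93,91,166])) (.leaf (.up 7 3583 [631] 1193 [56,116,146]))) (.node (.leaf (.up 5 1186 [670] 55 [57,43,186])) (.leaf (.up 6 1936 [670] 55 [87,56,90,23])))) (.node (.node (.leaf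 (.up 3 2860 [670] 55 [88,55,123,96])) (.leaf (.up 4 2385 [645] 1169 [93,42,8]))) (.node (.leaf (.up 6 2502 [623] 0 [87,56,91,209])) (.leaf (.up 3 165 [631] 1193 [110,89,213]))))) (.node (.node (.node (.leaf (.up 4 357 [645] 1169 [55,104,148])) (.leaf (.up 5 1301 [610] 0 [88,94,140,60]))) (.node (.leaf (.up 5 3274 [670] 55 [88,56,103,126])) (.leaf (.up 4 3385 [610] 0 [88,55,90,239])))) (.node (.node (.leaf (.up 3 2210 [610] 0 [88,110,188])) (.leaf (.up 5 913 [631] 1193 [57,104,209]))) (.leaf (.up 5 3170 [670] 55 [88,56,91,69]))))) (.node (.node (.node (.node (.leaf (.up 5 509 [610] 0 [88,93,90,120])) (.leaf (.up 5 156 [645] 1169 [110,43,224]))) (.node (.leaf (.up 5 2046 [670] 55 [110,123,163])) (.leaf (.up 3 595 [623] 0 [94,42,184])))) (.node (.node (.leaf (.up 5 3321 [645] 1169 [88,56,42,242])) (.leaf (.up 6 2360 [645] 1169 [57,93,44,159]))) (.leaf (.up 5 3278 [623] 0 [87,110,140,204])))) (.node (.node (.node (.leaf (.up 6 3762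 [670] 55 [57,176,109])) (.leaf (.up 6 2265 [670] 55 [55,176,71]))) (.node (.leaf (.up 5 1186 [645] 1169 [57,55,103,240])) (.leaf (.up 4 2923 [645] 1169 [57,44,239])))) (.node (.node (.leaf (.up 3 1161 [631] 1193 [176,193])) (.leaf (.up 4 145 [631] 1193 [88,110,116,163]))) (.leaf (.up 4 2346 [670] 55 [56,116,208]))))))) (.node (.node (.node (.node (.node (.node (.leaf (.up 4 3340 [631] 1193 [93,44,138])) (.leaf (.up 4 3160 [623] 0 [94,90,211]))) (.node (.leaf (.up 4 3667 [631] 1193 [88,94,176,197])) (.leaf (.up 4 2605 [670] 55 [104,0])))) (.node (.node (.leaf (.up 6 3708 [623] 0 [87,123,126])) (.leaf (.up 4 152 [645] 1169 [56,44,46]))) (.node (.leaf (.up 6 2534 [670] 55 [57,94,42,164])) (.leaf (.up 6 448 [645] 1169 [93,42,31]))))) (.node (.node (.node (.leaf (.up 4 2842 [610] 0 [57,94,104,174])) (.leaf (.up 2 2522 [610] 0 [94,91,195]))) (.node (.leaf (.up 5 482 [670] 55 [87,43,36])) (.leaf (.up 3 595 [645] 1169 [56,155,16])))) (.node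 (.node (.leaf (.up 2 483 [670] 55 [87,55,140,143])) (.leaf (.up 4 367 [631] 1193 [110,42,129]))) (.leaf (.up 4 1712 [645] 1169 [88,221]))))) (.node (.node (.node (.node (.leaf (.up 5 3500 [670] 55 [55,89,112])) (.leaf (.up 4 2883 [631] 1193 [88,93,103,247]))) (.node (.leaf (.up 6 3591 [670] 55 [93,182])) (.leaf (.up 5 3345 [645] 1169 [57,110,104,207])))) (.node (.node (.leaf (.up 5 770 [610] 0 [44,5])) (.leaf (.up 4 2092 [645] 1169 [87,94,89,238]))) (.node (.leaf (.up 4 1043 [610] 0 [57,176,172])) (.leaf (.up 7 490 [645] 1169 [57,55,89,2]))))) (.node (.node (.node (.leaf (.up 5 1465 [670] 55 [87,110,116,231])) (.leaf (.up 2 1087 [631] 1193 [87,91,141]))) (.node (.leaf (.up 4 320 [623] 0 [88,55,91,207])) (.leaf (.up 6 536 [670] 55 [88,110,90,131])))) (.node (.node (.leaf (.up 6 1496 [670] 55 [123,174])) (.leaf (.up 5 920 [670] 55 [93,176,226]))) (.leaf (.up 5 1115 [631] 1193 [93,116,3])))))) (.node (.node (.node (.node (.node (.leaf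 (.up 6 181 [670] 55 [88,155,139])) (.leaf (.up 7 73 [623] 0 [87,94,176,158]))) (.node (.leaf (.up 6 2280 [670] 55 [87,56,140,36])) (.leaf (.up 5 1868 [670] 55 [88,55,116,188])))) (.node (.node (.leaf (.up 7 555 [670] 55 [94,44,33])) (.leaf (.up 4 238 [631] 1193 [57,94,140,0]))) (.node (.leaf (.up 5 2589 [645] 1169 [110,42,168])) (.leaf (.up 4 985 [670] 55 [56,42,115]))))) (.node (.node (.node (.leaf (.up 4 927 [631] 1193 [110,42,2])) (.leaf (.up 6 2163 [610] 0 [57,56,103,223]))) (.node (.leaf (.up 2 3201 [623] 0 [87,56,104,247])) (.leaf (.up 6 194 [645] 1169 [87,56,155,201])))) (.node (.node (.leaf (.up 4 1645 [623] 0 [57,55,123,190])) (.leaf (.up 4 2060 [610] 0 [88,55,89,180]))) (.leaf (.up 4 1310 [623] 0 [57,90,208]))))) (.node (.node (.node (.node (.leaf (.up 5 1364 [623] 0 [87,94,116,142])) (.leaf (.up 4 3610 [645] 1169 [89,129]))) (.node (.leaf (.up 6 3728 [670] 55 [205])) (.leaf (.up 4 1021 [670] 55 [88,93,116,227])))) (.node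 (.node (.leaf (.up 6 2454 [631] 1193 [87,56,91,136])) (.leaf (.up 5 2938 [631] 1193 [88,94,44,223]))) (.leaf (.up 4 1531 [623] 0 [57,56,184])))) (.node (.node (.node (.leaf (.up 7 1293 [631] 1193 [57,93,91,158])) (.leaf (.up 4 1049 [610] 0 [88,110,188]))) (.node (.leaf (.up 6 1188 [645] 1169 [57,123,210])) (.leaf (.up 6 2533 [645] 1169 [87,55,43,96])))) (.node (.node (.leaf (.up 4 2804 [631] 1193 [123,8])) (.leaf (.up 7 3514 [670] 55 [87,123,31]))) (.leaf (.up 6 2809 [623] 0 [57,56,42,185])))))))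

noncomputable def trio5_1001 : Tr TStep := .node trio5_10010 trio5_10011

noncomputable def trio5_100 : Tr TStep := .node trio5_1000 trio5_1001

noncomputable def trio5_10100 : Tr TStep :=
  .node (.node (.node (.node (.node (.node (.node (.leaf (.up 6 1705 [610] 0 [88,94,43,99])) (.leaf (.up 2 1994 [610] 0 [57,55,90,196]))) (.node (.leaf (.up 4 1475 [670] 55 [88,93,90,160])) (.leaf (.up 4 2060 [645] 1169 [87,56,43,20])))) (.node (.node (.leaf (.up 5 2501 [610] 0 [88,55,116,129])) (.leaf (.up 4 676 [610] 0 [88,110,104,173]))) (.node (.leaf (.up 5 833 [623] 0 [88,110,176,144])) (.leaf (.up 2 2696 [645] 1169 [43,182]))))) (.node (.node (.node (.leaf (.up 5 350 [645] 1169 [57,56,104,195])) (.leaf (.up 4 2879 [610] 0 [88,44,106]))) (.node (.leaf (.up 6 3279 [645] 1169 [87,89,130])) (.leaf (.up 5 1494 [610] 0 [88,110,43,191])))) (.node (.node (.leaf (.up 4 985 [631] 1193 [56,42,177])) (.leaf (.up 4 1025 [610] 0 [88,93,90,34]))) (.leaf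 (.up 4 2690 [645] 1169 [56,185]))))) (.node (.node (.node (.node (.leaf (.up 5 2399 [631] 1193 [87,42,214])) (.leaf (.up 4 3496 [623] 0 [87,110,89,174]))) (.node (.leaf (.up 5 1268 [645] 1169 [87,110,89,188])) (.leaf (.up 6 3236 [610] 0 [57,90,132])))) (.node (.node (.leaf (.up 7 112 [645] 1169 [56,176,59])) (.leaf (.up 5 2362 [645] 1169 [88,56,104,3]))) (.node (.leaf (.up 2 1203 [645] 1169 [88,94,89,113])) (.leaf (.up 5 560 [623] 0 [88,94,43,166]))))) (.node (.node (.node (.leaf (.up 5 2344 [623] 0 [57,94,116,97])) (.leaf (.up 6 1476 [645] 1169 [88,155,244]))) (.node (.leaf (.up 6 712 [610] 0 [87,55,89,125])) (.leaf (.up 4 3258 [623] 0 [57,94,91,128])))) (.node (.node (.leaf (.up 5 2819 [670] 55 [57,110,90,239])) (.leaf (.up 6 3203 [645] 1169 [88,55,90,112]))) (.leaf (.up 4 3732 [623] 0 [56,90,135])))))) (.node (.node (.node (.node (.node (.leaf (.up 3 3265 [645] 1169 [87,110,140,144])) (.leaf (.up 5 153 [631] 1193 [88,110,44,36])))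 (.node (.leaf (.up 6 3733 [645] 1169 [93,104,137])) (.leaf (.up 6 1215 [645] 1169 [87,93,104,111])))) (.node (.node (.leaf (.up 6 3303 [670] 55 [88,56,123,23])) (.leaf (.up 7 689 [645] 1169 [87,93,123,92]))) (.node (.leaf (.up 5 1252 [670] 55 [57,91,25])) (.leaf (.up 4 2354 [610] 0 [87,110,155,236]))))) (.node (.node (.node (.leaf (.up 3 3498 [623] 0 [57,56,104,246])) (.leaf (.up 5 923 [670] 55 [57,93,116,1]))) (.node (.leaf (.up 4 2928 [623] 0 [88,110,89,137])) (.leaf (.up 4 822 [670] 55 [87,110,116,34])))) (.node (.node (.leaf (.up 6 1000 [645] 1169 [88,56,155,100])) (.leaf (.up 4 1564 [631] 1193 [94,44,208]))) (.leaf (.up 5 807 [670] 55 [87,93,116,212]))))) (.node (.node (.node (.node (.leaf (.up 3 687 [670] 55 [57,94,140,4])) (.leaf (.up 3 432 [670] 55 [87,94,155,29]))) (.node (.leaf (.up 3 2899 [623] 0 [57,94,123,35])) (.leaf (.up 4 1239 [610] 0 [87,56,89,160])))) (.node (.node (.leaf (.up 5 891 [631] 1193 [57,176,238])) (.leaf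 (.up 7 339 [645] 1169 [88,55,43,236]))) (.node (.leaf (.up 4 1363 [631] 1193 [87,55,42,160])) (.leaf (.up 4 1980 [670] 55 [88,56,89,111]))))) (.node (.node (.node (.leaf (.up 5 767 [645] 1169 [88,56,123,151])) (.leaf (.up 4 3430 [645] 1169 [93,155,184]))) (.node (.leaf (.up 6 3203 [670] 55 [88,103,221])) (.leaf (.up 6 2052 [610] 0 [57,55,42,60])))) (.node (.node (.leaf (.up 5 2549 [623] 0 [88,104,192])) (.leaf (.up 6 315 [631] 1193 [87,89,59]))) (.leaf (.up 6 1982 [670] 55 [88,94,103,73]))))))) (.node (.node (.node (.node (.node (.node (.leaf (.up 6 2224 [623] 0 [88,94,91,159])) (.leaf (.up 5 3520 [631] 1193 [88,56,176,9]))) (.node (.leaf (.up 4 1891 [623] 0 [87,110,155,187])) (.leaf (.up 7 17 [645] 1169 [87,56,91,129])))) (.node (.node (.leaf (.up 5 2751 [610] 0 [88,140,161])) (.leaf (.up 6 1572 [623] 0 [88,110,44,216]))) (.node (.leaf (.up 5 1853 [645] 1169 [93,44,33])) (.leaf (.up 5 2089 [623] 0 [87,94,90,219]))))) (.node (.node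 (.node (.leaf (.up 4 2338 [610] 0 [56,42,171])) (.leaf (.up 6 2867 [670] 55 [88,94,103,186]))) (.node (.leaf (.up 6 2154 [623] 0 [57,55,89,199])) (.leaf (.up 6 3208 [670] 55 [87,55,104,180])))) (.node (.node (.leaf (.up 6 2934 [645] 1169 [87,103,13])) (.leaf (.up 5 54 [623] 0 [57,55,176,74]))) (.leaf (.up 5 2987 [645] 1169 [88,93,89,200]))))) (.node (.node (.node (.node (.leaf (.up 2 2013 [631] 1193 [88,140,117])) (.leaf (.up 7 3267 [670] 55 [88,44,8]))) (.node (.leaf (.up 7 4 [631] 1193 [88,110,123,231])) (.leaf (.up 4 3721 [610] 0 [87,110,123,152])))) (.node (.node (.leaf (.up 5 1868 [623] 0 [56,44,4])) (.leaf (.up 5 3646 [623] 0 [87,94,116,200]))) (.node (.leaf (.up 6 242 [645] 1169 [56,103,138])) (.leaf (.up 5 3019 [610] 0 [88,93,176,35]))))) (.node (.node (.node (.leaf (.up 6 907 [631] 1193 [88,56,155,220])) (.leaf (.up 7 2416 [623] 0 [88,94,90,197]))) (.node (.leaf (.up 5 780 [631] 1193 [88,55,104,46])) (.leaf (.up 5 1863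 [631] 1193 [94,155,159])))) (.node (.node (.leaf (.up 6 1740 [645] 1169 [57,55,140,12])) (.leaf (.up 6 1437 [645] 1169 [57,110,44,194]))) (.leaf (.up 4 3398 [631] 1193 [88,55,103,108])))))) (.node (.node (.node (.node (.node (.leaf (.up 6 1573 [623] 0 [57,141])) (.leaf (.up 5 1700 [645] 1169 [55,43,127]))) (.node (.leaf (.up 5 1634 [670] 55 [55,91,102])) (.leaf (.up 4 2450 [631] 1193 [57,104,157])))) (.node (.node (.leaf (.up 5 662 [623] 0 [87,94,90,234])) (.leaf (.up 4 1045 [623] 0 [88,103,237]))) (.node (.leaf (.up 4 1049 [670] 55 [57,55,140,247])) (.leaf (.up 5 3388 [610] 0 [56,155,247]))))) (.node (.node (.node (.leaf (.up 3 1627 [623] 0 [88,56,103,227])) (.leaf (.up 4 187 [645] 1169 [87,55,91,158]))) (.node (.leaf (.up 5 1488 [670] 55 [88,243])) (.leaf (.up 4 3696 [631] 1193 [57,56,116,73])))) (.node (.node (.leaf (.up 3 174 [645] 1169 [88,55,104,16])) (.leaf (.up 4 1393 [645] 1169 [88,56,89,4]))) (.leaf (.up 4 2982 [631] 1193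 [57,42,158]))))) (.node (.node (.node (.node (.leaf (.up 3 1403 [631] 1193 [91,202])) (.leaf (.up 4 2029 [670] 55 [56,103,23]))) (.node (.leaf (.up 4 1086 [623] 0 [87,56,89,95])) (.leaf (.up 4 1109 [670] 55 [87,56,116,154])))) (.node (.node (.leaf (.up 5 1425 [631] 1193 [57,91,178])) (.leaf (.up 5 299 [631] 1193 [88,56,43,187]))) (.leaf (.up 6 940 [610] 0 [110,43,130])))) (.node (.node (.node (.leaf (.up 5 790 [670] 55 [110,203])) (.leaf (.up 5 1303 [631] 1193 [87,43,219]))) (.node (.leaf (.up 6 1129 [670] 55 [88,110,90,129])) (.leaf (.up 6 2494 [631] 1193 [57,55,241])))) (.node (.node (.leaf (.up 5 1039 [631] 1193 [87,140,198])) (.leaf (.up 6 3168 [670] 55 [57,110,123,205]))) (.leaf (.up 4 2313 [645] 1169 [94,7])))))))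

noncomputable def trio5_10101 : Tr TStep :=
  .node (.node (.node (.node (.node (.node (.node (.leaf (.up 2 3791 [670] 55 [93,42,114])) (.leaf (.up 4 2983 [631] 1193 [87,94,104,196]))) (.node (.leaf (.up 3 1627 [631] 1193 [87,94,155,240])) (.leaf (.up 4 2038 [645] 1169 [87,110,90,247])))) (.node (.node (.leaf (.up 4 3725 [623] 0 [88,195])) (.leaf (.up 5 2037 [623] 0 [57,43,204]))) (.node (.leaf (.up 6 1078 [645] 1169 [88,56,123,159])) (.leaf (.up 6 1323 [670] 55 [88,110,155,216]))))) (.node (.node (.node (.leaf (.up 6 3319 [623] 0 [57,110,91,118])) (.leaf (.up 5 2633 [670] 55 [57,89,172]))) (.node (.leaf (.up 4 2605 [631] 1193 [88,110,129])) (.leaf (.up 5 586 [670] 55 [57,94,43,76])))) (.node (.node (.leaf (.up 5 2071 [631] 1193 [88,55,43,174])) (.leaf (.up 5 1076 [670] 55 [88,110,44,171]))) (.leaf (.up 6 604 [670] 55 [93,89,15]))))) (.node (.node (.node (.node (.leaf (.up 6 1068 [670] 55 [57,93,90,179])) (.leaf (.up 4 648 [623]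 0 [88,104,237]))) (.node (.leaf (.up 7 131 [623] 0 [57,55,42,241])) (.leaf (.up 3 1658 [670] 55 [57,94,155,197])))) (.node (.node (.leaf (.up 1 424 [670] 55 [88,93,90,113])) (.leaf (.up 5 3155 [645] 1169 [88,155,74]))) (.node (.leaf (.up 4 1451 [645] 1169 [88,93,238])) (.leaf (.up 5 2477 [670] 55 [110,90,27]))))) (.node (.node (.node (.leaf (.up 6 2323 [631] 1193 [57,55,140,77])) (.leaf (.up 5 1930 [631] 1193 [94,104,224]))) (.node (.leaf (.up 4 3150 [645] 1169 [87,94,42,101])) (.leaf (.up 4 2545 [645] 1169 [87,110,103,202])))) (.node (.node (.leaf (.up 2 2522 [670] 55 [94,123,138])) (.leaf (.up 4 2427 [623] 0 [94,155,118]))) (.leaf (.up 4 3765 [670] 55 [57,94,140,192])))))) (.node (.node (.node (.node (.node (.leaf (.up 4 213 [610] 0 [87,56,123,3])) (.leaf (.up 5 558 [670] 55 [93,140,148]))) (.node (.leaf (.up 3 2619 [670] 55 [93,155,29])) (.leaf (.up 7 2409 [623] 0 [57,56,140,196])))) (.node (.node (.leaf (.up 5 2155 [670] 55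 [87,94,104,111])) (.leaf (.up 6 2360 [631] 1193 [56,44,181]))) (.node (.leaf (.up 5 1420 [610] 0 [88,93,176,232])) (.leaf (.up 6 672 [631] 1193 [110,90,22]))))) (.node (.node (.node (.leaf (.up 3 1706 [645] 1169 [87,94,90,128])) (.leaf (.up 4 3364 [631] 1193 [87,94,89,182]))) (.node (.leaf (.up 4 2427 [631] 1193 [88,93,42,198])) (.leaf (.up 5 586 [645] 1169 [87,55,43,186])))) (.node (.node (.leaf (.up 2 2391 [670] 55 [104,187])) (.leaf (.up 5 3111 [623] 0 [87,145]))) (.leaf (.up 6 764 [670] 55 [88,56,155,11]))))) (.node (.node (.node (.node (.leaf (.up 3 2860 [631] 1193 [57,93,44,33])) (.leaf (.root 9))) (.node (.leaf (.up 2 3425 [670] 55 [43,218])) (.leaf (.up 5 1562 [645] 1169 [87,56,116,25])))) (.node (.node (.leaf (.up 6 3288 [670] 55 [57,55,90,35])) (.leaf (.up 7 1928 [623] 0 [57,56,89,205]))) (.leaf (.up 5 1512 [610] 0 [57,56,140,152])))) (.node (.node (.node (.leaf (.up 3 2491 [670] 55 [88,93,219])) (.leaf (.up 6 3471 [670]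 55 [88,94,103,154]))) (.node (.leaf (.up 3 3313 [645] 1169 [88,123,22])) (.leaf (.up 4 2690 [631] 1193 [57,56,44,152])))) (.node (.node (.leaf (.up 4 1321 [670] 55 [87,104,244])) (.leaf (.up 1 2 [670] 55 [57,56,155,114]))) (.leaf (.up 3 711 [623] 0 [87,155,111]))))))) (.node (.node (.node (.node (.node (.node (.leaf (.up 5 3191 [631] 1193 [57,94,44,111])) (.leaf (.up 4 341 [645] 1169 [56,155,73]))) (.node (.leaf (.up 4 2313 [670] 55 [110,155,27])) (.leaf (.up 5 364 [670] 55 [88,55,241])))) (.node (.node (.leaf (.up 4 385 [623] 0 [87,55,42,233])) (.leaf (.up 6 3748 [645] 1169 [93,155,186]))) (.node (.leaf (.up 4 1200 [670] 55 [88,110,123,6])) (.leaf (.up 5 1837 [623] 0 [57,42,152]))))) (.node (.node (.node (.leaf (.up 5 2996 [610] 0 [57,94,155,240])) (.leaf (.up 5 1301 [631] 1193 [88,94,42,213]))) (.node (.leaf (.up 6 184 [631] 1193 [110,201])) (.leaf (.up 5 3703 [623] 0 [87,55,89,214])))) (.node (.node (.leaf (.up 4 127 [623] 0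 [57,94,90,75])) (.leaf (.up 5 1180 [645] 1169 [87,94,214]))) (.leaf (.up 6 2831 [631] 1193 [57,94,90,177]))))) (.node (.node (.node (.node (.leaf (.up 5 2594 [670] 55 [57,94,2])) (.leaf (.up 5 1533 [670] 55 [87,55,140,240]))) (.node (.leaf (.up 6 1595 [645] 1169 [88,56,104,246])) (.leaf (.up 5 2922 [645] 1169 [110,155,117])))) (.node (.node (.leaf (.up 6 2636 [645] 1169 [88,93,44,71])) (.leaf (.up 4 2351 [670] 55 [91,168]))) (.node (.leaf (.up 4 887 [670] 55 [110,116,228])) (.leaf (.up 3 2243 [670] 55 [88,116,124]))))) (.node (.node (.node (.leaf (.up 6 3438 [670] 55 [88,110,89,102])) (.leaf (.up 7 1273 [670] 55 [56,176,201]))) (.node (.leaf (.up 5 759 [631] 1193 [57,93,117])) (.leaf (.up 6 2856 [670] 55 [57,55,42,37])))) (.node (.node (.leaf (.up 6 2946 [631] 1193 [88,56,123,187])) (.leaf (.up 3 2489 [631] 1193 [87,56,91,2]))) (.leaf (.up 5 2177 [610] 0 [87,93,91,10])))))) (.node (.node (.node (.node (.node (.leaf (.up 6 1540 [670]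 55 [93,116,18])) (.leaf (.up 6 3735 [645] 1169 [110,123,182]))) (.node (.leaf (.up 6 1705 [645] 1169 [94,155,105])) (.leaf (.up 6 2663 [623] 0 [57,93,155,109])))) (.node (.node (.leaf (.up 4 3212 [631] 1193 [88,55,121])) (.leaf (.up 5 1159 [645] 1169 [57,110,103,234]))) (.node (.leaf (.up 6 2831 [623] 0 [140,226])) (.leaf (.up 3 806 [610] 0 [57,56,116,179]))))) (.node (.node (.node (.leaf (.up 2 3029 [631] 1193 [57,110,43,230])) (.leaf (.up 5 2439 [610] 0 [87,90,131]))) (.node (.leaf (.up 5 2632 [610] 0 [87,55,42,160])) (.leaf (.up 4 1184 [631] 1193 [88,56,90,180])))) (.node (.node (.leaf (.up 6 147 [645] 1169 [57,110,89,208])) (.leaf (.up 6 182 [623] 0 [57,55,89,173]))) (.leaf (.up 5 986 [631] 1193 [57,94,104,219]))))) (.node (.node (.node (.node (.leaf (.up 6 3716 [623] 0 [88,110,103,247])) (.leaf (.up 6 2524 [670] 55 [94,155,157]))) (.node (.leaf (.up 5 2980 [645] 1169 [88,94,123,201])) (.leaf (.up 4 3266 [645] 1169 [55,90,76]))))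 (.node (.node (.leaf (.up 5 345 [645] 1169 [87,93,44,205])) (.leaf (.up 6 1399 [610] 0 [87,110,43,131]))) (.leaf (.up 4 2545 [623] 0 [88,55,140,125])))) (.node (.node (.node (.leaf (.up 5 2795 [645] 1169 [88,56,89,11])) (.leaf (.up 4 1239 [645] 1169 [56,77]))) (.node (.leaf (.up 5 509 [631] 1193 [88,55,89,205])) (.leaf (.up 6 1751 [631] 1193 [55,44,132])))) (.node (.node (.leaf (.up 6 3112 [670] 55 [88,248])) (.leaf (.up 5 350 [670] 55 [110,140,59]))) (.leaf (.up 4 975 [610] 0 [89,60])))))))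

noncomputable def trio5_1010 : Tr TStep := .node trio5_10100 trio5_10101

noncomputable def trio5_10110 : Tr TStep :=
  .node (.node (.node (.node (.node (.node (.node (.leaf (.up 6 1129 [645] 1169 [87,55,89,162])) (.leaf (.up 6 2536 [631] 1193 [93,42,111]))) (.node (.leaf (.up 4 523 [623] 0 [57,55,232])) (.leaf (.up 5 573 [623] 0 [56,42,15])))) (.node (.node (.leaf (.up 2 2286 [670] 55 [57,55,155,121])) (.leaf (.up 5 3155 [610] 0 [88,55,176,98]))) (.node (.leaf (.up 4 298 [645] 1169 [88,55,90,182])) (.leaf (.up 4 938 [670] 55 [88,93,42,201]))))) (.node (.node (.node (.leaf (.up 6 1414 [623] 0 [57,55,155,221])) (.leaf (.up 5 870 [610] 0 [44,18]))) (.node (.leaf (.up 6 2848 [670] 55 [55,43,177])) (.leaf (.up 5 186 [645] 1169 [87,56,176,227])))) (.node (.node (.leaf (.up 6 2852 [645] 1169 [88,56,103,35])) (.leaf (.up 6 1486 [610] 0 [57,123,115]))) (.leaf (.up 4 1287 [670] 55 [87,55,42,154]))))) (.node (.node (.node (.node (.leaf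 (.up 6 2454 [645] 1169 [87,110,104,9])) (.leaf (.up 3 525 [645] 1169 [57,55,89,152]))) (.node (.leaf (.up 4 1932 [623] 0 [87,94,155,205])) (.leaf (.up 5 2153 [623] 0 [116,106])))) (.node (.node (.leaf (.up 5 3443 [645] 1169 [57,94,42,179])) (.leaf (.up 6 2940 [670] 55 [56,89,216]))) (.node (.leaf (.up 5 3388 [670] 55 [110,176,101])) (.leaf (.up 3 2063 [670] 55 [87,104,61]))))) (.node (.node (.node (.leaf (.up 4 715 [670] 55 [57,42,1])) (.leaf (.up 6 2749 [610] 0 [56,116,187]))) (.node (.leaf (.up 7 2527 [631] 1193 [57,140,164])) (.leaf (.up 5 1094 [670] 55 [55,43,133])))) (.node (.node (.leaf (.up 4 996 [645] 1169 [110,116,0])) (.leaf (.up 6 3414 [610] 0 [88,110,90,2]))) (.leaf (.up 5 626 [670] 55 [94,89,108])))))) (.node (.node (.node (.node (.node (.leaf (.up 6 1489 [631] 1193 [56,43,36])) (.leaf (.up 6 2066 [631] 1193 [88,43,129]))) (.node (.leaf (.up 5 600 [670] 55 [87,56,116,133])) (.leaf (.up 4 2427 [610] 0 [88,89,207]))))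 (.node (.node (.leaf (.up 4 12 [623] 0 [87,93,140,166])) (.leaf (.up 5 3691 [670] 55 [87,110,91,166]))) (.node (.leaf (.up 6 1030 [645] 1169 [56,140,211])) (.leaf (.up 4 43 [631] 1193 [88,56,91,185]))))) (.node (.node (.node (.leaf (.up 5 3093 [670] 55 [88,89,11])) (.leaf (.up 6 62 [631] 1193 [57,93,16]))) (.node (.leaf (.up 5 264 [631] 1193 [88,94,90,105])) (.leaf (.up 6 1922 [610] 0 [87,42,164])))) (.node (.node (.leaf (.up 7 861 [670] 55 [88,93,103,101])) (.leaf (.up 2 2013 [645] 1169 [110,140,128]))) (.leaf (.up 4 1016 [631] 1193 [87,55,89,131]))))) (.node (.node (.node (.node (.leaf (.up 7 3557 [623] 0 [87,55,103,136])) (.leaf (.up 6 261 [631] 1193 [88,55,116,139]))) (.node (.leaf (.up 5 2501 [631] 1193 [57,110,123,11])) (.leaf (.up 6 1140 [645] 1169 [93,140,174])))) (.node (.node (.leaf (.up 5 2862 [631] 1193 [57,110,155,159])) (.leaf (.up 4 1363 [670] 55 [110,103,107]))) (.node (.leaf (.up 7 1507 [670] 55 [57,93,123,168]))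 (.leaf (.up 6 3511 [670] 55 [55,42,99]))))) (.node (.node (.node (.leaf (.up 6 2782 [610] 0 [57,89,192])) (.leaf (.up 5 1180 [631] 1193 [93,91,219]))) (.node (.leaf (.up 4 614 [610] 0 [88,94,149])) (.leaf (.up 6 2194 [623] 0 [110,91,226])))) (.node (.node (.leaf (.up 6 3197 [645] 1169 [57,110,43,34])) (.leaf (.up 5 3662 [645] 1169 [57,56,89,174]))) (.leaf (.up 7 3025 [631] 1193 [87,55,91,242]))))))) (.node (.node (.node (.node (.node (.node (.leaf (.up 4 3611 [631] 1193 [87,56,42,76])) (.leaf (.up 6 466 [623] 0 [87,110,89,59]))) (.node (.leaf (.up 6 1650 [670] 55 [88,110,123,202])) (.leaf (.up 6 2658 [670] 55 [57,94,103,5])))) (.node (.node (.leaf (.up 5 1717 [631] 1193 [88,140,75])) (.leaf (.up 3 3622 [670] 55 [110,140,114]))) (.node (.leaf (.up 6 1515 [610] 0 [57,44,248])) (.leaf (.up 4 2960 [670] 55 [88,93,89,205]))))) (.node (.node (.node (.leaf (.up 6 2336 [645] 1169 [57,91,193])) (.leaf (.up 3 848 [610] 0 [94,104,216]))) (.node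 (.leaf (.up 6 1746 [631] 1193 [136])) (.leaf (.up 7 3761 [645] 1169 [56,116,127])))) (.node (.node (.leaf (.up 5 3264 [645] 1169 [57,110,104,13])) (.leaf (.up 4 523 [631] 1193 [57,94,89,182]))) (.leaf (.up 4 2605 [610] 0 [57,55,114]))))) (.node (.node (.node (.node (.leaf (.up 5 3652 [670] 55 [93,91,112])) (.leaf (.up 5 3043 [670] 55 [87,91,226]))) (.node (.leaf (.up 6 657 [670] 55 [57,44,59])) (.leaf (.up 3 556 [645] 1169 [110,212])))) (.node (.node (.leaf (.up 6 1270 [670] 55 [87,94,44,109])) (.leaf (.up 4 1059 [645] 1169 [87,110,103,187]))) (.node (.leaf (.up 3 2941 [631] 1193 [57,93,91,173])) (.leaf (.up 6 3524 [645] 1169 [87,43,142]))))) (.node (.node (.node (.leaf (.up 4 1675 [631] 1193 [87,176,201])) (.leaf (.up 4 1086 [670] 55 [87,94,176,105]))) (.node (.leaf (.up 2 3201 [631] 1193 [57,55,90,181])) (.leaf (.up 6 663 [623] 0 [57,93,89,209])))) (.node (.node (.leaf (.up 5 3738 [645] 1169 [87,93,89,96])) (.leaf (.up 6 1602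 [631] 1193 [87,90,170]))) (.leaf (.up 5 1252 [645] 1169 [88,110,116,30])))))) (.node (.node (.node (.node (.node (.leaf (.up 6 2809 [610] 0 [57,56,90,71])) (.leaf (.up 3 2063 [623] 0 [87,93,104,121]))) (.node (.leaf (.up 6 157 [670] 55 [88,93,103,165])) (.leaf (.up 4 2664 [631] 1193 [87,110,116,1])))) (.node (.node (.leaf (.up 5 1634 [645] 1169 [123,76])) (.leaf (.up 6 2280 [623] 0 [57,110,89,172]))) (.node (.leaf (.up 3 1865 [631] 1193 [87,56,44,187])) (.leaf (.up 5 3631 [670] 55 [56,43,208]))))) (.node (.node (.node (.leaf (.up 5 1853 [610] 0 [57,94,44,222])) (.leaf (.up 5 3722 [631] 1193 [55,43,190]))) (.node (.leaf (.up 4 2150 [670] 55 [87,91,0])) (.leaf (.up 5 1210 [645] 1169 [93,44,22])))) (.node (.node (.leaf (.up 4 1798 [670] 55 [88,55,140,152])) (.leaf (.up 6 407 [670] 55 [91,161]))) (.leaf (.up 5 9 [631] 1193 [94,91,25]))))) (.node (.node (.node (.node (.leaf (.up 6 677 [645] 1169 [57,43,128])) (.leaf (.up 5 2717 [670]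 55 [57,55,103,129]))) (.node (.leaf (.up 5 3022 [623] 0 [88,56,116,101])) (.leaf (.up 4 3771 [631] 1193 [87,55,90,115])))) (.node (.node (.leaf (.up 4 614 [623] 0 [87,56,91,96])) (.leaf (.up 6 3591 [645] 1169 [87,42,230]))) (.leaf (.up 6 3305 [631] 1193 [87,56,176,165])))) (.node (.node (.node (.leaf (.up 5 2225 [623] 0 [94,176,122])) (.leaf (.up 5 450 [610] 0 [57,56,91,237]))) (.node (.leaf (.up 3 1955 [645] 1169 [57,94,91,2])) (.leaf (.up 6 563 [670] 55 [55,44,246])))) (.node (.node (.leaf (.up 5 378 [631] 1193 [57,55,89,152])) (.leaf (.up 4 2783 [645] 1169 [87,93,176,130]))) (.leaf (.up 3 1487 [670] 55 [93,103,159])))))))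

noncomputable def trio5_10111 : Tr TStep :=
  .node (.node (.node (.node (.node (.node (.node (.leaf (.up 6 2898 [645] 1169 [94,44,201])) (.leaf (.up 4 3613 [623] 0 [93,155,169]))) (.node (.leaf (.up 5 1076 [610] 0 [44,223])) (.leaf (.up 6 1491 [631] 1193 [57,56,103,224])))) (.node (.node (.leaf (.up 5 1039 [670] 55 [57,56,103,236])) (.leaf (.up 4 363 [631] 1193 [57,94,116,213]))) (.node (.leaf (.up 5 344 [645] 1169 [93,89,209])) (.leaf (.up 3 806 [631] 1193 [88,90,76]))))) (.node (.node (.node (.leaf (.up 6 793 [631] 1193 [88,110,90,141])) (.leaf (.up 6 2569 [631] 1193 [57,110,90,218]))) (.node (.leaf (.up 3 3622 [610] 0 [88,110,42,29])) (.leaf (.up 7 2957 [631] 1193 [87,94,42,106])))) (.node (.node (.leaf (.up 5 284 [670] 55 [57,110,116,96])) (.leaf (.up 5 3599 [631] 1193 [57,93,104,130]))) (.leaf (.up 4 3725 [670] 55 [55,123,60]))))) (.node (.node (.node (.node (.leaf (.up 5 1584 [645] 1169 [57,56,103,21])) (.leaf (.up 5 3237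 [670] 55 [57,123,25]))) (.node (.leaf (.up 5 2420 [645] 1169 [88,93,104,174])) (.leaf (.up 4 1964 [631] 1193 [94,155,98])))) (.node (.node (.leaf (.up 5 952 [623] 0 [57,93,104,203])) (.leaf (.up 4 2780 [623] 0 [88,56,123,213]))) (.node (.leaf (.up 5 891 [670] 55 [57,93,42,175])) (.leaf (.up 3 3498 [631] 1193 [93,42,238]))))) (.node (.node (.node (.leaf (.up 6 185 [670] 55 [57,155,209])) (.leaf (.up 5 3173 [670] 55 [88,55,42,209]))) (.node (.leaf (.up 5 438 [670] 55 [88,110,140,203])) (.leaf (.up 5 2260 [645] 1169 [87,140,184])))) (.node (.node (.leaf (.up 5 2030 [645] 1169 [57,93,140,33])) (.leaf (.up 5 3468 [645] 1169 [87,93,116,22]))) (.leaf (.up 6 2045 [631] 1193 [88,94,90,210])))))) (.node (.node (.node (.node (.node (.leaf (.up 4 523 [670] 55 [87,110,155,127])) (.leaf (.up 4 2060 [631] 1193 [88,123,228]))) (.node (.leaf (.up 6 2542 [670] 55 [93,89,235])) (.leaf (.up 5 3317 [610] 0 [166])))) (.node (.node (.leaf (.up 4 41 [645]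 1169 [87,56,140,218])) (.leaf (.up 5 3301 [645] 1169 [57,110,157]))) (.node (.leaf (.up 6 1103 [623] 0 [88,55,103,213])) (.leaf (.up 6 1650 [623] 0 [89,108]))))) (.node (.node (.node (.leaf (.up 5 3722 [670] 55 [87,94,44,72])) (.leaf (.up 5 459 [610] 0 [87,93,90,192]))) (.node (.leaf (.up 6 1079 [670] 55 [88,94,155,159])) (.leaf (.up 5 1680 [670] 55 [87,94,91,230])))) (.node (.node (.leaf (.up 6 740 [623] 0 [57,93,90,128])) (.leaf (.up 6 2375 [645] 1169 [88,55,104,129]))) (.leaf (.up 5 586 [631] 1193 [57,56,103,210]))))) (.node (.node (.node (.node (.leaf (.up 6 1739 [623] 0 [55,140,29])) (.leaf (.up 1 0 [670] 55 [94,176,11]))) (.node (.leaf (.up 5 455 [610] 0 [87,94,89,11])) (.leaf (.up 4 3020 [670] 55 [56,91,211])))) (.node (.node (.leaf (.up 4 363 [645] 1169 [87,110,174])) (.leaf (.up 6 2758 [670] 55 [57,56,140,126]))) (.leaf (.up 6 3688 [670] 55 [94,155,150])))) (.node (.node (.node (.leaf (.up 7 598 [631] 1193 [88,93,116,243]))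 (.leaf (.up 5 2746 [645] 1169 [87,56,44,72]))) (.node (.leaf (.up 5 397 [645] 1169 [56,103,30])) (.leaf (.up 6 2062 [645] 1169 [110,90,144])))) (.node (.node (.leaf (.up 4 3289 [631] 1193 [57,110,43,138])) (.leaf (.up 1 2 [623] 0 [87,93,91,227]))) (.leaf (.up 1 8 [610] 0 [88,56,123,21]))))))) (.node (.node (.node (.node (.node (.node (.leaf (.up 6 195 [623] 0 [91,97])) (.leaf (.up 6 3604 [631] 1193 [110,140,223]))) (.node (.leaf (.up 3 1706 [631] 1193 [87,55,123,11])) (.leaf (.up 4 2520 [610] 0 [88,56,123,21])))) (.node (.node (.leaf (.up 4 3409 [610] 0 [88,55,103,75])) (.leaf (.up 4 3603 [623] 0 [94,89,21]))) (.node (.leaf (.up 5 3244 [645] 1169 [57,90,212])) (.leaf (.up 3 1943 [645] 1169 [57,56,89,74]))))) (.node (.node (.node (.leaf (.up 2 1828 [645] 1169 [57,56,116,112])) (.leaf (.up 7 2836 [670] 55 [87,94,116,218]))) (.node (.leaf (.up 6 3257 [670] 55 [57,116,177])) (.leaf (.up 6 2693 [631] 1193 [88,89,182])))) (.node (.node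 (.leaf (.up 5 3419 [645] 1169 [87,90,71])) (.leaf (.up 4 1531 [670] 55 [57,94,123,197]))) (.leaf (.up 4 363 [670] 55 [88,110,176,15]))))) (.node (.node (.node (.node (.leaf (.up 4 1987 [645] 1169 [57,94,90,138])) (.leaf (.up 5 1792 [631] 1193 [88,94,43,149]))) (.node (.leaf (.up 5 2390 [631] 1193 [57,91,128])) (.leaf (.up 4 1123 [645] 1169 [88,55,103,235])))) (.node (.node (.leaf (.up 6 863 [645] 1169 [88,55,155,202])) (.leaf (.up 5 296 [645] 1169 [87,56,42,188]))) (.node (.leaf (.up 7 81 [610] 0 [57,93,104,113])) (.leaf (.up 6 453 [670] 55 [57,90,151]))))) (.node (.node (.node (.leaf (.up 2 1994 [631] 1193 [88,89,189])) (.leaf (.up 6 3687 [645] 1169 [57,93,176,203]))) (.node (.leaf (.up 6 2488 [631] 1193 [88,93,210])) (.leaf (.up 3 1401 [670] 55 [57,43,129])))) (.node (.node (.leaf (.up 6 1908 [670] 55 [88,93,103,107])) (.leaf (.up 6 1497 [631] 1193 [55,104,242]))) (.leaf (.up 5 1301 [623] 0 [88,94,44,122])))))) (.node (.node (.node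 (.node (.node (.leaf (.up 5 3541 [631] 1193 [44,99])) (.leaf (.up 5 497 [610] 0 [87,55,116,111]))) (.node (.leaf (.up 5 817 [645] 1169 [87,110,103,69])) (.leaf (.up 5 647 [631] 1193 [88,43,235])))) (.node (.node (.leaf (.up 5 1148 [670] 55 [56,123,222])) (.leaf (.up 5 3151 [623] 0 [57,93,116,15]))) (.node (.leaf (.up 5 773 [670] 55 [88,55,44,166])) (.leaf (.up 5 1358 [670] 55 [57,55,104,106]))))) (.node (.node (.node (.leaf (.up 3 2535 [631] 1193 [87,104,213])) (.leaf (.up 6 2562 [670] 55 [94,140,13]))) (.node (.leaf (.up 5 2632 [670] 55 [87,94,91,138])) (.leaf (.up 4 2520 [670] 55 [87,55,123,165])))) (.node (.node (.leaf (.up 5 3453 [670] 55 [87,110,42,46])) (.leaf (.up 2 2286 [623] 0 [88,104,175]))) (.leaf (.up 6 2693 [670] 55 [88,110,176,4]))))) (.node (.node (.node (.node (.leaf (.up 5 1569 [631] 1193 [87,94,123,219])) (.leaf (.up 3 317 [670] 55 [110,103,35]))) (.node (.leaf (.up 5 50 [610] 0 [57,56,116,109])) (.leaf (.up 5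 3619 [670] 55 [87,176,9])))) (.node (.node (.leaf (.up 5 723 [645] 1169 [87,94,98])) (.leaf (.up 7 1371 [610] 0 [57,94,90,77]))) (.leaf (.up 2 1087 [645] 1169 [88,56,43,225])))) (.node (.node (.node (.leaf (.up 4 1643 [645] 1169 [110,89,36])) (.leaf (.up 4 2196 [645] 1169 [93,89,151]))) (.node (.leaf (.up 4 2879 [631] 1193 [91,145])) (.leaf (.up 4 3673 [670] 55 [55,44,245])))) (.node (.node (.leaf (.up 3 3450 [670] 55 [56,155,31])) (.leaf (.up 6 1814 [610] 0 [110,176,34]))) (.leaf (.up 5 2632 [645] 1169 [56,145])))))))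

noncomputable def trio5_1011 : Tr TStep := .node trio5_10110 trio5_10111

noncomputable def trio5_101 : Tr TStep := .node trio5_1010 trio5_1011

noncomputable def trio5_10 : Tr TStep := .node trio5_100 trio5_101

noncomputable def trio5_11000 : Tr TStep :=
  .node (.node (.node (.node (.node (.node (.node (.leaf (.root 2)) (.leaf (.up 3 711 [645] 1169 [88,56,30]))) (.node (.leaf (.up 4 1856 [645] 1169 [87,93,176,119])) (.leaf (.up 5 3269 [631] 1193 [55,140,240])))) (.node (.node (.leaf (.up 5 999 [670] 55 [88,110,192])) (.leaf (.up 4 2955 [645] 1169 [88,110,42,108]))) (.node (.leaf (.up 4 3667 [623] 0 [87,94,140,61])) (.leaf (.up 5 3062 [670] 55 [57,93,91,160]))))) (.node (.node (.node (.leaf (.up 6 2543 [623] 0 [93,155,157])) (.leaf (.up 6 3235 [631] 1193 [55,91,231]))) (.node (.leaf (.up 6 2028 [670] 55 [87,93,91,204])) (.leaf (.up 4 1522 [610] 0 [57,93,44,240])))) (.node (.node (.leaf (.up 6 3263 [623] 0 [87,110,44,7])) (.leaf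 (.up 4 1220 [645] 1169 [87,94,140,151]))) (.leaf (.up 6 1241 [631] 1193 [110,90,225]))))) (.node (.node (.node (.node (.leaf (.up 6 1390 [645] 1169 [55,44,5])) (.leaf (.up 5 989 [670] 55 [87,55,155,0]))) (.node (.leaf (.up 3 3265 [670] 55 [88,56,44,121])) (.leaf (.up 5 3523 [670] 55 [57,93,116,135])))) (.node (.node (.leaf (.up 6 1899 [670] 55 [57,43,146])) (.leaf (.up 6 1051 [645] 1169 [88,55,90,197]))) (.node (.leaf (.up 3 2210 [670] 55 [57,42,198])) (.leaf (.up 6 3687 [670] 55 [88,56,90,7]))))) (.node (.node (.node (.leaf (.up 4 2780 [631] 1193 [57,94,43,235])) (.leaf (.up 2 2191 [670] 55 [88,94,236]))) (.node (.leaf (.up 5 2311 [645] 1169 [57,94,43,163])) (.leaf (.up 5 528 [623] 0 [87,56,140,231])))) (.node (.node (.leaf (.up 4 3673 [645] 1169 [57,55,116,180])) (.leaf (.up 2 1828 [670] 55 [94,123,185]))) (.leaf (.up 5 1301 [670] 55 [57,140,154])))))) (.node (.node (.node (.node (.node (.leaf (.up 5 3639 [631] 1193 [93,104,16]))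 (.leaf (.up 2 3791 [610] 0 [57,56,103,13]))) (.node (.leaf (.up 6 1774 [645] 1169 [88,55,42,211])) (.leaf (.up 5 3388 [631] 1193 [57,103,225])))) (.node (.node (.leaf (.up 5 3541 [670] 55 [87,91,95])) (.leaf (.up 6 3571 [670] 55 [57,140,194]))) (.node (.leaf (.up 4 1451 [631] 1193 [57,110,44,99])) (.leaf (.up 5 1793 [623] 0 [57,93,206]))))) (.node (.node (.node (.leaf (.up 6 1885 [623] 0 [57,94,123,111])) (.leaf (.up 3 556 [670] 55 [88,93,1]))) (.node (.leaf (.up 4 2379 [610] 0 [87,56,104,231])) (.leaf (.up 5 380 [645] 1169 [87,110,104,15])))) (.node (.node (.leaf (.up 4 2863 [631] 1193 [88,155,8])) (.leaf (.up 3 114 [670] 55 [88,89,236]))) (.leaf (.up 4 1675 [670] 55 [57,93,116,223]))))) (.node (.node (.node (.node (.leaf (.up 5 2654 [645] 1169 [94,155,145])) (.leaf (.up 2 502 [670] 55 [57,56,44,150]))) (.node (.leaf (.up 3 1684 [623] 0 [87,56,116,129])) (.leaf (.up 6 1606 [670] 55 [87,94,43,143])))) (.node (.node (.leaf (.up 4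 908 [670] 55 [88,110,89,205])) (.leaf (.up 7 2747 [631] 1193 [87,94,90,190]))) (.node (.leaf (.up 4 1826 [623] 0 [57,94,44,132])) (.leaf (.up 5 3353 [610] 0 [57,110,90,196]))))) (.node (.node (.node (.leaf (.up 6 2756 [610] 0 [57,55,90,169])) (.leaf (.up 4 2879 [645] 1169 [94,91,124]))) (.node (.leaf (.up 3 3358 [645] 1169 [57,94,123,113])) (.leaf (.up 4 1643 [670] 55 [55,116,29])))) (.node (.node (.leaf (.up 6 2750 [610] 0 [55,44,153])) (.leaf (.up 3 36 [670] 55 [88,110,176,226]))) (.leaf (.up 3 724 [610] 0 [93,176,232]))))))) (.node (.node (.node (.node (.node (.node (.leaf (.up 4 1085 [670] 55 [57,56,232])) (.leaf (.up 6 2078 [670] 55 [88,56,44,124]))) (.node (.leaf (.up 3 1010 [631] 1193 [89,184])) (.leaf (.up 6 943 [670] 55 [94,42,149])))) (.node (.node (.leaf (.up 4 1459 [623] 0 [87,55,123,118])) (.leaf (.up 3 2963 [610] 0 [57,110,11]))) (.node (.leaf (.up 4 2574 [631] 1193 [88,93,42,188])) (.leaf (.up 4 1254 [631] 1193 [57,176,77])))))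 (.node (.node (.node (.leaf (.up 7 2890 [670] 55 [87,56,89,182])) (.leaf (.up 6 3026 [645] 1169 [87,123,109]))) (.node (.leaf (.up 4 927 [645] 1169 [57,55,104,178])) (.leaf (.up 5 1479 [623] 0 [88,56,89,73])))) (.node (.node (.leaf (.up 7 2031 [631] 1193 [55,176,165])) (.leaf (.up 4 2842 [645] 1169 [88,89,25]))) (.leaf (.up 6 3776 [631] 1193 [56,155,243]))))) (.node (.node (.node (.node (.leaf (.up 6 541 [623] 0 [88,55,189])) (.leaf (.up 5 2159 [645] 1169 [88,93,116,200]))) (.node (.leaf (.up 5 2439 [645] 1169 [88,56,116,75])) (.leaf (.up 5 1966 [670] 55 [56,90,231])))) (.node (.node (.leaf (.up 6 2161 [645] 1169 [90,203])) (.leaf (.up 5 1276 [670] 55 [140,6]))) (.node (.leaf (.up 6 3349 [623] 0 [94,44,198])) (.leaf (.up 4 2545 [610] 0 [88,94,140,18]))))) (.node (.node (.node (.leaf (.up 2 2881 [645] 1169 [87,93,91,59])) (.leaf (.up 6 2902 [645] 1169 [88,110,42,232]))) (.node (.leaf (.up 6 3575 [670] 55 [57,93,43,11])) (.leaf (.up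 5 2177 [631] 1193 [88,110,140,119])))) (.node (.node (.leaf (.up 6 1543 [631] 1193 [87,110,155,182])) (.leaf (.up 6 1295 [670] 55 [87,55,103,154]))) (.leaf (.up 2 3037 [631] 1193 [57,56,89,127])))))) (.node (.node (.node (.node (.node (.leaf (.up 5 1998 [670] 55 [88,110,123,1])) (.leaf (.up 6 3432 [631] 1193 [87,94,123,13]))) (.node (.leaf (.up 3 3265 [631] 1193 [57,55,140,109])) (.leaf (.up 5 2996 [645] 1169 [57,94,116,77])))) (.node (.node (.leaf (.up 5 2718 [645] 1169 [57,56,140,9])) (.leaf (.up 4 2550 [623] 0 [44,152]))) (.node (.leaf (.up 4 3044 [670] 55 [56,90,149])) (.leaf (.up 5 1879 [631] 1193 [57,56,43,9]))))) (.node (.node (.node (.leaf (.up 5 835 [645] 1169 [87,110,104,74])) (.leaf (.up 6 430 [631] 1193 [57,110,155,159]))) (.node (.leaf (.up 4 320 [610] 0 [155,100])) (.leaf (.up 3 1111 [631] 1193 [87,94,89,231])))) (.node (.node (.leaf (.up 7 2587 [645] 1169 [87,89,230])) (.leaf (.up 6 1799 [610] 0 [56,140,209]))) (.leaf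 (.up 3 2893 [670] 55 [55,42,107]))))) (.node (.node (.node (.node (.leaf (.up 6 1242 [623] 0 [88,110,123,178])) (.leaf (.up 4 1198 [670] 55 [87,110,123,149]))) (.node (.leaf (.up 6 799 [631] 1193 [87,110,176,33])) (.leaf (.up 4 2026 [670] 55 [88,55,155,215])))) (.node (.node (.leaf (.up 6 3286 [631] 1193 [56,89,228])) (.leaf (.up 5 3646 [610] 0 [87,89,34]))) (.leaf (.up 6 1202 [623] 0 [88,56,176,211])))) (.node (.node (.node (.leaf (.up 1 6 [610] 0 [88,110,103,5])) (.leaf (.up 4 1542 [623] 0 [55,90,139]))) (.node (.leaf (.up 6 3375 [645] 1169 [57,94,89,207])) (.leaf (.up 5 3747 [623] 0 [88,110,116,120])))) (.node (.node (.leaf (.up 6 266 [631] 1193 [87,94,123,207])) (.leaf (.up 4 110 [645] 1169 [93,155,73]))) (.leaf (.up 4 3787 [645] 1169 [55,140,171])))))))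

noncomputable def trio5_11001 : Tr TStep :=
  .node (.node (.node (.node (.node (.node (.node (.leaf (.up 5 1297 [631] 1193 [87,55,76])) (.leaf (.up 6 3304 [623] 0 [88,56,241]))) (.node (.leaf (.up 3 2458 [631] 1193 [56,103,77])) (.leaf (.up 4 3150 [623] 0 [88,56,176,189])))) (.node (.node (.leaf (.root 8)) (.leaf (.up 5 565 [645] 1169 [72]))) (.node (.leaf (.up 5 2471 [645] 1169 [87,110,89,199])) (.leaf (.up 3 2941 [670] 55 [110,43,102]))))) (.node (.node (.node (.leaf (.up 3 2326 [631] 1193 [87,56,91,139])) (.leaf (.up 5 2631 [623] 0 [57,56,140,236]))) (.node (.leaf (.up 4 3483 [623] 0 [88,55,44,144])) (.leaf (.up 5 293 [631] 1193 [88,110,103,69])))) (.node (.node (.leaf (.up 5 1186 [623] 0 [110,104,60])) (.leaf (.up 6 2697 [623] 0 [87,93,90,205]))) (.leaf (.up 1 3 [623] 0 [88,94,89,237]))))) (.node (.node (.node (.node (.leaf (.up 5 3523 [645] 1169 [88,93,89,248])) (.leaf (.up 4 1628 [645] 1169 [57,94,42,150]))) (.node (.leaf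 (.up 5 435 [631] 1193 [57,110,43,240])) (.leaf (.up 6 1543 [610] 0 [87,94,91,202])))) (.node (.node (.leaf (.up 5 1474 [623] 0 [88,93,44,243])) (.leaf (.up 5 2563 [645] 1169 [88,110,91,137]))) (.node (.leaf (.up 5 1547 [645] 1169 [88,55,89,134])) (.leaf (.up 5 1998 [610] 0 [87,56,176,112]))))) (.node (.node (.node (.leaf (.up 4 1709 [631] 1193 [57,56,42,120])) (.leaf (.up 5 733 [610] 0 [88,56,116,141]))) (.node (.leaf (.up 7 2521 [670] 55 [87,55,200])) (.leaf (.up 6 2667 [645] 1169 [88,55,103,5])))) (.node (.node (.leaf (.up 7 1594 [645] 1169 [87,93,91,171])) (.leaf (.up 2 2269 [631] 1193 [110,43,119]))) (.leaf (.up 4 3517 [623] 0 [87,56,140,1])))))) (.node (.node (.node (.node (.node (.leaf (.up 5 2344 [670] 55 [87,110,104,241])) (.leaf (.up 4 752 [670] 55 [88,116,15]))) (.node (.leaf (.up 6 1558 [623] 0 [93,89,151])) (.leaf (.up 4 880 [631] 1193 [88,94,116,105])))) (.node (.node (.leaf (.up 2 2191 [645] 1169 [110,116,33])) (.leaf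 (.up 5 1859 [610] 0 [87,93,91,10]))) (.node (.leaf (.up 5 1494 [623] 0 [88,93,176,204])) (.leaf (.up 3 2458 [670] 55 [88,110,140,168]))))) (.node (.node (.node (.leaf (.up 6 2516 [623] 0 [57,110,139])) (.leaf (.up 5 3336 [610] 0 [88,110,103,9]))) (.node (.leaf (.up 3 1518 [670] 55 [56,123,130])) (.leaf (.up 4 822 [631] 1193 [55,161])))) (.node (.node (.leaf (.up 4 2599 [645] 1169 [57,55,155,106])) (.leaf (.up 2 1473 [645] 1169 [87,140,34]))) (.leaf (.up 4 3044 [645] 1169 [55,43,111]))))) (.node (.node (.node (.node (.leaf (.up 3 432 [645] 1169 [57,55,89,76])) (.leaf (.up 5 539 [645] 1169 [57,94,42,243]))) (.node (.leaf (.up 5 3632 [623] 0 [87,56,140,181])) (.leaf (.up 5 3740 [623] 0 [44,23])))) (.node (.node (.leaf (.up 4 2664 [645] 1169 [88,55,176,238])) (.leaf (.up 5 1601 [670] 55 [88,55,148]))) (.leaf (.up 5 467 [670] 55 [87,93,44,144])))) (.node (.node (.node (.leaf (.up 4 3696 [645] 1169 [88,93,89,21])) (.leaf (.up 5 1696 [631]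 1193 [57,56,155,76]))) (.node (.leaf (.up 5 2184 [610] 0 [87,110,91,205])) (.leaf (.up 6 1782 [670] 55 [87,94,155,213])))) (.node (.node (.leaf (.up 6 3485 [623] 0 [57,55,240])) (.leaf (.up 6 2364 [631] 1193 [87,42,96]))) (.leaf (.up 3 3498 [670] 55 [57,56,176,138]))))))) (.node (.node (.node (.node (.node (.node (.leaf (.up 7 900 [631] 1193 [88,171])) (.leaf (.up 6 3208 [623] 0 [55,193]))) (.node (.leaf (.up 6 3714 [645] 1169 [55,155,59])) (.leaf (.up 5 3077 [623] 0 [57,93,104,137])))) (.node (.node (.leaf (.up 5 780 [670] 55 [55,90,27])) (.leaf (.up 4 1798 [610] 0 [57,93,123,202]))) (.node (.leaf (.up 5 3033 [631] 1193 [123,230])) (.leaf (.up 6 1960 [631] 1193 [57,110,155,177]))))) (.node (.node (.node (.leaf (.up 4 1329 [645] 1169 [87,93,116,1])) (.leaf (.up 6 2905 [610] 0 [57,94,176,135]))) (.node (.leaf (.up 5 1252 [623] 0 [87,94,140,214])) (.leaf (.up 4 3350 [645] 1169 [87,55,42,190])))) (.node (.node (.leaf (.up 3 165 [645]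 1169 [110,91,126])) (.leaf (.up 5 3181 [670] 55 [87,55,97]))) (.leaf (.up 4 3548 [623] 0 [88,93,159]))))) (.node (.node (.node (.node (.leaf (.up 4 145 [623] 0 [57,93,155,136])) (.leaf (.up 6 409 [670] 55 [87,55,42,33]))) (.node (.leaf (.up 1 168 [670] 55 [87,94,116,175])) (.leaf (.up 3 3455 [645] 1169 [88,93,44,106])))) (.node (.node (.leaf (.up 5 45 [623] 0 [57,104,106])) (.leaf (.up 5 2568 [670] 55 [57,94,245]))) (.node (.leaf (.up 4 3160 [631] 1193 [87,55,116,146])) (.leaf (.up 3 2571 [631] 1193 [57,110,153]))))) (.node (.node (.node (.leaf (.up 4 715 [623] 0 [87,123,188])) (.leaf (.up 6 1051 [631] 1193 [55,104,125]))) (.node (.leaf (.up 3 2326 [670] 55 [57,94,104,150])) (.leaf (.up 5 164 [631] 1193 [88,110,123,119])))) (.node (.node (.leaf (.up 2 2522 [645] 1169 [88,94,140,180])) (.leaf (.up 4 798 [631] 1193 [87,94,91,95]))) (.leaf (.up 4 3787 [670] 55 [88,110,90,175])))))) (.node (.node (.node (.node (.node (.leaf (.up 4 222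 [631] 1193 [87,56,155,200])) (.leaf (.up 5 2309 [670] 55 [57,93,123,174]))) (.node (.leaf (.up 7 2979 [645] 1169 [57,93,239])) (.leaf (.up 5 1624 [670] 55 [57,94,104,77])))) (.node (.node (.leaf (.up 5 1562 [623] 0 [87,110,44,173])) (.leaf (.up 7 2023 [623] 0 [104,115]))) (.node (.leaf (.up 5 2874 [645] 1169 [57,94,140,96])) (.leaf (.up 3 1428 [670] 55 [87,93,44,106]))))) (.node (.node (.node (.leaf (.up 5 3379 [631] 1193 [87,145])) (.leaf (.up 2 2602 [670] 55 [57,94,44,218]))) (.node (.leaf (.up 6 765 [645] 1169 [87,55,213])) (.leaf (.up 4 320 [645] 1169 [88,93,43,142])))) (.node (.node (.leaf (.up 2 3791 [631] 1193 [57,94,202])) (.leaf (.up 6 261 [645] 1169 [57,55,91,222]))) (.leaf (.up 5 80 [645] 1169 [57,110,44,31]))))) (.node (.node (.node (.node (.leaf (.up 7 3351 [631] 1193 [110,91,33])) (.leaf (.up 5 3129 [623] 0 [57,44,121]))) (.node (.leaf (.up 5 2795 [670] 55 [42,142])) (.leaf (.up 4 41 [631] 1193 [87,56,44,158])))) (.node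 (.node (.leaf (.up 6 1119 [631] 1193 [57,55,91,76])) (.leaf (.up 7 2058 [670] 55 [88,93,91,183]))) (.leaf (.up 5 977 [670] 55 [87,56,89,149])))) (.node (.node (.node (.leaf (.up 6 53 [670] 55 [88,176,148])) (.leaf (.up 5 560 [631] 1193 [56,104,3]))) (.node (.leaf (.up 6 1527 [670] 55 [57,55,42,72])) (.leaf (.up 5 1549 [645] 1169 [56,116,148])))) (.node (.node (.leaf (.up 5 116 [645] 1169 [87,93,103,201])) (.leaf (.up 4 3496 [645] 1169 [43,97]))) (.leaf (.up 6 3227 [631] 1193 [55,116,36])))))))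

noncomputable def trio5_1100 : Tr TStep := .node trio5_11000 trio5_11001

noncomputable def trio5_11010 : Tr TStep :=
  .node (.node (.node (.node (.node (.node (.node (.leaf (.up 6 2738 [670] 55 [55,90,213])) (.leaf (.up 5 3419 [631] 1193 [88,91,27]))) (.node (.leaf (.up 5 731 [645] 1169 [94,44,167])) (.leaf (.up 6 2800 [623] 0 [57,55,176,98])))) (.node (.node (.leaf (.up 3 3498 [645] 1169 [88,94,91,187])) (.leaf (.up 2 2881 [610] 0 [93,42,189]))) (.node (.leaf (.up 4 3663 [670] 55 [94,140,232])) (.leaf (.up 4 1155 [670] 55 [87,110,89,131]))))) (.node (.node (.node (.leaf (.up 5 3428 [670] 55 [87,56,44,0])) (.leaf (.up 6 549 [645] 1169 [87,93,155,186]))) (.node (.leaf (.up 4 41 [670] 55 [87,55,155,25])) (.leaf (.up 6 1269 [631] 1193 [91,178])))) (.node (.node (.leaf (.up 6 959 [631] 1193 [56,89,126])) (.leaf (.up 6 2174 [645] 1169 [87,55,104,3]))) (.leaf (.up 6 801 [645] 1169 [89,10]))))) (.node (.node (.node (.node (.leaf (.up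 2 2235 [645] 1169 [110,42,154])) (.leaf (.up 4 2914 [645] 1169 [93,89,168]))) (.node (.leaf (.up 4 2338 [645] 1169 [57,94,104,139])) (.leaf (.up 5 1438 [623] 0 [88,116,72])))) (.node (.node (.leaf (.up 4 1643 [623] 0 [56,155,205])) (.leaf (.up 4 1996 [645] 1169 [87,55,103,59]))) (.node (.leaf (.up 3 2243 [645] 1169 [56,116,2])) (.leaf (.up 5 1889 [670] 55 [87,55,89,182]))))) (.node (.node (.node (.leaf (.up 6 3640 [623] 0 [56,123,74])) (.leaf (.up 6 721 [610] 0 [56,43,182]))) (.node (.leaf (.up 6 3762 [631] 1193 [88,93,104,217])) (.leaf (.up 4 3675 [623] 0 [57,110,42,101])))) (.node (.node (.leaf (.up 5 24 [670] 55 [88,55,90,23])) (.leaf (.up 3 595 [610] 0 [88,94,103,1]))) (.leaf (.up 7 3230 [645] 1169 [55,116,231])))))) (.node (.node (.node (.node (.node (.leaf (.up 2 447 [623] 0 [87,176,243])) (.leaf (.up 4 3534 [670] 55 [55,43,191]))) (.node (.leaf (.up 5 1700 [670] 55 [110,42,187])) (.leaf (.up 5 2197 [631] 1193 [87,56,104,115]))))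 (.node (.node (.leaf (.up 5 1349 [670] 55 [88,94,116,209])) (.leaf (.up 3 3444 [670] 55 [110,155,164]))) (.node (.leaf (.up 5 3331 [670] 55 [88,94,43,220])) (.leaf (.up 6 3560 [631] 1193 [88,93,42,195]))))) (.node (.node (.node (.leaf (.up 5 2198 [623] 0 [87,93,123,210])) (.leaf (.up 3 1658 [631] 1193 [57,91,37]))) (.node (.leaf (.up 5 817 [610] 0 [155,0])) (.leaf (.up 6 937 [645] 1169 [88,93,155,206])))) (.node (.node (.leaf (.up 6 3413 [610] 0 [57,56,89,174])) (.leaf (.up 4 1023 [670] 55 [91,97]))) (.leaf (.up 6 664 [645] 1169 [88,93,116,108]))))) (.node (.node (.node (.node (.leaf (.up 5 815 [670] 55 [88,94,89,112])) (.leaf (.up 6 2230 [645] 1169 [87,93,123,231]))) (.node (.leaf (.up 6 789 [645] 1169 [88,94,91,72])) (.leaf (.up 2 1994 [670] 55 [57,56,44,241])))) (.node (.node (.leaf (.up 3 1735 [631] 1193 [88,176,165])) (.leaf (.up 7 1209 [623] 0 [88,110,4]))) (.node (.leaf (.up 5 1286 [631] 1193 [57,93,123,99])) (.leaf (.up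 3 3643 [623] 0 [87,94,43,23]))))) (.node (.node (.node (.leaf (.up 4 1622 [645] 1169 [88,110,104,239])) (.leaf (.up 4 1240 [623] 0 [57,93,176,205]))) (.node (.leaf (.up 6 1127 [670] 55 [88,94,116,224])) (.leaf (.up 5 3067 [610] 0 [87,94,116,226])))) (.node (.node (.leaf (.up 3 792 [631] 1193 [87,110,43,146])) (.leaf (.up 4 798 [670] 55 [44,1]))) (.leaf (.up 5 3738 [623] 0 [57,56,42,22]))))))) (.node (.node (.node (.node (.node (.node (.leaf (.up 3 3242 [631] 1193 [88,89,77])) (.leaf (.up 4 857 [623] 0 [88,110,42,195]))) (.node (.leaf (.up 6 3236 [645] 1169 [88,110,91,29])) (.leaf (.up 6 104 [645] 1169 [87,56,101])))) (.node (.node (.leaf (.up 6 563 [623] 0 [87,93,176,201])) (.leaf (.up 5 1668 [670] 55 [56,44,118]))) (.node (.leaf (.up 5 2594 [610] 0 [88,55,91,36])) (.leaf (.up 5 1061 [670] 55 [57,90,74]))))) (.node (.node (.node (.leaf (.up 4 954 [670] 55 [57,110,155,15])) (.leaf (.up 6 3716 [610] 0 [87,93,103,212]))) (.node (.leaf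 (.up 5 504 [623] 0 [110,91,4])) (.leaf (.up 4 1643 [631] 1193 [87,155,196])))) (.node (.node (.leaf (.up 5 3224 [645] 1169 [88,94,90,134])) (.leaf (.up 5 1218 [670] 55 [88,104,107]))) (.leaf (.up 4 3721 [645] 1169 [88,146]))))) (.node (.node (.node (.node (.leaf (.up 6 3735 [631] 1193 [87,94,104,106])) (.leaf (.up 6 2303 [610] 0 [88,55,43,183]))) (.node (.leaf (.up 6 1671 [631] 1193 [87,93,116,179])) (.leaf (.up 6 2824 [645] 1169 [87,94,123,241])))) (.node (.node (.leaf (.up 3 2025 [670] 55 [93,90,102])) (.leaf (.up 5 2390 [645] 1169 [94,123,203]))) (.node (.leaf (.up 5 3041 [645] 1169 [88,55,155,164])) (.leaf (.up 4 857 [631] 1193 [93,89,174]))))) (.node (.node (.node (.leaf (.up 6 3637 [645] 1169 [88,55,103,162])) (.leaf (.up 6 2411 [645] 1169 [87,110,155,221]))) (.node (.leaf (.up 3 522 [645] 1169 [87,56,43,92])) (.leaf (.up 4 1321 [645] 1169 [88,116,2])))) (.node (.node (.leaf (.up 5 808 [623] 0 [57,94,44,6])) (.leaf (.up 4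 1891 [645] 1169 [87,42,147]))) (.leaf (.up 6 175 [623] 0 [57,94,10])))))) (.node (.node (.node (.node (.node (.leaf (.up 5 3225 [645] 1169 [88,55,104,96])) (.leaf (.up 4 819 [645] 1169 [87,56,123,164]))) (.node (.leaf (.up 6 2413 [631] 1193 [87,93,91,221])) (.leaf (.up 5 833 [645] 1169 [87,110,89,197])))) (.node (.node (.leaf (.up 7 2416 [610] 0 [57,56,91,10])) (.leaf (.up 5 3419 [623] 0 [88,89,202]))) (.node (.leaf (.up 3 525 [610] 0 [88,93,90,187])) (.leaf (.up 4 1417 [670] 55 [88,90,201]))))) (.node (.node (.node (.leaf (.up 3 484 [645] 1169 [88,55,43,172])) (.leaf (.up 5 1330 [631] 1193 [88,94,16]))) (.node (.leaf (.up 6 907 [623] 0 [57,55,155,136])) (.leaf (.up 5 3301 [670] 55 [176,226])))) (.node (.node (.leaf (.up 5 2260 [623] 0 [88,93,155,248])) (.leaf (.up 3 2951 [645] 1169 [57,110,42,122]))) (.leaf (.up 5 3133 [623] 0 [93,42,97]))))) (.node (.node (.node (.node (.leaf (.up 6 2620 [631] 1193 [88,110,90,100])) (.leaf (.up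 6 2973 [670] 55 [110,43,236]))) (.node (.leaf (.up 5 989 [610] 0 [57,93,91,3])) (.leaf (.up 6 3574 [645] 1169 [93,42,126])))) (.node (.node (.leaf (.up 5 3346 [623] 0 [87,110,176,11])) (.leaf (.up 4 1309 [631] 1193 [94,43,115]))) (.leaf (.up 4 2220 [623] 0 [87,55,103,222])))) (.node (.node (.node (.leaf (.up 5 1180 [623] 0 [94,123,119])) (.leaf (.up 6 1860 [670] 55 [87,110,243]))) (.node (.leaf (.up 5 2305 [631] 1193 [57,56,43,27])) (.leaf (.up 4 3584 [623] 0 [88,55,140,228])))) (.node (.node (.leaf (.up 4 1208 [670] 55 [87,55,91,9])) (.leaf (.up 6 2848 [645] 1169 [87,55,176,238]))) (.leaf (.up 4 3594 [631] 1193 [57,55,91,92])))))))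

noncomputable def trio5_11011 : Tr TStep :=
  .node (.node (.node (.node (.node (.node (.node (.leaf (.up 5 233 [670] 55 [90,245])) (.leaf (.up 5 3247 [631] 1193 [87,94,123,15]))) (.node (.leaf (.up 5 870 [645] 1169 [57,94,104,247])) (.leaf (.up 6 3052 [631] 1193 [57,110,176,159])))) (.node (.node (.leaf (.up 4 1363 [645] 1169 [94,44,143])) (.leaf (.up 6 3537 [623] 0 [57,155,199]))) (.node (.leaf (.up 4 1675 [623] 0 [57,94,155,180])) (.leaf (.up 3 1871 [623] 0 [42,125]))))) (.node (.node (.node (.leaf (.up 5 2320 [645] 1169 [88,56,44,214])) (.leaf (.up 5 3371 [623] 0 [88,123,153]))) (.node (.leaf (.up 5 2071 [670] 55 [57,44,220])) (.leaf (.up 4 1240 [670] 55 [88,93,91,98])))) (.node (.node (.leaf (.up 5 1342 [670] 55 [56,89,75])) (.leaf (.up 4 238 [610] 0 [57,94,44,207]))) (.leaf (.up 4 927 [610] 0 [55,104,217]))))) (.node (.node (.node (.node (.leaf (.up 4 1451 [610] 0 [93,42,178])) (.leaf (.up 5 284 [645] 1169 [56,43,183])))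 (.node (.leaf (.up 6 3590 [623] 0 [87,55,90,30])) (.leaf (.up 5 1567 [670] 55 [88,55,42,165])))) (.node (.node (.leaf (.up 5 3477 [670] 55 [88,148])) (.leaf (.up 6 1954 [645] 1169 [57,55,43,159]))) (.node (.leaf (.up 5 3612 [645] 1169 [57,93,104,7])) (.leaf (.up 3 3444 [645] 1169 [57,42,10]))))) (.node (.node (.node (.leaf (.up 5 2256 [670] 55 [87,56,176,163])) (.leaf (.up 3 883 [670] 55 [57,55,103,119]))) (.node (.leaf (.up 7 73 [670] 55 [88,56,176,177])) (.leaf (.up 3 737 [645] 1169 [87,93,44,215])))) (.node (.node (.leaf (.up 4 1155 [631] 1193 [87,42,201])) (.leaf (.up 4 2038 [631] 1193 [87,93,123,134]))) (.leaf (.up 3 114 [645] 1169 [87,55,140,27])))))) (.node (.node (.node (.node (.node (.leaf (.up 7 65 [670] 55 [87,56,104,187])) (.leaf (.up 4 3223 [610] 0 [57,104,111]))) (.node (.leaf (.up 4 1675 [610] 0 [57,93,43,34])) (.leaf (.up 4 2189 [670] 55 [88,55,176,23])))) (.node (.node (.leaf (.up 4 2349 [645] 1169 [155,100])) (.leaf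 (.up 6 1448 [631] 1193 [87,94,42,112]))) (.node (.leaf (.up 2 2235 [670] 55 [57,55,140,23])) (.leaf (.up 3 1403 [670] 55 [57,94,89,221]))))) (.node (.node (.node (.leaf (.up 6 669 [670] 55 [57,93,140,154])) (.leaf (.up 6 1748 [623] 0 [87,42,192]))) (.node (.leaf (.up 6 563 [631] 1193 [88,110,44,144])) (.leaf (.up 4 946 [670] 55 [93,89,141])))) (.node (.node (.leaf (.up 4 462 [631] 1193 [88,94,104,182])) (.leaf (.up 2 1087 [623] 0 [44,130]))) (.leaf (.up 4 1449 [670] 55 [87,110,89,245]))))) (.node (.node (.node (.node (.leaf (.up 3 373 [610] 0 [57,56,89,212])) (.leaf (.up 6 2457 [670] 55 [87,110,104,77]))) (.node (.leaf (.up 3 1211 [670] 55 [87,93,176,22])) (.leaf (.up 6 3560 [645] 1169 [87,103,30])))) (.node (.node (.leaf (.up 4 985 [610] 0 [57,110,89,180])) (.leaf (.up 5 3327 [623] 0 [94,104,230]))) (.leaf (.up 4 3603 [670] 55 [87,94,43,230])))) (.node (.node (.node (.leaf (.up 6 120 [670] 55 [56,140,69])) (.leaf (.up 4 946 [645]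 1169 [88,110,104,34]))) (.node (.leaf (.up 6 886 [670] 55 [88,93,44,218])) (.leaf (.up 5 1685 [610] 0 [88,94,89,208])))) (.node (.node (.leaf (.up 5 1879 [670] 55 [88,144])) (.leaf (.up 6 941 [610] 0 [57,56,103,164]))) (.leaf (.up 4 385 [631] 1193 [87,56,155,61]))))))) (.node (.node (.node (.node (.node (.node (.leaf (.up 4 320 [631] 1193 [57,56,103,142])) (.leaf (.up 5 1742 [631] 1193 [87,93,42,133]))) (.node (.leaf (.up 5 3041 [670] 55 [57,110,43,8])) (.leaf (.up 6 3418 [645] 1169 [88,93,42,105])))) (.node (.node (.leaf (.up 5 1150 [631] 1193 [57,55,243])) (.leaf (.up 2 483 [631] 1193 [87,103,246]))) (.node (.leaf (.up 5 1805 [631] 1193 [94,44,74])) (.leaf (.up 2 2479 [631] 1193 [57,110,92]))))) (.node (.node (.node (.leaf (.up 5 155 [670] 55 [87,94,104,228])) (.leaf (.up 6 287 [623] 0 [57,91,22]))) (.node (.leaf (.up 6 2533 [623] 0 [56,116,111])) (.leaf (.up 3 556 [610] 0 [57,93,43,148])))) (.node (.node (.leaf (.up 6 3298 [645]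 1169 [103,157])) (.leaf (.up 6 1151 [631] 1193 [56,89,10]))) (.leaf (.up 4 2196 [610] 0 [88,93,155,115]))))) (.node (.node (.node (.node (.leaf (.up 3 1590 [623] 0 [57,93,103,113])) (.leaf (.up 1 8 [670] 55 [88,93,103,204]))) (.node (.leaf (.up 2 3292 [670] 55 [55,123,206])) (.leaf (.up 7 40 [670] 55 [110,90,200])))) (.node (.node (.leaf (.up 4 1219 [631] 1193 [110,116,221])) (.leaf (.up 6 3319 [670] 55 [57,110,43,163]))) (.node (.leaf (.up 4 2906 [623] 0 [93,140,190])) (.leaf (.up 3 2489 [610] 0 [110,91,154]))))) (.node (.node (.node (.leaf (.up 3 346 [645] 1169 [55,104,206])) (.leaf (.up 2 1811 [631] 1193 [110,42,29]))) (.node (.leaf (.up 5 2987 [670] 55 [88,94,91,196])) (.leaf (.up 5 2410 [610] 0 [87,93,95])))) (.node (.node (.leaf (.up 5 3317 [631] 1193 [110,91,126])) (.leaf (.up 3 737 [623] 0 [87,56,140,5]))) (.leaf (.up 5 3074 [623] 0 [57,55,123,125])))))) (.node (.node (.node (.node (.node (.leaf (.up 4 1240 [610] 0 [55,103,225]))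 (.leaf (.up 7 2628 [623] 0 [88,56,44,12]))) (.node (.leaf (.up 6 3393 [623] 0 [55,103,122])) (.leaf (.up 4 1023 [610] 0 [87,93,140,191])))) (.node (.node (.leaf (.up 7 1433 [631] 1193 [57,110,89,217])) (.leaf (.up 5 2009 [631] 1193 [88,93,193]))) (.node (.leaf (.up 6 1164 [631] 1193 [87,94,91,221])) (.leaf (.up 4 1929 [623] 0 [57,94,90,72]))))) (.node (.node (.node (.leaf (.up 6 593 [645] 1169 [57,55,43,75])) (.leaf (.up 3 825 [670] 55 [123,65]))) (.node (.leaf (.up 2 76 [670] 55 [87,94,116,65])) (.leaf (.up 5 1810 [631] 1193 [88,94,116,95])))) (.node (.node (.leaf (.up 4 3221 [610] 0 [93,116,3])) (.leaf (.up 4 2282 [645] 1169 [55,90,142]))) (.leaf (.up 5 1465 [645] 1169 [87,56,103,152]))))) (.node (.node (.node (.node (.leaf (.up 5 2823 [670] 55 [57,101])) (.leaf (.up 4 2392 [670] 55 [57,94,123,12]))) (.node (.leaf (.up 3 317 [645] 1169 [56,104,71])) (.leaf (.up 5 3346 [610] 0 [94,104,201])))) (.node (.node (.leaf (.up 4 3100 [623]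 0 [55,43,65])) (.leaf (.up 5 3074 [631] 1193 [88,56,176,193]))) (.leaf (.up 6 517 [645] 1169 [94,103,214])))) (.node (.node (.node (.leaf (.up 6 751 [670] 55 [56,155,166])) (.leaf (.up 5 3327 [610] 0 [87,110,104,3]))) (.node (.leaf (.up 3 1161 [645] 1169 [110,91,208])) (.leaf (.up 5 2300 [670] 55 [88,93,176,74])))) (.node (.node (.leaf (.up 6 1520 [631] 1193 [87,93,116,74])) (.leaf (.up 4 1155 [645] 1169 [93,100]))) (.leaf (.up 5 2877 [610] 0 [93,44,163])))))))

noncomputable def trio5_1101 : Tr TStep := .node trio5_11010 trio5_11011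

noncomputable def trio5_110 : Tr TStep := .node trio5_1100 trio5_1101

noncomputable def trio5_11100 : Tr TStep :=
  .node (.node (.node (.node (.node (.node (.node (.leaf (.up 5 1210 [670] 55 [88,110,116,69])) (.leaf (.up 4 145 [670] 55 [57,110,44,145]))) (.node (.leaf (.up 4 1980 [631] 1193 [93,90,74])) (.leaf (.up 5 2832 [631] 1193 [57,93,44,46])))) (.node (.node (.leaf (.up 6 172 [670] 55 [93,155,164])) (.leaf (.up 3 2298 [610] 0 [88,56,43,203]))) (.node (.leaf (.up 5 189 [670] 55 [87,93,176,115])) (.leaf (.up 5 3408 [670] 55 [57,176,65]))))) (.node (.node (.node (.leaf (.up 5 1042 [610] 0 [57,55,90,215])) (.leaf (.up 4 2189 [610] 0 [57,116,173]))) (.node (.leaf (.up 3 1955 [610] 0 [57,110,176,226])) (.leaf (.up 5 378 [645] 1169 [88,94,208])))) (.node (.node (.leaf (.up 5 314 [645] 1169 [55,140,218])) (.leaf (.up 4 3212 [623] 0 [57,56,11]))) (.leaf (.up 5 647 [670] 55 [103,163]))))) (.node (.node (.node (.node (.leaf (.up 3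 2063 [631] 1193 [87,93,44,154])) (.leaf (.up 2 2191 [631] 1193 [110,90,72]))) (.node (.leaf (.up 4 762 [610] 0 [94,43,77])) (.leaf (.up 4 869 [623] 0 [56,43,37])))) (.node (.node (.leaf (.up 4 683 [623] 0 [94,90,106])) (.leaf (.up 5 815 [631] 1193 [57,155,181]))) (.node (.leaf (.up 5 1326 [610] 0 [88,110,91,7])) (.leaf (.up 6 1623 [623] 0 [88,94,91,114]))))) (.node (.node (.node (.leaf (.up 4 568 [631] 1193 [87,94,44,30])) (.leaf (.up 4 1522 [631] 1193 [57,56,103,149]))) (.node (.leaf (.up 5 155 [645] 1169 [87,55,44,246])) (.leaf (.up 4 1219 [670] 55 [57,110,91,202])))) (.node (.node (.leaf (.up 6 2946 [623] 0 [88,56,43,239])) (.leaf (.up 2 3037 [645] 1169 [57,44,135]))) (.leaf (.up 5 438 [645] 1169 [87,94,155,184])))))) (.node (.node (.node (.node (.node (.leaf (.up 3 2619 [623] 0 [87,56,103,9])) (.leaf (.up 6 1974 [631] 1193 [88,55,43,3]))) (.node (.leaf (.up 5 1580 [670] 55 [57,219])) (.leaf (.up 5 688 [631] 1193 [57,104,167]))))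 (.node (.node (.leaf (.up 4 2160 [623] 0 [88,44,11])) (.leaf (.up 4 2092 [670] 55 [88,94,42,181]))) (.node (.leaf (.up 4 3223 [645] 1169 [88,94,44,189])) (.leaf (.up 2 1203 [623] 0 [88,94,103,159]))))) (.node (.node (.node (.leaf (.up 5 1196 [631] 1193 [57,110,43,223])) (.leaf (.up 5 3520 [645] 1169 [56,103,214]))) (.node (.leaf (.up 6 1078 [670] 55 [56,212])) (.leaf (.up 6 3709 [631] 1193 [87,94,176,214])))) (.node (.node (.leaf (.up 5 3468 [631] 1193 [57,43,245])) (.leaf (.up 6 1619 [670] 55 [57,93,44,151]))) (.leaf (.up 4 2623 [670] 55 [94,90,136]))))) (.node (.node (.node (.node (.leaf (.up 6 2837 [623] 0 [94,43,231])) (.leaf (.up 5 3581 [670] 55 [57,55,140,1]))) (.node (.leaf (.up 4 3356 [631] 1193 [57,110,116,136])) (.leaf (.up 6 2974 [670] 55 [88,110,116,157])))) (.node (.node (.leaf (.up 2 1228 [670] 55 [88,104,114])) (.leaf (.up 2 1087 [610] 0 [57,56,244]))) (.node (.leaf (.up 2 447 [645] 1169 [87,94,116,33])) (.leaf (.up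 6 3459 [670] 55 [57,123,204]))))) (.node (.node (.node (.leaf (.up 4 1468 [645] 1169 [88,110,176,72])) (.leaf (.up 3 1871 [645] 1169 [57,94,43,177]))) (.node (.leaf (.up 4 3512 [631] 1193 [110,140,112])) (.leaf (.up 6 2413 [623] 0 [57,56,103,245])))) (.node (.node (.leaf (.up 6 813 [610] 0 [87,56,43,248])) (.leaf (.up 6 1437 [631] 1193 [88,93,229]))) (.leaf (.up 5 2995 [610] 0 [55,91,101]))))))) (.node (.node (.node (.node (.node (.node (.leaf (.up 6 3246 [645] 1169 [88,42,213])) (.leaf (.up 5 3614 [631] 1193 [87,103,119]))) (.node (.leaf (.up 4 1409 [670] 55 [88,55,176,248])) (.leaf (.up 4 3680 [670] 55 [57,110,42,31])))) (.node (.node (.leaf (.up 5 2529 [623] 0 [57,94,44,127])) (.leaf (.up 3 825 [610] 0 [87,56,103,37]))) (.node (.leaf (.up 4 2029 [623] 0 [57,110,127])) (.leaf (.up 5 1566 [645] 1169 [87,55,123,109]))))) (.node (.node (.node (.leaf (.up 6 2126 [631] 1193 [110,89,77])) (.leaf (.up 3 3455 [631] 1193 [88,103,190])))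 (.node (.leaf (.up 6 730 [645] 1169 [57,91,22])) (.leaf (.up 5 1336 [623] 0 [88,55,89,111])))) (.node (.node (.leaf (.up 4 2982 [670] 55 [110,104,35])) (.leaf (.up 6 1241 [670] 55 [88,94,89,240]))) (.leaf (.up 5 2874 [631] 1193 [57,56,103,30]))))) (.node (.node (.node (.node (.leaf (.up 5 408 [623] 0 [110,42,174])) (.leaf (.up 4 2392 [610] 0 [57,94,90,126]))) (.node (.leaf (.up 4 2385 [610] 0 [88,110,44,126])) (.leaf (.up 2 2522 [623] 0 [110,116,97])))) (.node (.node (.leaf (.up 6 88 [610] 0 [87,56,123,35])) (.leaf (.up 4 3584 [631] 1193 [56,89,150]))) (.node (.leaf (.up 5 1912 [623] 0 [88,56,155,143])) (.leaf (.up 6 801 [670] 55 [88,55,44,13]))))) (.node (.node (.node (.leaf (.up 5 1055 [610] 0 [91,117])) (.leaf (.up 4 954 [645] 1169 [87,110,90,60]))) (.node (.leaf (.up 7 2527 [623] 0 [88,56,176,102])) (.leaf (.up 4 2164 [623] 0 [87,90,126])))) (.node (.node (.leaf (.up 5 800 [670] 55 [55,42,172])) (.leaf (.up 3 1428 [645] 1169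 [94,104,100]))) (.leaf (.up 6 3240 [645] 1169 [88,110,91,170])))))) (.node (.node (.node (.node (.node (.leaf (.up 5 2184 [631] 1193 [88,56,176,179])) (.leaf (.up 6 1430 [631] 1193 [88,116,27]))) (.node (.leaf (.up 5 3113 [631] 1193 [56,91,139])) (.leaf (.up 5 1566 [670] 55 [88,90,173])))) (.node (.node (.leaf (.up 5 3551 [623] 0 [87,55,91,235])) (.leaf (.up 5 3408 [645] 1169 [56,44,16]))) (.node (.leaf (.up 5 1178 [631] 1193 [88,55,155,162])) (.leaf (.up 5 3097 [670] 55 [87,94,140,174]))))) (.node (.node (.node (.leaf (.up 6 1758 [670] 55 [57,93,44,77])) (.leaf (.up 5 68 [631] 1193 [57,93,175]))) (.node (.leaf (.up 4 343 [670] 55 [87,110,89,156])) (.leaf (.up 5 2198 [645] 1169 [88,110,140,237])))) (.node (.node (.leaf (.up 4 841 [670] 55 [88,55,123,74])) (.leaf (.up 5 2202 [645] 1169 [88,56,42,226]))) (.leaf (.up 5 1935 [631] 1193 [55,89,172]))))) (.node (.node (.node (.node (.leaf (.up 5 2276 [623] 0 [94,155,126])) (.leaf (.up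 6 2838 [623] 0 [88,55,123,223]))) (.node (.leaf (.up 4 956 [631] 1193 [87,91,119])) (.leaf (.up 5 186 [670] 55 [87,56,140,195])))) (.node (.node (.leaf (.up 6 315 [610] 0 [88,55,42,173])) (.leaf (.up 6 1605 [631] 1193 [57,56,176,142]))) (.leaf (.up 5 3595 [631] 1193 [87,93,90,111])))) (.node (.node (.node (.leaf (.up 7 3051 [645] 1169 [88,94,123,4])) (.leaf (.up 2 3425 [631] 1193 [87,56,146]))) (.node (.leaf (.up 6 182 [631] 1193 [89,198])) (.leaf (.up 5 1336 [610] 0 [87,42,164])))) (.node (.node (.leaf (.up 4 462 [670] 55 [57,56,103,164])) (.leaf (.up 5 80 [631] 1193 [104,114]))) (.leaf (.up 6 2163 [631] 1193 [56,89,98])))))))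

noncomputable def trio5_11101 : Tr TStep :=
  .node (.node (.node (.node (.node (.node (.node (.leaf (.up 3 525 [623] 0 [87,93,140,233])) (.leaf (.up 4 2282 [670] 55 [57,93,176,173]))) (.node (.leaf (.up 5 3041 [610] 0 [87,56,104,224])) (.leaf (.up 6 664 [610] 0 [57,110,89,34])))) (.node (.node (.leaf (.up 4 715 [610] 0 [87,55,247])) (.leaf (.up 6 1394 [631] 1193 [57,55,140,34]))) (.node (.leaf (.up 5 1488 [631] 1193 [93,155,216])) (.leaf (.up 6 2494 [610] 0 [87,94,90,161]))))) (.node (.node (.node (.leaf (.up 5 528 [645] 1169 [87,110,76])) (.leaf (.up 6 1761 [670] 55 [88,56,90,238]))) (.node (.leaf (.up 4 2450 [610] 0 [93,123,22])) (.leaf (.up 6 3494 [670] 55 [57,55,42,33])))) (.node (.node (.leaf (.up 5 2802 [645] 1169 [88,110,155,230])) (.leaf (.up 4 3266 [670] 55 [140,179]))) (.leaf (.up 5 2272 [670] 55 [57,93,44,77]))))) (.node (.node (.node (.node (.leaf (.up 6 1496 [645] 1169 [88,110,123,220])) (.leaf (.up 6 3112 [631] 1193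 [88,90,35]))) (.node (.leaf (.up 6 718 [623] 0 [88,56,42,219])) (.leaf (.up 3 1940 [670] 55 [87,93,116,9])))) (.node (.node (.leaf (.up 5 1634 [631] 1193 [57,93,103,194])) (.leaf (.up 6 876 [631] 1193 [110,176,194]))) (.node (.leaf (.up 6 893 [670] 55 [87,110,90,147])) (.leaf (.up 5 2009 [610] 0 [57,55,140,226]))))) (.node (.node (.node (.leaf (.up 5 2681 [670] 55 [88,110,89,163])) (.leaf (.up 2 2696 [623] 0 [88,94,104,183]))) (.node (.leaf (.up 5 2320 [610] 0 [29])) (.leaf (.up 5 817 [631] 1193 [87,55,123,25])))) (.node (.node (.leaf (.up 4 135 [610] 0 [55,155,239])) (.leaf (.up 4 1929 [645] 1169 [89,238]))) (.leaf (.up 2 76 [645] 1169 [57,110,91,158])))))) (.node (.node (.node (.node (.node (.leaf (.up 6 2306 [670] 55 [93,44,146])) (.leaf (.up 6 194 [623] 0 [110,116,139]))) (.node (.leaf (.up 2 1811 [645] 1169 [57,110,90,177])) (.leaf (.up 5 550 [631] 1193 [87,93,140,72])))) (.node (.node (.leaf (.up 4 2842 [631] 1193 [57,55,123,98]))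 (.leaf (.up 2 3102 [645] 1169 [87,89,195]))) (.node (.leaf (.up 5 2719 [670] 55 [43,239])) (.leaf (.up 4 2906 [670] 55 [88,155,77]))))) (.node (.node (.node (.leaf (.up 3 3589 [645] 1169 [56,91,159])) (.leaf (.up 1 168 [631] 1193 [94,155,132]))) (.node (.leaf (.up 3 2361 [645] 1169 [57,241])) (.leaf (.up 5 3545 [670] 55 [88,93,140,21])))) (.node (.node (.leaf (.up 5 898 [670] 55 [88,176,231])) (.leaf (.up 6 1521 [645] 1169 [110,188]))) (.leaf (.up 4 110 [670] 55 [110,91,230]))))) (.node (.node (.node (.node (.leaf (.up 6 3396 [645] 1169 [88,93,104,124])) (.leaf (.up 6 653 [623] 0 [87,93,90,135]))) (.node (.leaf (.up 3 3700 [670] 55 [88,94,43,174])) (.leaf (.up 4 822 [610] 0 [93,222])))) (.node (.node (.leaf (.up 2 502 [645] 1169 [56,42,145])) (.leaf (.up 5 3468 [670] 55 [57,55,90,184]))) (.leaf (.up 5 528 [670] 55 [87,93,140,115])))) (.node (.node (.node (.leaf (.up 5 692 [610] 0 [88,110,44,10])) (.leaf (.up 4 2955 [631] 1193 [87,56,247])))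 (.node (.leaf (.up 5 1076 [631] 1193 [88,55,91,29])) (.leaf (.up 5 1912 [631] 1193 [87,55,116,199])))) (.node (.node (.leaf (.up 5 733 [623] 0 [57,94,140,119])) (.leaf (.up 5 2394 [631] 1193 [87,110,42,119]))) (.leaf (.up 4 229 [610] 0 [57,123,218]))))))) (.node (.node (.node (.node (.node (.node (.leaf (.up 3 848 [645] 1169 [55,104,224])) (.leaf (.up 4 2086 [631] 1193 [57,94,13]))) (.node (.leaf (.up 5 509 [645] 1169 [87,94,90,5])) (.leaf (.up 5 3321 [670] 55 [88,94,214])))) (.node (.node (.leaf (.up 7 401 [645] 1169 [87,94,123,97])) (.leaf (.up 4 278 [623] 0 [87,94,104,15]))) (.node (.leaf (.up 6 223 [645] 1169 [42,108])) (.leaf (.up 4 222 [645] 1169 [87,56,42,222]))))) (.node (.node (.node (.leaf (.up 5 3301 [623] 0 [57,91,232])) (.leaf (.up 3 1428 [623] 0 [88,55,90,197]))) (.node (.leaf (.up 6 3252 [645] 1169 [57,42,131])) (.leaf (.up 3 1532 [645] 1169 [88,94,42,180])))) (.node (.node (.leaf (.up 5 1569 [623] 0 [57,55,176,184]))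 (.leaf (.up 5 3151 [610] 0 [57,93,176,127]))) (.leaf (.up 6 2569 [670] 55 [87,56,140,175]))))) (.node (.node (.node (.node (.leaf (.up 5 2938 [670] 55 [94,42,234])) (.leaf (.up 6 1848 [645] 1169 [87,55,42,96]))) (.node (.leaf (.up 5 348 [645] 1169 [56,104,2])) (.leaf (.up 5 1077 [631] 1193 [57,56,90,156])))) (.node (.node (.leaf (.up 3 2053 [631] 1193 [87,56,89,4])) (.leaf (.up 4 2164 [670] 55 [87,110,116,151]))) (.node (.leaf (.up 6 1555 [645] 1169 [87,103,214])) (.leaf (.up 4 1198 [631] 1193 [104,154]))))) (.node (.node (.node (.leaf (.up 5 296 [610] 0 [57,55,42,246])) (.leaf (.up 4 2886 [623] 0 [140,163]))) (.node (.leaf (.up 3 1423 [631] 1193 [56,89,178])) (.leaf (.up 5 2806 [670] 55 [57,94,91,107])))) (.node (.node (.leaf (.up 6 718 [631] 1193 [88,56,104,237])) (.leaf (.up 5 2819 [623] 0 [55,91,101]))) (.leaf (.up 5 2039 [623] 0 [93,44,25])))))) (.node (.node (.node (.node (.node (.leaf (.up 3 727 [631] 1193 [88,94,116,181]))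 (.leaf (.up 5 1642 [610] 0 [87,94,104,201]))) (.node (.leaf (.up 6 342 [670] 55 [88,93,104,203])) (.leaf (.up 4 1021 [631] 1193 [57,56,123,135])))) (.node (.node (.leaf (.up 5 1194 [670] 55 [57,93,42,192])) (.leaf (.up 5 220 [670] 55 [57,93,140,174]))) (.node (.leaf (.up 5 3526 [610] 0 [55,123,136])) (.leaf (.up 4 1200 [645] 1169 [88,140,240]))))) (.node (.node (.node (.leaf (.up 6 606 [623] 0 [57,56,176,74])) (.leaf (.up 4 462 [645] 1169 [57,155,118]))) (.node (.leaf (.up 5 2039 [645] 1169 [87,90,204])) (.leaf (.up 5 3541 [610] 0 [87,110,43,160])))) (.node (.node (.leaf (.up 3 165 [610] 0 [88,93,155,181])) (.leaf (.up 5 1971 [670] 55 [87,110,104,75]))) (.leaf (.up 6 2345 [645] 1169 [57,152]))))) (.node (.node (.node (.node (.leaf (.up 4 690 [631] 1193 [87,55,89,226])) (.leaf (.up 5 3658 [670] 55 [88,55,103,158]))) (.node (.leaf (.up 5 1733 [623] 0 [55,116,35])) (.leaf (.up 5 999 [610] 0 [57,94,89,127])))) (.node (.node (.leaf (.up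 4 3732 [610] 0 [88,93,104,242])) (.leaf (.up 5 2795 [610] 0 [93,140,221]))) (.leaf (.up 3 2893 [631] 1193 [194])))) (.node (.node (.node (.leaf (.up 3 2571 [623] 0 [57,110,89,18])) (.leaf (.up 6 2104 [623] 0 [110,123,236]))) (.node (.leaf (.up 5 3063 [670] 55 [176,202])) (.leaf (.up 5 3234 [631] 1193 [87,110,155,177])))) (.node (.node (.leaf (.up 4 908 [645] 1169 [88,93,90,159])) (.leaf (.up 4 3385 [623] 0 [93,152]))) (.leaf (.up 4 119 [670] 55 [55,192])))))))

noncomputable def trio5_1110 : Tr TStep := .node trio5_11100 trio5_11101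

noncomputable def trio5_11110 : Tr TStep :=
  .node (.node (.node (.node (.node (.node (.node (.leaf (.up 5 970 [631] 1193 [94,176,211])) (.leaf (.up 2 2235 [631] 1193 [87,93,42,238]))) (.node (.leaf (.up 4 1309 [670] 55 [57,56,42,203])) (.leaf (.up 7 2892 [645] 1169 [57,110,104,228])))) (.node (.node (.leaf (.up 6 1881 [645] 1169 [88,89,2])) (.leaf (.up 6 1250 [631] 1193 [88,56,104,59]))) (.node (.leaf (.up 4 238 [645] 1169 [94,123,135])) (.leaf (.up 4 2734 [631] 1193 [87,93,103,196]))))) (.node (.node (.node (.leaf (.up 3 1978 [623] 0 [88,110,44,229])) (.leaf (.up 3 1248 [631] 1193 [93,43,60]))) (.node (.leaf (.up 5 1626 [670] 55 [87,94,246])) (.leaf (.up 4 766 [623] 0 [56,90,222])))) (.node (.node (.leaf (.up 3 848 [670] 55 [88,42,218])) (.leaf (.up 5 870 [670] 55 [56,119]))) (.leaf (.up 3 2612 [670] 55 [87,110,42,30]))))) (.node (.node (.node (.node (.leaf (.up 5 1494 [645] 1169 [57,110,44,201])) (.leaf (.up 1 2 [645] 1169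 [57,93,176,151]))) (.node (.leaf (.up 4 443 [623] 0 [57,55,91,177])) (.leaf (.up 6 183 [645] 1169 [57,93,90,130])))) (.node (.node (.leaf (.up 3 1423 [645] 1169 [88,55,116,23])) (.leaf (.up 6 2871 [670] 55 [57,55,43,141]))) (.node (.leaf (.up 7 1763 [670] 55 [88,94,116,106])) (.leaf (.up 6 3574 [670] 55 [87,94,103,221]))))) (.node (.node (.node (.leaf (.up 5 3545 [623] 0 [88,56,116,237])) (.leaf (.up 6 2258 [631] 1193 [110,44,69]))) (.node (.leaf (.up 2 1828 [610] 0 [57,56,155,187])) (.leaf (.up 5 2874 [623] 0 [88,116,168])))) (.node (.node (.leaf (.up 7 166 [645] 1169 [57,110,42,221])) (.leaf (.up 5 2918 [610] 0 [87,93,104,189]))) (.leaf (.up 4 1675 [645] 1169 [87,110,103,237])))))) (.node (.node (.node (.node (.node (.leaf (.up 6 795 [645] 1169 [87,103,25])) (.leaf (.up 4 3732 [631] 1193 [87,55,103,141]))) (.node (.leaf (.up 5 3234 [645] 1169 [88,55,8])) (.leaf (.up 4 2550 [645] 1169 [94,116,71])))) (.node (.node (.leaf (.up 4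 2734 [645] 1169 [94,42,172])) (.leaf (.up 4 2798 [631] 1193 [56,103,71]))) (.node (.leaf (.up 6 2194 [631] 1193 [87,94,43,183])) (.leaf (.up 3 2455 [631] 1193 [88,56,90,72]))))) (.node (.node (.node (.leaf (.up 5 1710 [645] 1169 [88,56,154])) (.leaf (.up 6 2688 [631] 1193 [89,184]))) (.node (.leaf (.up 5 1563 [631] 1193 [57,90,27])) (.leaf (.up 6 907 [645] 1169 [42,100])))) (.node (.node (.leaf (.up 4 2798 [645] 1169 [57,56,91,192])) (.leaf (.up 5 780 [645] 1169 [57,110,42,0]))) (.leaf (.up 2 1228 [631] 1193 [57,55,25]))))) (.node (.node (.node (.node (.leaf (.up 5 516 [645] 1169 [88,55,155,124])) (.leaf (.up 6 172 [623] 0 [93,90,0]))) (.node (.leaf (.up 5 2153 [631] 1193 [87,93,103,217])) (.leaf (.up 5 2389 [623] 0 [88,55,104,203])))) (.node (.node (.leaf (.up 4 1022 [631] 1193 [88,93,103,20])) (.leaf (.up 6 3036 [670] 55 [116,213]))) (.node (.leaf (.up 5 3662 [631] 1193 [88,110,176,137])) (.leaf (.up 1 10 [631] 1193 [87,55,43,72])))))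 (.node (.node (.node (.leaf (.up 7 2944 [623] 0 [87,56,155,65])) (.leaf (.up 3 3622 [631] 1193 [87,93,116,23]))) (.node (.leaf (.up 2 1087 [670] 55 [43,196])) (.leaf (.up 6 1140 [670] 55 [87,55,104,166])))) (.node (.node (.leaf (.up 3 2951 [670] 55 [57,56,176,206])) (.leaf (.up 5 1031 [670] 55 [88,93,155,138]))) (.leaf (.up 4 3433 [631] 1193 [88,110,140,145]))))))) (.node (.node (.node (.node (.node (.node (.leaf (.up 6 3052 [623] 0 [88,56,140,11])) (.leaf (.up 6 1051 [670] 55 [57,56,155,105]))) (.node (.leaf (.up 7 2409 [631] 1193 [87,56,43,160])) (.leaf (.up 3 3090 [645] 1169 [87,123,228])))) (.node (.node (.leaf (.up 2 1312 [631] 1193 [55,103,61])) (.leaf (.up 6 997 [631] 1193 [88,43,132]))) (.node (.leaf (.up 6 242 [623] 0 [110,44,177])) (.leaf (.up 4 732 [670] 55 [87,94,43,218]))))) (.node (.node (.node (.leaf (.up 4 367 [670] 55 [57,56,176,131])) (.leaf (.up 3 1010 [670] 55 [57,94,123,232]))) (.node (.leaf (.up 7 282 [670]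 55 [87,55,44,2])) (.leaf (.up 5 186 [623] 0 [87,55,155,72])))) (.node (.node (.leaf (.up 4 43 [645] 1169 [87,56,104,144])) (.leaf (.up 3 2907 [631] 1193 [93,140,200]))) (.leaf (.up 2 2391 [623] 0 [57,55,123,132]))))) (.node (.node (.node (.node (.leaf (.up 5 2980 [631] 1193 [88,155,223])) (.leaf (.up 6 2771 [670] 55 [94,104,170]))) (.node (.leaf (.up 5 605 [645] 1169 [57,103,220])) (.leaf (.up 4 523 [645] 1169 [57,116,73])))) (.node (.node (.leaf (.up 2 1203 [610] 0 [87,55,89,230])) (.leaf (.up 6 2336 [631] 1193 [88,94,91,198]))) (.node (.leaf (.up 3 2326 [645] 1169 [87,93,89,216])) (.leaf (.up 3 1453 [645] 1169 [88,103,73]))))) (.node (.node (.node (.leaf (.up 3 3358 [631] 1193 [88,110,98])) (.leaf (.up 1 8 [623] 0 [87,55,103,220]))) (.node (.leaf (.up 4 762 [670] 55 [87,55,42,71])) (.leaf (.up 5 2718 [631] 1193 [57,56,176,202])))) (.node (.node (.leaf (.up 5 2584 [623] 0 [57,103,233])) (.leaf (.up 6 1610 [631] 1193 [57,56,169])))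 (.leaf (.up 6 441 [631] 1193 [88,94,91,15])))))) (.node (.node (.node (.node (.node (.leaf (.up 7 2000 [670] 55 [116,138])) (.leaf (.up 4 1522 [623] 0 [57,55,116,76]))) (.node (.leaf (.up 7 2355 [631] 1193 [57,93,104,121])) (.leaf (.up 5 670 [623] 0 [87,56,155,107])))) (.node (.node (.leaf (.up 5 3551 [631] 1193 [88,93,116,69])) (.leaf (.up 6 3139 [631] 1193 [57,93,104,100]))) (.node (.leaf (.up 5 1835 [645] 1169 [110,155,167])) (.leaf (.up 5 952 [645] 1169 [87,55,42,107]))))) (.node (.node (.node (.leaf (.up 3 1940 [631] 1193 [57,56,123,101])) (.leaf (.up 5 3446 [623] 0 [55,89,131]))) (.node (.leaf (.up 4 2844 [623] 0 [57,56,116,202])) (.leaf (.up 4 2346 [645] 1169 [88,93,42,238])))) (.node (.node (.leaf (.up 5 2891 [610] 0 [94,176,13])) (.leaf (.up 5 2186 [645] 1169 [88,55,116,248]))) (.leaf (.up 5 575 [670] 55 [57,56,104,200]))))) (.node (.node (.node (.node (.leaf (.up 2 2881 [670] 55 [57,55,116,182])) (.leaf (.up 6 1993 [623]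 0 [93,37]))) (.node (.leaf (.up 4 869 [631] 1193 [110,140,189])) (.leaf (.up 4 602 [670] 55 [88,44,244])))) (.node (.node (.leaf (.up 5 3274 [623] 0 [57,93,176,143])) (.leaf (.up 3 806 [645] 1169 [57,55,209]))) (.leaf (.up 5 3711 [670] 55 [57,43,168])))) (.node (.node (.node (.leaf (.up 4 3055 [610] 0 [87,55,91,185])) (.leaf (.up 5 2832 [670] 55 [94,90,30]))) (.node (.leaf (.up 6 354 [645] 1169 [87,89,221])) (.leaf (.up 6 2800 [610] 0 [57,110,116,119])))) (.node (.node (.leaf (.up 7 2363 [670] 55 [110,103,101])) (.leaf (.up 3 1403 [645] 1169 [57,89,229]))) (.leaf (.up 6 656 [623] 0 [57,110,103,157])))))))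

noncomputable def trio5_11111 : Tr TStep :=
  .node (.node (.node (.node (.node (.node (.node (.leaf (.up 5 859 [610] 0 [103,139])) (.leaf (.up 3 3239 [645] 1169 [57,94,42,234]))) (.node (.leaf (.up 4 1109 [645] 1169 [88,56,176,239])) (.leaf (.up 5 3113 [645] 1169 [57,110,176,22])))) (.node (.node (.leaf (.up 5 128 [670] 55 [57,93,123,227])) (.leaf (.up 2 3028 [623] 0 [56,155,106]))) (.node (.leaf (.up 4 2601 [670] 55 [94,104,128])) (.leaf (.up 6 1885 [610] 0 [57,56,91,4]))))) (.node (.node (.node (.leaf (.up 5 2621 [670] 55 [88,110,123,22])) (.leaf (.up 4 2200 [645] 1169 [87,93,89,191]))) (.node (.leaf (.up 5 1668 [623] 0 [88,94,90,100])) (.leaf (.up 4 683 [610] 0 [93,104,133])))) (.node (.node (.leaf (.up 5 1941 [623] 0 [87,110,43,132])) (.leaf (.up 5 1925 [631] 1193 [87,110,91,61]))) (.leaf (.up 5 2138 [670] 55 [88,110,135]))))) (.node (.node (.node (.node (.leaf (.up 5 2311 [631] 1193 [88,93,155,238])) (.leaf (.up 5 3308 [610]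 0 [110,44,177]))) (.node (.leaf (.up 4 2427 [670] 55 [110,91,113])) (.leaf (.up 5 1286 [645] 1169 [88,94,44,0])))) (.node (.node (.leaf (.up 5 2761 [645] 1169 [57,55,140,121])) (.leaf (.up 4 2511 [623] 0 [88,56,43,170]))) (.node (.leaf (.up 5 624 [645] 1169 [56,123,172])) (.leaf (.up 4 1451 [623] 0 [55,155,214]))))) (.node (.node (.node (.leaf (.up 4 1622 [670] 55 [87,93,42,168])) (.leaf (.up 7 2627 [631] 1193 [87,56,103,152]))) (.node (.leaf (.up 6 1242 [631] 1193 [87,56,140,130])) (.leaf (.up 5 1291 [610] 0 [56,155,98])))) (.node (.node (.leaf (.up 3 3313 [670] 55 [88,110,90,16])) (.leaf (.up 6 491 [670] 55 [93,104,121]))) (.leaf (.up 5 1330 [645] 1169 [56,43,244])))))) (.node (.node (.node (.node (.node (.leaf (.up 5 59 [670] 55 [56,176,164])) (.leaf (.up 6 1814 [670] 55 [57,55,123,203]))) (.node (.leaf (.up 5 2499 [670] 55 [88,55,116,173])) (.leaf (.up 6 3506 [610] 0 [87,90,98])))) (.node (.node (.leaf (.up 5 2765 [645] 1169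 [88,56,42,157])) (.leaf (.up 2 1312 [645] 1169 [93,140,193]))) (.node (.leaf (.up 4 2351 [631] 1193 [57,55,91,96])) (.leaf (.up 6 2273 [670] 55 [57,93,89,13]))))) (.node (.node (.node (.leaf (.up 5 2009 [623] 0 [55,91,225])) (.leaf (.up 4 2879 [623] 0 [57,93,140,77]))) (.node (.leaf (.up 5 2751 [623] 0 [123,228])) (.leaf (.up 6 2107 [623] 0 [87,110,123,1])))) (.node (.node (.leaf (.up 5 264 [670] 55 [56,90,205])) (.leaf (.up 3 853 [631] 1193 [110,44,115]))) (.leaf (.up 6 1506 [623] 0 [88,55,176,92]))))) (.node (.node (.node (.node (.leaf (.up 5 1941 [631] 1193 [57,110,90,164])) (.leaf (.up 2 2391 [645] 1169 [87,110,123,105]))) (.node (.leaf (.up 6 3415 [631] 1193 [57,93,42,135])) (.leaf (.up 6 1602 [645] 1169 [55,176,131])))) (.node (.node (.leaf (.up 6 2484 [670] 55 [88,203])) (.leaf (.up 3 3242 [645] 1169 [57,55,127]))) (.leaf (.up 4 2842 [623] 0 [57,42,236])))) (.node (.node (.node (.leaf (.up 4 732 [645] 1169 [110,91,5])) (.leaf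 (.up 6 2317 [645] 1169 [57,110,99]))) (.node (.leaf (.up 3 1871 [631] 1193 [87,56,44,61])) (.leaf (.up 4 2520 [645] 1169 [57,94,13])))) (.node (.node (.leaf (.up 6 1356 [670] 55 [88,56,140,166])) (.leaf (.up 5 497 [645] 1169 [110,155,5]))) (.leaf (.up 4 257 [645] 1169 [88,110,89,170]))))))) (.node (.node (.node (.node (.node (.node (.leaf (.up 6 3571 [645] 1169 [55,43,20])) (.leaf (.up 4 1564 [645] 1169 [88,155,18]))) (.node (.leaf (.up 1 0 [645] 1169 [57,94,103,168])) (.leaf (.up 6 2265 [645] 1169 [88,56,123,179])))) (.node (.node (.leaf (.up 4 1709 [610] 0 [55,103,207])) (.leaf (.up 3 525 [670] 55 [93,90,130]))) (.node (.leaf (.up 4 2776 [623] 0 [87,55,103,144])) (.leaf (.up 6 1032 [631] 1193 [88,93,116,156]))))) (.node (.node (.node (.leaf (.up 5 2423 [670] 55 [88,94,140,175])) (.leaf (.up 6 349 [610] 0 [57,56,43,27]))) (.node (.leaf (.up 5 54 [631] 1193 [88,55,44,0])) (.leaf (.up 6 2280 [610] 0 [57,56,123,71])))) (.node (.node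 (.leaf (.up 6 606 [610] 0 [87,110,242])) (.leaf (.up 3 2025 [645] 1169 [93,89,34]))) (.leaf (.up 5 364 [645] 1169 [87,94,140,3]))))) (.node (.node (.node (.node (.leaf (.up 6 543 [645] 1169 [57,55,103,15])) (.leaf (.up 6 2494 [645] 1169 [87,110,217]))) (.node (.leaf (.up 5 2184 [623] 0 [87,93,140,111])) (.leaf (.up 5 1853 [631] 1193 [57,56,75])))) (.node (.node (.leaf (.up 5 102 [631] 1193 [57,110,91,23])) (.leaf (.up 4 3765 [645] 1169 [88,94,104,142]))) (.node (.leaf (.up 5 3191 [645] 1169 [140,198])) (.leaf (.up 6 2710 [670] 55 [88,55,89,229]))))) (.node (.node (.node (.leaf (.up 1 6 [631] 1193 [88,56,44,190])) (.leaf (.up 2 1994 [623] 0 [87,94,176,163]))) (.node (.leaf (.up 5 2995 [631] 1193 [93,207])) (.leaf (.up 5 3359 [631] 1193 [87,55,90,240])))) (.node (.node (.leaf (.up 5 2687 [631] 1193 [88,110,90,164])) (.leaf (.up 2 2013 [623] 0 [57,93,89,208]))) (.leaf (.up 4 56 [631] 1193 [88,55,103,105])))))) (.node (.node (.node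 (.node (.node (.leaf (.up 3 3402 [670] 55 [87,110,176,33])) (.leaf (.up 6 3263 [631] 1193 [57,110,43,215]))) (.node (.leaf (.up 5 3439 [623] 0 [94,44,213])) (.leaf (.up 4 3785 [645] 1169 [155,74])))) (.node (.node (.leaf (.up 3 346 [631] 1193 [87,55,116,232])) (.leaf (.up 4 2780 [645] 1169 [57,110,140,145]))) (.node (.leaf (.up 4 2793 [670] 55 [56,176,98])) (.leaf (.up 4 222 [670] 55 [87,55,116,119]))))) (.node (.node (.node (.leaf (.up 5 3234 [670] 55 [88,93,44,191])) (.leaf (.up 3 2118 [670] 55 [110,91,124]))) (.node (.leaf (.up 6 267 [631] 1193 [56,122])) (.leaf (.up 2 1312 [610] 0 [88,55,44,107])))) (.node (.node (.leaf (.up 5 2002 [670] 55 [88,94,44,8])) (.leaf (.up 6 940 [631] 1193 [57,93,104,138]))) (.leaf (.up 4 3350 [610] 0 [57,94,90,12]))))) (.node (.node (.node (.node (.leaf (.up 5 186 [610] 0 [87,110,90,212])) (.leaf (.up 5 2681 [631] 1193 [57,94,89,239]))) (.node (.leaf (.up 5 539 [670] 55 [55,91,178])) (.leaf (.up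 4 1682 [631] 1193 [57,93,91,36])))) (.node (.node (.leaf (.up 4 297 [645] 1169 [57,56,43,212])) (.leaf (.up 4 610 [631] 1193 [57,55,90,72]))) (.leaf (.up 6 2372 [645] 1169 [57,94,89,230])))) (.node (.node (.node (.leaf (.up 6 1151 [670] 55 [88,110,155,135])) (.leaf (.up 7 40 [631] 1193 [87,110,155,142]))) (.node (.leaf (.up 4 1493 [645] 1169 [57,110,42,99])) (.leaf (.up 6 839 [670] 55 [57,56,155,139])))) (.node (.node (.leaf (.up 3 1658 [645] 1169 [57,93,155,150])) (.leaf (.up 5 992 [670] 55 [87,94,44,120]))) (.leaf (.up 6 1190 [670] 55 [110,44,25])))))))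

noncomputable def trio5_1111 : Tr TStep := .node trio5_11110 trio5_11111

noncomputable def trio5_111 : Tr TStep := .node trio5_1110 trio5_1111

noncomputable def trio5_11 : Tr TStep := .node trio5_110 trio5_111

noncomputable def trio5_1 : Tr TStep := .node trio5_10 trio5_11

noncomputable def trio5_ : Tr TStep := .node trio5_0 trio5_1

noncomputable def vt5_0_0000 : Tr VStep :=
  .node (.node (.node (.node (.node (.node (.node (.leaf (.root 593)) (.leaf (.up 1 34 1))) (.node (.leaf (.up 2 1201 3)) (.leaf (.up 2 1426 0)))) (.node (.node (.leaf (.up 1 65 0)) (.leaf (.up 3 655 2))) (.node (.leaf (.up 3 1762 0)) (.leaf (.up 2 588 3))))) (.node (.node (.node (.leaf (.up 2 598 3)) (.leaf (.up 2 1272 0))) (.node (.leaf (.up 2 1934 2)) (.leaf (.up 2 160 1)))) (.node (.node (.leaf (.up 2 1841 3)) (.leaf (.up 2 1195 3))) (.node (.leaf (.up 1 299 0)) (.leaf (.up 2 432 1)))))) (.node (.node (.node (.node (.leaf (.root 2014)) (.leaf (.up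 2 456 3))) (.node (.leaf (.up 3 1251 0)) (.leaf (.up 2 461 1)))) (.node (.node (.leaf (.up 3 513 0)) (.leaf (.up 2 304 0))) (.node (.leaf (.up 4 848 2)) (.leaf (.up 2 221 1))))) (.node (.node (.node (.leaf (.up 3 534 3)) (.leaf (.up 3 1617 2))) (.node (.leaf (.up 2 1911 1)) (.leaf (.up 1 27 0)))) (.node (.node (.leaf (.up 2 1480 0)) (.leaf (.up 1 95 1))) (.node (.leaf (.up 2 1639 1)) (.leaf (.up 3 1623 2))))))) (.node (.node (.node (.node (.node (.leaf (.up 3 29 3)) (.leaf (.up 1 58 1))) (.node (.leaf (.up 3 1705 2)) (.leaf (.up 1 40 1)))) (.node (.node (.leaf (.up 3 1792 1)) (.leaf (.up 2 1760 3))) (.node (.leaf (.up 3 985 3)) (.leaf (.up 2 1677 2))))) (.node (.node (.node (.leaf (.up 1 89 3)) (.leaf (.up 1 170 1))) (.node (.leaf (.up 3 1786 3)) (.leaf (.up 4 1376 3)))) (.node (.node (.leaf (.up 4 920 2)) (.leaf (.up 2 442 1))) (.node (.leaf (.up 2 925 3)) (.leaf (.up 1 7 3)))))) (.node (.node (.node (.node (.leaf (.up 1 93 3))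 (.leaf (.up 1 455 0))) (.node (.leaf (.up 3 1876 2)) (.leaf (.up 2 1380 3)))) (.node (.node (.leaf (.up 4 1874 2)) (.leaf (.up 3 1890 2))) (.node (.leaf (.up 3 921 3)) (.leaf (.up 1 3 3))))) (.node (.node (.node (.leaf (.up 2 625 2)) (.leaf (.up 2 343 1))) (.node (.leaf (.up 2 924 0)) (.leaf (.up 1 173 0)))) (.node (.node (.leaf (.up 2 1406 0)) (.leaf (.up 1 71 1))) (.node (.leaf (.up 3 631 2)) (.leaf (.up 1 71 3)))))))) (.node (.node (.node (.node (.node (.node (.leaf (.root 719)) (.leaf (.up 2 1581 0))) (.node (.leaf (.up 2 959 0)) (.leaf (.up 2 142 0)))) (.node (.node (.leaf (.up 2 687 2)) (.leaf (.up 3 499 3))) (.node (.leaf (.up 3 1226 3)) (.leaf (.up 2 304 1))))) (.node (.node (.node (.leaf (.up 2 725 0)) (.leaf (.up 1 162 1))) (.node (.leaf (.up 3 489 3)) (.leaf (.up 3 1966 2)))) (.node (.node (.leaf (.up 3 557 3)) (.leaf (.up 3 439 3))) (.node (.leaf (.up 2 1930 1)) (.leaf (.up 3 1812 3)))))) (.node (.node (.node (.node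 (.leaf (.up 4 838 2)) (.leaf (.up 3 886 2))) (.node (.leaf (.up 4 852 2)) (.leaf (.up 3 477 1)))) (.node (.node (.leaf (.up 2 850 2)) (.leaf (.up 3 435 3))) (.node (.leaf (.up 3 1767 1)) (.leaf (.up 3 205 1))))) (.node (.node (.node (.leaf (.up 3 1909 1)) (.leaf (.up 2 1168 3))) (.node (.leaf (.up 2 1635 2)) (.leaf (.up 2 333 1)))) (.node (.node (.leaf (.up 1 212 0)) (.leaf (.up 1 79 1))) (.node (.leaf (.up 3 1655 0)) (.leaf (.up 1 93 1))))))) (.node (.node (.node (.node (.node (.leaf (.up 3 1536 1)) (.leaf (.up 1 42 1))) (.node (.leaf (.up 3 930 3)) (.leaf (.up 1 56 0)))) (.node (.node (.leaf (.up 1 102 3)) (.leaf (.up 3 1754 0))) (.node (.leaf (.up 2 1709 2)) (.leaf (.up 1 121 0))))) (.node (.node (.node (.leaf (.up 2 924 2)) (.leaf (.up 2 186 1))) (.node (.leaf (.up 4 998 3)) (.leaf (.up 2 2033 0)))) (.node (.node (.leaf (.up 1 34 3)) (.leaf (.up 1 275 0))) (.node (.leaf (.up 2 1153 0)) (.leaf (.up 2 1307 3)))))) (.node (.node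 (.node (.node (.leaf (.up 4 1878 2)) (.leaf (.up 3 1755 3))) (.node (.leaf (.up 2 1860 2)) (.leaf (.up 3 1908 2)))) (.node (.node (.leaf (.up 2 1963 0)) (.leaf (.up 3 956 3))) (.node (.leaf (.up 4 1872 2)) (.leaf (.up 2 1888 2))))) (.node (.node (.node (.leaf (.up 1 35 0)) (.leaf (.up 2 786 0))) (.node (.leaf (.up 3 1919 1)) (.leaf (.up 3 579 2)))) (.node (.node (.leaf (.up 1 98 0)) (.leaf (.up 2 87 1))) (.node (.leaf (.up 3 615 2)) (.leaf (.up 1 69 1))))))))

noncomputable def vt5_0_0001 : Tr VStep :=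
  .node (.node (.node (.node (.node (.node (.node (.leaf (.root 1980)) (.leaf (.up 1 18 1))) (.node (.leaf (.up 3 1578 1)) (.leaf (.up 1 0 1)))) (.node (.node (.leaf (.up 3 1173 2)) (.leaf (.up 3 1189 2))) (.node (.leaf (.up 2 1400 0)) (.leaf (.up 3 381 3))))) (.node (.node (.node (.leaf (.root 1520)) (.leaf (.up 1 130 1))) (.node (.leaf (.up 2 1988 3)) (.leaf (.up 3 144 1)))) (.node (.node (.leaf (.up 2 1024 3)) (.leaf (.up 3 1946 3))) (.node (.leaf (.up 2 432 2)) (.leaf (.up 1 313 3)))))) (.node (.node (.node (.node (.leaf (.root 2076)) (.leaf (.up 2 747 0))) (.node (.leaf (.up 4 1390 2)) (.leaf (.up 3 1096 0)))) (.node (.node (.leaf (.up 3 1028 3)) (.leaf (.up 3 682 0))) (.node (.leaf (.up 3 1402 2)) (.leaf (.up 2 1033 0))))) (.node (.node (.node (.leaf (.up 3 75 2)) (.leaf (.up 1 123 2))) (.node (.leaf (.up 1 89 2)) (.leaf (.up 2 105 2)))) (.node (.node (.leaf (.up 1 95 2)) (.leaf (.up 1 111 1))) (.node (.leaf (.up 3 739 3))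 (.leaf (.up 1 125 1))))))) (.node (.node (.node (.node (.node (.leaf (.root 1264)) (.leaf (.up 1 10 1))) (.node (.leaf (.up 2 1423 0)) (.leaf (.up 3 1557 3)))) (.node (.node (.leaf (.up 2 1840 1)) (.leaf (.up 1 92 0))) (.node (.leaf (.up 3 151 2)) (.leaf (.up 2 167 2))))) (.node (.node (.node (.leaf (.up 3 1253 0)) (.leaf (.up 2 2004 0))) (.node (.leaf (.up 2 582 0)) (.leaf (.up 1 136 1)))) (.node (.node (.leaf (.up 2 1551 3)) (.leaf (.up 4 1429 3))) (.node (.leaf (.up 3 519 0)) (.leaf (.up 2 310 0)))))) (.node (.node (.node (.node (.leaf (.root 1486)) (.leaf (.up 3 246 3))) (.node (.leaf (.up 1 382 2)) (.leaf (.up 3 1621 3)))) (.node (.node (.leaf (.up 2 1741 1)) (.leaf (.up 2 1425 3))) (.node (.leaf (.up 2 1934 0)) (.leaf (.up 2 1215 0))))) (.node (.node (.node (.leaf (.up 4 1115 2)) (.leaf (.up 2 359 1))) (.node (.leaf (.up 1 6 0)) (.leaf (.up 3 1553 3)))) (.node (.node (.leaf (.up 3 1615 3)) (.leaf (.up 2 1493 0))) (.node (.leaf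 (.up 1 71 0)) (.leaf (.up 1 101 1)))))))) (.node (.node (.node (.node (.node (.node (.leaf (.up 2 1169 2)) (.leaf (.up 1 2 1))) (.node (.leaf (.up 2 37 0)) (.leaf (.up 1 16 1)))) (.node (.node (.leaf (.up 3 1157 2)) (.leaf (.up 4 1205 2))) (.node (.leaf (.up 1 100 0)) (.leaf (.up 2 256 1))))) (.node (.node (.node (.leaf (.up 3 1147 3)) (.leaf (.up 2 2017 3))) (.node (.leaf (.up 2 728 3)) (.leaf (.up 3 388 2)))) (.node (.node (.leaf (.up 3 284 3)) (.leaf (.up 3 575 0))) (.node (.leaf (.up 3 1983 3)) (.leaf (.up 2 1061 3)))))) (.node (.node (.node (.node (.leaf (.up 4 1388 2)) (.leaf (.up 2 1372 2))) (.node (.leaf (.up 2 1406 2)) (.leaf (.up 2 326 3)))) (.node (.node (.leaf (.up 2 1400 2)) (.leaf (.up 2 1974 0))) (.node (.leaf (.up 3 1386 2)) (.leaf (.up 2 1057 3))))) (.node (.node (.node (.leaf (.up 2 783 0)) (.leaf (.up 3 62 0))) (.node (.leaf (.up 1 73 2)) (.leaf (.up 1 121 2)))) (.node (.node (.leaf (.up 1 79 2)) (.leaf (.up 1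 127 0))) (.node (.leaf (.up 1 93 2)) (.leaf (.up 1 109 1))))))) (.node (.node (.node (.node (.node (.leaf (.root 1618)) (.leaf (.up 3 26 1))) (.node (.leaf (.up 1 147 0)) (.leaf (.up 1 8 1)))) (.node (.node (.leaf (.up 3 855 3)) (.leaf (.up 3 205 3))) (.node (.leaf (.up 3 135 2)) (.leaf (.up 4 183 2))))) (.node (.node (.node (.leaf (.up 3 1462 2)) (.leaf (.up 2 712 0))) (.node (.leaf (.up 3 215 3)) (.leaf (.up 4 1428 2)))) (.node (.node (.leaf (.up 3 787 3)) (.leaf (.up 2 1426 2))) (.node (.leaf (.up 2 1456 2)) (.leaf (.up 3 1578 3)))))) (.node (.node (.node (.node (.leaf (.up 4 380 2)) (.leaf (.up 2 1857 0))) (.node (.leaf (.up 4 366 2)) (.leaf (.up 2 482 0)))) (.node (.node (.leaf (.up 3 791 3)) (.leaf (.up 1 141 3))) (.node (.leaf (.up 2 658 0)) (.leaf (.up 3 330 2))))) (.node (.node (.node (.leaf (.up 2 1588 3)) (.leaf (.up 1 136 0))) (.node (.leaf (.up 3 1871 1)) (.leaf (.up 3 1129 2)))) (.node (.node (.leaf (.up 2 1613 1))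 (.leaf (.up 1 103 1))) (.node (.leaf (.up 3 1520 3)) (.leaf (.up 1 117 1))))))))

noncomputable def vt5_0_000 : Tr VStep := .node vt5_0_0000 vt5_0_0001

noncomputable def vt5_0_0010 : Tr VStep :=
  .node (.node (.node (.node (.node (.node (.node (.leaf (.root 1120)) (.leaf (.up 2 1221 0))) (.node (.leaf (.up 2 343 0)) (.leaf (.up 1 36 1)))) (.node (.node (.leaf (.root 1918)) (.leaf (.up 3 1071 3))) (.node (.leaf (.up 1 278 0)) (.leaf (.up 3 909 2))))) (.node (.node (.node (.leaf (.up 1 61 0)) (.leaf (.up 4 268 3))) (.node (.leaf (.up 2 1077 3)) (.leaf (.up 2 1455 0)))) (.node (.node (.leaf (.up 2 2033 3)) (.leaf (.up 2 1704 2))) (.node (.leaf (.up 2 1934 1)) (.leaf (.up 2 712 3)))))) (.node (.node (.node (.node (.leaf (.root 2322)) (.leaf (.up 4 264 3))) (.node (.leaf (.up 3 596 2)) (.leaf (.up 2 1963 3)))) (.node (.node (.leaf (.up 2 2037 3)) (.leaf (.up 3 610 2))) (.node (.leaf (.up 2 1763 1)) (.leaf (.up 1 103 0))))) (.node (.node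 (.node (.leaf (.up 2 726 3)) (.leaf (.up 2 1857 2))) (.node (.leaf (.up 3 1246 0)) (.leaf (.up 4 1875 2)))) (.node (.node (.leaf (.up 3 1893 2)) (.leaf (.up 3 1067 3))) (.node (.leaf (.up 2 1911 2)) (.leaf (.up 1 89 1))))))) (.node (.node (.node (.node (.node (.leaf (.root 761)) (.leaf (.up 3 1947 2))) (.node (.leaf (.up 4 1977 2)) (.leaf (.up 3 1929 2)))) (.node (.node (.leaf (.up 3 1983 2)) (.leaf (.up 2 318 1))) (.node (.leaf (.up 3 1965 2)) (.leaf (.up 2 657 0))))) (.node (.node (.node (.leaf (.up 2 153 3)) (.leaf (.up 3 771 3))) (.node (.leaf (.up 4 654 2)) (.leaf (.up 3 1440 3)))) (.node (.node (.leaf (.up 3 648 2)) (.leaf (.up 2 1019 0))) (.node (.leaf (.up 3 1942 1)) (.leaf (.up 3 682 2)))))) (.node (.node (.node (.node (.leaf (.root 1392)) (.leaf (.up 3 1638 2))) (.node (.leaf (.up 3 1598 3)) (.leaf (.up 3 144 0)))) (.node (.node (.leaf (.root 2230)) (.leaf (.up 1 195 1))) (.node (.leaf (.up 4 1616 2)) (.leaf (.up 1 195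 3))))) (.node (.node (.node (.leaf (.up 2 715 0)) (.leaf (.up 4 849 2))) (.node (.leaf (.up 2 1658 3)) (.leaf (.up 2 1504 3)))) (.node (.node (.leaf (.up 2 1657 1)) (.leaf (.up 2 443 0))) (.node (.leaf (.up 2 1065 0)) (.leaf (.up 1 65 1)))))))) (.node (.node (.node (.node (.node (.node (.leaf (.up 2 744 0)) (.leaf (.up 4 1108 3))) (.node (.leaf (.up 4 365 3)) (.leaf (.up 2 1914 0)))) (.node (.node (.leaf (.up 2 959 2)) (.leaf (.up 2 310 1))) (.node (.leaf (.up 2 1806 1)) (.leaf (.up 2 925 2))))) (.node (.node (.node (.leaf (.up 2 1930 3)) (.leaf (.up 3 1040 3))) (.node (.leaf (.up 2 898 0)) (.leaf (.up 3 164 1)))) (.node (.node (.leaf (.up 4 1672 2)) (.leaf (.up 3 375 3))) (.node (.leaf (.up 3 1102 3)) (.leaf (.up 2 2004 3)))))) (.node (.node (.node (.node (.leaf (.root 843)) (.leaf (.up 3 614 2))) (.node (.leaf (.up 2 2019 1)) (.leaf (.up 4 695 3)))) (.node (.node (.leaf (.up 3 578 2)) (.leaf (.up 2 984 0))) (.node (.leaf (.up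 3 1779 1)) (.leaf (.up 2 2000 3))))) (.node (.node (.node (.leaf (.root 1884)) (.leaf (.up 4 1873 2))) (.node (.leaf (.up 2 361 3)) (.leaf (.up 1 345 1)))) (.node (.node (.leaf (.up 3 1909 2)) (.leaf (.up 2 1041 0))) (.node (.leaf (.up 2 1635 1)) (.leaf (.up 1 73 1))))))) (.node (.node (.node (.node (.node (.leaf (.up 3 1556 1)) (.leaf (.up 3 62 1))) (.node (.leaf (.up 3 1542 1)) (.leaf (.up 1 44 1)))) (.node (.node (.leaf (.up 2 543 0)) (.leaf (.up 1 302 0))) (.node (.leaf (.up 3 1541 3)) (.leaf (.up 1 316 1))))) (.node (.node (.node (.leaf (.up 3 1413 3)) (.leaf (.up 2 1567 3))) (.node (.leaf (.up 2 806 3)) (.leaf (.up 1 5 0)))) (.node (.node (.leaf (.up 3 226 3)) (.leaf (.up 3 1767 0))) (.node (.leaf (.up 4 650 2)) (.leaf (.up 1 68 0)))))) (.node (.node (.node (.node (.leaf (.up 2 1409 3)) (.leaf (.up 3 1654 2))) (.node (.leaf (.up 3 2043 1)) (.leaf (.up 2 1420 0)))) (.node (.node (.leaf (.up 1 95 0)) (.leaf (.up 2 892 3))) (.node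 (.leaf (.up 3 1605 3)) (.leaf (.up 2 1485 0))))) (.node (.node (.node (.leaf (.up 2 881 2)) (.leaf (.up 3 1254 0))) (.node (.leaf (.up 2 372 0)) (.leaf (.up 4 851 2)))) (.node (.node (.leaf (.up 1 162 3)) (.leaf (.up 4 853 2))) (.node (.leaf (.up 2 309 0)) (.leaf (.up 3 516 0))))))))

noncomputable def vt5_0_0011 : Tr VStep :=
  .node (.node (.node (.node (.node (.node (.node (.leaf (.root 753)) (.leaf (.up 1 6 1))) (.node (.leaf (.up 3 1598 1)) (.leaf (.up 3 20 1)))) (.node (.node (.leaf (.up 3 1413 2)) (.leaf (.up 1 278 1))) (.node (.leaf (.up 3 1431 2)) (.leaf (.up 1 260 1))))) (.node (.node (.node (.leaf (.up 2 423 3)) (.leaf (.up 1 150 0))) (.node (.leaf (.up 4 180 2)) (.leaf (.up 2 132 1)))) (.node (.node (.leaf (.up 4 178 2)) (.leaf (.up 1 130 2))) (.node (.leaf (.up 2 160 2)) (.leaf (.up 3 144 2)))))) (.node (.node (.node (.node (.leaf (.up 3 419 3)) (.leaf (.up 2 1116 2))) (.node (.leaf (.up 1 141 0)) (.leaf (.up 3 1102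 2)))) (.node (.node (.leaf (.up 3 1144 2)) (.leaf (.up 1 235 1))) (.node (.leaf (.up 1 204 0)) (.leaf (.up 3 509 3))))) (.node (.node (.node (.leaf (.root 1468)) (.leaf (.up 2 726 0))) (.node (.leaf (.up 2 1860 0)) (.leaf (.up 3 1246 3)))) (.node (.node (.leaf (.up 3 1152 3)) (.leaf (.up 1 123 1))) (.node (.leaf (.up 3 349 2)) (.leaf (.up 2 105 1))))))) (.node (.node (.node (.node (.node (.leaf (.root 789)) (.leaf (.up 4 118 3))) (.node (.leaf (.up 4 403 2)) (.leaf (.up 1 12 1)))) (.node (.node (.leaf (.up 3 405 2)) (.leaf (.up 3 1297 3))) (.node (.leaf (.up 1 40 3)) (.leaf (.up 1 267 0))))) (.node (.node (.node (.leaf (.up 2 785 0)) (.leaf (.up 2 142 1))) (.node (.leaf (.up 2 1291 3)) (.leaf (.up 2 1681 3)))) (.node (.node (.leaf (.up 2 1972 1)) (.leaf (.up 2 1170 2))) (.node (.leaf (.up 3 1200 2)) (.leaf (.up 3 1152 2)))))) (.node (.node (.node (.node (.leaf (.up 4 940 3)) (.leaf (.up 2 483 1))) (.node (.leaf (.up 2 1295 3)) (.leaf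 (.up 4 1685 3)))) (.node (.node (.leaf (.up 1 104 2)) (.leaf (.up 3 243 1))) (.node (.leaf (.up 1 104 3)) (.leaf (.up 1 74 2))))) (.node (.node (.node (.leaf (.up 2 1000 3)) (.leaf (.up 4 114 3))) (.node (.leaf (.up 2 2034 0)) (.leaf (.up 4 1385 2)))) (.node (.node (.leaf (.up 3 1375 2)) (.leaf (.up 2 1391 2))) (.node (.leaf (.up 1 44 3)) (.leaf (.up 3 1405 2)))))))) (.node (.node (.node (.node (.node (.node (.leaf (.root 759)) (.leaf (.up 1 22 1))) (.node (.leaf (.up 3 1427 2)) (.leaf (.up 1 4 1)))) (.node (.node (.leaf (.up 2 1836 1)) (.leaf (.up 3 514 0))) (.node (.leaf (.up 2 1415 2)) (.leaf (.up 3 1463 2))))) (.node (.node (.node (.leaf (.up 3 182 2)) (.leaf (.up 3 134 1))) (.node (.leaf (.up 3 164 2)) (.leaf (.up 3 148 1)))) (.node (.node (.leaf (.up 1 162 2)) (.leaf (.up 2 582 3))) (.node (.leaf (.up 1 89 0)) (.leaf (.up 3 1253 3)))))) (.node (.node (.node (.node (.leaf (.root 1890)) (.leaf (.up 1 3 0))) (.node (.leaf (.up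 2 1425 0)) (.leaf (.up 3 390 3)))) (.node (.node (.leaf (.up 2 472 3)) (.leaf (.up 1 66 0))) (.node (.leaf (.up 2 1488 0)) (.leaf (.up 3 1249 3))))) (.node (.node (.node (.leaf (.up 2 1275 0)) (.leaf (.up 2 1889 3))) (.node (.leaf (.up 1 345 2)) (.leaf (.up 2 361 0)))) (.node (.node (.leaf (.up 2 412 3)) (.leaf (.up 3 367 2))) (.node (.leaf (.up 2 333 2)) (.leaf (.up 1 121 1))))))) (.node (.node (.node (.node (.node (.leaf (.up 4 1776 3)) (.leaf (.up 1 14 1))) (.node (.leaf (.up 4 387 2)) (.leaf (.up 1 28 1)))) (.node (.node (.leaf (.root 1258)) (.leaf (.up 1 13 3))) (.node (.leaf (.up 2 1332 3)) (.leaf (.up 2 423 2))))) (.node (.node (.node (.leaf (.up 2 1716 1)) (.leaf (.up 2 1340 0))) (.node (.leaf (.up 1 23 3)) (.leaf (.up 3 140 1)))) (.node (.node (.leaf (.up 4 1202 2)) (.leaf (.up 1 73 3))) (.node (.leaf (.up 2 1184 2)) (.leaf (.up 2 1168 2)))))) (.node (.node (.node (.node (.leaf (.up 3 2009 1)) (.leaf (.up 1 92 2))) (.node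 (.leaf (.up 1 19 3)) (.leaf (.up 2 78 2)))) (.node (.node (.leaf (.up 3 983 3)) (.leaf (.up 1 72 2))) (.node (.leaf (.up 1 106 2)) (.leaf (.up 3 1774 3))))) (.node (.node (.node (.leaf (.up 3 1371 2)) (.leaf (.up 2 355 1))) (.node (.leaf (.up 2 87 3)) (.leaf (.up 4 973 3)))) (.node (.node (.leaf (.up 2 1036 0)) (.leaf (.up 1 9 3))) (.node (.leaf (.up 2 687 0)) (.leaf (.up 4 1389 2))))))))

noncomputable def vt5_0_001 : Tr VStep := .node vt5_0_0010 vt5_0_0011

noncomputable def vt5_0_00 : Tr VStep := .node vt5_0_000 vt5_0_001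

noncomputable def vt5_0_0100 : Tr VStep :=
  .node (.node (.node (.node (.node (.node (.node (.leaf (.root 980)) (.leaf (.up 2 37 3))) (.node (.leaf (.up 2 1806 0)) (.leaf (.up 2 153 2)))) (.node (.node (.leaf (.up 2 1752 3)) (.leaf (.up 3 733 0))) (.node (.leaf (.up 1 123 3)) (.leaf (.up 1 141 2))))) (.node (.node (.node (.leaf (.root 1616)) (.leaf (.up 2 1468 2))) (.node (.leaf (.up 3 1438 2)) (.leaf (.up 3 1454 2)))) (.node (.node (.leaf (.up 2 1573 0)) (.leaf (.up 3 946 1))) (.node (.leaf (.up 1 63 3)) (.leaf (.up 3 928 1)))))) (.node (.node (.node (.node (.leaf (.root 1764)) (.leaf (.up 1 101 3))) (.node (.leaf (.up 2 1372 3)) (.leaf (.up 1 356 2)))) (.node (.node (.leaf (.up 4 338 2)) (.leaf (.up 2 157 0))) (.node (.leaf (.up 2 1295 0)) (.leaf (.up 3 1598 0))))) (.node (.node (.node (.leaf (.up 2 955 3)) (.leaf (.up 3 1089 2))) (.node (.leaf (.up 3 1123 2)) (.leaf (.up 2 438 0)))) (.node (.node (.leaf (.up 3 1756 3)) (.leaf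 (.up 3 1350 3))) (.node (.leaf (.up 1 127 3)) (.leaf (.up 3 997 3))))))) (.node (.node (.node (.node (.node (.leaf (.root 1522)) (.leaf (.up 1 554 0))) (.node (.leaf (.up 2 1811 3)) (.leaf (.up 2 568 1)))) (.node (.node (.leaf (.up 2 1215 2)) (.leaf (.up 2 1167 2))) (.node (.leaf (.up 2 2041 0)) (.leaf (.up 2 1224 0))))) (.node (.node (.node (.leaf (.root 1982)) (.leaf (.up 3 428 2))) (.node (.leaf (.up 3 1879 3)) (.leaf (.up 3 446 2)))) (.node (.node (.leaf (.up 3 392 2)) (.leaf (.up 2 1801 3))) (.node (.leaf (.up 2 1426 1)) (.leaf (.up 3 426 2)))))) (.node (.node (.node (.node (.leaf (.root 2232)) (.leaf (.up 1 106 0))) (.node (.leaf (.up 2 1528 0)) (.leaf (.up 3 1225 3)))) (.node (.node (.leaf (.up 3 1175 3)) (.leaf (.up 1 43 0))) (.node (.leaf (.up 2 1279 1)) (.leaf (.up 2 725 1))))) (.node (.node (.node (.leaf (.up 2 1170 0)) (.leaf (.up 3 81 2))) (.node (.leaf (.up 3 1815 3)) (.leaf (.up 2 256 0)))) (.node (.node (.leaf (.up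 1 117 2)) (.leaf (.up 1 69 2))) (.node (.leaf (.up 1 103 2)) (.leaf (.up 2 87 2)))))))) (.node (.node (.node (.node (.node (.node (.leaf (.root 1028)) (.leaf (.up 3 546 1))) (.node (.leaf (.up 1 0 3)) (.leaf (.up 2 291 0)))) (.node (.node (.leaf (.up 3 191 2)) (.leaf (.up 2 1985 0))) (.node (.leaf (.up 1 173 2)) (.leaf (.up 2 157 2))))) (.node (.node (.node (.leaf (.up 3 1767 3)) (.leaf (.up 1 73 0))) (.node (.leaf (.up 1 68 3)) (.leaf (.up 4 1470 2)))) (.node (.node (.leaf (.up 2 896 3)) (.leaf (.up 1 8 0))) (.node (.leaf (.up 2 1315 3)) (.leaf (.up 3 1450 2)))))) (.node (.node (.node (.node (.leaf (.up 2 1763 3)) (.leaf (.up 2 1472 0))) (.node (.leaf (.up 1 64 3)) (.leaf (.up 2 372 2)))) (.node (.node (.leaf (.up 3 1253 1)) (.leaf (.up 2 1409 0))) (.node (.leaf (.up 1 19 0)) (.leaf (.up 3 733 1))))) (.node (.node (.node (.leaf (.up 4 1121 2)) (.leaf (.up 2 1105 2))) (.node (.leaf (.up 1 4 3)) (.leaf (.up 3 1194 0)))) (.node (.node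 (.leaf (.up 3 960 3)) (.leaf (.up 3 1093 2))) (.node (.leaf (.up 3 1379 3)) (.leaf (.up 3 1785 3))))))) (.node (.node (.node (.node (.node (.leaf (.up 3 1040 1)) (.leaf (.up 3 570 1))) (.node (.leaf (.up 3 1193 2)) (.leaf (.up 3 552 1)))) (.node (.node (.leaf (.up 2 1094 0)) (.leaf (.up 2 1911 0))) (.node (.leaf (.up 3 741 0)) (.leaf (.up 2 1266 3))))) (.node (.node (.node (.leaf (.up 3 1152 1)) (.leaf (.up 3 682 1))) (.node (.leaf (.up 2 1170 1)) (.leaf (.up 4 430 2)))) (.node (.node (.leaf (.up 4 408 2)) (.leaf (.up 3 533 3))) (.node (.leaf (.up 2 1836 3)) (.leaf (.up 2 442 2)))))) (.node (.node (.node (.node (.leaf (.up 3 1350 2)) (.leaf (.up 3 1910 3))) (.node (.leaf (.up 3 228 0)) (.leaf (.up 2 981 0)))) (.node (.node (.leaf (.up 3 1542 0)) (.leaf (.up 2 1378 2))) (.node (.leaf (.up 3 1832 3)) (.leaf (.up 2 709 1))))) (.node (.node (.node (.leaf (.up 3 1405 1)) (.leaf (.up 1 65 2))) (.node (.leaf (.up 2 1391 1)) (.leaf (.up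 2 1052 0)))) (.node (.node (.leaf (.up 1 101 2)) (.leaf (.up 3 597 3))) (.node (.leaf (.up 2 1900 0)) (.leaf (.up 1 71 2))))))))

noncomputable def vt5_0_0101 : Tr VStep :=
  .node (.node (.node (.node (.node (.node (.node (.leaf (.root 972)) (.leaf (.up 3 514 1))) (.node (.leaf (.up 2 1581 3)) (.leaf (.up 3 528 1)))) (.node (.node (.leaf (.up 2 1513 3)) (.leaf (.up 2 1717 2))) (.node (.leaf (.up 3 1687 2)) (.leaf (.up 2 2020 0))))) (.node (.node (.node (.leaf (.up 3 934 2)) (.leaf (.up 2 658 1))) (.node (.leaf (.up 3 1194 1)) (.leaf (.up 3 1523 3)))) (.node (.node (.leaf (.up 3 946 2)) (.leaf (.up 2 898 1))) (.node (.leaf (.up 3 928 2)) (.leaf (.up 1 45 0)))))) (.node (.node (.node (.node (.leaf (.root 1232)) (.leaf (.up 2 1023 1))) (.node (.leaf (.up 2 1748 0)) (.leaf (.up 2 1509 0)))) (.node (.node (.leaf (.up 2 1221 1)) (.leaf (.up 3 1864 2))) (.node (.leaf (.up 4 1898 2)) (.leaf (.up 3 144 3))))) (.node (.node (.node (.leaf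 (.up 4 603 2)) (.leaf (.up 2 1167 0))) (.node (.leaf (.up 2 1577 3)) (.leaf (.up 3 633 2)))) (.node (.node (.leaf (.up 3 1517 3)) (.leaf (.up 3 1655 3))) (.node (.leaf (.up 3 846 3)) (.leaf (.up 1 212 3))))))) (.node (.node (.node (.node (.node (.leaf (.root 2386)) (.leaf (.up 2 432 0))) (.node (.leaf (.root 2082)) (.leaf (.up 2 1811 0)))) (.node (.node (.leaf (.up 3 1312 1)) (.leaf (.up 2 1148 3))) (.node (.leaf (.up 3 325 3)) (.leaf (.up 2 792 1))))) (.node (.node (.node (.leaf (.root 1614)) (.leaf (.up 2 1657 0))) (.node (.leaf (.up 2 1003 0)) (.leaf (.up 3 1940 2)))) (.node (.node (.leaf (.up 2 1456 1)) (.leaf (.up 2 1592 0))) (.node (.leaf (.up 1 257 3)) (.leaf (.up 3 667 3)))))) (.node (.node (.node (.node (.leaf (.root 1762)) (.leaf (.up 2 844 2))) (.node (.leaf (.up 2 1122 3)) (.leaf (.up 2 1013 1)))) (.node (.node (.leaf (.up 3 1958 3)) (.leaf (.up 2 1084 3))) (.node (.leaf (.up 3 890 2)) (.leaf (.up 3 741 1))))) (.node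 (.node (.node (.leaf (.up 4 1611 2)) (.leaf (.up 2 1081 0))) (.node (.leaf (.up 2 427 0)) (.leaf (.up 3 1980 3)))) (.node (.node (.leaf (.up 3 2018 3)) (.leaf (.up 3 615 1))) (.node (.leaf (.up 2 1613 2)) (.leaf (.up 3 1661 2)))))))) (.node (.node (.node (.node (.node (.node (.leaf (.up 2 1426 3)) (.leaf (.up 2 1544 3))) (.node (.leaf (.up 3 817 3)) (.leaf (.up 2 171 3)))) (.node (.node (.leaf (.up 2 1320 1)) (.leaf (.up 2 770 1))) (.node (.leaf (.up 2 1622 3)) (.leaf (.up 2 1484 3))))) (.node (.node (.node (.leaf (.up 3 226 0)) (.leaf (.up 4 1612 3))) (.node (.leaf (.up 4 885 3)) (.leaf (.up 4 916 2)))) (.node (.node (.leaf (.up 3 930 2)) (.leaf (.up 1 811 3))) (.node (.leaf (.up 3 1536 0)) (.leaf (.up 2 896 1)))))) (.node (.node (.node (.node (.leaf (.up 4 1916 2)) (.leaf (.up 2 1626 0))) (.node (.leaf (.up 2 881 3)) (.leaf (.up 1 235 3)))) (.node (.node (.leaf (.up 3 181 3)) (.leaf (.up 3 1880 2))) (.node (.leaf (.up 2 1914 2))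 (.leaf (.up 2 1420 3))))) (.node (.node (.node (.leaf (.up 4 587 2)) (.leaf (.up 2 895 1))) (.node (.leaf (.up 3 1025 0)) (.leaf (.up 2 1840 0)))) (.node (.node (.leaf (.up 3 739 0)) (.leaf (.up 2 623 1))) (.node (.leaf (.up 3 1618 3)) (.leaf (.up 2 1480 3))))))) (.node (.node (.node (.node (.node (.leaf (.root 1308)) (.leaf (.up 3 522 1))) (.node (.leaf (.up 2 318 0)) (.leaf (.up 3 691 2)))) (.node (.node (.leaf (.up 2 2012 0)) (.leaf (.up 3 693 2))) (.node (.leaf (.up 3 663 2)) (.leaf (.up 3 1987 3))))) (.node (.node (.node (.leaf (.up 1 84 0)) (.leaf (.up 3 1942 2))) (.node (.leaf (.up 2 1972 2)) (.leaf (.up 3 736 3)))) (.node (.node (.leaf (.up 1 21 0)) (.leaf (.up 4 292 3))) (.node (.leaf (.up 2 1053 3)) (.leaf (.up 2 1415 0)))))) (.node (.node (.node (.node (.leaf (.up 2 2013 3)) (.leaf (.up 3 860 2))) (.node (.leaf (.up 1 382 3)) (.leaf (.up 1 79 0)))) (.node (.node (.leaf (.up 3 698 3)) (.leaf (.up 2 1709 0))) (.node (.leaf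 (.up 2 1049 3)) (.leaf (.up 1 14 0))))) (.node (.node (.node (.leaf (.up 3 1945 3)) (.leaf (.up 2 293 0))) (.node (.leaf (.up 3 1375 1)) (.leaf (.up 2 1657 2)))) (.node (.node (.leaf (.up 3 1615 2)) (.leaf (.up 1 356 0))) (.node (.leaf (.up 3 1117 3)) (.leaf (.up 4 1645 2))))))))

noncomputable def vt5_0_010 : Tr VStep := .node vt5_0_0100 vt5_0_0101

noncomputable def vt5_0_0110 : Tr VStep :=
  .node (.node (.node (.node (.node (.node (.node (.leaf (.root 711)) (.leaf (.up 3 229 3))) (.node (.leaf (.up 4 441 2)) (.leaf (.up 2 971 0)))) (.node (.node (.leaf (.up 2 1560 0)) (.leaf (.up 2 1321 0))) (.node (.leaf (.up 2 187 0)) (.leaf (.up 2 801 3))))) (.node (.node (.node (.leaf (.up 2 827 3)) (.leaf (.up 3 161 3))) (.node (.leaf (.up 2 1843 0)) (.leaf (.up 3 1538 3)))) (.node (.node (.leaf (.up 2 1160 2)) (.leaf (.up 3 736 0))) (.node (.leaf (.up 3 1438 1)) (.leaf (.up 3 1194 2)))))) (.node (.node (.node (.node (.leaf (.up 2 1049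 0)) (.leaf (.up 1 102 2))) (.node (.leaf (.up 1 68 2)) (.leaf (.up 3 1542 3)))) (.node (.node (.leaf (.up 1 66 2)) (.leaf (.up 2 715 1))) (.node (.leaf (.up 3 251 3)) (.leaf (.up 2 96 2))))) (.node (.node (.node (.leaf (.root 1016)) (.leaf (.up 3 1361 2))) (.node (.leaf (.up 2 1496 3)) (.leaf (.up 2 1602 0)))) (.node (.node (.leaf (.up 2 1564 3)) (.leaf (.up 2 160 0))) (.node (.leaf (.up 3 191 3)) (.leaf (.up 2 805 3))))))) (.node (.node (.node (.node (.node (.leaf (.up 3 1467 2)) (.leaf (.up 3 1419 2))) (.node (.leaf (.up 4 1449 2)) (.leaf (.up 3 1097 3)))) (.node (.node (.leaf (.up 2 1455 2)) (.leaf (.up 3 1933 3))) (.node (.leaf (.up 1 13 0)) (.leaf (.up 1 302 3))))) (.node (.node (.node (.leaf (.up 3 140 2)) (.leaf (.up 3 188 2))) (.node (.leaf (.up 4 158 2)) (.leaf (.up 2 1037 3)))) (.node (.node (.leaf (.up 2 359 0)) (.leaf (.up 2 598 0))) (.node (.leaf (.up 2 1988 0)) (.leaf (.up 2 186 2)))))) (.node (.node (.node (.node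 (.leaf (.root 2298)) (.leaf (.up 3 682 3))) (.node (.leaf (.up 2 1531 1)) (.leaf (.up 2 1033 3)))) (.node (.node (.leaf (.up 3 1106 2)) (.leaf (.up 2 1122 2))) (.node (.leaf (.up 3 756 3)) (.leaf (.up 2 705 1))))) (.node (.node (.node (.leaf (.up 2 372 3)) (.leaf (.up 2 87 0))) (.node (.leaf (.up 2 355 2)) (.leaf (.up 3 339 2)))) (.node (.node (.leaf (.up 3 1043 3)) (.leaf (.up 1 22 0))) (.node (.leaf (.up 3 375 2)) (.leaf (.up 2 1717 0)))))))) (.node (.node (.node (.node (.node (.node (.leaf (.root 1388)) (.leaf (.up 3 1529 3))) (.node (.leaf (.up 2 1510 0)) (.leaf (.up 3 858 3)))) (.node (.node (.leaf (.root 873)) (.leaf (.up 2 806 1))) (.node (.leaf (.up 3 445 2)) (.leaf (.up 2 1597 3))))) (.node (.node (.node (.leaf (.root 2450)) (.leaf (.up 3 1469 3))) (.node (.leaf (.up 2 132 3)) (.leaf (.up 3 692 1)))) (.node (.node (.leaf (.up 3 1176 2)) (.leaf (.up 3 1192 2))) (.node (.leaf (.up 3 1507 3)) (.leaf (.up 2 1657 3)))))) (.node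 (.node (.node (.node (.leaf (.up 3 70 2)) (.leaf (.up 2 971 1))) (.node (.leaf (.up 1 84 2)) (.leaf (.up 1 100 2)))) (.node (.node (.leaf (.up 3 836 3)) (.leaf (.up 1 98 2))) (.node (.leaf (.up 1 64 2)) (.leaf (.up 3 713 1))))) (.node (.node (.node (.leaf (.up 2 1639 3)) (.leaf (.up 2 1533 0))) (.node (.leaf (.up 1 111 0)) (.leaf (.up 4 1363 2)))) (.node (.node (.leaf (.up 2 1677 0)) (.leaf (.up 2 1468 0))) (.node (.leaf (.up 3 1443 3)) (.leaf (.up 3 1351 2))))))) (.node (.node (.node (.node (.node (.leaf (.up 3 1028 1)) (.leaf (.up 3 2038 3))) (.node (.leaf (.up 4 1465 2)) (.leaf (.up 3 341 3)))) (.node (.node (.leaf (.up 1 267 3)) (.leaf (.up 2 1423 2))) (.node (.leaf (.up 3 1297 0)) (.leaf (.up 2 1568 0))))) (.node (.node (.node (.leaf (.up 2 1064 3)) (.leaf (.up 3 1970 3))) (.node (.leaf (.up 2 142 2)) (.leaf (.up 3 273 3)))) (.node (.node (.leaf (.up 1 136 2)) (.leaf (.up 2 725 3))) (.node (.leaf (.up 2 728 0)) (.leaf (.up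 1 170 2)))))) (.node (.node (.node (.node (.leaf (.up 3 1110 2)) (.leaf (.up 2 1974 3))) (.node (.leaf (.up 3 1515 1)) (.leaf (.up 2 1057 0)))) (.node (.node (.leaf (.up 2 498 0)) (.leaf (.up 2 721 3))) (.node (.leaf (.up 2 1275 1)) (.leaf (.up 2 1120 0))))) (.node (.node (.node (.leaf (.up 2 1658 0)) (.leaf (.up 2 2034 3))) (.node (.leaf (.up 2 715 3)) (.leaf (.up 2 1000 0)))) (.node (.node (.leaf (.up 3 373 2)) (.leaf (.up 3 325 2))) (.node (.leaf (.up 2 359 2)) (.leaf (.up 2 343 2))))))))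

noncomputable def vt5_0_0111 : Tr VStep :=
  .node (.node (.node (.node (.node (.node (.node (.leaf (.root 751)) (.leaf (.up 3 534 1))) (.node (.leaf (.up 4 1939 2)) (.leaf (.up 3 516 1)))) (.node (.node (.leaf (.up 2 1321 3)) (.leaf (.up 3 1957 2))) (.node (.leaf (.up 2 801 0)) (.leaf (.up 1 16 0))))) (.node (.node (.node (.leaf (.up 1 10 3)) (.leaf (.up 3 912 3))) (.node (.leaf (.up 3 1705 3)) (.leaf (.up 3 1331 3)))) (.node (.node (.leaf (.up 2 1468 1)) (.leaf (.up 2 658 2))) (.node (.leaf (.up 3 1454 1)) (.leaf (.up 1 84 3)))))) (.node (.node (.node (.node (.leaf (.up 1 14 3)) (.leaf (.up 2 1003 1))) (.node (.leaf (.up 2 1709 3)) (.leaf (.up 2 1630 2)))) (.node (.node (.leaf (.up 2 1233 1)) (.leaf (.up 3 1779 3))) (.node (.leaf (.up 2 1658 2)) (.leaf (.up 3 1610 2))))) (.node (.node (.node (.leaf (.up 1 74 0)) (.leaf (.up 2 891 0))) (.node (.leaf (.up 2 1769 0)) (.leaf (.up 2 1496 0)))) (.node (.node (.leaf (.up 1 11 0)) (.leaf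 (.up 4 879 2))) (.node (.leaf (.up 2 1704 0)) (.leaf (.up 3 20 3))))))) (.node (.node (.node (.node (.node (.leaf (.up 4 577 3)) (.leaf (.up 3 475 3))) (.node (.leaf (.up 4 899 2)) (.leaf (.up 4 1912 3)))) (.node (.node (.leaf (.root 775)) (.leaf (.up 3 1541 0))) (.node (.leaf (.up 2 389 3)) (.leaf (.up 2 543 3))))) (.node (.node (.node (.leaf (.up 2 517 3)) (.leaf (.up 4 415 3))) (.node (.leaf (.up 2 1716 2)) (.leaf (.up 3 1852 3)))) (.node (.node (.leaf (.up 3 1890 3)) (.leaf (.up 2 1272 3))) (.node (.leaf (.up 3 1462 1)) (.leaf (.up 2 924 1)))))) (.node (.node (.node (.node (.leaf (.up 3 513 3)) (.leaf (.up 3 1028 0))) (.node (.leaf (.up 4 1186 3)) (.leaf (.up 3 590 2)))) (.node (.node (.leaf (.up 3 1225 1)) (.leaf (.up 3 739 1))) (.node (.leaf (.up 3 618 2)) (.leaf (.up 3 602 2))))) (.node (.node (.node (.leaf (.up 4 581 3)) (.leaf (.up 4 1899 2))) (.node (.leaf (.up 3 1254 3)) (.leaf (.up 2 881 1)))) (.node (.node (.leaf (.up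 3 1871 2)) (.leaf (.up 3 1919 2))) (.node (.leaf (.up 2 385 3)) (.leaf (.up 3 1901 2)))))))) (.node (.node (.node (.node (.node (.node (.leaf (.up 3 1937 2)) (.leaf (.up 3 1736 3))) (.node (.leaf (.up 3 1923 2)) (.leaf (.up 3 1971 2)))) (.node (.node (.leaf (.up 2 1340 1)) (.leaf (.up 2 1973 2))) (.node (.leaf (.up 2 1597 0)) (.leaf (.up 2 772 1))))) (.node (.node (.node (.leaf (.up 3 1302 3)) (.leaf (.up 3 1676 3))) (.node (.leaf (.up 3 692 2)) (.leaf (.up 1 47 3)))) (.node (.node (.leaf (.up 3 690 2)) (.leaf (.up 2 1003 3))) (.node (.leaf (.up 2 500 0)) (.leaf (.up 2 709 0)))))) (.node (.node (.node (.node (.leaf (.up 3 1489 1)) (.leaf (.up 2 1019 1))) (.node (.leaf (.up 2 1084 0)) (.leaf (.up 1 43 3)))) (.node (.node (.leaf (.up 1 117 3)) (.leaf (.up 2 747 1))) (.node (.leaf (.up 3 1642 2)) (.leaf (.up 2 1356 3))))) (.node (.node (.node (.leaf (.up 2 1366 0)) (.leaf (.up 2 1639 0))) (.node (.leaf (.up 2 1013 0)) (.leaf (.up 1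 111 3)))) (.node (.node (.leaf (.up 2 1105 1)) (.leaf (.up 2 895 2))) (.node (.leaf (.up 3 861 2)) (.leaf (.up 4 877 2))))))) (.node (.node (.node (.node (.node (.leaf (.up 2 105 0)) (.leaf (.up 4 1223 3))) (.node (.leaf (.up 4 510 3)) (.leaf (.up 2 1531 0)))) (.node (.node (.leaf (.up 1 40 0)) (.leaf (.up 3 933 2))) (.node (.leaf (.up 3 903 2)) (.leaf (.up 3 1795 3))))) (.node (.node (.node (.leaf (.up 2 1952 0)) (.leaf (.up 2 1169 0))) (.node (.leaf (.up 2 442 3)) (.leaf (.up 4 544 3)))) (.node (.node (.leaf (.up 2 2017 0)) (.leaf (.up 3 484 3))) (.node (.leaf (.up 3 1712 2)) (.leaf (.up 3 1863 3)))))) (.node (.node (.node (.node (.leaf (.up 2 636 2)) (.leaf (.up 2 588 2))) (.node (.leaf (.up 3 1499 1)) (.leaf (.up 3 606 2)))) (.node (.node (.leaf (.root 2398)) (.leaf (.up 1 345 0))) (.node (.leaf (.up 2 1241 3)) (.leaf (.up 3 586 2))))) (.node (.node (.node (.leaf (.up 2 1504 0)) (.leaf (.up 4 1219 3))) (.node (.leaf (.up 4 506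 3)) (.leaf (.up 4 1897 2)))) (.node (.node (.leaf (.up 3 1887 2)) (.leaf (.up 4 1903 2))) (.node (.leaf (.up 2 770 0)) (.leaf (.up 2 625 1))))))))

noncomputable def vt5_0_011 : Tr VStep := .node vt5_0_0110 vt5_0_0111

noncomputable def vt5_0_01 : Tr VStep := .node vt5_0_010 vt5_0_011

noncomputable def vt5_0_0 : Tr VStep := .node vt5_0_00 vt5_0_01

noncomputable def vt5_0_1000 : Tr VStep :=
  .node (.node (.node (.node (.node (.node (.node (.leaf (.root 1874)) (.leaf (.up 2 625 0))) (.node (.leaf (.up 2 2019 0)) (.leaf (.up 3 1325 2)))) (.node (.node (.leaf (.root 2334)) (.leaf (.up 2 291 1))) (.node (.leaf (.up 2 1289 2)) (.leaf (.up 3 1337 2))))) (.node (.node (.node (.leaf (.up 1 56 2)) (.leaf (.up 1 8 2))) (.node (.leaf (.up 1 42 0)) (.leaf (.up 3 26 2)))) (.node (.node (.leaf (.up 1 44 2)) (.leaf (.up 1 28 2))) (.node (.leaf (.up 3 62 2)) (.leaf (.up 1 14 2)))))) (.node (.node (.node (.node (.leaf (.root 992)) (.leaf (.up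 2 462 1))) (.node (.leaf (.up 3 1248 2)) (.leaf (.up 3 1232 2)))) (.node (.node (.leaf (.up 3 1254 2)) (.leaf (.up 3 1238 2))) (.node (.leaf (.up 2 1506 0)) (.leaf (.up 1 204 1))))) (.node (.node (.node (.leaf (.up 3 1225 0)) (.leaf (.up 2 2040 0))) (.node (.leaf (.up 1 106 3)) (.leaf (.up 2 347 0)))) (.node (.node (.leaf (.up 2 1160 0)) (.leaf (.up 2 78 1))) (.node (.leaf (.up 3 555 0)) (.leaf (.up 1 92 1))))))) (.node (.node (.node (.node (.node (.leaf (.up 4 1218 3)) (.leaf (.up 1 43 1))) (.node (.leaf (.up 3 609 3)) (.leaf (.up 4 507 3)))) (.node (.node (.leaf (.up 1 267 2)) (.leaf (.up 3 575 3))) (.node (.leaf (.up 1 281 2)) (.leaf (.up 2 1061 0))))) (.node (.node (.node (.leaf (.up 2 1064 2)) (.leaf (.up 2 1048 2))) (.node (.leaf (.up 4 549 3)) (.leaf (.up 4 1034 2)))) (.node (.node (.leaf (.up 2 1084 2)) (.leaf (.up 2 1036 2))) (.node (.leaf (.up 2 221 0)) (.leaf (.up 2 1004 0)))))) (.node (.node (.node (.node (.leaf (.up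 3 226 2)) (.leaf (.up 3 1816 3))) (.node (.leaf (.up 2 240 2)) (.leaf (.up 2 443 3)))) (.node (.node (.leaf (.up 3 246 2)) (.leaf (.up 1 198 0))) (.node (.leaf (.up 3 228 2)) (.leaf (.up 1 212 1))))) (.node (.node (.node (.leaf (.up 2 1493 2)) (.leaf (.up 2 1509 2))) (.node (.leaf (.up 2 732 0)) (.leaf (.up 4 511 3)))) (.node (.node (.leaf (.up 3 417 3)) (.leaf (.up 2 1807 0))) (.node (.leaf (.up 2 1794 3)) (.leaf (.up 1 68 1)))))))) (.node (.node (.node (.node (.node (.node (.leaf (.up 2 1116 0)) (.leaf (.up 1 35 1))) (.node (.leaf (.up 3 1394 3)) (.leaf (.up 2 462 0)))) (.node (.node (.leaf (.up 2 1291 2)) (.leaf (.up 2 1836 0))) (.node (.leaf (.up 1 21 3)) (.leaf (.up 2 1321 2))))) (.node (.node (.node (.leaf (.up 1 40 2)) (.leaf (.up 1 15 3))) (.node (.leaf (.up 1 58 2)) (.leaf (.up 1 10 2)))) (.node (.node (.leaf (.up 3 1929 1)) (.leaf (.up 1 12 2))) (.node (.leaf (.up 3 1947 1)) (.leaf (.up 2 971 3)))))) (.node (.node (.node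 (.node (.leaf (.up 2 1564 0)) (.leaf (.up 1 11 3))) (.node (.leaf (.up 3 191 0)) (.leaf (.up 2 1704 3)))) (.node (.node (.leaf (.up 3 1782 3)) (.leaf (.up 2 206 1))) (.node (.leaf (.up 3 1782 1)) (.leaf (.up 3 220 1))))) (.node (.node (.node (.leaf (.up 2 981 3)) (.leaf (.up 1 79 3))) (.node (.leaf (.up 1 455 2)) (.leaf (.up 3 503 2)))) (.node (.node (.leaf (.up 3 449 2)) (.leaf (.up 2 1320 3))) (.node (.leaf (.up 3 17 3)) (.leaf (.up 2 483 2))))))) (.node (.node (.node (.node (.node (.leaf (.up 3 1553 1)) (.leaf (.up 4 580 3))) (.node (.leaf (.up 4 1917 3)) (.leaf (.up 4 301 2)))) (.node (.node (.leaf (.up 2 1195 0)) (.leaf (.up 1 299 1))) (.node (.leaf (.up 2 1811 1)) (.leaf (.up 1 313 0))))) (.node (.node (.node (.leaf (.up 4 410 3)) (.leaf (.up 1 18 0))) (.node (.leaf (.up 3 1849 3)) (.leaf (.up 3 1187 3)))) (.node (.node (.leaf (.up 3 1937 1)) (.leaf (.up 2 1052 2))) (.node (.leaf (.up 3 1923 1)) (.leaf (.up 4 1038 2))))))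 (.node (.node (.node (.node (.leaf (.up 4 414 3)) (.leaf (.up 3 516 3))) (.node (.leaf (.up 1 9 0)) (.leaf (.up 4 1191 3)))) (.node (.node (.leaf (.up 3 230 2)) (.leaf (.up 3 214 1))) (.node (.leaf (.up 1 72 0)) (.leaf (.up 3 196 1))))) (.node (.node (.node (.leaf (.up 2 355 0)) (.leaf (.up 2 594 0))) (.node (.leaf (.up 4 1913 3)) (.leaf (.up 3 1251 3)))) (.node (.node (.leaf (.up 3 1489 2)) (.leaf (.up 3 531 0))) (.node (.leaf (.up 2 1921 0)) (.leaf (.up 1 84 1))))))))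

noncomputable def vt5_0_1001 : Tr VStep :=
  .node (.node (.node (.node (.node (.node (.node (.leaf (.root 970)) (.leaf (.up 1 3 1))) (.node (.leaf (.up 3 863 3)) (.leaf (.up 3 17 1)))) (.node (.node (.leaf (.up 3 817 2)) (.leaf (.up 1 275 1))) (.node (.leaf (.up 2 1592 3)) (.leaf (.up 1 257 1))))) (.node (.node (.node (.leaf (.up 3 1464 3)) (.leaf (.up 1 147 1))) (.node (.leaf (.up 3 1536 2)) (.leaf (.up 2 1584 2)))) (.node (.node (.leaf (.up 3 1542 2)) (.leaf (.up 2 1635 0))) (.node (.leaf (.up 3 1556 2)) (.leaf (.up 2 1510 3)))))) (.node (.node (.node (.node (.leaf (.root 1038)) (.leaf (.up 2 744 2))) (.node (.leaf (.up 3 714 2)) (.leaf (.up 4 133 3)))) (.node (.node (.leaf (.up 3 716 2)) (.leaf (.up 3 764 2))) (.node (.leaf (.up 3 734 2)) (.leaf (.up 2 1506 3))))) (.node (.node (.node (.leaf (.up 2 1860 1)) (.leaf (.up 2 1122 0))) (.node (.leaf (.up 2 496 0)) (.leaf (.up 2 705 0)))) (.node (.node (.leaf (.up 3 2043 2)) (.leaf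 (.up 3 773 3))) (.node (.leaf (.up 2 1596 3)) (.leaf (.up 3 2009 2))))))) (.node (.node (.node (.node (.node (.leaf (.up 3 2035 3)) (.leaf (.up 1 27 1))) (.node (.leaf (.up 3 336 3)) (.leaf (.up 1 9 1)))) (.node (.node (.leaf (.up 3 557 0)) (.leaf (.up 1 267 1))) (.node (.leaf (.up 2 1843 1)) (.leaf (.up 1 281 1))))) (.node (.node (.node (.leaf (.up 3 514 2)) (.leaf (.up 2 1069 3))) (.node (.leaf (.up 3 528 2)) (.leaf (.up 2 153 1)))) (.node (.node (.leaf (.up 3 534 2)) (.leaf (.up 3 330 3))) (.node (.leaf (.up 3 516 2)) (.leaf (.up 4 564 2)))))) (.node (.node (.node (.node (.leaf (.up 1 44 0)) (.leaf (.up 2 1065 3))) (.node (.leaf (.up 3 1754 2)) (.leaf (.up 2 500 1)))) (.node (.node (.leaf (.up 1 109 0)) (.leaf (.up 3 246 1))) (.node (.leaf (.up 3 1742 0)) (.leaf (.up 3 228 1))))) (.node (.node (.node (.leaf (.up 2 1023 2)) (.leaf (.up 3 975 2))) (.node (.leaf (.up 2 326 0)) (.leaf (.up 1 356 1)))) (.node (.node (.leaf (.up 2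 1003 2)) (.leaf (.up 1 102 1))) (.node (.leaf (.up 2 1630 1)) (.leaf (.up 3 969 2)))))))) (.node (.node (.node (.node (.node (.node (.leaf (.up 3 224 3)) (.leaf (.up 1 19 1))) (.node (.leaf (.up 3 1603 3)) (.leaf (.up 1 1 1)))) (.node (.node (.leaf (.root 1714)) (.leaf (.up 2 1565 3))) (.node (.leaf (.up 4 819 2)) (.leaf (.up 3 533 0))))) (.node (.node (.node (.leaf (.up 1 15 0)) (.leaf (.up 4 1586 2))) (.node (.leaf (.up 3 1543 3)) (.leaf (.up 2 1568 2)))) (.node (.node (.leaf (.up 2 78 0)) (.leaf (.up 2 895 0))) (.node (.leaf (.up 2 1540 2)) (.leaf (.up 2 1588 2)))))) (.node (.node (.node (.node (.leaf (.root 1630)) (.leaf (.up 4 826 3))) (.node (.leaf (.up 2 805 0)) (.leaf (.up 3 20 0)))) (.node (.node (.leaf (.root 1230)) (.leaf (.up 3 1782 0))) (.node (.leaf (.up 3 718 2)) (.leaf (.up 3 236 1))))) (.node (.node (.node (.leaf (.up 3 228 3)) (.leaf (.up 1 382 0))) (.node (.leaf (.up 3 1607 3)) (.leaf (.up 2 2013 0)))) (.node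 (.node (.leaf (.up 3 2027 2)) (.leaf (.up 2 1561 3))) (.node (.leaf (.up 2 2041 2)) (.leaf (.up 2 186 3))))))) (.node (.node (.node (.node (.node (.leaf (.up 3 1829 2)) (.leaf (.up 1 11 1))) (.node (.leaf (.up 3 1100 3)) (.leaf (.up 4 1799 2)))) (.node (.node (.leaf (.root 2224)) (.leaf (.up 2 1024 0))) (.node (.leaf (.up 1 299 3)) (.leaf (.up 2 1811 2))))) (.node (.node (.node (.leaf (.up 2 683 3)) (.leaf (.up 3 546 2))) (.node (.leaf (.up 2 1032 3)) (.leaf (.up 4 560 2)))) (.node (.node (.leaf (.up 3 1996 3)) (.leaf (.up 3 1110 3))) (.node (.leaf (.up 3 1971 1)) (.leaf (.up 3 757 3)))))) (.node (.node (.node (.node (.leaf (.root 1446)) (.leaf (.up 2 309 3))) (.node (.leaf (.up 2 1036 3)) (.leaf (.up 1 162 0)))) (.node (.node (.leaf (.up 2 1992 3)) (.leaf (.up 3 230 1))) (.node (.leaf (.up 2 1758 1)) (.leaf (.up 3 1774 2))))) (.node (.node (.node (.leaf (.up 2 747 3)) (.leaf (.up 2 456 0))) (.node (.leaf (.up 3 1096 3)) (.leaf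 (.up 2 372 1)))) (.node (.node (.leaf (.up 2 1019 2)) (.leaf (.up 2 971 2))) (.node (.leaf (.up 3 303 3)) (.leaf (.up 1 100 1))))))))

noncomputable def vt5_0_100 : Tr VStep := .node vt5_0_1000 vt5_0_1001

noncomputable def vt5_0_1010 : Tr VStep :=
  .node (.node (.node (.node (.node (.node (.node (.leaf (.root 934)) (.leaf (.up 1 39 1))) (.node (.leaf (.up 1 23 0)) (.leaf (.up 2 806 0)))) (.node (.node (.leaf (.up 4 1035 2)) (.leaf (.up 2 240 3))) (.node (.leaf (.up 2 1049 2)) (.leaf (.up 2 1065 2))))) (.node (.node (.node (.leaf (.up 3 296 2)) (.leaf (.up 2 588 0))) (.node (.leaf (.up 3 314 2)) (.leaf (.up 3 266 2)))) (.node (.node (.leaf (.up 1 316 0)) (.leaf (.up 2 423 1))) (.node (.leaf (.up 1 302 2)) (.leaf (.up 3 1559 3)))))) (.node (.node (.node (.node (.leaf (.root 1074)) (.leaf (.up 2 1989 0))) (.node (.leaf (.up 3 1520 2)) (.leaf (.up 2 1472 2)))) (.node (.node (.leaf (.up 2 1760 1)) (.leaf (.up 3 176 3))) (.node (.leaf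 (.up 3 534 0)) (.leaf (.up 3 1492 2))))) (.node (.node (.node (.leaf (.up 2 1888 1)) (.leaf (.up 1 12 0))) (.node (.leaf (.up 1 170 3)) (.leaf (.up 3 816 3)))) (.node (.node (.leaf (.up 2 892 0)) (.leaf (.up 3 244 3))) (.node (.leaf (.up 2 1485 3)) (.leaf (.up 1 72 1))))))) (.node (.node (.node (.node (.node (.leaf (.up 1 15 2)) (.leaf (.up 1 63 1))) (.node (.leaf (.up 3 29 2)) (.leaf (.up 1 45 1)))) (.node (.node (.leaf (.up 1 27 2)) (.leaf (.up 1 43 2))) (.node (.leaf (.up 1 9 2)) (.leaf (.up 2 1116 3))))) (.node (.node (.node (.leaf (.up 2 1094 3)) (.leaf (.up 2 2012 3))) (.node (.leaf (.up 3 741 3)) (.leaf (.up 3 383 3)))) (.node (.node (.leaf (.up 2 289 3)) (.leaf (.up 2 699 0))) (.node (.leaf (.up 2 1833 0)) (.leaf (.up 2 1048 0)))))) (.node (.node (.node (.node (.leaf (.root 1330)) (.leaf (.up 2 2008 3))) (.node (.leaf (.up 3 480 2)) (.leaf (.up 2 464 0)))) (.node (.node (.leaf (.up 2 293 3)) (.leaf (.up 3 703 3))) (.node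 (.leaf (.up 2 500 2)) (.leaf (.up 2 1052 3))))) (.node (.node (.node (.leaf (.up 2 1221 2)) (.leaf (.up 2 186 0))) (.node (.leaf (.up 2 1320 0)) (.leaf (.up 2 1561 0)))) (.node (.node (.leaf (.up 2 1233 2)) (.leaf (.up 1 66 1))) (.node (.leaf (.up 2 1658 1)) (.leaf (.up 3 1112 3)))))))) (.node (.node (.node (.node (.node (.node (.leaf (.root 2342)) (.leaf (.up 2 153 0))) (.node (.leaf (.up 2 1291 0)) (.leaf (.up 2 1069 2)))) (.node (.node (.leaf (.up 3 1805 1)) (.leaf (.up 3 1067 2))) (.node (.leaf (.up 2 1033 2)) (.leaf (.up 2 1081 2))))) (.node (.node (.node (.leaf (.up 2 1677 1)) (.leaf (.up 2 167 1))) (.node (.leaf (.up 4 1526 3)) (.leaf (.up 3 282 2)))) (.node (.node (.leaf (.up 2 1056 0)) (.leaf (.up 3 284 2))) (.node (.leaf (.up 2 318 2)) (.leaf (.up 3 270 2)))))) (.node (.node (.node (.node (.leaf (.up 2 2016 1)) (.leaf (.up 4 1474 2))) (.node (.leaf (.up 2 1504 2)) (.leaf (.up 2 1488 2)))) (.node (.node (.leaf (.up 2 1510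 2)) (.leaf (.up 3 1452 3))) (.node (.leaf (.up 3 1762 1)) (.leaf (.up 2 783 3))))) (.node (.node (.node (.leaf (.up 3 789 3)) (.leaf (.up 4 245 2))) (.node (.leaf (.up 1 130 0)) (.leaf (.up 2 1580 3)))) (.node (.node (.leaf (.up 3 1650 3)) (.leaf (.up 1 74 1))) (.node (.leaf (.up 1 195 0)) (.leaf (.up 3 243 2))))))) (.node (.node (.node (.node (.node (.leaf (.up 3 1541 1)) (.leaf (.up 1 47 0))) (.node (.leaf (.up 1 13 2)) (.leaf (.up 1 61 1)))) (.node (.node (.leaf (.up 1 11 2)) (.leaf (.up 2 2019 3))) (.node (.leaf (.up 2 1532 0)) (.leaf (.up 2 1741 0))))) (.node (.node (.node (.leaf (.up 2 1320 2)) (.leaf (.up 3 191 1))) (.node (.leaf (.up 2 2041 3)) (.leaf (.up 1 173 1)))) (.node (.node (.leaf (.up 2 1340 2)) (.leaf (.up 2 1292 2))) (.node (.leaf (.up 2 565 0)) (.leaf (.up 1 260 0)))))) (.node (.node (.node (.node (.leaf (.root 1470)) (.leaf (.up 2 623 0))) (.node (.leaf (.up 2 496 2)) (.leaf (.up 3 1228 0)))) (.node (.node (.leaf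 (.up 2 1081 3)) (.leaf (.up 3 454 2))) (.node (.leaf (.up 3 484 2)) (.leaf (.up 2 256 3))))) (.node (.node (.node (.leaf (.up 3 282 3)) (.leaf (.up 3 1253 2))) (.node (.leaf (.up 2 1914 1)) (.leaf (.up 3 1271 2)))) (.node (.node (.leaf (.up 3 1217 2)) (.leaf (.up 3 2023 3))) (.node (.leaf (.up 1 117 0)) (.leaf (.up 1 64 1))))))))

noncomputable def vt5_0_1011 : Tr VStep :=
  .node (.node (.node (.node (.node (.node (.node (.leaf (.root 1036)) (.leaf (.up 1 23 1))) (.node (.leaf (.up 3 1583 1)) (.leaf (.up 1 5 1)))) (.node (.node (.leaf (.up 2 1391 0)) (.leaf (.up 2 1630 0))) (.node (.leaf (.up 4 563 2)) (.leaf (.up 2 1378 3))))) (.node (.node (.node (.leaf (.root 1888)) (.leaf (.up 3 1762 3))) (.node (.leaf (.up 3 987 3)) (.leaf (.up 1 65 3)))) (.node (.node (.leaf (.up 3 1814 2)) (.leaf (.up 2 901 3))) (.node (.leaf (.up 2 1029 0)) (.leaf (.up 2 389 1)))))) (.node (.node (.node (.node (.leaf (.up 2 1404 3)) (.leaf (.up 4 1016 2)))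 (.node (.leaf (.up 2 461 0)) (.leaf (.up 1 69 3)))) (.node (.node (.leaf (.up 1 27 3)) (.leaf (.up 2 1004 2))) (.node (.leaf (.up 3 974 2)) (.leaf (.up 3 1314 3))))) (.node (.node (.node (.leaf (.up 2 167 0)) (.leaf (.up 4 1743 2))) (.node (.leaf (.up 2 1540 0)) (.leaf (.up 1 1 3)))) (.node (.node (.leaf (.up 1 95 3)) (.leaf (.up 1 106 1))) (.node (.leaf (.up 3 1785 2)) (.leaf (.up 3 1382 3))))))) (.node (.node (.node (.node (.node (.leaf (.root 1124)) (.leaf (.up 1 15 1))) (.node (.leaf (.up 2 827 0)) (.leaf (.up 1 10 0)))) (.node (.node (.leaf (.up 3 596 3)) (.leaf (.up 2 462 3))) (.node (.leaf (.up 3 1271 3)) (.leaf (.up 3 1901 3))))) (.node (.node (.node (.leaf (.root 1234)) (.leaf (.up 3 802 2))) (.node (.leaf (.up 2 1266 0)) (.leaf (.up 1 141 1)))) (.node (.node (.leaf (.up 3 528 0)) (.leaf (.up 2 289 0))) (.node (.leaf (.up 3 788 2)) (.leaf (.up 2 1833 3)))))) (.node (.node (.node (.node (.leaf (.root 1490)) (.leaf (.up 2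 2024 2))) (.node (.leaf (.up 2 464 3)) (.leaf (.up 3 480 1)))) (.node (.node (.leaf (.up 3 1996 2)) (.leaf (.up 3 226 1))) (.node (.leaf (.up 3 1754 1)) (.leaf (.up 2 240 1))))) (.node (.node (.node (.leaf (.up 3 17 0)) (.leaf (.up 4 735 2))) (.node (.leaf (.up 3 765 2)) (.leaf (.up 3 717 2)))) (.node (.node (.leaf (.up 3 763 2)) (.leaf (.up 2 715 2))) (.node (.leaf (.up 3 1779 0)) (.leaf (.up 2 96 1)))))))) (.node (.node (.node (.node (.node (.node (.leaf (.up 2 1581 1)) (.leaf (.up 1 7 1))) (.node (.leaf (.up 2 1681 0)) (.leaf (.up 1 21 1)))) (.node (.node (.leaf (.up 3 1853 1)) (.leaf (.up 3 513 2))) (.node (.leaf (.up 3 1839 1)) (.leaf (.up 3 531 2))))) (.node (.node (.node (.leaf (.up 1 100 3)) (.leaf (.up 3 1226 0))) (.node (.leaf (.up 3 1792 2)) (.leaf (.up 2 1840 2)))) (.node (.node (.leaf (.up 3 1283 3)) (.leaf (.up 3 1846 2))) (.node (.leaf (.up 1 281 0)) (.leaf (.up 1 58 3)))))) (.node (.node (.node (.node (.leaf (.root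 996)) (.leaf (.up 2 1000 2))) (.node (.leaf (.up 2 1233 0)) (.leaf (.up 2 2016 0)))) (.node (.node (.leaf (.up 2 1728 1)) (.leaf (.up 3 1693 3))) (.node (.leaf (.up 2 1168 0)) (.leaf (.up 3 62 3))))) (.node (.node (.node (.leaf (.up 1 36 3)) (.leaf (.up 4 1759 2))) (.node (.leaf (.up 2 792 0)) (.leaf (.up 2 1741 2)))) (.node (.node (.leaf (.up 2 1530 0)) (.leaf (.up 3 1753 3))) (.node (.leaf (.up 2 1769 2)) (.leaf (.up 1 104 0))))))) (.node (.node (.node (.node (.node (.leaf (.root 1748)) (.leaf (.up 3 1541 2))) (.node (.leaf (.up 2 1164 3)) (.leaf (.up 1 13 1)))) (.node (.node (.leaf (.up 3 1829 1)) (.leaf (.up 3 1553 2))) (.node (.leaf (.up 3 491 3)) (.leaf (.up 2 625 3))))) (.node (.node (.node (.leaf (.up 2 770 2)) (.leaf (.up 2 1148 0))) (.node (.leaf (.up 2 1224 3)) (.leaf (.up 2 157 1)))) (.node (.node (.leaf (.up 2 1973 1)) (.leaf (.up 2 806 2))) (.node (.leaf (.up 2 772 2)) (.leaf (.up 2 565 3)))))) (.node (.node (.node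 (.node (.leaf (.root 1482)) (.leaf (.up 2 2040 2))) (.node (.leaf (.up 3 1228 3)) (.leaf (.up 2 496 1)))) (.node (.node (.leaf (.up 2 2012 2)) (.leaf (.up 2 1170 3))) (.node (.leaf (.up 2 427 3)) (.leaf (.up 3 2046 2))))) (.node (.node (.node (.leaf (.up 3 555 3)) (.leaf (.up 2 1596 0))) (.node (.leaf (.up 2 1160 3)) (.leaf (.up 3 733 2)))) (.node (.node (.leaf (.up 2 747 2)) (.leaf (.up 1 98 1))) (.node (.leaf (.up 2 495 3)) (.leaf (.up 3 713 2))))))))

noncomputable def vt5_0_101 : Tr VStep := .node vt5_0_1010 vt5_0_1011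

noncomputable def vt5_0_10 : Tr VStep := .node vt5_0_100 vt5_0_101

noncomputable def vt5_0_1100 : Tr VStep :=
  .node (.node (.node (.node (.node (.node (.node (.leaf (.root 1548)) (.leaf (.up 3 1839 2))) (.node (.leaf (.up 3 1805 2)) (.leaf (.up 3 1853 2)))) (.node (.node (.leaf (.up 3 519 3)) (.leaf (.up 2 925 0))) (.node (.leaf (.up 2 1291 1)) (.leaf (.up 2 1833 2))))) (.node (.node (.node (.leaf (.up 3 552 2)) (.leaf (.up 3 1045 0))) (.node (.leaf (.up 3 570 2)) (.leaf (.up 3 522 2)))) (.node (.node (.leaf (.up 3 579 3)) (.leaf (.up 4 524 2))) (.node (.leaf (.up 3 1248 3)) (.leaf (.up 2 1914 3)))))) (.node (.node (.node (.node (.leaf (.up 3 1762 2)) (.leaf (.up 2 412 0))) (.node (.leaf (.up 2 1510 1)) (.leaf (.up 2 1728 2)))) (.node (.node (.leaf (.up 3 1782 2)) (.leaf (.up 3 477 0))) (.node (.leaf (.up 3 1764 2)) (.leaf (.up 2 1748 2))))) (.node (.node (.node (.leaf (.root 2338)) (.leaf (.up 3 997 2))) (.node (.leaf (.up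 1 455 3)) (.leaf (.up 3 246 0)))) (.node (.node (.leaf (.up 2 1317 0)) (.leaf (.up 3 1556 0))) (.node (.leaf (.up 2 1184 3)) (.leaf (.up 2 588 1))))))) (.node (.node (.node (.node (.node (.leaf (.root 845)) (.leaf (.up 4 1781 3))) (.node (.leaf (.up 4 972 3)) (.leaf (.up 4 813 2)))) (.node (.node (.leaf (.up 1 8 3)) (.leaf (.up 1 811 0))) (.node (.leaf (.up 3 777 2)) (.leaf (.up 2 1329 3))))) (.node (.node (.node (.leaf (.up 2 1592 2)) (.leaf (.up 2 1544 2))) (.node (.leaf (.up 3 1578 2)) (.leaf (.up 1 18 3)))) (.node (.node (.leaf (.up 2 1580 2)) (.leaf (.up 2 1564 2))) (.node (.leaf (.up 3 1598 2)) (.leaf (.up 4 1550 2)))))) (.node (.node (.node (.node (.leaf (.up 3 1327 3)) (.leaf (.up 2 1717 3))) (.node (.leaf (.up 3 736 2)) (.leaf (.up 1 22 3)))) (.node (.node (.leaf (.up 1 72 3)) (.leaf (.up 2 726 1))) (.node (.leaf (.up 3 756 2)) (.leaf (.up 2 1992 0))))) (.node (.node (.node (.leaf (.up 2 1989 2)) (.leaf (.up 2 1763 0)))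 (.node (.leaf (.up 2 881 0)) (.leaf (.up 1 64 0)))) (.node (.node (.leaf (.up 1 12 3)) (.leaf (.up 2 2017 2))) (.node (.leaf (.up 3 1987 2)) (.leaf (.up 1 1 0)))))))) (.node (.node (.node (.node (.node (.node (.leaf (.root 1050)) (.leaf (.up 2 1728 0))) (.node (.leaf (.up 2 850 0)) (.leaf (.up 4 1837 2)))) (.node (.node (.leaf (.root 2332)) (.leaf (.up 2 1153 3))) (.node (.leaf (.up 2 1801 2)) (.leaf (.up 1 34 0))))) (.node (.node (.node (.leaf (.root 2184)) (.leaf (.up 4 520 2))) (.node (.leaf (.up 1 554 2)) (.leaf (.up 4 538 2)))) (.node (.node (.leaf (.up 3 1887 3)) (.leaf (.up 2 1221 3))) (.node (.leaf (.up 3 1419 1)) (.leaf (.up 3 614 3)))))) (.node (.node (.node (.node (.leaf (.up 3 1778 2)) (.leaf (.up 3 1152 0))) (.node (.leaf (.up 2 1760 2)) (.leaf (.up 3 1797 3)))) (.node (.node (.leaf (.up 2 2032 0)) (.leaf (.up 3 734 1))) (.node (.leaf (.up 3 1254 1)) (.leaf (.up 3 716 1))))) (.node (.node (.node (.leaf (.up 3 965 2))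 (.leaf (.up 2 1013 2))) (.node (.leaf (.up 3 983 2)) (.leaf (.up 2 844 1)))) (.node (.node (.leaf (.up 2 1823 3)) (.leaf (.up 3 1157 3))) (.node (.leaf (.up 3 963 2)) (.leaf (.up 3 1011 2))))))) (.node (.node (.node (.node (.node (.leaf (.up 3 1025 1)) (.leaf (.up 3 555 1))) (.node (.leaf (.up 3 1043 1)) (.leaf (.up 4 829 2)))) (.node (.node (.leaf (.up 3 1297 1)) (.leaf (.up 2 827 1))) (.node (.leaf (.up 3 1283 1)) (.leaf (.up 1 45 3))))) (.node (.node (.node (.leaf (.up 2 1169 1)) (.leaf (.up 2 1560 2))) (.node (.leaf (.up 2 1069 0)) (.leaf (.up 4 1546 2)))) (.node (.node (.leaf (.up 2 1596 2)) (.leaf (.up 4 1548 2))) (.node (.leaf (.up 3 1427 1)) (.leaf (.up 2 105 3)))))) (.node (.node (.node (.node (.leaf (.up 2 1532 1)) (.leaf (.up 2 722 2))) (.node (.leaf (.up 4 1680 3)) (.leaf (.up 3 1290 3)))) (.node (.node (.leaf (.up 3 758 2)) (.leaf (.up 3 1742 3))) (.node (.leaf (.up 3 740 2)) (.leaf (.up 1 109 3))))) (.node (.node (.node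 (.leaf (.up 2 206 0)) (.leaf (.up 2 1023 0))) (.node (.leaf (.up 2 1406 1)) (.leaf (.up 2 1372 0)))) (.node (.node (.leaf (.up 2 1985 2)) (.leaf (.up 2 2033 2))) (.node (.leaf (.up 2 1580 0)) (.leaf (.up 2 2019 2))))))))

noncomputable def vt5_0_1101 : Tr VStep :=
  .node (.node (.node (.node (.node (.node (.node (.leaf (.root 914)) (.leaf (.up 3 531 1))) (.node (.leaf (.up 3 1067 1)) (.leaf (.up 3 513 1)))) (.node (.node (.leaf (.root 916)) (.leaf (.up 1 7 0))) (.node (.leaf (.up 4 307 2)) (.leaf (.up 2 1039 3))))) (.node (.node (.node (.leaf (.up 3 1045 3)) (.leaf (.up 4 1074 2))) (.node (.leaf (.up 3 1040 2)) (.leaf (.up 2 1056 2)))) (.node (.node (.leaf (.up 2 1279 0)) (.leaf (.up 2 744 3))) (.node (.leaf (.up 3 1028 2)) (.leaf (.up 4 1076 2)))))) (.node (.node (.node (.node (.leaf (.up 2 1041 3)) (.leaf (.up 3 248 2))) (.node (.leaf (.up 3 690 3)) (.leaf (.up 3 296 3)))) (.node (.node (.leaf (.up 3 220 2)) (.leaf (.up 3 236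 2))) (.node (.leaf (.up 2 206 2)) (.leaf (.up 3 254 2))))) (.node (.node (.node (.leaf (.up 3 1535 2)) (.leaf (.up 3 1999 3))) (.node (.leaf (.up 1 93 0)) (.leaf (.up 2 364 3)))) (.node (.node (.leaf (.up 3 1515 2)) (.leaf (.up 3 1499 2))) (.node (.leaf (.up 1 28 0)) (.leaf (.up 2 636 1))))))) (.node (.node (.node (.node (.node (.leaf (.root 1550)) (.leaf (.up 2 240 0))) (.node (.leaf (.up 2 1378 0)) (.leaf (.up 4 1287 2)))) (.node (.node (.leaf (.root 1750)) (.leaf (.up 3 163 3))) (.node (.leaf (.root 2448)) (.leaf (.up 3 1536 3))))) (.node (.node (.node (.leaf (.up 1 18 2)) (.leaf (.up 1 34 2))) (.node (.leaf (.up 1 0 2)) (.leaf (.up 4 48 2)))) (.node (.node (.leaf (.up 1 6 2)) (.leaf (.up 4 54 2))) (.node (.leaf (.up 3 20 2)) (.leaf (.up 1 36 2)))))) (.node (.node (.node (.node (.leaf (.up 2 385 0)) (.leaf (.up 3 1412 3))) (.node (.leaf (.up 3 1226 2)) (.leaf (.up 3 1043 0)))) (.node (.node (.leaf (.up 3 1228 1)) (.leaf (.up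 3 227 3))) (.node (.leaf (.up 3 1246 1)) (.leaf (.up 3 756 1))))) (.node (.node (.node (.leaf (.root 2268)) (.leaf (.up 2 1472 3))) (.node (.leaf (.up 1 235 0)) (.leaf (.up 2 461 2)))) (.node (.node (.leaf (.up 2 1116 1)) (.leaf (.up 2 167 3))) (.node (.leaf (.up 1 170 0)) (.leaf (.up 2 1540 3)))))))) (.node (.node (.node (.node (.node (.node (.leaf (.root 1716)) (.leaf (.up 4 727 3))) (.node (.leaf (.up 4 2030 3)) (.leaf (.up 4 263 2)))) (.node (.node (.leaf (.up 3 1578 0)) (.leaf (.up 1 257 2))) (.node (.leaf (.up 2 291 2)) (.leaf (.up 1 275 2))))) (.node (.node (.node (.leaf (.up 4 265 3)) (.leaf (.up 2 1058 2))) (.node (.leaf (.up 2 1024 2)) (.leaf (.up 2 641 1)))) (.node (.node (.leaf (.up 2 483 0)) (.leaf (.up 2 722 0))) (.node (.leaf (.up 3 1467 1)) (.leaf (.up 2 343 3)))))) (.node (.node (.node (.node (.leaf (.up 3 1067 0)) (.leaf (.up 3 663 3))) (.node (.leaf (.up 3 1966 3)) (.leaf (.up 2 1004 1)))) (.node (.node (.leaf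 (.up 1 204 2)) (.leaf (.up 2 2032 3))) (.node (.leaf (.up 3 713 0)) (.leaf (.up 3 764 1))))) (.node (.node (.node (.leaf (.up 2 994 0)) (.leaf (.up 4 723 3))) (.node (.leaf (.up 2 1533 2)) (.leaf (.up 2 1485 2)))) (.node (.node (.leaf (.up 2 1531 2)) (.leaf (.up 2 1972 3))) (.node (.leaf (.up 2 1513 2)) (.leaf (.up 3 1497 2))))))) (.node (.node (.node (.node (.node (.leaf (.up 3 1333 2)) (.leaf (.up 3 1285 2))) (.node (.leaf (.up 3 1319 2)) (.leaf (.up 4 1303 2)))) (.node (.node (.leaf (.up 2 1573 3)) (.leaf (.up 3 1297 2))) (.node (.leaf (.up 1 63 0)) (.leaf (.up 3 1283 2))))) (.node (.node (.node (.leaf (.up 1 2 2)) (.leaf (.up 4 50 2))) (.node (.leaf (.up 1 16 2)) (.leaf (.up 4 32 2)))) (.node (.node (.leaf (.up 1 22 2)) (.leaf (.up 2 1531 3))) (.node (.leaf (.up 1 4 2)) (.leaf (.up 4 52 2)))))) (.node (.node (.node (.node (.leaf (.root 966)) (.leaf (.up 2 1272 2))) (.node (.leaf (.up 3 1441 3)) (.leaf (.up 3 1258 2)))) (.node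 (.node (.leaf (.up 3 1637 3)) (.leaf (.up 3 758 1))) (.node (.leaf (.up 1 198 3)) (.leaf (.up 3 740 1))))) (.node (.node (.node (.leaf (.up 2 1372 1)) (.leaf (.up 1 101 0))) (.node (.leaf (.up 2 1509 3)) (.leaf (.up 3 477 2)))) (.node (.node (.leaf (.up 3 491 2)) (.leaf (.up 1 36 0))) (.node (.leaf (.up 1 130 3)) (.leaf (.up 2 792 3))))))))

noncomputable def vt5_0_110 : Tr VStep := .node vt5_0_1100 vt5_0_1101

noncomputable def vt5_0_1110 : Tr VStep :=
  .node (.node (.node (.node (.node (.node (.node (.leaf (.root 2318)) (.leaf (.up 2 1064 0))) (.node (.leaf (.up 2 442 0)) (.leaf (.up 2 1581 2)))) (.node (.node (.leaf (.up 3 711 3)) (.leaf (.up 3 349 3))) (.node (.leaf (.up 4 1545 2)) (.leaf (.up 3 2046 3))))) (.node (.node (.node (.leaf (.up 2 2020 3)) (.leaf (.up 3 1150 3))) (.node (.leaf (.up 4 810 2)) (.leaf (.up 3 733 3)))) (.node (.node (.leaf (.up 2 145 0)) (.leaf (.up 1 281 3))) (.node (.leaf (.up 2 1423 1)) (.leaf (.up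 3 1283 0)))))) (.node (.node (.node (.node (.leaf (.root 1070)) (.leaf (.up 4 1986 2))) (.node (.leaf (.up 2 2016 2)) (.leaf (.up 2 2000 2)))) (.node (.node (.leaf (.up 3 2022 2)) (.leaf (.up 2 1577 0))) (.node (.leaf (.up 2 955 0)) (.leaf (.up 2 1988 2))))) (.node (.node (.node (.leaf (.up 2 709 2)) (.leaf (.up 3 757 2))) (.node (.leaf (.up 2 1378 1)) (.leaf (.up 2 1794 0)))) (.node (.node (.leaf (.root 2340)) (.leaf (.up 1 345 3))) (.node (.leaf (.up 2 1120 3)) (.leaf (.up 3 755 2))))))) (.node (.node (.node (.node (.node (.leaf (.root 1628)) (.leaf (.up 2 1589 3))) (.node (.leaf (.up 4 525 2)) (.leaf (.up 1 150 3)))) (.node (.node (.leaf (.up 4 523 2)) (.leaf (.up 2 850 3))) (.node (.leaf (.up 2 333 0)) (.leaf (.up 2 636 0))))) (.node (.node (.node (.leaf (.up 1 102 0)) (.leaf (.up 3 1816 2))) (.node (.leaf (.up 4 1850 2)) (.leaf (.up 3 1802 2)))) (.node (.node (.leaf (.up 1 39 0)) (.leaf (.up 2 1804 2))) (.node (.leaf (.up 3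 1583 3)) (.leaf (.up 3 1822 2)))))) (.node (.node (.node (.node (.leaf (.root 1328)) (.leaf (.up 2 1758 0))) (.node (.leaf (.up 2 844 0)) (.leaf (.up 1 125 0)))) (.node (.node (.leaf (.up 1 136 3)) (.leaf (.up 2 786 3))) (.node (.leaf (.up 3 996 2)) (.leaf (.up 3 1457 3))))) (.node (.node (.node (.leaf (.up 3 1749 2)) (.leaf (.up 3 1765 2))) (.node (.leaf (.up 3 1157 0)) (.leaf (.up 2 1972 0)))) (.node (.node (.leaf (.up 1 204 3)) (.leaf (.up 2 854 3))) (.node (.leaf (.up 3 1747 2)) (.leaf (.up 2 1763 2)))))))) (.node (.node (.node (.node (.node (.node (.leaf (.root 936)) (.leaf (.up 3 1583 2))) (.node (.leaf (.up 2 1549 2)) (.leaf (.up 2 1597 2)))) (.node (.node (.leaf (.up 4 1547 2)) (.leaf (.up 3 1089 3))) (.node (.leaf (.up 2 1561 2)) (.leaf (.up 2 1577 2))))) (.node (.node (.node (.leaf (.up 2 1484 0)) (.leaf (.up 2 792 2))) (.node (.leaf (.up 2 1167 1)) (.leaf (.up 2 1985 3)))) (.node (.node (.leaf (.up 3 1951 3)) (.leaf (.up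 2 1029 3))) (.node (.leaf (.up 1 316 3)) (.leaf (.up 3 798 2)))))) (.node (.node (.node (.node (.leaf (.up 1 69 0)) (.leaf (.up 4 2002 2))) (.node (.leaf (.up 2 2032 2)) (.leaf (.up 2 1989 3)))) (.node (.node (.leaf (.up 1 4 0)) (.leaf (.up 3 1025 3))) (.node (.leaf (.up 2 2020 2)) (.leaf (.up 2 2004 2))))) (.node (.node (.node (.leaf (.up 2 725 2)) (.leaf (.up 3 741 2))) (.node (.leaf (.up 3 711 2)) (.leaf (.up 2 1921 3)))) (.node (.node (.leaf (.up 2 705 2)) (.leaf (.up 3 602 1))) (.node (.leaf (.up 2 1122 1)) (.leaf (.up 3 739 2))))))) (.node (.node (.node (.node (.node (.leaf (.up 3 1045 1)) (.leaf (.up 3 575 1))) (.node (.leaf (.up 3 1040 0)) (.leaf (.up 3 557 1)))) (.node (.node (.leaf (.up 3 1285 1)) (.leaf (.up 3 555 2))) (.node (.leaf (.up 2 1105 0)) (.leaf (.up 2 1888 0))))) (.node (.node (.node (.leaf (.up 3 1157 1)) (.leaf (.up 2 687 1))) (.node (.leaf (.up 3 1834 2)) (.leaf (.up 3 1818 2)))) (.node (.node (.leaf (.up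 2 1836 2)) (.leaf (.up 2 959 1))) (.node (.leaf (.up 2 1415 1)) (.leaf (.up 2 1806 2)))))) (.node (.node (.node (.node (.leaf (.up 3 243 0)) (.leaf (.up 2 962 0))) (.node (.leaf (.up 2 1530 1)) (.leaf (.up 2 1377 0)))) (.node (.node (.leaf (.up 2 1272 1)) (.leaf (.up 2 722 1))) (.node (.leaf (.up 3 1553 0)) (.leaf (.up 1 173 3))))) (.node (.node (.node (.leaf (.up 2 1400 1)) (.leaf (.up 2 850 1))) (.node (.leaf (.up 3 1556 3)) (.leaf (.up 3 1767 2)))) (.node (.node (.leaf (.up 2 1488 3)) (.leaf (.up 3 578 1))) (.node (.leaf (.up 2 472 0)) (.leaf (.up 3 1779 2))))))))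

noncomputable def vt5_0_1111 : Tr VStep :=
  .node (.node (.node (.node (.node (.node (.node (.leaf (.root 847)) (.leaf (.up 1 21 2))) (.node (.leaf (.up 4 55 2)) (.leaf (.up 1 7 2)))) (.node (.node (.leaf (.up 4 49 2)) (.leaf (.up 1 1 2))) (.node (.leaf (.up 1 35 2)) (.leaf (.up 1 19 2))))) (.node (.node (.node (.leaf (.up 3 1298 2)) (.leaf (.up 1 123 0))) (.node (.leaf (.up 2 1513 0)) (.leaf (.up 2 1752 0)))) (.node (.node (.leaf (.up 3 1286 2)) (.leaf (.up 1 58 0))) (.node (.leaf (.up 3 1809 3)) (.leaf (.up 3 1316 2)))))) (.node (.node (.node (.node (.leaf (.root 1722)) (.leaf (.up 4 488 2))) (.node (.leaf (.up 2 96 0)) (.leaf (.up 2 1000 1)))) (.node (.node (.leaf (.up 2 438 3)) (.leaf (.up 3 508 2))) (.node (.leaf (.up 3 1813 3)) (.leaf (.up 2 1167 3))))) (.node (.node (.node (.leaf (.up 3 1173 3)) (.leaf (.up 2 1807 3))) (.node (.leaf (.up 3 1277 2)) (.leaf (.up 3 428 3)))) (.node (.node (.leaf (.up 2 1275 2)) (.leaf (.up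 2 616 3))) (.node (.leaf (.up 2 2024 0)) (.leaf (.up 2 1241 0))))))) (.node (.node (.node (.node (.node (.leaf (.root 2222)) (.leaf (.up 2 1029 2))) (.node (.leaf (.up 1 61 3)) (.leaf (.up 2 423 0)))) (.node (.node (.leaf (.up 2 1057 2)) (.leaf (.up 2 1041 2))) (.node (.leaf (.up 4 1075 2)) (.leaf (.up 2 1728 3))))) (.node (.node (.node (.leaf (.up 3 1754 3)) (.leaf (.up 3 205 0))) (.node (.leaf (.up 1 121 3)) (.leaf (.up 4 995 3)))) (.node (.node (.leaf (.up 1 278 2)) (.leaf (.up 1 39 3))) (.node (.leaf (.up 1 260 2)) (.leaf (.up 3 1583 0)))))) (.node (.node (.node (.node (.leaf (.root 747)) (.leaf (.up 2 1528 2))) (.node (.leaf (.up 1 125 3)) (.leaf (.up 4 1514 2)))) (.node (.node (.leaf (.up 2 1588 0)) (.leaf (.up 1 35 3))) (.node (.leaf (.up 3 1226 1)) (.leaf (.up 3 736 1))))) (.node (.node (.node (.leaf (.up 3 255 2)) (.leaf (.up 4 207 2))) (.node (.leaf (.up 2 1823 0)) (.leaf (.up 2 221 2)))) (.node (.node (.leaf (.up 1 235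 2)) (.leaf (.up 1 103 3))) (.node (.leaf (.up 3 1374 3)) (.leaf (.up 3 201 2)))))))) (.node (.node (.node (.node (.node (.node (.leaf (.up 4 53 2)) (.leaf (.up 1 5 2))) (.node (.leaf (.up 1 39 2)) (.leaf (.up 1 23 2)))) (.node (.node (.leaf (.up 3 1325 1)) (.leaf (.up 3 17 2))) (.node (.leaf (.up 4 51 2)) (.leaf (.up 1 3 2))))) (.node (.node (.node (.leaf (.up 2 1622 0)) (.leaf (.up 3 595 3))) (.node (.leaf (.up 2 1215 1)) (.leaf (.up 3 1312 2)))) (.node (.node (.leaf (.up 3 1302 2)) (.leaf (.up 2 1844 3))) (.node (.leaf (.up 2 1455 1)) (.leaf (.up 2 1332 2)))))) (.node (.node (.node (.node (.leaf (.root 998)) (.leaf (.up 3 599 3))) (.node (.leaf (.up 2 1404 0)) (.leaf (.up 2 1613 0)))) (.node (.node (.leaf (.up 3 1194 3)) (.leaf (.up 2 1840 3))) (.node (.leaf (.up 2 462 2)) (.leaf (.up 2 744 1))))) (.node (.node (.node (.leaf (.up 2 1279 2)) (.leaf (.up 3 531 3))) (.node (.leaf (.up 3 1834 3)) (.leaf (.up 3 1200 3)))) (.node (.node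 (.leaf (.up 3 1259 2)) (.leaf (.up 3 618 1))) (.node (.leaf (.up 3 756 0)) (.leaf (.up 3 1225 2))))))) (.node (.node (.node (.node (.node (.leaf (.root 1122)) (.leaf (.up 3 1045 2))) (.node (.leaf (.up 2 1930 0)) (.leaf (.up 3 1031 2)))) (.node (.node (.leaf (.up 3 1333 1)) (.leaf (.up 3 1025 2))) (.node (.leaf (.up 3 1319 1)) (.leaf (.up 3 1043 2))))) (.node (.node (.node (.leaf (.up 2 1760 0)) (.leaf (.up 1 92 3))) (.node (.leaf (.up 2 256 2)) (.leaf (.up 2 304 2)))) (.node (.node (.leaf (.up 3 262 2)) (.leaf (.up 2 310 2))) (.node (.leaf (.up 1 2 0)) (.leaf (.up 2 925 1)))))) (.node (.node (.node (.node (.leaf (.root 1104)) (.leaf (.up 3 1512 2))) (.node (.leaf (.up 2 1377 3)) (.leaf (.up 2 1530 2)))) (.node (.node (.leaf (.up 2 1484 2)) (.leaf (.up 2 1532 2))) (.node (.leaf (.up 1 6 3)) (.leaf (.up 2 924 3))))) (.node (.node (.node (.leaf (.up 2 1184 0)) (.leaf (.up 1 28 3))) (.node (.leaf (.up 2 1317 3)) (.leaf (.up 3 205 2))))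 (.node (.node (.leaf (.up 3 251 2)) (.leaf (.up 2 2000 0))) (.node (.leaf (.up 1 66 3)) (.leaf (.up 2 984 3))))))))

noncomputable def vt5_0_111 : Tr VStep := .node vt5_0_1110 vt5_0_1111

noncomputable def vt5_0_11 : Tr VStep := .node vt5_0_110 vt5_0_111

noncomputable def vt5_0_1 : Tr VStep := .node vt5_0_10 vt5_0_11

noncomputable def vt5_0_ : Tr VStep := .node vt5_0_0 vt5_0_1

noncomputable def vt5_1_0000 : Tr VStep :=
  .node (.node (.node (.node (.node (.node (.node (.leaf (.root 5816)) (.leaf (.up 2 1025 1))) (.node (.leaf (.up 2 1031 1)) (.leaf (.up 1 106 0)))) (.node (.node (.leaf (.root 2070)) (.leaf (.up 2 1905 1))) (.node (.leaf (.up 2 1911 1)) (.leaf (.up 2 1908 1))))) (.node (.node (.node (.leaf (.root 4630)) (.leaf (.up 1 570 1))) (.node (.leaf (.up 2 572 1)) (.leaf (.up 1 575 1)))) (.node (.node (.leaf (.up 1 329 1)) (.leaf (.up 1 330 1))) (.node (.leaf (.up 1 332 1)) (.leaf (.up 1 335 1)))))) (.node (.node (.node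 (.node (.leaf (.root 1178)) (.leaf (.up 2 739 1))) (.node (.leaf (.up 2 741 1)) (.leaf (.up 1 742 1)))) (.node (.node (.leaf (.root 4712)) (.leaf (.up 1 359 0))) (.node (.leaf (.up 2 405 1)) (.leaf (.up 1 406 1))))) (.node (.node (.node (.leaf (.up 2 1243 1)) (.leaf (.up 2 1240 1))) (.node (.leaf (.up 2 1246 1)) (.leaf (.up 1 123 0)))) (.node (.node (.leaf (.up 2 1963 1)) (.leaf (.up 2 1960 1))) (.node (.leaf (.up 2 1966 1)) (.leaf (.up 2 1965 1))))))) (.node (.node (.node (.node (.node (.leaf (.root 5696)) (.leaf (.up 1 159 1))) (.node (.leaf (.up 1 153 1)) (.leaf (.up 1 154 1)))) (.node (.node (.leaf (.root 1746)) (.leaf (.up 1 343 0))) (.node (.leaf (.root 1906)) (.leaf (.up 1 1002 1))))) (.node (.node (.node (.leaf (.root 6344)) (.leaf (.up 1 1137 0))) (.node (.leaf (.root 4724)) (.leaf (.up 1 75 0)))) (.node (.node (.leaf (.root 2456)) (.leaf (.root 1582))) (.node (.leaf (.root 1898)) (.leaf (.up 1 854 0)))))) (.node (.node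 (.node (.node (.leaf (.root 1064)) (.leaf (.root 1322))) (.node (.leaf (.root 1420)) (.leaf (.up 1 90 0)))) (.node (.node (.leaf (.root 3454)) (.leaf (.up 1 1293 1))) (.node (.leaf (.root 4408)) (.leaf (.up 1 839 0))))) (.node (.node (.node (.leaf (.up 1 69 1)) (.leaf (.up 1 70 1))) (.node (.leaf (.up 1 64 1)) (.leaf (.up 1 67 1)))) (.node (.node (.leaf (.root 4538)) (.leaf (.up 1 326 0))) (.node (.leaf (.up 1 816 1)) (.leaf (.up 1 819 1)))))))) (.node (.node (.node (.node (.node (.node (.leaf (.root 1588)) (.leaf (.up 1 554 0))) (.node (.leaf (.up 1 220 0)) (.leaf (.up 1 1037 1)))) (.node (.node (.leaf (.root 5400)) (.leaf (.up 1 311 0))) (.node (.leaf (.root 3640)) (.leaf (.up 1 1293 0))))) (.node (.node (.node (.leaf (.root 1818)) (.leaf (.up 1 563 1))) (.node (.leaf (.up 1 565 1)) (.leaf (.up 1 43 0)))) (.node (.node (.leaf (.up 1 320 1)) (.leaf (.up 1 323 1))) (.node (.leaf (.up 1 325 1)) (.leaf (.up 1 326 1)))))) (.node (.node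 (.node (.node (.leaf (.root 4608)) (.leaf (.up 1 746 1))) (.node (.leaf (.root 2535)) (.leaf (.up 1 58 0)))) (.node (.node (.leaf (.root 1854)) (.leaf (.up 1 410 1))) (.node (.leaf (.up 1 412 1)) (.leaf (.up 1 415 1))))) (.node (.node (.node (.leaf (.root 3404)) (.leaf (.up 1 571 0))) (.node (.leaf (.up 1 205 0)) (.leaf (.up 2 1236 1)))) (.node (.node (.leaf (.root 795)) (.leaf (.up 1 294 0))) (.node (.leaf (.root 2210)) (.leaf (.up 1 1308 0))))))) (.node (.node (.node (.node (.node (.leaf (.root 1436)) (.leaf (.up 1 150 1))) (.node (.leaf (.up 1 144 1)) (.leaf (.up 1 10 0)))) (.node (.node (.leaf (.root 3904)) (.leaf (.up 2 998 1))) (.node (.leaf (.root 5590)) (.leaf (.up 2 995 1))))) (.node (.node (.node (.leaf (.root 1822)) (.leaf (.up 2 1709 1))) (.node (.leaf (.up 1 253 0)) (.leaf (.up 2 1704 1)))) (.node (.node (.leaf (.root 5124)) (.leaf (.up 1 278 0))) (.node (.leaf (.up 2 1499 1)) (.leaf (.up 2 1496 1)))))) (.node (.node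 (.node (.node (.leaf (.root 3358)) (.leaf (.up 2 1652 1))) (.node (.leaf (.up 1 236 0)) (.leaf (.up 2 1649 1)))) (.node (.node (.leaf (.root 1710)) (.leaf (.up 1 263 0))) (.node (.leaf (.up 2 1282 1)) (.leaf (.up 2 1281 1))))) (.node (.node (.node (.leaf (.up 1 76 1)) (.leaf (.up 1 79 1))) (.node (.leaf (.up 1 73 1)) (.leaf (.up 2 74 1)))) (.node (.node (.leaf (.root 1796)) (.leaf (.up 2 831 1))) (.node (.leaf (.up 1 825 1)) (.leaf (.up 2 826 1))))))))

noncomputable def vt5_1_0001 : Tr VStep :=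
  .node (.node (.node (.node (.node (.node (.node (.leaf (.root 2336)) (.leaf (.up 2 1040 1))) (.node (.leaf (.up 2 1046 1)) (.leaf (.up 1 179 0)))) (.node (.node (.leaf (.root 4654)) (.leaf (.up 2 1888 1))) (.node (.leaf (.up 2 1894 1)) (.leaf (.up 1 942 0))))) (.node (.node (.node (.leaf (.up 2 552 1)) (.leaf (.up 1 555 1))) (.node (.leaf (.up 1 68 0)) (.leaf (.up 1 558 1)))) (.node (.node (.leaf (.up 2 344 1)) (.leaf (.up 1 347 1))) (.node (.leaf (.up 1 349 1)) (.leaf (.up 1 350 1)))))) (.node (.node (.node (.node (.leaf (.root 3934)) (.leaf (.up 2 754 1))) (.node (.leaf (.up 1 85 0)) (.leaf (.up 2 759 1)))) (.node (.node (.leaf (.up 2 385 1)) (.leaf (.up 1 386 1))) (.node (.leaf (.up 1 388 1)) (.leaf (.up 1 391 1))))) (.node (.node (.node (.leaf (.root 3508)) (.leaf (.up 2 1225 1))) (.node (.leaf (.up 2 1231 1)) (.leaf (.up 1 162 0)))) (.node (.node (.leaf (.up 1 329 0)) (.leaf (.up 2 1977 1))) (.node (.leaf (.up 2 1983 1))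 (.leaf (.up 1 959 0))))))) (.node (.node (.node (.node (.node (.leaf (.root 811)) (.leaf (.up 1 142 1))) (.node (.leaf (.up 1 101 0)) (.leaf (.up 1 139 1)))) (.node (.node (.leaf (.root 2531)) (.leaf (.up 1 398 0))) (.node (.leaf (.root 2664)) (.leaf (.up 1 1019 1))))) (.node (.node (.node (.leaf (.root 1862)) (.leaf (.root 2062))) (.node (.leaf (.root 1632)) (.leaf (.up 1 146 0)))) (.node (.node (.leaf (.up 1 377 0)) (.leaf (.root 5354))) (.node (.leaf (.root 3410)) (.leaf (.up 1 911 0)))))) (.node (.node (.node (.node (.leaf (.root 4970)) (.leaf (.root 4798))) (.node (.leaf (.root 6058)) (.leaf (.up 1 131 0)))) (.node (.node (.leaf (.root 1974)) (.leaf (.up 1 1308 1))) (.node (.leaf (.root 1730)) (.leaf (.up 1 926 0))))) (.node (.node (.node (.leaf (.up 1 84 1)) (.leaf (.up 1 87 1))) (.node (.leaf (.up 1 81 1)) (.leaf (.up 1 82 1)))) (.node (.node (.leaf (.root 1868)) (.leaf (.up 1 415 0))) (.node (.leaf (.up 1 801 1)) (.leaf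 (.up 1 802 1)))))))) (.node (.node (.node (.node (.node (.node (.leaf (.root 3386)) (.leaf (.up 1 755 0))) (.node (.leaf (.up 1 5 0)) (.leaf (.up 1 1052 1)))) (.node (.node (.leaf (.root 1084)) (.leaf (.up 1 494 0))) (.node (.leaf (.root 2364)) (.leaf (.up 2 1900 1))))) (.node (.node (.node (.leaf (.root 3650)) (.leaf (.up 1 546 1))) (.node (.leaf (.up 1 548 1)) (.leaf (.up 1 242 0)))) (.node (.node (.leaf (.up 1 281 0)) (.leaf (.up 1 338 1))) (.node (.leaf (.up 1 340 1)) (.leaf (.up 1 343 1)))))) (.node (.node (.node (.node (.leaf (.root 2114)) (.leaf (.up 1 763 1))) (.node (.leaf (.root 2214)) (.leaf (.up 1 227 0)))) (.node (.node (.leaf (.up 1 264 0)) (.leaf (.up 1 395 1))) (.node (.leaf (.up 1 397 1)) (.leaf (.up 1 398 1))))) (.node (.node (.node (.leaf (.root 1518)) (.leaf (.up 1 738 0))) (.node (.leaf (.up 1 20 0)) (.leaf (.up 1 1221 1)))) (.node (.node (.leaf (.root 4430)) (.leaf (.up 1 511 0))) (.node (.leaf (.up 1 777 0))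 (.leaf (.up 2 1973 1))))))) (.node (.node (.node (.node (.node (.leaf (.root 3258)) (.leaf (.up 2 135 1))) (.node (.leaf (.up 1 129 1)) (.leaf (.up 1 130 1)))) (.node (.node (.leaf (.root 2192)) (.leaf (.up 2 1015 1))) (.node (.leaf (.root 1810)) (.leaf (.up 2 1010 1))))) (.node (.node (.node (.leaf (.root 5728)) (.leaf (.up 2 1724 1))) (.node (.leaf (.up 1 36 0)) (.leaf (.up 2 1721 1)))) (.node (.node (.leaf (.root 1312)) (.leaf (.up 2 1484 1))) (.node (.leaf (.up 1 825 0)) (.leaf (.up 2 1481 1)))))) (.node (.node (.node (.node (.leaf (.root 773)) (.leaf (.up 2 1637 1))) (.node (.leaf (.up 1 53 0)) (.leaf (.up 2 1632 1)))) (.node (.node (.leaf (.root 3468)) (.leaf (.up 2 1301 1))) (.node (.leaf (.up 1 808 0)) (.leaf (.up 2 1296 1))))) (.node (.node (.node (.leaf (.up 1 93 1)) (.leaf (.up 1 94 1))) (.node (.leaf (.up 1 88 1)) (.leaf (.up 1 91 1)))) (.node (.node (.leaf (.up 1 297 0)) (.leaf (.up 2 814 1))) (.node (.leaf (.up 1 808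 1)) (.leaf (.up 2 811 1))))))))

noncomputable def vt5_1_000 : Tr VStep := .node vt5_1_0000 vt5_1_0001

noncomputable def vt5_1_0010 : Tr VStep :=
  .node (.node (.node (.node (.node (.node (.node (.leaf (.root 4236)) (.leaf (.up 2 1536 1))) (.node (.leaf (.up 1 152 0)) (.leaf (.up 2 1541 1)))) (.node (.node (.leaf (.root 1800)) (.leaf (.up 2 1392 1))) (.node (.leaf (.root 1176)) (.leaf (.up 2 1397 1))))) (.node (.node (.node (.leaf (.up 1 56 1)) (.leaf (.up 1 59 1))) (.node (.leaf (.up 1 61 1)) (.leaf (.up 1 62 1)))) (.node (.node (.leaf (.root 2378)) (.leaf (.up 2 843 1))) (.node (.leaf (.up 1 845 1)) (.leaf (.up 2 846 1)))))) (.node (.node (.node (.node (.leaf (.root 2030)) (.leaf (.up 1 226 1))) (.node (.leaf (.up 1 228 1)) (.leaf (.up 2 231 1)))) (.node (.node (.leaf (.root 3632)) (.leaf (.up 2 914 1))) (.node (.leaf (.root 4530)) (.leaf (.up 2 919 1))))) (.node (.node (.node (.leaf (.root 900)) (.leaf (.up 2 1753 1))) (.node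 (.leaf (.up 1 137 0)) (.leaf (.up 2 1756 1)))) (.node (.node (.leaf (.root 2605)) (.leaf (.up 2 1449 1))) (.node (.leaf (.up 2 1455 1)) (.leaf (.up 2 1452 1))))))) (.node (.node (.node (.node (.node (.leaf (.root 5952)) (.leaf (.up 1 670 1))) (.node (.leaf (.root 2684)) (.leaf (.up 1 78 0)))) (.node (.node (.leaf (.root 1872)) (.leaf (.up 1 494 1))) (.node (.leaf (.up 1 488 1)) (.leaf (.up 1 491 1))))) (.node (.node (.node (.leaf (.root 2712)) (.leaf (.up 1 591 0))) (.node (.leaf (.up 1 185 0)) (.leaf (.up 2 1184 1)))) (.node (.node (.leaf (.root 1788)) (.leaf (.up 1 338 0))) (.node (.leaf (.root 1992)) (.leaf (.up 2 2000 1)))))) (.node (.node (.node (.node (.leaf (.root 1654)) (.leaf (.up 1 606 0))) (.node (.leaf (.up 1 168 0)) (.leaf (.up 1 1145 1)))) (.node (.node (.leaf (.root 4008)) (.leaf (.up 1 323 0))) (.node (.leaf (.root 5940)) (.leaf (.up 2 1801 1))))) (.node (.node (.node (.leaf (.root 1398)) (.leaf (.up 1 583 1))) (.node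 (.leaf (.up 1 577 1)) (.leaf (.up 1 95 0)))) (.node (.node (.leaf (.up 1 308 1)) (.leaf (.up 1 311 1))) (.node (.leaf (.up 1 305 1)) (.leaf (.up 1 306 1)))))))) (.node (.node (.node (.node (.node (.node (.leaf (.root 680)) (.leaf (.root 2128))) (.node (.leaf (.root 1600)) (.leaf (.up 1 46 0)))) (.node (.node (.leaf (.root 3546)) (.leaf (.root 2523))) (.node (.leaf (.root 5502)) (.leaf (.up 1 819 0))))) (.node (.node (.node (.leaf (.up 1 49 1)) (.leaf (.up 1 50 1))) (.node (.leaf (.up 1 52 1)) (.leaf (.up 1 55 1)))) (.node (.node (.leaf (.root 2623)) (.leaf (.up 1 306 0))) (.node (.leaf (.up 1 836 1)) (.leaf (.up 1 839 1)))))) (.node (.node (.node (.node (.leaf (.root 2498)) (.leaf (.up 1 235 1))) (.node (.leaf (.up 1 200 0)) (.leaf (.up 1 238 1)))) (.node (.node (.leaf (.root 2088)) (.leaf (.up 1 291 0))) (.node (.leaf (.root 2040)) (.leaf (.up 1 926 1))))) (.node (.node (.node (.leaf (.root 4662)) (.leaf (.up 1 1029 0))) (.node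 (.leaf (.root 3416)) (.leaf (.up 1 63 0)))) (.node (.node (.leaf (.root 2362)) (.leaf (.up 1 1440 1))) (.node (.leaf (.root 1646)) (.leaf (.up 1 802 0))))))) (.node (.node (.node (.node (.node (.leaf (.root 2276)) (.leaf (.up 1 526 0))) (.node (.leaf (.up 2 657 1)) (.leaf (.up 1 658 1)))) (.node (.node (.leaf (.root 4604)) (.leaf (.up 1 275 0))) (.node (.leaf (.up 2 481 1)) (.leaf (.up 1 482 1))))) (.node (.node (.node (.leaf (.up 2 1199 1)) (.leaf (.up 2 1196 1))) (.node (.leaf (.up 2 1194 1)) (.leaf (.up 1 15 0)))) (.node (.node (.leaf (.up 2 2015 1)) (.leaf (.up 2 2012 1))) (.node (.leaf (.up 2 2010 1)) (.leaf (.up 1 786 0)))))) (.node (.node (.node (.node (.leaf (.up 2 1142 1)) (.leaf (.up 2 1141 1))) (.node (.leaf (.up 2 1139 1)) (.leaf (.up 1 30 0)))) (.node (.node (.leaf (.up 2 1798 1)) (.leaf (.up 2 1797 1))) (.node (.leaf (.up 2 1795 1)) (.leaf (.up 1 771 0))))) (.node (.node (.node (.leaf (.up 2 589 1)) (.leaf (.up 2 590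 1))) (.node (.leaf (.up 2 584 1)) (.leaf (.up 1 587 1)))) (.node (.node (.leaf (.up 1 317 1)) (.leaf (.up 1 258 0))) (.node (.leaf (.up 1 312 1)) (.leaf (.up 1 315 1))))))))

noncomputable def vt5_1_0011 : Tr VStep :=
  .node (.node (.node (.node (.node (.node (.node (.leaf (.root 944)) (.leaf (.up 2 1553 1))) (.node (.leaf (.up 1 65 0)) (.leaf (.up 2 1556 1)))) (.node (.node (.leaf (.root 3516)) (.leaf (.up 1 426 0))) (.node (.leaf (.root 2708)) (.leaf (.up 2 1380 1))))) (.node (.node (.node (.leaf (.up 1 41 1)) (.leaf (.up 1 42 1))) (.node (.leaf (.up 1 44 1)) (.leaf (.up 1 47 1)))) (.node (.node (.leaf (.up 1 349 0)) (.leaf (.up 2 858 1))) (.node (.leaf (.up 2 860 1)) (.leaf (.up 2 863 1)))))) (.node (.node (.node (.node (.leaf (.root 5294)) (.leaf (.up 2 243 1))) (.node (.leaf (.up 1 245 1)) (.leaf (.up 2 246 1)))) (.node (.node (.leaf (.root 1648)) (.leaf (.up 2 899 1))) (.node (.leaf (.up 2 901 1)) (.leaf (.up 2 902 1)))))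 (.node (.node (.node (.leaf (.root 2846)) (.leaf (.up 2 1736 1))) (.node (.leaf (.up 1 80 0)) (.leaf (.up 2 1741 1)))) (.node (.node (.leaf (.root 1726)) (.leaf (.up 1 443 0))) (.node (.leaf (.up 1 845 0)) (.leaf (.up 2 1469 1))))))) (.node (.node (.node (.node (.node (.leaf (.root 1466)) (.leaf (.up 1 655 1))) (.node (.leaf (.root 2354)) (.leaf (.up 1 151 0)))) (.node (.node (.leaf (.root 6382)) (.leaf (.up 1 511 1))) (.node (.leaf (.up 1 505 1)) (.leaf (.up 1 506 1))))) (.node (.node (.node (.leaf (.root 1292)) (.leaf (.up 1 662 0))) (.node (.leaf (.up 1 96 0)) (.leaf (.up 1 1201 1)))) (.node (.node (.leaf (.root 3988)) (.leaf (.up 1 395 0))) (.node (.leaf (.up 1 893 0)) (.leaf (.up 1 1457 0)))))) (.node (.node (.node (.node (.leaf (.root 3108)) (.leaf (.up 1 647 0))) (.node (.leaf (.up 1 113 0)) (.leaf (.up 1 1128 1)))) (.node (.node (.leaf (.root 1142)) (.leaf (.up 1 410 0))) (.node (.leaf (.root 1786)) (.leaf (.up 1 1440 0)))))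 (.node (.node (.node (.leaf (.root 2930)) (.leaf (.up 1 598 1))) (.node (.leaf (.up 1 592 1)) (.leaf (.up 1 134 0)))) (.node (.node (.leaf (.up 1 293 1)) (.leaf (.up 1 294 1))) (.node (.leaf (.up 1 288 1)) (.leaf (.up 1 291 1)))))))) (.node (.node (.node (.node (.node (.node (.leaf (.root 2507)) (.leaf (.root 3776))) (.node (.leaf (.root 4638)) (.leaf (.up 1 247 0)))) (.node (.node (.leaf (.root 1760)) (.leaf (.root 894))) (.node (.leaf (.root 2094)) (.leaf (.up 1 1002 0))))) (.node (.node (.node (.leaf (.up 1 32 1)) (.leaf (.up 1 35 1))) (.node (.leaf (.up 1 0 0)) (.leaf (.up 1 38 1)))) (.node (.node (.leaf (.root 1596)) (.leaf (.up 1 491 0))) (.node (.leaf (.up 1 797 0)) (.leaf (.up 1 854 1)))))) (.node (.node (.node (.node (.leaf (.root 799)) (.leaf (.up 1 250 1))) (.node (.leaf (.up 1 17 0)) (.leaf (.up 1 255 1)))) (.node (.node (.leaf (.root 5836)) (.leaf (.up 1 506 0))) (.node (.leaf (.up 1 780 0)) (.leaf (.up 1 911 1)))))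 (.node (.node (.node (.leaf (.root 1792)) (.leaf (.root 2356))) (.node (.leaf (.root 2120)) (.leaf (.up 1 230 0)))) (.node (.node (.leaf (.up 1 269 0)) (.leaf (.up 1 1457 1))) (.node (.leaf (.root 3294)) (.leaf (.up 1 1019 0))))))) (.node (.node (.node (.node (.node (.leaf (.up 2 645 1)) (.leaf (.up 1 646 1))) (.node (.leaf (.up 1 33 0)) (.leaf (.up 2 643 1)))) (.node (.node (.leaf (.root 2274)) (.leaf (.up 1 458 0))) (.node (.leaf (.up 1 496 1)) (.leaf (.up 1 499 1))))) (.node (.node (.node (.leaf (.up 2 1214 1)) (.leaf (.up 2 1213 1))) (.node (.leaf (.up 2 1211 1)) (.leaf (.up 1 214 0)))) (.node (.node (.leaf (.up 1 317 0)) (.leaf (.up 2 1997 1))) (.node (.leaf (.up 2 1995 1)) (.leaf (.up 2 1992 1)))))) (.node (.node (.node (.node (.leaf (.root 1852)) (.leaf (.up 2 1124 1))) (.node (.leaf (.up 2 1122 1)) (.leaf (.up 1 199 0)))) (.node (.node (.leaf (.up 1 300 0)) (.leaf (.up 2 1812 1))) (.node (.leaf (.up 2 1810 1)) (.leaf (.up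 2 1809 1))))) (.node (.node (.node (.leaf (.up 2 604 1)) (.leaf (.up 1 607 1))) (.node (.leaf (.up 1 48 0)) (.leaf (.up 1 602 1)))) (.node (.node (.leaf (.up 1 300 1)) (.leaf (.up 1 303 1))) (.node (.leaf (.up 1 297 1)) (.leaf (.up 1 298 1))))))))

noncomputable def vt5_1_001 : Tr VStep := .node vt5_1_0010 vt5_1_0011

noncomputable def vt5_1_00 : Tr VStep := .node vt5_1_000 vt5_1_001

noncomputable def vt5_1_0100 : Tr VStep :=
  .node (.node (.node (.node (.node (.node (.node (.leaf (.root 3194)) (.leaf (.up 1 0 1))) (.node (.leaf (.up 1 6 1)) (.leaf (.up 1 5 1)))) (.node (.node (.leaf (.root 1780)) (.leaf (.up 1 824 0))) (.node (.leaf (.up 2 886 1)) (.leaf (.up 1 885 1))))) (.node (.node (.node (.leaf (.root 3700)) (.leaf (.up 2 1595 1))) (.node (.leaf (.up 2 1597 1)) (.leaf (.up 1 548 0)))) (.node (.node (.leaf (.root 2008)) (.leaf (.up 2 1355 1))) (.node (.leaf (.up 2 1357 1)) (.leaf (.up 1 313 0)))))) (.node (.node (.node (.node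 (.leaf (.root 1032)) (.leaf (.up 2 1762 1))) (.node (.leaf (.up 2 1764 1)) (.leaf (.up 1 565 0)))) (.node (.node (.leaf (.root 4886)) (.leaf (.up 2 1426 1))) (.node (.leaf (.up 2 1428 1)) (.leaf (.up 1 296 0))))) (.node (.node (.node (.leaf (.up 2 218 1)) (.leaf (.up 1 52 0))) (.node (.leaf (.up 1 223 1)) (.leaf (.up 1 220 1)))) (.node (.node (.leaf (.up 2 938 1)) (.leaf (.up 1 809 0))) (.node (.leaf (.up 2 943 1)) (.leaf (.up 2 940 1))))))) (.node (.node (.node (.node (.node (.leaf (.root 2994)) (.leaf (.root 3604))) (.node (.leaf (.root 6032)) (.leaf (.up 1 517 0)))) (.node (.node (.leaf (.root 1738)) (.leaf (.root 2054))) (.node (.leaf (.root 1376)) (.leaf (.up 1 280 0))))) (.node (.node (.node (.leaf (.root 4820)) (.leaf (.up 1 4 0))) (.node (.leaf (.root 6376)) (.leaf (.up 1 672 1)))) (.node (.node (.leaf (.root 2096)) (.leaf (.up 1 469 1))) (.node (.leaf (.up 1 467 1)) (.leaf (.up 1 464 1)))))) (.node (.node (.node (.node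 (.leaf (.root 681)) (.leaf (.up 1 21 0))) (.node (.leaf (.root 1298)) (.leaf (.up 1 633 1)))) (.node (.node (.leaf (.up 1 271 1)) (.leaf (.up 1 268 1))) (.node (.leaf (.up 1 266 1)) (.leaf (.up 1 265 1))))) (.node (.node (.node (.leaf (.root 1734)) (.leaf (.up 1 1095 1))) (.node (.leaf (.root 1666)) (.leaf (.up 1 532 0)))) (.node (.node (.leaf (.root 2902)) (.leaf (.up 1 1331 0))) (.node (.leaf (.root 4790)) (.leaf (.up 1 265 0)))))))) (.node (.node (.node (.node (.node (.node (.leaf (.up 1 10 1)) (.leaf (.up 1 9 1))) (.node (.leaf (.up 1 15 1)) (.leaf (.up 1 12 1)))) (.node (.node (.leaf (.root 5288)) (.leaf (.up 1 889 1))) (.node (.leaf (.root 2668)) (.leaf (.up 1 376 0))))) (.node (.node (.node (.leaf (.root 1214)) (.leaf (.up 1 100 0))) (.node (.leaf (.root 2358)) (.leaf (.up 1 1118 0)))) (.node (.node (.leaf (.root 4548)) (.leaf (.up 1 889 0))) (.node (.leaf (.up 1 399 0)) (.leaf (.up 1 1351 1)))))) (.node (.node (.node (.node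 (.leaf (.root 3736)) (.leaf (.up 1 117 0))) (.node (.leaf (.root 3692)) (.leaf (.up 1 1103 0)))) (.node (.node (.leaf (.root 841)) (.leaf (.up 1 872 0))) (.node (.leaf (.up 1 414 0)) (.leaf (.up 1 1438 1))))) (.node (.node (.node (.leaf (.up 1 130 0)) (.leaf (.up 1 208 1))) (.node (.leaf (.up 1 214 1)) (.leaf (.up 1 213 1)))) (.node (.node (.leaf (.root 1770)) (.leaf (.up 1 928 1))) (.node (.leaf (.up 1 934 1)) (.leaf (.up 1 361 0))))))) (.node (.node (.node (.node (.node (.leaf (.root 1540)) (.leaf (.up 1 69 0))) (.node (.leaf (.root 1768)) (.leaf (.up 2 1170 1)))) (.node (.node (.leaf (.root 2882)) (.leaf (.up 2 2023 1))) (.node (.leaf (.up 1 430 0)) (.leaf (.up 2 2018 1))))) (.node (.node (.node (.leaf (.root 1988)) (.leaf (.up 2 684 1))) (.node (.leaf (.up 2 682 1)) (.leaf (.up 2 681 1)))) (.node (.node (.leaf (.root 5148)) (.leaf (.up 2 476 1))) (.node (.leaf (.up 1 474 1)) (.leaf (.up 1 345 0)))))) (.node (.node (.node (.node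 (.leaf (.root 4764)) (.leaf (.up 2 629 1))) (.node (.leaf (.up 2 627 1)) (.leaf (.up 2 624 1)))) (.node (.node (.leaf (.up 1 262 1)) (.leaf (.up 1 261 1))) (.node (.leaf (.up 1 259 1)) (.leaf (.up 1 256 1))))) (.node (.node (.node (.leaf (.root 4720)) (.leaf (.up 1 84 0))) (.node (.leaf (.up 1 674 0)) (.leaf (.up 2 1099 1)))) (.node (.node (.leaf (.root 1938)) (.leaf (.up 2 1854 1))) (.node (.leaf (.up 1 447 0)) (.leaf (.up 2 1851 1))))))))

noncomputable def vt5_1_0101 : Tr VStep :=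
  .node (.node (.node (.node (.node (.node (.node (.leaf (.root 837)) (.leaf (.up 1 17 1))) (.node (.leaf (.up 1 23 1)) (.leaf (.up 1 20 1)))) (.node (.node (.leaf (.root 2746)) (.leaf (.up 2 865 1))) (.node (.leaf (.up 1 279 0)) (.leaf (.up 1 868 1))))) (.node (.node (.node (.leaf (.up 1 11 0)) (.leaf (.up 2 1578 1))) (.node (.leaf (.up 2 1580 1)) (.leaf (.up 2 1583 1)))) (.node (.node (.leaf (.up 2 1369 1)) (.leaf (.up 2 1370 1))) (.node (.leaf (.up 2 1372 1)) (.leaf (.up 1 480 0)))))) (.node (.node (.node (.node (.leaf (.up 1 26 0)) (.leaf (.up 2 1779 1))) (.node (.leaf (.up 2 1781 1)) (.leaf (.up 2 1782 1)))) (.node (.node (.leaf (.root 833)) (.leaf (.up 2 1411 1))) (.node (.leaf (.up 2 1413 1)) (.leaf (.up 1 497 0))))) (.node (.node (.node (.leaf (.up 2 203 1)) (.leaf (.up 1 200 1))) (.node (.leaf (.up 2 206 1)) (.leaf (.up 1 205 1)))) (.node (.node (.leaf (.root 2178)) (.leaf (.up 2 952 1))) (.node (.leaf (.up 1 262 0)) (.leaf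 (.up 1 957 1))))))) (.node (.node (.node (.node (.node (.leaf (.root 2370)) (.leaf (.root 1856))) (.node (.leaf (.root 1700)) (.leaf (.up 1 732 0)))) (.node (.node (.leaf (.root 4058)) (.leaf (.root 3132))) (.node (.leaf (.root 3704)) (.leaf (.up 1 449 0))))) (.node (.node (.node (.leaf (.root 674)) (.leaf (.up 1 221 0))) (.node (.leaf (.up 1 555 0)) (.leaf (.up 1 689 1)))) (.node (.node (.leaf (.root 3038)) (.leaf (.up 1 452 1))) (.node (.leaf (.up 1 310 0)) (.leaf (.up 1 449 1)))))) (.node (.node (.node (.node (.leaf (.root 4186)) (.leaf (.up 1 204 0))) (.node (.leaf (.up 1 570 0)) (.leaf (.up 1 616 1)))) (.node (.node (.leaf (.up 1 286 1)) (.leaf (.up 1 285 1))) (.node (.leaf (.up 1 283 1)) (.leaf (.up 1 280 1))))) (.node (.node (.node (.leaf (.up 1 59 0)) (.leaf (.up 1 1110 1))) (.node (.leaf (.root 6172)) (.leaf (.up 1 717 0)))) (.node (.node (.leaf (.root 986)) (.leaf (.root 1096))) (.node (.leaf (.root 1554)) (.leaf (.up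 1 464 0)))))))) (.node (.node (.node (.node (.node (.node (.leaf (.root 3350)) (.leaf (.up 1 24 1))) (.node (.leaf (.up 1 30 1)) (.leaf (.up 1 29 1)))) (.node (.node (.leaf (.root 954)) (.leaf (.up 1 872 1))) (.node (.leaf (.root 1784)) (.leaf (.up 1 417 0))))) (.node (.node (.node (.leaf (.root 4038)) (.leaf (.up 1 189 0))) (.node (.leaf (.up 1 587 0)) (.leaf (.up 2 1574 1)))) (.node (.node (.leaf (.root 1900)) (.leaf (.up 1 928 0))) (.node (.leaf (.up 1 342 0)) (.leaf (.up 1 1366 1)))))) (.node (.node (.node (.node (.leaf (.root 1556)) (.leaf (.up 1 172 0))) (.node (.leaf (.root 2278)) (.leaf (.up 2 1791 1)))) (.node (.node (.leaf (.root 5272)) (.leaf (.up 1 945 0))) (.node (.leaf (.up 1 327 0)) (.leaf (.up 2 1423 1))))) (.node (.node (.node (.leaf (.up 1 91 0)) (.leaf (.up 1 193 1))) (.node (.leaf (.up 1 199 1)) (.leaf (.up 1 196 1)))) (.node (.node (.leaf (.root 3480)) (.leaf (.up 1 945 1))) (.node (.leaf (.up 1 951 1)) (.leaf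 (.up 1 432 0))))))) (.node (.node (.node (.node (.node (.leaf (.root 4774)) (.leaf (.up 2 1158 1))) (.node (.leaf (.root 3960)) (.leaf (.up 2 1155 1)))) (.node (.node (.leaf (.root 1808)) (.leaf (.up 2 2038 1))) (.node (.leaf (.up 1 375 0)) (.leaf (.up 2 2035 1))))) (.node (.node (.node (.leaf (.up 1 107 0)) (.leaf (.up 2 701 1))) (.node (.leaf (.root 3926)) (.leaf (.up 2 696 1)))) (.node (.node (.leaf (.root 863)) (.leaf (.up 1 461 1))) (.node (.leaf (.up 1 459 1)) (.leaf (.up 2 456 1)))))) (.node (.node (.node (.node (.leaf (.root 1684)) (.leaf (.up 2 612 1))) (.node (.leaf (.up 1 610 1)) (.leaf (.up 2 609 1)))) (.node (.node (.leaf (.up 1 279 1)) (.leaf (.up 1 276 1))) (.node (.leaf (.up 1 274 1)) (.leaf (.up 1 273 1))))) (.node (.node (.node (.leaf (.root 1440)) (.leaf (.up 2 1119 1))) (.node (.leaf (.up 2 1113 1)) (.leaf (.up 2 1114 1)))) (.node (.node (.leaf (.root 3388)) (.leaf (.up 2 1839 1))) (.node (.leaf (.up 1 358 0))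 (.leaf (.up 2 1834 1))))))))

noncomputable def vt5_1_010 : Tr VStep := .node vt5_1_0100 vt5_1_0101

noncomputable def vt5_1_0110 : Tr VStep :=
  .node (.node (.node (.node (.node (.node (.node (.leaf (.root 3188)) (.leaf (.up 2 513 1))) (.node (.leaf (.root 3376)) (.leaf (.up 2 516 1)))) (.node (.node (.leaf (.root 1480)) (.leaf (.up 1 369 1))) (.node (.leaf (.up 1 375 1)) (.leaf (.up 1 316 0))))) (.node (.node (.node (.leaf (.root 2980)) (.leaf (.up 1 32 0))) (.node (.leaf (.root 3846)) (.leaf (.up 2 1087 1)))) (.node (.node (.leaf (.root 1338)) (.leaf (.up 2 1866 1))) (.node (.leaf (.up 1 459 0)) (.leaf (.up 2 1871 1)))))) (.node (.node (.node (.node (.leaf (.root 2326)) (.leaf (.up 1 49 0))) (.node (.leaf (.root 2296)) (.leaf (.up 2 1254 1)))) (.node (.node (.leaf (.root 4952)) (.leaf (.up 2 1939 1))) (.node (.leaf (.up 1 474 0)) (.leaf (.up 2 1942 1))))) (.node (.node (.node (.leaf (.root 2218)) (.leaf (.up 2 728 1))) (.node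 (.leaf (.up 2 734 1)) (.leaf (.up 2 733 1)))) (.node (.node (.leaf (.up 1 427 1)) (.leaf (.up 2 424 1))) (.node (.leaf (.up 1 430 1)) (.leaf (.up 1 301 0))))))) (.node (.node (.node (.node (.node (.leaf (.root 3622)) (.leaf (.up 1 1 0))) (.node (.leaf (.root 4784)) (.leaf (.up 1 1083 0)))) (.node (.node (.leaf (.root 922)) (.leaf (.up 1 796 0))) (.node (.leaf (.up 1 490 0)) (.leaf (.up 1 1514 1))))) (.node (.node (.node (.leaf (.root 3880)) (.leaf (.up 1 164 1))) (.node (.leaf (.up 1 162 1)) (.leaf (.up 1 161 1)))) (.node (.node (.leaf (.root 1360)) (.leaf (.up 1 980 1))) (.node (.leaf (.root 940)) (.leaf (.up 1 285 0)))))) (.node (.node (.node (.node (.leaf (.root 1638)) (.leaf (.up 1 125 1))) (.node (.leaf (.up 1 123 1)) (.leaf (.up 1 120 1)))) (.node (.node (.leaf (.root 3286)) (.leaf (.up 1 781 1))) (.node (.leaf (.up 1 779 1)) (.leaf (.up 1 268 0))))) (.node (.node (.node (.leaf (.root 1696)) (.leaf (.up 1 16 0))) (.node (.leaf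 (.root 2206)) (.leaf (.up 1 1066 0)))) (.node (.node (.leaf (.root 3828)) (.leaf (.up 1 781 0))) (.node (.leaf (.up 1 507 0)) (.leaf (.up 1 1331 1)))))))) (.node (.node (.node (.node (.node (.node (.leaf (.root 1806)) (.leaf (.up 1 97 0))) (.node (.leaf (.up 1 526 1)) (.leaf (.up 1 525 1)))) (.node (.node (.leaf (.root 5034)) (.leaf (.up 1 376 1))) (.node (.leaf (.up 1 382 1)) (.leaf (.up 1 381 1))))) (.node (.node (.node (.leaf (.root 2422)) (.leaf (.up 1 1075 1))) (.node (.leaf (.root 2154)) (.leaf (.up 1 608 0)))) (.node (.node (.leaf (.root 3482)) (.leaf (.up 1 1351 0))) (.node (.leaf (.root 5028)) (.leaf (.up 1 381 0)))))) (.node (.node (.node (.node (.leaf (.root 2547)) (.leaf (.root 2954))) (.node (.leaf (.root 4230)) (.leaf (.up 1 625 0)))) (.node (.node (.leaf (.root 1580)) (.leaf (.root 1274))) (.node (.leaf (.root 2170)) (.leaf (.up 1 364 0))))) (.node (.node (.node (.leaf (.root 4942)) (.leaf (.up 1 112 0))) (.node (.leaf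 (.up 1 646 0)) (.leaf (.up 1 724 1)))) (.node (.node (.leaf (.up 1 418 1)) (.leaf (.up 1 417 1))) (.node (.leaf (.up 1 411 0)) (.leaf (.up 1 420 1))))))) (.node (.node (.node (.node (.node (.leaf (.root 1410)) (.leaf (.up 2 1686 1))) (.node (.leaf (.up 2 1680 1)) (.leaf (.up 1 577 0)))) (.node (.node (.leaf (.root 3994)) (.leaf (.up 2 1510 1))) (.node (.leaf (.up 2 1504 1)) (.leaf (.up 1 348 0))))) (.node (.node (.node (.leaf (.up 2 174 1)) (.leaf (.up 1 64 0))) (.node (.leaf (.up 1 171 1)) (.leaf (.up 1 168 1)))) (.node (.node (.leaf (.up 2 990 1)) (.leaf (.up 1 861 0))) (.node (.leaf (.up 1 427 0)) (.leaf (.up 2 984 1)))))) (.node (.node (.node (.node (.leaf (.up 2 119 1)) (.leaf (.up 1 81 0))) (.node (.leaf (.up 1 114 1)) (.leaf (.up 1 113 1)))) (.node (.node (.leaf (.up 2 775 1)) (.leaf (.up 1 772 1))) (.node (.leaf (.up 1 442 0)) (.leaf (.up 1 769 1))))) (.node (.node (.node (.leaf (.up 1 166 0)) (.leaf (.up 2 1615 1))) (.node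 (.leaf (.up 2 1609 1)) (.leaf (.up 1 592 0)))) (.node (.node (.leaf (.up 2 1340 1)) (.leaf (.up 2 1343 1))) (.node (.leaf (.up 2 1337 1)) (.leaf (.up 1 333 0))))))))

noncomputable def vt5_1_0111 : Tr VStep :=
  .node (.node (.node (.node (.node (.node (.node (.leaf (.root 2368)) (.leaf (.up 2 528 1))) (.node (.leaf (.root 902)) (.leaf (.up 2 533 1)))) (.node (.node (.leaf (.root 6188)) (.leaf (.up 1 352 1))) (.node (.leaf (.up 1 358 1)) (.leaf (.up 2 357 1))))) (.node (.node (.node (.leaf (.root 745)) (.leaf (.up 2 1067 1))) (.node (.leaf (.up 1 527 0)) (.leaf (.up 2 1070 1)))) (.node (.node (.leaf (.root 3008)) (.leaf (.up 2 1883 1))) (.node (.leaf (.up 1 274 0)) (.leaf (.up 2 1886 1)))))) (.node (.node (.node (.node (.leaf (.root 3112)) (.leaf (.up 2 1266 1))) (.node (.leaf (.up 1 542 0)) (.leaf (.up 2 1271 1)))) (.node (.node (.leaf (.root 2236)) (.leaf (.up 2 1922 1))) (.node (.leaf (.up 1 259 0)) (.leaf (.up 2 1927 1)))))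 (.node (.node (.node (.leaf (.up 1 31 0)) (.leaf (.up 2 713 1))) (.node (.leaf (.up 2 719 1)) (.leaf (.up 2 716 1)))) (.node (.node (.leaf (.up 1 442 1)) (.leaf (.up 1 441 1))) (.node (.leaf (.up 1 447 1)) (.leaf (.up 2 444 1))))))) (.node (.node (.node (.node (.node (.leaf (.root 709)) (.leaf (.up 1 216 0))) (.node (.leaf (.root 2010)) (.leaf (.up 2 1675 1)))) (.node (.node (.leaf (.root 3674)) (.leaf (.up 1 965 0))) (.node (.leaf (.up 1 307 0)) (.leaf (.up 2 1531 1))))) (.node (.node (.node (.leaf (.up 1 47 0)) (.leaf (.up 1 181 1))) (.node (.leaf (.up 1 179 1)) (.leaf (.up 1 176 1)))) (.node (.node (.leaf (.root 5802)) (.leaf (.up 1 965 1))) (.node (.leaf (.root 3014)) (.leaf (.up 1 452 0)))))) (.node (.node (.node (.node (.leaf (.up 1 62 0)) (.leaf (.up 1 108 1))) (.node (.leaf (.up 1 106 1)) (.leaf (.up 1 105 1)))) (.node (.node (.leaf (.root 855)) (.leaf (.up 1 796 1))) (.node (.leaf (.up 1 794 1)) (.leaf (.up 1 469 0)))))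 (.node (.node (.node (.leaf (.root 2834)) (.leaf (.up 1 201 0))) (.node (.leaf (.up 1 575 0)) (.leaf (.up 2 1618 1)))) (.node (.node (.leaf (.root 1680)) (.leaf (.up 1 980 0))) (.node (.leaf (.up 1 290 0)) (.leaf (.up 1 1314 1)))))))) (.node (.node (.node (.node (.node (.node (.leaf (.root 3740)) (.leaf (.up 1 184 0))) (.node (.leaf (.root 5544)) (.leaf (.up 1 540 1)))) (.node (.node (.leaf (.root 2324)) (.leaf (.up 1 361 1))) (.node (.leaf (.up 1 339 0)) (.leaf (.up 1 364 1))))) (.node (.node (.node (.leaf (.up 1 79 0)) (.leaf (.up 1 1058 1))) (.node (.leaf (.root 3436)) (.leaf (.up 1 697 0)))) (.node (.node (.leaf (.root 1426)) (.leaf (.root 2134))) (.node (.leaf (.root 2282)) (.leaf (.up 1 420 0)))))) (.node (.node (.node (.node (.leaf (.root 2300)) (.leaf (.root 1350))) (.node (.leaf (.root 1946)) (.leaf (.up 1 680 0)))) (.node (.node (.leaf (.root 3662)) (.leaf (.root 3400))) (.node (.leaf (.root 3088)) (.leaf (.up 1 437 0)))))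 (.node (.node (.node (.leaf (.root 679)) (.leaf (.up 1 169 0))) (.node (.leaf (.up 1 607 0)) (.leaf (.up 1 709 1)))) (.node (.node (.leaf (.up 1 435 1)) (.leaf (.up 1 432 1))) (.node (.leaf (.up 1 322 0)) (.leaf (.up 1 437 1))))))) (.node (.node (.node (.node (.node (.leaf (.root 5022)) (.leaf (.up 2 1671 1))) (.node (.leaf (.up 2 1665 1)) (.leaf (.up 2 1666 1)))) (.node (.node (.leaf (.up 2 1524 1)) (.leaf (.up 2 1527 1))) (.node (.leaf (.up 2 1521 1)) (.leaf (.up 1 389 0))))) (.node (.node (.node (.leaf (.root 4528)) (.leaf (.up 1 153 0))) (.node (.leaf (.up 2 186 1)) (.leaf (.up 1 185 1)))) (.node (.node (.leaf (.up 2 975 1)) (.leaf (.up 2 972 1))) (.node (.leaf (.up 2 970 1)) (.leaf (.up 1 969 1)))))) (.node (.node (.node (.node (.leaf (.up 1 102 1)) (.leaf (.up 1 101 1))) (.node (.leaf (.up 1 99 1)) (.leaf (.up 1 96 1)))) (.node (.node (.leaf (.root 6308)) (.leaf (.up 1 789 1))) (.node (.leaf (.up 2 787 1)) (.leaf (.up 1 784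 1))))) (.node (.node (.node (.leaf (.up 2 1629 1)) (.leaf (.up 2 1630 1))) (.node (.leaf (.up 2 1624 1)) (.leaf (.up 2 1627 1)))) (.node (.node (.leaf (.up 2 1325 1)) (.leaf (.up 2 1326 1))) (.node (.leaf (.up 2 1320 1)) (.leaf (.up 1 404 0))))))))

noncomputable def vt5_1_011 : Tr VStep := .node vt5_1_0110 vt5_1_0111

noncomputable def vt5_1_01 : Tr VStep := .node vt5_1_010 vt5_1_011

noncomputable def vt5_1_0 : Tr VStep := .node vt5_1_00 vt5_1_01

noncomputable def vt5_1_1000 : Tr VStep :=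
  .node (.node (.node (.node (.node (.node (.node (.leaf (.root 5870)) (.leaf (.up 1 746 0))) (.node (.leaf (.up 1 28 0)) (.leaf (.up 1 1029 1)))) (.node (.node (.leaf (.root 1110)) (.leaf (.up 1 503 0))) (.node (.leaf (.root 1346)) (.leaf (.up 2 1909 1))))) (.node (.node (.node (.leaf (.root 2948)) (.leaf (.up 1 571 1))) (.node (.leaf (.up 1 573 1)) (.leaf (.up 1 235 0)))) (.node (.node (.leaf (.up 1 256 0)) (.leaf (.up 1 331 1))) (.node (.leaf (.up 1 333 1)) (.leaf (.up 1 334 1)))))) (.node (.node (.node (.node (.leaf (.root 1562)) (.leaf (.up 1 738 1))) (.node (.leaf (.root 1300)) (.leaf (.up 1 250 0)))) (.node (.node (.leaf (.up 1 273 0)) (.leaf (.up 1 402 1))) (.node (.leaf (.up 1 404 1)) (.leaf (.up 1 407 1))))) (.node (.node (.node (.leaf (.root 1656)) (.leaf (.up 1 763 0))) (.node (.leaf (.up 1 13 0)) (.leaf (.up 1 1244 1)))) (.node (.node (.leaf (.root 3396)) (.leaf (.up 1 486 0))) (.node (.leaf (.up 1 784 0)) (.leaf (.up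 2 1964 1))))))) (.node (.node (.node (.node (.node (.leaf (.root 4022)) (.leaf (.up 2 158 1))) (.node (.leaf (.up 1 152 1)) (.leaf (.up 1 155 1)))) (.node (.node (.leaf (.root 2352)) (.leaf (.up 2 1006 1))) (.node (.leaf (.root 1766)) (.leaf (.up 2 1003 1))))) (.node (.node (.node (.leaf (.root 4876)) (.leaf (.up 2 1701 1))) (.node (.leaf (.up 1 61 0)) (.leaf (.up 2 1696 1)))) (.node (.node (.leaf (.root 2252)) (.leaf (.up 2 1493 1))) (.node (.leaf (.up 1 800 0)) (.leaf (.up 2 1488 1)))))) (.node (.node (.node (.node (.leaf (.root 898)) (.leaf (.up 2 1660 1))) (.node (.leaf (.up 1 44 0)) (.leaf (.up 2 1657 1)))) (.node (.node (.leaf (.root 4640)) (.leaf (.up 2 1292 1))) (.node (.leaf (.up 1 817 0)) (.leaf (.up 2 1289 1))))) (.node (.node (.node (.leaf (.up 1 68 1)) (.leaf (.up 1 71 1))) (.node (.leaf (.up 1 65 1)) (.leaf (.up 1 66 1)))) (.node (.node (.leaf (.up 1 304 0)) (.leaf (.up 2 823 1))) (.node (.leaf (.up 1 817 1)) (.leaf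 (.up 2 818 1)))))))) (.node (.node (.node (.node (.node (.node (.leaf (.root 1956)) (.leaf (.up 2 1033 1))) (.node (.leaf (.up 2 1039 1)) (.leaf (.up 1 170 0)))) (.node (.node (.leaf (.root 3716)) (.leaf (.up 2 1913 1))) (.node (.leaf (.up 2 1919 1)) (.leaf (.up 1 951 0))))) (.node (.node (.node (.leaf (.up 2 561 1)) (.leaf (.up 1 562 1))) (.node (.leaf (.up 1 93 0)) (.leaf (.up 1 567 1)))) (.node (.node (.leaf (.up 2 321 1)) (.leaf (.up 1 322 1))) (.node (.leaf (.up 1 324 1)) (.leaf (.up 1 327 1)))))) (.node (.node (.node (.node (.leaf (.root 2772)) (.leaf (.up 1 698 0))) (.node (.leaf (.up 1 76 0)) (.leaf (.up 2 750 1)))) (.node (.node (.leaf (.up 2 408 1)) (.leaf (.up 1 411 1))) (.node (.leaf (.up 1 413 1)) (.leaf (.up 1 414 1))))) (.node (.node (.node (.leaf (.root 3352)) (.leaf (.up 2 1232 1))) (.node (.leaf (.up 2 1238 1)) (.leaf (.up 1 187 0)))) (.node (.node (.leaf (.up 1 336 0)) (.leaf (.up 2 1952 1))) (.node (.leaf (.up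 2 1958 1)) (.leaf (.up 1 934 0))))))) (.node (.node (.node (.node (.node (.leaf (.root 2216)) (.leaf (.up 1 151 1))) (.node (.leaf (.up 1 124 0)) (.leaf (.up 1 146 1)))) (.node (.node (.leaf (.root 3098)) (.leaf (.up 1 407 0))) (.node (.leaf (.root 5926)) (.leaf (.up 1 994 1))))) (.node (.node (.node (.leaf (.root 851)) (.leaf (.root 1492))) (.node (.leaf (.root 1456)) (.leaf (.up 1 139 0)))) (.node (.node (.leaf (.up 1 352 0)) (.leaf (.root 2962))) (.node (.leaf (.root 2541)) (.leaf (.up 1 918 0)))))) (.node (.node (.node (.node (.leaf (.root 4434)) (.leaf (.root 4676))) (.node (.leaf (.root 4634)) (.leaf (.up 1 154 0)))) (.node (.node (.leaf (.root 2162)) (.leaf (.up 1 1285 1))) (.node (.leaf (.root 1590)) (.leaf (.up 1 903 0))))) (.node (.node (.node (.leaf (.up 1 77 1)) (.leaf (.up 1 78 1))) (.node (.leaf (.up 1 72 1)) (.leaf (.up 1 75 1)))) (.node (.node (.leaf (.root 2016)) (.leaf (.up 1 390 0))) (.node (.leaf (.up 1 824 1))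 (.leaf (.up 1 827 1))))))))

noncomputable def vt5_1_1001 : Tr VStep :=
  .node (.node (.node (.node (.node (.node (.node (.leaf (.root 1204)) (.leaf (.up 1 563 0))) (.node (.leaf (.up 1 197 0)) (.leaf (.up 1 1044 1)))) (.node (.node (.leaf (.root 5898)) (.leaf (.up 1 302 0))) (.node (.leaf (.root 3618)) (.leaf (.up 1 1300 0))))) (.node (.node (.node (.leaf (.root 689)) (.leaf (.up 1 554 1))) (.node (.leaf (.up 1 556 1)) (.leaf (.up 1 50 0)))) (.node (.node (.leaf (.up 1 345 1)) (.leaf (.up 1 346 1))) (.node (.leaf (.up 1 348 1)) (.leaf (.up 1 351 1)))))) (.node (.node (.node (.node (.leaf (.root 5438)) (.leaf (.up 1 755 1))) (.node (.leaf (.root 2766)) (.leaf (.up 1 35 0)))) (.node (.node (.leaf (.root 2198)) (.leaf (.up 1 387 1))) (.node (.leaf (.up 1 389 1)) (.leaf (.up 1 390 1))))) (.node (.node (.node (.leaf (.root 3360)) (.leaf (.up 1 546 0))) (.node (.leaf (.up 1 212 0)) (.leaf (.up 2 1229 1)))) (.node (.node (.leaf (.root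 1144)) (.leaf (.up 1 319 0))) (.node (.leaf (.root 2038)) (.leaf (.up 1 1285 0))))))) (.node (.node (.node (.node (.node (.leaf (.root 1652)) (.leaf (.up 1 143 1))) (.node (.leaf (.up 1 137 1)) (.leaf (.up 2 138 1)))) (.node (.node (.leaf (.root 4172)) (.leaf (.up 2 1023 1))) (.node (.leaf (.root 3270)) (.leaf (.up 2 1018 1))))) (.node (.node (.node (.leaf (.root 892)) (.leaf (.up 2 1716 1))) (.node (.leaf (.up 1 228 0)) (.leaf (.up 2 1713 1)))) (.node (.node (.leaf (.root 5396)) (.leaf (.up 1 271 0))) (.node (.leaf (.up 2 1474 1)) (.leaf (.up 2 1473 1)))))) (.node (.node (.node (.node (.leaf (.root 4068)) (.leaf (.up 2 1645 1))) (.node (.leaf (.up 1 245 0)) (.leaf (.up 2 1640 1)))) (.node (.node (.leaf (.root 1472)) (.leaf (.up 1 286 0))) (.node (.leaf (.up 2 1307 1)) (.leaf (.up 2 1304 1))))) (.node (.node (.node (.leaf (.up 1 85 1)) (.leaf (.up 1 86 1))) (.node (.leaf (.up 1 80 1)) (.leaf (.up 1 2 0)))) (.node (.node (.leaf (.root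 1342)) (.leaf (.up 2 806 1))) (.node (.leaf (.up 1 800 1)) (.leaf (.up 2 803 1)))))))) (.node (.node (.node (.node (.node (.node (.leaf (.root 5894)) (.leaf (.up 2 1048 1))) (.node (.leaf (.up 2 1054 1)) (.leaf (.up 1 115 0)))) (.node (.node (.leaf (.root 1536)) (.leaf (.up 2 1896 1))) (.node (.leaf (.up 2 1902 1)) (.leaf (.up 2 1901 1))))) (.node (.node (.node (.leaf (.root 5142)) (.leaf (.up 1 547 1))) (.node (.leaf (.up 2 549 1)) (.leaf (.up 1 550 1)))) (.node (.node (.leaf (.up 1 336 1)) (.leaf (.up 1 339 1))) (.node (.leaf (.up 1 341 1)) (.leaf (.up 1 342 1)))))) (.node (.node (.node (.node (.leaf (.root 1014)) (.leaf (.up 1 611 0))) (.node (.leaf (.up 2 764 1)) (.leaf (.up 1 767 1)))) (.node (.node (.leaf (.root 3372)) (.leaf (.up 1 382 0))) (.node (.leaf (.up 2 396 1)) (.leaf (.up 1 399 1))))) (.node (.node (.node (.leaf (.up 2 1218 1)) (.leaf (.up 2 1217 1))) (.node (.leaf (.up 2 1223 1)) (.leaf (.up 1 98 0)))) (.node (.node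 (.leaf (.up 2 1970 1)) (.leaf (.up 2 1969 1))) (.node (.leaf (.up 2 1975 1)) (.leaf (.up 2 1972 1))))))) (.node (.node (.node (.node (.node (.leaf (.root 6142)) (.leaf (.up 1 134 1))) (.node (.leaf (.up 1 128 1)) (.leaf (.up 1 131 1)))) (.node (.node (.leaf (.root 1908)) (.leaf (.up 1 334 0))) (.node (.leaf (.root 2116)) (.leaf (.up 1 1011 1))))) (.node (.node (.node (.leaf (.root 5106)) (.leaf (.up 1 1128 0))) (.node (.leaf (.root 6246)) (.leaf (.up 1 82 0)))) (.node (.node (.leaf (.root 1450)) (.leaf (.root 2072))) (.node (.leaf (.root 1626)) (.leaf (.up 1 847 0)))))) (.node (.node (.node (.node (.leaf (.root 1040)) (.leaf (.root 2080))) (.node (.leaf (.root 1086)) (.leaf (.up 1 67 0)))) (.node (.node (.leaf (.root 6200)) (.leaf (.up 1 1300 1))) (.node (.leaf (.root 3292)) (.leaf (.up 1 862 0))))) (.node (.node (.node (.leaf (.up 1 92 1)) (.leaf (.up 1 95 1))) (.node (.leaf (.up 1 89 1)) (.leaf (.up 1 90 1)))) (.node (.node (.leaf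 (.root 2728)) (.leaf (.up 1 351 0))) (.node (.leaf (.up 1 809 1)) (.leaf (.up 1 810 1))))))))

noncomputable def vt5_1_100 : Tr VStep := .node vt5_1_1000 vt5_1_1001

noncomputable def vt5_1_1010 : Tr VStep :=
  .node (.node (.node (.node (.node (.node (.node (.leaf (.root 3542)) (.leaf (.root 3124))) (.node (.leaf (.root 4716)) (.leaf (.up 1 238 0)))) (.node (.node (.leaf (.root 1964)) (.leaf (.root 1836))) (.node (.leaf (.root 1896)) (.leaf (.up 1 1011 0))))) (.node (.node (.node (.leaf (.up 1 57 1)) (.leaf (.up 1 58 1))) (.node (.leaf (.up 1 25 0)) (.leaf (.up 1 63 1)))) (.node (.node (.leaf (.root 964)) (.leaf (.up 1 498 0))) (.node (.leaf (.up 1 772 0)) (.leaf (.up 1 847 1)))))) (.node (.node (.node (.node (.leaf (.root 2194)) (.leaf (.up 1 227 1))) (.node (.leaf (.up 1 8 0)) (.leaf (.up 1 230 1)))) (.node (.node (.leaf (.root 2692)) (.leaf (.up 1 483 0))) (.node (.leaf (.up 1 789 0)) (.leaf (.up 1 918 1))))) (.node (.node (.node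 (.leaf (.root 741)) (.leaf (.root 1928))) (.node (.leaf (.root 717)) (.leaf (.up 1 255 0)))) (.node (.node (.leaf (.up 1 276 0)) (.leaf (.up 1 1448 1))) (.node (.leaf (.root 6334)) (.leaf (.up 1 994 0))))))) (.node (.node (.node (.node (.node (.leaf (.up 2 668 1)) (.leaf (.up 1 671 1))) (.node (.leaf (.up 1 56 0)) (.leaf (.up 2 666 1)))) (.node (.node (.leaf (.root 859)) (.leaf (.up 1 467 0))) (.node (.leaf (.up 1 489 1)) (.leaf (.up 1 490 1))))) (.node (.node (.node (.leaf (.up 2 1191 1)) (.leaf (.up 2 1188 1))) (.node (.leaf (.up 2 1186 1)) (.leaf (.up 1 207 0)))) (.node (.node (.leaf (.up 1 292 0)) (.leaf (.up 2 2004 1))) (.node (.leaf (.up 2 2002 1)) (.leaf (.up 2 2001 1)))))) (.node (.node (.node (.node (.leaf (.root 1042)) (.leaf (.up 2 1149 1))) (.node (.leaf (.up 2 1147 1)) (.leaf (.up 1 222 0)))) (.node (.node (.leaf (.up 1 309 0)) (.leaf (.up 2 1805 1))) (.node (.leaf (.up 2 1803 1)) (.leaf (.up 2 1800 1))))) (.node (.node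 (.node (.leaf (.up 2 581 1)) (.leaf (.up 1 582 1))) (.node (.leaf (.up 1 41 0)) (.leaf (.up 1 579 1)))) (.node (.node (.leaf (.up 1 309 1)) (.leaf (.up 1 310 1))) (.node (.leaf (.up 1 304 1)) (.leaf (.up 1 307 1)))))))) (.node (.node (.node (.node (.node (.node (.leaf (.root 2036)) (.leaf (.up 2 1544 1))) (.node (.leaf (.up 1 88 0)) (.leaf (.up 2 1549 1)))) (.node (.node (.leaf (.root 4198)) (.leaf (.up 1 435 0))) (.node (.leaf (.root 3046)) (.leaf (.up 2 1405 1))))) (.node (.node (.node (.leaf (.up 1 48 1)) (.leaf (.up 1 51 1))) (.node (.leaf (.up 1 53 1)) (.leaf (.up 1 54 1)))) (.node (.node (.leaf (.up 1 324 0)) (.leaf (.up 2 835 1))) (.node (.leaf (.up 2 837 1)) (.leaf (.up 2 838 1)))))) (.node (.node (.node (.node (.leaf (.root 4180)) (.leaf (.up 2 234 1))) (.node (.leaf (.up 1 236 1)) (.leaf (.up 1 190 0)))) (.node (.node (.leaf (.root 2052)) (.leaf (.up 2 922 1))) (.node (.leaf (.up 2 924 1)) (.leaf (.up 2 927 1))))) (.node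 (.node (.node (.leaf (.root 5944)) (.leaf (.up 2 1745 1))) (.node (.leaf (.up 1 73 0)) (.leaf (.up 2 1748 1)))) (.node (.node (.leaf (.root 1272)) (.leaf (.up 1 418 0))) (.node (.leaf (.up 1 852 0)) (.leaf (.up 2 1444 1))))))) (.node (.node (.node (.node (.node (.leaf (.root 781)) (.leaf (.up 1 662 1))) (.node (.leaf (.root 1422)) (.leaf (.up 1 142 0)))) (.node (.node (.leaf (.root 3796)) (.leaf (.up 1 486 1))) (.node (.leaf (.up 1 480 1)) (.leaf (.up 1 483 1))))) (.node (.node (.node (.leaf (.root 1644)) (.leaf (.up 1 655 0))) (.node (.leaf (.up 1 121 0)) (.leaf (.up 1 1192 1)))) (.node (.node (.leaf (.root 4994)) (.leaf (.up 1 402 0))) (.node (.leaf (.up 1 868 0)) (.leaf (.up 1 1448 0)))))) (.node (.node (.node (.node (.leaf (.root 3912)) (.leaf (.up 1 670 0))) (.node (.leaf (.up 1 104 0)) (.leaf (.up 1 1137 1)))) (.node (.node (.leaf (.root 829)) (.leaf (.up 1 387 0))) (.node (.leaf (.root 2308)) (.leaf (.up 1 1465 0))))) (.node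 (.node (.node (.leaf (.root 3160)) (.leaf (.up 1 591 1))) (.node (.leaf (.up 1 585 1)) (.leaf (.up 1 159 0)))) (.node (.node (.leaf (.up 1 316 1)) (.leaf (.up 1 319 1))) (.node (.leaf (.up 1 313 1)) (.leaf (.up 1 314 1))))))))

noncomputable def vt5_1_1011 : Tr VStep :=
  .node (.node (.node (.node (.node (.node (.node (.leaf (.root 1860)) (.leaf (.root 2302))) (.node (.leaf (.root 1634)) (.leaf (.up 1 55 0)))) (.node (.node (.leaf (.root 5750)) (.leaf (.root 5840))) (.node (.leaf (.root 3982)) (.leaf (.up 1 810 0))))) (.node (.node (.node (.leaf (.up 1 40 1)) (.leaf (.up 1 43 1))) (.node (.leaf (.up 1 45 1)) (.leaf (.up 1 46 1)))) (.node (.node (.leaf (.root 3876)) (.leaf (.up 1 299 0))) (.node (.leaf (.up 1 861 1)) (.leaf (.up 1 862 1)))))) (.node (.node (.node (.node (.leaf (.root 4736)) (.leaf (.up 1 242 1))) (.node (.leaf (.up 1 209 0)) (.leaf (.up 1 247 1)))) (.node (.node (.leaf (.root 1870)) (.leaf (.up 1 314 0))) (.node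 (.leaf (.root 1930)) (.leaf (.up 1 903 1))))) (.node (.node (.node (.leaf (.root 5518)) (.leaf (.up 1 1052 0))) (.node (.leaf (.root 2826)) (.leaf (.up 1 38 0)))) (.node (.node (.leaf (.root 1606)) (.leaf (.up 1 1465 1))) (.node (.leaf (.root 1952)) (.leaf (.up 1 827 0))))))) (.node (.node (.node (.node (.node (.leaf (.root 2130)) (.leaf (.up 2 654 1))) (.node (.leaf (.up 2 648 1)) (.leaf (.up 1 651 1)))) (.node (.node (.leaf (.root 4808)) (.leaf (.up 1 266 0))) (.node (.leaf (.up 2 504 1)) (.leaf (.up 1 507 1))))) (.node (.node (.node (.leaf (.up 2 1206 1)) (.leaf (.up 2 1205 1))) (.node (.leaf (.up 2 1203 1)) (.leaf (.up 1 22 0)))) (.node (.node (.leaf (.up 2 1990 1)) (.leaf (.up 2 1989 1))) (.node (.leaf (.up 2 1987 1)) (.leaf (.up 1 779 0)))))) (.node (.node (.node (.node (.leaf (.up 2 1135 1)) (.leaf (.up 2 1132 1))) (.node (.leaf (.up 2 1130 1)) (.leaf (.up 1 7 0)))) (.node (.node (.leaf (.up 2 1823 1)) (.leaf (.up 2 1820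 1))) (.node (.leaf (.up 2 1818 1)) (.leaf (.up 1 794 0))))) (.node (.node (.node (.leaf (.up 2 596 1)) (.leaf (.up 1 518 0))) (.node (.leaf (.up 2 593 1)) (.leaf (.up 1 594 1)))) (.node (.node (.leaf (.up 1 292 1)) (.leaf (.up 1 283 0))) (.node (.leaf (.up 1 289 1)) (.leaf (.up 1 290 1)))))))) (.node (.node (.node (.node (.node (.node (.leaf (.root 5054)) (.leaf (.up 2 1561 1))) (.node (.leaf (.up 1 129 0)) (.leaf (.up 2 1564 1)))) (.node (.node (.leaf (.root 1314)) (.leaf (.up 2 1385 1))) (.node (.leaf (.root 1880)) (.leaf (.up 2 1388 1))))) (.node (.node (.node (.leaf (.up 1 33 1)) (.leaf (.up 1 34 1))) (.node (.leaf (.up 1 36 1)) (.leaf (.up 1 39 1)))) (.node (.node (.leaf (.root 2272)) (.leaf (.up 2 850 1))) (.node (.leaf (.up 1 852 1)) (.leaf (.up 2 855 1)))))) (.node (.node (.node (.node (.leaf (.root 1858)) (.leaf (.up 1 251 1))) (.node (.leaf (.up 1 253 1)) (.leaf (.up 1 103 0)))) (.node (.node (.leaf (.root 5526)) (.leaf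 (.up 2 907 1))) (.node (.leaf (.root 5976)) (.leaf (.up 2 910 1))))) (.node (.node (.node (.leaf (.root 1458)) (.leaf (.up 2 1728 1))) (.node (.leaf (.up 1 144 0)) (.leaf (.up 2 1733 1)))) (.node (.node (.leaf (.root 5426)) (.leaf (.up 2 1456 1))) (.node (.leaf (.up 2 1462 1)) (.leaf (.up 2 1461 1))))))) (.node (.node (.node (.node (.node (.leaf (.root 2563)) (.leaf (.up 1 647 1))) (.node (.leaf (.root 4598)) (.leaf (.up 1 87 0)))) (.node (.node (.leaf (.root 676)) (.leaf (.up 1 503 1))) (.node (.leaf (.up 1 497 1)) (.leaf (.up 1 498 1))))) (.node (.node (.node (.leaf (.root 5240)) (.leaf (.up 1 598 0))) (.node (.leaf (.up 1 160 0)) (.leaf (.up 2 1209 1)))) (.node (.node (.leaf (.root 2118)) (.leaf (.up 1 331 0))) (.node (.leaf (.root 2164)) (.leaf (.up 2 1993 1)))))) (.node (.node (.node (.node (.leaf (.root 813)) (.leaf (.up 1 583 0))) (.node (.leaf (.up 1 177 0)) (.leaf (.up 1 1120 1)))) (.node (.node (.leaf (.root 5282)) (.leaf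 (.up 1 346 0))) (.node (.leaf (.root 6162)) (.leaf (.up 2 1808 1))))) (.node (.node (.node (.leaf (.root 1882)) (.leaf (.up 1 606 1))) (.node (.leaf (.up 1 600 1)) (.leaf (.up 1 70 0)))) (.node (.node (.leaf (.up 1 301 1)) (.leaf (.up 1 302 1))) (.node (.leaf (.up 1 296 1)) (.leaf (.up 1 299 1))))))))

noncomputable def vt5_1_101 : Tr VStep := .node vt5_1_1010 vt5_1_1011

noncomputable def vt5_1_10 : Tr VStep := .node vt5_1_100 vt5_1_101

noncomputable def vt5_1_1100 : Tr VStep :=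
  .node (.node (.node (.node (.node (.node (.node (.leaf (.up 1 2 1)) (.leaf (.up 1 1 1))) (.node (.leaf (.up 1 7 1)) (.leaf (.up 1 4 1)))) (.node (.node (.leaf (.root 871)) (.leaf (.up 1 881 1))) (.node (.leaf (.root 1542)) (.leaf (.up 1 440 0))))) (.node (.node (.node (.leaf (.root 4742)) (.leaf (.up 1 164 0))) (.node (.leaf (.up 1 594 0)) (.leaf (.up 2 1599 1)))) (.node (.node (.leaf (.root 1892)) (.leaf (.up 1 953 0))) (.node (.leaf (.up 1 335 0)) (.leaf (.up 1 1359 1)))))) (.node (.node (.node (.node (.leaf (.root 1678)) (.leaf (.up 1 181 0))) (.node (.leaf (.root 1682)) (.leaf (.up 2 1766 1)))) (.node (.node (.leaf (.root 6094)) (.leaf (.up 1 936 0))) (.node (.leaf (.up 1 350 0)) (.leaf (.up 2 1430 1))))) (.node (.node (.node (.leaf (.up 1 66 0)) (.leaf (.up 1 216 1))) (.node (.leaf (.up 1 222 1)) (.leaf (.up 1 221 1)))) (.node (.node (.leaf (.root 4968)) (.leaf (.up 1 936 1))) (.node (.leaf (.up 1 942 1)) (.leaf (.up 1 425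 0))))))) (.node (.node (.node (.node (.node (.leaf (.root 3214)) (.leaf (.up 2 1183 1))) (.node (.leaf (.root 5706)) (.leaf (.up 2 1178 1)))) (.node (.node (.leaf (.root 1610)) (.leaf (.up 2 2031 1))) (.node (.leaf (.up 1 366 0)) (.leaf (.up 2 2026 1))))) (.node (.node (.node (.leaf (.up 1 114 0)) (.leaf (.up 2 676 1))) (.node (.leaf (.up 1 674 1)) (.leaf (.up 2 673 1)))) (.node (.node (.leaf (.root 1736)) (.leaf (.up 1 468 1))) (.node (.leaf (.up 1 466 1)) (.leaf (.up 2 465 1)))))) (.node (.node (.node (.node (.leaf (.root 1136)) (.leaf (.up 2 637 1))) (.node (.leaf (.root 765)) (.leaf (.up 2 632 1)))) (.node (.node (.leaf (.up 1 270 1)) (.leaf (.up 1 269 1))) (.node (.leaf (.up 1 267 1)) (.leaf (.up 1 264 1))))) (.node (.node (.node (.leaf (.root 2102)) (.leaf (.up 2 1094 1))) (.node (.leaf (.up 1 610 0)) (.leaf (.up 2 1091 1)))) (.node (.node (.leaf (.root 6276)) (.leaf (.up 2 1846 1))) (.node (.leaf (.up 1 383 0)) (.leaf (.up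 2 1843 1)))))))) (.node (.node (.node (.node (.node (.node (.leaf (.up 1 11 1)) (.leaf (.up 1 8 1))) (.node (.leaf (.up 1 14 1)) (.leaf (.up 1 13 1)))) (.node (.node (.leaf (.root 2726)) (.leaf (.up 2 888 1))) (.node (.leaf (.up 1 270 0)) (.leaf (.up 1 893 1))))) (.node (.node (.node (.leaf (.up 2 1584 1)) (.leaf (.up 2 1587 1))) (.node (.leaf (.up 2 1589 1)) (.leaf (.up 2 1590 1)))) (.node (.node (.leaf (.up 2 1344 1)) (.leaf (.up 2 1347 1))) (.node (.leaf (.up 2 1349 1)) (.leaf (.up 1 505 0)))))) (.node (.node (.node (.node (.leaf (.up 2 1769 1)) (.leaf (.up 2 1770 1))) (.node (.leaf (.up 2 1772 1)) (.leaf (.up 2 1775 1)))) (.node (.node (.leaf (.root 1828)) (.leaf (.up 2 1434 1))) (.node (.leaf (.up 2 1436 1)) (.leaf (.up 1 488 0))))) (.node (.node (.node (.leaf (.up 2 210 1)) (.leaf (.up 1 209 1))) (.node (.leaf (.up 2 215 1)) (.leaf (.up 1 212 1)))) (.node (.node (.leaf (.root 946)) (.leaf (.up 2 929 1))) (.node (.leaf (.up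 1 287 0)) (.leaf (.up 1 932 1))))))) (.node (.node (.node (.node (.node (.leaf (.root 817)) (.leaf (.root 1156))) (.node (.leaf (.root 1924)) (.leaf (.up 1 709 0)))) (.node (.node (.leaf (.root 3280)) (.leaf (.root 5510))) (.node (.leaf (.root 5306)) (.leaf (.up 1 472 0))))) (.node (.node (.node (.leaf (.root 1282)) (.leaf (.up 1 196 0))) (.node (.leaf (.up 1 562 0)) (.leaf (.up 1 680 1)))) (.node (.node (.leaf (.root 2976)) (.leaf (.up 1 477 1))) (.node (.leaf (.up 1 303 0)) (.leaf (.up 1 472 1)))))) (.node (.node (.node (.node (.leaf (.root 4370)) (.leaf (.up 1 213 0))) (.node (.leaf (.up 1 547 0)) (.leaf (.up 1 625 1)))) (.node (.node (.leaf (.up 1 263 1)) (.leaf (.up 1 260 1))) (.node (.leaf (.up 1 258 1)) (.leaf (.up 1 257 1))))) (.node (.node (.node (.leaf (.up 1 34 0)) (.leaf (.up 1 1103 1))) (.node (.leaf (.root 5222)) (.leaf (.up 1 724 0)))) (.node (.node (.leaf (.root 1838)) (.leaf (.root 930))) (.node (.leaf (.root 1902))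 (.leaf (.up 1 457 0))))))))

noncomputable def vt5_1_1101 : Tr VStep :=
  .node (.node (.node (.node (.node (.node (.node (.leaf (.root 825)) (.leaf (.up 1 16 1))) (.node (.leaf (.up 1 22 1)) (.leaf (.up 1 21 1)))) (.node (.node (.leaf (.root 4862)) (.leaf (.up 1 864 1))) (.node (.leaf (.root 5434)) (.leaf (.up 1 353 0))))) (.node (.node (.node (.leaf (.root 673)) (.leaf (.up 1 125 0))) (.node (.leaf (.root 1396)) (.leaf (.up 1 1095 0)))) (.node (.node (.leaf (.root 5362)) (.leaf (.up 1 864 0))) (.node (.leaf (.up 1 406 0)) (.leaf (.up 1 1374 1)))))) (.node (.node (.node (.node (.leaf (.root 3628)) (.leaf (.up 1 108 0))) (.node (.leaf (.root 5464)) (.leaf (.up 1 1110 0)))) (.node (.node (.leaf (.root 1694)) (.leaf (.up 1 881 0))) (.node (.leaf (.up 1 391 0)) (.leaf (.up 1 1415 1))))) (.node (.node (.node (.leaf (.up 1 155 0)) (.leaf (.up 1 201 1))) (.node (.leaf (.up 1 207 1)) (.leaf (.up 1 204 1)))) (.node (.node (.leaf (.root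 1526)) (.leaf (.up 1 953 1))) (.node (.leaf (.up 1 959 1)) (.leaf (.up 1 368 0))))))) (.node (.node (.node (.node (.node (.leaf (.root 671)) (.leaf (.up 1 92 0))) (.node (.leaf (.root 687)) (.leaf (.up 2 1163 1)))) (.node (.node (.leaf (.root 4706)) (.leaf (.up 2 2046 1))) (.node (.leaf (.up 1 439 0)) (.leaf (.up 2 2043 1))))) (.node (.node (.node (.leaf (.root 2260)) (.leaf (.up 2 693 1))) (.node (.leaf (.up 2 691 1)) (.leaf (.up 2 688 1)))) (.node (.node (.leaf (.root 5234)) (.leaf (.up 2 453 1))) (.node (.leaf (.up 1 451 1)) (.leaf (.up 1 320 0)))))) (.node (.node (.node (.node (.leaf (.root 5948)) (.leaf (.up 2 620 1))) (.node (.leaf (.up 2 618 1)) (.leaf (.up 2 617 1)))) (.node (.node (.leaf (.up 1 287 1)) (.leaf (.up 1 284 1))) (.node (.leaf (.up 1 282 1)) (.leaf (.up 1 281 1))))) (.node (.node (.node (.leaf (.root 2617)) (.leaf (.up 1 77 0))) (.node (.leaf (.up 2 1105 1)) (.leaf (.up 2 1106 1)))) (.node (.node (.leaf (.root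 675)) (.leaf (.up 2 1831 1))) (.node (.leaf (.up 1 422 0)) (.leaf (.up 2 1826 1)))))))) (.node (.node (.node (.node (.node (.node (.leaf (.up 1 26 1)) (.leaf (.up 1 25 1))) (.node (.leaf (.up 1 31 1)) (.leaf (.up 1 28 1)))) (.node (.node (.leaf (.root 2406)) (.leaf (.up 1 801 0))) (.node (.leaf (.up 2 879 1)) (.leaf (.up 1 876 1))))) (.node (.node (.node (.leaf (.root 2738)) (.leaf (.up 2 1570 1))) (.node (.leaf (.up 2 1572 1)) (.leaf (.up 1 573 0)))) (.node (.node (.leaf (.root 1432)) (.leaf (.up 2 1362 1))) (.node (.leaf (.up 2 1364 1)) (.leaf (.up 1 288 0)))))) (.node (.node (.node (.node (.leaf (.root 2176)) (.leaf (.up 2 1787 1))) (.node (.leaf (.up 2 1789 1)) (.leaf (.up 1 556 0)))) (.node (.node (.leaf (.root 5190)) (.leaf (.up 2 1419 1))) (.node (.leaf (.up 2 1421 1)) (.leaf (.up 1 305 0))))) (.node (.node (.node (.leaf (.up 2 195 1)) (.leaf (.up 1 45 0))) (.node (.leaf (.up 1 198 1)) (.leaf (.up 1 197 1)))) (.node (.node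 (.leaf (.up 2 947 1)) (.leaf (.up 1 816 0))) (.node (.leaf (.up 2 950 1)) (.leaf (.up 2 949 1))))))) (.node (.node (.node (.node (.node (.leaf (.root 4040)) (.leaf (.root 4092))) (.node (.leaf (.root 2818)) (.leaf (.up 1 540 0)))) (.node (.node (.leaf (.root 1802)) (.leaf (.root 1464))) (.node (.leaf (.root 1326)) (.leaf (.up 1 257 0))))) (.node (.node (.node (.leaf (.root 4412)) (.leaf (.up 1 29 0))) (.node (.leaf (.up 1 698 1)) (.leaf (.up 1 697 1)))) (.node (.node (.leaf (.root 2104)) (.leaf (.up 1 460 1))) (.node (.leaf (.up 1 458 1)) (.leaf (.up 1 457 1)))))) (.node (.node (.node (.node (.leaf (.root 1566)) (.leaf (.up 1 12 0))) (.node (.leaf (.up 1 611 1)) (.leaf (.up 1 608 1)))) (.node (.node (.leaf (.up 1 278 1)) (.leaf (.up 1 277 1))) (.node (.leaf (.up 1 275 1)) (.leaf (.up 1 272 1))))) (.node (.node (.node (.leaf (.root 2064)) (.leaf (.up 1 1118 1))) (.node (.leaf (.root 1212)) (.leaf (.up 1 525 0)))) (.node (.node (.leaf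 (.root 4832)) (.leaf (.up 1 1322 0))) (.node (.leaf (.root 3104)) (.leaf (.up 1 272 0))))))))

noncomputable def vt5_1_110 : Tr VStep := .node vt5_1_1100 vt5_1_1101

noncomputable def vt5_1_1110 : Tr VStep :=
  .node (.node (.node (.node (.node (.node (.node (.leaf (.root 4578)) (.leaf (.up 1 161 0))) (.node (.leaf (.up 1 518 1)) (.leaf (.up 1 517 1)))) (.node (.node (.leaf (.root 1686)) (.leaf (.up 1 368 1))) (.node (.leaf (.up 1 330 0)) (.leaf (.up 1 373 1))))) (.node (.node (.node (.leaf (.up 1 86 0)) (.leaf (.up 1 1083 1))) (.node (.leaf (.root 5548)) (.leaf (.up 1 672 0)))) (.node (.node (.leaf (.root 1478)) (.leaf (.root 1794))) (.node (.leaf (.root 1702)) (.leaf (.up 1 445 0)))))) (.node (.node (.node (.node (.leaf (.root 2166)) (.leaf (.root 1814))) (.node (.leaf (.root 1140)) (.leaf (.up 1 689 0)))) (.node (.node (.leaf (.root 5416)) (.leaf (.root 5746))) (.node (.leaf (.root 5200)) (.leaf (.up 1 428 0))))) (.node (.node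 (.node (.leaf (.root 2234)) (.leaf (.up 1 176 0))) (.node (.leaf (.up 1 582 0)) (.leaf (.up 1 732 1)))) (.node (.node (.leaf (.up 1 426 1)) (.leaf (.up 1 425 1))) (.node (.leaf (.up 1 347 0)) (.leaf (.up 1 428 1))))))) (.node (.node (.node (.node (.node (.leaf (.root 5656)) (.leaf (.up 2 1694 1))) (.node (.leaf (.up 2 1688 1)) (.leaf (.up 2 1691 1)))) (.node (.node (.leaf (.up 2 1517 1)) (.leaf (.up 2 1518 1))) (.node (.leaf (.up 2 1512 1)) (.leaf (.up 1 412 0))))) (.node (.node (.node (.leaf (.up 1 166 1)) (.leaf (.up 1 128 0))) (.node (.leaf (.up 2 163 1)) (.leaf (.up 1 160 1)))) (.node (.node (.leaf (.up 2 982 1)) (.leaf (.up 2 981 1))) (.node (.leaf (.up 2 979 1)) (.leaf (.up 1 976 1)))))) (.node (.node (.node (.node (.leaf (.root 1830)) (.leaf (.up 1 124 1))) (.node (.leaf (.up 1 122 1)) (.leaf (.up 1 121 1)))) (.node (.node (.leaf (.root 4426)) (.leaf (.up 1 780 1))) (.node (.leaf (.up 2 778 1)) (.leaf (.up 1 777 1))))) (.node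 (.node (.node (.leaf (.up 1 102 0)) (.leaf (.up 2 1607 1))) (.node (.leaf (.up 2 1601 1)) (.leaf (.up 2 1602 1)))) (.node (.node (.leaf (.up 2 1332 1)) (.leaf (.up 2 1335 1))) (.node (.leaf (.up 2 1329 1)) (.leaf (.up 1 397 0)))))))) (.node (.node (.node (.node (.node (.node (.leaf (.root 1006)) (.leaf (.up 2 521 1))) (.node (.leaf (.up 1 527 1)) (.leaf (.up 2 524 1)))) (.node (.node (.leaf (.root 6194)) (.leaf (.up 1 377 1))) (.node (.leaf (.up 1 383 1)) (.leaf (.up 2 380 1))))) (.node (.node (.node (.leaf (.root 938)) (.leaf (.up 2 1074 1))) (.node (.leaf (.up 2 1076 1)) (.leaf (.up 2 1079 1)))) (.node (.node (.leaf (.root 3764)) (.leaf (.up 2 1858 1))) (.node (.leaf (.up 1 267 0)) (.leaf (.up 2 1863 1)))))) (.node (.node (.node (.node (.leaf (.root 3140)) (.leaf (.up 2 1259 1))) (.node (.leaf (.up 2 1261 1)) (.leaf (.up 2 1262 1)))) (.node (.node (.leaf (.root 2066)) (.leaf (.up 2 1947 1))) (.node (.leaf (.up 1 282 0)) (.leaf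 (.up 2 1950 1))))) (.node (.node (.node (.leaf (.up 1 6 0)) (.leaf (.up 2 720 1))) (.node (.leaf (.up 2 726 1)) (.leaf (.up 2 725 1)))) (.node (.node (.leaf (.up 1 419 1)) (.leaf (.up 1 416 1))) (.node (.leaf (.up 1 422 1)) (.leaf (.up 2 421 1))))))) (.node (.node (.node (.node (.node (.leaf (.root 1948)) (.leaf (.up 1 193 0))) (.node (.leaf (.root 2078)) (.leaf (.up 2 1682 1)))) (.node (.node (.leaf (.root 3858)) (.leaf (.up 1 988 0))) (.node (.leaf (.up 1 298 0)) (.leaf (.up 2 1506 1))))) (.node (.node (.node (.leaf (.up 1 54 0)) (.leaf (.up 1 172 1))) (.node (.leaf (.up 1 170 1)) (.leaf (.up 1 169 1)))) (.node (.node (.leaf (.root 4288)) (.leaf (.up 1 988 1))) (.node (.leaf (.root 4048)) (.leaf (.up 1 477 0)))))) (.node (.node (.node (.node (.leaf (.up 1 39 0)) (.leaf (.up 1 117 1))) (.node (.leaf (.up 1 115 1)) (.leaf (.up 1 112 1)))) (.node (.node (.leaf (.root 904)) (.leaf (.up 1 773 1))) (.node (.leaf (.up 1 771 1)) (.leaf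 (.up 1 460 0))))) (.node (.node (.node (.leaf (.root 3026)) (.leaf (.up 1 208 0))) (.node (.leaf (.up 1 550 0)) (.leaf (.up 2 1611 1)))) (.node (.node (.leaf (.root 1364)) (.leaf (.up 1 973 0))) (.node (.leaf (.up 1 315 0)) (.leaf (.up 1 1339 1))))))))

noncomputable def vt5_1_1111 : Tr VStep :=
  .node (.node (.node (.node (.node (.node (.node (.leaf (.root 682)) (.leaf (.up 1 120 0))) (.node (.leaf (.root 693)) (.leaf (.up 1 532 1)))) (.node (.node (.leaf (.root 2876)) (.leaf (.up 1 353 1))) (.node (.leaf (.up 1 359 1)) (.leaf (.up 1 356 1))))) (.node (.node (.node (.leaf (.root 2258)) (.leaf (.up 1 1066 1))) (.node (.leaf (.root 1378)) (.leaf (.up 1 633 0)))) (.node (.node (.leaf (.root 5168)) (.leaf (.up 1 1374 0))) (.node (.leaf (.root 3366)) (.leaf (.up 1 356 0)))))) (.node (.node (.node (.node (.leaf (.root 5300)) (.leaf (.root 4294))) (.node (.leaf (.root 4166)) (.leaf (.up 1 616 0)))) (.node (.node (.leaf (.root 879)) (.leaf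 (.root 1932))) (.node (.leaf (.root 1412)) (.leaf (.up 1 373 0))))) (.node (.node (.node (.leaf (.root 5488)) (.leaf (.up 1 105 0))) (.node (.leaf (.up 1 671 0)) (.leaf (.up 1 717 1)))) (.node (.node (.leaf (.up 1 443 1)) (.leaf (.up 1 440 1))) (.node (.leaf (.up 1 386 0)) (.leaf (.up 1 445 1))))))) (.node (.node (.node (.node (.node (.leaf (.root 1774)) (.leaf (.up 2 1679 1))) (.node (.leaf (.up 2 1673 1)) (.leaf (.up 1 600 0)))) (.node (.node (.leaf (.root 2872)) (.leaf (.up 2 1535 1))) (.node (.leaf (.up 2 1529 1)) (.leaf (.up 1 325 0))))) (.node (.node (.node (.leaf (.up 2 183 1)) (.leaf (.up 1 89 0))) (.node (.leaf (.up 1 178 1)) (.leaf (.up 1 177 1)))) (.node (.node (.leaf (.up 2 967 1)) (.leaf (.up 1 836 0))) (.node (.leaf (.up 1 434 0)) (.leaf (.up 2 961 1)))))) (.node (.node (.node (.node (.leaf (.up 2 110 1)) (.leaf (.up 1 72 0))) (.node (.leaf (.up 1 107 1)) (.leaf (.up 1 104 1)))) (.node (.node (.leaf (.up 2 798 1))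 (.leaf (.up 1 797 1))) (.node (.leaf (.up 1 419 0)) (.leaf (.up 1 792 1))))) (.node (.node (.node (.leaf (.up 2 1621 1)) (.leaf (.up 2 1622 1))) (.node (.leaf (.up 2 1616 1)) (.leaf (.up 1 585 0)))) (.node (.node (.leaf (.up 2 1317 1)) (.leaf (.up 2 1318 1))) (.node (.leaf (.up 2 1312 1)) (.leaf (.up 1 340 0)))))))) (.node (.node (.node (.node (.node (.node (.leaf (.root 3778)) (.leaf (.up 2 536 1))) (.node (.leaf (.up 1 542 1)) (.leaf (.up 2 541 1)))) (.node (.node (.leaf (.root 1318)) (.leaf (.up 1 360 1))) (.node (.leaf (.up 1 366 1)) (.leaf (.up 1 293 0))))) (.node (.node (.node (.leaf (.root 5584)) (.leaf (.up 1 57 0))) (.node (.leaf (.root 4304)) (.leaf (.up 2 1062 1)))) (.node (.node (.leaf (.root 1280)) (.leaf (.up 2 1875 1))) (.node (.leaf (.up 1 466 0)) (.leaf (.up 2 1878 1)))))) (.node (.node (.node (.node (.leaf (.root 2020)) (.leaf (.up 1 40 0))) (.node (.leaf (.root 1572)) (.leaf (.up 2 1279 1)))) (.node (.node (.leaf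 (.root 4978)) (.leaf (.up 2 1930 1))) (.node (.leaf (.up 1 451 0)) (.leaf (.up 2 1935 1))))) (.node (.node (.node (.leaf (.root 2204)) (.leaf (.up 2 705 1))) (.node (.leaf (.up 2 711 1)) (.leaf (.up 2 708 1)))) (.node (.node (.leaf (.up 1 434 1)) (.leaf (.up 2 433 1))) (.node (.leaf (.up 1 439 1)) (.leaf (.up 1 308 0))))))) (.node (.node (.node (.node (.node (.leaf (.root 2750)) (.leaf (.up 1 24 0))) (.node (.leaf (.root 4108)) (.leaf (.up 1 1058 0)))) (.node (.node (.leaf (.root 2172)) (.leaf (.up 1 773 0))) (.node (.leaf (.up 1 499 0)) (.leaf (.up 1 1523 1))))) (.node (.node (.node (.leaf (.up 1 190 1)) (.leaf (.up 1 189 1))) (.node (.leaf (.up 1 187 1)) (.leaf (.up 1 184 1)))) (.node (.node (.leaf (.root 1332)) (.leaf (.up 1 973 1))) (.node (.leaf (.root 1692)) (.leaf (.up 1 260 0)))))) (.node (.node (.node (.node (.leaf (.up 1 103 1)) (.leaf (.up 1 100 1))) (.node (.leaf (.up 1 98 1)) (.leaf (.up 1 97 1)))) (.node (.node (.leaf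 (.root 3412)) (.leaf (.up 1 788 1))) (.node (.leaf (.up 1 786 1)) (.leaf (.up 1 277 0))))) (.node (.node (.node (.leaf (.root 2056)) (.leaf (.up 1 9 0))) (.node (.leaf (.root 2122)) (.leaf (.up 1 1075 0)))) (.node (.node (.leaf (.root 6020)) (.leaf (.up 1 788 0))) (.node (.leaf (.up 1 482 0)) (.leaf (.up 1 1322 1))))))))

noncomputable def vt5_1_111 : Tr VStep := .node vt5_1_1110 vt5_1_1111

noncomputable def vt5_1_11 : Tr VStep := .node vt5_1_110 vt5_1_111

noncomputable def vt5_1_1 : Tr VStep := .node vt5_1_10 vt5_1_11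

noncomputable def vt5_1_ : Tr VStep := .node vt5_1_0 vt5_1_1

noncomputable def vt5_2_0000 : Tr VStep :=
  .node (.node (.node (.node (.node (.node (.node (.leaf (.root 823)) (.leaf (.up 3 712 3))) (.node (.leaf (.up 4 1032 1)) (.leaf (.up 1 8 0)))) (.node (.node (.leaf (.up 4 1449 2)) (.leaf (.up 5 1948 3))) (.node (.leaf (.up 5 797 2)) (.leaf (.up 2 813 3))))) (.node (.node (.node (.leaf (.up 5 1651 2)) (.leaf (.up 3 1792 1))) (.node (.leaf (.up 6 1800 1)) (.leaf (.up 6 869 3)))) (.node (.node (.leaf (.up 2 1756 3)) (.leaf (.up 7 640 3))) (.node (.leaf (.up 2 1416 1)) (.leaf (.up 4 1585 3)))))) (.node (.node (.node (.node (.leaf (.up 4 747 1)) (.leaf (.up 3 1771 0))) (.node (.leaf (.up 5 235 1)) (.leaf (.up 2 1259 0)))) (.node (.node (.leaf (.up 5 107 1)) (.leaf (.up 2 1515 0))) (.node (.leaf (.up 5 1714 3)) (.leaf (.up 2 99 1))))) (.node (.node (.node (.leaf (.up 3 491 1)) (.leaf (.up 4 1671 2))) (.node (.leaf (.up 3 1003 1))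 (.leaf (.up 4 51 2)))) (.node (.node (.leaf (.up 4 875 1)) (.leaf (.up 4 1927 2))) (.node (.leaf (.up 4 1891 0)) (.leaf (.up 4 867 1))))))) (.node (.node (.node (.node (.node (.leaf (.up 3 18 3)) (.leaf (.up 6 1102 3))) (.node (.leaf (.up 5 1576 1)) (.leaf (.up 5 255 3)))) (.node (.node (.leaf (.up 3 1704 1)) (.leaf (.up 2 282 3))) (.node (.leaf (.up 5 503 3)) (.leaf (.up 4 1740 2))))) (.node (.node (.node (.leaf (.root 1246)) (.leaf (.up 3 1312 1))) (.node (.leaf (.up 5 1320 1)) (.leaf (.up 3 1302 2)))) (.node (.node (.leaf (.up 2 90 3)) (.leaf (.up 4 1952 1))) (.node (.leaf (.up 2 1259 3)) (.leaf (.up 3 1458 0)))))) (.node (.node (.node (.node (.leaf (.up 5 203 1)) (.leaf (.up 2 707 1))) (.node (.leaf (.up 5 715 1)) (.leaf (.up 3 195 1)))) (.node (.node (.leaf (.up 5 1157 3)) (.leaf (.up 5 217 3))) (.node (.leaf (.up 5 75 1)) (.leaf (.up 4 977 0))))) (.node (.node (.node (.leaf (.up 7 1229 3)) (.leaf (.up 6 672 2))) (.node (.leaf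 (.up 5 459 1)) (.leaf (.up 6 1044 2)))) (.node (.node (.leaf (.up 3 409 3)) (.leaf (.up 3 928 2))) (.node (.leaf (.up 4 857 0)) (.leaf (.up 4 372 3)))))))) (.node (.node (.node (.node (.node (.node (.leaf (.up 5 1089 3)) (.leaf (.up 1 10 0))) (.node (.leaf (.up 6 1534 2)) (.leaf (.up 2 1040 1)))) (.node (.node (.leaf (.up 3 1688 1)) (.leaf (.up 5 1168 1))) (.node (.leaf (.up 5 1444 3)) (.leaf (.up 3 1680 1))))) (.node (.node (.node (.leaf (.up 4 349 3)) (.leaf (.up 4 650 0))) (.node (.leaf (.up 2 1828 2)) (.leaf (.up 2 1746 2)))) (.node (.node (.leaf (.up 4 1033 3)) (.leaf (.up 5 85 3))) (.node (.leaf (.up 7 184 3)) (.leaf (.up 5 1252 3)))))) (.node (.node (.node (.node (.leaf (.up 4 584 2)) (.leaf (.up 5 958 2))) (.node (.leaf (.up 6 1276 2)) (.leaf (.up 4 1391 3)))) (.node (.node (.leaf (.up 4 214 3)) (.leaf (.up 6 115 1))) (.node (.leaf (.up 4 1127 3)) (.leaf (.up 4 627 1))))) (.node (.node (.node (.leaf (.up 5 1019 1)) (.leaf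 (.up 3 356 2))) (.node (.leaf (.up 5 507 1)) (.leaf (.up 4 1011 1)))) (.node (.node (.leaf (.up 3 1482 3)) (.leaf (.up 4 100 2))) (.node (.leaf (.up 4 1830 2)) (.leaf (.up 5 1744 2))))))) (.node (.node (.node (.node (.node (.leaf (.up 6 1901 2)) (.leaf (.root 2480))) (.node (.leaf (.up 5 473 2)) (.leaf (.up 1 47 2)))) (.node (.node (.leaf (.up 5 1939 3)) (.leaf (.up 3 1840 0))) (.node (.leaf (.up 5 217 2)) (.leaf (.up 2 303 2))))) (.node (.node (.node (.leaf (.up 5 1336 1)) (.leaf (.up 3 1840 1))) (.node (.leaf (.up 7 1848 1)) (.leaf (.up 4 1328 1)))) (.node (.node (.leaf (.up 4 1207 2)) (.leaf (.up 4 1345 2))) (.node (.leaf (.up 6 1598 3)) (.leaf (.up 2 610 3)))))) (.node (.node (.node (.node (.leaf (.root 2462)) (.leaf (.up 5 1880 3))) (.node (.leaf (.up 1 219 0)) (.leaf (.up 4 1001 3)))) (.node (.node (.leaf (.up 4 1903 2)) (.leaf (.up 4 1689 2))) (.node (.leaf (.up 4 603 1)) (.leaf (.up 4 1725 3))))) (.node (.node (.node (.leaf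 (.up 6 1205 2)) (.leaf (.up 5 1347 2))) (.node (.leaf (.up 2 513 2)) (.leaf (.up 6 1015 2)))) (.node (.node (.leaf (.up 3 844 3)) (.leaf (.up 4 1808 3))) (.node (.leaf (.up 2 769 2)) (.leaf (.up 4 759 2))))))))

noncomputable def vt5_2_0001 : Tr VStep :=
  .node (.node (.node (.node (.node (.node (.node (.leaf (.root 1186)) (.leaf (.up 3 1552 2))) (.node (.leaf (.up 4 205 3)) (.leaf (.up 1 0 1)))) (.node (.node (.leaf (.up 4 296 3)) (.leaf (.up 4 1808 2))) (.node (.leaf (.up 3 1792 0)) (.leaf (.up 5 453 3))))) (.node (.node (.node (.leaf (.up 4 776 1)) (.leaf (.up 5 256 1))) (.node (.leaf (.up 5 1489 3)) (.leaf (.up 5 638 2)))) (.node (.node (.leaf (.up 5 1920 0)) (.leaf (.up 1 104 3))) (.node (.leaf (.up 6 133 3)) (.leaf (.up 3 384 1)))))) (.node (.node (.node (.node (.leaf (.up 2 1259 1)) (.leaf (.up 3 1810 2))) (.node (.leaf (.up 3 1771 1)) (.leaf (.up 4 747 0)))) (.node (.node (.leaf (.up 5 2020 2)) (.leaf (.up 3 1003 0))) (.node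 (.leaf (.up 5 336 2)) (.leaf (.up 1 6 3))))) (.node (.node (.node (.leaf (.up 2 99 0)) (.leaf (.up 5 1480 2))) (.node (.leaf (.up 2 1515 1)) (.leaf (.up 3 78 3)))) (.node (.node (.leaf (.up 4 1342 2)) (.leaf (.up 4 1891 1))) (.node (.leaf (.up 4 1899 1)) (.leaf (.up 4 875 0))))))) (.node (.node (.node (.node (.node (.leaf (.up 3 762 3)) (.leaf (.up 2 1702 3))) (.node (.leaf (.up 2 1611 3)) (.leaf (.up 4 1155 2)))) (.node (.node (.leaf (.up 3 168 1)) (.leaf (.up 4 818 0))) (.node (.leaf (.up 5 1141 2)) (.leaf (.up 1 160 1))))) (.node (.node (.node (.leaf (.up 2 2022 3)) (.leaf (.up 5 954 3))) (.node (.leaf (.up 4 1967 2)) (.leaf (.up 2 1803 3)))) (.node (.node (.leaf (.up 5 954 0)) (.leaf (.up 3 1774 3))) (.node (.leaf (.up 6 424 1)) (.leaf (.up 3 928 1)))))) (.node (.node (.node (.node (.leaf (.root 1260)) (.leaf (.up 4 1233 0))) (.node (.leaf (.up 3 1227 1)) (.leaf (.up 2 1409 2)))) (.node (.node (.leaf (.up 4 1099 1)) (.leaf (.up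 8 561 3))) (.node (.leaf (.up 2 1611 1)) (.leaf (.up 5 1091 1))))) (.node (.node (.node (.leaf (.up 5 1483 1)) (.leaf (.up 4 633 3))) (.node (.leaf (.up 3 660 3)) (.leaf (.up 3 1475 1)))) (.node (.node (.leaf (.up 5 281 2)) (.leaf (.up 4 1837 3))) (.node (.leaf (.up 5 1965 2)) (.leaf (.up 3 1873 0)))))))) (.node (.node (.node (.node (.node (.node (.leaf (.up 3 1705 3)) (.leaf (.up 5 499 2))) (.node (.leaf (.up 4 24 1)) (.leaf (.up 6 1604 3)))) (.node (.node (.leaf (.up 5 152 1)) (.leaf (.up 3 656 1))) (.node (.leaf (.up 5 664 1)) (.leaf (.up 5 144 1))))) (.node (.node (.node (.leaf (.up 4 949 3)) (.leaf (.up 6 2025 3))) (.node (.leaf (.up 4 1796 3)) (.leaf (.up 2 1437 2)))) (.node (.node (.leaf (.up 4 1761 3)) (.leaf (.up 3 553 2))) (.node (.leaf (.up 5 408 1)) (.leaf (.up 8 1548 3)))))) (.node (.node (.node (.node (.leaf (.up 4 1898 3)) (.leaf (.up 3 822 3))) (.node (.leaf (.up 4 987 3)) (.leaf (.up 2 1779 1)))) (.node (.node (.leaf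 (.up 1 7 2)) (.leaf (.up 3 497 2))) (.node (.leaf (.up 4 1715 2)) (.leaf (.up 4 1861 2))))) (.node (.node (.node (.leaf (.up 4 989 2)) (.leaf (.up 2 1578 3))) (.node (.leaf (.up 4 1735 3)) (.leaf (.up 4 1523 1)))) (.node (.node (.leaf (.up 4 1826 3)) (.leaf (.up 4 811 2))) (.node (.leaf (.up 4 1129 2)) (.leaf (.up 4 1907 1))))))) (.node (.node (.node (.node (.node (.leaf (.up 1 47 3)) (.leaf (.up 6 1139 3))) (.node (.leaf (.up 2 662 2)) (.leaf (.up 5 194 3)))) (.node (.node (.leaf (.up 4 1403 3)) (.leaf (.up 4 295 3))) (.node (.leaf (.up 5 918 2)) (.leaf (.up 6 1430 3))))) (.node (.node (.node (.leaf (.up 6 1784 2)) (.leaf (.up 5 367 3))) (.node (.leaf (.up 5 312 1)) (.leaf (.up 6 442 2)))) (.node (.node (.leaf (.up 1 103 3)) (.leaf (.up 7 1083 3))) (.node (.leaf (.up 2 1238 3)) (.leaf (.up 4 186 2)))))) (.node (.node (.node (.node (.leaf (.up 3 1312 2)) (.leaf (.up 2 1238 2))) (.node (.leaf (.up 4 916 2)) (.leaf (.up 2 610 2))))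 (.node (.node (.leaf (.up 5 1627 1)) (.leaf (.up 5 1494 2))) (.node (.leaf (.up 1 9 3)) (.leaf (.up 4 866 2))))) (.node (.node (.node (.leaf (.up 4 2042 2)) (.leaf (.up 6 1491 1))) (.node (.leaf (.up 3 1499 1)) (.leaf (.up 5 2003 1)))) (.node (.node (.leaf (.up 4 1786 2)) (.leaf (.up 2 1804 2))) (.node (.leaf (.up 3 78 2)) (.leaf (.up 2 440 2))))))))

noncomputable def vt5_2_000 : Tr VStep := .node vt5_2_0000 vt5_2_0001

noncomputable def vt5_2_0010 : Tr VStep :=
  .node (.node (.node (.node (.node (.node (.node (.leaf (.root 2384)) (.leaf (.up 4 807 1))) (.node (.leaf (.up 1 4 0)) (.leaf (.up 2 1975 2)))) (.node (.node (.leaf (.root 2484)) (.leaf (.up 1 3 2))) (.node (.leaf (.up 2 731 3)) (.leaf (.up 3 935 1))))) (.node (.node (.node (.leaf (.root 2376)) (.leaf (.up 5 638 3))) (.node (.leaf (.up 1 47 1)) (.leaf (.up 6 1743 3)))) (.node (.node (.leaf (.up 3 815 2)) (.leaf (.up 6 729 2))) (.node (.leaf (.up 4 388 0)) (.leaf (.up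 4 1133 2)))))) (.node (.node (.node (.node (.leaf (.up 3 1484 1)) (.leaf (.up 1 1 2))) (.node (.leaf (.up 4 1255 0)) (.leaf (.up 5 1717 2)))) (.node (.node (.leaf (.up 4 1961 3)) (.leaf (.up 3 257 2))) (.node (.leaf (.up 6 792 3)) (.leaf (.up 2 1973 2))))) (.node (.node (.node (.leaf (.up 2 813 2)) (.leaf (.up 2 731 2))) (.node (.leaf (.up 4 1639 0)) (.leaf (.up 1 1135 0)))) (.node (.node (.leaf (.up 5 693 3)) (.leaf (.up 4 987 2))) (.node (.leaf (.up 3 1540 3)) (.leaf (.up 2 1092 1))))))) (.node (.node (.node (.node (.node (.leaf (.up 6 783 1)) (.leaf (.up 5 1316 2))) (.node (.leaf (.up 3 265 3)) (.leaf (.up 6 1365 3)))) (.node (.node (.leaf (.up 3 399 1)) (.leaf (.up 4 1200 3))) (.node (.leaf (.up 2 1854 0)) (.leaf (.up 1 1 3))))) (.node (.node (.node (.leaf (.up 2 1544 2)) (.leaf (.up 6 519 1))) (.node (.leaf (.up 5 1045 3)) (.leaf (.up 1 7 1)))) (.node (.node (.leaf (.up 4 655 1)) (.leaf (.up 4 135 1))) (.node (.leaf (.up 5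 143 1)) (.leaf (.up 4 647 1)))))) (.node (.node (.node (.node (.leaf (.up 3 1147 3)) (.leaf (.up 6 1508 1))) (.node (.leaf (.up 5 868 2)) (.leaf (.up 5 2020 1)))) (.node (.node (.leaf (.up 2 303 3)) (.leaf (.up 4 1318 2))) (.node (.leaf (.up 4 989 0)) (.leaf (.up 3 450 3))))) (.node (.node (.node (.leaf (.up 5 359 3)) (.leaf (.up 4 1788 2))) (.node (.leaf (.up 5 1494 3)) (.leaf (.up 3 72 2)))) (.node (.node (.leaf (.up 5 1644 1)) (.leaf (.up 5 111 3))) (.node (.leaf (.up 4 349 0)) (.leaf (.up 4 853 0)))))))) (.node (.node (.node (.node (.node (.node (.leaf (.up 1 6 0)) (.leaf (.up 5 311 1))) (.node (.leaf (.up 2 418 2)) (.leaf (.up 3 262 3)))) (.node (.node (.leaf (.up 4 1215 3)) (.leaf (.up 4 270 0))) (.node (.leaf (.up 3 262 0)) (.leaf (.up 4 782 0))))) (.node (.node (.node (.leaf (.up 3 1484 2)) (.leaf (.up 4 171 3))) (.node (.leaf (.up 2 888 2)) (.leaf (.up 2 654 0)))) (.node (.node (.leaf (.up 6 1228 2)) (.leaf (.up 4 183 1)))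 (.node (.leaf (.up 3 1298 3)) (.leaf (.up 5 910 2)))))) (.node (.node (.node (.node (.leaf (.up 3 1253 0)) (.leaf (.up 4 2018 2))) (.node (.leaf (.up 1 160 2)) (.leaf (.up 5 197 3)))) (.node (.node (.leaf (.up 4 1404 3)) (.leaf (.up 4 288 3))) (.node (.leaf (.up 3 416 2)) (.leaf (.up 5 1425 3))))) (.node (.node (.node (.leaf (.up 4 1332 3)) (.leaf (.up 4 1133 0))) (.node (.leaf (.up 2 1756 1)) (.leaf (.up 4 1497 3)))) (.node (.node (.leaf (.up 5 1628 1)) (.leaf (.up 5 1108 1))) (.node (.leaf (.up 4 1233 3)) (.leaf (.up 6 141 3))))))) (.node (.node (.node (.node (.node (.leaf (.up 5 287 1)) (.leaf (.up 5 791 1))) (.node (.leaf (.up 6 799 1)) (.leaf (.up 4 279 1)))) (.node (.node (.leaf (.up 6 927 1)) (.leaf (.up 3 407 1))) (.node (.leaf (.up 5 1157 2)) (.leaf (.up 3 724 3))))) (.node (.node (.node (.leaf (.up 3 491 2)) (.leaf (.up 3 29 2))) (.node (.leaf (.up 3 1887 2)) (.leaf (.up 3 1705 2)))) (.node (.node (.leaf (.up 4 1468 0))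 (.leaf (.up 5 285 2))) (.node (.leaf (.up 3 1980 0)) (.leaf (.up 4 1961 2)))))) (.node (.node (.node (.node (.leaf (.up 4 563 2)) (.leaf (.up 4 754 3))) (.node (.leaf (.up 4 1159 2)) (.leaf (.up 6 1393 2)))) (.node (.node (.leaf (.up 3 1916 1)) (.leaf (.up 4 709 2))) (.node (.leaf (.up 2 1415 2)) (.leaf (.up 4 983 0))))) (.node (.node (.node (.leaf (.up 2 233 2)) (.leaf (.up 4 87 0))) (.node (.leaf (.up 4 95 0)) (.leaf (.up 4 1963 2)))) (.node (.node (.leaf (.up 4 1148 1)) (.leaf (.up 5 31 2))) (.node (.leaf (.up 3 1885 2)) (.leaf (.up 3 1707 2))))))))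

noncomputable def vt5_2_0011 : Tr VStep :=
  .node (.node (.node (.node (.node (.node (.node (.leaf (.up 3 1839 1)) (.leaf (.up 6 1319 1))) (.node (.leaf (.up 3 1540 0)) (.leaf (.up 7 1272 2)))) (.node (.node (.leaf (.up 4 1455 1)) (.leaf (.up 1 222 3))) (.node (.leaf (.up 2 1284 0)) (.leaf (.up 1 1135 3))))) (.node (.node (.node (.leaf (.up 6 1226 3)) (.leaf (.up 1 150 2))) (.node (.leaf (.up 6 123 3)) (.leaf (.up 2 1570 2)))) (.node (.node (.leaf (.up 5 414 3)) (.leaf (.up 5 1474 3))) (.node (.leaf (.up 5 1748 2)) (.leaf (.up 4 1826 2)))))) (.node (.node (.node (.node (.leaf (.up 5 972 1)) (.leaf (.up 6 452 1))) (.node (.leaf (.up 6 460 1)) (.leaf (.up 4 1530 2)))) (.node (.node (.leaf (.up 2 999 0)) (.leaf (.up 5 285 3))) (.node (.leaf (.up 2 1292 2)) (.leaf (.up 5 1452 3))))) (.node (.node (.node (.leaf (.up 1 98 2)) (.leaf (.up 5 708 1))) (.node (.leaf (.up 1 103 0)) (.leaf (.up 3 196 1)))) (.node (.node (.leaf (.up 5 359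 0)) (.leaf (.up 2 1025 3))) (.node (.leaf (.up 4 871 0)) (.leaf (.up 5 580 1))))))) (.node (.node (.node (.node (.node (.leaf (.up 5 1872 3)) (.leaf (.up 3 780 3))) (.node (.leaf (.up 3 993 3)) (.leaf (.up 3 1981 3)))) (.node (.node (.leaf (.up 2 516 3)) (.leaf (.up 2 1415 1))) (.node (.leaf (.up 5 1717 3)) (.leaf (.up 3 822 0))))) (.node (.node (.node (.leaf (.up 7 1351 2)) (.leaf (.up 2 1031 1))) (.node (.leaf (.up 3 1789 3)) (.leaf (.up 3 517 2)))) (.node (.node (.leaf (.up 6 1816 3)) (.leaf (.up 4 1671 1))) (.node (.leaf (.up 4 1679 1)) (.leaf (.up 4 1159 1)))))) (.node (.node (.node (.node (.leaf (.up 4 492 1)) (.leaf (.up 5 996 1))) (.node (.leaf (.up 2 1757 0)) (.leaf (.up 4 477 2)))) (.node (.node (.leaf (.up 5 967 3)) (.leaf (.up 3 356 1))) (.node (.leaf (.up 4 299 2)) (.leaf (.up 4 810 3))))) (.node (.node (.node (.leaf (.up 3 911 3)) (.leaf (.up 5 2003 3))) (.node (.leaf (.up 2 1854 3)) (.leaf (.up 4 866 3)))) (.node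 (.node (.leaf (.up 3 1349 2)) (.leaf (.up 4 1203 2))) (.node (.leaf (.up 3 620 1)) (.leaf (.up 4 100 1)))))))) (.node (.node (.node (.node (.node (.node (.leaf (.up 7 1113 2)) (.leaf (.up 3 1887 3))) (.node (.leaf (.up 4 1970 3)) (.leaf (.up 6 1006 3)))) (.node (.node (.leaf (.up 5 1623 3)) (.leaf (.up 4 523 3))) (.node (.leaf (.up 5 1471 1)) (.leaf (.up 2 1722 3))))) (.node (.node (.node (.leaf (.up 4 1567 3)) (.leaf (.up 6 579 3))) (.node (.leaf (.up 4 55 2)) (.leaf (.up 5 1778 3)))) (.node (.node (.leaf (.up 2 1923 2)) (.leaf (.up 5 1653 2))) (.node (.leaf (.up 4 2042 3)) (.leaf (.up 4 1207 1)))))) (.node (.node (.node (.node (.leaf (.up 4 704 3)) (.leaf (.up 5 980 1))) (.node (.leaf (.up 6 1649 3)) (.leaf (.up 4 537 2)))) (.node (.node (.leaf (.up 3 1115 2)) (.leaf (.up 5 1453 2))) (.node (.leaf (.up 4 348 1)) (.leaf (.up 4 1913 3))))) (.node (.node (.node (.leaf (.up 4 101 0)) (.leaf (.up 3 896 3))) (.node (.leaf (.up 4 877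 3)) (.leaf (.up 1 109 0)))) (.node (.node (.leaf (.up 5 92 1)) (.leaf (.up 2 596 1))) (.node (.leaf (.up 7 1593 3)) (.leaf (.up 4 84 1))))))) (.node (.node (.node (.node (.node (.leaf (.up 7 126 2)) (.leaf (.up 5 473 3))) (.node (.leaf (.up 7 1738 2)) (.leaf (.up 7 1852 2)))) (.node (.node (.leaf (.up 3 209 3)) (.leaf (.up 5 136 2))) (.node (.leaf (.up 3 1120 3)) (.leaf (.up 6 1431 1))))) (.node (.node (.node (.leaf (.up 5 153 3)) (.leaf (.up 3 850 2))) (.node (.leaf (.up 2 1040 2)) (.leaf (.up 3 1510 2)))) (.node (.node (.leaf (.up 6 932 2)) (.leaf (.up 3 401 3))) (.node (.leaf (.up 5 1183 1)) (.leaf (.up 2 1254 2)))))) (.node (.node (.node (.node (.leaf (.up 6 1094 3)) (.leaf (.up 3 1239 0))) (.node (.leaf (.up 4 508 1)) (.leaf (.up 4 1012 1)))) (.node (.node (.leaf (.up 6 274 3)) (.leaf (.up 3 884 1))) (.node (.leaf (.up 4 1736 2)) (.leaf (.up 2 1854 2))))) (.node (.node (.node (.leaf (.up 4 346 3)) (.leaf (.up 5 756 1))) (.node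 (.leaf (.up 2 1515 3)) (.leaf (.up 3 244 1)))) (.node (.node (.leaf (.up 3 1887 0)) (.leaf (.up 5 848 2))) (.node (.leaf (.up 5 191 3)) (.leaf (.up 5 628 1))))))))

noncomputable def vt5_2_001 : Tr VStep := .node vt5_2_0010 vt5_2_0011

noncomputable def vt5_2_00 : Tr VStep := .node vt5_2_000 vt5_2_001

noncomputable def vt5_2_0100 : Tr VStep :=
  .node (.node (.node (.node (.node (.node (.node (.leaf (.up 5 1775 3)) (.leaf (.up 4 691 3))) (.node (.leaf (.up 6 861 2)) (.leaf (.up 5 1026 1)))) (.node (.node (.leaf (.up 4 1674 1)) (.leaf (.up 5 1154 1))) (.node (.leaf (.up 6 1802 3)) (.leaf (.up 5 1666 1))))) (.node (.node (.node (.leaf (.up 4 1011 3)) (.leaf (.up 4 1967 3))) (.node (.leaf (.up 3 391 2)) (.leaf (.up 4 798 3)))) (.node (.node (.leaf (.up 6 1703 3)) (.leaf (.up 5 1989 2))) (.node (.leaf (.up 4 135 2)) (.leaf (.up 5 1610 3)))))) (.node (.node (.node (.node (.leaf (.root 725)) (.leaf (.up 4 1275 0))) (.node (.leaf (.up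 3 925 3)) (.leaf (.up 4 1787 0)))) (.node (.node (.leaf (.up 2 1515 2)) (.leaf (.up 5 97 1))) (.node (.leaf (.up 4 105 1)) (.leaf (.up 3 681 2))))) (.node (.node (.node (.leaf (.up 4 1585 2)) (.leaf (.up 5 1991 2))) (.node (.leaf (.up 5 489 1)) (.leaf (.up 3 993 1)))) (.node (.node (.leaf (.up 2 1841 2)) (.leaf (.up 4 1735 2))) (.node (.leaf (.up 3 389 2)) (.leaf (.up 5 1929 3))))))) (.node (.node (.node (.node (.node (.leaf (.root 1842)) (.leaf (.up 2 56 2))) (.node (.leaf (.up 3 1240 3)) (.leaf (.up 1 132 3)))) (.node (.node (.leaf (.up 3 1194 1)) (.leaf (.up 4 1698 1))) (.node (.leaf (.up 5 1658 2)) (.leaf (.up 3 1186 1))))) (.node (.node (.node (.leaf (.up 3 1194 0)) (.leaf (.up 2 738 2))) (.node (.leaf (.up 5 1440 2)) (.leaf (.up 3 1186 0)))) (.node (.node (.leaf (.up 1 33 3)) (.leaf (.up 2 1149 3))) (.node (.leaf (.up 4 1184 2)) (.leaf (.up 2 204 3)))))) (.node (.node (.node (.node (.leaf (.root 2418)) (.leaf (.up 5 1526 3)))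 (.node (.leaf (.up 1 201 0)) (.leaf (.up 5 1934 2)))) (.node (.node (.leaf (.up 5 73 1)) (.leaf (.up 4 58 2))) (.node (.leaf (.up 3 585 1)) (.leaf (.up 5 1043 3))))) (.node (.node (.node (.leaf (.up 3 1206 3)) (.leaf (.up 5 992 2))) (.node (.leaf (.up 1 7 3)) (.leaf (.up 3 1115 3)))) (.node (.node (.leaf (.up 2 790 2)) (.leaf (.up 6 736 2))) (.node (.leaf (.up 3 1442 2)) (.leaf (.up 3 833 0)))))))) (.node (.node (.node (.node (.node (.node (.leaf (.up 2 522 2)) (.leaf (.up 5 102 3))) (.node (.leaf (.up 3 139 3)) (.leaf (.up 3 1239 3)))) (.node (.node (.leaf (.up 5 778 2)) (.leaf (.up 2 282 0))) (.node (.leaf (.up 6 1690 1)) (.leaf (.up 2 387 3))))) (.node (.node (.node (.leaf (.up 5 294 3)) (.leaf (.up 3 1810 1))) (.node (.leaf (.up 5 1818 1)) (.leaf (.up 3 1298 1)))) (.node (.node (.leaf (.up 3 1138 3)) (.leaf (.up 3 46 3))) (.node (.leaf (.up 3 195 3)) (.leaf (.up 4 1682 2)))))) (.node (.node (.node (.node (.leaf (.up 4 776 2))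 (.leaf (.up 4 241 1))) (.node (.leaf (.up 4 1468 2)) (.leaf (.up 3 753 1)))) (.node (.node (.leaf (.up 5 173 3)) (.leaf (.up 4 1022 2))) (.node (.leaf (.up 2 1521 0)) (.leaf (.up 5 64 3))))) (.node (.node (.node (.leaf (.up 6 505 1)) (.leaf (.up 5 1009 1))) (.node (.leaf (.up 5 1894 2)) (.leaf (.up 1 8 3)))) (.node (.node (.leaf (.up 5 889 1)) (.leaf (.up 4 292 2))) (.node (.leaf (.up 4 1638 2)) (.leaf (.up 5 881 1))))))) (.node (.node (.node (.node (.node (.leaf (.up 3 700 3)) (.leaf (.up 6 2011 2))) (.node (.leaf (.up 5 153 2)) (.leaf (.up 5 367 2)))) (.node (.node (.leaf (.up 2 1722 1)) (.leaf (.up 3 1312 0))) (.node (.leaf (.up 3 409 2)) (.leaf (.up 5 111 2))))) (.node (.node (.node (.leaf (.up 3 1704 0)) (.leaf (.up 4 1330 1))) (.node (.leaf (.up 5 1338 1)) (.leaf (.up 4 949 2)))) (.node (.node (.leaf (.up 4 1448 0)) (.leaf (.up 2 1025 2))) (.node (.leaf (.up 4 1605 3)) (.leaf (.up 3 1458 1)))))) (.node (.node (.node (.node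 (.leaf (.up 3 1839 2)) (.leaf (.up 2 1753 2))) (.node (.leaf (.up 4 411 2)) (.leaf (.up 1 109 2)))) (.node (.node (.leaf (.up 7 1579 3)) (.leaf (.up 4 2009 2))) (.node (.leaf (.up 3 666 3)) (.leaf (.up 4 365 2))))) (.node (.node (.node (.leaf (.up 3 1635 3)) (.leaf (.up 4 575 3))) (.node (.leaf (.up 3 833 2)) (.leaf (.up 4 977 1)))) (.node (.node (.leaf (.up 3 331 0)) (.leaf (.up 4 1283 2))) (.node (.leaf (.up 4 1926 3)) (.leaf (.up 5 986 3))))))))

noncomputable def vt5_2_0101 : Tr VStep :=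
  .node (.node (.node (.node (.node (.node (.node (.leaf (.root 1294)) (.leaf (.up 5 1872 2))) (.node (.leaf (.up 1 10 1)) (.leaf (.up 6 1258 3)))) (.node (.node (.leaf (.up 4 138 1)) (.leaf (.up 4 642 1))) (.node (.leaf (.up 4 650 1)) (.leaf (.up 5 130 1))))) (.node (.node (.node (.leaf (.up 3 1680 0)) (.leaf (.up 7 1351 3))) (.node (.leaf (.up 3 712 2)) (.leaf (.up 3 830 2)))) (.node (.node (.leaf (.up 4 1404 2)) (.leaf (.up 7 19 3))) (.node (.leaf (.up 5 968 2)) (.leaf (.up 3 1186 3)))))) (.node (.node (.node (.node (.leaf (.up 5 1476 3)) (.leaf (.up 4 1618 2))) (.node (.leaf (.up 4 272 2)) (.leaf (.up 4 230 2)))) (.node (.node (.leaf (.up 2 1700 2)) (.leaf (.up 5 507 0))) (.node (.leaf (.up 5 1641 1)) (.leaf (.up 4 125 3))))) (.node (.node (.node (.leaf (.up 4 1406 2)) (.leaf (.up 5 2017 1))) (.node (.leaf (.up 4 1129 3)) (.leaf (.up 6 1505 1)))) (.node (.node (.leaf (.up 5 1150 2)) (.leaf (.up 2 1416 2))) (.node (.leaf (.up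 5 714 2)) (.leaf (.up 4 1377 3))))))) (.node (.node (.node (.node (.node (.leaf (.root 2488)) (.leaf (.up 2 1757 3))) (.node (.leaf (.up 2 1584 3)) (.leaf (.up 1 34 0)))) (.node (.node (.leaf (.up 2 897 2)) (.leaf (.up 4 162 1))) (.node (.leaf (.up 3 298 0)) (.leaf (.up 6 1219 2))))) (.node (.node (.node (.leaf (.up 4 810 1)) (.leaf (.up 2 429 2))) (.node (.leaf (.up 3 298 1)) (.leaf (.up 4 1817 2)))) (.node (.node (.leaf (.up 2 713 3)) (.leaf (.up 5 173 2))) (.node (.leaf (.up 3 1656 3)) (.leaf (.up 2 418 0)))))) (.node (.node (.node (.node (.leaf (.up 5 834 3)) (.leaf (.up 2 629 2))) (.node (.leaf (.up 4 2035 3)) (.leaf (.up 2 943 3)))) (.node (.node (.leaf (.up 4 1609 1)) (.leaf (.up 3 885 2))) (.node (.leaf (.up 8 679 3)) (.leaf (.up 3 1601 1))))) (.node (.node (.node (.leaf (.up 4 1609 0)) (.leaf (.up 5 175 2))) (.node (.leaf (.up 6 751 3)) (.leaf (.up 3 1601 0)))) (.node (.node (.leaf (.up 5 89 2)) (.leaf (.up 2 431 2))) (.node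 (.leaf (.up 3 1979 3)) (.leaf (.up 2 999 3)))))))) (.node (.node (.node (.node (.node (.node (.leaf (.up 2 1746 3)) (.leaf (.up 2 654 3))) (.node (.leaf (.up 4 611 3)) (.leaf (.up 3 18 1)))) (.node (.node (.leaf (.up 1 69 2)) (.leaf (.up 5 2010 3))) (.node (.leaf (.up 3 1810 0)) (.leaf (.up 4 875 3))))) (.node (.node (.node (.leaf (.up 4 794 1)) (.leaf (.up 4 617 2))) (.node (.leaf (.up 2 282 1)) (.leaf (.up 5 803 3)))) (.node (.node (.leaf (.up 5 671 2)) (.leaf (.up 4 914 1))) (.node (.leaf (.up 3 1067 2)) (.leaf (.up 4 402 1)))))) (.node (.node (.node (.node (.leaf (.up 1 71 2)) (.leaf (.up 5 1777 1))) (.node (.leaf (.up 2 1779 2)) (.leaf (.up 5 1265 1)))) (.node (.node (.leaf (.up 3 1657 1)) (.leaf (.up 4 177 2))) (.node (.leaf (.up 4 2035 2)) (.leaf (.up 4 1541 2))))) (.node (.node (.node (.leaf (.up 4 525 3)) (.leaf (.up 2 1521 1))) (.node (.leaf (.up 3 1065 2)) (.leaf (.up 6 736 3)))) (.node (.node (.leaf (.up 3 925 2)) (.leaf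 (.up 5 1905 1))) (.node (.leaf (.up 4 1913 1)) (.leaf (.up 4 1247 2))))))) (.node (.node (.node (.node (.node (.leaf (.up 3 552 0)) (.leaf (.up 4 1032 3))) (.node (.leaf (.up 3 1253 3)) (.leaf (.up 6 562 1)))) (.node (.node (.leaf (.up 4 186 1)) (.leaf (.up 4 348 3))) (.node (.leaf (.up 6 726 2)) (.leaf (.up 4 178 1))))) (.node (.node (.node (.leaf (.up 3 168 0)) (.leaf (.up 4 818 1))) (.node (.leaf (.up 5 268 2)) (.leaf (.up 1 160 0)))) (.node (.node (.leaf (.up 5 954 1)) (.leaf (.up 3 416 0))) (.node (.leaf (.up 4 12 2)) (.leaf (.up 3 928 0)))))) (.node (.node (.node (.node (.leaf (.up 2 1753 1)) (.leaf (.up 4 1233 1))) (.node (.leaf (.up 3 724 2)) (.leaf (.up 4 1745 1)))) (.node (.node (.leaf (.up 5 1483 0)) (.leaf (.up 6 159 3))) (.node (.leaf (.up 4 114 3)) (.leaf (.up 3 1475 0))))) (.node (.node (.node (.leaf (.up 2 1722 2)) (.leaf (.up 6 215 3))) (.node (.leaf (.up 2 1611 0)) (.leaf (.up 3 1126 3)))) (.node (.node (.leaf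 (.up 4 1978 2)) (.leaf (.up 3 1411 3))) (.node (.leaf (.up 4 270 2)) (.leaf (.up 3 306 3))))))))

noncomputable def vt5_2_010 : Tr VStep := .node vt5_2_0100 vt5_2_0101

noncomputable def vt5_2_0110 : Tr VStep :=
  .node (.node (.node (.node (.node (.node (.node (.leaf (.root 755)) (.leaf (.up 4 1817 3))) (.node (.leaf (.up 3 532 0)) (.leaf (.up 7 1783 2)))) (.node (.node (.leaf (.up 2 1553 3)) (.leaf (.up 5 589 3))) (.node (.leaf (.up 5 276 0)) (.leaf (.up 4 1788 3))))) (.node (.node (.node (.leaf (.up 3 660 0)) (.leaf (.up 3 517 3))) (.node (.leaf (.up 3 1499 2)) (.leaf (.up 3 1069 2)))) (.node (.node (.leaf (.up 5 623 2)) (.leaf (.up 3 1873 3))) (.node (.leaf (.up 3 1980 3)) (.leaf (.up 3 412 0)))))) (.node (.node (.node (.node (.leaf (.up 4 183 2)) (.leaf (.up 5 1478 1))) (.node (.leaf (.up 6 1486 1)) (.leaf (.up 7 619 3)))) (.node (.node (.leaf (.up 5 1358 1)) (.leaf (.up 5 910 3))) (.node (.leaf (.up 4 867 3)) (.leaf (.up 6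 1855 3))))) (.node (.node (.node (.leaf (.up 5 1946 3)) (.leaf (.up 5 966 3))) (.node (.leaf (.up 4 811 3)) (.leaf (.up 4 1911 3)))) (.node (.node (.leaf (.up 4 877 2)) (.leaf (.up 4 1682 3))) (.node (.leaf (.up 4 1497 2)) (.leaf (.up 8 547 3))))))) (.node (.node (.node (.node (.node (.leaf (.up 3 1475 3)) (.leaf (.up 6 773 1))) (.node (.leaf (.up 6 781 1)) (.leaf (.up 6 720 2)))) (.node (.node (.leaf (.up 4 1170 2)) (.leaf (.up 3 1227 3))) (.node (.leaf (.up 6 397 1)) (.leaf (.up 3 122 3))))) (.node (.node (.node (.leaf (.up 2 1864 2)) (.leaf (.up 4 1155 3))) (.node (.leaf (.up 3 1198 0)) (.leaf (.up 1 10 2)))) (.node (.node (.leaf (.up 4 1454 0)) (.leaf (.up 5 1982 2))) (.node (.leaf (.up 5 314 3)) (.leaf (.up 4 1382 3)))))) (.node (.node (.node (.node (.leaf (.up 4 1518 1)) (.leaf (.up 2 2022 1))) (.node (.leaf (.up 3 717 0)) (.leaf (.up 3 1510 1)))) (.node (.node (.leaf (.up 4 1902 1)) (.leaf (.up 3 1126 2))) (.node (.leaf (.up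 3 804 2)) (.leaf (.up 4 441 3))))) (.node (.node (.node (.leaf (.up 3 1774 1)) (.leaf (.up 1 69 0))) (.node (.leaf (.up 5 1262 1)) (.leaf (.up 3 497 3)))) (.node (.node (.leaf (.up 4 1096 3)) (.leaf (.up 2 20 3))) (.node (.leaf (.up 5 1646 1)) (.leaf (.up 1 8 2)))))))) (.node (.node (.node (.node (.node (.node (.leaf (.up 4 1622 2)) (.leaf (.up 3 1484 3))) (.node (.leaf (.up 4 226 2)) (.leaf (.up 5 276 2)))) (.node (.node (.leaf (.up 3 1220 3)) (.leaf (.up 2 437 1))) (.node (.leaf (.up 1 117 3)) (.leaf (.up 2 20 2))))) (.node (.node (.node (.leaf (.root 2494)) (.leaf (.up 6 208 3))) (.node (.leaf (.up 1 61 1)) (.leaf (.up 6 1121 3)))) (.node (.node (.leaf (.up 4 189 1)) (.leaf (.up 5 1146 2))) (.node (.leaf (.up 4 701 1)) (.leaf (.up 4 181 1)))))) (.node (.node (.node (.node (.leaf (.up 6 83 3)) (.leaf (.up 3 1277 0))) (.node (.leaf (.up 4 480 2)) (.leaf (.up 3 1789 0)))) (.node (.node (.leaf (.up 5 1287 3)) (.leaf (.up 3 1954 2)))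 (.node (.leaf (.up 6 438 3)) (.leaf (.up 3 1514 3))))) (.node (.node (.node (.leaf (.up 3 1758 1)) (.leaf (.up 1 275 3))) (.node (.leaf (.up 5 1246 1)) (.leaf (.up 2 716 2)))) (.node (.node (.leaf (.up 6 27 3)) (.leaf (.up 4 1622 1))) (.node (.leaf (.up 3 1194 3)) (.leaf (.up 4 1110 1))))))) (.node (.node (.node (.node (.node (.leaf (.up 3 1814 3)) (.leaf (.up 5 277 1))) (.node (.leaf (.up 3 935 3)) (.leaf (.up 6 2043 3)))) (.node (.node (.leaf (.up 3 413 1)) (.leaf (.up 2 1828 0))) (.node (.leaf (.up 2 1779 3)) (.leaf (.up 5 1316 0))))) (.node (.node (.node (.leaf (.up 2 522 3)) (.leaf (.up 2 533 1))) (.node (.leaf (.up 4 1567 2)) (.leaf (.up 6 2025 2)))) (.node (.node (.leaf (.up 5 669 1)) (.leaf (.up 5 149 1))) (.node (.leaf (.up 5 157 1)) (.leaf (.up 4 661 1)))))) (.node (.node (.node (.node (.leaf (.up 5 1749 3)) (.leaf (.up 5 1526 1))) (.node (.leaf (.up 4 1479 2)) (.leaf (.up 5 1073 2)))) (.node (.node (.leaf (.up 2 897 3))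 (.leaf (.up 5 901 2))) (.node (.leaf (.up 3 1840 3)) (.leaf (.up 4 1329 2))))) (.node (.node (.node (.leaf (.up 3 969 3)) (.leaf (.up 2 1782 1))) (.node (.leaf (.up 5 1821 2)) (.leaf (.up 1 71 0)))) (.node (.node (.leaf (.up 3 169 2)) (.leaf (.up 4 351 2))) (.node (.leaf (.up 3 335 0)) (.leaf (.up 4 2027 2))))))))

noncomputable def vt5_2_0111 : Tr VStep :=
  .node (.node (.node (.node (.node (.node (.node (.leaf (.up 2 429 3)) (.leaf (.up 2 1521 3))) (.node (.leaf (.up 4 1837 1)) (.leaf (.up 6 320 3)))) (.node (.node (.leaf (.up 3 1273 3)) (.leaf (.up 3 1820 0))) (.node (.leaf (.up 3 72 3)) (.leaf (.up 5 1308 0))))) (.node (.node (.node (.leaf (.up 4 32 2)) (.leaf (.up 6 237 3))) (.node (.leaf (.up 1 0 3)) (.leaf (.up 6 1116 3)))) (.node (.node (.leaf (.up 4 288 2)) (.leaf (.up 4 214 2))) (.node (.leaf (.up 4 1709 1)) (.leaf (.up 4 1189 1)))))) (.node (.node (.node (.node (.leaf (.up 2 462 1)) (.leaf (.up 5 526 2))) (.node (.leaf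 (.up 4 1247 3)) (.leaf (.up 5 1210 2)))) (.node (.node (.leaf (.up 4 760 2)) (.leaf (.up 4 782 2))) (.node (.leaf (.up 5 334 1)) (.leaf (.up 4 1466 2))))) (.node (.node (.node (.leaf (.up 4 290 2)) (.leaf (.up 5 302 3))) (.node (.leaf (.up 5 1942 2)) (.leaf (.up 4 1632 2)))) (.node (.node (.leaf (.up 1 34 2)) (.leaf (.up 5 1146 3))) (.node (.leaf (.up 5 1175 3)) (.leaf (.up 5 1888 2))))))) (.node (.node (.node (.node (.node (.leaf (.up 2 1757 2)) (.leaf (.up 3 887 3))) (.node (.leaf (.up 3 46 0)) (.leaf (.up 7 415 2)))) (.node (.node (.leaf (.up 4 1421 1)) (.leaf (.up 5 1925 1))) (.node (.leaf (.up 4 361 2)) (.leaf (.up 5 294 0))))) (.node (.node (.node (.leaf (.up 2 1031 2)) (.leaf (.up 2 1521 2))) (.node (.leaf (.up 4 691 2)) (.leaf (.up 3 166 0)))) (.node (.node (.leaf (.up 4 1891 3)) (.leaf (.up 3 831 3))) (.node (.leaf (.up 5 978 3)) (.leaf (.up 5 1934 3)))))) (.node (.node (.node (.node (.leaf (.up 4 1768 3)) (.leaf (.up 3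 1577 2))) (.node (.leaf (.up 5 494 1)) (.leaf (.up 4 1541 3)))) (.node (.node (.leaf (.up 6 956 3)) (.leaf (.up 4 870 1))) (.node (.leaf (.up 4 1805 3)) (.leaf (.up 3 413 2))))) (.node (.node (.node (.leaf (.up 4 1012 3)) (.leaf (.up 4 1605 0))) (.node (.leaf (.up 4 1861 3)) (.leaf (.up 2 583 2)))) (.node (.node (.leaf (.up 4 1696 3)) (.leaf (.up 3 1349 0))) (.node (.leaf (.up 5 110 1)) (.leaf (.up 4 614 1)))))))) (.node (.node (.node (.node (.node (.node (.leaf (.up 2 888 3)) (.leaf (.up 2 1828 3))) (.node (.leaf (.up 5 1341 1)) (.leaf (.up 3 917 3)))) (.node (.node (.leaf (.up 3 1814 0)) (.leaf (.up 2 624 3))) (.node (.leaf (.up 3 1981 1)) (.leaf (.up 2 1729 3))))) (.node (.node (.node (.leaf (.up 6 1636 3)) (.leaf (.up 3 568 3))) (.node (.leaf (.up 5 725 3)) (.leaf (.up 4 129 2)))) (.node (.node (.leaf (.up 4 1731 2)) (.leaf (.up 4 1950 0))) (.node (.leaf (.up 4 1213 1)) (.leaf (.up 3 385 2)))))) (.node (.node (.node (.node (.leaf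 (.up 2 245 0)) (.leaf (.up 5 1767 3))) (.node (.leaf (.up 6 687 2)) (.leaf (.up 4 857 2)))) (.node (.node (.leaf (.up 2 1307 2)) (.leaf (.up 5 947 3))) (.node (.leaf (.up 2 943 2)) (.leaf (.up 6 1794 3))))) (.node (.node (.node (.leaf (.root 2366)) (.leaf (.up 4 125 0))) (.node (.leaf (.up 1 117 0)) (.leaf (.up 2 387 2)))) (.node (.node (.leaf (.up 5 1985 2)) (.leaf (.up 7 1711 3))) (.node (.leaf (.up 3 94 1)) (.leaf (.up 5 598 1))))))) (.node (.node (.node (.node (.node (.leaf (.up 5 1309 1)) (.leaf (.up 2 418 3))) (.node (.leaf (.up 3 335 3)) (.leaf (.up 5 1660 2)))) (.node (.node (.leaf (.up 5 170 3)) (.leaf (.up 3 1270 3))) (.node (.leaf (.up 2 1437 1)) (.leaf (.up 1 71 3))))) (.node (.node (.node (.leaf (.up 4 226 3)) (.leaf (.up 3 164 0))) (.node (.leaf (.up 7 1360 2)) (.leaf (.up 4 15 3)))) (.node (.node (.leaf (.up 6 1462 3)) (.leaf (.up 5 1685 1))) (.node (.leaf (.up 4 1693 1)) (.leaf (.up 4 1173 1)))))) (.node (.node (.node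 (.node (.leaf (.up 6 510 1)) (.leaf (.up 4 1014 1))) (.node (.leaf (.up 4 1022 1)) (.leaf (.up 4 1232 3)))) (.node (.node (.leaf (.up 4 316 2)) (.leaf (.up 3 374 1))) (.node (.leaf (.up 4 1928 2)) (.leaf (.up 4 388 3))))) (.node (.node (.node (.leaf (.up 6 742 2)) (.leaf (.up 4 1405 3))) (.node (.leaf (.up 5 1106 2)) (.leaf (.up 5 1444 2)))) (.node (.node (.leaf (.up 5 1141 3)) (.leaf (.up 5 630 1))) (.node (.leaf (.up 3 196 3)) (.leaf (.up 6 118 1))))))))

noncomputable def vt5_2_011 : Tr VStep := .node vt5_2_0110 vt5_2_0111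

noncomputable def vt5_2_01 : Tr VStep := .node vt5_2_010 vt5_2_011

noncomputable def vt5_2_0 : Tr VStep := .node vt5_2_00 vt5_2_01

noncomputable def vt5_2_1000 : Tr VStep :=
  .node (.node (.node (.node (.node (.node (.node (.leaf (.root 787)) (.leaf (.up 1 9 0))) (.node (.leaf (.up 1 1 0)) (.leaf (.up 5 362 3)))) (.node (.node (.leaf (.up 2 1235 3)) (.leaf (.up 5 143 3))) (.node (.leaf (.up 1 98 3)) (.leaf (.up 3 265 0))))) (.node (.node (.node (.leaf (.up 3 1179 3)) (.leaf (.up 6 1896 2))) (.node (.leaf (.up 1 42 2)) (.leaf (.up 6 476 2)))) (.node (.node (.leaf (.up 2 513 1)) (.leaf (.up 1 9 1))) (.node (.leaf (.up 1 1 1)) (.leaf (.up 4 290 3)))))) (.node (.node (.node (.node (.leaf (.up 4 68 3)) (.leaf (.up 4 1200 2))) (.node (.leaf (.up 5 1010 2)) (.leaf (.up 2 516 2)))) (.node (.node (.leaf (.up 6 1094 2)) (.leaf (.up 3 332 3))) (.node (.leaf (.up 2 417 3)) (.leaf (.up 3 772 2))))) (.node (.node (.node (.leaf (.up 4 1368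 3)) (.leaf (.up 1 260 3))) (.node (.leaf (.up 4 296 2)) (.leaf (.up 1 222 2)))) (.node (.node (.leaf (.up 4 12 3)) (.leaf (.up 4 1898 2))) (.node (.leaf (.up 4 40 2)) (.leaf (.up 4 1770 1))))))) (.node (.node (.node (.node (.node (.leaf (.root 805)) (.leaf (.up 5 937 1))) (.node (.leaf (.up 5 929 1)) (.leaf (.up 5 2028 3)))) (.node (.node (.leaf (.up 5 801 1)) (.leaf (.up 5 149 2))) (.node (.leaf (.up 4 1764 3)) (.leaf (.up 6 696 3))))) (.node (.node (.node (.leaf (.up 5 673 1)) (.leaf (.up 3 1601 3))) (.node (.leaf (.up 4 1708 3)) (.leaf (.up 3 752 3)))) (.node (.node (.leaf (.up 1 33 1)) (.leaf (.up 3 553 1))) (.node (.leaf (.up 4 1016 3)) (.leaf (.up 4 1275 2)))))) (.node (.node (.node (.node (.leaf (.up 4 1730 3)) (.leaf (.up 5 1866 1))) (.node (.leaf (.up 4 627 3)) (.leaf (.up 6 1354 1)))) (.node (.node (.leaf (.up 5 918 3)) (.leaf (.up 3 407 2))) (.node (.leaf (.up 5 1749 2)) (.leaf (.up 3 1827 2))))) (.node (.node (.node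 (.leaf (.up 4 990 3)) (.leaf (.up 5 589 2))) (.node (.leaf (.up 4 1903 3)) (.leaf (.up 3 1273 2)))) (.node (.node (.leaf (.up 4 699 2)) (.leaf (.up 5 336 0))) (.node (.leaf (.up 2 344 0)) (.leaf (.up 4 1639 3)))))))) (.node (.node (.node (.node (.node (.node (.leaf (.up 1 3 0)) (.leaf (.up 4 921 1))) (.node (.leaf (.up 5 2019 3)) (.leaf (.up 1 11 0)))) (.node (.node (.leaf (.up 6 785 1)) (.leaf (.up 3 602 3))) (.node (.leaf (.up 5 1043 2)) (.leaf (.up 3 1771 3))))) (.node (.node (.node (.leaf (.up 6 1614 3)) (.leaf (.up 3 139 0))) (.node (.leaf (.up 5 767 3)) (.leaf (.up 5 1699 3)))) (.node (.node (.leaf (.up 2 17 1)) (.leaf (.up 4 537 1))) (.node (.leaf (.up 4 1963 3)) (.leaf (.up 6 1855 2)))))) (.node (.node (.node (.node (.leaf (.up 5 677 2)) (.leaf (.up 4 1914 1))) (.node (.leaf (.up 5 1041 2)) (.leaf (.up 5 636 3)))) (.node (.node (.leaf (.up 5 1989 3)) (.leaf (.up 4 921 3))) (.node (.leaf (.up 3 884 3)) (.leaf (.up 2 1832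 3))))) (.node (.node (.node (.leaf (.up 2 1650 1)) (.leaf (.up 3 393 2))) (.node (.leaf (.up 2 1739 2)) (.leaf (.up 3 1640 0)))) (.node (.node (.leaf (.up 5 1266 1)) (.leaf (.up 4 1786 1))) (.node (.leaf (.up 3 1640 3)) (.leaf (.up 7 564 3))))))) (.node (.node (.node (.node (.node (.leaf (.up 5 1920 2)) (.leaf (.up 4 441 1))) (.node (.leaf (.up 7 433 1)) (.leaf (.up 3 953 1)))) (.node (.node (.leaf (.up 6 128 3)) (.leaf (.up 3 825 1))) (.node (.leaf (.up 5 1073 3)) (.leaf (.up 1 109 3))))) (.node (.node (.node (.leaf (.up 3 200 3)) (.leaf (.up 3 1196 2))) (.node (.leaf (.up 6 1006 2)) (.leaf (.up 5 536 2)))) (.node (.node (.leaf (.up 6 1436 3)) (.leaf (.up 5 1452 2))) (.node (.leaf (.up 5 750 2)) (.leaf (.up 6 792 2)))))) (.node (.node (.node (.node (.leaf (.up 5 1047 3)) (.leaf (.up 5 1908 2))) (.node (.leaf (.up 3 166 3)) (.leaf (.up 5 448 2)))) (.node (.node (.leaf (.up 5 1490 1)) (.leaf (.up 5 2010 1))) (.node (.leaf (.up 4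 474 0)) (.leaf (.up 4 192 2))))) (.node (.node (.node (.leaf (.up 3 602 0)) (.leaf (.up 4 1454 2))) (.node (.leaf (.up 2 90 0)) (.leaf (.up 4 794 2)))) (.node (.node (.leaf (.up 2 1746 1)) (.leaf (.up 1 3 3))) (.node (.leaf (.up 4 1004 2)) (.leaf (.up 5 1202 3))))))))

noncomputable def vt5_2_1001 : Tr VStep :=
  .node (.node (.node (.node (.node (.node (.node (.leaf (.root 869)) (.leaf (.up 3 1789 2))) (.node (.leaf (.up 5 1921 1)) (.leaf (.up 4 1033 0)))) (.node (.node (.leaf (.up 2 1595 3)) (.leaf (.up 3 615 3))) (.node (.leaf (.up 4 650 3)) (.leaf (.up 3 1750 3))))) (.node (.node (.node (.leaf (.up 5 1489 2)) (.leaf (.up 2 559 3))) (.node (.leaf (.up 6 869 2)) (.leaf (.up 3 659 2)))) (.node (.node (.leaf (.up 2 1025 1)) (.leaf (.up 5 1545 1))) (.node (.leaf (.up 5 1942 3)) (.leaf (.up 4 1033 1)))))) (.node (.node (.node (.node (.leaf (.up 4 226 0)) (.leaf (.up 7 1776 3))) (.node (.leaf (.up 2 738 0)) (.leaf (.up 3 331 2))))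 (.node (.node (.leaf (.up 3 2040 3)) (.leaf (.up 6 1791 2))) (.node (.leaf (.up 3 445 2)) (.leaf (.up 4 1002 0))))) (.node (.node (.node (.leaf (.root 2294)) (.leaf (.up 4 1004 3))) (.node (.leaf (.up 1 98 0)) (.leaf (.up 3 1885 3)))) (.node (.node (.leaf (.up 4 226 1)) (.leaf (.up 7 1720 3))) (.node (.leaf (.up 2 738 1)) (.leaf (.up 5 234 1))))))) (.node (.node (.node (.node (.node (.leaf (.up 5 1953 1)) (.leaf (.up 2 437 3))) (.node (.leaf (.up 2 344 3)) (.leaf (.up 2 1284 3)))) (.node (.node (.leaf (.up 4 556 2)) (.leaf (.up 5 986 2))) (.node (.leaf (.up 7 1036 3)) (.leaf (.up 5 80 3))))) (.node (.node (.node (.leaf (.up 2 245 3)) (.leaf (.up 1 0 2))) (.node (.leaf (.up 2 1092 3)) (.leaf (.up 2 1193 1)))) (.node (.node (.leaf (.up 4 1441 3)) (.leaf (.up 3 1065 1))) (.node (.leaf (.up 4 272 3)) (.leaf (.up 3 1577 1)))))) (.node (.node (.node (.node (.leaf (.up 3 1240 0)) (.leaf (.up 3 330 1))) (.node (.leaf (.up 3 322 1)) (.leaf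 (.up 4 1388 2)))) (.node (.node (.leaf (.up 3 450 1)) (.leaf (.up 5 728 2))) (.node (.leaf (.up 4 962 1)) (.leaf (.up 6 1132 2))))) (.node (.node (.node (.leaf (.up 1 66 1)) (.leaf (.up 4 1386 3))) (.node (.leaf (.up 2 1415 3)) (.leaf (.up 5 1974 2)))) (.node (.node (.leaf (.up 4 1368 0)) (.leaf (.up 5 202 1))) (.node (.leaf (.up 3 1856 2)) (.leaf (.up 5 714 1)))))))) (.node (.node (.node (.node (.node (.node (.leaf (.up 6 232 2)) (.leaf (.up 3 1510 3))) (.node (.leaf (.up 3 1291 3)) (.leaf (.up 3 1962 2)))) (.node (.node (.leaf (.up 4 1297 1)) (.leaf (.up 2 1803 0))) (.node (.leaf (.up 4 95 3)) (.leaf (.up 3 1305 1))))) (.node (.node (.node (.leaf (.up 4 1169 1)) (.leaf (.up 3 250 3))) (.node (.leaf (.up 4 1158 2)) (.leaf (.up 3 1163 0)))) (.node (.node (.leaf (.up 2 1553 1)) (.leaf (.up 4 1454 3))) (.node (.leaf (.up 3 1411 0)) (.leaf (.up 4 1561 1)))))) (.node (.node (.node (.node (.leaf (.up 4 882 1)) (.leaf (.up 6 378 1)))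 (.node (.leaf (.up 6 1224 3)) (.leaf (.up 3 1704 2)))) (.node (.node (.leaf (.up 4 480 0)) (.leaf (.up 5 1018 1))) (.node (.leaf (.up 3 412 3)) (.leaf (.up 4 1960 2))))) (.node (.node (.node (.leaf (.up 4 114 1)) (.leaf (.up 3 313 3))) (.node (.leaf (.up 5 626 1)) (.leaf (.up 1 104 0)))) (.node (.node (.leaf (.up 4 754 1)) (.leaf (.up 3 250 1))) (.node (.leaf (.up 4 1152 3)) (.leaf (.up 3 762 1))))))) (.node (.node (.node (.node (.node (.leaf (.up 6 1457 1)) (.leaf (.up 5 1977 1))) (.node (.leaf (.up 6 635 2)) (.leaf (.up 6 909 2)))) (.node (.node (.leaf (.up 2 1841 1)) (.leaf (.up 5 1588 3))) (.node (.leaf (.up 2 1753 3)) (.leaf (.up 7 645 3))))) (.node (.node (.node (.leaf (.up 6 1557 2)) (.leaf (.up 5 2019 2))) (.node (.leaf (.up 4 1201 1)) (.leaf (.up 3 717 3)))) (.node (.node (.leaf (.up 3 953 0)) (.leaf (.up 5 1763 2))) (.node (.leaf (.up 2 417 2)) (.leaf (.up 4 87 2)))))) (.node (.node (.node (.node (.leaf (.up 6 1791 3))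 (.leaf (.up 5 858 1))) (.node (.leaf (.up 3 850 1)) (.leaf (.up 2 1746 0)))) (.node (.node (.leaf (.up 5 978 1)) (.leaf (.up 4 474 1))) (.node (.leaf (.up 4 633 2)) (.leaf (.up 3 911 2))))) (.node (.node (.node (.leaf (.up 5 594 1)) (.leaf (.up 2 90 1))) (.node (.leaf (.up 5 82 1)) (.leaf (.up 3 602 1)))) (.node (.node (.leaf (.up 5 1719 3)) (.leaf (.up 4 747 3))) (.node (.leaf (.up 4 163 2)) (.leaf (.up 5 218 1))))))))

noncomputable def vt5_2_100 : Tr VStep := .node vt5_2_1000 vt5_2_1001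

noncomputable def vt5_2_1010 : Tr VStep :=
  .node (.node (.node (.node (.node (.node (.node (.leaf (.up 3 1069 3)) (.leaf (.up 4 1710 1))) (.node (.leaf (.up 2 1702 1)) (.leaf (.up 3 1198 1)))) (.node (.node (.leaf (.up 6 280 2)) (.leaf (.up 4 1070 1))) (.node (.leaf (.up 5 1964 2)) (.leaf (.up 6 1626 2))))) (.node (.node (.node (.leaf (.up 5 1958 1)) (.leaf (.up 4 1454 1))) (.node (.leaf (.up 6 1142 2)) (.leaf (.up 6 476 3)))) (.node (.node (.leaf (.up 2 1125 3)) (.leaf (.up 6 1838 1))) (.node (.leaf (.up 4 1830 1)) (.leaf (.up 4 1152 2)))))) (.node (.node (.node (.node (.leaf (.root 952)) (.leaf (.up 3 1774 0))) (.node (.leaf (.up 4 351 3)) (.leaf (.up 3 1624 2)))) (.node (.node (.leaf (.up 2 2022 0)) (.leaf (.up 2 1254 3))) (.node (.leaf (.up 3 1510 0)) (.leaf (.up 3 717 1))))) (.node (.node (.node (.leaf (.up 4 837 1)) (.leaf (.up 3 1198 3))) (.node (.leaf (.up 3 325 1)) (.leaf (.up 5 31 3)))) (.node (.node (.leaf (.up 4 704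 2)) (.leaf (.up 3 822 2))) (.node (.leaf (.up 4 279 3)) (.leaf (.up 4 461 1))))))) (.node (.node (.node (.node (.node (.leaf (.up 4 1670 1)) (.leaf (.up 7 1783 3))) (.node (.leaf (.up 4 1562 3)) (.leaf (.up 7 582 3)))) (.node (.node (.leaf (.up 5 1030 1)) (.leaf (.up 5 931 3))) (.node (.leaf (.up 6 907 2)) (.leaf (.up 3 1810 3))))) (.node (.node (.node (.leaf (.up 2 1975 3)) (.leaf (.up 3 1003 3))) (.node (.leaf (.up 4 1926 1)) (.leaf (.up 3 423 2)))) (.node (.node (.leaf (.up 4 739 3)) (.leaf (.up 2 1975 0))) (.node (.leaf (.up 4 1618 3)) (.leaf (.up 5 526 3)))))) (.node (.node (.node (.node (.leaf (.up 3 872 3)) (.leaf (.up 1 109 1))) (.node (.leaf (.up 4 2009 3)) (.leaf (.up 5 901 3)))) (.node (.node (.leaf (.up 8 1596 3)) (.leaf (.up 5 1483 2))) (.node (.leaf (.up 5 741 1)) (.leaf (.up 4 1745 3))))) (.node (.node (.node (.leaf (.up 7 1652 3)) (.leaf (.up 2 1553 2))) (.node (.leaf (.up 4 709 3)) (.leaf (.up 2 596 0)))) (.node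 (.node (.leaf (.up 4 348 0)) (.leaf (.up 3 1916 3))) (.node (.leaf (.up 5 485 1)) (.leaf (.up 5 973 3)))))))) (.node (.node (.node (.node (.node (.node (.leaf (.up 6 2043 2)) (.leaf (.up 4 1214 1))) (.node (.leaf (.up 1 7 0)) (.leaf (.up 5 1726 1)))) (.node (.node (.leaf (.up 4 1787 2)) (.leaf (.up 4 1805 2))) (.node (.leaf (.up 5 1821 3)) (.leaf (.up 3 833 3))))) (.node (.node (.node (.leaf (.up 4 135 0)) (.leaf (.up 3 1239 2))) (.node (.leaf (.up 3 917 2)) (.leaf (.up 4 611 2)))) (.node (.node (.leaf (.up 5 1712 3)) (.leaf (.up 3 399 0))) (.node (.leaf (.up 2 513 3)) (.leaf (.up 2 1854 1)))))) (.node (.node (.node (.node (.leaf (.up 4 1785 2)) (.leaf (.up 4 871 3))) (.node (.leaf (.up 5 77 2)) (.leaf (.up 5 2006 3)))) (.node (.node (.leaf (.up 5 623 3)) (.leaf (.up 5 733 1))) (.node (.leaf (.up 3 1758 3)) (.leaf (.up 4 187 2))))) (.node (.node (.node (.leaf (.up 6 341 1)) (.leaf (.up 4 1493 2))) (.node (.leaf (.up 4 853 1)) (.leaf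 (.up 4 349 1)))) (.node (.node (.leaf (.up 3 1315 2)) (.leaf (.up 3 815 3))) (.node (.leaf (.up 4 962 3)) (.leaf (.up 4 1950 3))))))) (.node (.node (.node (.node (.node (.leaf (.up 7 126 3)) (.leaf (.up 3 554 2))) (.node (.leaf (.up 7 1231 3)) (.leaf (.up 2 147 3)))) (.node (.node (.leaf (.up 5 732 2)) (.leaf (.up 3 374 3))) (.node (.leaf (.up 4 411 3)) (.leaf (.up 4 1479 3))))) (.node (.node (.node (.leaf (.up 3 262 2)) (.leaf (.up 5 1438 1))) (.node (.leaf (.up 4 1970 2)) (.leaf (.up 4 1950 1)))) (.node (.node (.leaf (.up 1 6 2)) (.leaf (.up 3 1130 3))) (.node (.leaf (.up 3 1814 1)) (.leaf (.up 1 219 3)))))) (.node (.node (.node (.node (.leaf (.root 2416)) (.leaf (.up 4 637 1))) (.node (.leaf (.up 1 222 0)) (.leaf (.up 4 125 1)))) (.node (.node (.leaf (.up 4 990 2)) (.leaf (.up 3 552 2))) (.node (.leaf (.up 2 245 1)) (.leaf (.up 5 1028 3))))) (.node (.node (.node (.leaf (.up 1 4 2)) (.leaf (.up 4 498 2))) (.node (.leaf (.up 5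 1712 2)) (.leaf (.up 7 1100 3)))) (.node (.node (.leaf (.up 1 260 2)) (.leaf (.up 4 1449 3))) (.node (.leaf (.up 3 1968 2)) (.leaf (.up 6 280 3))))))))

noncomputable def vt5_2_1011 : Tr VStep :=
  .node (.node (.node (.node (.node (.node (.node (.leaf (.up 4 678 1)) (.leaf (.up 3 174 1))) (.node (.leaf (.up 3 166 1)) (.leaf (.up 5 1045 2)))) (.node (.node (.leaf (.up 4 38 1)) (.leaf (.up 4 558 1))) (.node (.leaf (.up 5 1824 3)) (.leaf (.up 3 46 1))))) (.node (.node (.node (.leaf (.up 5 422 1)) (.leaf (.up 5 1925 3))) (.node (.leaf (.up 6 1896 3)) (.leaf (.up 5 430 1)))) (.node (.node (.leaf (.up 5 1925 0)) (.leaf (.up 3 721 3))) (.node (.leaf (.up 5 294 1)) (.leaf (.up 4 1632 3)))))) (.node (.node (.node (.node (.leaf (.up 4 1605 1)) (.leaf (.up 5 858 3))) (.node (.leaf (.up 4 1093 1)) (.leaf (.up 4 2027 3)))) (.node (.node (.leaf (.up 4 853 2)) (.leaf (.up 5 1741 1))) (.node (.leaf (.up 5 1763 3)) (.leaf (.up 5 1047 2))))) (.node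 (.node (.node (.leaf (.up 3 1349 1)) (.leaf (.up 6 377 2))) (.node (.leaf (.up 2 1595 2)) (.leaf (.up 4 759 3)))) (.node (.node (.leaf (.up 3 399 2)) (.leaf (.up 7 786 3))) (.node (.leaf (.up 4 1477 1)) (.leaf (.up 5 1955 3))))))) (.node (.node (.node (.node (.node (.leaf (.up 4 134 1)) (.leaf (.up 2 654 1))) (.node (.leaf (.up 4 646 1)) (.leaf (.up 3 174 3)))) (.node (.node (.leaf (.up 4 518 1)) (.leaf (.up 3 331 3))) (.node (.leaf (.up 1 6 1)) (.leaf (.up 3 306 2))))) (.node (.node (.node (.leaf (.up 4 902 1)) (.leaf (.up 5 398 1))) (.node (.leaf (.up 4 798 2)) (.leaf (.up 3 1458 3)))) (.node (.node (.leaf (.up 1 11 3)) (.leaf (.up 4 782 1))) (.node (.leaf (.up 5 1210 3)) (.leaf (.up 4 230 3)))))) (.node (.node (.node (.node (.leaf (.root 2046)) (.leaf (.up 3 1500 3))) (.node (.leaf (.up 4 1329 3)) (.leaf (.up 4 365 3)))) (.node (.node (.leaf (.up 3 1765 1)) (.leaf (.up 5 136 3))) (.node (.leaf (.up 3 1253 1)) (.leaf (.up 5 1773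 1))))) (.node (.node (.node (.leaf (.up 5 1893 1)) (.leaf (.up 4 192 3))) (.node (.leaf (.up 5 540 2)) (.leaf (.up 4 1002 2)))) (.node (.node (.leaf (.up 4 1448 2)) (.leaf (.up 5 1428 3))) (.node (.leaf (.up 5 1401 3)) (.leaf (.up 6 293 3)))))))) (.node (.node (.node (.node (.node (.node (.leaf (.up 2 1040 3)) (.leaf (.up 6 1346 2))) (.node (.leaf (.up 5 512 2)) (.leaf (.up 3 1277 3)))) (.node (.node (.leaf (.up 4 566 1)) (.leaf (.up 4 1304 3))) (.node (.leaf (.up 4 54 1)) (.leaf (.up 4 574 1))))) (.node (.node (.node (.leaf (.up 4 1671 0)) (.leaf (.up 7 1360 3))) (.node (.leaf (.up 4 1159 0)) (.leaf (.up 3 300 2)))) (.node (.node (.leaf (.up 2 1415 0)) (.leaf (.up 1 4 3))) (.node (.leaf (.up 2 233 3)) (.leaf (.up 5 1423 0)))))) (.node (.node (.node (.node (.leaf (.up 5 1109 1)) (.leaf (.up 3 399 3))) (.node (.leaf (.up 6 354 3)) (.leaf (.up 4 1342 3)))) (.node (.node (.leaf (.up 3 1206 2)) (.leaf (.up 3 1344 2))) (.node (.leaf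 (.up 5 1237 1)) (.leaf (.up 2 1757 1))))) (.node (.node (.node (.leaf (.up 5 1900 2)) (.leaf (.up 4 1373 1))) (.node (.leaf (.up 4 100 0)) (.leaf (.up 1 34 3)))) (.node (.node (.leaf (.up 3 356 0)) (.leaf (.up 4 455 3))) (.node (.leaf (.up 3 298 3)) (.leaf (.up 5 302 2))))))) (.node (.node (.node (.node (.node (.leaf (.root 2444)) (.leaf (.up 7 1738 3))) (.node (.leaf (.up 1 150 1)) (.leaf (.up 6 635 3)))) (.node (.node (.leaf (.up 5 22 1)) (.leaf (.up 4 101 2))) (.node (.leaf (.up 5 534 1)) (.leaf (.up 3 1839 3))))) (.node (.node (.node (.leaf (.up 3 585 2)) (.leaf (.up 3 959 2))) (.node (.leaf (.up 3 1277 2)) (.leaf (.up 3 1291 2)))) (.node (.node (.leaf (.up 2 734 3)) (.leaf (.up 4 286 1))) (.node (.leaf (.up 2 1647 3)) (.leaf (.up 2 437 0)))))) (.node (.node (.node (.node (.leaf (.up 3 401 2)) (.leaf (.up 1 103 2))) (.node (.leaf (.up 3 1758 0)) (.leaf (.up 2 1238 0)))) (.node (.node (.leaf (.up 5 1269 1)) (.leaf (.up 3 1789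 1))) (.node (.leaf (.up 8 688 3)) (.leaf (.up 3 1277 1))))) (.node (.node (.node (.leaf (.up 4 1609 3)) (.leaf (.up 2 533 3))) (.node (.leaf (.up 4 760 3)) (.leaf (.up 2 1700 3)))) (.node (.node (.leaf (.up 5 797 3)) (.leaf (.up 3 957 2))) (.node (.leaf (.up 5 1964 3)) (.leaf (.up 3 1008 3))))))))

noncomputable def vt5_2_101 : Tr VStep := .node vt5_2_1010 vt5_2_1011

noncomputable def vt5_2_10 : Tr VStep := .node vt5_2_100 vt5_2_101

noncomputable def vt5_2_1100 : Tr VStep :=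
  .node (.node (.node (.node (.node (.node (.node (.leaf (.root 2106)) (.leaf (.up 4 537 0))) (.node (.leaf (.up 6 1357 3)) (.leaf (.up 6 395 1)))) (.node (.node (.leaf (.up 5 1028 2)) (.leaf (.up 3 244 3))) (.node (.leaf (.up 6 259 1)) (.leaf (.up 4 1093 3))))) (.node (.node (.node (.leaf (.up 6 2014 2)) (.leaf (.up 3 139 1))) (.node (.leaf (.up 5 362 2)) (.leaf (.up 4 1037 3)))) (.node (.node (.leaf (.up 1 3 1)) (.leaf (.up 2 1832 2))) (.node (.leaf (.up 5 1285 3)) (.leaf (.up 1 11 1)))))) (.node (.node (.node (.node (.leaf (.up 5 63 3)) (.leaf (.up 4 1786 0))) (.node (.leaf (.up 5 1888 1)) (.leaf (.up 7 210 3)))) (.node (.node (.leaf (.up 5 2016 1)) (.leaf (.up 4 1530 0))) (.node (.leaf (.up 4 474 3)) (.leaf (.up 4 2042 0))))) (.node (.node (.node (.leaf (.up 2 1756 2)) (.leaf (.up 5 1128 1))) (.node (.leaf (.up 1 104 2)) (.leaf (.up 3 1640 1)))) (.node (.node (.leaf (.up 5 2012 2)) (.leaf (.up 2 1578 2))) (.node (.leaf (.up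 5 360 2)) (.leaf (.up 5 154 3))))))) (.node (.node (.node (.node (.node (.leaf (.up 3 1067 0)) (.leaf (.up 7 213 2))) (.node (.leaf (.up 7 419 1)) (.leaf (.up 7 1633 2)))) (.node (.node (.leaf (.up 4 35 2)) (.leaf (.up 2 1650 3))) (.node (.leaf (.up 4 1687 2)) (.leaf (.up 2 707 3))))) (.node (.node (.node (.leaf (.up 3 1707 0)) (.leaf (.up 7 527 2))) (.node (.leaf (.up 6 1357 2)) (.leaf (.up 4 171 1)))) (.node (.node (.leaf (.up 6 1842 3)) (.leaf (.up 4 43 1))) (.node (.leaf (.up 4 35 1)) (.leaf (.up 4 555 1)))))) (.node (.node (.node (.node (.leaf (.up 1 33 2)) (.leaf (.up 4 1352 1))) (.node (.leaf (.up 3 1344 1)) (.leaf (.up 2 1864 1)))) (.node (.node (.leaf (.up 5 1472 1)) (.leaf (.up 5 1992 1))) (.node (.leaf (.up 3 1941 2)) (.leaf (.up 3 1635 2))))) (.node (.node (.node (.leaf (.up 4 1088 1)) (.leaf (.up 5 1608 1))) (.node (.leaf (.up 3 1600 1)) (.leaf (.up 4 1096 1)))) (.node (.node (.leaf (.up 5 1019 2)) (.leaf (.up 4 525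 2))) (.node (.leaf (.up 5 1216 1)) (.leaf (.up 4 1736 1)))))))) (.node (.node (.node (.node (.node (.node (.leaf (.up 6 743 2)) (.leaf (.up 4 411 1))) (.node (.leaf (.up 7 403 1)) (.leaf (.up 3 1445 2)))) (.node (.node (.leaf (.root 2390)) (.leaf (.up 6 545 3))) (.node (.leaf (.up 2 716 3)) (.leaf (.up 3 1680 3))))) (.node (.node (.node (.leaf (.up 1 61 2)) (.leaf (.up 4 617 3))) (.node (.leaf (.up 2 644 3)) (.leaf (.up 5 1919 2)))) (.node (.node (.leaf (.up 6 865 3)) (.leaf (.up 4 411 0))) (.node (.leaf (.up 5 1929 2)) (.leaf (.up 4 539 1)))))) (.node (.node (.node (.node (.leaf (.up 5 1904 1)) (.leaf (.up 6 1400 1))) (.node (.leaf (.up 5 1361 2)) (.leaf (.up 5 1912 1)))) (.node (.node (.leaf (.up 5 1982 3)) (.leaf (.up 3 787 2))) (.node (.leaf (.up 5 1105 2)) (.leaf (.up 3 1447 2))))) (.node (.node (.node (.leaf (.up 4 319 2)) (.leaf (.up 1 201 2))) (.node (.leaf (.up 5 1931 2)) (.leaf (.up 3 1661 2)))) (.node (.node (.leaf (.up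 5 63 2)) (.leaf (.up 5 457 2))) (.node (.leaf (.up 4 1675 2)) (.leaf (.up 4 1917 2))))))) (.node (.node (.node (.node (.node (.leaf (.up 3 1577 0)) (.leaf (.up 5 499 3))) (.node (.leaf (.up 3 1065 0)) (.leaf (.up 6 1346 3)))) (.node (.node (.leaf (.up 5 1984 2)) (.leaf (.up 7 1191 3))) (.node (.leaf (.up 4 372 2)) (.leaf (.up 5 130 2))))) (.node (.node (.node (.leaf (.up 2 1193 0)) (.leaf (.up 3 1263 3))) (.node (.leaf (.up 3 179 1)) (.leaf (.up 3 94 3)))) (.node (.node (.leaf (.up 4 51 1)) (.leaf (.up 4 571 1))) (.node (.leaf (.up 4 563 1)) (.leaf (.up 5 600 2)))))) (.node (.node (.node (.node (.leaf (.up 5 714 0)) (.leaf (.up 5 1588 2))) (.node (.leaf (.up 3 374 2)) (.leaf (.up 4 1368 1)))) (.node (.node (.leaf (.up 4 1730 2)) (.leaf (.up 4 1844 2))) (.node (.leaf (.up 5 1488 1)) (.leaf (.up 3 384 2))))) (.node (.node (.node (.leaf (.up 4 1304 2)) (.leaf (.up 3 1324 3))) (.node (.leaf (.up 5 1473 3)) (.leaf (.up 1 66 0)))) (.node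 (.node (.leaf (.up 4 1232 1)) (.leaf (.up 3 322 0))) (.node (.leaf (.up 3 330 0)) (.leaf (.up 3 1240 1))))))))

noncomputable def vt5_2_1101 : Tr VStep :=
  .node (.node (.node (.node (.node (.node (.node (.leaf (.root 683)) (.leaf (.up 2 1864 3))) (.node (.leaf (.up 3 1411 1)) (.leaf (.up 3 265 2)))) (.node (.node (.leaf (.up 3 1600 3)) (.leaf (.up 2 1803 1))) (.node (.leaf (.up 3 753 3)) (.leaf (.up 1 9 2))))) (.node (.node (.node (.leaf (.up 2 1544 3)) (.leaf (.up 2 596 3))) (.node (.leaf (.up 5 549 2)) (.leaf (.up 3 1765 3)))) (.node (.node (.leaf (.up 5 1425 2)) (.leaf (.up 3 1792 3))) (.node (.leaf (.up 5 1027 1)) (.leaf (.up 4 1547 1)))))) (.node (.node (.node (.node (.leaf (.up 4 754 0)) (.leaf (.up 3 250 0))) (.node (.leaf (.up 4 1638 3)) (.leaf (.up 1 11 2)))) (.node (.node (.leaf (.up 2 1923 3)) (.leaf (.up 5 1983 2))) (.node (.leaf (.up 4 818 3)) (.leaf (.up 4 267 2))))) (.node (.node (.node (.leaf (.up 4 114 0)) (.leaf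 (.up 2 1125 2))) (.node (.leaf (.up 4 807 2)) (.leaf (.up 1 104 1)))) (.node (.node (.leaf (.up 4 882 0)) (.leaf (.up 4 1731 3))) (.node (.leaf (.up 8 1582 3)) (.leaf (.up 4 977 2))))))) (.node (.node (.node (.node (.node (.leaf (.up 3 620 2)) (.leaf (.up 2 462 3))) (.node (.leaf (.up 3 1240 2)) (.leaf (.up 6 1326 2)))) (.node (.node (.leaf (.up 3 1827 1)) (.leaf (.up 3 666 2))) (.node (.leaf (.up 3 1315 1)) (.leaf (.up 4 1070 2))))) (.node (.node (.node (.leaf (.up 3 182 2)) (.leaf (.up 6 320 2))) (.node (.leaf (.up 6 1538 2)) (.leaf (.up 2 99 3)))) (.node (.node (.leaf (.up 6 438 2)) (.leaf (.up 5 64 2))) (.node (.leaf (.up 6 1794 2)) (.leaf (.up 3 1067 1)))))) (.node (.node (.node (.node (.leaf (.up 4 1736 0)) (.leaf (.up 5 664 2))) (.node (.leaf (.up 6 832 1)) (.leaf (.up 4 1068 2)))) (.node (.node (.leaf (.up 5 960 1)) (.leaf (.up 5 456 1))) (.node (.leaf (.up 3 1242 2)) (.leaf (.up 3 1324 2))))) (.node (.node (.node (.leaf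 (.up 4 1096 0)) (.leaf (.up 1 66 2))) (.node (.leaf (.up 3 1792 2)) (.leaf (.up 2 1782 2)))) (.node (.node (.leaf (.up 2 1864 0)) (.leaf (.up 1 69 3))) (.node (.leaf (.up 2 1536 2)) (.leaf (.up 3 200 1)))))))) (.node (.node (.node (.node (.node (.node (.leaf (.up 5 1427 1)) (.leaf (.up 2 1437 3))) (.node (.leaf (.up 3 1820 2)) (.leaf (.up 3 300 3)))) (.node (.node (.leaf (.up 3 168 2)) (.leaf (.up 1 201 3))) (.node (.leaf (.up 7 36 3)) (.leaf (.up 3 2026 2))))) (.node (.node (.node (.leaf (.up 4 882 2)) (.leaf (.up 2 644 2))) (.node (.leaf (.up 5 108 3)) (.leaf (.up 1 1072 2)))) (.node (.node (.leaf (.up 3 393 3)) (.leaf (.up 4 1493 3))) (.node (.leaf (.up 4 1555 1)) (.leaf (.up 3 356 3)))))) (.node (.node (.node (.node (.leaf (.up 5 170 2)) (.leaf (.up 2 888 1))) (.node (.leaf (.up 3 752 0)) (.leaf (.up 4 2024 2)))) (.node (.node (.leaf (.up 3 426 2)) (.leaf (.up 5 92 2))) (.node (.leaf (.up 3 1822 2)) (.leaf (.up 4 1768 2)))))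 (.node (.node (.node (.leaf (.root 2392)) (.leaf (.up 3 322 3))) (.node (.leaf (.up 1 112 0)) (.leaf (.up 4 1330 2)))) (.node (.node (.leaf (.up 5 880 2)) (.leaf (.up 2 888 0))) (.node (.leaf (.up 3 752 1)) (.leaf (.up 5 248 1))))))) (.node (.node (.node (.node (.node (.leaf (.up 5 1423 2)) (.leaf (.up 6 1145 2))) (.node (.leaf (.up 3 553 0)) (.leaf (.up 1 33 0)))) (.node (.node (.leaf (.up 8 531 3)) (.leaf (.up 5 1401 2))) (.node (.leaf (.up 4 571 2)) (.leaf (.up 5 973 2))))) (.node (.node (.node (.leaf (.up 3 681 0)) (.leaf (.up 5 1543 3))) (.node (.leaf (.up 3 169 0)) (.leaf (.up 5 694 3)))) (.node (.node (.leaf (.up 5 1807 3)) (.leaf (.up 5 1955 2))) (.node (.leaf (.up 5 958 3)) (.leaf (.up 2 1595 1)))))) (.node (.node (.node (.node (.leaf (.up 5 848 1)) (.leaf (.up 2 344 1))) (.node (.leaf (.up 5 336 1)) (.leaf (.up 5 975 2)))) (.node (.node (.leaf (.up 4 1421 2)) (.leaf (.up 3 1147 2))) (.node (.leaf (.up 3 825 2)) (.leaf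 (.up 5 472 1))))) (.node (.node (.node (.leaf (.up 5 1623 2)) (.leaf (.up 3 1988 3))) (.node (.leaf (.up 5 227 2)) (.leaf (.up 3 885 3)))) (.node (.node (.leaf (.up 4 1740 3)) (.leaf (.up 3 656 3))) (.node (.leaf (.up 4 637 3)) (.leaf (.up 5 728 1))))))))

noncomputable def vt5_2_110 : Tr VStep := .node vt5_2_1100 vt5_2_1101

noncomputable def vt5_2_1110 : Tr VStep :=
  .node (.node (.node (.node (.node (.node (.node (.leaf (.root 2100)) (.leaf (.up 1 10 3))) (.node (.leaf (.up 5 2028 2)) (.leaf (.up 4 1562 2)))) (.node (.node (.leaf (.up 5 88 2)) (.leaf (.up 4 1580 1))) (.node (.leaf (.up 5 1459 3)) (.leaf (.up 4 1068 1))))) (.node (.node (.node (.leaf (.up 3 330 3)) (.leaf (.up 3 1302 3))) (.node (.leaf (.up 3 1334 2)) (.leaf (.up 3 423 3)))) (.node (.node (.leaf (.up 2 1828 1)) (.leaf (.up 1 66 3))) (.node (.leaf (.up 5 175 3)) (.leaf (.up 3 925 0)))))) (.node (.node (.node (.node (.leaf (.root 1910)) (.leaf (.up 5 457 3))) (.node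 (.leaf (.up 1 71 1)) (.leaf (.up 5 591 1)))) (.node (.node (.leaf (.up 4 346 2)) (.leaf (.up 6 719 1))) (.node (.leaf (.up 5 2030 2)) (.leaf (.up 5 207 1))))) (.node (.node (.node (.leaf (.up 5 327 1)) (.leaf (.up 4 886 2))) (.node (.leaf (.up 6 1076 2)) (.leaf (.up 3 335 1)))) (.node (.node (.leaf (.up 3 896 2)) (.leaf (.up 3 385 3))) (.node (.leaf (.up 4 1332 2)) (.leaf (.up 4 1328 3))))))) (.node (.node (.node (.node (.node (.leaf (.up 6 720 3)) (.leaf (.up 3 1161 2))) (.node (.leaf (.up 7 1633 3)) (.leaf (.up 2 573 2)))) (.node (.node (.leaf (.up 3 1540 1)) (.leaf (.up 5 984 3))) (.node (.leaf (.up 3 1839 0)) (.leaf (.up 6 829 2))))) (.node (.node (.node (.leaf (.up 5 1924 1)) (.leaf (.up 6 1420 1))) (.node (.leaf (.up 7 273 2)) (.leaf (.up 5 231 2)))) (.node (.node (.leaf (.up 2 1284 1)) (.leaf (.up 2 1732 3))) (.node (.leaf (.up 2 17 2)) (.leaf (.up 2 629 3)))))) (.node (.node (.node (.node (.leaf (.root 2482)) (.leaf (.up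 3 196 0))) (.node (.leaf (.up 2 713 2)) (.leaf (.up 3 831 2)))) (.node (.node (.leaf (.up 4 1405 2)) (.leaf (.up 3 1163 2))) (.node (.leaf (.up 3 969 2)) (.leaf (.up 4 575 2))))) (.node (.node (.node (.leaf (.up 4 871 1)) (.leaf (.up 3 1873 2))) (.node (.leaf (.up 5 359 1)) (.leaf (.up 4 879 1)))) (.node (.node (.leaf (.up 3 1959 2)) (.leaf (.up 5 1799 3))) (.node (.leaf (.up 1 275 2)) (.leaf (.up 6 950 3)))))))) (.node (.node (.node (.node (.node (.node (.leaf (.up 4 1204 1)) (.leaf (.up 4 1724 1))) (.node (.leaf (.up 4 15 2)) (.leaf (.up 4 1212 1)))) (.node (.node (.leaf (.up 3 1979 2)) (.leaf (.up 5 1931 3))) (.node (.leaf (.up 4 279 0)) (.leaf (.up 6 249 2))))) (.node (.node (.node (.leaf (.up 5 1972 1)) (.leaf (.up 4 1468 1))) (.node (.leaf (.up 5 725 2)) (.leaf (.up 3 1980 1)))) (.node (.node (.leaf (.up 2 1739 3)) (.leaf (.up 5 1175 2))) (.node (.leaf (.up 4 634 3)) (.leaf (.up 6 1340 1)))))) (.node (.node (.node (.node (.leaf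 (.up 3 1856 3)) (.leaf (.up 4 607 1))) (.node (.leaf (.up 5 269 2)) (.leaf (.up 4 95 1)))) (.node (.node (.leaf (.up 3 532 3)) (.leaf (.up 5 1871 2))) (.node (.leaf (.up 4 1701 3)) (.leaf (.up 5 507 2))))) (.node (.node (.node (.leaf (.up 5 855 1)) (.leaf (.up 2 1536 3))) (.node (.leaf (.up 4 983 2)) (.leaf (.up 5 863 1)))) (.node (.node (.leaf (.up 5 1123 2)) (.leaf (.up 3 1916 0))) (.node (.leaf (.up 3 953 3)) (.leaf (.up 4 479 1))))))) (.node (.node (.node (.node (.node (.leaf (.up 3 1684 1)) (.leaf (.up 7 1113 3))) (.node (.leaf (.up 3 1064 2)) (.leaf (.up 6 232 3)))) (.node (.node (.leaf (.up 4 1837 0)) (.leaf (.up 5 269 3))) (.node (.leaf (.up 4 480 3)) (.leaf (.up 4 1468 3))))) (.node (.node (.node (.leaf (.up 3 1305 3)) (.leaf (.up 3 325 3))) (.node (.leaf (.up 5 1778 2)) (.leaf (.up 4 1796 2)))) (.node (.node (.leaf (.up 5 77 3)) (.leaf (.up 5 1041 3))) (.node (.leaf (.up 5 1965 0)) (.leaf (.up 1 160 3)))))) (.node (.node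 (.node (.node (.leaf (.up 5 454 3)) (.leaf (.up 4 616 2))) (.node (.leaf (.up 4 1399 3)) (.leaf (.up 4 299 3)))) (.node (.node (.leaf (.up 4 1170 3)) (.leaf (.up 3 872 2))) (.node (.leaf (.up 2 462 0)) (.leaf (.up 3 1500 2))))) (.node (.node (.node (.leaf (.up 3 1242 3)) (.leaf (.up 4 178 2))) (.node (.leaf (.up 3 887 1)) (.leaf (.up 6 383 1)))) (.node (.node (.leaf (.up 4 68 2)) (.leaf (.up 5 1490 3))) (.node (.leaf (.up 5 503 1)) (.leaf (.up 5 1798 2))))))))

noncomputable def vt5_2_1111 : Tr VStep :=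
  .node (.node (.node (.node (.node (.node (.node (.leaf (.up 3 164 1)) (.leaf (.up 2 738 3))) (.node (.leaf (.up 6 676 1)) (.leaf (.up 6 1365 2)))) (.node (.node (.leaf (.up 4 1002 3)) (.leaf (.up 5 1974 3))) (.node (.leaf (.up 5 1883 3)) (.leaf (.up 4 556 1))))) (.node (.node (.node (.leaf (.up 4 205 2)) (.leaf (.up 7 2046 3))) (.node (.leaf (.up 3 1657 2)) (.leaf (.up 3 1935 2)))) (.node (.node (.leaf (.up 2 1782 3)) (.leaf (.up 4 682 3))) (.node (.leaf (.up 2 583 3)) (.leaf (.up 2 1437 0)))))) (.node (.node (.node (.node (.leaf (.up 4 1917 3)) (.leaf (.up 4 739 2))) (.node (.leaf (.up 4 1441 2)) (.leaf (.up 5 1111 2)))) (.node (.node (.leaf (.up 2 533 2)) (.leaf (.up 5 1653 3))) (.node (.leaf (.up 3 1688 3)) (.leaf (.up 4 1022 0))))) (.node (.node (.node (.leaf (.up 4 463 2)) (.leaf (.up 6 1359 1))) (.node (.leaf (.up 5 1744 3)) (.leaf (.up 5 1871 1)))) (.node (.node (.leaf (.up 3 374 0)) (.leaf (.up 3 313 2))) (.node (.leaf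 (.up 4 886 0)) (.leaf (.up 4 1487 1))))))) (.node (.node (.node (.node (.node (.leaf (.root 2348)) (.leaf (.up 7 1124 3))) (.node (.leaf (.up 1 132 1)) (.leaf (.up 7 213 3)))) (.node (.node (.leaf (.up 1 4 1)) (.leaf (.up 4 524 1))) (.node (.leaf (.up 2 516 1)) (.leaf (.up 2 1409 3))))) (.node (.node (.node (.leaf (.up 4 388 1)) (.leaf (.up 5 1308 2))) (.node (.leaf (.up 5 900 1)) (.leaf (.up 6 396 1)))) (.node (.node (.leaf (.up 1 112 3)) (.leaf (.up 3 935 0))) (.node (.leaf (.up 1 260 1)) (.leaf (.up 3 780 1)))))) (.node (.node (.node (.node (.leaf (.up 4 1639 1)) (.leaf (.root 2320))) (.node (.leaf (.up 4 1127 1)) (.leaf (.up 1 112 2)))) (.node (.node (.leaf (.up 4 1255 1)) (.leaf (.up 3 1988 2))) (.node (.leaf (.up 3 1484 0)) (.leaf (.up 3 1263 1))))) (.node (.node (.node (.leaf (.up 4 1255 3)) (.leaf (.up 2 1092 0))) (.node (.leaf (.up 5 860 2)) (.leaf (.up 4 682 2)))) (.node (.node (.leaf (.up 5 435 3)) (.leaf (.up 3 1310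 2))) (.node (.leaf (.up 6 1282 3)) (.leaf (.up 3 350 3)))))))) (.node (.node (.node (.node (.node (.node (.leaf (.up 4 692 1)) (.leaf (.up 4 55 3))) (.node (.leaf (.up 4 180 1)) (.leaf (.up 3 700 1)))) (.node (.node (.leaf (.up 4 319 3)) (.leaf (.up 6 1282 2))) (.node (.leaf (.up 5 1422 3)) (.leaf (.up 6 950 2))))) (.node (.node (.node (.leaf (.up 5 436 1)) (.leaf (.up 4 1323 3))) (.node (.leaf (.up 4 948 1)) (.leaf (.up 5 108 2)))) (.node (.node (.leaf (.up 6 820 1)) (.leaf (.up 4 127 3))) (.node (.leaf (.up 5 154 2)) (.leaf (.up 4 828 1)))))) (.node (.node (.node (.node (.leaf (.up 3 1270 2)) (.leaf (.up 5 500 3))) (.node (.leaf (.up 3 244 0)) (.leaf (.up 3 1349 3)))) (.node (.node (.leaf (.up 3 1239 1)) (.leaf (.up 4 1184 3))) (.node (.leaf (.up 4 1012 0)) (.leaf (.up 2 17 3))))) (.node (.node (.node (.leaf (.up 4 1580 2)) (.leaf (.up 3 1887 1))) (.node (.leaf (.up 5 152 2)) (.leaf (.up 5 89 3)))) (.node (.node (.leaf (.up 3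 884 0)) (.leaf (.up 7 444 3))) (.node (.leaf (.up 4 1495 1)) (.leaf (.up 5 110 2))))))) (.node (.node (.node (.node (.node (.leaf (.up 4 148 1)) (.leaf (.up 5 668 1))) (.node (.leaf (.up 3 660 1)) (.leaf (.up 5 512 3)))) (.node (.node (.leaf (.up 3 532 1)) (.leaf (.up 6 293 2))) (.node (.leaf (.up 2 20 1)) (.leaf (.up 5 540 1))))) (.node (.node (.node (.leaf (.up 4 916 1)) (.leaf (.up 3 412 1))) (.node (.leaf (.up 5 1469 2)) (.leaf (.up 3 1820 3)))) (.node (.node (.leaf (.up 5 677 3)) (.leaf (.up 4 1785 3))) (.node (.leaf (.up 2 429 0)) (.leaf (.up 4 584 3)))))) (.node (.node (.node (.node (.leaf (.up 3 209 2)) (.leaf (.up 4 295 2))) (.node (.leaf (.up 5 1951 3)) (.leaf (.up 5 1939 2)))) (.node (.node (.leaf (.up 5 1658 3)) (.leaf (.up 7 550 3))) (.node (.leaf (.up 5 1893 2)) (.leaf (.up 4 1687 3))))) (.node (.node (.node (.leaf (.up 4 523 2)) (.leaf (.up 6 622 3))) (.node (.leaf (.up 4 1215 2)) (.leaf (.up 5 1919 1)))) (.node (.node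 (.leaf (.up 4 779 2)) (.leaf (.up 5 1850 3))) (.node (.leaf (.up 5 1471 2)) (.leaf (.up 6 907 3))))))))

noncomputable def vt5_2_111 : Tr VStep := .node vt5_2_1110 vt5_2_1111

noncomputable def vt5_2_11 : Tr VStep := .node vt5_2_110 vt5_2_111

noncomputable def vt5_2_1 : Tr VStep := .node vt5_2_10 vt5_2_11

noncomputable def vt5_2_ : Tr VStep := .node vt5_2_0 vt5_2_1

noncomputable def vt5_3_0000 : Tr VStep :=
  .node (.node (.node (.node (.node (.node (.node (.leaf (.root 5116)) (.leaf (.up 2 1281 0))) (.node (.leaf (.up 2 1699 0)) (.leaf (.up 2 1843 1)))) (.node (.node (.leaf (.up 2 612 1)) (.leaf (.up 4 1299 2))) (.node (.leaf (.up 4 1620 0)) (.leaf (.up 4 397 2))))) (.node (.node (.node (.leaf (.up 2 869 0)) (.leaf (.up 3 757 1))) (.node (.leaf (.up 3 476 0)) (.leaf (.up 2 199 0)))) (.node (.node (.leaf (.up 4 1477 2)) (.leaf (.up 2 1692 1))) (.node (.leaf (.up 3 1954 1)) (.leaf (.up 1 48 0)))))) (.node (.node (.node (.node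 (.leaf (.up 2 193 1)) (.leaf (.up 2 838 1))) (.node (.leaf (.up 2 632 1)) (.leaf (.up 2 511 1)))) (.node (.node (.leaf (.up 2 1083 0)) (.leaf (.up 4 388 2))) (.node (.leaf (.up 4 1553 1)) (.leaf (.up 3 1430 1))))) (.node (.node (.node (.leaf (.root 4852)) (.leaf (.up 4 725 2))) (.node (.leaf (.up 2 266 0)) (.leaf (.up 1 17 0)))) (.node (.node (.leaf (.up 2 338 2)) (.leaf (.up 1 80 1))) (.node (.leaf (.up 3 509 0)) (.leaf (.up 1 230 0))))))) (.node (.node (.node (.node (.node (.leaf (.up 2 651 2)) (.leaf (.up 3 1762 2))) (.node (.leaf (.up 3 1026 1)) (.leaf (.up 3 636 2)))) (.node (.node (.leaf (.up 4 1115 0)) (.leaf (.up 3 341 1))) (.node (.leaf (.up 1 107 1)) (.leaf (.up 3 1004 1))))) (.node (.node (.node (.leaf (.root 2850)) (.leaf (.up 3 712 0))) (.node (.leaf (.up 3 893 1)) (.leaf (.up 4 1731 2)))) (.node (.node (.leaf (.up 4 474 2)) (.leaf (.up 4 575 0))) (.node (.leaf (.up 3 1812 1)) (.leaf (.up 3 134 0)))))) (.node (.node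 (.node (.node (.leaf (.up 2 119 1)) (.leaf (.up 3 629 2))) (.node (.leaf (.up 2 718 1)) (.leaf (.up 2 329 1)))) (.node (.node (.leaf (.up 2 1165 0)) (.leaf (.up 3 1430 0))) (.node (.leaf (.up 4 1588 0)) (.leaf (.up 4 261 2))))) (.node (.node (.node (.leaf (.up 2 1800 1)) (.leaf (.up 4 1738 2))) (.node (.leaf (.up 2 1457 1)) (.leaf (.up 3 167 0)))) (.node (.node (.leaf (.up 3 865 1)) (.leaf (.up 1 230 1))) (.node (.leaf (.up 1 331 0)) (.leaf (.up 1 80 0)))))))) (.node (.node (.node (.node (.node (.node (.leaf (.root 4052)) (.leaf (.up 3 32 1))) (.node (.leaf (.up 3 1749 2)) (.leaf (.up 4 700 2)))) (.node (.node (.leaf (.up 4 1445 2)) (.leaf (.up 3 1754 0))) (.node (.leaf (.up 3 1400 0)) (.leaf (.up 3 1776 1))))) (.node (.node (.node (.leaf (.up 3 1240 1)) (.leaf (.up 2 338 0))) (.node (.leaf (.up 3 1633 1)) (.leaf (.up 3 1003 0)))) (.node (.node (.leaf (.up 3 190 0)) (.leaf (.up 3 421 0))) (.node (.leaf (.up 2 520 1)) (.leaf (.up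 3 796 0)))))) (.node (.node (.node (.node (.leaf (.root 5854)) (.leaf (.up 3 693 2))) (.node (.leaf (.up 2 2002 1)) (.leaf (.up 4 1090 0)))) (.node (.node (.leaf (.up 1 258 1)) (.leaf (.up 2 1371 2))) (.node (.leaf (.up 4 1452 2)) (.leaf (.up 1 60 1))))) (.node (.node (.node (.leaf (.up 4 611 2)) (.leaf (.up 2 403 1))) (.node (.leaf (.up 4 550 0)) (.leaf (.up 2 829 0)))) (.node (.node (.leaf (.up 1 104 0)) (.leaf (.up 4 484 2))) (.node (.leaf (.up 2 721 0)) (.leaf (.up 2 1402 2))))))) (.node (.node (.node (.node (.node (.leaf (.root 4312)) (.leaf (.up 3 150 1))) (.node (.leaf (.up 2 1337 0)) (.leaf (.up 2 1699 2)))) (.node (.node (.leaf (.root 5130)) (.leaf (.up 3 1644 0))) (.node (.leaf (.up 3 1473 1)) (.leaf (.up 2 333 2))))) (.node (.node (.node (.leaf (.up 4 747 2)) (.leaf (.up 2 2025 1))) (.node (.leaf (.up 4 1653 2)) (.leaf (.up 3 1360 1)))) (.node (.node (.leaf (.up 1 7 1)) (.leaf (.up 4 364 2))) (.node (.leaf (.up 2 702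 1)) (.leaf (.up 3 938 0)))))) (.node (.node (.node (.node (.leaf (.up 2 1501 1)) (.leaf (.up 4 1613 0))) (.node (.leaf (.up 3 1629 2)) (.leaf (.up 2 1251 1)))) (.node (.node (.leaf (.up 3 1953 0)) (.leaf (.up 1 324 2))) (.node (.leaf (.up 4 435 2)) (.leaf (.up 3 138 1))))) (.node (.node (.node (.leaf (.up 1 41 0)) (.leaf (.up 3 306 0))) (.node (.leaf (.up 4 738 2)) (.leaf (.up 2 924 1)))) (.node (.node (.leaf (.up 1 222 0)) (.leaf (.up 3 453 0))) (.node (.leaf (.up 2 615 0)) (.leaf (.up 2 2037 1))))))))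

noncomputable def vt5_3_0001 : Tr VStep :=
  .node (.node (.node (.node (.node (.node (.node (.leaf (.up 2 432 0)) (.leaf (.up 3 171 0))) (.node (.leaf (.up 1 118 2)) (.leaf (.up 2 530 0)))) (.node (.node (.leaf (.up 3 328 1)) (.leaf (.up 1 92 0))) (.node (.leaf (.up 3 1009 1)) (.leaf (.up 1 118 1))))) (.node (.node (.node (.leaf (.up 3 1743 0)) (.leaf (.up 2 2004 0))) (.node (.leaf (.up 2 1142 0)) (.leaf (.up 1 160 2)))) (.node (.node (.leaf (.up 2 1592 0)) (.leaf (.up 3 1827 0))) (.node (.leaf (.up 3 1166 1)) (.leaf (.up 2 1870 2)))))) (.node (.node (.node (.node (.leaf (.root 3792)) (.leaf (.up 2 125 0))) (.node (.leaf (.up 2 991 0)) (.leaf (.up 4 708 0)))) (.node (.node (.leaf (.up 2 1937 2)) (.leaf (.up 3 138 0))) (.node (.leaf (.up 3 808 0)) (.leaf (.up 3 1894 2))))) (.node (.node (.node (.leaf (.up 3 1170 1)) (.leaf (.up 3 169 2))) (.node (.leaf (.up 2 94 2)) (.leaf (.up 2 1467 0)))) (.node (.node (.leaf (.up 1 251 1)) (.leaf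 (.up 2 2037 0))) (.node (.leaf (.up 2 578 1)) (.leaf (.up 3 453 1))))))) (.node (.node (.node (.node (.node (.leaf (.root 3588)) (.leaf (.up 3 29 0))) (.node (.leaf (.up 3 1129 2)) (.leaf (.up 1 0 2)))) (.node (.node (.leaf (.up 2 1817 2)) (.leaf (.up 3 633 1))) (.node (.leaf (.up 2 903 2)) (.leaf (.up 1 192 1))))) (.node (.node (.node (.leaf (.up 3 1096 2)) (.leaf (.up 3 33 2))) (.node (.leaf (.up 3 81 1)) (.leaf (.up 3 1215 2)))) (.node (.node (.leaf (.up 3 934 2)) (.leaf (.up 3 1286 1))) (.node (.leaf (.up 2 1080 1)) (.leaf (.up 4 849 2)))))) (.node (.node (.node (.node (.leaf (.root 5156)) (.leaf (.up 1 9 2))) (.node (.leaf (.up 2 482 1)) (.leaf (.up 3 1175 2)))) (.node (.node (.leaf (.up 3 1842 1)) (.leaf (.up 1 60 0))) (.node (.leaf (.up 4 1808 2)) (.leaf (.up 2 889 2))))) (.node (.node (.node (.leaf (.up 2 223 2)) (.leaf (.up 3 1206 2))) (.node (.leaf (.up 2 1693 1)) (.leaf (.up 1 40 2)))) (.node (.node (.leaf (.up 1 77 1))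 (.leaf (.up 2 856 2))) (.node (.leaf (.up 2 756 1)) (.leaf (.up 4 1990 2)))))))) (.node (.node (.node (.node (.node (.node (.leaf (.root 3002)) (.leaf (.up 2 903 0))) (.node (.leaf (.up 3 562 1)) (.leaf (.up 1 192 2)))) (.node (.node (.leaf (.up 2 1250 1)) (.leaf (.up 3 1893 1))) (.node (.leaf (.up 4 210 0)) (.leaf (.up 3 457 0))))) (.node (.node (.node (.leaf (.up 3 1160 2)) (.leaf (.up 3 1272 0))) (.node (.leaf (.up 1 22 2)) (.leaf (.up 2 1601 0)))) (.node (.node (.leaf (.up 3 925 1)) (.leaf (.up 1 26 1))) (.node (.leaf (.up 3 292 1)) (.leaf (.up 4 1718 0)))))) (.node (.node (.node (.node (.leaf (.up 2 1607 1)) (.leaf (.up 2 1472 1))) (.node (.leaf (.up 1 62 2)) (.leaf (.up 2 488 0)))) (.node (.node (.leaf (.up 2 558 1)) (.leaf (.up 3 425 1))) (.node (.leaf (.up 1 4 0)) (.leaf (.up 2 953 2))))) (.node (.node (.node (.leaf (.up 3 31 2)) (.leaf (.up 2 1142 2))) (.node (.leaf (.up 3 1153 2)) (.leaf (.up 1 6 1)))) (.node (.node (.leaf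 (.up 2 1474 0)) (.leaf (.up 4 1750 1))) (.node (.leaf (.up 3 1915 0)) (.leaf (.up 3 1632 0))))))) (.node (.node (.node (.node (.node (.leaf (.up 2 61 1)) (.leaf (.up 1 65 2))) (.node (.leaf (.up 3 182 2)) (.leaf (.up 1 259 1)))) (.node (.node (.leaf (.up 2 1108 1)) (.leaf (.up 2 1967 2))) (.node (.leaf (.up 1 100 0)) (.leaf (.up 3 383 0))))) (.node (.node (.node (.leaf (.up 3 151 2)) (.leaf (.up 3 1221 1))) (.node (.leaf (.up 3 1033 2)) (.leaf (.up 3 1660 1)))) (.node (.node (.leaf (.up 4 1913 2)) (.leaf (.up 4 1209 0))) (.node (.leaf (.up 3 402 1)) (.leaf (.up 3 1934 2)))))) (.node (.node (.node (.node (.leaf (.up 2 1777 1)) (.leaf (.up 3 1238 2))) (.node (.leaf (.up 1 69 0)) (.leaf (.up 1 72 2)))) (.node (.node (.leaf (.up 2 664 1)) (.leaf (.up 2 824 2))) (.node (.leaf (.up 3 178 0)) (.leaf (.up 3 425 0))))) (.node (.node (.node (.leaf (.up 3 1024 2)) (.leaf (.up 2 105 2))) (.node (.leaf (.up 3 158 2)) (.leaf (.up 3 1569 0))))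 (.node (.node (.leaf (.up 2 1006 2)) (.leaf (.up 3 1632 1))) (.node (.leaf (.up 4 1904 2)) (.leaf (.up 4 1750 0))))))))

noncomputable def vt5_3_000 : Tr VStep := .node vt5_3_0000 vt5_3_0001

noncomputable def vt5_3_0010 : Tr VStep :=
  .node (.node (.node (.node (.node (.node (.node (.leaf (.root 5380)) (.leaf (.up 3 712 1))) (.node (.leaf (.up 3 175 2)) (.leaf (.up 4 1222 2)))) (.node (.node (.leaf (.up 2 991 2)) (.leaf (.up 2 1697 1))) (.node (.leaf (.up 3 278 0)) (.leaf (.up 1 13 0))))) (.node (.node (.node (.leaf (.up 3 1584 1)) (.leaf (.up 3 1255 2))) (.node (.leaf (.up 2 1694 0)) (.leaf (.up 1 121 2)))) (.node (.node (.leaf (.up 3 601 1)) (.leaf (.up 3 1483 0))) (.node (.leaf (.up 3 1641 0)) (.leaf (.up 3 1906 0)))))) (.node (.node (.node (.node (.leaf (.up 3 166 2)) (.leaf (.up 4 1231 2))) (.node (.leaf (.up 2 1338 1)) (.leaf (.up 1 44 0)))) (.node (.node (.leaf (.root 5162)) (.leaf (.up 2 109 1))) (.node (.leaf (.up 3 448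 0)) (.leaf (.up 2 219 0))))) (.node (.node (.node (.leaf (.up 4 1265 0)) (.leaf (.up 3 112 2))) (.node (.leaf (.up 3 135 2)) (.leaf (.up 2 450 1)))) (.node (.node (.leaf (.up 3 1030 0)) (.leaf (.up 3 1309 0))) (.node (.leaf (.up 4 1897 2)) (.leaf (.up 3 1451 1))))))) (.node (.node (.node (.node (.node (.leaf (.root 5798)) (.leaf (.up 3 757 0))) (.node (.leaf (.up 3 1200 2)) (.leaf (.up 2 199 1)))) (.node (.node (.leaf (.up 2 1984 2)) (.leaf (.up 2 1559 1))) (.node (.leaf (.up 3 1833 1)) (.leaf (.up 3 1198 1))))) (.node (.node (.node (.leaf (.root 6324)) (.leaf (.up 2 1281 1))) (.node (.leaf (.up 2 1576 0)) (.leaf (.up 2 1843 0)))) (.node (.node (.leaf (.up 4 895 2)) (.leaf (.up 4 1814 2))) (.node (.leaf (.up 1 86 1)) (.leaf (.up 4 904 2)))))) (.node (.node (.node (.node (.leaf (.root 5690)) (.leaf (.up 3 1202 1))) (.node (.leaf (.up 1 39 2)) (.leaf (.up 3 154 0)))) (.node (.node (.leaf (.up 3 860 1)) (.leaf (.up 2 219 1))) (.node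 (.leaf (.up 4 1993 2)) (.leaf (.up 2 109 0))))) (.node (.node (.node (.leaf (.up 1 6 2)) (.leaf (.up 3 1135 2))) (.node (.leaf (.up 4 1790 0)) (.leaf (.up 2 372 1)))) (.node (.node (.leaf (.up 3 1059 1)) (.leaf (.up 3 1451 0))) (.node (.leaf (.up 3 886 2)) (.leaf (.up 3 1309 1)))))))) (.node (.node (.node (.node (.node (.node (.leaf (.root 5004)) (.leaf (.up 3 1159 2))) (.node (.leaf (.up 3 1628 1)) (.leaf (.up 1 25 2)))) (.node (.node (.leaf (.up 3 131 0)) (.leaf (.up 4 873 2))) (.node (.leaf (.up 4 565 1)) (.leaf (.up 2 2039 2))))) (.node (.node (.node (.leaf (.up 2 922 1)) (.leaf (.up 3 29 1))) (.node (.leaf (.up 3 207 2)) (.leaf (.up 3 1190 2)))) (.node (.node (.leaf (.up 3 2035 1)) (.leaf (.up 4 1767 0))) (.node (.leaf (.up 3 1349 0)) (.leaf (.up 2 1741 1)))))) (.node (.node (.node (.node (.leaf (.up 3 162 0)) (.leaf (.up 1 16 2))) (.node (.leaf (.up 4 231 2)) (.leaf (.up 3 1166 2)))) (.node (.node (.leaf (.up 3 1600 1)) (.leaf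 (.up 1 334 0))) (.node (.leaf (.up 4 748 0)) (.leaf (.up 3 1918 1))))) (.node (.node (.node (.leaf (.up 1 198 2)) (.leaf (.up 3 1199 2))) (.node (.leaf (.up 3 1112 2)) (.leaf (.up 2 1128 1)))) (.node (.node (.leaf (.up 2 1832 2)) (.leaf (.up 2 1585 0))) (.node (.leaf (.up 4 950 2)) (.leaf (.up 1 1 1))))))) (.node (.node (.node (.node (.node (.leaf (.root 2762)) (.leaf (.up 2 2004 1))) (.node (.leaf (.up 1 111 2)) (.leaf (.up 3 1030 2)))) (.node (.node (.leaf (.up 1 53 0)) (.leaf (.up 2 1910 2))) (.node (.leaf (.up 4 652 0)) (.leaf (.up 3 260 1))))) (.node (.node (.node (.leaf (.up 1 78 2)) (.leaf (.up 3 171 1))) (.node (.leaf (.up 3 1232 2)) (.leaf (.up 2 530 1)))) (.node (.node (.leaf (.up 4 1952 2)) (.leaf (.up 3 1617 0))) (.node (.leaf (.up 3 1532 1)) (.leaf (.up 2 1659 1)))))) (.node (.node (.node (.node (.leaf (.up 1 20 0)) (.leaf (.up 3 1039 2))) (.node (.leaf (.up 1 38 1)) (.leaf (.up 2 929 1)))) (.node (.node (.leaf (.up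 1 227 0)) (.leaf (.up 3 504 0))) (.node (.leaf (.up 4 1103 1)) (.leaf (.up 4 1919 2))))) (.node (.node (.node (.leaf (.up 2 1504 1)) (.leaf (.up 3 1648 0))) (.node (.leaf (.up 1 71 2)) (.leaf (.up 2 1246 1)))) (.node (.node (.leaf (.up 3 1948 0)) (.leaf (.up 2 1671 0))) (.node (.leaf (.up 4 1961 2)) (.leaf (.up 2 183 1))))))))

noncomputable def vt5_3_0011 : Tr VStep :=
  .node (.node (.node (.node (.node (.node (.node (.leaf (.root 5626)) (.leaf (.up 2 2025 0))) (.node (.leaf (.up 2 218 1)) (.leaf (.up 3 1360 0)))) (.node (.node (.leaf (.up 4 1541 0)) (.leaf (.up 3 1421 1))) (.node (.leaf (.up 3 1203 1)) (.leaf (.up 4 340 2))))) (.node (.node (.node (.leaf (.up 2 1308 1)) (.leaf (.up 3 150 0))) (.node (.leaf (.up 3 1644 2)) (.leaf (.up 2 517 2)))) (.node (.node (.leaf (.up 2 1308 2)) (.leaf (.up 4 97 0))) (.node (.leaf (.up 2 386 2)) (.leaf (.up 2 75 1)))))) (.node (.node (.node (.node (.leaf (.up 3 1199 1)) (.leaf (.up 2 1832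 1))) (.node (.leaf (.up 2 1604 2)) (.leaf (.up 2 1425 1)))) (.node (.node (.leaf (.up 1 198 1)) (.leaf (.up 4 349 2))) (.node (.leaf (.up 4 1130 0)) (.leaf (.up 3 504 1))))) (.node (.node (.node (.leaf (.up 3 1637 2)) (.leaf (.up 3 524 2))) (.node (.leaf (.up 2 994 0)) (.leaf (.up 2 750 1)))) (.node (.node (.leaf (.up 2 428 0)) (.leaf (.up 2 183 0))) (.node (.leaf (.up 3 789 0)) (.leaf (.up 2 1671 1))))))) (.node (.node (.node (.node (.node (.leaf (.root 4336)) (.leaf (.up 2 338 1))) (.node (.leaf (.up 3 108 1)) (.leaf (.up 3 1003 1)))) (.node (.node (.leaf (.up 4 1724 1)) (.leaf (.up 3 1339 1))) (.node (.leaf (.up 4 1034 0)) (.leaf (.up 3 1922 1))))) (.node (.node (.node (.leaf (.up 3 1773 2)) (.leaf (.up 3 32 0))) (.node (.leaf (.up 4 1811 1)) (.leaf (.up 4 1562 2)))) (.node (.node (.leaf (.up 1 259 2)) (.leaf (.up 3 580 1))) (.node (.leaf (.up 3 890 1)) (.leaf (.up 4 622 0)))))) (.node (.node (.node (.node (.leaf (.up 2 1733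 2)) (.leaf (.up 3 1929 0))) (.node (.leaf (.up 3 1067 0)) (.leaf (.up 2 1319 1)))) (.node (.node (.leaf (.up 3 1637 0)) (.leaf (.up 3 1918 0))) (.node (.leaf (.up 4 713 1)) (.leaf (.up 1 334 1))))) (.node (.node (.node (.leaf (.up 3 634 2)) (.leaf (.up 3 1555 2))) (.node (.leaf (.up 3 1764 2)) (.leaf (.up 2 600 1)))) (.node (.node (.leaf (.up 3 1807 1)) (.leaf (.up 1 1 0))) (.node (.leaf (.up 2 266 2)) (.leaf (.up 2 1585 1)))))))) (.node (.node (.node (.node (.node (.node (.leaf (.root 3688)) (.leaf (.up 3 1221 0))) (.node (.leaf (.up 2 1392 1)) (.leaf (.up 3 1660 0)))) (.node (.node (.leaf (.up 4 1404 2)) (.leaf (.up 1 39 1))) (.node (.leaf (.up 2 482 2)) (.leaf (.up 2 1675 0))))) (.node (.node (.node (.leaf (.up 3 182 1)) (.leaf (.up 3 580 2))) (.node (.leaf (.up 1 24 0)) (.leaf (.up 1 259 0)))) (.node (.node (.leaf (.up 3 1247 1)) (.leaf (.up 3 1880 1))) (.node (.leaf (.up 1 239 0)) (.leaf (.up 2 308 2)))))) (.node (.node (.node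 (.node (.leaf (.root 3222)) (.leaf (.up 2 642 1))) (.node (.leaf (.up 2 956 1)) (.leaf (.up 2 1778 2)))) (.node (.node (.leaf (.up 2 491 2)) (.leaf (.up 2 1771 1))) (.node (.leaf (.up 2 1397 2)) (.leaf (.up 3 1629 0))))) (.node (.node (.node (.leaf (.up 4 631 0)) (.leaf (.up 3 1747 2))) (.node (.leaf (.up 3 1572 2)) (.leaf (.up 3 589 2)))) (.node (.node (.leaf (.up 2 1364 2)) (.leaf (.up 4 317 2))) (.node (.leaf (.up 3 170 1)) (.leaf (.up 2 1443 2))))))) (.node (.node (.node (.node (.node (.leaf (.root 3680)) (.leaf (.up 3 1272 1))) (.node (.leaf (.up 2 1478 1)) (.leaf (.up 2 1601 1)))) (.node (.node (.leaf (.up 4 355 2)) (.leaf (.up 2 145 1))) (.node (.leaf (.up 3 431 1)) (.leaf (.up 2 1597 0))))) (.node (.node (.node (.leaf (.up 1 0 1)) (.leaf (.up 2 903 1))) (.node (.leaf (.up 3 174 0)) (.leaf (.up 3 709 2)))) (.node (.node (.leaf (.up 3 736 0)) (.leaf (.up 3 2030 1))) (.node (.leaf (.up 1 89 0)) (.leaf (.up 3 322 0)))))) (.node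 (.node (.node (.node (.leaf (.root 3914)) (.leaf (.up 2 564 1))) (.node (.leaf (.up 2 778 1)) (.leaf (.up 2 749 2)))) (.node (.node (.leaf (.up 3 1353 0)) (.leaf (.up 3 1629 1))) (.node (.leaf (.up 3 1891 1)) (.leaf (.up 2 1771 0))))) (.node (.node (.node (.leaf (.up 3 1701 2)) (.leaf (.up 3 716 2))) (.node (.leaf (.up 3 571 2)) (.leaf (.up 2 2034 1)))) (.node (.node (.leaf (.up 1 331 2)) (.leaf (.up 2 1314 2))) (.node (.leaf (.up 1 28 1)) (.leaf (.up 4 444 2))))))))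

noncomputable def vt5_3_001 : Tr VStep := .node vt5_3_0010 vt5_3_0011

noncomputable def vt5_3_00 : Tr VStep := .node vt5_3_000 vt5_3_001

noncomputable def vt5_3_0100 : Tr VStep :=
  .node (.node (.node (.node (.node (.node (.node (.leaf (.root 2599)) (.leaf (.up 2 1169 1))) (.node (.leaf (.up 3 1242 2)) (.leaf (.up 2 1576 1)))) (.node (.node (.leaf (.root 4214)) (.leaf (.up 4 1649 0))) (.node (.leaf (.up 3 454 1)) (.leaf (.up 2 577 1))))) (.node (.node (.node (.leaf (.up 2 105 1)) (.leaf (.up 2 1006 1))) (.node (.leaf (.up 1 101 2)) (.leaf (.up 3 1036 2)))) (.node (.node (.leaf (.up 1 21 0)) (.leaf (.up 3 270 0))) (.node (.leaf (.up 3 1931 2)) (.leaf (.up 2 994 2)))))) (.node (.node (.node (.node (.leaf (.root 5184)) (.leaf (.up 3 186 2))) (.node (.leaf (.up 1 77 2)) (.leaf (.up 2 228 1)))) (.node (.node (.leaf (.up 2 829 2)) (.leaf (.up 4 1588 1))) (.node (.leaf (.up 3 1285 0)) (.leaf (.up 2 1165 1))))) (.node (.node (.node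 (.leaf (.up 1 52 0)) (.leaf (.up 2 1314 1))) (.node (.leaf (.up 2 1266 2)) (.leaf (.up 3 155 2)))) (.node (.node (.leaf (.up 1 195 0)) (.leaf (.up 1 331 1))) (.node (.leaf (.up 1 117 1)) (.leaf (.up 3 865 0))))))) (.node (.node (.node (.node (.node (.leaf (.root 4614)) (.leaf (.up 3 1584 0))) (.node (.leaf (.up 3 197 2)) (.leaf (.up 2 1694 1)))) (.node (.node (.leaf (.up 3 2012 0)) (.leaf (.up 1 78 1))) (.node (.leaf (.up 2 1835 2)) (.leaf (.up 4 1150 0))))) (.node (.node (.node (.leaf (.up 2 223 1)) (.leaf (.up 2 856 1))) (.node (.leaf (.up 2 749 0)) (.leaf (.up 1 19 2)))) (.node (.node (.leaf (.up 3 163 0)) (.leaf (.up 3 1841 1))) (.node (.leaf (.up 4 538 0)) (.leaf (.up 2 2045 2)))))) (.node (.node (.node (.node (.leaf (.root 3944)) (.leaf (.up 2 1766 0))) (.node (.leaf (.up 3 1106 2)) (.leaf (.up 2 82 1)))) (.node (.node (.leaf (.up 3 1285 1)) (.leaf (.up 4 1553 0))) (.node (.leaf (.up 2 956 2)) (.leaf (.up 2 1083 1))))) (.node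 (.node (.node (.leaf (.up 3 130 0)) (.leaf (.up 1 26 2))) (.node (.leaf (.up 3 1194 1)) (.leaf (.up 2 800 0)))) (.node (.node (.leaf (.up 1 117 0)) (.leaf (.up 3 509 1))) (.node (.leaf (.up 1 195 1)) (.leaf (.up 2 874 2)))))))) (.node (.node (.node (.node (.node (.node (.leaf (.root 3472)) (.leaf (.up 3 242 2))) (.node (.leaf (.up 1 5 1)) (.leaf (.up 4 1811 0)))) (.node (.node (.leaf (.up 3 1749 1)) (.leaf (.up 3 1373 0))) (.node (.leaf (.up 2 2027 2)) (.leaf (.up 2 2027 1))))) (.node (.node (.node (.leaf (.up 1 36 2)) (.leaf (.up 2 1604 1))) (.node (.leaf (.up 3 1210 2)) (.leaf (.up 3 108 0)))) (.node (.node (.leaf (.up 2 1994 2)) (.leaf (.up 2 557 1))) (.node (.leaf (.up 3 787 1)) (.leaf (.up 3 155 0)))))) (.node (.node (.node (.node (.leaf (.up 1 12 2)) (.leaf (.up 2 2039 1))) (.node (.leaf (.up 3 1170 2)) (.leaf (.up 1 251 2)))) (.node (.node (.leaf (.up 1 25 1)) (.leaf (.up 4 907 2))) (.node (.leaf (.up 4 892 2)) (.leaf (.up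 3 1842 0))))) (.node (.node (.node (.leaf (.up 3 1203 2)) (.leaf (.up 2 218 2))) (.node (.leaf (.up 3 45 2)) (.leaf (.up 3 186 0)))) (.node (.node (.leaf (.up 3 1894 1)) (.leaf (.up 2 756 0))) (.node (.leaf (.up 3 342 0)) (.leaf (.up 1 77 0))))))) (.node (.node (.node (.node (.node (.leaf (.up 2 1031 0)) (.leaf (.up 2 1308 0))) (.node (.leaf (.up 2 1050 2)) (.leaf (.up 1 115 2)))) (.node (.node (.leaf (.up 2 1898 2)) (.leaf (.up 2 771 2))) (.node (.leaf (.up 3 1609 0)) (.leaf (.up 2 1949 2))))) (.node (.node (.node (.leaf (.up 2 1397 1)) (.leaf (.up 2 1778 1))) (.node (.leaf (.up 3 165 2)) (.leaf (.up 2 218 0)))) (.node (.node (.leaf (.up 3 911 0)) (.leaf (.up 2 667 1))) (.node (.leaf (.up 2 1867 2)) (.leaf (.up 1 34 1)))))) (.node (.node (.node (.node (.leaf (.up 2 1233 0)) (.leaf (.up 3 122 2))) (.node (.leaf (.up 4 1640 0)) (.leaf (.up 2 1907 0)))) (.node (.node (.leaf (.up 3 175 1)) (.leaf (.up 3 808 1))) (.node (.leaf (.up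 3 1891 2)) (.leaf (.up 2 778 2))))) (.node (.node (.node (.leaf (.up 2 953 1)) (.leaf (.up 1 62 1))) (.node (.leaf (.up 3 1074 2)) (.leaf (.up 1 12 0)))) (.node (.node (.leaf (.up 3 2000 1)) (.leaf (.up 2 578 0))) (.node (.leaf (.up 4 988 2)) (.leaf (.up 1 251 0))))))))

noncomputable def vt5_3_0101 : Tr VStep :=
  .node (.node (.node (.node (.node (.node (.node (.leaf (.root 3128)) (.leaf (.up 3 1617 2))) (.node (.leaf (.up 3 1702 2)) (.leaf (.up 3 719 2)))) (.node (.node (.leaf (.up 1 83 1)) (.leaf (.up 3 987 0))) (.node (.leaf (.up 1 121 0)) (.leaf (.up 4 1313 2))))) (.node (.node (.node (.leaf (.up 2 837 1)) (.leaf (.up 2 194 1))) (.node (.leaf (.up 2 508 1)) (.leaf (.up 3 1648 2)))) (.node (.node (.leaf (.up 4 361 2)) (.leaf (.up 3 1195 1))) (.node (.leaf (.up 3 1429 1)) (.leaf (.up 1 414 2)))))) (.node (.node (.node (.node (.leaf (.up 4 737 0)) (.leaf (.up 2 369 1))) (.node (.leaf (.up 3 561 2)) (.leaf (.up 3 1624 2)))) (.node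 (.node (.leaf (.up 1 321 2)) (.leaf (.up 4 1320 2))) (.node (.leaf (.up 3 175 0)) (.leaf (.up 3 1953 1))))) (.node (.node (.node (.leaf (.root 2986)) (.leaf (.up 3 1157 0))) (.node (.leaf (.up 3 1840 1)) (.leaf (.up 3 1207 1)))) (.node (.node (.leaf (.up 4 1534 2)) (.leaf (.up 2 615 1))) (.node (.leaf (.up 3 2000 0)) (.leaf (.up 1 222 1))))))) (.node (.node (.node (.node (.node (.leaf (.root 3600)) (.leaf (.up 2 922 0))) (.node (.leaf (.up 3 697 2)) (.leaf (.up 3 1744 2)))) (.node (.node (.leaf (.up 1 229 1)) (.leaf (.up 3 866 1))) (.node (.leaf (.up 3 604 1)) (.leaf (.up 3 468 0))))) (.node (.node (.node (.leaf (.up 2 1011 1)) (.leaf (.up 2 116 1))) (.node (.leaf (.up 2 330 1)) (.leaf (.up 3 1628 0)))) (.node (.node (.leaf (.up 3 1289 0)) (.leaf (.up 2 1053 1))) (.node (.leaf (.up 2 488 2)) (.leaf (.up 3 1409 2)))))) (.node (.node (.node (.node (.leaf (.up 3 576 1)) (.leaf (.up 3 1753 2))) (.node (.leaf (.up 4 238 0)) (.leaf (.up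 3 583 2)))) (.node (.node (.leaf (.up 4 1374 2)) (.leaf (.up 4 311 2))) (.node (.leaf (.up 1 25 0)) (.leaf (.up 1 258 0))))) (.node (.node (.node (.leaf (.up 2 1343 1)) (.leaf (.up 4 614 2))) (.node (.leaf (.up 2 1937 0)) (.leaf (.up 4 1674 0)))) (.node (.node (.leaf (.up 3 342 1)) (.leaf (.up 2 721 1))) (.node (.leaf (.up 3 1894 0)) (.leaf (.up 1 104 1)))))))) (.node (.node (.node (.node (.node (.node (.leaf (.root 6410)) (.leaf (.up 1 0 0))) (.node (.leaf (.up 3 633 2)) (.leaf (.up 3 174 1)))) (.node (.node (.leaf (.up 4 265 2)) (.leaf (.up 4 247 0))) (.node (.leaf (.up 4 1431 2)) (.leaf (.up 2 1223 1))))) (.node (.node (.node (.leaf (.up 2 1775 1)) (.leaf (.up 2 1384 1))) (.node (.leaf (.up 3 1110 1)) (.leaf (.up 2 1478 0)))) (.node (.node (.leaf (.up 4 1683 0)) (.leaf (.up 3 1928 0))) (.node (.leaf (.up 1 63 1)) (.leaf (.up 4 1345 2)))))) (.node (.node (.node (.node (.leaf (.root 5766)) (.leaf (.up 3 1561 2))) (.node (.leaf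 (.up 3 1774 2)) (.leaf (.up 3 647 2)))) (.node (.node (.leaf (.up 2 1438 2)) (.leaf (.up 3 178 1))) (.node (.leaf (.up 3 396 1)) (.leaf (.up 2 664 0))))) (.node (.node (.node (.leaf (.up 1 35 1)) (.leaf (.up 2 932 1))) (.node (.leaf (.up 4 593 2)) (.leaf (.up 2 1592 2)))) (.node (.node (.leaf (.up 3 1605 0)) (.leaf (.up 4 1352 2))) (.node (.leaf (.up 4 1779 1)) (.leaf (.up 2 470 2))))))) (.node (.node (.node (.node (.node (.leaf (.up 2 429 0)) (.leaf (.up 3 182 0))) (.node (.leaf (.up 3 1638 2)) (.leaf (.up 1 24 1)))) (.node (.node (.leaf (.up 3 346 0)) (.leaf (.up 1 65 0))) (.node (.leaf (.up 3 392 2)) (.leaf (.up 2 1137 1))))) (.node (.node (.node (.leaf (.up 2 1625 1)) (.leaf (.up 2 1502 1))) (.node (.leaf (.up 3 1131 0)) (.leaf (.up 2 1392 0)))) (.node (.node (.leaf (.up 3 425 2)) (.leaf (.up 2 1472 2))) (.node (.leaf (.up 4 1180 0)) (.leaf (.up 3 1415 0)))))) (.node (.node (.node (.node (.leaf (.up 2 2026 1)) (.leaf (.up 3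 518 2))) (.node (.leaf (.up 2 962 0)) (.leaf (.up 3 1688 2)))) (.node (.node (.leaf (.up 3 396 0)) (.leaf (.up 1 4 1))) (.node (.leaf (.up 2 1311 2)) (.leaf (.up 2 558 0))))) (.node (.node (.node (.leaf (.up 3 149 1)) (.leaf (.up 3 786 1))) (.node (.leaf (.up 4 1614 2)) (.leaf (.up 2 1446 0)))) (.node (.node (.leaf (.up 4 1779 0)) (.leaf (.up 3 1915 1))) (.node (.leaf (.up 3 1605 1)) (.leaf (.up 2 1474 1))))))))

noncomputable def vt5_3_010 : Tr VStep := .node vt5_3_0100 vt5_3_0101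

noncomputable def vt5_3_0110 : Tr VStep :=
  .node (.node (.node (.node (.node (.node (.node (.leaf (.root 4882)) (.leaf (.up 2 979 1))) (.node (.leaf (.up 2 749 1)) (.leaf (.up 3 893 0)))) (.node (.node (.leaf (.up 1 40 0)) (.leaf (.up 2 358 2))) (.node (.leaf (.up 2 1668 1)) (.leaf (.up 4 1528 2))))) (.node (.node (.node (.leaf (.up 2 1835 1)) (.leaf (.up 2 567 2))) (.node (.leaf (.up 3 704 2)) (.leaf (.up 3 1026 0)))) (.node (.node (.leaf (.up 2 432 2)) (.leaf (.up 3 1612 0))) (.node (.leaf (.up 3 507 1)) (.leaf (.up 3 636 1)))))) (.node (.node (.node (.node (.leaf (.up 1 9 0)) (.leaf (.up 2 1311 1))) (.node (.leaf (.up 3 1057 1)) (.leaf (.up 3 939 0)))) (.node (.node (.leaf (.up 2 254 0)) (.leaf (.up 4 1521 2))) (.node (.leaf (.up 1 72 1)) (.leaf (.up 3 860 0))))) (.node (.node (.node (.leaf (.root 2786)) (.leaf (.up 3 608 1))) (.node (.leaf (.up 3 1623 2)) (.leaf (.up 4 1236 0)))) (.node (.node (.leaf (.up 2 1319 2)) (.leaf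 (.up 1 334 2))) (.node (.leaf (.up 3 1336 0)) (.leaf (.up 3 1059 0))))))) (.node (.node (.node (.node (.node (.leaf (.root 5814)) (.leaf (.up 2 869 1))) (.node (.leaf (.up 3 608 2)) (.leaf (.up 3 476 1)))) (.node (.node (.leaf (.up 3 1163 1)) (.leaf (.up 3 389 0))) (.node (.leaf (.up 2 1586 1)) (.leaf (.up 4 487 2))))) (.node (.node (.node (.leaf (.up 2 1949 1)) (.leaf (.up 2 1050 1))) (.node (.leaf (.up 3 1759 2)) (.leaf (.up 2 1699 1)))) (.node (.node (.leaf (.up 3 2017 0)) (.leaf (.up 1 115 1))) (.node (.leaf (.up 2 333 1)) (.leaf (.up 4 1368 2)))))) (.node (.node (.node (.node (.leaf (.up 2 617 2)) (.leaf (.up 3 1449 1))) (.node (.leaf (.up 3 1175 1)) (.leaf (.up 2 797 0)))) (.node (.node (.leaf (.up 1 72 0)) (.leaf (.up 3 448 1))) (.node (.leaf (.up 2 254 1)) (.leaf (.up 2 889 1))))) (.node (.node (.node (.leaf (.root 3210)) (.leaf (.up 4 1755 0))) (.node (.leaf (.up 3 584 2)) (.leaf (.up 1 111 1)))) (.node (.node (.leaf (.up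 3 1336 1)) (.leaf (.up 4 1361 2))) (.node (.leaf (.up 2 1446 2)) (.leaf (.up 3 1030 1)))))))) (.node (.node (.node (.node (.node (.node (.leaf (.root 2890)) (.leaf (.up 3 599 2))) (.node (.leaf (.up 2 330 0)) (.leaf (.up 3 81 0)))) (.node (.node (.leaf (.up 2 464 2)) (.leaf (.up 4 528 1))) (.node (.leaf (.up 3 814 1)) (.leaf (.up 3 166 0))))) (.node (.node (.node (.leaf (.up 2 641 1)) (.leaf (.up 2 262 1))) (.node (.leaf (.up 3 1567 2)) (.leaf (.up 3 630 2)))) (.node (.node (.leaf (.up 2 1768 1)) (.leaf (.up 2 262 2))) (.node (.leaf (.up 4 1730 0)) (.leaf (.up 2 1432 2)))))) (.node (.node (.node (.node (.leaf (.root 2754)) (.leaf (.up 2 1728 2))) (.node (.leaf (.up 4 1591 2)) (.leaf (.up 3 135 0)))) (.node (.node (.leaf (.up 2 1351 2)) (.leaf (.up 4 713 0))) (.node (.leaf (.up 4 473 2)) (.leaf (.up 3 1637 1))))) (.node (.node (.node (.leaf (.up 2 1101 1)) (.leaf (.up 2 1994 1))) (.node (.leaf (.up 3 648 2)) (.leaf (.up 3 1761 2))))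 (.node (.node (.leaf (.up 1 36 1)) (.leaf (.up 2 1425 2))) (.node (.leaf (.up 2 1556 0)) (.leaf (.up 3 1807 0))))))) (.node (.node (.node (.node (.node (.leaf (.root 3582)) (.leaf (.up 3 1743 1))) (.node (.leaf (.up 2 508 0)) (.leaf (.up 2 1142 1)))) (.node (.node (.leaf (.up 3 946 0)) (.leaf (.up 4 681 0))) (.node (.leaf (.up 4 337 2)) (.leaf (.up 1 16 0))))) (.node (.node (.node (.leaf (.up 2 567 1)) (.leaf (.up 2 432 1))) (.node (.leaf (.up 3 512 2)) (.leaf (.up 3 1641 2)))) (.node (.node (.leaf (.up 2 1630 1)) (.leaf (.up 3 1494 0))) (.node (.leaf (.up 3 1652 0)) (.leaf (.up 3 1903 0)))))) (.node (.node (.node (.node (.leaf (.root 5598)) (.leaf (.up 1 3 1))) (.node (.leaf (.up 2 298 0)) (.leaf (.up 2 1601 2)))) (.node (.node (.leaf (.up 3 2029 1)) (.leaf (.up 4 1130 1))) (.node (.leaf (.up 2 1364 1)) (.leaf (.up 1 198 0))))) (.node (.node (.node (.leaf (.up 2 1275 1)) (.leaf (.up 3 1632 2))) (.node (.leaf (.up 3 1687 2)) (.leaf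 (.up 2 1870 0)))) (.node (.node (.leaf (.up 2 146 1)) (.leaf (.up 3 789 1))) (.node (.leaf (.up 2 1698 0)) (.leaf (.up 2 428 1))))))))

noncomputable def vt5_3_0111 : Tr VStep :=
  .node (.node (.node (.node (.node (.node (.node (.leaf (.root 4688)) (.leaf (.up 4 1268 2))) (.node (.leaf (.up 3 1027 2)) (.leaf (.up 4 106 2)))) (.node (.node (.leaf (.up 2 1907 2)) (.leaf (.up 3 1174 1))) (.node (.leaf (.up 4 1005 2)) (.leaf (.up 4 1568 0))))) (.node (.node (.node (.leaf (.up 2 1031 1)) (.leaf (.up 2 1920 1))) (.node (.leaf (.up 2 188 2)) (.leaf (.up 2 1337 1)))) (.node (.node (.leaf (.up 2 110 1)) (.leaf (.up 3 998 0))) (.node (.leaf (.up 4 68 0)) (.leaf (.up 2 336 1)))))) (.node (.node (.node (.node (.leaf (.root 3050)) (.leaf (.up 4 99 2))) (.node (.leaf (.up 3 148 2)) (.leaf (.up 3 1162 1)))) (.node (.node (.leaf (.root 4964)) (.leaf (.up 4 1103 0))) (.node (.leaf (.up 3 2029 0)) (.leaf (.up 1 227 1))))) (.node (.node (.node (.leaf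 (.up 2 715 1)) (.leaf (.up 2 332 1))) (.node (.leaf (.up 1 101 0)) (.leaf (.up 1 66 2)))) (.node (.node (.leaf (.up 2 1698 1)) (.leaf (.up 4 818 2))) (.node (.leaf (.up 2 146 0)) (.leaf (.up 3 1948 1))))))) (.node (.node (.node (.node (.node (.leaf (.up 3 1154 2)) (.leaf (.up 3 1240 0))) (.node (.leaf (.up 1 28 2)) (.leaf (.up 3 1633 0)))) (.node (.node (.leaf (.up 3 1332 0)) (.leaf (.up 4 1071 0))) (.node (.leaf (.up 2 2034 2)) (.leaf (.up 4 1689 1))))) (.node (.node (.node (.leaf (.up 2 1201 1)) (.leaf (.up 2 1846 1))) (.node (.leaf (.up 1 5 0)) (.leaf (.up 1 202 2)))) (.node (.node (.leaf (.up 4 587 0)) (.leaf (.up 3 863 1))) (.node (.leaf (.up 3 609 1)) (.leaf (.up 4 1828 2)))))) (.node (.node (.node (.node (.leaf (.up 1 21 2)) (.leaf (.up 3 1669 1))) (.node (.leaf (.up 3 1163 2)) (.leaf (.up 4 226 2)))) (.node (.node (.leaf (.up 4 2043 2)) (.leaf (.up 4 748 1))) (.node (.leaf (.up 2 869 2)) (.leaf (.up 3 1600 0))))) (.node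 (.node (.node (.leaf (.up 3 1194 2)) (.leaf (.up 1 195 2))) (.node (.leaf (.up 1 52 2)) (.leaf (.up 2 456 0)))) (.node (.node (.leaf (.up 2 1556 1)) (.leaf (.up 4 1837 2))) (.node (.leaf (.up 1 36 0)) (.leaf (.up 2 947 2)))))))) (.node (.node (.node (.node (.node (.node (.leaf (.root 4296)) (.leaf (.up 3 43 2))) (.node (.leaf (.up 3 1131 1)) (.leaf (.up 3 1205 2)))) (.node (.node (.leaf (.up 2 1710 0)) (.leaf (.up 3 1973 0))) (.node (.leaf (.up 1 2 1)) (.leaf (.up 4 859 2))))) (.node (.node (.node (.leaf (.up 2 429 1)) (.leaf (.up 2 61 0))) (.node (.leaf (.up 3 1123 2)) (.leaf (.up 1 10 2)))) (.node (.node (.leaf (.root 3726)) (.leaf (.up 1 202 0))) (.node (.leaf (.up 3 1917 1)) (.leaf (.up 4 2020 2)))))) (.node (.node (.node (.node (.leaf (.up 1 30 1)) (.leaf (.up 3 1212 2))) (.node (.leaf (.up 4 1099 2)) (.leaf (.up 1 34 2)))) (.node (.node (.leaf (.up 2 1656 0)) (.leaf (.up 3 1891 0))) (.node (.leaf (.up 2 1742 1)) (.leaf (.up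 3 1353 1))))) (.node (.node (.node (.leaf (.root 3282)) (.leaf (.up 1 3 2))) (.node (.leaf (.up 3 244 2)) (.leaf (.up 4 594 0)))) (.node (.node (.leaf (.up 4 900 2)) (.leaf (.up 1 28 0))) (.node (.leaf (.up 3 433 1)) (.leaf (.up 3 883 2))))))) (.node (.node (.node (.node (.node (.leaf (.root 4524)) (.leaf (.up 3 1076 2))) (.node (.leaf (.up 3 1110 0)) (.leaf (.up 3 170 2)))) (.node (.node (.leaf (.up 2 1560 0)) (.leaf (.up 3 1795 0))) (.node (.leaf (.up 2 180 1)) (.leaf (.up 3 1466 0))))) (.node (.node (.node (.leaf (.up 2 283 1)) (.leaf (.up 2 668 1))) (.node (.leaf (.up 1 124 2)) (.leaf (.up 3 562 0)))) (.node (.node (.leaf (.up 4 780 2)) (.leaf (.up 1 124 0))) (.node (.leaf (.up 4 1938 2)) (.leaf (.up 3 709 0)))))) (.node (.node (.node (.node (.leaf (.up 4 1593 0)) (.leaf (.up 3 163 2))) (.node (.leaf (.up 4 84 2)) (.leaf (.up 3 1085 2)))) (.node (.node (.leaf (.up 2 1742 0)) (.leaf (.up 2 1869 2))) (.node (.leaf (.up 2 1656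 1)) (.leaf (.up 2 979 2))))) (.node (.node (.node (.leaf (.up 1 117 2)) (.leaf (.up 4 93 0))) (.node (.leaf (.up 3 1259 2)) (.leaf (.up 3 130 2)))) (.node (.node (.leaf (.up 3 433 0)) (.leaf (.up 3 170 0))) (.node (.leaf (.up 4 773 2)) (.leaf (.up 2 1900 2))))))))

noncomputable def vt5_3_011 : Tr VStep := .node vt5_3_0110 vt5_3_0111

noncomputable def vt5_3_01 : Tr VStep := .node vt5_3_010 vt5_3_011

noncomputable def vt5_3_0 : Tr VStep := .node vt5_3_00 vt5_3_01

noncomputable def vt5_3_1000 : Tr VStep :=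
  .node (.node (.node (.node (.node (.node (.node (.leaf (.root 4378)) (.leaf (.up 3 1122 2))) (.node (.leaf (.up 3 1173 2)) (.leaf (.up 2 1733 1)))) (.node (.node (.leaf (.up 4 2021 2)) (.leaf (.up 1 21 1))) (.node (.leaf (.up 3 1954 0)) (.leaf (.up 3 1810 2))))) (.node (.node (.node (.leaf (.up 4 1204 2)) (.leaf (.up 2 771 1))) (.node (.leaf (.up 1 42 0)) (.leaf (.up 4 442 1)))) (.node (.node (.leaf (.up 2 612 0)) (.leaf (.up 2 1898 1))) (.node (.leaf (.up 4 1620 1)) (.leaf (.up 3 454 0)))))) (.node (.node (.node (.node (.leaf (.root 3786)) (.leaf (.up 3 1057 0))) (.node (.leaf (.up 1 2 2)) (.leaf (.up 1 9 1)))) (.node (.node (.leaf (.root 3034)) (.leaf (.up 3 1753 1))) (.node (.leaf (.up 3 2023 1)) (.leaf (.up 4 1120 1))))) (.node (.node (.node (.leaf (.up 1 35 2)) (.leaf (.up 3 1098 2))) (.node (.leaf (.up 4 1265 1)) (.leaf (.up 2 1910 1)))) (.node (.node (.leaf (.up 4 545 1)) (.leaf (.up 2 932 2))) (.node (.leaf (.up 4 11 0))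 (.leaf (.up 3 799 1))))))) (.node (.node (.node (.node (.node (.leaf (.up 2 1869 1)) (.leaf (.up 2 125 2))) (.node (.leaf (.up 3 138 2)) (.leaf (.up 2 1251 2)))) (.node (.node (.leaf (.up 4 1018 2)) (.leaf (.up 3 163 1))) (.node (.leaf (.up 3 1812 0)) (.leaf (.up 4 538 1))))) (.node (.node (.node (.leaf (.up 3 171 2)) (.leaf (.up 3 1218 2))) (.node (.leaf (.up 2 651 1)) (.leaf (.up 1 92 2)))) (.node (.node (.leaf (.up 4 1115 1)) (.leaf (.up 3 2012 1))) (.node (.leaf (.up 1 107 0)) (.leaf (.up 2 1970 2)))))) (.node (.node (.node (.node (.leaf (.up 3 131 2)) (.leaf (.up 3 1175 0))) (.node (.leaf (.up 2 824 1)) (.leaf (.up 2 116 2)))) (.node (.node (.leaf (.up 3 1512 1)) (.leaf (.up 4 1120 0))) (.node (.leaf (.up 2 1011 2)) (.leaf (.up 3 1753 0))))) (.node (.node (.node (.leaf (.up 4 1790 1)) (.leaf (.up 3 85 2))) (.node (.leaf (.up 3 162 2)) (.leaf (.up 2 1984 1)))) (.node (.node (.leaf (.up 4 516 0)) (.leaf (.up 3 799 0))) (.node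 (.leaf (.up 4 46 1)) (.leaf (.up 2 805 2)))))))) (.node (.node (.node (.node (.node (.node (.leaf (.root 4816)) (.leaf (.up 2 470 1))) (.node (.leaf (.up 3 232 1)) (.leaf (.up 3 1059 2)))) (.node (.node (.leaf (.up 2 1592 1)) (.leaf (.up 4 1875 2))) (.node (.leaf (.up 3 1166 0)) (.leaf (.up 3 1429 0))))) (.node (.node (.node (.leaf (.up 1 107 2)) (.leaf (.up 1 164 0))) (.node (.leaf (.up 3 1269 2)) (.leaf (.up 4 156 2)))) (.node (.node (.leaf (.up 3 328 0)) (.leaf (.up 1 83 0))) (.node (.leaf (.up 3 1009 0)) (.leaf (.up 1 121 1)))))) (.node (.node (.node (.node (.leaf (.up 2 67 2)) (.leaf (.up 3 1066 2))) (.node (.leaf (.up 3 1199 0)) (.leaf (.up 2 1443 1)))) (.node (.node (.leaf (.up 3 1761 0)) (.leaf (.up 3 883 1))) (.node (.leaf (.up 3 589 1)) (.leaf (.up 3 1347 0))))) (.node (.node (.node (.leaf (.up 2 994 1)) (.leaf (.up 1 101 1))) (.node (.leaf (.up 1 98 2)) (.leaf (.up 2 715 0)))) (.node (.node (.leaf (.up 1 414 0)) (.leaf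 (.up 1 133 0))) (.node (.leaf (.up 3 1330 1)) (.leaf (.up 3 997 2))))))) (.node (.node (.node (.node (.node (.leaf (.up 3 1654 0)) (.leaf (.up 3 1186 2))) (.node (.leaf (.up 2 94 1)) (.leaf (.up 1 60 2)))) (.node (.node (.leaf (.up 3 1829 2)) (.leaf (.up 3 1289 1))) (.node (.leaf (.up 2 1080 0)) (.leaf (.up 2 2002 2))))) (.node (.node (.node (.leaf (.up 2 1432 1)) (.leaf (.up 1 18 0))) (.node (.leaf (.up 3 234 2)) (.leaf (.up 3 1190 1)))) (.node (.node (.leaf (.up 2 922 2)) (.leaf (.up 1 229 0))) (.node (.leaf (.up 2 1796 2)) (.leaf (.up 3 604 0)))))) (.node (.node (.node (.node (.leaf (.up 3 1067 1)) (.leaf (.up 1 53 2))) (.node (.leaf (.up 2 194 2)) (.leaf (.up 3 1195 2)))) (.node (.node (.leaf (.up 1 66 1)) (.leaf (.up 4 2011 2))) (.node (.leaf (.up 2 1262 0)) (.leaf (.up 2 837 2))))) (.node (.node (.node (.leaf (.up 1 227 2)) (.leaf (.up 3 1162 2))) (.node (.leaf (.up 3 1149 2)) (.leaf (.up 1 20 2)))) (.node (.node (.leaf (.up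 3 296 0)) (.leaf (.up 3 1210 1))) (.node (.leaf (.up 2 915 2)) (.leaf (.up 3 2042 2))))))))

noncomputable def vt5_3_1001 : Tr VStep :=
  .node (.node (.node (.node (.node (.node (.node (.leaf (.root 4130)) (.leaf (.up 2 1872 1))) (.node (.leaf (.up 3 767 0)) (.leaf (.up 4 996 0)))) (.node (.node (.leaf (.up 3 190 1)) (.leaf (.up 2 496 2))) (.node (.leaf (.up 2 520 0)) (.leaf (.up 3 787 0))))) (.node (.node (.node (.leaf (.up 3 1736 2)) (.leaf (.up 3 673 2))) (.node (.leaf (.up 3 1408 0)) (.leaf (.up 4 1179 0)))) (.node (.node (.leaf (.up 4 294 2)) (.leaf (.up 3 1749 0))) (.node (.leaf (.up 3 1400 1)) (.leaf (.up 2 465 2)))))) (.node (.node (.node (.node (.leaf (.up 4 1760 2)) (.leaf (.up 4 649 2))) (.node (.leaf (.up 3 162 1)) (.leaf (.up 2 805 1)))) (.node (.node (.leaf (.up 1 103 0)) (.leaf (.up 2 1383 2))) (.node (.leaf (.up 2 1227 1)) (.leaf (.up 4 505 2))))) (.node (.node (.node (.leaf (.up 3 607 2)) (.leaf (.up 3 1590 2)))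 (.node (.leaf (.up 3 1729 2)) (.leaf (.up 2 1101 0)))) (.node (.node (.leaf (.up 2 1457 2)) (.leaf (.up 3 472 2))) (.node (.leaf (.up 4 303 2)) (.leaf (.up 3 1210 0))))))) (.node (.node (.node (.node (.node (.leaf (.root 5188)) (.leaf (.up 2 491 0))) (.node (.leaf (.up 2 1752 1)) (.leaf (.up 3 1375 1)))) (.node (.node (.leaf (.up 1 7 0)) (.leaf (.up 3 911 1))) (.node (.leaf (.up 2 702 0)) (.leaf (.up 2 369 2))))) (.node (.node (.node (.leaf (.up 2 798 1)) (.leaf (.up 4 1684 0))) (.node (.leaf (.up 3 1609 2)) (.leaf (.up 2 1069 0)))) (.node (.node (.leaf (.up 2 1911 1)) (.leaf (.up 2 336 2))) (.node (.leaf (.up 3 1473 0)) (.leaf (.up 3 1609 1)))))) (.node (.node (.node (.node (.leaf (.up 1 38 0)) (.leaf (.up 2 298 1))) (.node (.leaf (.up 1 20 1)) (.leaf (.up 2 915 1)))) (.node (.node (.leaf (.up 3 1732 1)) (.leaf (.up 3 1347 1))) (.node (.leaf (.up 3 616 0)) (.leaf (.up 3 883 0))))) (.node (.node (.node (.leaf (.up 3 1600 2)) (.leaf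 (.up 3 553 2))) (.node (.leaf (.up 2 1504 0)) (.leaf (.up 2 1275 0)))) (.node (.node (.leaf (.up 3 443 1)) (.leaf (.up 3 1479 2))) (.node (.leaf (.up 4 1328 2)) (.leaf (.up 1 133 1)))))))) (.node (.node (.node (.node (.node (.node (.leaf (.root 4702)) (.leaf (.up 3 625 0))) (.node (.leaf (.up 3 467 0)) (.leaf (.up 2 67 1)))) (.node (.node (.leaf (.up 3 925 0)) (.leaf (.up 4 1683 1))) (.node (.leaf (.up 3 292 0)) (.leaf (.up 1 63 0))))) (.node (.node (.node (.leaf (.up 3 535 2)) (.leaf (.up 2 1413 1))) (.node (.leaf (.up 3 1211 1)) (.leaf (.up 3 736 2)))) (.node (.node (.leaf (.up 2 1250 0)) (.leaf (.up 4 400 2))) (.node (.leaf (.up 4 210 1)) (.leaf (.up 4 1294 2)))))) (.node (.node (.node (.node (.leaf (.root 2595)) (.leaf (.up 4 1622 2))) (.node (.leaf (.up 2 1288 1)) (.leaf (.up 1 30 0)))) (.node (.node (.leaf (.up 2 1489 2)) (.leaf (.up 3 592 0))) (.node (.leaf (.up 4 335 2)) (.leaf (.up 4 233 0))))) (.node (.node (.node (.leaf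 (.up 3 1664 2)) (.leaf (.up 3 745 2))) (.node (.leaf (.up 4 631 1)) (.leaf (.up 2 496 1)))) (.node (.node (.leaf (.up 3 1191 1)) (.leaf (.up 4 1287 2))) (.node (.leaf (.up 4 1677 0)) (.leaf (.up 3 1942 0))))))) (.node (.node (.node (.node (.node (.leaf (.up 2 459 1)) (.leaf (.up 3 588 1))) (.node (.leaf (.up 4 882 1)) (.leaf (.up 3 576 2)))) (.node (.node (.leaf (.up 4 1369 2)) (.leaf (.up 1 304 2))) (.node (.leaf (.up 3 402 0)) (.leaf (.up 4 1180 1))))) (.node (.node (.node (.leaf (.up 3 1187 0)) (.leaf (.up 3 609 2))) (.node (.leaf (.up 2 1037 1)) (.leaf (.up 2 1930 1)))) (.node (.node (.leaf (.up 2 1108 0)) (.leaf (.up 3 346 1))) (.node (.leaf (.up 1 100 1)) (.leaf (.up 3 273 2)))))) (.node (.node (.node (.node (.leaf (.root 5636)) (.leaf (.up 4 585 2))) (.node (.leaf (.up 2 1470 1)) (.leaf (.up 4 1593 1)))) (.node (.node (.leaf (.up 3 878 1)) (.leaf (.up 4 233 1))) (.node (.leaf (.up 1 324 0)) (.leaf (.up 3 592 1))))) (.node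 (.node (.node (.leaf (.up 3 671 2)) (.leaf (.up 3 1782 2))) (.node (.leaf (.up 3 1537 2)) (.leaf (.up 3 616 2)))) (.node (.node (.leaf (.up 3 1154 0)) (.leaf (.up 3 1942 1))) (.node (.leaf (.up 4 1704 1)) (.leaf (.up 4 1414 2))))))))

noncomputable def vt5_3_100 : Tr VStep := .node vt5_3_1000 vt5_3_1001

noncomputable def vt5_3_1010 : Tr VStep :=
  .node (.node (.node (.node (.node (.node (.node (.leaf (.root 5862)) (.leaf (.up 3 1735 2))) (.node (.leaf (.up 1 23 0)) (.leaf (.up 3 601 2)))) (.node (.node (.leaf (.up 3 601 0)) (.leaf (.up 2 297 2))) (.node (.leaf (.up 3 1641 1)) (.leaf (.up 3 507 0))))) (.node (.node (.node (.leaf (.root 6340)) (.leaf (.up 2 632 2))) (.node (.leaf (.up 3 1896 0)) (.leaf (.up 2 1766 2)))) (.node (.node (.leaf (.up 2 511 2)) (.leaf (.up 1 40 1))) (.node (.leaf (.up 3 278 1)) (.leaf (.up 2 1668 0)))))) (.node (.node (.node (.node (.leaf (.root 3948)) (.leaf (.up 3 592 2))) (.node (.leaf (.up 2 193 0))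 (.leaf (.up 2 1867 1)))) (.node (.node (.leaf (.up 3 471 2)) (.leaf (.up 2 1470 2))) (.node (.leaf (.up 1 54 0)) (.leaf (.up 3 802 1))))) (.node (.node (.node (.leaf (.up 2 266 1)) (.leaf (.up 2 1775 2))) (.node (.leaf (.up 2 947 1)) (.leaf (.up 1 52 1)))) (.node (.node (.leaf (.up 2 1384 2)) (.leaf (.up 3 1764 1))) (.node (.leaf (.up 3 2010 1)) (.leaf (.up 2 1618 0))))))) (.node (.node (.node (.node (.node (.leaf (.up 4 1713 2)) (.leaf (.up 2 771 0))) (.node (.leaf (.up 4 161 0)) (.leaf (.up 4 442 0)))) (.node (.node (.leaf (.up 4 351 2)) (.leaf (.up 3 2017 1))) (.node (.leaf (.up 1 86 0)) (.leaf (.up 2 333 0))))) (.node (.node (.node (.leaf (.up 2 1383 0)) (.leaf (.up 3 1639 2))) (.node (.leaf (.up 4 2014 0)) (.leaf (.up 2 1733 0)))) (.node (.node (.leaf (.up 2 1504 2)) (.leaf (.up 3 1163 0))) (.node (.leaf (.up 3 1833 0)) (.leaf (.up 2 1586 0)))))) (.node (.node (.node (.node (.leaf (.root 4948)) (.leaf (.up 3 1615 2))) (.node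 (.leaf (.up 2 119 0)) (.leaf (.up 2 2045 1)))) (.node (.node (.leaf (.up 3 1480 2)) (.leaf (.up 3 802 0))) (.node (.leaf (.up 1 19 1)) (.leaf (.up 2 1343 2))))) (.node (.node (.node (.leaf (.root 3246)) (.leaf (.up 3 1194 0))) (.node (.leaf (.up 2 1800 0)) (.leaf (.up 3 130 1)))) (.node (.node (.leaf (.up 3 1493 1)) (.leaf (.up 2 1618 1))) (.node (.leaf (.up 2 1900 1)) (.leaf (.up 3 1764 0)))))))) (.node (.node (.node (.node (.node (.node (.leaf (.root 4658)) (.leaf (.up 4 1684 1))) (.node (.leaf (.up 4 1962 1)) (.leaf (.up 2 1069 1)))) (.node (.node (.leaf (.up 2 415 2)) (.leaf (.up 2 110 0))) (.node (.leaf (.up 2 1281 2)) (.leaf (.up 4 68 1))))) (.node (.node (.node (.leaf (.up 2 718 2)) (.leaf (.up 2 491 1))) (.node (.leaf (.up 3 213 1)) (.leaf (.up 3 1375 0)))) (.node (.node (.leaf (.up 4 1541 1)) (.leaf (.up 2 329 2))) (.node (.leaf (.up 3 1203 0)) (.leaf (.up 4 1495 2)))))) (.node (.node (.node (.node (.leaf (.up 2 991 1))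 (.leaf (.up 3 1679 2))) (.node (.leaf (.up 2 358 1)) (.leaf (.up 4 737 1)))) (.node (.node (.leaf (.up 2 1288 2)) (.leaf (.up 4 1073 1))) (.node (.leaf (.up 3 1295 1)) (.leaf (.up 2 1672 1))))) (.node (.node (.node (.leaf (.up 2 1625 2)) (.leaf (.up 3 1840 0))) (.node (.leaf (.up 3 1170 0)) (.leaf (.up 2 1438 1)))) (.node (.node (.leaf (.up 4 1756 0)) (.leaf (.up 2 1502 2))) (.node (.leaf (.up 4 624 1)) (.leaf (.up 3 1406 0))))))) (.node (.node (.node (.node (.node (.leaf (.root 6214)) (.leaf (.up 3 1543 2))) (.node (.leaf (.up 3 1776 2)) (.leaf (.up 4 1179 1)))) (.node (.node (.leaf (.up 3 1408 2)) (.leaf (.up 4 587 1))) (.node (.leaf (.up 3 890 0)) (.leaf (.up 3 609 0))))) (.node (.node (.node (.leaf (.up 3 1611 0)) (.leaf (.up 2 1872 0))) (.node (.leaf (.up 2 1266 0)) (.leaf (.up 4 996 1)))) (.node (.node (.leaf (.up 4 1724 0)) (.leaf (.up 3 1332 1))) (.node (.leaf (.up 4 1034 1)) (.leaf (.up 2 456 2)))))) (.node (.node (.node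 (.node (.leaf (.root 5446)) (.leaf (.up 4 238 1))) (.node (.leaf (.up 2 464 1)) (.leaf (.up 3 576 0)))) (.node (.node (.leaf (.up 3 277 0)) (.leaf (.up 1 14 0))) (.node (.leaf (.up 4 1417 2)) (.leaf (.up 4 1598 1))))) (.node (.node (.node (.leaf (.up 2 1693 0)) (.leaf (.up 2 1937 1))) (.node (.leaf (.up 2 1752 2)) (.leaf (.up 2 1343 0)))) (.node (.node (.leaf (.up 4 127 1)) (.leaf (.up 3 1905 0))) (.node (.leaf (.up 4 1235 0)) (.leaf (.up 1 321 1))))))))

noncomputable def vt5_3_1011 : Tr VStep :=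
  .node (.node (.node (.node (.node (.node (.node (.leaf (.root 2515)) (.leaf (.up 1 18 1))) (.node (.leaf (.up 3 1100 2)) (.leaf (.up 3 1190 0)))) (.node (.node (.leaf (.up 3 2035 0)) (.leaf (.up 2 1768 0))) (.node (.leaf (.up 3 1349 1)) (.leaf (.up 4 1730 1))))) (.node (.node (.node (.leaf (.up 3 123 0)) (.leaf (.up 1 4 2))) (.node (.leaf (.up 3 706 0)) (.leaf (.up 3 1178 2)))) (.node (.node (.leaf (.up 3 131 1)) (.leaf (.up 2 2026 2))) (.node (.leaf (.up 4 565 0)) (.leaf (.up 3 814 0)))))) (.node (.node (.node (.node (.leaf (.root 5500)) (.leaf (.up 1 44 2))) (.node (.leaf (.up 2 2016 1)) (.leaf (.up 3 1202 2)))) (.node (.node (.leaf (.up 1 304 1)) (.leaf (.up 4 1598 0))) (.node (.leaf (.up 4 1845 2)) (.leaf (.up 1 14 1))))) (.node (.node (.node (.leaf (.up 4 550 1)) (.leaf (.up 3 1171 2))) (.node (.leaf (.up 4 1124 2)) (.leaf (.up 1 13 2)))) (.node (.node (.leaf (.up 1 90 0)) (.leaf (.up 1 321 0))) (.node (.leaf (.up 4 1270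 1)) (.leaf (.up 3 1905 1))))))) (.node (.node (.node (.node (.node (.leaf (.up 2 1970 0)) (.leaf (.up 1 164 1))) (.node (.leaf (.up 1 83 2)) (.leaf (.up 4 1082 2)))) (.node (.node (.leaf (.up 4 803 2)) (.leaf (.up 2 1630 0))) (.node (.leaf (.up 3 1532 0)) (.leaf (.up 3 1652 1))))) (.node (.node (.node (.leaf (.up 3 114 2)) (.leaf (.up 2 470 0))) (.node (.leaf (.up 2 628 0)) (.leaf (.up 1 133 2)))) (.node (.node (.leaf (.up 1 53 1)) (.leaf (.up 3 946 1))) (.node (.leaf (.up 4 652 1)) (.leaf (.up 4 1899 2)))))) (.node (.node (.node (.node (.leaf (.up 1 90 2)) (.leaf (.up 4 1640 1))) (.node (.leaf (.up 2 1501 0)) (.leaf (.up 2 1233 1)))) (.node (.node (.leaf (.up 3 390 1)) (.leaf (.up 2 1672 0))) (.node (.leaf (.up 4 810 2)) (.leaf (.up 4 1073 0))))) (.node (.node (.node (.leaf (.up 4 1253 2)) (.leaf (.up 3 140 2))) (.node (.leaf (.up 1 41 1)) (.leaf (.up 2 953 0)))) (.node (.node (.leaf (.up 4 1785 1)) (.leaf (.up 3 1406 1))) (.node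 (.leaf (.up 3 597 0)) (.leaf (.up 2 1020 2)))))))) (.node (.node (.node (.node (.node (.node (.leaf (.up 2 1037 2)) (.leaf (.up 1 100 2))) (.node (.leaf (.up 3 1158 1)) (.leaf (.up 2 1930 0)))) (.node (.node (.leaf (.up 3 1247 0)) (.leaf (.up 2 465 1))) (.node (.leaf (.up 1 239 1)) (.leaf (.up 3 1917 0))))) (.node (.node (.node (.leaf (.up 3 178 2)) (.leaf (.up 3 588 0))) (.node (.leaf (.up 3 1068 2)) (.leaf (.up 1 69 2)))) (.node (.node (.leaf (.up 4 1884 2)) (.leaf (.up 2 1710 1))) (.node (.leaf (.up 2 962 2)) (.leaf (.up 1 2 0)))))) (.node (.node (.node (.node (.leaf (.up 3 154 2)) (.leaf (.up 3 1267 2))) (.node (.leaf (.up 2 1607 0)) (.leaf (.up 2 461 1)))) (.node (.node (.leaf (.up 3 1178 1)) (.leaf (.up 2 797 2))) (.node (.leaf (.up 4 1002 2)) (.leaf (.up 3 1963 0))))) (.node (.node (.node (.leaf (.up 3 1061 2)) (.leaf (.up 4 76 2))) (.node (.leaf (.up 3 187 2)) (.leaf (.up 1 35 0)))) (.node (.node (.leaf (.up 3 886 0)) (.leaf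 (.up 1 98 1))) (.node (.leaf (.up 3 348 1)) (.leaf (.up 2 212 0))))))) (.node (.node (.node (.node (.node (.leaf (.up 1 18 2)) (.leaf (.up 2 1413 0))) (.node (.leaf (.up 2 1575 0)) (.leaf (.up 1 229 2)))) (.node (.node (.leaf (.up 3 736 1)) (.leaf (.up 4 917 2))) (.node (.leaf (.up 1 89 1)) (.leaf (.up 4 1803 2))))) (.node (.node (.node (.leaf (.up 3 1197 2)) (.leaf (.up 3 625 1))) (.node (.leaf (.up 3 51 2)) (.leaf (.up 2 67 0)))) (.node (.node (.leaf (.up 4 835 2)) (.leaf (.up 2 1560 1))) (.node (.leaf (.up 3 431 0)) (.leaf (.up 2 180 0)))))) (.node (.node (.node (.node (.leaf (.up 1 69 1)) (.leaf (.up 2 962 1))) (.node (.leaf (.up 2 1777 0)) (.leaf (.up 2 2026 0)))) (.node (.node (.leaf (.up 3 1215 0)) (.leaf (.up 3 1963 1))) (.node (.leaf (.up 2 2037 2)) (.leaf (.up 2 924 2))))) (.node (.node (.node (.leaf (.up 3 58 2)) (.leaf (.up 4 1107 2))) (.node (.leaf (.up 3 1188 2)) (.leaf (.up 3 149 0)))) (.node (.node (.leaf (.up 2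 2004 2)) (.leaf (.up 2 212 1))) (.node (.leaf (.up 4 842 2)) (.leaf (.up 1 98 0))))))))

noncomputable def vt5_3_101 : Tr VStep := .node vt5_3_1010 vt5_3_1011

noncomputable def vt5_3_10 : Tr VStep := .node vt5_3_100 vt5_3_101

noncomputable def vt5_3_1100 : Tr VStep :=
  .node (.node (.node (.node (.node (.node (.node (.leaf (.root 5640)) (.leaf (.up 2 1383 1))) (.node (.leaf (.up 3 1234 0)) (.leaf (.up 4 2014 1)))) (.node (.node (.leaf (.root 4958)) (.leaf (.up 3 270 1))) (.node (.leaf (.up 1 48 1)) (.leaf (.up 2 450 2))))) (.node (.node (.node (.leaf (.up 2 415 1)) (.leaf (.up 4 1549 2))) (.node (.leaf (.up 3 1786 2)) (.leaf (.up 4 161 1)))) (.node (.node (.leaf (.up 4 1418 2)) (.leaf (.up 4 1649 1))) (.node (.leaf (.up 4 276 2)) (.leaf (.up 2 577 0)))))) (.node (.node (.node (.node (.leaf (.up 1 44 1)) (.leaf (.up 3 939 1))) (.node (.leaf (.up 4 1746 2)) (.leaf (.up 2 1311 0)))) (.node (.node (.leaf (.up 4 1093 1)) (.leaf (.up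 2 459 2))) (.node (.leaf (.up 3 1788 1)) (.leaf (.up 3 1512 0))))) (.node (.node (.node (.leaf (.root 3440)) (.leaf (.up 4 1236 1))) (.node (.leaf (.up 3 621 2)) (.leaf (.up 3 608 0)))) (.node (.node (.leaf (.up 4 309 0)) (.leaf (.up 4 46 0))) (.node (.leaf (.up 3 908 0)) (.leaf (.up 4 516 1))))))) (.node (.node (.node (.node (.node (.leaf (.root 4904)) (.leaf (.up 2 1489 1))) (.node (.leaf (.up 2 1263 1)) (.leaf (.up 3 1896 1)))) (.node (.node (.leaf (.up 4 575 1)) (.leaf (.up 3 1841 0))) (.node (.leaf (.up 3 134 1)) (.leaf (.up 2 1501 2))))) (.node (.node (.node (.leaf (.up 2 297 1)) (.leaf (.up 2 686 1))) (.node (.leaf (.up 3 741 2)) (.leaf (.up 1 23 1)))) (.node (.node (.leaf (.up 3 341 0)) (.leaf (.up 1 78 0))) (.node (.leaf (.up 3 1004 0)) (.leaf (.up 4 1150 1)))))) (.node (.node (.node (.node (.leaf (.up 3 154 1)) (.leaf (.up 2 797 1))) (.node (.leaf (.up 3 1202 0)) (.leaf (.up 3 1449 0)))) (.node (.node (.leaf (.up 3 1788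 0)) (.leaf (.up 3 2023 0))) (.node (.leaf (.up 4 1093 0)) (.leaf (.up 2 1485 1))))) (.node (.node (.node (.leaf (.root 4680)) (.leaf (.up 1 111 0))) (.node (.leaf (.up 3 1650 2)) (.leaf (.up 4 1755 1)))) (.node (.node (.leaf (.up 3 908 1)) (.leaf (.up 4 11 1))) (.node (.leaf (.up 4 309 1)) (.leaf (.up 4 545 0)))))))) (.node (.node (.node (.node (.node (.node (.leaf (.root 3318)) (.leaf (.up 3 1645 2))) (.node (.leaf (.up 3 2046 0)) (.leaf (.up 2 628 1)))) (.node (.node (.leaf (.up 3 1827 1)) (.leaf (.up 3 1195 0))) (.node (.leaf (.up 2 372 2)) (.leaf (.up 3 1309 2))))) (.node (.node (.node (.leaf (.up 4 568 0)) (.leaf (.up 2 1970 1))) (.node (.leaf (.up 3 1676 1)) (.leaf (.up 3 1612 2)))) (.node (.node (.leaf (.up 1 92 1)) (.leaf (.up 3 987 1))) (.node (.leaf (.up 1 118 0)) (.leaf (.up 4 418 2)))))) (.node (.node (.node (.node (.leaf (.root 5046)) (.leaf (.up 3 1162 0))) (.node (.leaf (.up 2 1832 0)) (.leaf (.up 4 1636 2)))) (.node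 (.node (.leaf (.up 4 381 2)) (.leaf (.up 3 616 1))) (.node (.leaf (.up 3 2015 0)) (.leaf (.up 3 1732 0))))) (.node (.node (.node (.leaf (.up 2 750 0)) (.leaf (.up 3 1605 2))) (.node (.leaf (.up 3 1714 2)) (.leaf (.up 2 332 0)))) (.node (.node (.leaf (.up 2 1474 2)) (.leaf (.up 4 427 2))) (.node (.leaf (.up 1 160 0)) (.leaf (.up 3 443 0))))))) (.node (.node (.node (.node (.node (.leaf (.up 2 1020 1)) (.leaf (.up 3 123 1))) (.node (.leaf (.up 4 1864 0)) (.leaf (.up 3 706 1)))) (.node (.node (.leaf (.up 3 1286 0)) (.leaf (.up 2 1053 0))) (.node (.leaf (.up 4 1387 2)) (.leaf (.up 1 258 2))))) (.node (.node (.node (.leaf (.up 3 654 0)) (.leaf (.up 2 1796 1))) (.node (.leaf (.up 2 1594 1)) (.leaf (.up 3 595 2)))) (.node (.node (.leaf (.up 3 633 0)) (.leaf (.up 3 866 0))) (.node (.leaf (.up 1 192 0)) (.leaf (.up 3 468 1)))))) (.node (.node (.node (.node (.leaf (.root 3968)) (.leaf (.up 4 1765 2))) (.node (.leaf (.up 3 1929 1)) (.leaf (.up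 3 1669 0)))) (.node (.node (.leaf (.up 3 345 1)) (.leaf (.up 2 1227 0))) (.node (.leaf (.up 2 992 1)) (.leaf (.up 1 103 1))))) (.node (.node (.node (.leaf (.up 2 600 0)) (.leaf (.up 2 456 1))) (.node (.leaf (.up 3 685 2)) (.leaf (.up 3 1732 2)))) (.node (.node (.leaf (.up 4 477 2)) (.leaf (.up 4 1460 2))) (.node (.leaf (.up 1 22 0)) (.leaf (.up 2 298 2))))))))

noncomputable def vt5_3_1101 : Tr VStep :=
  .node (.node (.node (.node (.node (.node (.node (.leaf (.up 3 1191 2)) (.leaf (.up 3 1611 1))) (.node (.leaf (.up 3 57 2)) (.leaf (.up 2 1266 1)))) (.node (.node (.leaf (.up 3 421 1)) (.leaf (.up 2 557 0))) (.node (.leaf (.up 3 796 1)) (.leaf (.up 3 155 1))))) (.node (.node (.node (.leaf (.up 1 24 2)) (.leaf (.up 2 308 1))) (.node (.leaf (.up 1 10 1)) (.leaf (.up 1 239 2)))) (.node (.node (.leaf (.up 3 1754 1)) (.leaf (.up 3 1373 1))) (.node (.leaf (.up 3 1776 0)) (.leaf (.up 2 2027 0)))))) (.node (.node (.node (.node (.leaf (.up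 1 48 2)) (.leaf (.up 3 135 1))) (.node (.leaf (.up 3 1198 2)) (.leaf (.up 2 199 2)))) (.node (.node (.leaf (.root 4202)) (.leaf (.up 2 1262 1))) (.node (.leaf (.up 3 345 0)) (.leaf (.up 1 66 0))))) (.node (.node (.node (.leaf (.up 2 1128 0)) (.leaf (.up 1 230 2))) (.node (.leaf (.up 1 17 2)) (.leaf (.up 2 1994 0)))) (.node (.node (.leaf (.up 1 22 1)) (.leaf (.up 2 1800 2))) (.node (.leaf (.up 4 2047 2)) (.leaf (.up 3 296 1))))))) (.node (.node (.node (.node (.node (.leaf (.up 2 1402 1)) (.leaf (.up 2 1233 2))) (.node (.leaf (.up 3 1062 2)) (.leaf (.up 3 213 0)))) (.node (.node (.leaf (.up 4 1878 2)) (.leaf (.up 2 667 0))) (.node (.leaf (.up 3 938 1)) (.leaf (.up 1 34 0))))) (.node (.node (.node (.leaf (.up 2 517 1)) (.leaf (.up 2 386 1))) (.node (.leaf (.up 2 188 1)) (.leaf (.up 4 1962 0)))) (.node (.node (.leaf (.up 3 1644 1)) (.leaf (.up 2 1920 2))) (.node (.leaf (.up 2 1911 2)) (.leaf (.up 2 798 2)))))) (.node (.node (.node (.node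 (.leaf (.root 3332)) (.leaf (.up 2 70 2))) (.node (.leaf (.up 3 177 2)) (.leaf (.up 1 3 0)))) (.node (.node (.leaf (.up 3 2015 1)) (.leaf (.up 3 589 0))) (.node (.leaf (.up 4 1887 2)) (.leaf (.up 3 1761 1))))) (.node (.node (.node (.leaf (.up 2 1246 0)) (.leaf (.up 2 1870 1))) (.node (.leaf (.up 3 1648 1)) (.leaf (.up 1 103 2)))) (.node (.node (.leaf (.up 1 160 1)) (.leaf (.up 3 1330 0))) (.node (.leaf (.up 2 992 2)) (.leaf (.up 1 414 1)))))))) (.node (.node (.node (.node (.node (.node (.leaf (.up 3 102 1)) (.leaf (.up 3 1041 2))) (.node (.leaf (.up 3 735 1)) (.leaf (.up 3 143 2)))) (.node (.node (.leaf (.up 1 26 0)) (.leaf (.up 3 1928 1))) (.node (.leaf (.up 4 1718 1)) (.leaf (.up 4 1889 2))))) (.node (.node (.node (.leaf (.up 2 1817 1)) (.leaf (.up 3 174 2))) (.node (.leaf (.up 1 89 2)) (.leaf (.up 2 1575 1)))) (.node (.node (.leaf (.up 3 1893 0)) (.leaf (.up 4 247 1))) (.node (.leaf (.up 3 457 1)) (.leaf (.up 2 1223 0)))))) (.node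 (.node (.node (.node (.leaf (.up 2 1263 2)) (.leaf (.up 3 134 2))) (.node (.leaf (.up 2 642 0)) (.leaf (.up 3 1048 2)))) (.node (.node (.leaf (.up 4 204 0)) (.leaf (.up 1 324 1))) (.node (.leaf (.up 3 629 0)) (.leaf (.up 3 878 0))))) (.node (.node (.node (.leaf (.up 1 80 2)) (.leaf (.up 4 594 1))) (.node (.leaf (.up 3 1230 2)) (.leaf (.up 3 167 2)))) (.node (.node (.leaf (.up 4 1982 2)) (.leaf (.up 4 1704 0))) (.node (.leaf (.up 2 800 2)) (.leaf (.up 3 1154 1))))))) (.node (.node (.node (.node (.node (.leaf (.up 3 91 0)) (.leaf (.up 1 14 2))) (.node (.leaf (.up 2 617 1)) (.leaf (.up 3 1168 2)))) (.node (.node (.leaf (.up 4 1209 1)) (.leaf (.up 2 2016 2))) (.node (.leaf (.up 3 1815 2)) (.leaf (.up 3 1415 1))))) (.node (.node (.node (.leaf (.up 2 1967 1)) (.leaf (.up 2 1201 2))) (.node (.leaf (.up 3 1094 2)) (.leaf (.up 3 1158 0)))) (.node (.node (.leaf (.up 2 1846 2)) (.leaf (.up 1 65 1))) (.node (.leaf (.up 3 383 1)) (.leaf (.up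 2 1137 0)))))) (.node (.node (.node (.node (.leaf (.up 2 240 2)) (.leaf (.up 3 1177 2))) (.node (.leaf (.up 2 564 0)) (.leaf (.up 1 7 2)))) (.node (.node (.leaf (.up 3 629 1)) (.leaf (.up 4 887 2))) (.node (.leaf (.up 4 204 1)) (.leaf (.up 2 2025 2))))) (.node (.node (.node (.leaf (.root 2619)) (.leaf (.up 1 38 2))) (.node (.leaf (.up 3 209 2)) (.leaf (.up 4 93 1)))) (.node (.node (.leaf (.up 2 929 2)) (.leaf (.up 4 1677 1))) (.node (.leaf (.up 4 1855 2)) (.leaf (.up 3 1191 0))))))))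

noncomputable def vt5_3_110 : Tr VStep := .node vt5_3_1100 vt5_3_1101

noncomputable def vt5_3_1110 : Tr VStep :=
  .node (.node (.node (.node (.node (.node (.node (.leaf (.root 4026)) (.leaf (.up 1 23 2))) (.node (.leaf (.up 3 224 2)) (.leaf (.up 2 651 0)))) (.node (.node (.leaf (.up 3 1483 1)) (.leaf (.up 3 1612 1))) (.node (.leaf (.up 3 1906 1)) (.leaf (.up 3 636 0))))) (.node (.node (.node (.leaf (.up 2 1757 1)) (.leaf (.up 2 1869 0))) (.node (.leaf (.up 2 1263 0)) (.leaf (.up 1 54 2)))) (.node (.node (.leaf (.up 2 1697 0)) (.leaf (.up 2 838 2))) (.node (.leaf (.up 1 13 1)) (.leaf (.up 4 2008 2)))))) (.node (.node (.node (.node (.leaf (.root 3754)) (.leaf (.up 2 228 0))) (.node (.leaf (.up 2 838 0)) (.leaf (.up 1 30 2)))) (.node (.node (.leaf (.up 4 1799 2)) (.leaf (.up 1 19 0))) (.node (.leaf (.up 3 945 0)) (.leaf (.up 3 2032 2))))) (.node (.node (.node (.leaf (.up 1 17 1)) (.leaf (.up 1 63 2))) (.node (.leaf (.up 4 200 2))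 (.leaf (.up 2 1314 0)))) (.node (.node (.leaf (.up 2 1655 0)) (.leaf (.up 2 1900 0))) (.node (.leaf (.up 3 1729 1)) (.leaf (.up 3 1493 0))))))) (.node (.node (.node (.node (.node (.leaf (.root 5458)) (.leaf (.up 4 1032 2))) (.node (.leaf (.up 3 1279 2)) (.leaf (.up 1 42 1)))) (.node (.node (.leaf (.up 4 1935 2)) (.leaf (.up 1 115 0))) (.node (.leaf (.up 4 785 2)) (.leaf (.up 4 1912 2))))) (.node (.node (.node (.leaf (.up 2 1643 1)) (.leaf (.up 2 1516 1))) (.node (.leaf (.up 3 1234 1)) (.leaf (.up 3 1065 2)))) (.node (.node (.leaf (.up 2 1559 0)) (.leaf (.up 3 389 1))) (.node (.leaf (.up 3 1198 0)) (.leaf (.up 4 967 2)))))) (.node (.node (.node (.node (.leaf (.root 3804)) (.leaf (.up 2 82 0))) (.node (.leaf (.up 1 104 2)) (.leaf (.up 2 1766 1)))) (.node (.node (.leaf (.up 3 945 1)) (.leaf (.up 1 54 1))) (.node (.leaf (.up 4 1926 2)) (.leaf (.up 3 1007 2))))) (.node (.node (.node (.leaf (.up 3 167 1)) (.leaf (.up 2 800 1))) (.node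 (.leaf (.up 4 1239 2)) (.leaf (.up 3 190 2)))) (.node (.node (.leaf (.up 3 1729 0)) (.leaf (.up 3 2010 0))) (.node (.leaf (.up 2 1655 1)) (.leaf (.up 2 1872 2)))))))) (.node (.node (.node (.node (.node (.node (.leaf (.root 2990)) (.leaf (.up 2 798 0))) (.node (.leaf (.up 2 188 0)) (.leaf (.up 1 86 2)))) (.node (.node (.leaf (.up 4 97 1)) (.leaf (.up 3 998 1))) (.node (.leaf (.up 2 75 0)) (.leaf (.up 2 336 0))))) (.node (.node (.node (.leaf (.up 2 1402 0)) (.leaf (.up 2 240 1))) (.node (.leaf (.up 3 128 2)) (.leaf (.up 2 1752 0)))) (.node (.node (.leaf (.up 3 1421 0)) (.leaf (.up 3 1174 0))) (.node (.leaf (.up 4 1902 2)) (.leaf (.up 4 1568 1)))))) (.node (.node (.node (.node (.leaf (.up 4 708 1)) (.leaf (.up 3 95 2))) (.node (.leaf (.up 2 125 1)) (.leaf (.up 2 369 0)))) (.node (.node (.leaf (.up 2 1709 1)) (.leaf (.up 4 1969 2))) (.node (.leaf (.up 4 157 0)) (.leaf (.up 3 390 0))))) (.node (.node (.node (.leaf (.up 2 1467 1)) (.leaf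 (.up 3 1207 0))) (.node (.leaf (.up 3 1047 2)) (.leaf (.up 3 1157 1)))) (.node (.node (.leaf (.up 2 1371 0)) (.leaf (.up 3 597 1))) (.node (.leaf (.up 3 2018 0)) (.leaf (.up 4 1785 0))))))) (.node (.node (.node (.node (.node (.leaf (.up 3 1214 1)) (.leaf (.up 3 215 2))) (.node (.leaf (.up 1 10 0)) (.leaf (.up 3 1408 1)))) (.node (.node (.leaf (.up 3 580 0)) (.leaf (.up 3 863 0))) (.node (.leaf (.up 4 622 1)) (.leaf (.up 4 935 2))))) (.node (.node (.node (.leaf (.up 1 1 2)) (.leaf (.up 2 70 1))) (.node (.leaf (.up 3 1183 2)) (.leaf (.up 3 767 1)))) (.node (.node (.leaf (.up 3 1339 0)) (.leaf (.up 4 1071 1))) (.node (.leaf (.up 3 1922 0)) (.leaf (.up 4 1689 0)))))) (.node (.node (.node (.node (.leaf (.up 1 41 2)) (.leaf (.up 3 1088 2))) (.node (.leaf (.up 3 1207 2)) (.leaf (.up 1 222 2)))) (.node (.node (.leaf (.up 4 658 0)) (.leaf (.up 4 942 2))) (.node (.leaf (.up 3 1186 1)) (.leaf (.up 1 304 0))))) (.node (.node (.node (.leaf (.up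 3 1174 2)) (.leaf (.up 4 1674 1))) (.node (.leaf (.up 3 8 2)) (.leaf (.up 4 1121 2)))) (.node (.node (.leaf (.up 4 888 2)) (.leaf (.up 4 1270 0))) (.node (.leaf (.up 4 2022 2)) (.leaf (.up 1 90 1))))))))

noncomputable def vt5_3_1111 : Tr VStep :=
  .node (.node (.node (.node (.node (.node (.node (.leaf (.up 3 654 1)) (.leaf (.up 2 1432 0))) (.node (.leaf (.up 2 668 2)) (.leaf (.up 3 1781 2)))) (.node (.node (.leaf (.up 4 1767 1)) (.leaf (.up 2 1413 2))) (.node (.leaf (.up 2 1741 0)) (.leaf (.up 2 283 2))))) (.node (.node (.node (.leaf (.up 2 1020 0)) (.leaf (.up 3 1654 1))) (.node (.leaf (.up 4 1864 1)) (.leaf (.up 2 94 0)))) (.node (.node (.leaf (.up 4 1363 2)) (.leaf (.up 4 528 0))) (.node (.leaf (.up 2 461 2)) (.leaf (.up 3 166 1)))))) (.node (.node (.node (.node (.leaf (.up 4 1090 1)) (.leaf (.up 3 1788 2))) (.node (.leaf (.up 3 1547 2)) (.leaf (.up 2 2039 0)))) (.node (.node (.leaf (.up 3 1186 0)) (.leaf (.up 4 274 2))) (.node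 (.leaf (.up 4 658 1)) (.leaf (.up 3 277 1))))) (.node (.node (.node (.leaf (.up 2 829 1)) (.leaf (.up 3 186 1))) (.node (.leaf (.up 2 403 0)) (.leaf (.up 2 1757 2)))) (.node (.node (.leaf (.up 4 452 2)) (.leaf (.up 4 1235 1))) (.node (.leaf (.up 4 1370 2)) (.leaf (.up 4 127 0))))))) (.node (.node (.node (.node (.node (.leaf (.up 4 568 1)) (.leaf (.up 3 1652 2))) (.node (.leaf (.up 3 1676 0)) (.leaf (.up 3 746 2)))) (.node (.node (.leaf (.up 3 1617 1)) (.leaf (.up 3 1494 1))) (.node (.leaf (.up 2 1659 0)) (.leaf (.up 3 1903 1))))) (.node (.node (.node (.leaf (.up 2 1351 1)) (.leaf (.up 2 1728 1))) (.node (.leaf (.up 3 2046 1)) (.leaf (.up 3 232 0)))) (.node (.node (.leaf (.up 2 332 2)) (.leaf (.up 4 681 1))) (.node (.leaf (.up 3 260 0)) (.leaf (.up 1 16 1)))))) (.node (.node (.node (.node (.leaf (.root 5992)) (.leaf (.up 2 1907 1))) (.node (.leaf (.up 4 1613 1)) (.leaf (.up 3 1661 2)))) (.node (.node (.leaf (.up 4 157 1)) (.leaf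 (.up 3 1295 0))) (.node (.leaf (.up 2 1709 0)) (.leaf (.up 2 403 2))))) (.node (.node (.node (.leaf (.root 4938)) (.leaf (.up 1 12 1))) (.node (.leaf (.up 3 306 1)) (.leaf (.up 1 62 0)))) (.node (.node (.leaf (.up 3 2018 1)) (.leaf (.up 4 624 0))) (.node (.leaf (.up 2 1371 1)) (.leaf (.up 4 1756 1)))))))) (.node (.node (.node (.node (.node (.node (.leaf (.up 2 1967 0)) (.leaf (.up 3 1187 1))) (.node (.leaf (.up 3 1603 2)) (.leaf (.up 2 1037 0)))) (.node (.node (.leaf (.up 3 1880 0)) (.leaf (.up 1 202 1))) (.node (.leaf (.up 2 429 2)) (.leaf (.up 4 1476 2))))) (.node (.node (.node (.leaf (.up 3 91 1)) (.leaf (.up 2 459 0))) (.node (.leaf (.up 2 617 0)) (.leaf (.up 4 882 0)))) (.node (.node (.leaf (.up 1 39 0)) (.leaf (.up 3 1973 1))) (.node (.leaf (.up 2 1675 1)) (.leaf (.up 4 379 2)))))) (.node (.node (.node (.node (.leaf (.up 2 488 1)) (.leaf (.up 3 547 2))) (.node (.leaf (.up 2 1472 0)) (.leaf (.up 3 1725 2)))) (.node (.node (.leaf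 (.up 3 1409 1)) (.leaf (.up 2 1485 2))) (.node (.leaf (.up 2 1338 2)) (.leaf (.up 3 1215 1))))) (.node (.node (.node (.leaf (.up 1 6 0)) (.leaf (.up 2 1692 2))) (.node (.leaf (.up 2 1643 2)) (.leaf (.up 2 932 0)))) (.node (.node (.leaf (.up 2 241 0)) (.leaf (.up 4 370 2))) (.node (.leaf (.up 1 71 1)) (.leaf (.up 2 1516 2))))))) (.node (.node (.node (.node (.node (.leaf (.root 4670)) (.leaf (.up 3 683 2))) (.node (.leaf (.up 3 604 2)) (.leaf (.up 3 1211 0)))) (.node (.node (.leaf (.up 3 2030 0)) (.leaf (.up 1 124 1))) (.node (.leaf (.up 3 322 1)) (.leaf (.up 3 709 1))))) (.node (.node (.node (.leaf (.up 3 102 0)) (.leaf (.up 2 874 1))) (.node (.leaf (.up 3 735 0)) (.leaf (.up 3 467 1)))) (.node (.node (.leaf (.up 2 145 0)) (.leaf (.up 3 1795 1))) (.node (.leaf (.up 2 1597 1)) (.leaf (.up 3 1466 1)))))) (.node (.node (.node (.node (.leaf (.up 3 597 2)) (.leaf (.up 3 1596 2))) (.node (.leaf (.up 3 1739 2)) (.leaf (.up 3 674 2)))) (.node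 (.node (.leaf (.up 2 1467 2)) (.leaf (.up 4 466 2))) (.node (.leaf (.up 3 1409 0)) (.leaf (.up 3 1178 0))))) (.node (.node (.node (.leaf (.up 3 1569 1)) (.leaf (.up 2 1446 1))) (.node (.leaf (.up 2 628 2)) (.leaf (.up 3 786 0)))) (.node (.node (.leaf (.up 1 71 0)) (.leaf (.up 3 348 0))) (.node (.leaf (.up 2 241 1)) (.leaf (.up 3 886 1))))))))

noncomputable def vt5_3_111 : Tr VStep := .node vt5_3_1110 vt5_3_1111

noncomputable def vt5_3_11 : Tr VStep := .node vt5_3_110 vt5_3_111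

noncomputable def vt5_3_1 : Tr VStep := .node vt5_3_10 vt5_3_11

noncomputable def vt5_3_ : Tr VStep := .node vt5_3_0 vt5_3_1

noncomputable def vt5_4_0000 : Tr VStep :=
  .node (.node (.node (.node (.node (.node (.node (.leaf (.root 3274)) (.leaf (.up 1 14 0))) (.node (.leaf (.up 3 549 3)) (.leaf (.up 2 1210 3)))) (.node (.node (.leaf (.up 1 53 2)) (.leaf (.up 2 1194 3))) (.node (.leaf (.up 1 53 3)) (.leaf (.up 2 794 1))))) (.node (.node (.node (.leaf (.up 3 106 3)) (.leaf (.up 1 6 0))) (.node (.leaf (.up 2 917 1)) (.leaf (.up 3 2033 2)))) (.node (.node (.leaf (.root 2396)) (.leaf (.up 2 513 1))) (.node (.leaf (.up 1 122 0)) (.leaf (.up 2 2035 2)))))) (.node (.node (.node (.node (.leaf (.up 1 51 2)) (.leaf (.up 2 1466 3))) (.node (.leaf (.up 1 293 0)) (.leaf (.up 2 796 1)))) (.node (.node (.leaf (.up 1 49 2)) (.leaf (.up 2 1976 2))) (.node (.leaf (.up 2 821 3)) (.leaf (.up 3 1464 2))))) (.node (.node (.node (.leaf (.root 2380))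 (.leaf (.up 2 1525 2))) (.node (.leaf (.up 3 362 3)) (.leaf (.up 2 2037 2)))) (.node (.node (.leaf (.up 2 378 3)) (.leaf (.up 1 337 0))) (.node (.leaf (.up 2 126 2)) (.leaf (.up 2 1509 3))))))) (.node (.node (.node (.node (.node (.leaf (.up 3 517 3)) (.leaf (.up 1 46 0))) (.node (.leaf (.up 1 5 3)) (.leaf (.up 1 194 1)))) (.node (.node (.leaf (.up 1 21 2)) (.leaf (.up 3 301 1))) (.node (.leaf (.up 1 82 0)) (.leaf (.up 2 1162 3))))) (.node (.node (.node (.leaf (.root 6120)) (.leaf (.up 1 38 0))) (.node (.leaf (.up 3 74 3)) (.leaf (.up 3 1749 3)))) (.node (.node (.leaf (.up 3 90 3)) (.leaf (.up 2 1159 1))) (.node (.leaf (.up 1 77 1)) (.leaf (.up 1 54 1)))))) (.node (.node (.node (.node (.leaf (.up 1 19 2)) (.leaf (.up 1 299 1))) (.node (.leaf (.up 3 773 3)) (.leaf (.up 1 1434 0)))) (.node (.node (.leaf (.up 1 17 2)) (.leaf (.up 3 1418 3))) (.node (.leaf (.up 1 191 1)) (.leaf (.up 2 1930 3))))) (.node (.node (.node (.leaf (.up 3 330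 3)) (.leaf (.up 2 1153 1))) (.node (.leaf (.up 1 75 1)) (.leaf (.up 2 48 1)))) (.node (.node (.leaf (.up 3 420 1)) (.leaf (.up 2 1477 3))) (.node (.leaf (.up 2 1301 1)) (.leaf (.up 2 1989 3)))))))) (.node (.node (.node (.node (.node (.node (.leaf (.root 1442)) (.leaf (.up 1 10 0))) (.node (.leaf (.up 1 36 3)) (.leaf (.up 2 1196 1)))) (.node (.node (.leaf (.up 1 52 3)) (.leaf (.up 1 8 2))) (.node (.leaf (.up 1 118 0)) (.leaf (.up 2 1195 3))))) (.node (.node (.node (.leaf (.root 906)) (.leaf (.up 1 2 0))) (.node (.leaf (.up 3 1996 2)) (.leaf (.up 2 1780 3)))) (.node (.node (.leaf (.up 2 146 1)) (.leaf (.up 1 233 1))) (.node (.leaf (.up 2 1059 1)) (.leaf (.up 1 71 2)))))) (.node (.node (.node (.node (.leaf (.root 4072)) (.leaf (.up 1 14 2))) (.node (.leaf (.up 2 804 3)) (.leaf (.up 2 1467 3)))) (.node (.node (.leaf (.up 2 1925 2)) (.leaf (.up 1 12 2))) (.node (.leaf (.up 3 1413 2)) (.leaf (.up 2 1194 1))))) (.node (.node (.node (.leaf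 (.up 1 148 1)) (.leaf (.up 2 2036 3))) (.node (.leaf (.up 2 1061 1)) (.leaf (.up 1 65 2)))) (.node (.node (.leaf (.root 1094)) (.leaf (.up 3 579 2))) (.node (.leaf (.up 1 379 1)) (.leaf (.up 2 67 2))))))) (.node (.node (.node (.node (.node (.leaf (.up 1 4 3)) (.leaf (.up 1 42 0))) (.node (.leaf (.up 3 516 3)) (.leaf (.up 2 1179 3)))) (.node (.node (.leaf (.up 3 958 1)) (.leaf (.up 1 40 2))) (.node (.leaf (.up 1 20 3)) (.leaf (.up 2 1908 1))))) (.node (.node (.node (.leaf (.up 1 75 3)) (.leaf (.up 2 1748 3))) (.node (.leaf (.up 2 587 3)) (.leaf (.up 1 101 2)))) (.node (.node (.leaf (.up 3 603 3)) (.leaf (.up 3 1647 1))) (.node (.leaf (.up 2 91 3)) (.leaf (.up 1 103 2)))))) (.node (.node (.node (.node (.leaf (.up 2 772 3)) (.leaf (.up 1 46 2))) (.node (.leaf (.up 2 260 3)) (.leaf (.up 3 558 2)))) (.node (.node (.leaf (.up 2 276 3)) (.leaf (.up 1 44 2))) (.node (.leaf (.up 3 788 3)) (.leaf (.up 1 556 1))))) (.node (.node (.node (.leaf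 (.up 3 1554 1)) (.leaf (.up 2 1492 3))) (.node (.leaf (.up 2 675 1)) (.leaf (.up 2 2004 3)))) (.node (.node (.leaf (.up 3 347 3)) (.leaf (.up 3 823 1))) (.node (.leaf (.up 2 859 3)) (.leaf (.up 2 1926 1))))))))

noncomputable def vt5_4_0001 : Tr VStep :=
  .node (.node (.node (.node (.node (.node (.node (.leaf (.root 4750)) (.leaf (.up 2 1082 3))) (.node (.leaf (.up 1 165 3)) (.leaf (.up 2 1169 1)))) (.node (.node (.leaf (.up 1 181 3)) (.leaf (.up 2 1578 3))) (.node (.leaf (.up 1 242 0)) (.leaf (.up 1 155 2))))) (.node (.node (.node (.leaf (.up 3 1887 2)) (.leaf (.up 1 134 0))) (.node (.leaf (.up 2 1375 2)) (.leaf (.up 3 1653 3)))) (.node (.node (.leaf (.up 2 250 3)) (.leaf (.up 1 212 1))) (.node (.leaf (.up 2 1054 1)) (.leaf (.up 2 724 2)))))) (.node (.node (.node (.node (.leaf (.root 1534)) (.leaf (.up 2 1400 1))) (.node (.leaf (.up 2 933 3)) (.leaf (.up 1 157 2)))) (.node (.node (.leaf (.up 3 1302 2)) (.leaf (.up 1 38 1))) (.node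 (.leaf (.up 2 1814 2)) (.leaf (.up 2 1175 1))))) (.node (.node (.node (.leaf (.up 1 169 1)) (.leaf (.up 3 1909 3))) (.node (.leaf (.up 2 1048 1)) (.leaf (.up 2 1397 3)))) (.node (.node (.leaf (.up 3 1881 2)) (.leaf (.up 2 208 2))) (.node (.leaf (.up 3 506 3)) (.leaf (.up 3 720 2))))))) (.node (.node (.node (.node (.node (.leaf (.root 2814)) (.leaf (.up 2 1702 1))) (.node (.leaf (.up 3 620 1)) (.leaf (.up 3 535 1)))) (.node (.node (.leaf (.up 2 899 1)) (.leaf (.up 2 1034 3))) (.node (.leaf (.up 1 149 3)) (.leaf (.up 1 187 2))))) (.node (.node (.node (.leaf (.root 5404)) (.leaf (.up 1 166 0))) (.node (.leaf (.up 2 714 3)) (.leaf (.up 2 758 2)))) (.node (.node (.leaf (.root 2024)) (.leaf (.up 3 244 2))) (.node (.leaf (.up 1 218 0)) (.leaf (.up 3 739 1)))))) (.node (.node (.node (.node (.leaf (.root 1382)) (.leaf (.up 3 1306 3))) (.node (.leaf (.up 1 389 0)) (.leaf (.up 1 189 2)))) (.node (.node (.leaf (.root 4502)) (.leaf (.up 2 1802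 3))) (.node (.leaf (.up 2 917 3)) (.leaf (.up 1 191 2))))) (.node (.node (.node (.leaf (.up 2 1583 1)) (.leaf (.up 1 242 2))) (.node (.leaf (.up 3 670 1)) (.leaf (.up 3 1877 3)))) (.node (.node (.leaf (.up 2 881 1)) (.leaf (.up 2 778 1))) (.node (.leaf (.up 3 1984 1)) (.leaf (.up 3 1979 1)))))))) (.node (.node (.node (.node (.node (.node (.leaf (.up 2 676 2)) (.leaf (.up 1 138 0))) (.node (.leaf (.up 2 676 3)) (.leaf (.up 2 1083 3)))) (.node (.node (.leaf (.root 6038)) (.leaf (.up 2 1067 3))) (.node (.leaf (.up 1 166 2)) (.leaf (.up 2 807 1))))) (.node (.node (.node (.leaf (.root 1876)) (.leaf (.up 1 130 0))) (.node (.leaf (.up 2 936 1)) (.leaf (.up 2 1378 2)))) (.node (.node (.leaf (.up 1 233 2)) (.leaf (.up 3 1124 3))) (.node (.leaf (.up 3 251 3)) (.leaf (.up 2 1636 3)))))) (.node (.node (.node (.node (.leaf (.up 2 932 3)) (.leaf (.up 2 1321 2))) (.node (.leaf (.up 1 160 2)) (.leaf (.up 2 801 1)))) (.node (.node (.leaf (.up 3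 436 3)) (.leaf (.up 3 1323 2))) (.node (.leaf (.up 2 948 3)) (.leaf (.up 3 1323 3))))) (.node (.node (.node (.leaf (.up 2 1003 3)) (.leaf (.up 2 1396 3))) (.node (.leaf (.up 3 491 3)) (.leaf (.up 2 1382 2)))) (.node (.node (.leaf (.up 2 237 2)) (.leaf (.up 1 469 0))) (.node (.leaf (.up 3 749 2)) (.leaf (.up 2 1380 2))))))) (.node (.node (.node (.node (.node (.leaf (.root 2292)) (.leaf (.up 2 1051 3))) (.node (.leaf (.up 1 132 1)) (.leaf (.up 2 1563 3)))) (.node (.node (.leaf (.up 1 148 3)) (.leaf (.up 2 272 1))) (.node (.leaf (.up 1 134 2)) (.leaf (.up 3 1441 1))))) (.node (.node (.node (.leaf (.root 1642)) (.leaf (.up 2 1108 3))) (.node (.leaf (.up 2 203 3)) (.leaf (.up 3 1365 1)))) (.node (.node (.leaf (.up 3 201 2)) (.leaf (.up 2 1210 1))) (.node (.leaf (.up 3 112 1)) (.leaf (.up 1 11 1)))))) (.node (.node (.node (.node (.leaf (.up 3 640 2)) (.leaf (.up 2 1819 3))) (.node (.leaf (.up 2 900 3)) (.leaf (.up 2 1307 3)))) (.node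 (.node (.leaf (.up 2 1075 1)) (.leaf (.up 1 509 0))) (.node (.leaf (.up 1 130 1)) (.leaf (.up 1 249 1))))) (.node (.node (.node (.leaf (.up 2 459 3)) (.leaf (.up 2 1212 1))) (.node (.leaf (.up 1 118 1)) (.leaf (.up 1 13 1)))) (.node (.node (.leaf (.up 2 409 1)) (.leaf (.up 2 1348 3))) (.node (.leaf (.up 3 1320 1)) (.leaf (.up 2 1348 2))))))))

noncomputable def vt5_4_000 : Tr VStep := .node vt5_4_0000 vt5_4_0001

noncomputable def vt5_4_0010 : Tr VStep :=
  .node (.node (.node (.node (.node (.node (.node (.leaf (.root 2328)) (.leaf (.up 3 2046 2))) (.node (.leaf (.up 2 803 1)) (.leaf (.up 3 856 1)))) (.node (.node (.leaf (.up 1 117 2)) (.leaf (.up 1 73 3))) (.node (.leaf (.up 1 98 0)) (.leaf (.up 2 585 3))))) (.node (.node (.node (.leaf (.root 1092)) (.leaf (.up 1 22 0))) (.node (.leaf (.up 1 56 2)) (.leaf (.up 1 22 3)))) (.node (.node (.leaf (.up 2 1689 3)) (.leaf (.up 1 6 3))) (.node (.leaf (.up 1 58 2)) (.leaf (.up 3 940 1))))))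 (.node (.node (.node (.node (.leaf (.root 4060)) (.leaf (.up 2 689 1))) (.node (.leaf (.up 3 1478 3)) (.leaf (.up 3 1536 1)))) (.node (.node (.leaf (.up 2 113 2)) (.leaf (.up 1 329 0))) (.node (.leaf (.up 3 625 2)) (.leaf (.up 1 329 3))))) (.node (.node (.node (.leaf (.up 3 1929 3)) (.leaf (.up 2 1461 2))) (.node (.leaf (.up 1 60 2)) (.leaf (.up 2 790 3)))) (.node (.node (.leaf (.up 2 1433 3)) (.leaf (.up 3 1463 2))) (.node (.leaf (.up 1 62 2)) (.leaf (.up 2 1975 2))))))) (.node (.node (.node (.node (.node (.leaf (.root 1058)) (.leaf (.up 1 62 0))) (.node (.leaf (.up 3 1254 3)) (.leaf (.up 2 633 3)))) (.node (.node (.leaf (.up 3 1270 3)) (.leaf (.up 2 1073 1))) (.node (.leaf (.up 1 66 0)) (.leaf (.up 2 105 3))))) (.node (.node (.node (.leaf (.up 3 1705 3)) (.leaf (.up 1 54 0))) (.node (.leaf (.up 1 15 1)) (.leaf (.up 1 116 1)))) (.node (.node (.leaf (.up 2 1209 3)) (.leaf (.up 1 411 1))) (.node (.leaf (.up 1 26 2)) (.leaf (.up 1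 38 3)))))) (.node (.node (.node (.node (.leaf (.up 3 1510 3)) (.leaf (.up 2 1079 1))) (.node (.leaf (.up 3 2022 3)) (.leaf (.up 1 134 1)))) (.node (.node (.leaf (.up 1 81 2)) (.leaf (.up 1 361 0))) (.node (.leaf (.up 3 1526 3)) (.leaf (.up 2 1496 1))))) (.node (.node (.node (.leaf (.root 3760)) (.leaf (.up 2 822 3))) (.node (.leaf (.up 3 1961 3)) (.leaf (.up 2 1324 1)))) (.node (.node (.leaf (.up 3 1977 3)) (.leaf (.up 2 294 3))) (.node (.leaf (.up 1 9 1)) (.leaf (.up 3 806 3)))))))) (.node (.node (.node (.node (.node (.node (.leaf (.root 5536)) (.leaf (.up 1 26 0))) (.node (.leaf (.up 2 1475 2)) (.leaf (.up 2 600 3)))) (.node (.node (.leaf (.up 1 36 1)) (.leaf (.up 1 72 2))) (.node (.leaf (.up 2 1173 1)) (.leaf (.up 1 72 3))))) (.node (.node (.node (.leaf (.root 5892)) (.leaf (.up 1 18 0))) (.node (.leaf (.up 2 1160 3)) (.leaf (.up 1 5 2)))) (.node (.node (.leaf (.up 2 1176 3)) (.leaf (.up 2 1525 1))) (.node (.leaf (.up 3 319 1))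 (.leaf (.up 1 7 2)))))) (.node (.node (.node (.node (.leaf (.up 2 34 1)) (.leaf (.up 1 78 2))) (.node (.leaf (.up 2 1171 1)) (.leaf (.up 2 590 2)))) (.node (.node (.leaf (.root 4892)) (.leaf (.up 2 1287 1))) (.node (.leaf (.up 2 1477 2)) (.leaf (.up 3 438 1))))) (.node (.node (.node (.leaf (.root 1978)) (.leaf (.up 2 791 3))) (.node (.leaf (.up 1 313 0)) (.leaf (.up 1 1 2)))) (.node (.node (.leaf (.up 3 1418 2)) (.leaf (.up 1 173 1))) (.node (.leaf (.up 2 1930 2)) (.leaf (.up 1 3 2))))))) (.node (.node (.node (.node (.node (.leaf (.root 2555)) (.leaf (.up 1 58 0))) (.node (.leaf (.up 2 1767 3)) (.leaf (.up 2 1846 1)))) (.node (.node (.leaf (.up 2 1783 3)) (.leaf (.up 1 104 2))) (.node (.leaf (.up 3 1271 3)) (.leaf (.up 2 616 1))))) (.node (.node (.node (.leaf (.up 2 1192 3)) (.leaf (.up 1 50 0))) (.node (.leaf (.up 3 1704 3)) (.leaf (.up 2 55 3)))) (.node (.node (.leaf (.up 2 776 1)) (.leaf (.up 1 39 3))) (.node (.leaf (.up 1 78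 0)) (.leaf (.up 1 39 2)))))) (.node (.node (.node (.node (.leaf (.root 1850)) (.leaf (.up 3 376 3))) (.node (.leaf (.up 3 1511 2)) (.leaf (.up 2 888 3)))) (.node (.node (.leaf (.up 3 1527 3)) (.leaf (.up 1 108 2))) (.node (.leaf (.up 2 1509 2)) (.leaf (.up 1 360 3))))) (.node (.node (.node (.leaf (.up 2 782 1)) (.leaf (.up 2 311 3))) (.node (.leaf (.up 2 1983 1)) (.leaf (.up 1 33 2)))) (.node (.node (.leaf (.up 3 1464 3)) (.leaf (.up 2 807 3))) (.node (.leaf (.up 2 1976 3)) (.leaf (.up 1 35 2))))))))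

noncomputable def vt5_4_0011 : Tr VStep :=
  .node (.node (.node (.node (.node (.node (.node (.leaf (.root 1742)) (.leaf (.up 1 158 0))) (.node (.leaf (.up 3 1872 2)) (.leaf (.up 3 729 3)))) (.node (.node (.leaf (.up 1 25 1)) (.leaf (.up 1 98 1))) (.node (.leaf (.up 2 1192 1)) (.leaf (.up 3 201 3))))) (.node (.node (.node (.leaf (.root 1584)) (.leaf (.up 1 150 0))) (.node (.leaf (.up 2 1033 3)) (.leaf (.up 2 1063 1)))) (.node (.node (.leaf (.up 3 1459 1)) (.leaf (.up 1 148 2))) (.node (.leaf (.up 2 258 1)) (.leaf (.up 1 134 3)))))) (.node (.node (.node (.node (.leaf (.up 3 31 1)) (.leaf (.up 2 985 3))) (.node (.leaf (.up 2 1198 1)) (.leaf (.up 3 473 3)))) (.node (.node (.leaf (.root 1244)) (.leaf (.up 3 735 2))) (.node (.leaf (.up 2 1366 3)) (.leaf (.up 2 223 2))))) (.node (.node (.node (.leaf (.root 4906)) (.leaf (.up 2 918 3))) (.node (.leaf (.up 2 1307 2)) (.leaf (.up 3 406 3)))) (.node (.node (.leaf (.up 2 1817 2)) (.leaf (.up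 1 144 1))) (.node (.leaf (.up 3 1305 2)) (.leaf (.up 2 1057 1))))))) (.node (.node (.node (.node (.node (.leaf (.root 1474)) (.leaf (.up 1 190 0))) (.node (.leaf (.root 1602)) (.leaf (.up 1 249 2)))) (.node (.node (.leaf (.up 2 1695 1)) (.leaf (.up 1 233 3))) (.node (.leaf (.up 1 194 0)) (.leaf (.up 3 251 2))))) (.node (.node (.node (.leaf (.root 1674)) (.leaf (.up 1 182 0))) (.node (.leaf (.up 2 730 1)) (.leaf (.up 1 182 3)))) (.node (.node (.leaf (.up 2 821 1)) (.leaf (.up 1 166 3))) (.node (.leaf (.up 2 1081 3)) (.leaf (.up 2 678 3)))))) (.node (.node (.node (.node (.leaf (.root 6070)) (.leaf (.up 2 765 2))) (.node (.leaf (.up 2 1382 3)) (.leaf (.up 3 1017 3)))) (.node (.node (.leaf (.root 2344)) (.leaf (.up 2 956 1))) (.node (.leaf (.root 2460)) (.leaf (.up 2 489 3))))) (.node (.node (.node (.leaf (.up 2 819 1)) (.leaf (.up 1 178 2))) (.node (.leaf (.up 2 1321 3)) (.leaf (.up 3 690 2)))) (.node (.node (.leaf (.up 2 1645 1))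 (.leaf (.up 2 934 3))) (.node (.leaf (.up 2 732 1)) (.leaf (.up 3 422 3)))))))) (.node (.node (.node (.node (.node (.node (.leaf (.up 2 1095 3)) (.leaf (.up 2 1389 2))) (.node (.leaf (.up 1 228 2)) (.leaf (.up 3 1901 2)))) (.node (.node (.leaf (.up 3 1623 3)) (.leaf (.up 2 200 3))) (.node (.leaf (.up 1 230 0)) (.leaf (.up 3 712 3))))) (.node (.node (.node (.leaf (.up 3 171 2)) (.leaf (.up 2 663 3))) (.node (.leaf (.up 3 1544 3)) (.leaf (.up 1 151 3)))) (.node (.node (.leaf (.up 1 169 2)) (.leaf (.up 1 135 3))) (.node (.leaf (.up 2 1048 3)) (.leaf (.up 2 913 1)))))) (.node (.node (.node (.node (.leaf (.up 2 736 2)) (.leaf (.up 3 652 1))) (.node (.leaf (.up 2 1351 3)) (.leaf (.up 2 1597 1)))) (.node (.node (.leaf (.up 3 738 2)) (.leaf (.up 2 1387 2))) (.node (.leaf (.up 2 226 2)) (.leaf (.up 2 867 1))))) (.node (.node (.node (.leaf (.up 2 1800 3)) (.leaf (.up 1 407 3))) (.node (.leaf (.up 1 441 0)) (.leaf (.up 2 919 1)))) (.node (.node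 (.leaf (.up 1 173 2)) (.leaf (.up 3 903 3))) (.node (.leaf (.up 3 1816 3)) (.leaf (.up 3 1316 2))))))) (.node (.node (.node (.node (.node (.leaf (.root 4758)) (.leaf (.up 1 186 0))) (.node (.leaf (.up 2 1127 3)) (.leaf (.up 2 760 3)))) (.node (.node (.leaf (.root 2290)) (.leaf (.up 2 1036 1))) (.node (.leaf (.up 1 198 0)) (.leaf (.up 1 189 1))))) (.node (.node (.node (.leaf (.up 2 1155 1)) (.leaf (.up 1 178 0))) (.node (.leaf (.up 1 50 1)) (.leaf (.up 1 73 1)))) (.node (.node (.leaf (.up 1 137 2)) (.leaf (.up 3 1792 2))) (.node (.leaf (.up 1 206 0)) (.leaf (.up 1 167 3)))))) (.node (.node (.node (.node (.leaf (.up 2 1383 3)) (.leaf (.up 2 1034 1))) (.node (.leaf (.up 1 192 1)) (.leaf (.up 1 187 1)))) (.node (.node (.leaf (.up 2 1911 3)) (.leaf (.up 1 340 1))) (.node (.leaf (.up 1 194 2)) (.leaf (.up 2 1509 1))))) (.node (.node (.node (.leaf (.up 1 143 2)) (.leaf (.up 2 951 3))) (.node (.leaf (.up 2 1832 3)) (.leaf (.up 1 439 3))))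 (.node (.node (.leaf (.up 2 1157 1)) (.leaf (.up 1 423 3))) (.node (.leaf (.up 1 52 1)) (.leaf (.up 2 935 3))))))))

noncomputable def vt5_4_001 : Tr VStep := .node vt5_4_0010 vt5_4_0011

noncomputable def vt5_4_00 : Tr VStep := .node vt5_4_000 vt5_4_001

noncomputable def vt5_4_0100 : Tr VStep :=
  .node (.node (.node (.node (.node (.node (.node (.leaf (.root 1658)) (.leaf (.up 1 15 0))) (.node (.leaf (.up 1 33 3)) (.leaf (.up 3 1726 3)))) (.node (.node (.leaf (.up 1 49 3)) (.leaf (.up 2 1724 2))) (.node (.leaf (.up 2 821 2)) (.leaf (.up 2 1212 2))))) (.node (.node (.node (.leaf (.root 2060)) (.leaf (.up 1 7 0))) (.node (.leaf (.up 3 376 2)) (.leaf (.up 2 1777 2)))) (.node (.node (.leaf (.up 2 126 3)) (.leaf (.up 3 1761 3))) (.node (.leaf (.up 2 378 2)) (.leaf (.up 3 1249 3)))))) (.node (.node (.node (.node (.leaf (.root 4156)) (.leaf (.up 3 1982 3))) (.node (.leaf (.up 2 801 3)) (.leaf (.up 2 1210 2)))) (.node (.node (.leaf (.up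 2 305 2)) (.leaf (.up 2 1711 1))) (.node (.leaf (.up 2 305 3)) (.leaf (.up 3 1966 3))))) (.node (.node (.node (.leaf (.root 2579)) (.leaf (.up 3 2033 3))) (.node (.leaf (.up 3 878 3)) (.leaf (.up 3 1521 3)))) (.node (.node (.leaf (.root 1384)) (.leaf (.up 3 1271 2))) (.node (.leaf (.up 1 382 2)) (.leaf (.up 2 1783 2))))))) (.node (.node (.node (.node (.node (.leaf (.up 1 1 3)) (.leaf (.up 1 47 0))) (.node (.leaf (.up 2 791 2)) (.leaf (.up 2 1182 1)))) (.node (.node (.leaf (.up 3 1290 1)) (.leaf (.up 2 1166 3))) (.node (.leaf (.up 1 17 3)) (.leaf (.up 3 1678 3))))) (.node (.node (.node (.leaf (.up 1 78 3)) (.leaf (.up 1 39 0))) (.node (.leaf (.up 2 590 3)) (.leaf (.up 3 1233 3)))) (.node (.node (.leaf (.up 1 160 1)) (.leaf (.up 3 1217 3))) (.node (.leaf (.up 2 1041 1)) (.leaf (.up 3 1747 2)))))) (.node (.node (.node (.node (.leaf (.root 3064)) (.leaf (.up 3 1399 1))) (.node (.leaf (.up 2 787 2)) (.leaf (.up 3 1950 3)))) (.node (.node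 (.leaf (.up 1 82 1)) (.leaf (.up 1 41 1))) (.node (.leaf (.up 2 785 2)) (.leaf (.up 2 1176 1))))) (.node (.node (.node (.leaf (.up 1 166 1)) (.leaf (.up 3 1489 3))) (.node (.leaf (.up 2 1047 1)) (.leaf (.up 3 1749 2)))) (.node (.node (.leaf (.up 3 1528 1)) (.leaf (.up 3 1411 1))) (.node (.leaf (.up 1 329 1)) (.leaf (.up 2 306 1)))))))) (.node (.node (.node (.node (.node (.node (.leaf (.root 4190)) (.leaf (.up 1 11 0))) (.node (.leaf (.up 2 1155 2)) (.leaf (.up 2 1215 3)))) (.node (.node (.leaf (.up 2 1665 2)) (.leaf (.up 2 1199 3))) (.node (.leaf (.up 2 1153 2)) (.leaf (.up 2 776 2))))) (.node (.node (.node (.leaf (.up 1 111 3)) (.leaf (.up 1 3 0))) (.node (.leaf (.up 2 623 3)) (.leaf (.up 3 325 2)))) (.node (.node (.leaf (.root 2182)) (.leaf (.up 3 1248 3))) (.node (.leaf (.up 1 127 0)) (.leaf (.up 1 4 1)))))) (.node (.node (.node (.node (.leaf (.root 1672)) (.leaf (.up 2 1471 3))) (.node (.leaf (.up 2 1159 2)) (.leaf (.up 2 782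 2)))) (.node (.node (.leaf (.up 2 1084 1)) (.leaf (.up 2 268 2))) (.node (.leaf (.up 2 1157 2)) (.leaf (.up 3 780 2))))) (.node (.node (.node (.leaf (.up 2 879 3)) (.leaf (.up 2 1203 1))) (.node (.leaf (.up 3 367 3)) (.leaf (.up 1 2 1)))) (.node (.node (.leaf (.up 3 1226 2)) (.leaf (.up 1 340 0))) (.node (.leaf (.up 2 1738 2)) (.leaf (.up 1 323 2))))))) (.node (.node (.node (.node (.node (.leaf (.root 6014)) (.leaf (.up 1 43 0))) (.node (.leaf (.up 1 0 3)) (.leaf (.up 2 810 2)))) (.node (.node (.leaf (.up 1 16 3)) (.leaf (.up 3 1945 1))) (.node (.leaf (.up 2 1185 2)) (.leaf (.up 2 1167 3))))) (.node (.node (.node (.leaf (.root 2543)) (.leaf (.up 1 35 0))) (.node (.leaf (.up 2 935 1)) (.leaf (.up 2 1744 3)))) (.node (.node (.leaf (.up 3 584 1)) (.leaf (.up 3 871 2))) (.node (.leaf (.up 3 1774 2)) (.leaf (.up 1 359 2)))))) (.node (.node (.node (.node (.leaf (.up 2 256 3)) (.leaf (.up 1 302 2))) (.node (.leaf (.up 2 1191 2)) (.leaf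 (.up 2 814 1)))) (.node (.node (.leaf (.up 2 784 3)) (.leaf (.up 3 705 1))) (.node (.leaf (.up 2 1189 2)) (.leaf (.up 2 812 2))))) (.node (.node (.node (.leaf (.root 1866)) (.leaf (.up 3 565 1))) (.node (.leaf (.up 2 847 3)) (.leaf (.up 2 1668 1)))) (.node (.node (.leaf (.up 3 1808 1)) (.leaf (.up 2 1472 3))) (.node (.leaf (.up 2 929 1)) (.leaf (.up 1 355 2))))))))

noncomputable def vt5_4_0101 : Tr VStep :=
  .node (.node (.node (.node (.node (.node (.node (.leaf (.root 1046)) (.leaf (.up 1 143 0))) (.node (.leaf (.up 1 182 1)) (.leaf (.up 2 1086 3)))) (.node (.node (.leaf (.up 2 1042 2)) (.leaf (.up 2 1070 3))) (.node (.leaf (.up 1 177 3)) (.leaf (.up 1 411 2))))) (.node (.node (.node (.leaf (.root 1706)) (.leaf (.up 1 135 0))) (.node (.leaf (.up 3 750 3)) (.leaf (.up 2 982 2)))) (.node (.node (.leaf (.up 3 766 3)) (.leaf (.up 2 1160 1))) (.node (.leaf (.up 1 66 1)) (.leaf (.up 1 57 1)))))) (.node (.node (.node (.node (.leaf (.up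 2 1044 2)) (.leaf (.up 2 1342 3))) (.node (.leaf (.up 3 417 3)) (.leaf (.up 2 1429 1)))) (.node (.node (.leaf (.up 2 1025 1)) (.leaf (.up 3 927 2))) (.node (.leaf (.up 2 176 1)) (.leaf (.up 2 415 2))))) (.node (.node (.node (.leaf (.up 3 1006 3)) (.leaf (.up 2 1166 1))) (.node (.leaf (.up 1 68 1)) (.leaf (.up 1 63 1)))) (.node (.node (.leaf (.up 2 1625 2)) (.leaf (.up 1 464 0))) (.node (.leaf (.up 3 1113 2)) (.leaf (.up 2 1377 1))))))) (.node (.node (.node (.node (.node (.leaf (.root 2412)) (.leaf (.up 2 1054 3))) (.node (.leaf (.up 1 129 3)) (.leaf (.up 1 441 2)))) (.node (.node (.leaf (.up 2 1074 2)) (.leaf (.up 2 1956 1))) (.node (.leaf (.up 1 211 0)) (.leaf (.up 3 789 1))))) (.node (.node (.node (.leaf (.up 3 718 3)) (.leaf (.up 1 167 0))) (.node (.leaf (.up 1 206 3)) (.leaf (.up 3 993 1)))) (.node (.node (.leaf (.up 3 1661 2)) (.leaf (.up 2 1601 3))) (.node (.leaf (.up 3 1732 1)) (.leaf (.up 3 1089 3)))))) (.node (.node (.node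 (.node (.leaf (.up 2 1076 2)) (.leaf (.up 2 957 2))) (.node (.leaf (.up 3 872 1)) (.leaf (.up 2 787 1)))) (.node (.node (.leaf (.up 2 1078 2)) (.leaf (.up 3 1294 3))) (.node (.leaf (.up 3 401 3)) (.leaf (.up 2 1806 3))))) (.node (.node (.node (.leaf (.up 3 462 3)) (.leaf (.up 2 520 1))) (.node (.leaf (.up 2 974 3)) (.leaf (.up 3 1721 1)))) (.node (.node (.leaf (.up 2 1837 1)) (.leaf (.up 2 1345 3))) (.node (.leaf (.up 3 924 1)) (.leaf (.up 3 1857 3)))))))) (.node (.node (.node (.node (.node (.node (.leaf (.root 4650)) (.leaf (.up 2 1069 2))) (.node (.leaf (.up 1 160 3)) (.leaf (.up 3 1581 2)))) (.node (.node (.leaf (.up 2 934 2)) (.leaf (.up 2 1071 2))) (.node (.leaf (.up 1 247 0)) (.leaf (.up 2 1071 3))))) (.node (.node (.node (.leaf (.up 3 491 2)) (.leaf (.up 2 1136 3))) (.node (.leaf (.up 2 1003 2)) (.leaf (.up 2 1935 1)))) (.node (.node (.leaf (.up 2 489 2)) (.leaf (.root 2466))) (.node (.leaf (.up 2 682 1)) (.leaf (.up 2 721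 1)))))) (.node (.node (.node (.node (.leaf (.up 2 951 1)) (.leaf (.up 2 1065 2))) (.node (.leaf (.up 2 928 3)) (.leaf (.up 2 1577 2)))) (.node (.node (.leaf (.up 3 930 2)) (.leaf (.up 2 1067 2))) (.node (.leaf (.up 2 418 2)) (.leaf (.up 2 547 1))))) (.node (.node (.node (.leaf (.root 2034)) (.leaf (.up 2 1904 3))) (.node (.leaf (.up 1 424 0)) (.leaf (.up 2 1392 3)))) (.node (.node (.leaf (.up 3 493 2)) (.leaf (.up 2 1636 2))) (.node (.leaf (.up 2 1005 2)) (.leaf (.up 3 1124 2))))))) (.node (.node (.node (.node (.node (.leaf (.root 6126)) (.leaf (.up 1 18 1))) (.node (.leaf (.up 3 640 3)) (.leaf (.up 3 1187 1)))) (.node (.node (.leaf (.up 2 1335 1)) (.leaf (.up 2 1039 2))) (.node (.leaf (.up 1 144 3)) (.leaf (.up 1 509 1))))) (.node (.node (.node (.leaf (.root 3010)) (.leaf (.up 1 163 0))) (.node (.leaf (.up 3 370 1)) (.leaf (.up 2 1104 3)))) (.node (.node (.leaf (.up 1 157 1)) (.leaf (.up 1 230 1))) (.node (.leaf (.up 2 1068 1))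 (.leaf (.up 3 1600 3)))))) (.node (.node (.node (.node (.leaf (.root 2346)) (.leaf (.up 2 1033 2))) (.node (.leaf (.up 1 384 0)) (.leaf (.up 2 1823 3)))) (.node (.node (.leaf (.up 1 111 1)) (.leaf (.up 1 20 1))) (.node (.leaf (.up 3 912 3)) (.leaf (.up 2 1189 1))))) (.node (.node (.node (.leaf (.up 1 155 1)) (.leaf (.up 2 1360 3))) (.node (.leaf (.up 3 1066 1)) (.leaf (.up 3 1872 3)))) (.node (.node (.leaf (.up 2 1477 1)) (.leaf (.up 2 1470 1))) (.node (.leaf (.up 2 991 3)) (.leaf (.up 3 271 1))))))))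

noncomputable def vt5_4_010 : Tr VStep := .node vt5_4_0100 vt5_4_0101

noncomputable def vt5_4_0110 : Tr VStep :=
  .node (.node (.node (.node (.node (.node (.node (.leaf (.root 2742)) (.leaf (.up 3 93 3))) (.node (.leaf (.up 2 887 2)) (.leaf (.up 3 1796 1)))) (.node (.node (.leaf (.up 3 1234 3)) (.leaf (.up 2 589 3))) (.node (.leaf (.up 2 1746 3)) (.leaf (.up 1 77 3))))) (.node (.node (.node (.leaf (.root 5720)) (.leaf (.up 1 18 3))) (.node (.leaf (.up 2 1165 3)) (.leaf (.up 3 530 3)))) (.node (.node (.leaf (.up 2 1181 3)) (.leaf (.up 2 1203 2))) (.node (.leaf (.up 3 1931 1)) (.leaf (.up 1 2 3)))))) (.node (.node (.node (.node (.leaf (.up 2 1686 1)) (.leaf (.up 2 861 3))) (.node (.leaf (.up 3 551 1)) (.leaf (.up 3 349 3)))) (.node (.node (.leaf (.up 2 2002 3)) (.leaf (.up 2 1784 2))) (.node (.leaf (.up 2 1490 3)) (.leaf (.up 3 1272 2))))) (.node (.node (.node (.leaf (.root 2146)) (.leaf (.up 3 786 3))) (.node (.leaf (.up 1 316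 0)) (.leaf (.up 3 2038 1)))) (.node (.node (.leaf (.up 2 1949 3)) (.leaf (.up 2 1207 2))) (.node (.leaf (.up 2 318 2)) (.leaf (.up 3 770 3))))))) (.node (.node (.node (.node (.node (.leaf (.root 4620)) (.leaf (.up 1 63 0))) (.node (.leaf (.up 2 505 1)) (.leaf (.up 3 125 3)))) (.node (.node (.leaf (.up 1 22 1)) (.leaf (.up 1 109 1))) (.node (.leaf (.up 2 1191 1)) (.leaf (.up 2 621 3))))) (.node (.node (.node (.leaf (.root 5176)) (.leaf (.up 2 1169 2))) (.node (.leaf (.up 1 280 2)) (.leaf (.up 1 50 3)))) (.node (.node (.leaf (.up 2 794 2)) (.leaf (.up 2 1171 2))) (.node (.leaf (.up 1 75 0)) (.leaf (.up 3 546 3)))))) (.node (.node (.node (.node (.leaf (.up 1 16 1)) (.leaf (.up 3 381 3))) (.node (.leaf (.up 2 1185 1)) (.leaf (.up 3 893 3)))) (.node (.node (.leaf (.up 1 337 2)) (.leaf (.up 1 360 0))) (.node (.leaf (.up 2 2034 3)) (.leaf (.up 3 365 3))))) (.node (.node (.node (.leaf (.root 1996)) (.leaf (.up 2 1173 2))) (.node (.leaf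 (.up 2 1453 3)) (.leaf (.up 3 818 3)))) (.node (.node (.leaf (.up 1 228 1)) (.leaf (.up 2 1175 2))) (.node (.leaf (.up 2 1109 1)) (.leaf (.up 2 1070 1)))))))) (.node (.node (.node (.node (.node (.node (.leaf (.root 1056)) (.leaf (.up 3 330 2))) (.node (.leaf (.up 2 1731 3)) (.leaf (.up 3 1516 1)))) (.node (.node (.leaf (.up 3 1747 3)) (.leaf (.up 2 1027 1))) (.node (.leaf (.up 1 103 0)) (.leaf (.up 1 178 1))))) (.node (.node (.node (.leaf (.root 2468)) (.leaf (.up 1 19 0))) (.node (.leaf (.up 1 61 1)) (.leaf (.up 1 19 3)))) (.node (.node (.leaf (.up 2 1166 2)) (.leaf (.up 1 3 3))) (.node (.leaf (.up 1 111 0)) (.leaf (.up 3 1304 1)))))) (.node (.node (.node (.node (.leaf (.up 2 1987 3)) (.leaf (.up 2 1029 1))) (.node (.leaf (.up 2 1475 3)) (.leaf (.up 3 180 1)))) (.node (.node (.leaf (.up 2 1733 2)) (.leaf (.up 1 332 0))) (.node (.leaf (.up 3 1221 2)) (.leaf (.up 1 332 3))))) (.node (.node (.node (.leaf (.up 2 1160 2)) (.leaf (.up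 2 275 3))) (.node (.leaf (.up 2 1420 3)) (.leaf (.up 2 787 3)))) (.node (.node (.leaf (.up 2 1162 1)) (.leaf (.up 3 771 2))) (.node (.leaf (.up 1 59 1)) (.leaf (.up 2 259 2))))))) (.node (.node (.node (.node (.node (.leaf (.root 1844)) (.leaf (.up 1 59 0))) (.node (.leaf (.up 2 785 1)) (.leaf (.up 2 636 3)))) (.node (.node (.leaf (.up 3 1761 2)) (.leaf (.up 1 360 2))) (.node (.leaf (.up 1 71 0)) (.leaf (.up 1 108 3))))) (.node (.node (.node (.leaf (.root 1676)) (.leaf (.up 1 51 0))) (.node (.leaf (.up 2 1196 3)) (.leaf (.up 1 293 2)))) (.node (.node (.leaf (.up 2 1212 3)) (.leaf (.up 2 807 2))) (.node (.leaf (.up 2 1724 3)) (.leaf (.up 1 35 3)))))) (.node (.node (.node (.node (.leaf (.root 3830)) (.leaf (.up 2 892 3))) (.node (.leaf (.up 2 2019 3)) (.leaf (.up 3 878 2)))) (.node (.node (.leaf (.up 2 2035 3)) (.leaf (.up 1 364 0))) (.node (.leaf (.up 2 791 1)) (.leaf (.up 1 876 0))))) (.node (.node (.node (.leaf (.up 2 1192 2)) (.leaf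 (.up 2 801 2))) (.node (.leaf (.up 1 280 0)) (.leaf (.up 2 307 3)))) (.node (.node (.leaf (.up 2 1194 2)) (.leaf (.up 2 803 2))) (.node (.leaf (.up 2 1725 1)) (.leaf (.up 2 803 3))))))))

noncomputable def vt5_4_0111 : Tr VStep :=
  .node (.node (.node (.node (.node (.node (.node (.leaf (.root 5710)) (.leaf (.up 2 985 2))) (.node (.leaf (.up 3 1602 3)) (.leaf (.up 3 473 2)))) (.node (.node (.leaf (.up 3 1618 3)) (.leaf (.up 2 1086 1))) (.node (.leaf (.up 1 227 0)) (.leaf (.up 1 143 1))))) (.node (.node (.node (.leaf (.up 3 1201 1)) (.leaf (.up 1 151 0))) (.node (.leaf (.up 1 0 1)) (.leaf (.up 2 918 2)))) (.node (.node (.leaf (.up 2 1565 2)) (.leaf (.up 1 130 3))) (.node (.leaf (.up 2 1053 2)) (.leaf (.up 2 1317 1)))))) (.node (.node (.node (.node (.leaf (.root 1640)) (.leaf (.up 3 1080 1))) (.node (.leaf (.up 1 242 1)) (.leaf (.up 1 137 1)))) (.node (.node (.leaf (.up 3 285 1)) (.leaf (.up 2 991 2))) (.node (.leaf (.up 2 1452 1))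 (.leaf (.up 2 1495 1))))) (.node (.node (.node (.leaf (.root 1916)) (.leaf (.up 1 402 1))) (.node (.leaf (.up 2 1051 2)) (.leaf (.up 2 914 2)))) (.node (.node (.leaf (.up 2 1207 1)) (.leaf (.up 3 1228 1))) (.node (.leaf (.up 1 6 1)) (.leaf (.up 3 912 2))))))) (.node (.node (.node (.node (.node (.leaf (.root 3958)) (.leaf (.up 1 191 0))) (.node (.leaf (.up 2 812 1)) (.leaf (.up 2 765 3)))) (.node (.node (.leaf (.root 2410)) (.leaf (.up 3 749 3))) (.node (.leaf (.up 1 195 0)) (.leaf (.up 2 237 3))))) (.node (.node (.node (.leaf (.up 3 1581 3)) (.leaf (.up 1 178 3))) (.node (.leaf (.up 2 1069 3)) (.leaf (.up 3 690 3)))) (.node (.node (.leaf (.up 2 1085 3)) (.leaf (.up 3 436 2))) (.node (.leaf (.up 2 1085 2)) (.leaf (.up 2 948 2)))))) (.node (.node (.node (.node (.leaf (.up 2 1378 3)) (.leaf (.up 3 1021 2))) (.node (.leaf (.up 3 1890 3)) (.leaf (.up 1 509 2)))) (.node (.node (.leaf (.up 3 1906 3)) (.leaf (.up 3 493 3))) (.node (.leaf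 (.up 2 810 1)) (.leaf (.up 2 1005 3))))) (.node (.node (.node (.leaf (.up 3 1325 3)) (.leaf (.up 2 1812 1))) (.node (.leaf (.up 2 1083 2)) (.leaf (.up 2 933 1)))) (.node (.node (.leaf (.up 2 561 1)) (.leaf (.up 2 418 3))) (.node (.leaf (.up 2 1081 2)) (.leaf (.up 3 930 3)))))))) (.node (.node (.node (.node (.node (.node (.leaf (.up 2 996 2)) (.leaf (.up 1 155 0))) (.node (.leaf (.up 2 1091 3)) (.leaf (.up 2 732 3)))) (.node (.node (.leaf (.up 3 1709 1)) (.leaf (.up 3 1750 1))) (.node (.leaf (.up 2 486 2)) (.leaf (.up 1 204 3))))) (.node (.node (.node (.leaf (.root 727)) (.leaf (.up 1 147 0))) (.node (.leaf (.up 2 1036 3)) (.leaf (.up 2 1058 2)))) (.node (.node (.leaf (.up 3 775 1)) (.leaf (.up 2 1568 2))) (.node (.leaf (.up 2 1974 1)) (.leaf (.up 2 1056 2)))))) (.node (.node (.node (.node (.leaf (.up 3 1707 1)) (.leaf (.up 2 1129 2))) (.node (.leaf (.up 2 538 1)) (.leaf (.up 2 476 3)))) (.node (.node (.leaf (.up 2 994 2)) (.leaf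 (.up 3 1131 2))) (.node (.leaf (.up 2 1860 1)) (.leaf (.up 2 1643 2))))) (.node (.node (.node (.leaf (.up 2 1292 3)) (.leaf (.up 2 915 3))) (.node (.leaf (.up 2 943 2)) (.leaf (.up 2 1062 2)))) (.node (.node (.leaf (.up 2 429 2)) (.leaf (.up 1 387 3))) (.node (.leaf (.up 3 941 2)) (.leaf (.up 2 1060 2))))))) (.node (.node (.node (.node (.node (.leaf (.root 1476)) (.leaf (.up 1 187 0))) (.node (.leaf (.up 3 1635 3)) (.leaf (.up 2 252 3)))) (.node (.node (.leaf (.up 1 43 1)) (.leaf (.up 1 80 1))) (.node (.leaf (.up 3 1139 3)) (.leaf (.up 3 1615 2))))) (.node (.node (.node (.leaf (.root 1998)) (.leaf (.up 2 691 3))) (.node (.leaf (.up 2 907 2)) (.leaf (.up 2 1026 2)))) (.node (.node (.leaf (.up 3 393 2)) (.leaf (.up 1 163 3))) (.node (.leaf (.up 2 1084 3)) (.leaf (.up 2 1024 2)))))) (.node (.node (.node (.node (.leaf (.up 1 45 1)) (.leaf (.up 3 508 3))) (.node (.leaf (.up 3 1379 3)) (.leaf (.up 2 1020 3)))) (.node (.node (.leaf (.root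 1380)) (.leaf (.up 3 1004 3))) (.node (.leaf (.up 1 450 1)) (.leaf (.up 1 441 1))))) (.node (.node (.node (.leaf (.up 2 1415 1)) (.leaf (.up 2 1532 1))) (.node (.leaf (.up 2 911 2)) (.leaf (.up 2 947 3)))) (.node (.node (.leaf (.up 3 1340 3)) (.leaf (.up 2 162 1))) (.node (.leaf (.up 2 1852 3)) (.leaf (.up 2 1043 1))))))))

noncomputable def vt5_4_011 : Tr VStep := .node vt5_4_0110 vt5_4_0111

noncomputable def vt5_4_01 : Tr VStep := .node vt5_4_010 vt5_4_011

noncomputable def vt5_4_0 : Tr VStep := .node vt5_4_00 vt5_4_01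

noncomputable def vt5_4_1000 : Tr VStep :=
  .node (.node (.node (.node (.node (.node (.node (.leaf (.root 2086)) (.leaf (.up 1 12 0))) (.node (.leaf (.up 1 101 3)) (.leaf (.up 2 861 2)))) (.node (.node (.leaf (.up 1 117 3)) (.leaf (.up 2 1044 1))) (.node (.leaf (.up 3 629 3)) (.leaf (.up 1 165 1))))) (.node (.node (.node (.leaf (.root 2180)) (.leaf (.up 1 4 0))) (.node (.leaf (.up 1 42 1)) (.leaf (.up 1 81 1)))) (.node (.node (.leaf (.up 1 58 3)) (.leaf (.up 2 784 2))) (.node (.leaf (.up 2 1689 2)) (.leaf (.up 2 1189 3)))))) (.node (.node (.node (.node (.leaf (.root 6314)) (.leaf (.up 2 1042 1))) (.node (.leaf (.up 3 869 3)) (.leaf (.up 1 163 1)))) (.node (.node (.leaf (.up 2 1746 2)) (.leaf (.up 1 332 1))) (.node (.leaf (.up 3 1234 2)) (.leaf (.up 2 1533 1))))) (.node (.node (.node (.leaf (.up 3 298 3)) (.leaf (.up 2 790 2))) (.node (.leaf (.up 2 810 3)) (.leaf (.up 2 1461 3)))) (.node (.node (.leaf (.up 2 1181 1)) (.leaf (.up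 3 788 2))) (.node (.leaf (.up 1 44 1)) (.leaf (.up 2 276 2))))))) (.node (.node (.node (.node (.node (.leaf (.root 2330)) (.leaf (.up 1 44 0))) (.node (.leaf (.up 3 581 3)) (.leaf (.up 1 556 0)))) (.node (.node (.leaf (.up 3 597 3)) (.leaf (.up 3 1226 3))) (.node (.leaf (.up 1 80 0)) (.leaf (.up 2 1738 3))))) (.node (.node (.node (.leaf (.up 1 10 3)) (.leaf (.up 1 36 0))) (.node (.leaf (.up 2 522 3)) (.leaf (.up 2 1173 3)))) (.node (.node (.leaf (.up 2 1209 2)) (.leaf (.up 2 1157 3))) (.node (.leaf (.up 1 26 3)) (.leaf (.up 2 905 1)))))) (.node (.node (.node (.node (.leaf (.up 3 837 3)) (.leaf (.up 3 660 1))) (.node (.leaf (.up 3 325 3)) (.leaf (.up 2 1573 1)))) (.node (.node (.leaf (.up 3 1969 1)) (.leaf (.up 1 379 0))) (.node (.leaf (.up 2 768 1)) (.leaf (.up 2 1482 3))))) (.node (.node (.node (.leaf (.up 2 1215 2)) (.leaf (.up 2 822 2))) (.node (.leaf (.up 3 266 3)) (.leaf (.up 2 911 1)))) (.node (.node (.leaf (.up 3 282 3))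 (.leaf (.up 2 1925 3))) (.node (.leaf (.up 2 794 3)) (.leaf (.up 3 1413 3)))))))) (.node (.node (.node (.node (.node (.node (.leaf (.root 3900)) (.leaf (.up 1 8 0))) (.node (.leaf (.up 2 864 2)) (.leaf (.up 2 1275 3)))) (.node (.node (.leaf (.up 2 354 2)) (.leaf (.up 2 1259 3))) (.node (.leaf (.up 1 116 0)) (.leaf (.up 2 589 1))))) (.node (.node (.node (.leaf (.up 1 43 3)) (.leaf (.up 1 0 0))) (.node (.leaf (.up 2 555 3)) (.leaf (.up 2 1204 3)))) (.node (.node (.leaf (.up 2 813 1)) (.leaf (.up 2 1188 2))) (.node (.leaf (.up 1 59 3)) (.leaf (.up 2 1700 2)))))) (.node (.node (.node (.node (.leaf (.root 1444)) (.leaf (.up 2 1531 3))) (.node (.leaf (.up 2 356 3)) (.leaf (.up 2 1261 2)))) (.node (.node (.leaf (.root 3610)) (.leaf (.up 2 1775 2))) (.node (.leaf (.up 3 884 3)) (.leaf (.up 3 1263 2))))) (.node (.node (.node (.leaf (.root 2442)) (.leaf (.up 2 1186 2))) (.node (.leaf (.up 1 299 0)) (.leaf (.up 2 1972 3)))) (.node (.node (.leaf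 (.up 3 809 2)) (.leaf (.up 2 1184 2))) (.node (.leaf (.up 2 297 2)) (.leaf (.up 2 1444 3))))))) (.node (.node (.node (.node (.node (.leaf (.root 4448)) (.leaf (.up 1 40 0))) (.node (.leaf (.up 1 68 3)) (.leaf (.up 2 1755 3)))) (.node (.node (.leaf (.up 1 1 1)) (.leaf (.up 1 122 1))) (.node (.leaf (.up 3 596 3)) (.leaf (.up 1 1227 0))))) (.node (.node (.node (.leaf (.root 6232)) (.leaf (.up 2 1172 3))) (.node (.leaf (.up 1 11 3)) (.leaf (.up 2 1684 3)))) (.node (.node (.leaf (.up 3 1451 1)) (.leaf (.up 2 1156 2))) (.node (.leaf (.up 3 269 2)) (.leaf (.up 2 1156 3)))))) (.node (.node (.node (.node (.leaf (.up 1 7 1)) (.leaf (.up 3 2011 3))) (.node (.leaf (.up 2 1206 1)) (.leaf (.up 2 1499 3)))) (.node (.node (.leaf (.up 3 852 3)) (.leaf (.up 3 1314 1))) (.node (.leaf (.up 1 340 3)) (.leaf (.up 2 403 1))))) (.node (.node (.node (.leaf (.root 1878)) (.leaf (.up 2 1154 2))) (.node (.leaf (.up 2 779 3)) (.leaf (.up 1 359 1)))) (.node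 (.node (.leaf (.up 3 795 3)) (.leaf (.up 2 1152 2))) (.node (.leaf (.up 2 283 3)) (.leaf (.up 2 1081 1))))))))

noncomputable def vt5_4_1001 : Tr VStep :=
  .node (.node (.node (.node (.node (.node (.node (.leaf (.root 1914)) (.leaf (.up 1 140 0))) (.node (.leaf (.up 3 499 2)) (.leaf (.up 3 1146 3)))) (.node (.node (.leaf (.up 3 757 3)) (.leaf (.up 3 1130 3))) (.node (.leaf (.up 2 245 3)) (.leaf (.up 3 1642 3))))) (.node (.node (.node (.leaf (.root 1864)) (.leaf (.up 1 132 0))) (.node (.leaf (.up 2 956 2)) (.leaf (.up 2 1077 2)))) (.node (.node (.leaf (.up 2 784 1)) (.leaf (.up 2 1061 3))) (.node (.leaf (.up 1 186 3)) (.leaf (.up 2 1079 2)))))) (.node (.node (.node (.node (.leaf (.root 6242)) (.leaf (.up 2 1402 3))) (.node (.leaf (.up 1 423 0)) (.leaf (.up 3 1914 3)))) (.node (.node (.leaf (.root 729)) (.leaf (.up 3 1148 2))) (.node (.leaf (.up 2 1013 3)) (.leaf (.up 2 1660 2))))) (.node (.node (.node (.leaf (.up 2 790 1)) (.leaf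 (.up 3 1333 3))) (.node (.leaf (.up 2 1959 1)) (.leaf (.up 2 1073 2)))) (.node (.node (.leaf (.up 2 442 2)) (.leaf (.up 3 1829 3))) (.node (.leaf (.up 3 954 2)) (.leaf (.up 2 1075 2))))))) (.node (.node (.node (.node (.node (.leaf (.root 1192)) (.leaf (.up 1 172 0))) (.node (.leaf (.up 1 197 3)) (.leaf (.up 1 424 1)))) (.node (.node (.leaf (.up 1 60 1)) (.leaf (.up 1 71 1))) (.node (.leaf (.up 2 1165 1)) (.leaf (.up 3 1624 2))))) (.node (.node (.node (.leaf (.root 2158)) (.leaf (.up 2 179 1))) (.node (.leaf (.up 1 138 3)) (.leaf (.up 2 1026 1)))) (.node (.node (.leaf (.up 2 1430 1)) (.leaf (.up 3 1541 3))) (.node (.leaf (.up 3 295 1)) (.leaf (.up 2 1047 2)))))) (.node (.node (.node (.node (.leaf (.up 1 58 1)) (.leaf (.up 1 65 1))) (.node (.leaf (.up 3 1163 1)) (.leaf (.up 3 1370 3)))) (.node (.node (.leaf (.root 2004)) (.leaf (.up 2 1311 1))) (.node (.leaf (.up 1 469 1)) (.leaf (.up 3 430 1))))) (.node (.node (.node (.leaf (.root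 6284)) (.leaf (.up 3 1813 3))) (.node (.leaf (.up 2 906 3)) (.leaf (.up 2 1041 2)))) (.node (.node (.leaf (.up 1 206 1)) (.leaf (.up 1 181 1))) (.node (.leaf (.up 3 1151 1)) (.leaf (.up 2 1043 2)))))))) (.node (.node (.node (.node (.node (.node (.leaf (.root 5264)) (.leaf (.up 2 974 2))) (.node (.leaf (.up 1 228 3)) (.leaf (.up 3 462 2)))) (.node (.node (.leaf (.up 3 244 3)) (.leaf (.up 2 1065 1))) (.node (.leaf (.up 1 227 1)) (.leaf (.up 1 152 1))))) (.node (.node (.node (.leaf (.up 3 1544 2)) (.leaf (.up 2 1076 3))) (.node (.leaf (.up 3 171 3)) (.leaf (.up 1 108 1)))) (.node (.node (.leaf (.up 1 187 3)) (.leaf (.up 1 387 1))) (.node (.leaf (.up 2 1034 2)) (.leaf (.up 2 1060 3)))))) (.node (.node (.node (.node (.leaf (.up 2 1091 2)) (.leaf (.up 2 1071 1))) (.node (.leaf (.up 2 996 3)) (.leaf (.up 1 158 1)))) (.node (.node (.leaf (.up 3 1089 2)) (.leaf (.up 2 1387 3))) (.node (.leaf (.up 2 1601 2)) (.leaf (.up 2 1472 1))))) (.node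 (.node (.node (.leaf (.up 2 427 3)) (.leaf (.up 1 389 1))) (.node (.leaf (.up 2 1036 2)) (.leaf (.up 2 901 2)))) (.node (.node (.leaf (.up 2 1184 1)) (.leaf (.up 3 1316 3))) (.node (.leaf (.up 1 17 1)) (.leaf (.up 3 903 2))))))) (.node (.node (.node (.node (.node (.leaf (.root 5378)) (.leaf (.up 1 168 0))) (.node (.leaf (.up 2 708 3)) (.leaf (.up 3 832 1)))) (.node (.node (.leaf (.root 2400)) (.leaf (.up 3 1004 2))) (.node (.leaf (.up 1 212 0)) (.leaf (.up 3 1566 1))))) (.node (.node (.node (.leaf (.up 2 544 1)) (.leaf (.up 1 160 0))) (.node (.leaf (.up 3 1681 1)) (.leaf (.up 2 1044 3)))) (.node (.node (.leaf (.root 1532)) (.leaf (.up 2 1797 1))) (.node (.leaf (.up 1 155 3)) (.leaf (.up 2 948 1)))))) (.node (.node (.node (.node (.leaf (.up 2 964 3)) (.leaf (.up 2 681 1))) (.node (.leaf (.up 1 387 0)) (.leaf (.up 3 1560 1)))) (.node (.node (.leaf (.up 2 1932 1)) (.leaf (.up 2 2039 1))) (.node (.leaf (.up 3 829 1)) (.leaf (.up 3 838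 1))))) (.node (.node (.node (.leaf (.root 1048)) (.leaf (.up 2 1300 3))) (.node (.leaf (.up 2 1068 2)) (.leaf (.up 2 933 2)))) (.node (.node (.leaf (.up 1 411 3)) (.leaf (.up 1 423 2))) (.node (.leaf (.up 2 1070 2)) (.leaf (.up 2 935 2))))))))

noncomputable def vt5_4_100 : Tr VStep := .node vt5_4_1000 vt5_4_1001

noncomputable def vt5_4_1010 : Tr VStep :=
  .node (.node (.node (.node (.node (.node (.node (.leaf (.root 2696)) (.leaf (.up 1 25 3))) (.node (.leaf (.up 2 1172 2)) (.leaf (.up 2 797 2)))) (.node (.node (.leaf (.up 2 1174 3)) (.leaf (.up 2 264 1))) (.node (.leaf (.up 2 1174 2)) (.leaf (.up 1 9 3))))) (.node (.node (.node (.leaf (.up 3 1737 3)) (.leaf (.up 1 20 0))) (.node (.leaf (.up 2 1755 2)) (.leaf (.up 3 338 2)))) (.node (.node (.leaf (.root 1386)) (.leaf (.up 2 1186 1))) (.node (.leaf (.up 1 104 0)) (.leaf (.up 1 19 1)))))) (.node (.node (.node (.node (.leaf (.up 3 1414 3)) (.leaf (.up 2 793 3))) (.node (.leaf (.up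 2 1168 2)) (.leaf (.up 2 793 2)))) (.node (.node (.leaf (.up 2 1067 1)) (.leaf (.up 2 283 2))) (.node (.leaf (.up 2 1170 2)) (.leaf (.up 3 795 2))))) (.node (.node (.node (.leaf (.root 1498)) (.leaf (.up 2 1188 1))) (.node (.leaf (.up 3 1993 3)) (.leaf (.up 1 21 1)))) (.node (.node (.leaf (.up 2 385 1)) (.leaf (.up 1 323 0))) (.node (.leaf (.up 2 1757 2)) (.leaf (.up 1 340 2))))))) (.node (.node (.node (.node (.node (.leaf (.up 3 1190 3)) (.leaf (.up 1 60 0))) (.node (.leaf (.up 2 1204 2)) (.leaf (.up 1 57 3)))) (.node (.node (.leaf (.root 1846)) (.leaf (.up 1 41 3))) (.node (.leaf (.up 2 1206 2)) (.leaf (.up 2 831 1))))) (.node (.node (.node (.leaf (.root 5454)) (.leaf (.up 1 52 0))) (.node (.leaf (.up 3 1769 3)) (.leaf (.up 1 118 3)))) (.node (.node (.leaf (.up 3 1785 3)) (.leaf (.up 2 102 3))) (.node (.leaf (.up 1 72 0)) (.leaf (.up 3 614 3)))))) (.node (.node (.node (.node (.leaf (.root 2316)) (.leaf (.up 1 313 2))) (.node (.leaf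 (.up 3 1446 3)) (.leaf (.up 2 825 1)))) (.node (.node (.leaf (.up 3 1462 3)) (.leaf (.up 3 809 3))) (.node (.leaf (.up 2 1202 2)) (.leaf (.up 2 297 3))))) (.node (.node (.node (.leaf (.up 3 2025 3)) (.leaf (.up 3 886 2))) (.node (.leaf (.up 2 1513 3)) (.leaf (.up 3 886 3)))) (.node (.node (.leaf (.up 2 1529 3)) (.leaf (.up 1 355 0))) (.node (.leaf (.up 3 2041 3)) (.leaf (.up 2 358 3)))))))) (.node (.node (.node (.node (.node (.node (.leaf (.root 2312)) (.leaf (.up 3 1705 2))) (.node (.leaf (.up 2 800 2)) (.leaf (.up 3 527 1)))) (.node (.node (.leaf (.up 2 923 1)) (.leaf (.up 1 8 3))) (.node (.leaf (.up 2 1175 3)) (.leaf (.up 2 1195 2))))) (.node (.node (.node (.leaf (.root 1604)) (.leaf (.up 1 16 0))) (.node (.leaf (.up 3 367 2)) (.leaf (.up 2 87 3)))) (.node (.node (.leaf (.up 3 1752 3)) (.leaf (.up 1 71 3))) (.node (.leaf (.up 1 108 0)) (.leaf (.up 3 763 1)))))) (.node (.node (.node (.node (.leaf (.up 2 1927 3)) (.leaf (.up 1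 280 3))) (.node (.leaf (.up 2 804 2)) (.leaf (.up 2 792 3)))) (.node (.node (.leaf (.up 2 294 2)) (.leaf (.up 2 776 3))) (.node (.leaf (.up 3 806 2)) (.leaf (.up 2 1199 2))))) (.node (.node (.node (.leaf (.up 2 1591 1)) (.leaf (.up 2 343 3))) (.node (.leaf (.up 3 646 1)) (.leaf (.up 2 765 1)))) (.node (.node (.leaf (.root 2144)) (.leaf (.up 3 1248 2))) (.node (.leaf (.up 1 361 2)) (.leaf (.up 3 1955 1))))))) (.node (.node (.node (.node (.node (.leaf (.root 1660)) (.leaf (.up 1 56 0))) (.node (.leaf (.up 2 1191 3)) (.leaf (.up 2 1161 1)))) (.node (.node (.leaf (.up 2 1207 3)) (.leaf (.up 2 1382 1))) (.node (.leaf (.up 1 68 0)) (.leaf (.up 1 40 3))))) (.node (.node (.node (.leaf (.root 1586)) (.leaf (.up 2 119 3))) (.node (.leaf (.up 2 1256 3)) (.leaf (.up 2 291 1)))) (.node (.node (.leaf (.up 3 1272 3)) (.leaf (.up 1 204 1))) (.node (.leaf (.up 2 1784 3)) (.leaf (.up 1 103 3)))))) (.node (.node (.node (.node (.leaf (.root 5058))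 (.leaf (.up 2 824 3))) (.node (.leaf (.up 2 772 2)) (.leaf (.up 2 1165 2)))) (.node (.node (.leaf (.up 2 1975 3)) (.leaf (.up 1 62 1))) (.node (.leaf (.up 3 1463 3)) (.leaf (.up 2 1167 1))))) (.node (.node (.node (.leaf (.up 1 177 1)) (.leaf (.up 2 887 3))) (.node (.leaf (.up 2 1024 1)) (.leaf (.up 2 375 3)))) (.node (.node (.leaf (.up 3 2040 3)) (.leaf (.up 1 359 0))) (.node (.leaf (.up 1 329 2)) (.leaf (.up 1 293 1))))))))

noncomputable def vt5_4_1011 : Tr VStep :=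
  .node (.node (.node (.node (.node (.node (.node (.leaf (.root 3494)) (.leaf (.up 2 1082 2))) (.node (.leaf (.up 2 585 1)) (.leaf (.up 2 562 1)))) (.node (.node (.leaf (.up 2 934 1)) (.leaf (.up 1 137 3))) (.node (.leaf (.up 2 1815 1)) (.leaf (.up 3 649 3))))) (.node (.node (.node (.leaf (.up 3 508 2)) (.leaf (.up 1 148 0))) (.node (.leaf (.up 2 1020 2)) (.leaf (.up 3 214 3)))) (.node (.node (.leaf (.up 2 1625 3)) (.leaf (.up 1 198 3))) (.node (.leaf (.up 3 1113 3)) (.leaf (.up 2 710 1)))))) (.node (.node (.node (.node (.leaf (.root 2026)) (.leaf (.up 2 1086 2))) (.node (.leaf (.up 1 439 0)) (.leaf (.up 3 921 3)))) (.node (.node (.leaf (.up 3 1302 3)) (.leaf (.up 2 1084 2))) (.node (.leaf (.up 2 1814 3)) (.leaf (.up 3 393 3))))) (.node (.node (.node (.leaf (.up 3 1546 1)) (.leaf (.up 3 470 3))) (.node (.leaf (.up 2 699 1)) (.leaf (.up 2 982 3)))) (.node (.node (.leaf (.up 3 506 2)) (.leaf (.up 3 815 1))) (.node (.leaf (.up 3 1881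 3)) (.leaf (.up 3 1139 2))))))) (.node (.node (.node (.node (.node (.leaf (.root 2896)) (.leaf (.up 1 5 1))) (.node (.leaf (.up 2 1062 3)) (.leaf (.up 2 1204 1)))) (.node (.node (.leaf (.up 2 1078 3)) (.leaf (.up 2 1048 2))) (.node (.leaf (.up 1 192 0)) (.leaf (.up 1 169 3))))) (.node (.node (.node (.leaf (.root 5564)) (.leaf (.up 3 246 3))) (.node (.leaf (.up 2 1129 3)) (.leaf (.up 2 758 3)))) (.node (.node (.leaf (.up 1 138 1)) (.leaf (.up 1 241 1))) (.node (.leaf (.up 2 1083 1)) (.leaf (.up 1 230 3)))))) (.node (.node (.node (.node (.leaf (.root 2246)) (.leaf (.up 2 1054 2))) (.node (.leaf (.up 1 407 0)) (.leaf (.up 1 441 3)))) (.node (.node (.leaf (.up 2 917 2)) (.leaf (.up 1 3 1))) (.node (.leaf (.up 2 1334 3)) (.leaf (.up 2 1202 1))))) (.node (.node (.node (.leaf (.up 1 140 1)) (.leaf (.up 1 247 1))) (.node (.leaf (.up 2 1085 1)) (.leaf (.up 3 502 3)))) (.node (.node (.leaf (.up 2 1490 1)) (.leaf (.up 2 486 3))) (.node (.leaf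 (.up 1 355 1)) (.leaf (.up 1 280 1)))))))) (.node (.node (.node (.node (.node (.node (.leaf (.up 2 1040 1)) (.leaf (.up 1 152 0))) (.node (.leaf (.up 2 1031 3)) (.leaf (.up 1 218 1)))) (.node (.node (.leaf (.up 2 1047 3)) (.leaf (.up 3 309 1))) (.node (.leaf (.up 1 228 0)) (.leaf (.up 2 1412 1))))) (.node (.node (.node (.leaf (.root 1242)) (.leaf (.up 1 144 0))) (.node (.leaf (.up 3 1096 2)) (.leaf (.up 2 961 2)))) (.node (.node (.leaf (.up 3 1252 1)) (.leaf (.up 3 711 3))) (.node (.leaf (.up 3 1624 3)) (.leaf (.up 1 46 1)))))) (.node (.node (.node (.node (.leaf (.up 2 1027 2)) (.leaf (.up 2 906 2))) (.node (.leaf (.up 2 1539 2)) (.leaf (.up 2 408 3)))) (.node (.node (.leaf (.up 2 1025 2)) (.leaf (.up 3 904 2))) (.node (.leaf (.up 1 167 1)) (.leaf (.up 3 904 3))))) (.node (.node (.node (.leaf (.up 2 1352 3)) (.leaf (.up 3 1177 1))) (.node (.leaf (.up 3 1864 3)) (.leaf (.up 1 40 1)))) (.node (.node (.leaf (.up 2 1614 2)) (.leaf (.up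 1 455 0))) (.node (.leaf (.up 2 1293 1)) (.leaf (.up 2 1398 1))))))) (.node (.node (.node (.node (.node (.leaf (.root 2464)) (.leaf (.up 1 184 0))) (.node (.leaf (.root 2440)) (.leaf (.up 1 184 3)))) (.node (.node (.leaf (.up 2 1061 2)) (.leaf (.up 1 168 3))) (.node (.leaf (.up 2 1079 3)) (.leaf (.up 3 428 2))))) (.node (.node (.node (.leaf (.root 731)) (.leaf (.up 2 759 3))) (.node (.leaf (.up 2 1640 3)) (.leaf (.up 1 247 3)))) (.node (.node (.leaf (.up 3 1642 2)) (.leaf (.up 2 537 1))) (.node (.leaf (.up 1 204 0)) (.leaf (.up 3 995 2)))))) (.node (.node (.node (.node (.leaf (.up 2 1059 2)) (.leaf (.up 2 1973 1))) (.node (.leaf (.up 2 1319 3)) (.leaf (.up 2 772 1)))) (.node (.node (.leaf (.up 2 1057 2)) (.leaf (.up 2 936 2))) (.node (.leaf (.up 2 1569 1)) (.leaf (.up 1 424 2))))) (.node (.node (.node (.leaf (.up 2 1896 3)) (.leaf (.up 3 503 3))) (.node (.leaf (.up 1 411 0)) (.leaf (.up 2 1015 3)))) (.node (.node (.leaf (.root 2228))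 (.leaf (.up 1 487 0))) (.node (.leaf (.up 2 907 1)) (.leaf (.up 1 487 3))))))))

noncomputable def vt5_4_101 : Tr VStep := .node vt5_4_1010 vt5_4_1011

noncomputable def vt5_4_10 : Tr VStep := .node vt5_4_100 vt5_4_101

noncomputable def vt5_4_1100 : Tr VStep :=
  .node (.node (.node (.node (.node (.node (.node (.leaf (.root 4120)) (.leaf (.up 1 13 0))) (.node (.leaf (.up 2 1492 2)) (.leaf (.up 1 423 1)))) (.node (.node (.leaf (.up 1 51 1)) (.leaf (.up 1 72 1))) (.node (.leaf (.up 2 1154 1)) (.leaf (.up 3 1774 3))))) (.node (.node (.node (.leaf (.up 1 46 3)) (.leaf (.up 1 5 0))) (.node (.leaf (.up 3 558 3)) (.leaf (.up 1 18 2)))) (.node (.node (.leaf (.root 908)) (.leaf (.up 2 1185 3))) (.node (.leaf (.up 1 62 3)) (.leaf (.up 1 16 2)))))) (.node (.node (.node (.node (.leaf (.up 1 53 1)) (.leaf (.up 1 78 1))) (.node (.leaf (.up 2 1156 1)) (.leaf (.up 3 2046 3)))) (.node (.node (.leaf (.root 5582)) (.leaf (.up 2 91 2))) (.node (.leaf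 (.up 2 1490 2)) (.leaf (.up 3 603 2))))) (.node (.node (.node (.leaf (.root 2374)) (.leaf (.up 3 1457 3))) (.node (.leaf (.up 1 302 0)) (.leaf (.up 1 22 2)))) (.node (.node (.leaf (.up 2 318 3)) (.leaf (.up 1 186 1))) (.node (.leaf (.up 2 1949 2)) (.leaf (.up 1 20 2))))))) (.node (.node (.node (.node (.node (.leaf (.root 3144)) (.leaf (.up 1 45 0))) (.node (.leaf (.up 1 65 3)) (.leaf (.up 3 1758 3)))) (.node (.node (.leaf (.up 1 81 3)) (.leaf (.up 1 127 2))) (.node (.leaf (.up 1 81 0)) (.leaf (.up 2 639 1))))) (.node (.node (.node (.leaf (.root 3266)) (.leaf (.up 2 1169 3))) (.node (.leaf (.up 1 14 3)) (.leaf (.up 1 50 2)))) (.node (.node (.leaf (.up 3 799 1)) (.leaf (.up 2 1665 3))) (.node (.leaf (.up 3 1977 2)) (.leaf (.up 2 1153 3)))))) (.node (.node (.node (.node (.leaf (.up 3 1715 1)) (.leaf (.up 3 2014 3))) (.node (.leaf (.up 2 514 1)) (.leaf (.up 2 633 1)))) (.node (.node (.leaf (.root 4900)) (.leaf (.up 2 918 1))) (.node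 (.leaf (.up 1 337 3)) (.leaf (.up 2 1831 1))))) (.node (.node (.node (.leaf (.root 1962)) (.leaf (.up 3 566 2))) (.node (.leaf (.up 2 782 3)) (.leaf (.up 1 54 2)))) (.node (.node (.leaf (.up 3 1607 1)) (.leaf (.up 3 1409 3))) (.node (.leaf (.up 2 758 1)) (.leaf (.up 1 52 2)))))))) (.node (.node (.node (.node (.node (.node (.leaf (.root 2240)) (.leaf (.up 1 9 0))) (.node (.leaf (.up 2 96 3)) (.leaf (.up 2 1513 2)))) (.node (.node (.leaf (.up 1 98 2)) (.leaf (.up 2 1775 3))) (.node (.leaf (.up 1 117 0)) (.leaf (.up 3 1263 3))))) (.node (.node (.node (.leaf (.root 2394)) (.leaf (.up 1 1 0))) (.node (.leaf (.up 1 47 2)) (.leaf (.up 2 1712 3)))) (.node (.node (.leaf (.up 1 63 3)) (.leaf (.up 2 1444 2))) (.node (.leaf (.up 1 45 2)) (.leaf (.up 2 1184 3)))))) (.node (.node (.node (.node (.leaf (.up 2 352 3)) (.leaf (.up 2 2029 2))) (.node (.leaf (.up 2 864 3)) (.leaf (.up 3 1535 3)))) (.node (.node (.leaf (.up 2 102 2)) (.leaf (.up 3 2031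 2))) (.node (.leaf (.up 3 614 2)) (.leaf (.up 3 2031 3))))) (.node (.node (.node (.leaf (.root 4510)) (.leaf (.up 2 1968 3))) (.node (.leaf (.up 1 43 2)) (.leaf (.up 2 957 1)))) (.node (.node (.leaf (.up 2 831 3)) (.leaf (.up 3 1440 2))) (.node (.leaf (.up 1 41 2)) (.leaf (.up 2 1952 2))))))) (.node (.node (.node (.node (.node (.leaf (.root 1966)) (.leaf (.up 1 41 0))) (.node (.leaf (.up 2 576 2)) (.leaf (.up 2 1247 3)))) (.node (.node (.leaf (.up 1 66 2)) (.leaf (.up 2 1062 1))) (.node (.leaf (.up 1 80 3)) (.leaf (.up 1 151 1))))) (.node (.node (.node (.leaf (.up 1 15 3)) (.leaf (.up 1 33 0))) (.node (.leaf (.up 1 15 2)) (.leaf (.up 2 1168 3)))) (.node (.node (.leaf (.up 3 525 2)) (.leaf (.up 2 1152 3))) (.node (.leaf (.up 1 13 2)) (.leaf (.up 2 1341 1)))))) (.node (.node (.node (.node (.leaf (.up 1 68 2)) (.leaf (.up 2 1056 1))) (.node (.leaf (.up 2 320 3)) (.leaf (.up 2 145 1)))) (.node (.node (.leaf (.up 3 261 1)) (.leaf (.up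 1 382 0))) (.node (.leaf (.up 2 1460 1)) (.leaf (.up 2 1487 1))))) (.node (.node (.node (.leaf (.up 2 783 3)) (.leaf (.up 2 1424 3))) (.node (.leaf (.up 1 11 2)) (.leaf (.up 2 1936 3)))) (.node (.node (.leaf (.up 2 1199 1)) (.leaf (.up 3 1236 1))) (.node (.leaf (.up 1 9 2)) (.leaf (.up 1 101 1))))))))

noncomputable def vt5_4_1101 : Tr VStep :=
  .node (.node (.node (.node (.node (.node (.node (.leaf (.root 2720)) (.leaf (.up 2 1402 2))) (.node (.leaf (.up 3 225 3)) (.leaf (.up 3 1914 2)))) (.node (.node (.leaf (.up 1 241 3)) (.leaf (.up 2 1400 2))) (.node (.leaf (.up 1 241 0)) (.leaf (.up 2 1912 2))))) (.node (.node (.node (.leaf (.up 3 188 2)) (.leaf (.up 2 1073 3))) (.node (.leaf (.up 2 700 2)) (.leaf (.up 3 1333 2)))) (.node (.node (.leaf (.up 1 190 2)) (.leaf (.up 2 1569 3))) (.node (.leaf (.up 1 249 0)) (.leaf (.up 2 1057 3)))))) (.node (.node (.node (.node (.leaf (.root 2160)) (.leaf (.up 2 1918 3))) (.node (.leaf (.up 1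 247 2)) (.leaf (.up 2 1918 2)))) (.node (.node (.leaf (.up 3 757 2)) (.leaf (.up 2 1404 2))) (.node (.leaf (.up 2 245 2)) (.leaf (.up 3 1916 2))))) (.node (.node (.node (.leaf (.up 1 184 2)) (.leaf (.root 2420))) (.node (.leaf (.up 3 942 3)) (.leaf (.up 2 896 1)))) (.node (.node (.leaf (.up 1 186 2)) (.leaf (.up 2 1843 2))) (.node (.leaf (.up 2 1701 1)) (.leaf (.up 3 1331 2))))))) (.node (.node (.node (.node (.node (.leaf (.root 4462)) (.leaf (.up 1 173 0))) (.node (.leaf (.up 1 211 2)) (.leaf (.up 3 1524 1)))) (.node (.node (.leaf (.root 2382)) (.leaf (.up 2 1051 1))) (.node (.leaf (.up 1 209 0)) (.leaf (.up 2 1614 3))))) (.node (.node (.node (.leaf (.up 2 1172 1)) (.leaf (.up 1 165 0))) (.node (.leaf (.up 2 654 3)) (.leaf (.up 2 1041 3)))) (.node (.node (.leaf (.up 1 158 2)) (.leaf (.up 2 1025 3))) (.node (.leaf (.up 1 158 3)) (.leaf (.up 3 1280 1)))))) (.node (.node (.node (.node (.leaf (.up 2 961 3)) (.leaf (.up 2 1053 1)))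 (.node (.leaf (.up 3 449 3)) (.leaf (.up 1 172 1)))) (.node (.node (.leaf (.up 2 312 1)) (.leaf (.up 1 323 1))) (.node (.leaf (.up 3 1417 1)) (.leaf (.up 3 1522 1))))) (.node (.node (.node (.leaf (.up 1 152 2)) (.leaf (.up 1 439 1))) (.node (.leaf (.up 3 664 2)) (.leaf (.up 3 1809 3)))) (.node (.node (.leaf (.up 2 1170 1)) (.leaf (.up 2 1793 3))) (.node (.leaf (.up 1 35 1)) (.leaf (.up 3 1281 3)))))))) (.node (.node (.node (.node (.node (.node (.leaf (.up 2 1351 2)) (.leaf (.up 1 137 0))) (.node (.leaf (.up 2 736 3)) (.leaf (.up 1 206 2)))) (.node (.node (.leaf (.up 1 14 1)) (.leaf (.up 1 117 1))) (.node (.leaf (.up 2 1215 1)) (.leaf (.up 1 204 2))))) (.node (.node (.node (.leaf (.root 1960)) (.leaf (.up 1 129 0))) (.node (.leaf (.up 3 687 3)) (.leaf (.up 2 1072 1)))) (.node (.node (.leaf (.root 2810)) (.leaf (.up 2 1056 3))) (.node (.leaf (.up 1 191 3)) (.leaf (.up 2 1568 3)))))) (.node (.node (.node (.node (.leaf (.up 1 8 1))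 (.leaf (.up 2 714 2))) (.node (.leaf (.up 2 1209 1)) (.leaf (.up 2 1919 3)))) (.node (.node (.leaf (.up 2 1366 1)) (.leaf (.up 3 712 2))) (.node (.leaf (.up 1 487 1)) (.leaf (.up 2 200 2))))) (.node (.node (.node (.leaf (.up 2 943 3)) (.leaf (.up 2 1328 3))) (.node (.leaf (.up 2 1292 2)) (.leaf (.up 1 360 1)))) (.node (.node (.leaf (.up 2 1806 2)) (.leaf (.up 1 135 1))) (.node (.leaf (.up 3 1294 2)) (.leaf (.up 2 1078 1))))))) (.node (.node (.node (.node (.node (.leaf (.root 2188)) (.leaf (.up 1 169 0))) (.node (.leaf (.up 1 192 3)) (.leaf (.up 2 1631 3)))) (.node (.node (.leaf (.up 2 208 3)) (.leaf (.up 3 1615 3))) (.node (.leaf (.up 3 720 3)) (.leaf (.up 3 578 1))))) (.node (.node (.node (.leaf (.root 1740)) (.leaf (.up 2 1040 3))) (.node (.leaf (.up 1 143 3)) (.leaf (.up 3 1552 3)))) (.node (.node (.leaf (.up 2 802 1)) (.leaf (.up 1 163 2))) (.node (.leaf (.up 3 1939 1)) (.leaf (.up 2 1024 3)))))) (.node (.node (.node (.node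 (.leaf (.up 3 1379 2)) (.leaf (.up 3 1887 3))) (.node (.leaf (.up 3 575 1)) (.leaf (.up 2 1375 3)))) (.node (.node (.leaf (.root 2006)) (.leaf (.up 2 939 1))) (.node (.leaf (.up 1 464 3)) (.leaf (.up 3 1818 1))))) (.node (.node (.node (.leaf (.up 2 804 1)) (.leaf (.up 1 165 2))) (.node (.leaf (.up 2 911 3)) (.leaf (.up 2 1296 3)))) (.node (.node (.leaf (.up 3 927 3)) (.leaf (.up 1 167 2))) (.node (.leaf (.up 2 415 3)) (.leaf (.up 3 1792 3))))))))

noncomputable def vt5_4_110 : Tr VStep := .node vt5_4_1100 vt5_4_1101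

noncomputable def vt5_4_1110 : Tr VStep :=
  .node (.node (.node (.node (.node (.node (.node (.leaf (.root 2238)) (.leaf (.up 1 10 1))) (.node (.leaf (.up 3 1428 2)) (.leaf (.up 3 29 3)))) (.node (.node (.leaf (.up 2 1327 1)) (.leaf (.up 1 13 3))) (.node (.leaf (.up 2 1170 3)) (.leaf (.up 3 525 3))))) (.node (.node (.node (.leaf (.root 1206)) (.leaf (.up 1 21 0))) (.node (.leaf (.up 3 2011 2)) (.leaf (.up 1 82 2)))) (.node (.node (.leaf (.up 2 1757 3)) (.leaf (.up 1 66 3))) (.node (.leaf (.up 2 1076 1)) (.leaf (.up 1 80 2)))))) (.node (.node (.node (.node (.leaf (.root 5110)) (.leaf (.up 1 25 2))) (.node (.leaf (.up 2 1424 2)) (.leaf (.up 2 797 3)))) (.node (.node (.leaf (.up 2 1938 2)) (.leaf (.up 1 12 1))) (.node (.leaf (.up 2 1938 3)) (.leaf (.up 3 269 3))))) (.node (.node (.node (.leaf (.up 2 131 1)) (.leaf (.up 3 338 3))) (.node (.leaf (.up 2 1074 1)) (.leaf (.up 3 850 3)))) (.node (.node (.leaf (.root 2404)) (.leaf (.up 3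 596 2))) (.node (.leaf (.up 1 364 1)) (.leaf (.up 3 279 1))))))) (.node (.node (.node (.node (.node (.leaf (.root 1366)) (.leaf (.up 1 61 0))) (.node (.leaf (.up 2 1186 3)) (.leaf (.up 1 573 0)))) (.node (.node (.leaf (.up 2 1202 3)) (.leaf (.up 1 63 2))) (.node (.leaf (.up 1 65 0)) (.leaf (.up 1 45 3))))) (.node (.node (.node (.leaf (.root 2262)) (.leaf (.up 1 53 0))) (.node (.leaf (.up 2 1261 3)) (.leaf (.up 3 626 3)))) (.node (.node (.leaf (.root 6310)) (.leaf (.up 3 610 3))) (.node (.leaf (.up 1 73 0)) (.leaf (.up 1 98 3)))))) (.node (.node (.node (.node (.leaf (.root 2958)) (.leaf (.up 1 57 2))) (.node (.leaf (.up 2 1822 1)) (.leaf (.up 3 317 3)))) (.node (.node (.leaf (.root 1848)) (.leaf (.up 1 59 2))) (.node (.leaf (.up 2 576 1)) (.leaf (.up 2 813 3))))) (.node (.node (.node (.leaf (.up 3 1535 2)) (.leaf (.up 3 882 3))) (.node (.leaf (.up 2 2029 3)) (.leaf (.up 1 118 2)))) (.node (.node (.leaf (.root 2032)) (.leaf (.up 2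 800 1))) (.node (.leaf (.up 2 1533 3)) (.leaf (.up 1 116 2)))))))) (.node (.node (.node (.node (.node (.node (.leaf (.up 2 1667 3)) (.leaf (.up 1 25 0))) (.node (.leaf (.up 2 1155 3)) (.leaf (.up 2 540 3)))) (.node (.node (.leaf (.up 2 1171 3)) (.leaf (.up 2 1980 1))) (.node (.leaf (.up 1 101 0)) (.leaf (.up 1 12 3))))) (.node (.node (.node (.leaf (.root 4282)) (.leaf (.up 1 17 0))) (.node (.leaf (.up 1 111 2)) (.leaf (.up 3 2022 2)))) (.node (.node (.leaf (.root 2372)) (.leaf (.up 3 579 3))) (.node (.leaf (.up 1 109 0)) (.leaf (.up 2 67 3)))))) (.node (.node (.node (.node (.leaf (.up 1 36 2)) (.leaf (.up 2 796 3))) (.node (.leaf (.up 2 1923 3)) (.leaf (.up 2 779 1)))) (.node (.node (.leaf (.up 1 38 2)) (.leaf (.up 2 268 3))) (.node (.leaf (.up 3 1582 1)) (.leaf (.up 3 780 3))))) (.node (.node (.node (.leaf (.up 2 1484 3)) (.leaf (.up 2 528 1))) (.node (.leaf (.up 3 1996 3)) (.leaf (.up 3 1697 1)))) (.node (.node (.leaf (.up 2 1845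 1)) (.leaf (.up 1 323 3))) (.node (.leaf (.up 2 105 2)) (.leaf (.up 3 835 3))))))) (.node (.node (.node (.node (.node (.leaf (.up 1 0 2)) (.leaf (.up 1 57 0))) (.node (.leaf (.up 2 1699 3)) (.leaf (.up 1 60 3)))) (.node (.node (.leaf (.up 1 2 2)) (.leaf (.up 1 44 3))) (.node (.leaf (.up 2 1203 3)) (.leaf (.up 1 556 3))))) (.node (.node (.node (.leaf (.up 2 1260 3)) (.leaf (.up 1 49 0))) (.node (.leaf (.up 2 1284 1)) (.leaf (.up 2 115 3)))) (.node (.node (.leaf (.root 2226)) (.leaf (.up 2 1168 1))) (.node (.leaf (.up 1 77 0)) (.leaf (.up 1 33 1)))))) (.node (.node (.node (.node (.leaf (.up 1 4 2)) (.leaf (.up 1 316 1))) (.node (.leaf (.up 3 516 2)) (.leaf (.up 2 828 3)))) (.node (.node (.leaf (.up 1 6 2)) (.leaf (.up 2 812 3))) (.node (.leaf (.up 1 168 1)) (.leaf (.up 1 211 1))))) (.node (.node (.node (.leaf (.root 1704)) (.leaf (.up 2 1174 1))) (.node (.leaf (.up 1 75 2)) (.leaf (.up 1 39 1)))) (.node (.node (.leaf (.up 2 585 2))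 (.leaf (.up 2 1472 2))) (.node (.leaf (.up 1 73 2)) (.leaf (.up 1 355 3))))))))

noncomputable def vt5_4_1111 : Tr VStep :=
  .node (.node (.node (.node (.node (.node (.node (.leaf (.root 733)) (.leaf (.up 1 157 0))) (.node (.leaf (.up 2 1026 3)) (.leaf (.up 2 1850 2)))) (.node (.node (.leaf (.up 2 1042 3)) (.leaf (.up 3 1921 1))) (.node (.leaf (.up 1 177 2)) (.leaf (.up 2 816 1))))) (.node (.node (.node (.leaf (.root 2264)) (.leaf (.up 1 149 0))) (.node (.leaf (.up 3 1101 3)) (.leaf (.up 2 1397 2)))) (.node (.node (.leaf (.up 3 592 1)) (.leaf (.up 2 1911 2))) (.node (.leaf (.up 1 233 0)) (.leaf (.up 1 194 3)))))) (.node (.node (.node (.node (.leaf (.up 3 2044 1)) (.leaf (.up 2 1342 2))) (.node (.leaf (.up 3 1794 3)) (.leaf (.up 2 822 1)))) (.node (.node (.leaf (.up 3 1810 3)) (.leaf (.up 3 1340 2))) (.node (.leaf (.up 1 181 2)) (.leaf (.up 2 1852 2))))) (.node (.node (.node (.leaf (.up 3 1357 3)) (.leaf (.up 3 557 1))) (.node (.leaf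 (.up 2 760 2)) (.leaf (.up 2 1692 1)))) (.node (.node (.leaf (.up 2 250 2)) (.leaf (.up 1 450 0))) (.node (.leaf (.up 2 953 1)) (.leaf (.up 2 1395 2))))))) (.node (.node (.node (.node (.node (.leaf (.root 2414)) (.leaf (.up 1 189 0))) (.node (.leaf (.up 1 147 1)) (.leaf (.up 1 189 3)))) (.node (.node (.leaf (.up 3 1586 3)) (.leaf (.up 1 173 3))) (.node (.leaf (.up 2 1074 3)) (.leaf (.up 3 1816 2))))) (.node (.node (.node (.leaf (.up 3 1133 3)) (.leaf (.up 1 181 0))) (.node (.leaf (.up 2 732 2)) (.leaf (.up 1 242 3)))) (.node (.node (.leaf (.up 3 1661 3)) (.leaf (.up 2 226 3))) (.node (.leaf (.up 1 103 1)) (.leaf (.up 3 738 3)))))) (.node (.node (.node (.node (.leaf (.root 5832)) (.leaf (.up 2 257 1))) (.node (.leaf (.up 1 151 2)) (.leaf (.up 2 957 3)))) (.node (.node (.leaf (.up 2 1060 1)) (.leaf (.up 3 941 3))) (.node (.leaf (.up 1 149 1)) (.leaf (.up 2 429 3))))) (.node (.node (.node (.leaf (.up 3 1901 3)) (.leaf (.up 2 1195 1)))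 (.node (.leaf (.up 2 1389 3)) (.leaf (.up 1 26 1)))) (.node (.node (.leaf (.up 1 218 2)) (.leaf (.up 2 994 3))) (.node (.leaf (.up 2 730 2)) (.leaf (.up 2 1348 1)))))))) (.node (.node (.node (.node (.node (.node (.leaf (.up 2 1027 3)) (.leaf (.up 2 654 2))) (.node (.leaf (.up 2 1539 3)) (.leaf (.up 2 1158 1)))) (.node (.node (.leaf (.up 3 1298 1)) (.leaf (.up 1 140 3))) (.node (.leaf (.up 2 1043 3)) (.leaf (.up 1 140 2))))) (.node (.node (.node (.leaf (.up 3 1864 2)) (.leaf (.up 2 723 3))) (.node (.leaf (.up 2 1352 2)) (.leaf (.up 1 211 3)))) (.node (.node (.leaf (.up 1 184 1)) (.leaf (.up 1 195 1))) (.node (.leaf (.up 2 1033 1)) (.leaf (.up 2 707 2)))))) (.node (.node (.node (.node (.leaf (.up 2 1283 2)) (.leaf (.up 2 412 3))) (.node (.leaf (.up 2 1283 3)) (.leaf (.up 1 138 2)))) (.node (.node (.leaf (.up 3 1281 2)) (.leaf (.up 1 49 1))) (.node (.leaf (.up 2 1793 2)) (.leaf (.up 2 1152 1))))) (.node (.node (.node (.leaf (.up 1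 190 1)) (.leaf (.up 1 197 1))) (.node (.leaf (.up 2 1039 1)) (.leaf (.up 2 979 3)))) (.node (.node (.leaf (.up 3 1504 1)) (.leaf (.up 3 1435 1))) (.node (.leaf (.up 1 337 1)) (.leaf (.up 3 711 2))))))) (.node (.node (.node (.node (.node (.leaf (.root 5198)) (.leaf (.up 3 188 3))) (.node (.leaf (.up 2 1059 3)) (.leaf (.up 2 700 3)))) (.node (.node (.leaf (.up 2 1075 3)) (.leaf (.up 3 684 2))) (.node (.leaf (.up 1 197 0)) (.leaf (.up 1 172 2))))) (.node (.node (.node (.leaf (.root 3882)) (.leaf (.up 1 177 0))) (.node (.leaf (.up 3 1132 3)) (.leaf (.up 2 755 3)))) (.node (.node (.leaf (.up 3 1148 3)) (.leaf (.up 1 227 2))) (.node (.leaf (.up 2 1660 3)) (.leaf (.up 1 227 3)))))) (.node (.node (.node (.node (.leaf (.root 2244)) (.leaf (.up 2 956 3))) (.node (.leaf (.up 1 402 0)) (.leaf (.up 2 444 3)))) (.node (.node (.leaf (.up 2 1843 3)) (.leaf (.up 3 428 3))) (.node (.leaf (.up 3 1331 3)) (.leaf (.up 1 168 2))))) (.node (.node (.node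 (.leaf (.up 3 1388 3)) (.leaf (.up 2 1011 3))) (.node (.leaf (.up 3 1388 2)) (.leaf (.up 3 499 3)))) (.node (.node (.leaf (.up 3 1916 3)) (.leaf (.up 2 797 1))) (.node (.leaf (.up 2 1404 3)) (.leaf (.up 3 995 3))))))))

noncomputable def vt5_4_111 : Tr VStep := .node vt5_4_1110 vt5_4_1111

noncomputable def vt5_4_11 : Tr VStep := .node vt5_4_110 vt5_4_111

noncomputable def vt5_4_1 : Tr VStep := .node vt5_4_10 vt5_4_11

noncomputable def vt5_4_ : Tr VStep := .node vt5_4_0 vt5_4_1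

noncomputable def vt5_5_0000 : Tr VStep :=
  .node (.node (.node (.node (.node (.node (.node (.leaf (.root 1190)) (.leaf (.up 3 817 0))) (.node (.leaf (.up 2 1032 3)) (.leaf (.up 2 1426 0)))) (.node (.node (.leaf (.up 3 703 5)) (.leaf (.up 2 1956 2))) (.node (.leaf (.up 3 430 4)) (.leaf (.up 3 972 6))))) (.node (.node (.node (.leaf (.up 4 1942 6)) (.leaf (.up 4 76 6))) (.node (.leaf (.up 4 926 6)) (.leaf (.up 3 1280 3)))) (.node (.node (.leaf (.up 2 1841 4)) (.leaf (.up 4 1101 6))) (.node (.leaf (.up 1 299 0)) (.leaf (.up 3 1536 1)))))) (.node (.node (.node (.node (.leaf (.up 2 31 6)) (.leaf (.up 3 753 4))) (.node (.leaf (.up 3 1740 2)) (.leaf (.up 2 884 5)))) (.node (.node (.leaf (.up 2 1054 6)) (.leaf (.up 2 882 5))) (.node (.leaf (.up 3 848 5)) (.leaf (.up 4 99 3))))) (.node (.node (.node (.leaf (.up 4 1638 4)) (.leaf (.up 3 1100 6))) (.node (.leaf (.up 4 1003 3)) (.leaf (.up 3 27 0)))) (.node (.node (.leaf (.up 3 466 4)) (.leaf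 (.up 2 1785 0))) (.node (.leaf (.up 4 978 4)) (.leaf (.up 3 1401 1))))))) (.node (.node (.node (.node (.node (.leaf (.up 2 29 6)) (.leaf (.up 2 959 1))) (.node (.leaf (.up 2 1705 5)) (.leaf (.up 3 1056 3)))) (.node (.node (.leaf (.up 2 910 4)) (.leaf (.up 3 966 0))) (.node (.leaf (.up 3 20 6)) (.leaf (.up 4 1998 6))))) (.node (.node (.node (.leaf (.up 3 1919 0)) (.leaf (.up 2 1102 0))) (.node (.leaf (.up 4 1320 3)) (.leaf (.up 3 70 6)))) (.node (.node (.leaf (.up 3 1941 6)) (.leaf (.up 2 1039 0))) (.node (.leaf (.up 3 1297 2)) (.leaf (.up 3 684 0)))))) (.node (.node (.node (.node (.leaf (.up 4 1053 6)) (.leaf (.up 1 198 1))) (.node (.leaf (.up 3 1109 0)) (.leaf (.up 1 109 1)))) (.node (.node (.leaf (.up 4 28 6)) (.leaf (.up 4 1890 5))) (.node (.leaf (.up 3 75 3)) (.leaf (.up 3 1829 0))))) (.node (.node (.node (.leaf (.up 3 625 5)) (.leaf (.up 3 78 6))) (.node (.leaf (.up 2 924 0)) (.leaf (.up 2 1102 4)))) (.node (.node (.leaf (.up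 4 917 6)) (.leaf (.up 3 597 5))) (.node (.leaf (.up 4 631 5)) (.leaf (.up 3 1018 4)))))))) (.node (.node (.node (.node (.node (.node (.leaf (.up 3 1056 2)) (.leaf (.up 2 1581 0))) (.node (.leaf (.up 2 959 0)) (.leaf (.up 2 522 2)))) (.node (.node (.leaf (.up 3 687 5)) (.leaf (.up 4 1168 3))) (.node (.leaf (.up 3 1022 0)) (.leaf (.up 3 966 1))))) (.node (.node (.node (.leaf (.up 4 2004 1)) (.leaf (.up 3 1253 1))) (.node (.leaf (.up 3 647 4)) (.leaf (.up 2 1102 1)))) (.node (.node (.leaf (.up 3 1803 2)) (.leaf (.up 3 1297 6))) (.node (.leaf (.up 2 1331 4)) (.leaf (.up 2 1978 5)))))) (.node (.node (.node (.node (.leaf (.up 4 763 4)) (.leaf (.up 4 868 1))) (.node (.leaf (.up 2 254 1)) (.leaf (.up 2 718 0)))) (.node (.node (.leaf (.up 3 850 5)) (.leaf (.up 3 20 1))) (.node (.leaf (.up 2 910 1)) (.leaf (.up 3 1680 6))))) (.node (.node (.node (.leaf (.up 3 714 6)) (.leaf (.up 4 1644 4))) (.node (.leaf (.up 5 1730 6)) (.leaf (.up 5 1132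 4)))) (.node (.node (.leaf (.up 2 2013 1)) (.leaf (.up 3 273 6))) (.node (.leaf (.up 2 1655 0)) (.leaf (.up 5 1305 6))))))) (.node (.node (.node (.node (.node (.leaf (.up 4 1080 4)) (.leaf (.up 2 641 1))) (.node (.leaf (.up 3 538 2)) (.leaf (.up 1 56 0)))) (.node (.node (.leaf (.up 3 1727 5)) (.leaf (.up 4 900 4))) (.node (.leaf (.up 3 1709 5)) (.leaf (.up 4 388 4))))) (.node (.node (.node (.leaf (.up 2 924 5)) (.leaf (.up 3 175 4))) (.node (.leaf (.up 2 910 5)) (.leaf (.up 3 687 4)))) (.node (.node (.leaf (.up 3 1811 4)) (.leaf (.up 1 275 0))) (.node (.leaf (.up 2 1153 0)) (.leaf (.up 1 257 2)))))) (.node (.node (.node (.node (.leaf (.up 2 731 3)) (.leaf (.up 4 504 1))) (.node (.leaf (.up 2 1860 5)) (.leaf (.up 4 1683 6)))) (.node (.node (.leaf (.up 3 1963 0)) (.leaf (.up 2 882 2))) (.node (.leaf (.up 3 274 1)) (.leaf (.up 4 1895 4))))) (.node (.node (.node (.leaf (.up 3 1736 6)) (.leaf (.up 1 89 2))) (.node (.leaf (.up 4 987 3))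 (.leaf (.up 3 1100 4)))) (.node (.node (.leaf (.up 1 98 0)) (.leaf (.up 4 851 0))) (.node (.leaf (.up 2 615 5)) (.leaf (.up 3 471 2))))))))

noncomputable def vt5_5_0001 : Tr VStep :=
  .node (.node (.node (.node (.node (.node (.node (.leaf (.root 1088)) (.leaf (.up 1 18 2))) (.node (.leaf (.up 3 538 4)) (.leaf (.up 1 0 3)))) (.node (.node (.leaf (.up 2 1264 1)) (.leaf (.up 3 181 6))) (.node (.leaf (.up 4 1115 1)) (.leaf (.up 3 1207 5))))) (.node (.node (.node (.leaf (.up 4 231 6)) (.leaf (.up 4 256 3))) (.node (.leaf (.up 3 647 2)) (.leaf (.up 4 404 5)))) (.node (.node (.leaf (.up 1 8 1)) (.leaf (.up 2 896 3))) (.node (.leaf (.up 2 238 6)) (.leaf (.up 1 313 4)))))) (.node (.node (.node (.node (.leaf (.root 2446)) (.leaf (.up 4 180 6))) (.node (.leaf (.up 3 1106 1)) (.leaf (.up 3 1265 4)))) (.node (.node (.leaf (.up 4 333 4)) (.leaf (.up 3 682 0))) (.node (.leaf (.up 4 1895 6)) (.leaf (.up 3 837 4))))) (.node (.node (.node (.leaf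 (.up 1 1 1)) (.leaf (.up 4 123 5))) (.node (.leaf (.up 1 89 5)) (.leaf (.up 2 2019 3)))) (.node (.node (.leaf (.up 2 881 1)) (.leaf (.up 2 1852 6))) (.node (.leaf (.up 3 2002 4)) (.leaf (.up 4 820 6))))))) (.node (.node (.node (.node (.node (.leaf (.up 1 2 2)) (.leaf (.up 2 1581 1))) (.node (.leaf (.up 2 40 3)) (.leaf (.up 3 544 3)))) (.node (.node (.leaf (.up 4 168 3)) (.leaf (.up 3 181 5))) (.node (.leaf (.up 5 1893 6)) (.leaf (.up 2 1791 0))))) (.node (.node (.node (.leaf (.up 3 1253 0)) (.leaf (.up 4 831 6))) (.node (.leaf (.up 4 237 6)) (.leaf (.up 3 1709 4)))) (.node (.node (.leaf (.up 3 936 3)) (.leaf (.up 3 421 1))) (.node (.leaf (.up 2 1331 2)) (.leaf (.up 2 1283 2)))))) (.node (.node (.node (.node (.leaf (.root 1824)) (.leaf (.up 4 1206 6))) (.node (.leaf (.up 2 1999 0)) (.leaf (.up 3 1233 4)))) (.node (.node (.leaf (.up 3 1099 3)) (.leaf (.up 5 183 6))) (.node (.leaf (.up 4 877 4)) (.leaf (.up 4 1215 0))))) (.node (.node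 (.node (.leaf (.up 4 229 6)) (.leaf (.up 4 1428 0))) (.node (.leaf (.up 1 6 0)) (.leaf (.up 3 78 4)))) (.node (.node (.leaf (.up 3 1867 3)) (.leaf (.up 3 830 6))) (.node (.leaf (.up 2 1117 5)) (.leaf (.up 3 2042 4)))))))) (.node (.node (.node (.node (.node (.node (.leaf (.up 3 1169 5)) (.leaf (.up 4 16 3))) (.node (.leaf (.up 2 37 0)) (.leaf (.up 3 528 3)))) (.node (.node (.leaf (.up 5 1486 1)) (.leaf (.up 2 1956 4))) (.node (.leaf (.up 5 1175 5)) (.leaf (.up 3 1620 1))))) (.node (.node (.node (.leaf (.up 4 582 1)) (.leaf (.up 4 638 0))) (.node (.leaf (.up 4 436 5)) (.leaf (.up 4 272 3)))) (.node (.node (.leaf (.up 4 1833 2)) (.leaf (.up 3 827 4))) (.node (.leaf (.up 3 413 1)) (.leaf (.up 3 315 4)))))) (.node (.node (.node (.node (.leaf (.up 4 1479 1)) (.leaf (.up 2 1372 5))) (.node (.leaf (.up 2 718 2)) (.leaf (.up 2 340 0)))) (.node (.node (.leaf (.up 4 335 4)) (.leaf (.up 4 1414 1))) (.node (.leaf (.up 2 1370 2)) (.leaf (.up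 2 1370 5))))) (.node (.node (.node (.leaf (.up 3 1531 3)) (.leaf (.up 3 2035 3))) (.node (.leaf (.up 4 404 1)) (.leaf (.up 4 1641 6)))) (.node (.node (.leaf (.up 3 2047 2)) (.leaf (.up 2 1632 6))) (.node (.leaf (.up 4 1458 6)) (.leaf (.up 1 109 5))))))) (.node (.node (.node (.node (.node (.leaf (.root 2474)) (.leaf (.up 3 1811 1))) (.node (.leaf (.up 1 147 0)) (.leaf (.up 4 560 4)))) (.node (.node (.leaf (.up 5 561 6)) (.leaf (.up 3 176 3))) (.node (.leaf (.up 5 1593 6)) (.leaf (.up 3 688 3))))) (.node (.node (.node (.leaf (.up 4 1465 6)) (.leaf (.up 2 712 0))) (.node (.leaf (.up 4 433 6)) (.leaf (.up 4 1428 5)))) (.node (.node (.leaf (.up 2 787 4)) (.leaf (.up 2 1426 5))) (.node (.leaf (.up 1 275 2)) (.leaf (.up 3 1066 0)))))) (.node (.node (.node (.node (.leaf (.up 3 380 5)) (.leaf (.up 2 1130 1))) (.node (.leaf (.up 4 2032 1)) (.leaf (.up 2 1235 3)))) (.node (.node (.leaf (.up 4 360 5)) (.leaf (.up 3 1818 1))) (.node (.leaf (.up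 4 658 0)) (.leaf (.up 3 330 5))))) (.node (.node (.node (.leaf (.up 3 1099 5)) (.leaf (.up 4 146 1))) (.node (.leaf (.up 3 1457 6)) (.leaf (.up 4 1129 5)))) (.node (.node (.leaf (.up 3 1464 6)) (.leaf (.up 2 1135 5))) (.node (.leaf (.up 3 1883 3)) (.leaf (.up 3 501 2))))))))

noncomputable def vt5_5_000 : Tr VStep := .node vt5_5_0000 vt5_5_0001

noncomputable def vt5_5_0010 : Tr VStep :=
  .node (.node (.node (.node (.node (.node (.node (.leaf (.root 1358)) (.leaf (.up 3 17 2))) (.node (.leaf (.up 2 343 0)) (.leaf (.up 3 614 0)))) (.node (.node (.leaf (.root 2486)) (.leaf (.up 3 423 3))) (.node (.leaf (.up 1 278 0)) (.leaf (.up 3 423 4))))) (.node (.node (.node (.leaf (.up 1 61 0)) (.leaf (.up 2 39 3))) (.node (.leaf (.up 1 47 3)) (.leaf (.up 3 652 4)))) (.node (.node (.leaf (.up 3 778 2)) (.leaf (.up 4 333 6))) (.node (.leaf (.up 3 687 3)) (.leaf (.up 4 1722 5)))))) (.node (.node (.node (.node (.leaf (.up 4 1311 6)) (.leaf (.up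 5 752 4))) (.node (.leaf (.up 4 279 6)) (.leaf (.up 4 240 4)))) (.node (.node (.leaf (.up 4 286 6)) (.leaf (.up 2 1519 1))) (.node (.leaf (.up 3 1653 1)) (.leaf (.up 1 103 0))))) (.node (.node (.node (.leaf (.up 3 1686 6)) (.leaf (.up 2 1647 4))) (.node (.leaf (.up 4 1891 5)) (.leaf (.up 2 1135 4)))) (.node (.node (.leaf (.up 3 1100 3)) (.leaf (.up 3 475 4))) (.node (.leaf (.up 3 979 4)) (.leaf (.up 4 987 4))))))) (.node (.node (.node (.node (.node (.leaf (.up 1 1 2)) (.leaf (.up 3 1947 5))) (.node (.leaf (.up 3 481 0)) (.leaf (.up 4 2001 1)))) (.node (.node (.leaf (.up 2 284 6)) (.leaf (.up 2 903 3))) (.node (.leaf (.up 3 1965 5)) (.leaf (.up 2 718 6))))) (.node (.node (.node (.leaf (.up 1 15 3)) (.leaf (.up 3 684 5))) (.node (.leaf (.up 3 668 6)) (.leaf (.up 1 7 3)))) (.node (.node (.leaf (.up 4 655 3)) (.leaf (.up 3 1019 0))) (.node (.leaf (.up 4 1641 0)) (.leaf (.up 1 89 1)))))) (.node (.node (.node (.node (.leaf (.up 5 728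 4)) (.leaf (.up 4 1508 3))) (.node (.leaf (.up 3 1301 6)) (.leaf (.up 4 208 4)))) (.node (.node (.leaf (.up 3 1308 6)) (.leaf (.up 3 1892 3))) (.node (.leaf (.up 3 276 6)) (.leaf (.up 2 361 2))))) (.node (.node (.node (.leaf (.up 3 660 6)) (.leaf (.up 3 849 5))) (.node (.leaf (.up 5 1128 0)) (.leaf (.up 2 326 6)))) (.node (.node (.leaf (.up 2 186 1)) (.leaf (.up 3 837 5))) (.node (.leaf (.up 3 17 1)) (.leaf (.up 3 1019 4)))))))) (.node (.node (.node (.node (.node (.node (.leaf (.up 2 744 0)) (.leaf (.up 4 311 3))) (.node (.leaf (.up 3 539 2)) (.leaf (.up 4 823 3)))) (.node (.node (.leaf (.up 2 959 5)) (.leaf (.up 3 951 3))) (.node (.leaf (.up 2 959 3)) (.leaf (.up 3 439 3))))) (.node (.node (.node (.leaf (.up 3 134 4)) (.leaf (.up 2 142 2))) (.node (.leaf (.up 2 1700 2)) (.leaf (.up 4 55 3)))) (.node (.node (.leaf (.up 3 1995 6)) (.leaf (.up 3 17 6))) (.node (.leaf (.up 4 191 3)) (.leaf (.up 2 1338 4)))))) (.node (.node (.node (.node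 (.leaf (.root 920)) (.leaf (.up 3 614 5))) (.node (.leaf (.up 3 75 6)) (.leaf (.up 2 1338 0)))) (.node (.node (.leaf (.up 1 66 6)) (.leaf (.up 3 1233 1))) (.node (.leaf (.up 3 592 5)) (.leaf (.up 2 1146 1))))) (.node (.node (.node (.leaf (.up 1 104 1)) (.leaf (.up 3 1873 5))) (.node (.leaf (.up 2 1125 4)) (.leaf (.up 4 1010 1)))) (.node (.node (.leaf (.up 5 971 6)) (.leaf (.up 4 473 4))) (.node (.leaf (.up 2 1116 3)) (.leaf (.up 3 690 0))))))) (.node (.node (.node (.node (.node (.leaf (.up 3 287 3)) (.leaf (.up 4 923 6))) (.node (.leaf (.up 5 1593 4)) (.leaf (.up 4 1939 6)))) (.node (.node (.leaf (.up 3 1541 1)) (.leaf (.up 2 1946 6))) (.node (.leaf (.up 3 397 4)) (.leaf (.up 2 914 6))))) (.node (.node (.node (.leaf (.up 3 543 3)) (.leaf (.up 1 18 6))) (.node (.leaf (.up 2 678 4)) (.leaf (.up 2 1050 6)))) (.node (.node (.leaf (.up 3 969 6)) (.leaf (.up 3 1818 4))) (.node (.leaf (.up 2 650 5)) (.leaf (.up 3 698 5)))))) (.node (.node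 (.node (.node (.leaf (.up 3 30 0)) (.leaf (.up 3 1947 6))) (.node (.leaf (.up 3 1097 6)) (.leaf (.up 4 1524 3)))) (.node (.node (.leaf (.up 2 1618 5)) (.leaf (.up 4 922 6))) (.node (.leaf (.up 1 72 6)) (.leaf (.up 3 1485 0))))) (.node (.node (.node (.leaf (.up 1 72 2)) (.leaf (.up 4 1613 4))) (.node (.leaf (.up 2 1618 2)) (.leaf (.up 2 26 6)))) (.node (.node (.leaf (.up 2 2012 2)) (.leaf (.up 3 853 5))) (.node (.leaf (.up 2 1660 3)) (.leaf (.up 2 1051 6))))))))

noncomputable def vt5_5_0011 : Tr VStep :=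
  .node (.node (.node (.node (.node (.node (.node (.leaf (.up 1 3 2)) (.leaf (.up 4 19 4))) (.node (.leaf (.up 2 1006 1)) (.leaf (.up 4 531 4)))) (.node (.node (.leaf (.up 3 1413 5)) (.leaf (.up 2 772 1))) (.node (.leaf (.up 3 397 2)) (.leaf (.up 2 1447 3))))) (.node (.node (.node (.leaf (.up 3 1156 4)) (.leaf (.up 1 150 0))) (.node (.leaf (.up 2 678 2)) (.leaf (.up 2 132 5)))) (.node (.node (.leaf (.up 4 486 6)) (.leaf (.up 5 2044 1))) (.node (.leaf (.up 4 304 4)) (.leaf (.up 5 1879 1)))))) (.node (.node (.node (.node (.leaf (.up 3 972 3)) (.leaf (.up 2 1116 5))) (.node (.leaf (.up 4 1638 6)) (.leaf (.up 2 1264 4)))) (.node (.node (.leaf (.up 2 844 1)) (.leaf (.up 4 125 1))) (.node (.leaf (.up 1 204 0)) (.leaf (.up 3 1469 6))))) (.node (.node (.node (.leaf (.root 2438)) (.leaf (.up 3 1597 6))) (.node (.leaf (.up 1 103 4)) (.leaf (.up 2 565 6)))) (.node (.node (.leaf (.up 3 1022 2)) (.leaf (.up 3 572 6))) (.node (.leaf (.up 2 349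 5)) (.leaf (.up 5 1588 6))))))) (.node (.node (.node (.node (.node (.leaf (.up 2 1295 3)) (.leaf (.up 2 744 1))) (.node (.leaf (.up 5 1807 3)) (.leaf (.up 3 330 0)))) (.node (.node (.leaf (.up 4 405 5)) (.leaf (.up 3 1927 2))) (.node (.leaf (.up 4 429 2)) (.leaf (.up 1 267 0))))) (.node (.node (.node (.leaf (.up 2 1551 3)) (.leaf (.up 3 1031 3))) (.node (.leaf (.up 2 1700 4)) (.leaf (.up 3 567 6)))) (.node (.node (.leaf (.up 3 1617 1)) (.leaf (.up 5 1170 5))) (.node (.leaf (.up 4 492 6)) (.leaf (.up 5 1730 0)))))) (.node (.node (.node (.node (.leaf (.up 4 1644 6)) (.leaf (.up 4 996 3))) (.node (.leaf (.up 3 110 5)) (.leaf (.up 3 484 3)))) (.node (.node (.leaf (.up 1 104 5)) (.leaf (.up 3 737 1))) (.node (.leaf (.up 2 364 3)) (.leaf (.up 4 843 0))))) (.node (.node (.node (.leaf (.up 3 1624 1)) (.leaf (.up 2 1146 2))) (.node (.leaf (.up 3 1779 1)) (.leaf (.up 4 1219 0)))) (.node (.node (.leaf (.up 3 484 6)) (.leaf (.up 2 1006 2)))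 (.node (.leaf (.up 3 2035 4)) (.leaf (.up 4 2043 4)))))))) (.node (.node (.node (.node (.node (.node (.leaf (.up 3 1409 5)) (.leaf (.up 3 17 4))) (.node (.leaf (.up 4 826 6)) (.leaf (.up 3 481 1)))) (.node (.node (.leaf (.up 1 267 1)) (.leaf (.up 2 903 2))) (.node (.leaf (.up 3 1415 5)) (.leaf (.up 4 225 6))))) (.node (.node (.node (.leaf (.up 3 182 5)) (.leaf (.up 3 134 5))) (.node (.leaf (.up 2 164 5)) (.leaf (.up 4 1897 6)))) (.node (.node (.leaf (.up 2 186 6)) (.leaf (.up 4 826 4))) (.node (.leaf (.up 1 89 0)) (.leaf (.up 3 314 4)))))) (.node (.node (.node (.node (.leaf (.up 4 1148 5)) (.leaf (.up 1 3 0))) (.node (.leaf (.up 3 1425 0)) (.leaf (.up 4 224 6)))) (.node (.node (.leaf (.up 3 860 3)) (.leaf (.up 1 66 0))) (.node (.leaf (.up 2 1146 5)) (.leaf (.up 3 1249 6))))) (.node (.node (.node (.leaf (.up 2 187 6)) (.leaf (.up 2 212 3))) (.node (.leaf (.up 3 1203 6)) (.leaf (.up 1 109 4)))) (.node (.node (.leaf (.up 3 351 5))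 (.leaf (.up 4 1497 4))) (.node (.leaf (.up 4 333 5)) (.leaf (.up 1 84 3))))))) (.node (.node (.node (.node (.node (.leaf (.up 2 1823 3)) (.leaf (.up 3 417 5))) (.node (.leaf (.up 2 387 5)) (.leaf (.up 5 435 5)))) (.node (.node (.leaf (.up 2 1841 6)) (.leaf (.up 3 692 0))) (.node (.leaf (.up 3 825 6)) (.leaf (.up 1 13 1))))) (.node (.node (.node (.leaf (.up 3 185 6)) (.leaf (.up 4 1198 4))) (.node (.leaf (.up 2 1201 6)) (.leaf (.up 3 1156 5)))) (.node (.node (.leaf (.up 3 1612 0)) (.leaf (.up 4 1118 1))) (.node (.leaf (.up 3 274 4)) (.leaf (.up 4 1168 5)))))) (.node (.node (.node (.node (.leaf (.up 4 1020 3)) (.leaf (.up 3 1253 2))) (.node (.leaf (.up 4 1242 4)) (.leaf (.up 1 4 1)))) (.node (.node (.leaf (.up 2 238 1)) (.leaf (.up 1 72 5))) (.node (.leaf (.up 4 1849 6)) (.leaf (.up 2 884 1))))) (.node (.node (.node (.leaf (.up 4 1101 0)) (.leaf (.up 3 756 3))) (.node (.leaf (.up 4 1353 5)) (.leaf (.up 2 244 3)))) (.node (.node (.leaf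 (.up 3 1521 4)) (.leaf (.up 4 1529 4))) (.node (.leaf (.up 3 484 2)) (.leaf (.up 4 874 6))))))))

noncomputable def vt5_5_001 : Tr VStep := .node vt5_5_0010 vt5_5_0011

noncomputable def vt5_5_00 : Tr VStep := .node vt5_5_000 vt5_5_001

noncomputable def vt5_5_0100 : Tr VStep :=
  .node (.node (.node (.node (.node (.node (.node (.leaf (.root 865)) (.leaf (.up 3 1538 3))) (.node (.leaf (.up 3 318 1)) (.leaf (.up 2 153 5)))) (.node (.node (.leaf (.up 3 175 5)) (.leaf (.up 5 733 0))) (.node (.leaf (.up 4 590 1)) (.leaf (.up 5 141 5))))) (.node (.node (.node (.leaf (.up 5 635 6)) (.leaf (.up 4 1365 0))) (.node (.leaf (.up 5 661 4)) (.leaf (.up 4 1454 5)))) (.node (.node (.leaf (.up 3 1573 0)) (.leaf (.up 4 1922 3))) (.node (.leaf (.up 3 1930 3)) (.leaf (.up 3 1321 2)))))) (.node (.node (.node (.node (.leaf (.root 1502)) (.leaf (.up 3 552 6))) (.node (.leaf (.up 2 233 4)) (.leaf (.up 4 1568 6)))) (.node (.node (.leaf (.up 3 412 1)) (.leaf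 (.up 4 1365 4))) (.node (.leaf (.up 2 1295 0)) (.leaf (.up 3 1877 4))))) (.node (.node (.node (.leaf (.up 3 1137 5)) (.leaf (.up 3 417 6))) (.node (.leaf (.up 3 489 3)) (.leaf (.up 4 1449 6)))) (.node (.node (.leaf (.up 2 361 3)) (.leaf (.up 3 458 4))) (.node (.leaf (.up 3 1650 6)) (.leaf (.up 4 424 6))))))) (.node (.node (.node (.node (.node (.leaf (.up 1 8 2)) (.leaf (.up 1 56 1))) (.node (.leaf (.up 3 1578 4)) (.leaf (.up 1 147 1)))) (.node (.node (.leaf (.up 4 926 4)) (.leaf (.up 5 840 1))) (.node (.leaf (.up 4 1529 6)) (.leaf (.up 5 995 1))))) (.node (.node (.node (.leaf (.up 3 181 4)) (.leaf (.up 4 1216 1))) (.node (.leaf (.up 3 625 6)) (.leaf (.up 4 1131 1)))) (.node (.node (.leaf (.up 2 392 5)) (.leaf (.up 2 787 2))) (.node (.leaf (.up 3 1281 4)) (.leaf (.up 2 426 5)))))) (.node (.node (.node (.node (.leaf (.root 1772)) (.leaf (.up 2 238 2))) (.node (.leaf (.up 2 219 1)) (.leaf (.up 3 193 4)))) (.node (.node (.leaf (.up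 3 1521 6)) (.leaf (.up 5 555 6))) (.node (.leaf (.up 4 1360 5)) (.leaf (.up 3 1571 6))))) (.node (.node (.node (.leaf (.up 4 633 6)) (.leaf (.up 4 1955 0))) (.node (.leaf (.up 3 969 3)) (.leaf (.up 2 427 6)))) (.node (.node (.leaf (.up 1 117 5)) (.leaf (.up 3 418 6))) (.node (.leaf (.up 1 103 5)) (.leaf (.up 3 1122 1)))))))) (.node (.node (.node (.node (.node (.node (.leaf (.root 1986)) (.leaf (.up 4 922 1))) (.node (.leaf (.up 1 0 1)) (.leaf (.up 3 1536 4)))) (.node (.node (.leaf (.up 2 924 2)) (.leaf (.up 3 948 4))) (.node (.leaf (.up 4 1414 2)) (.leaf (.up 4 354 0))))) (.node (.node (.node (.leaf (.up 3 807 6)) (.leaf (.up 4 1890 1))) (.node (.leaf (.up 3 1839 6)) (.leaf (.up 4 1470 5)))) (.node (.node (.leaf (.up 2 1946 3)) (.leaf (.up 1 8 0))) (.node (.leaf (.up 1 313 2)) (.leaf (.up 4 1209 1)))))) (.node (.node (.node (.node (.leaf (.up 4 1198 6)) (.leaf (.up 2 884 6))) (.node (.leaf (.up 4 889 1)) (.leaf (.up 1 72 1)))) (.node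 (.node (.leaf (.up 3 842 2)) (.leaf (.up 3 625 3))) (.node (.leaf (.up 2 9 1)) (.leaf (.up 5 802 0))))) (.node (.node (.node (.leaf (.up 4 505 3)) (.leaf (.up 2 1660 4))) (.node (.leaf (.up 3 1947 0)) (.leaf (.up 4 1148 4)))) (.node (.node (.leaf (.up 2 806 6)) (.leaf (.up 3 456 4))) (.node (.leaf (.up 3 1265 1)) (.leaf (.up 2 881 3))))))) (.node (.node (.node (.node (.node (.leaf (.up 3 1064 2)) (.leaf (.up 3 1056 4))) (.node (.leaf (.up 2 164 6)) (.leaf (.up 4 429 1)))) (.node (.node (.leaf (.up 2 924 4)) (.leaf (.up 5 1911 0))) (.node (.leaf (.up 3 412 4)) (.leaf (.up 4 404 4))))) (.node (.node (.node (.leaf (.up 3 1829 6)) (.leaf (.up 4 255 0))) (.node (.leaf (.up 2 813 6)) (.leaf (.up 3 703 4)))) (.node (.node (.leaf (.up 4 911 0)) (.leaf (.up 3 1803 4))) (.node (.leaf (.up 2 1836 6)) (.leaf (.up 2 1291 4)))))) (.node (.node (.node (.node (.leaf (.up 3 172 6)) (.leaf (.up 2 1230 2))) (.node (.leaf (.up 4 228 0)) (.leaf (.up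 2 209 3)))) (.node (.node (.leaf (.up 4 1362 5)) (.leaf (.up 4 1399 4))) (.node (.leaf (.up 1 89 3)) (.leaf (.up 3 593 3))))) (.node (.node (.node (.leaf (.up 3 805 6)) (.leaf (.up 3 703 0))) (.node (.leaf (.up 4 99 5)) (.leaf (.up 2 1116 4)))) (.node (.node (.leaf (.up 3 463 0)) (.leaf (.up 2 254 6))) (.node (.leaf (.up 3 463 2)) (.leaf (.up 2 1372 1))))))))

noncomputable def vt5_5_0101 : Tr VStep :=
  .node (.node (.node (.node (.node (.node (.node (.leaf (.root 737)) (.leaf (.up 1 2 3))) (.node (.leaf (.up 1 10 3)) (.leaf (.up 4 1568 2)))) (.node (.node (.leaf (.up 4 1982 4)) (.leaf (.up 4 1974 4))) (.node (.leaf (.up 2 650 3)) (.leaf (.up 4 436 2))))) (.node (.node (.node (.leaf (.up 3 1173 4)) (.leaf (.up 5 974 1))) (.node (.leaf (.up 1 84 1)) (.leaf (.up 4 900 5)))) (.node (.node (.leaf (.up 1 267 6)) (.leaf (.up 4 898 5))) (.node (.leaf (.up 2 1283 6)) (.leaf (.up 2 1291 2)))))) (.node (.node (.node (.node (.leaf (.up 3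 220 2)) (.leaf (.up 3 1249 3))) (.node (.leaf (.up 4 1675 6)) (.leaf (.up 3 1249 4)))) (.node (.node (.leaf (.up 2 349 4)) (.leaf (.up 4 1855 1))) (.node (.leaf (.up 2 650 6)) (.leaf (.up 3 853 4))))) (.node (.node (.node (.leaf (.up 4 1982 0)) (.leaf (.up 4 638 4))) (.node (.leaf (.up 2 2025 3)) (.leaf (.up 4 1505 3)))) (.node (.node (.leaf (.up 2 1291 6)) (.leaf (.up 2 1377 3))) (.node (.leaf (.up 4 259 6)) (.leaf (.up 2 1753 6))))))) (.node (.node (.node (.node (.node (.leaf (.root 2478)) (.leaf (.up 2 34 4))) (.node (.leaf (.up 2 1584 1)) (.leaf (.up 2 34 3)))) (.node (.node (.leaf (.up 3 682 3)) (.leaf (.up 4 1942 4))) (.node (.leaf (.up 3 647 5)) (.leaf (.up 4 1362 6))))) (.node (.node (.node (.leaf (.up 3 1173 2)) (.leaf (.up 3 1657 0))) (.node (.leaf (.up 2 1956 5)) (.leaf (.up 3 703 2)))) (.node (.node (.leaf (.up 1 275 1)) (.leaf (.up 3 777 4))) (.node (.leaf (.up 1 257 4)) (.leaf (.up 3 418 3)))))) (.node (.node (.node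 (.node (.leaf (.up 3 193 0)) (.leaf (.up 1 204 2))) (.node (.leaf (.up 3 649 6)) (.leaf (.up 2 1750 2)))) (.node (.node (.leaf (.up 3 381 4)) (.leaf (.up 2 1370 6))) (.node (.leaf (.up 3 1097 3)) (.leaf (.up 3 842 5))))) (.node (.node (.node (.leaf (.up 2 598 4)) (.leaf (.up 4 606 4))) (.node (.leaf (.up 2 427 0)) (.leaf (.up 4 1641 5)))) (.node (.node (.leaf (.up 4 1865 0)) (.leaf (.up 2 1647 5))) (.node (.leaf (.up 3 1485 2)) (.leaf (.up 2 496 1)))))))) (.node (.node (.node (.node (.node (.node (.leaf (.up 1 8 4)) (.leaf (.up 1 0 4))) (.node (.leaf (.up 2 1426 1)) (.leaf (.up 1 18 3)))) (.node (.node (.leaf (.up 3 1685 5)) (.leaf (.up 2 910 2))) (.node (.leaf (.up 3 1762 1)) (.leaf (.up 2 12 6))))) (.node (.node (.node (.leaf (.up 4 449 1)) (.leaf (.up 3 274 3))) (.node (.leaf (.up 4 1687 4)) (.leaf (.up 3 1727 2)))) (.node (.node (.leaf (.up 4 87 6)) (.leaf (.up 2 1841 2))) (.node (.leaf (.up 3 1536 0)) (.leaf (.up 1 299 1))))))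 (.node (.node (.node (.node (.leaf (.up 3 1916 5)) (.leaf (.up 2 1626 0))) (.node (.leaf (.up 2 1259 4)) (.leaf (.up 1 13 6)))) (.node (.node (.leaf (.up 3 351 4)) (.leaf (.up 1 4 6))) (.node (.leaf (.up 5 863 4)) (.leaf (.up 4 1706 1))))) (.node (.node (.node (.leaf (.up 4 674 0)) (.leaf (.up 3 1521 3))) (.node (.leaf (.up 4 1625 2)) (.leaf (.up 4 900 6)))) (.node (.node (.leaf (.up 3 739 0)) (.leaf (.up 3 466 0))) (.node (.leaf (.up 3 461 2)) (.leaf (.up 5 1925 6))))))) (.node (.node (.node (.node (.node (.leaf (.up 2 40 4)) (.leaf (.up 3 1031 6))) (.node (.leaf (.up 3 528 2)) (.leaf (.up 1 15 6)))) (.node (.node (.leaf (.up 2 186 3)) (.leaf (.up 1 6 6))) (.node (.leaf (.up 3 980 6)) (.leaf (.up 2 1038 6))))) (.node (.node (.node (.leaf (.up 1 84 0)) (.leaf (.up 4 1942 5))) (.node (.leaf (.up 2 1116 6)) (.leaf (.up 3 1727 4)))) (.node (.node (.leaf (.up 2 45 1)) (.leaf (.up 4 1922 5))) (.node (.leaf (.up 3 315 2)) (.leaf (.up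 1 267 2)))))) (.node (.node (.node (.node (.leaf (.up 2 2013 6)) (.leaf (.up 1 7 6))) (.node (.leaf (.up 3 1241 3)) (.leaf (.up 2 1039 6)))) (.node (.node (.leaf (.up 5 988 6)) (.leaf (.up 3 1709 0))) (.node (.leaf (.up 4 1625 3)) (.leaf (.up 4 887 4))))) (.node (.node (.node (.leaf (.up 2 36 1)) (.leaf (.up 2 910 6))) (.node (.leaf (.up 1 84 4)) (.leaf (.up 3 1657 5)))) (.node (.node (.leaf (.up 3 597 0)) (.leaf (.up 4 356 0))) (.node (.leaf (.up 2 1117 6)) (.leaf (.up 2 903 6))))))))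

noncomputable def vt5_5_010 : Tr VStep := .node vt5_5_0100 vt5_5_0101

noncomputable def vt5_5_0110 : Tr VStep :=
  .node (.node (.node (.node (.node (.node (.node (.leaf (.root 1568)) (.leaf (.up 4 1027 4))) (.node (.leaf (.up 3 1531 1)) (.leaf (.up 3 805 3)))) (.node (.node (.leaf (.up 2 959 4)) (.leaf (.up 3 1297 1))) (.node (.leaf (.up 2 187 0)) (.leaf (.up 3 413 5))))) (.node (.node (.node (.leaf (.up 2 45 3)) (.leaf (.up 3 549 3))) (.node (.leaf (.up 3 660 4)) (.leaf (.up 2 37 3)))) (.node (.node (.leaf (.up 5 890 6)) (.leaf (.up 3 736 0))) (.node (.leaf (.up 4 1178 5)) (.leaf (.up 4 168 6)))))) (.node (.node (.node (.node (.leaf (.up 2 744 4)) (.leaf (.up 3 736 4))) (.node (.leaf (.up 3 698 0)) (.leaf (.up 4 800 6)))) (.node (.node (.leaf (.up 1 66 5)) (.leaf (.up 4 1897 0))) (.node (.leaf (.up 3 1522 1)) (.leaf (.up 3 458 0))))) (.node (.node (.node (.leaf (.root 1052)) (.leaf (.up 4 225 0))) (.node (.leaf (.up 3 1907 6))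 (.leaf (.up 4 1347 5)))) (.node (.node (.leaf (.up 3 1012 2)) (.leaf (.up 4 459 4))) (.node (.leaf (.up 2 882 6)) (.leaf (.up 5 1192 6))))))) (.node (.node (.node (.node (.node (.leaf (.up 4 240 6)) (.leaf (.up 3 1419 5))) (.node (.leaf (.up 4 1449 5)) (.leaf (.up 3 1571 4)))) (.node (.node (.leaf (.up 3 1265 6)) (.leaf (.up 2 1439 0))) (.node (.leaf (.up 1 13 0)) (.leaf (.up 2 1827 6))))) (.node (.node (.node (.leaf (.up 4 180 4)) (.leaf (.up 3 535 0))) (.node (.leaf (.up 1 13 3)) (.leaf (.up 2 171 6)))) (.node (.node (.leaf (.up 4 359 0)) (.leaf (.up 2 598 0))) (.node (.leaf (.up 3 1280 4)) (.leaf (.up 2 186 5)))))) (.node (.node (.node (.node (.leaf (.up 2 1264 6)) (.leaf (.up 4 810 6))) (.node (.leaf (.up 2 200 4)) (.leaf (.up 3 1749 2)))) (.node (.node (.leaf (.up 2 1404 4)) (.leaf (.up 3 1835 6))) (.node (.leaf (.up 3 1916 4)) (.leaf (.up 3 1119 1))))) (.node (.node (.node (.leaf (.up 4 1623 4)) (.leaf (.up 4 87 0))) (.node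 (.leaf (.up 2 881 6)) (.leaf (.up 3 1195 6)))) (.node (.node (.leaf (.up 3 980 2)) (.leaf (.up 2 12 1))) (.node (.leaf (.up 5 1412 0)) (.leaf (.up 4 1003 4)))))))) (.node (.node (.node (.node (.node (.node (.leaf (.up 3 1065 2)) (.leaf (.up 4 1025 4))) (.node (.leaf (.up 3 1221 1)) (.leaf (.up 2 1660 6)))) (.node (.node (.leaf (.root 2458)) (.leaf (.up 3 415 5))) (.node (.leaf (.up 2 1973 1)) (.leaf (.up 3 397 5))))) (.node (.node (.node (.leaf (.root 2476)) (.leaf (.up 3 158 4))) (.node (.leaf (.up 1 61 1)) (.leaf (.up 2 565 3)))) (.node (.node (.leaf (.up 5 550 6)) (.leaf (.up 3 693 3))) (.node (.leaf (.up 5 1582 6)) (.leaf (.up 3 181 3)))))) (.node (.node (.node (.node (.leaf (.up 3 70 5)) (.leaf (.up 4 118 5))) (.node (.leaf (.up 1 84 5)) (.leaf (.up 4 1165 1)))) (.node (.node (.leaf (.up 3 1886 3)) (.leaf (.up 1 98 5))) (.node (.leaf (.up 3 423 6)) (.leaf (.up 3 2045 1))))) (.node (.node (.node (.leaf (.up 3 1653 4)) (.leaf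 (.up 2 222 1))) (.node (.leaf (.up 2 1626 2)) (.leaf (.up 1 117 1)))) (.node (.node (.leaf (.up 4 1677 0)) (.leaf (.up 3 942 1))) (.node (.leaf (.up 4 1399 5)) (.leaf (.up 3 969 4))))))) (.node (.node (.node (.node (.node (.leaf (.up 3 1065 4)) (.leaf (.up 3 1057 4))) (.node (.leaf (.up 4 1625 1)) (.leaf (.up 4 638 6)))) (.node (.node (.leaf (.up 3 413 3)) (.leaf (.up 4 631 6))) (.node (.leaf (.up 3 1297 0)) (.leaf (.up 4 405 3))))) (.node (.node (.node (.leaf (.up 2 29 3)) (.leaf (.up 3 533 3))) (.node (.leaf (.up 2 1581 6)) (.leaf (.up 3 702 4)))) (.node (.node (.leaf (.up 5 136 5)) (.leaf (.up 4 587 1))) (.node (.leaf (.up 5 465 1)) (.leaf (.up 3 736 1)))))) (.node (.node (.node (.node (.leaf (.up 3 714 4)) (.leaf (.up 4 706 4))) (.node (.leaf (.up 4 1312 1)) (.leaf (.up 3 2038 3)))) (.node (.node (.leaf (.up 4 429 6)) (.leaf (.up 2 1655 6))) (.node (.leaf (.up 3 1616 1)) (.leaf (.up 2 1377 1))))) (.node (.node (.node (.leaf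 (.up 3 1573 6)) (.leaf (.up 3 1629 4))) (.node (.leaf (.up 3 1109 4)) (.leaf (.up 2 1117 4)))) (.node (.node (.leaf (.up 3 481 4)) (.leaf (.up 3 489 4))) (.node (.leaf (.up 4 993 4)) (.leaf (.up 2 343 5))))))))

noncomputable def vt5_5_0111 : Tr VStep :=
  .node (.node (.node (.node (.node (.node (.node (.leaf (.up 4 1921 5)) (.leaf (.up 1 3 4))) (.node (.leaf (.up 4 1939 5)) (.leaf (.up 3 856 1)))) (.node (.node (.leaf (.up 3 946 1)) (.leaf (.up 4 131 1))) (.node (.leaf (.up 3 1927 5)) (.leaf (.up 2 40 1))))) (.node (.node (.node (.leaf (.up 1 10 6)) (.leaf (.up 3 1061 3))) (.node (.leaf (.up 3 1069 3)) (.leaf (.up 3 1573 3)))) (.node (.node (.leaf (.up 2 1035 6)) (.leaf (.up 4 977 6))) (.node (.leaf (.up 1 3 6)) (.leaf (.up 3 2009 0)))))) (.node (.node (.node (.node (.leaf (.up 2 1660 5)) (.leaf (.up 1 89 6))) (.node (.leaf (.up 3 1767 2)) (.leaf (.up 2 33 1)))) (.node (.node (.leaf (.up 4 898 6)) (.leaf (.up 2 326 3))) (.node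 (.leaf (.up 3 1930 6)) (.leaf (.up 3 849 1))))) (.node (.node (.node (.leaf (.up 2 1034 6)) (.leaf (.up 1 198 3))) (.node (.leaf (.up 1 2 6)) (.leaf (.up 2 2008 6)))) (.node (.node (.leaf (.up 3 78 3)) (.leaf (.up 4 826 0))) (.node (.leaf (.up 4 1027 6)) (.leaf (.up 3 1995 4))))))) (.node (.node (.node (.node (.node (.leaf (.up 4 606 1)) (.leaf (.up 4 35 4))) (.node (.leaf (.up 5 1293 3)) (.leaf (.up 4 1797 3)))) (.node (.node (.leaf (.up 2 896 6)) (.leaf (.up 3 1541 0))) (.node (.leaf (.up 2 1928 6)) (.leaf (.up 3 1431 4))))) (.node (.node (.node (.leaf (.up 2 1032 6)) (.leaf (.up 3 1541 3))) (.node (.leaf (.up 1 0 6)) (.leaf (.up 4 1838 0)))) (.node (.node (.leaf (.up 2 9 6)) (.leaf (.up 3 1767 1))) (.node (.leaf (.up 2 1338 2)) (.leaf (.up 3 264 4)))))) (.node (.node (.node (.node (.leaf (.up 2 897 6)) (.leaf (.up 4 237 2))) (.node (.leaf (.up 4 638 5)) (.leaf (.up 4 679 0)))) (.node (.node (.leaf (.up 3 380 4)) (.leaf (.up 3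 372 4))) (.node (.leaf (.up 3 471 0)) (.leaf (.up 2 884 4))))) (.node (.node (.node (.leaf (.up 1 8 6)) (.leaf (.up 3 2002 6))) (.node (.leaf (.up 4 87 4)) (.leaf (.up 3 95 4)))) (.node (.node (.leaf (.up 4 1711 1)) (.leaf (.up 3 979 6))) (.node (.leaf (.up 1 1 6)) (.leaf (.up 3 2027 4)))))))) (.node (.node (.node (.node (.node (.node (.leaf (.up 2 9 4)) (.leaf (.up 1 1 4))) (.node (.leaf (.up 2 343 1)) (.leaf (.up 3 513 4)))) (.node (.node (.leaf (.up 3 1469 3)) (.leaf (.up 1 260 6))) (.node (.leaf (.up 3 1469 4)) (.leaf (.up 1 278 1))))) (.node (.node (.node (.leaf (.up 2 678 5)) (.leaf (.up 2 132 2))) (.node (.leaf (.up 3 692 5)) (.leaf (.up 2 1077 3)))) (.node (.node (.leaf (.up 3 690 5)) (.leaf (.up 4 810 4))) (.node (.leaf (.up 3 314 2)) (.leaf (.up 4 656 5)))))) (.node (.node (.node (.node (.leaf (.up 4 1644 5)) (.leaf (.up 3 430 0))) (.node (.leaf (.up 3 727 6)) (.leaf (.up 3 1614 5)))) (.node (.node (.leaf (.up 2 734 0))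 (.leaf (.up 4 1284 6))) (.node (.leaf (.up 2 1750 6)) (.leaf (.up 2 1626 5))))) (.node (.node (.node (.leaf (.up 1 98 2)) (.leaf (.up 3 652 6))) (.node (.leaf (.up 1 117 4)) (.leaf (.up 4 889 5)))) (.node (.node (.leaf (.up 2 343 6)) (.leaf (.up 4 1481 4))) (.node (.leaf (.up 3 948 0)) (.leaf (.up 2 598 3))))))) (.node (.node (.node (.node (.node (.leaf (.up 2 897 5)) (.leaf (.up 2 33 4))) (.node (.leaf (.up 4 725 6)) (.leaf (.up 2 1295 6)))) (.node (.node (.leaf (.up 2 959 2)) (.leaf (.up 3 1429 3))) (.node (.leaf (.up 2 903 5)) (.leaf (.up 3 951 5))))) (.node (.node (.node (.leaf (.up 4 1206 4)) (.leaf (.up 2 164 2))) (.node (.leaf (.up 2 1700 5)) (.leaf (.up 3 562 0)))) (.node (.node (.leaf (.up 4 1792 2)) (.leaf (.up 3 778 4))) (.node (.leaf (.up 4 1091 1)) (.leaf (.up 3 647 6)))))) (.node (.node (.node (.node (.leaf (.up 5 733 6)) (.leaf (.up 5 1730 4))) (.node (.leaf (.up 3 1749 6)) (.leaf (.up 3 727 2)))) (.node (.node (.leaf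 (.up 2 1756 6)) (.leaf (.up 3 262 6))) (.node (.leaf (.up 3 724 6)) (.leaf (.up 3 2042 0))))) (.node (.node (.node (.leaf (.up 1 66 2)) (.leaf (.up 4 1678 6))) (.node (.leaf (.up 2 1372 6)) (.leaf (.up 4 1897 5)))) (.node (.node (.leaf (.up 4 1365 6)) (.leaf (.up 3 1184 1))) (.node (.leaf (.up 2 349 6)) (.leaf (.up 2 2025 4))))))))

noncomputable def vt5_5_011 : Tr VStep := .node vt5_5_0110 vt5_5_0111

noncomputable def vt5_5_01 : Tr VStep := .node vt5_5_010 vt5_5_011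

noncomputable def vt5_5_0 : Tr VStep := .node vt5_5_00 vt5_5_01

noncomputable def vt5_5_1000 : Tr VStep :=
  .node (.node (.node (.node (.node (.node (.node (.leaf (.root 701)) (.leaf (.up 3 20 2))) (.node (.leaf (.up 2 2019 0)) (.leaf (.up 3 1234 0)))) (.node (.node (.leaf (.root 2402)) (.leaf (.up 2 34 1))) (.node (.leaf (.up 2 426 2)) (.leaf (.up 3 418 4))))) (.node (.node (.node (.leaf (.up 1 56 5)) (.leaf (.up 1 8 5))) (.node (.leaf (.up 1 42 0)) (.leaf (.up 2 26 5)))) (.node (.node (.leaf (.up 3 513 3)) (.leaf (.up 2 9 3))) (.node (.leaf (.up 1 1 3)) (.leaf (.up 3 1137 1)))))) (.node (.node (.node (.node (.leaf (.up 4 939 6)) (.leaf (.up 3 1137 6))) (.node (.leaf (.up 4 1955 6)) (.leaf (.up 4 1898 3)))) (.node (.node (.leaf (.up 4 1962 6)) (.leaf (.up 2 859 1))) (.node (.leaf (.up 3 193 1)) (.leaf (.up 3 332 2))))) (.node (.node (.node (.leaf (.up 2 34 6)) (.leaf (.up 2 1235 1))) (.node (.leaf (.up 3 471 5)) (.leaf (.up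 2 1130 3)))) (.node (.node (.leaf (.up 3 1059 6)) (.leaf (.up 3 478 4))) (.node (.leaf (.up 5 555 0)) (.leaf (.up 4 499 5))))))) (.node (.node (.node (.node (.node (.leaf (.up 1 4 2)) (.leaf (.up 2 303 5))) (.node (.leaf (.up 3 1877 0)) (.leaf (.up 4 123 6)))) (.node (.node (.leaf (.up 1 267 5)) (.leaf (.up 3 315 5))) (.node (.leaf (.up 2 289 3)) (.leaf (.up 2 1146 6))))) (.node (.node (.node (.leaf (.up 3 1064 5)) (.leaf (.up 3 2042 6))) (.node (.leaf (.up 3 1064 6)) (.leaf (.up 2 1034 5)))) (.node (.node (.leaf (.up 2 33 3)) (.leaf (.up 3 1019 6))) (.node (.leaf (.up 3 1301 4)) (.leaf (.up 2 1054 5)))))) (.node (.node (.node (.node (.leaf (.up 5 733 4)) (.leaf (.up 4 725 4))) (.node (.leaf (.up 3 1736 2)) (.leaf (.up 5 540 1)))) (.node (.node (.leaf (.up 3 936 6)) (.leaf (.up 1 198 0))) (.node (.leaf (.up 4 1897 4)) (.leaf (.up 2 212 5))))) (.node (.node (.node (.leaf (.up 3 1056 6)) (.leaf (.up 2 1117 2))) (.node (.leaf (.up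 2 40 6)) (.leaf (.up 3 2034 6)))) (.node (.node (.leaf (.up 2 33 6)) (.leaf (.up 3 1521 5))) (.node (.leaf (.up 3 1065 6)) (.leaf (.up 3 1022 4)))))))) (.node (.node (.node (.node (.node (.node (.leaf (.up 2 1116 0)) (.leaf (.up 4 1327 5))) (.node (.leaf (.up 3 542 2)) (.leaf (.up 4 1341 5)))) (.node (.node (.leaf (.up 2 1291 5)) (.leaf (.up 2 1836 0))) (.node (.leaf (.up 3 273 3)) (.leaf (.up 3 1321 5))))) (.node (.node (.node (.leaf (.up 2 40 5)) (.leaf (.up 2 153 3))) (.node (.leaf (.up 3 58 5)) (.leaf (.up 1 10 5)))) (.node (.node (.leaf (.up 3 17 3)) (.leaf (.up 2 12 5))) (.node (.leaf (.up 4 529 3)) (.leaf (.up 3 30 5)))))) (.node (.node (.node (.node (.leaf (.up 3 767 4)) (.leaf (.up 3 1234 5))) (.node (.leaf (.up 2 1264 5)) (.leaf (.up 2 910 0)))) (.node (.node (.leaf (.up 2 340 1)) (.leaf (.up 4 613 1))) (.node (.leaf (.up 2 1372 2)) (.leaf (.up 2 718 1))))) (.node (.node (.node (.leaf (.up 1 109 2)) (.leaf (.up 2 1700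 6))) (.node (.leaf (.up 2 1120 4)) (.leaf (.up 3 684 6)))) (.node (.node (.leaf (.up 4 404 0)) (.leaf (.up 4 476 4))) (.node (.leaf (.up 3 980 4)) (.leaf (.up 3 1709 6))))))) (.node (.node (.node (.node (.node (.leaf (.up 4 1084 4)) (.leaf (.up 4 240 1))) (.node (.leaf (.up 4 433 3)) (.leaf (.up 5 953 3)))) (.node (.node (.leaf (.up 3 1195 0)) (.leaf (.up 1 299 5))) (.node (.leaf (.up 2 392 4)) (.leaf (.up 1 313 0))))) (.node (.node (.node (.leaf (.up 3 380 6)) (.leaf (.up 1 18 0))) (.node (.leaf (.up 3 1066 5)) (.leaf (.up 2 1050 5)))) (.node (.node (.leaf (.up 3 1068 5)) (.leaf (.up 2 1823 4))) (.node (.leaf (.up 3 1086 5)) (.leaf (.up 2 1038 5)))))) (.node (.node (.node (.node (.leaf (.up 4 1781 6)) (.leaf (.up 2 303 6))) (.node (.leaf (.up 2 744 2)) (.leaf (.up 4 208 5)))) (.node (.node (.leaf (.up 3 756 6)) (.leaf (.up 4 1326 6))) (.node (.leaf (.up 1 72 0)) (.leaf (.up 4 889 0))))) (.node (.node (.node (.leaf (.up 2 1404 6))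 (.leaf (.up 2 678 6))) (.node (.leaf (.up 2 1618 3)) (.leaf (.up 3 1265 0)))) (.node (.node (.leaf (.up 3 500 4)) (.leaf (.up 2 2025 2))) (.node (.leaf (.up 3 1012 4)) (.leaf (.up 3 687 6))))))))

noncomputable def vt5_5_1001 : Tr VStep :=
  .node (.node (.node (.node (.node (.node (.node (.leaf (.up 1 6 2)) (.leaf (.up 4 22 4))) (.node (.leaf (.up 2 1370 1)) (.leaf (.up 4 534 4)))) (.node (.node (.leaf (.up 3 817 5)) (.leaf (.up 2 1456 1))) (.node (.leaf (.up 2 392 2)) (.leaf (.up 2 787 5))))) (.node (.node (.node (.leaf (.up 2 1153 4)) (.leaf (.up 2 568 1))) (.node (.leaf (.up 2 1153 3)) (.leaf (.up 2 1584 5)))) (.node (.node (.leaf (.up 2 813 2)) (.leaf (.up 5 829 4))) (.node (.leaf (.up 4 1009 0)) (.leaf (.up 5 317 4)))))) (.node (.node (.node (.node (.leaf (.up 4 1242 6)) (.leaf (.up 2 744 5))) (.node (.leaf (.up 3 714 5)) (.leaf (.up 2 762 5)))) (.node (.node (.leaf (.up 2 1860 2)) (.leaf (.up 3 1737 1))) (.node (.leaf (.up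 2 1235 6)) (.leaf (.up 3 777 6))))) (.node (.node (.node (.leaf (.up 2 1135 2)) (.leaf (.up 3 137 6))) (.node (.leaf (.up 1 98 3)) (.leaf (.up 2 1153 6)))) (.node (.node (.leaf (.up 3 1019 2)) (.leaf (.up 3 1995 5))) (.node (.leaf (.up 2 2025 5)) (.leaf (.up 3 2009 5))))))) (.node (.node (.node (.node (.node (.leaf (.up 3 62 4)) (.leaf (.up 2 1116 1))) (.node (.leaf (.up 4 208 6)) (.leaf (.up 3 2046 0)))) (.node (.node (.leaf (.up 3 1930 4)) (.leaf (.up 2 1836 1))) (.node (.leaf (.up 3 1233 6)) (.leaf (.up 3 1321 3))))) (.node (.node (.node (.leaf (.up 3 1873 6)) (.leaf (.up 2 1705 3))) (.node (.leaf (.up 3 528 5)) (.leaf (.up 1 15 1)))) (.node (.node (.leaf (.up 3 848 6)) (.leaf (.up 3 1065 3))) (.node (.leaf (.up 3 516 5)) (.leaf (.up 4 118 0)))))) (.node (.node (.node (.node (.leaf (.up 3 1736 5)) (.leaf (.up 3 1749 4))) (.node (.leaf (.up 4 1215 1)) (.leaf (.up 3 778 6)))) (.node (.node (.leaf (.up 1 109 0)) (.leaf (.up 3 1109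 1))) (.node (.leaf (.up 2 209 6)) (.leaf (.up 3 1803 6))))) (.node (.node (.node (.leaf (.up 1 66 3)) (.leaf (.up 4 989 1))) (.node (.leaf (.up 1 66 4)) (.leaf (.up 4 631 0)))) (.node (.node (.leaf (.up 2 924 1)) (.leaf (.up 3 1173 0))) (.node (.leaf (.up 3 2038 4)) (.leaf (.up 1 6 1)))))))) (.node (.node (.node (.node (.node (.node (.leaf (.up 4 28 4)) (.leaf (.up 3 20 4))) (.node (.leaf (.up 3 1425 3)) (.leaf (.up 3 1877 1)))) (.node (.node (.leaf (.up 3 1297 3)) (.leaf (.up 4 1817 3))) (.node (.leaf (.up 3 292 0)) (.leaf (.up 3 533 0))))) (.node (.node (.node (.leaf (.up 1 15 0)) (.leaf (.up 3 830 0))) (.node (.leaf (.up 2 1681 3)) (.leaf (.up 4 1568 5)))) (.node (.node (.leaf (.up 3 78 0)) (.leaf (.up 4 831 4))) (.node (.leaf (.up 4 311 4)) (.leaf (.up 4 221 1)))))) (.node (.node (.node (.node (.leaf (.root 1402)) (.leaf (.up 4 1216 2))) (.node (.leaf (.up 3 805 0)) (.leaf (.up 3 20 0)))) (.node (.node (.leaf (.up 4 1479 0))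 (.leaf (.up 3 1629 6))) (.node (.leaf (.up 2 718 5)) (.leaf (.up 3 766 5))))) (.node (.node (.node (.leaf (.up 2 1551 6)) (.leaf (.up 2 1999 5))) (.node (.leaf (.up 3 519 6)) (.leaf (.up 1 104 4)))) (.node (.node (.leaf (.up 3 2027 5)) (.leaf (.up 3 2027 2))) (.node (.leaf (.up 4 1542 6)) (.leaf (.up 2 2012 4))))))) (.node (.node (.node (.node (.node (.leaf (.up 3 1829 5)) (.leaf (.up 4 606 6))) (.node (.leaf (.up 3 572 4)) (.leaf (.up 4 1799 5)))) (.node (.node (.leaf (.root 2350)) (.leaf (.up 4 1920 4))) (.node (.leaf (.up 2 1827 5)) (.leaf (.up 3 1811 5))))) (.node (.node (.node (.leaf (.up 2 530 5)) (.leaf (.up 3 471 6))) (.node (.leaf (.up 2 1201 3)) (.leaf (.up 4 560 5)))) (.node (.node (.leaf (.up 3 475 1)) (.leaf (.up 3 969 0))) (.node (.leaf (.up 4 532 5)) (.leaf (.up 3 478 6)))))) (.node (.node (.node (.node (.leaf (.up 4 388 6)) (.leaf (.up 4 1751 4))) (.node (.leaf (.up 3 714 2)) (.leaf (.up 2 1239 4)))) (.node (.node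 (.leaf (.up 2 1626 1)) (.leaf (.up 2 884 2))) (.node (.leaf (.up 3 397 6)) (.leaf (.up 3 227 0))))) (.node (.node (.node (.leaf (.up 3 466 1)) (.leaf (.up 3 739 1))) (.node (.leaf (.up 3 1541 6)) (.leaf (.up 1 72 4)))) (.node (.node (.leaf (.up 3 1019 5)) (.leaf (.up 3 1995 2))) (.node (.leaf (.up 2 1051 0)) (.leaf (.up 5 1834 0))))))))

noncomputable def vt5_5_100 : Tr VStep := .node vt5_5_1000 vt5_5_1001

noncomputable def vt5_5_1010 : Tr VStep :=
  .node (.node (.node (.node (.node (.node (.node (.leaf (.up 2 683 6)) (.leaf (.up 3 1413 0))) (.node (.leaf (.up 3 1699 6)) (.leaf (.up 2 806 0)))) (.node (.node (.leaf (.up 2 1035 5)) (.leaf (.up 3 1083 5))) (.node (.leaf (.up 2 427 4)) (.leaf (.up 3 1065 5))))) (.node (.node (.node (.leaf (.up 3 1958 3)) (.leaf (.up 4 879 1))) (.node (.leaf (.up 3 314 5)) (.leaf (.up 4 648 4)))) (.node (.node (.leaf (.up 2 1315 6)) (.leaf (.up 2 1852 4))) (.node (.leaf (.up 1 299 6)) (.leaf (.up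 4 1326 3)))))) (.node (.node (.node (.node (.leaf (.up 4 1506 5)) (.leaf (.up 3 756 4))) (.node (.leaf (.up 3 1737 2)) (.leaf (.up 2 244 4)))) (.node (.node (.leaf (.up 3 682 6)) (.leaf (.up 3 1392 6))) (.node (.leaf (.up 2 349 2)) (.leaf (.up 5 1856 4))))) (.node (.node (.node (.leaf (.up 3 837 3)) (.leaf (.up 2 1116 2))) (.node (.leaf (.up 4 298 6)) (.leaf (.up 4 1776 6)))) (.node (.node (.leaf (.up 3 471 4)) (.leaf (.up 2 1785 6))) (.node (.leaf (.up 4 1506 2)) (.leaf (.up 3 753 6))))))) (.node (.node (.node (.node (.node (.leaf (.up 1 15 5)) (.leaf (.up 2 1291 1))) (.node (.leaf (.up 2 29 5)) (.leaf (.up 2 45 5)))) (.node (.node (.leaf (.up 3 27 5)) (.leaf (.up 4 1659 1))) (.node (.leaf (.up 2 9 5)) (.leaf (.up 2 387 4))))) (.node (.node (.node (.leaf (.up 4 1414 3)) (.leaf (.up 2 762 0))) (.node (.leaf (.up 5 296 6)) (.leaf (.up 3 1778 6)))) (.node (.node (.leaf (.up 2 289 6)) (.leaf (.up 3 1308 5))) (.node (.leaf (.up 3 1321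 6)) (.leaf (.up 3 1308 4)))))) (.node (.node (.node (.node (.leaf (.up 4 681 6)) (.leaf (.up 1 109 3))) (.node (.leaf (.up 3 737 0)) (.leaf (.up 2 212 4)))) (.node (.node (.leaf (.up 4 229 3)) (.leaf (.up 5 370 6))) (.node (.leaf (.up 3 741 3)) (.leaf (.up 4 237 3))))) (.node (.node (.node (.leaf (.up 3 1221 5)) (.leaf (.up 2 186 0))) (.node (.leaf (.up 2 1239 5)) (.leaf (.up 3 1099 4)))) (.node (.node (.leaf (.up 3 1233 5)) (.leaf (.up 3 1249 5))) (.node (.leaf (.up 4 1219 5)) (.leaf (.up 3 1779 6)))))))) (.node (.node (.node (.node (.node (.node (.leaf (.up 2 1039 5)) (.leaf (.up 2 153 0))) (.node (.leaf (.up 2 1291 0)) (.leaf (.up 2 37 6)))) (.node (.node (.leaf (.up 2 1051 5)) (.leaf (.up 2 897 2))) (.node (.leaf (.up 3 1022 6)) (.leaf (.up 3 417 4))))) (.node (.node (.node (.leaf (.up 5 352 1)) (.leaf (.up 2 1956 6))) (.node (.leaf (.up 4 1974 3)) (.leaf (.up 2 650 4)))) (.node (.node (.leaf (.up 3 528 1)) (.leaf (.up 2 284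 5))) (.node (.leaf (.up 3 318 5)) (.leaf (.up 2 394 1)))))) (.node (.node (.node (.node (.leaf (.up 3 766 4)) (.leaf (.up 2 45 6))) (.node (.leaf (.up 2 254 4)) (.leaf (.up 2 1146 0)))) (.node (.node (.leaf (.up 3 1510 5)) (.leaf (.up 3 1068 6))) (.node (.leaf (.up 2 1338 1)) (.leaf (.up 2 36 6))))) (.node (.node (.node (.leaf (.up 4 197 5)) (.leaf (.up 4 1641 4))) (.node (.leaf (.up 3 690 1)) (.leaf (.up 2 349 3)))) (.node (.node (.leaf (.up 2 361 1)) (.leaf (.up 3 600 1))) (.node (.leaf (.up 3 469 3)) (.leaf (.up 4 941 6))))))) (.node (.node (.node (.node (.node (.leaf (.up 2 31 5)) (.leaf (.up 1 47 0))) (.node (.leaf (.up 1 13 5)) (.leaf (.up 1 61 5)))) (.node (.node (.leaf (.up 3 1012 6)) (.leaf (.up 2 897 4))) (.node (.leaf (.up 3 393 4)) (.leaf (.up 4 385 4))))) (.node (.node (.node (.leaf (.up 2 186 2)) (.leaf (.up 3 1304 5))) (.node (.leaf (.up 2 1338 5)) (.leaf (.up 3 682 4)))) (.node (.node (.leaf (.up 4 1814 4)) (.leaf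 (.up 2 1822 2))) (.node (.leaf (.up 2 39 1)) (.leaf (.up 1 260 0)))))) (.node (.node (.node (.node (.leaf (.root 2470)) (.leaf (.up 3 466 5))) (.node (.leaf (.up 2 496 5)) (.leaf (.up 2 39 6)))) (.node (.node (.leaf (.up 3 287 0)) (.leaf (.up 4 253 3))) (.node (.leaf (.up 3 484 5)) (.leaf (.up 4 1165 0))))) (.node (.node (.node (.leaf (.up 4 885 3)) (.leaf (.up 3 1253 5))) (.node (.leaf (.up 4 1223 5)) (.leaf (.up 3 1097 4)))) (.node (.node (.leaf (.up 2 1013 1)) (.leaf (.up 3 1265 5))) (.node (.leaf (.up 1 117 0)) (.leaf (.up 3 466 2))))))))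

noncomputable def vt5_5_1011 : Tr VStep :=
  .node (.node (.node (.node (.node (.node (.node (.leaf (.root 1208)) (.leaf (.up 3 512 6))) (.node (.leaf (.up 3 543 4)) (.leaf (.up 2 1544 6)))) (.node (.node (.leaf (.up 3 475 6)) (.leaf (.up 4 529 5))) (.node (.leaf (.up 3 972 0)) (.leaf (.up 3 478 1))))) (.node (.node (.node (.leaf (.up 4 1484 1)) (.leaf (.up 3 393 6))) (.node (.leaf (.up 4 1664 4)) (.leaf (.up 3 1409 6)))) (.node (.node (.leaf (.up 2 806 3)) (.leaf (.up 3 1416 6))) (.node (.leaf (.up 2 1626 6)) (.leaf (.up 3 384 6)))))) (.node (.node (.node (.node (.leaf (.up 3 1788 4)) (.leaf (.up 3 1536 6))) (.node (.leaf (.up 3 742 1)) (.leaf (.up 3 471 1)))) (.node (.node (.leaf (.up 3 1221 3)) (.leaf (.up 2 1054 0))) (.node (.leaf (.up 5 396 0)) (.leaf (.up 3 1022 5))))) (.node (.node (.node (.leaf (.up 2 1791 5)) (.leaf (.up 4 1869 3))) (.node (.leaf (.up 4 99 4)) (.leaf (.up 3 1333 0)))) (.node (.node (.leaf (.up 2 1618 6))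 (.leaf (.up 2 392 6))) (.node (.leaf (.up 2 1785 5)) (.leaf (.up 3 1737 5))))))) (.node (.node (.node (.node (.node (.leaf (.up 1 7 2)) (.leaf (.up 2 153 1))) (.node (.leaf (.up 3 827 0)) (.leaf (.up 1 10 0)))) (.node (.node (.leaf (.up 4 1939 2)) (.leaf (.up 4 1923 4))) (.node (.leaf (.up 1 6 3)) (.leaf (.up 3 75 0))))) (.node (.node (.node (.leaf (.up 3 593 0)) (.leaf (.up 3 1419 6))) (.node (.leaf (.up 4 1625 6)) (.leaf (.up 2 387 6)))) (.node (.node (.leaf (.up 3 528 0)) (.leaf (.up 2 289 0))) (.node (.leaf (.up 3 788 5)) (.leaf (.up 2 284 4)))))) (.node (.node (.node (.node (.leaf (.root 1528)) (.leaf (.up 4 225 2))) (.node (.leaf (.up 2 1739 2)) (.leaf (.up 3 2042 5)))) (.node (.node (.leaf (.up 4 360 4)) (.leaf (.up 5 1192 0))) (.node (.leaf (.up 3 1253 3)) (.leaf (.up 4 2030 5))))) (.node (.node (.node (.leaf (.up 3 17 0)) (.leaf (.up 4 800 0))) (.node (.leaf (.up 4 628 2)) (.leaf (.up 3 75 4)))) (.node (.node (.leaf (.up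 3 1018 2)) (.leaf (.up 4 1535 4))) (.node (.leaf (.up 2 745 5)) (.leaf (.up 3 2047 4)))))))) (.node (.node (.node (.node (.node (.node (.leaf (.up 1 10 1)) (.leaf (.up 3 533 5))) (.node (.leaf (.up 2 1681 0)) (.leaf (.up 3 533 4)))) (.node (.node (.leaf (.up 5 566 3)) (.leaf (.up 3 513 5))) (.node (.leaf (.up 4 1449 4)) (.leaf (.up 3 853 6))))) (.node (.node (.node (.leaf (.up 4 1266 1)) (.leaf (.up 5 213 6))) (.node (.leaf (.up 4 1792 5)) (.leaf (.up 5 1896 1)))) (.node (.node (.leaf (.up 2 1836 2)) (.leaf (.up 3 830 3))) (.node (.leaf (.up 4 822 3)) (.leaf (.up 3 318 3)))))) (.node (.node (.node (.node (.leaf (.up 3 134 6)) (.leaf (.up 1 66 1))) (.node (.leaf (.up 3 1233 0)) (.leaf (.up 2 1117 3)))) (.node (.node (.leaf (.up 1 3 1)) (.leaf (.up 4 1020 5))) (.node (.leaf (.up 3 842 4)) (.leaf (.up 2 1006 5))))) (.node (.node (.node (.leaf (.up 3 783 6)) (.leaf (.up 5 1373 3))) (.node (.leaf (.up 4 1799 6)) (.leaf (.up 3 1885 3))))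 (.node (.node (.leaf (.up 3 2042 2)) (.leaf (.up 2 2013 3))) (.node (.leaf (.up 3 774 6)) (.leaf (.up 1 104 0))))))) (.node (.node (.node (.node (.node (.leaf (.root 2286)) (.leaf (.up 3 1541 5))) (.node (.leaf (.up 1 150 3)) (.leaf (.up 2 565 4)))) (.node (.node (.leaf (.up 4 22 3)) (.leaf (.up 3 542 3))) (.node (.leaf (.up 4 1449 2)) (.leaf (.up 3 1409 4))))) (.node (.node (.node (.leaf (.up 4 781 6)) (.leaf (.up 2 1239 6))) (.node (.leaf (.up 4 1797 6)) (.leaf (.up 4 800 5)))) (.node (.node (.leaf (.up 2 1310 1)) (.leaf (.up 2 806 5))) (.node (.leaf (.up 1 278 2)) (.leaf (.up 4 820 5)))))) (.node (.node (.node (.node (.leaf (.up 3 1156 6)) (.leaf (.up 2 1750 4))) (.node (.leaf (.up 4 1141 3)) (.leaf (.up 2 731 2)))) (.node (.node (.leaf (.up 2 2012 5)) (.leaf (.up 3 430 1))) (.node (.leaf (.up 4 1998 5)) (.leaf (.up 3 2046 5))))) (.node (.node (.node (.leaf (.up 3 767 5)) (.leaf (.up 4 585 4))) (.node (.leaf (.up 3 773 6)) (.leaf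 (.up 4 1677 1)))) (.node (.node (.leaf (.up 4 780 6)) (.leaf (.up 2 731 5))) (.node (.leaf (.up 3 1740 1)) (.leaf (.up 2 496 2))))))))

noncomputable def vt5_5_101 : Tr VStep := .node vt5_5_1010 vt5_5_1011

noncomputable def vt5_5_10 : Tr VStep := .node vt5_5_100 vt5_5_101

noncomputable def vt5_5_1100 : Tr VStep :=
  .node (.node (.node (.node (.node (.node (.node (.leaf (.root 1662)) (.leaf (.up 3 1839 5))) (.node (.leaf (.up 3 847 1)) (.leaf (.up 4 404 6)))) (.node (.node (.leaf (.up 3 1803 5)) (.leaf (.up 1 267 3))) (.node (.leaf (.up 2 1551 0)) (.leaf (.up 3 1429 6))))) (.node (.node (.node (.leaf (.up 3 463 6)) (.leaf (.up 2 153 4))) (.node (.leaf (.up 4 570 5)) (.leaf (.up 2 522 5)))) (.node (.node (.leaf (.up 1 3 3)) (.leaf (.up 3 524 5))) (.node (.leaf (.up 4 1341 2)) (.leaf (.up 3 542 5)))))) (.node (.node (.node (.node (.leaf (.up 3 1762 5)) (.leaf (.up 3 412 0))) (.node (.leaf (.up 2 1038 0)) (.leaf (.up 4 1428 6))))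 (.node (.node (.leaf (.up 3 1782 5)) (.leaf (.up 3 220 1))) (.node (.leaf (.up 2 340 2)) (.leaf (.up 3 1873 4))))) (.node (.node (.node (.leaf (.up 2 1632 3)) (.leaf (.up 3 533 6))) (.node (.leaf (.up 2 1120 3)) (.leaf (.up 2 1146 4)))) (.node (.node (.leaf (.up 4 454 4)) (.leaf (.up 4 1009 5))) (.node (.leaf (.up 3 979 5)) (.leaf (.up 5 183 0))))))) (.node (.node (.node (.node (.node (.leaf (.up 3 783 5)) (.leaf (.up 2 427 3))) (.node (.leaf (.up 5 797 5)) (.leaf (.up 2 813 5)))) (.node (.node (.leaf (.up 2 26 0)) (.leaf (.up 1 313 1))) (.node (.leaf (.up 3 777 5)) (.leaf (.up 1 299 3))))) (.node (.node (.node (.leaf (.up 3 1485 6)) (.leaf (.up 2 1544 5))) (.node (.leaf (.up 3 1578 5)) (.leaf (.up 2 171 3)))) (.node (.node (.leaf (.up 4 1797 4)) (.leaf (.up 3 1558 6))) (.node (.leaf (.up 3 1598 5)) (.leaf (.up 3 542 6)))))) (.node (.node (.node (.node (.leaf (.up 3 513 1)) (.leaf (.up 4 706 5))) (.node (.leaf (.up 3 736 5)) (.leaf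 (.up 4 197 4)))) (.node (.node (.leaf (.up 3 742 5)) (.leaf (.up 3 415 6))) (.node (.leaf (.up 3 756 5)) (.leaf (.up 3 1431 6))))) (.node (.node (.node (.leaf (.up 2 1618 4)) (.leaf (.up 2 1626 4))) (.node (.leaf (.up 2 881 0)) (.leaf (.up 3 543 6)))) (.node (.node (.leaf (.up 4 486 4)) (.leaf (.up 4 993 2))) (.node (.leaf (.up 4 452 6)) (.leaf (.up 1 1 0)))))))) (.node (.node (.node (.node (.node (.node (.leaf (.up 3 1068 2)) (.leaf (.up 4 1028 4))) (.node (.leaf (.up 3 625 1)) (.leaf (.up 2 200 6)))) (.node (.node (.leaf (.root 2288)) (.leaf (.up 3 1835 5))) (.node (.leaf (.up 1 257 1)) (.leaf (.up 2 1426 2))))) (.node (.node (.node (.leaf (.root 2250)) (.leaf (.up 4 520 5))) (.node (.leaf (.up 2 1179 0)) (.leaf (.up 3 538 5)))) (.node (.node (.leaf (.up 4 1799 2)) (.leaf (.up 3 1839 4))) (.node (.leaf (.up 4 19 3)) (.leaf (.up 3 539 3)))))) (.node (.node (.node (.node (.leaf (.up 3 1778 5)) (.leaf (.up 4 658 1))) (.node (.leaf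 (.up 3 736 2)) (.leaf (.up 4 231 4)))) (.node (.node (.leaf (.up 4 795 6)) (.leaf (.up 2 1750 5))) (.node (.leaf (.up 3 1811 6)) (.leaf (.up 3 329 1))))) (.node (.node (.node (.leaf (.up 4 1371 1)) (.leaf (.up 1 117 2))) (.node (.leaf (.up 4 155 6)) (.leaf (.up 2 1647 2)))) (.node (.node (.leaf (.up 4 977 5)) (.leaf (.up 3 1306 1))) (.node (.leaf (.up 2 1264 3)) (.leaf (.up 3 972 4))))))) (.node (.node (.node (.node (.node (.leaf (.up 3 1068 4)) (.leaf (.up 2 955 3))) (.node (.leaf (.up 4 237 1)) (.leaf (.up 5 443 3)))) (.node (.node (.leaf (.up 4 822 1)) (.leaf (.up 1 7 1))) (.node (.leaf (.up 4 1809 6)) (.leaf (.up 3 827 3))))) (.node (.node (.node (.leaf (.up 3 1169 6)) (.leaf (.up 2 187 3))) (.node (.leaf (.up 2 153 6)) (.leaf (.up 3 1828 1)))) (.node (.node (.leaf (.up 4 1799 4)) (.leaf (.up 3 1279 1))) (.node (.leaf (.up 5 563 3)) (.leaf (.up 2 1295 4)))))) (.node (.node (.node (.node (.leaf (.up 4 1360 3)) (.leaf (.up 3 1880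 3))) (.node (.leaf (.up 4 1808 6)) (.leaf (.up 5 1368 3)))) (.node (.node (.leaf (.up 4 1817 6)) (.leaf (.up 3 195 6))) (.node (.leaf (.up 4 785 6)) (.leaf (.up 2 2008 3))))) (.node (.node (.node (.leaf (.up 3 145 6)) (.leaf (.up 3 1112 3))) (.node (.leaf (.up 4 1177 6)) (.leaf (.up 2 1372 0)))) (.node (.node (.leaf (.up 3 484 4)) (.leaf (.up 3 842 6))) (.node (.leaf (.up 4 996 4)) (.leaf (.up 2 2019 5))))))))

noncomputable def vt5_5_1101 : Tr VStep :=
  .node (.node (.node (.node (.node (.node (.node (.leaf (.up 4 1923 3)) (.leaf (.up 1 6 4))) (.node (.leaf (.up 4 1411 3)) (.leaf (.up 3 1516 1)))) (.node (.node (.leaf (.root 1592)) (.leaf (.up 1 7 0))) (.node (.leaf (.up 3 1429 0)) (.leaf (.up 2 1291 3))))) (.node (.node (.node (.leaf (.up 3 1169 2)) (.leaf (.up 4 1074 5))) (.node (.leaf (.up 2 1681 4)) (.leaf (.up 3 1056 5)))) (.node (.node (.leaf (.up 3 703 6)) (.leaf (.up 2 813 4))) (.node (.leaf (.up 4 1028 5)) (.leaf (.up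 4 612 1)))))) (.node (.node (.node (.node (.leaf (.up 2 200 5)) (.leaf (.up 2 200 2))) (.node (.leaf (.up 3 1762 2)) (.leaf (.up 3 1253 4)))) (.node (.node (.leaf (.up 3 220 5)) (.leaf (.up 3 1000 3))) (.node (.leaf (.up 3 318 6)) (.leaf (.up 2 254 5))))) (.node (.node (.node (.leaf (.up 3 702 6)) (.leaf (.up 3 1487 0))) (.node (.leaf (.up 4 93 0)) (.leaf (.up 1 104 3)))) (.node (.node (.leaf (.up 3 736 3)) (.leaf (.up 5 357 6))) (.node (.leaf (.up 4 224 3)) (.leaf (.up 2 744 3))))))) (.node (.node (.node (.node (.node (.leaf (.up 4 309 6)) (.leaf (.up 3 1963 3))) (.node (.leaf (.up 4 1341 6)) (.leaf (.up 5 550 4)))) (.node (.node (.leaf (.root 2430)) (.leaf (.up 3 1281 5))) (.node (.leaf (.up 2 1841 1)) (.leaf (.up 2 1426 4))))) (.node (.node (.node (.leaf (.up 1 18 1)) (.leaf (.up 2 34 5))) (.node (.leaf (.up 1 0 5)) (.leaf (.up 3 904 1)))) (.node (.node (.leaf (.up 1 6 5)) (.leaf (.up 4 54 5))) (.node (.leaf (.up 3 20 5)) (.leaf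 (.up 2 36 5)))))) (.node (.node (.node (.node (.leaf (.up 3 1333 6)) (.leaf (.up 3 751 6))) (.node (.leaf (.up 4 832 3)) (.leaf (.up 3 1221 4)))) (.node (.node (.leaf (.up 3 377 4)) (.leaf (.up 3 456 3))) (.node (.leaf (.up 4 889 4)) (.leaf (.up 2 881 4))))) (.node (.node (.node (.leaf (.up 4 1724 6)) (.leaf (.up 1 72 3))) (.node (.leaf (.up 3 692 6)) (.leaf (.up 3 461 5)))) (.node (.node (.leaf (.up 3 1510 4)) (.leaf (.up 2 712 3))) (.node (.leaf (.up 3 489 5)) (.leaf (.up 2 200 3)))))))) (.node (.node (.node (.node (.node (.node (.leaf (.up 2 12 4)) (.leaf (.up 1 4 4))) (.node (.leaf (.up 2 2019 1)) (.leaf (.up 3 516 4)))) (.node (.node (.leaf (.up 3 1811 3)) (.leaf (.up 1 257 5))) (.node (.leaf (.up 3 1464 4)) (.leaf (.up 1 275 5))))) (.node (.node (.node (.leaf (.up 3 418 0)) (.leaf (.up 1 56 6))) (.node (.leaf (.up 4 1683 4)) (.leaf (.up 1 42 1)))) (.node (.node (.leaf (.up 3 807 4)) (.leaf (.up 4 815 4))) (.node (.leaf (.up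 3 2027 6)) (.leaf (.up 2 303 4)))))) (.node (.node (.node (.node (.leaf (.up 4 216 5)) (.leaf (.up 3 1818 0))) (.node (.leaf (.up 4 706 2)) (.leaf (.up 3 250 5)))) (.node (.node (.leaf (.up 1 204 5)) (.leaf (.up 3 944 6))) (.node (.leaf (.up 1 98 6)) (.leaf (.up 2 238 5))))) (.node (.node (.node (.leaf (.up 1 103 2)) (.leaf (.up 4 87 2))) (.node (.leaf (.up 1 98 1)) (.leaf (.up 3 1485 5)))) (.node (.node (.leaf (.up 2 2019 6)) (.leaf (.up 4 146 0))) (.node (.leaf (.up 3 489 2)) (.leaf (.up 4 248 3))))))) (.node (.node (.node (.node (.node (.leaf (.up 3 1333 5)) (.leaf (.up 2 36 4))) (.node (.leaf (.up 4 1407 1)) (.leaf (.up 2 955 6)))) (.node (.node (.leaf (.up 2 1331 3)) (.leaf (.up 3 1297 5))) (.node (.leaf (.up 2 1331 5)) (.leaf (.up 2 1978 6))))) (.node (.node (.node (.leaf (.up 1 2 5)) (.leaf (.up 3 549 0))) (.node (.leaf (.up 4 16 5)) (.leaf (.up 3 694 1)))) (.node (.node (.leaf (.up 4 22 5)) (.leaf (.up 3 783 4))) (.node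 (.leaf (.up 1 4 5)) (.leaf (.up 2 303 2)))))) (.node (.node (.node (.node (.leaf (.up 3 1709 1)) (.leaf (.up 5 1735 4))) (.node (.leaf (.up 4 1242 5)) (.leaf (.up 3 1979 6)))) (.node (.node (.leaf (.up 1 104 6)) (.leaf (.up 3 1970 6))) (.node (.leaf (.up 2 1120 6)) (.leaf (.up 4 954 6))))) (.node (.node (.node (.leaf (.up 3 592 4)) (.leaf (.up 3 463 5))) (.node (.leaf (.up 3 766 1)) (.leaf (.up 3 463 1)))) (.node (.node (.leaf (.up 4 993 6)) (.leaf (.up 2 2019 2))) (.node (.leaf (.up 2 2025 6)) (.leaf (.up 3 703 1))))))))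

noncomputable def vt5_5_110 : Tr VStep := .node vt5_5_1100 vt5_5_1101

noncomputable def vt5_5_1110 : Tr VStep :=
  .node (.node (.node (.node (.node (.node (.node (.leaf (.root 1496)) (.leaf (.up 2 29 2))) (.node (.leaf (.up 2 1551 4)) (.leaf (.up 2 1581 5)))) (.node (.node (.leaf (.up 2 955 4)) (.leaf (.up 4 1129 0))) (.node (.leaf (.up 3 1274 1)) (.leaf (.up 3 1068 3))))) (.node (.node (.node (.leaf (.up 4 208 0)) (.leaf (.up 4 993 0))) (.node (.leaf (.up 2 1956 3)) (.leaf (.up 4 794 5)))) (.node (.node (.leaf (.up 3 145 0)) (.leaf (.up 2 1836 4))) (.node (.leaf (.up 1 2 1)) (.leaf (.up 2 1836 3)))))) (.node (.node (.node (.node (.leaf (.up 3 2034 5)) (.leaf (.up 4 1897 1))) (.node (.leaf (.up 3 1018 0)) (.leaf (.up 4 591 3)))) (.node (.node (.leaf (.up 3 1304 0)) (.leaf (.up 4 1360 4))) (.node (.leaf (.up 2 955 0)) (.leaf (.up 3 1173 6))))) (.node (.node (.node (.leaf (.up 4 656 0)) (.leaf (.up 3 847 3))) (.node (.leaf (.up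 3 727 5)) (.leaf (.up 4 826 1)))) (.node (.node (.leaf (.up 2 1230 6)) (.leaf (.up 3 788 6))) (.node (.leaf (.up 1 198 6)) (.leaf (.up 4 74 1))))))) (.node (.node (.node (.node (.node (.leaf (.up 1 13 2)) (.leaf (.up 1 61 2))) (.node (.leaf (.up 4 1583 4)) (.leaf (.up 1 150 6)))) (.node (.node (.leaf (.up 4 2030 0)) (.leaf (.up 5 915 4))) (.node (.leaf (.up 2 387 2)) (.leaf (.up 5 403 4))))) (.node (.node (.node (.leaf (.up 3 176 4)) (.leaf (.up 4 628 1))) (.node (.leaf (.up 3 1221 6)) (.leaf (.up 4 735 1)))) (.node (.node (.leaf (.up 2 806 2)) (.leaf (.up 1 260 1))) (.node (.leaf (.up 4 1284 4)) (.leaf (.up 2 1822 5)))))) (.node (.node (.node (.node (.leaf (.root 2452)) (.leaf (.up 3 158 6))) (.node (.leaf (.up 1 204 4)) (.leaf (.up 4 111 3)))) (.node (.node (.leaf (.up 3 837 6)) (.leaf (.up 3 1392 4))) (.node (.leaf (.up 4 996 5)) (.leaf (.up 3 980 5))))) (.node (.node (.node (.leaf (.up 3 1749 5)) (.leaf (.up 4 279 0))) (.node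 (.leaf (.up 4 197 6)) (.leaf (.up 2 1823 6)))) (.node (.node (.leaf (.up 1 204 6)) (.leaf (.up 4 1814 6))) (.node (.leaf (.up 2 487 1)) (.leaf (.up 3 726 1)))))))) (.node (.node (.node (.node (.node (.node (.leaf (.up 2 1562 6)) (.leaf (.up 4 1326 1))) (.node (.leaf (.up 2 530 6)) (.leaf (.up 3 1541 4)))) (.node (.node (.leaf (.up 3 539 6)) (.leaf (.up 3 1595 5))) (.node (.leaf (.up 3 1555 6)) (.leaf (.up 4 433 4))))) (.node (.node (.node (.leaf (.up 4 1972 3)) (.leaf (.up 4 585 6))) (.node (.leaf (.up 4 826 5)) (.leaf (.up 3 778 5)))) (.node (.node (.leaf (.up 3 402 6)) (.leaf (.up 2 1852 3))) (.node (.leaf (.up 3 1434 6)) (.leaf (.up 2 31 0)))))) (.node (.node (.node (.node (.leaf (.up 3 538 6)) (.leaf (.up 2 1259 2))) (.node (.leaf (.up 2 238 4)) (.leaf (.up 3 456 6)))) (.node (.node (.leaf (.up 1 4 0)) (.leaf (.up 4 1362 4))) (.node (.leaf (.up 4 1365 2)) (.leaf (.up 4 1481 6))))) (.node (.node (.node (.leaf (.up 4 725 5)) (.leaf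 (.up 1 84 2))) (.node (.leaf (.up 2 343 3)) (.leaf (.up 3 516 1)))) (.node (.node (.leaf (.up 2 1426 6)) (.leaf (.up 3 753 5))) (.node (.leaf (.up 4 581 1)) (.leaf (.up 3 739 5))))))) (.node (.node (.node (.node (.node (.leaf (.up 3 1069 2)) (.leaf (.up 3 1061 4))) (.node (.leaf (.up 2 1581 4)) (.leaf (.up 3 458 6)))) (.node (.node (.leaf (.up 3 539 5)) (.leaf (.up 4 1218 1))) (.node (.leaf (.up 3 521 5)) (.leaf (.up 4 401 4))))) (.node (.node (.node (.leaf (.up 4 401 6)) (.leaf (.up 2 186 4))) (.node (.leaf (.up 3 690 4)) (.leaf (.up 3 698 4)))) (.node (.node (.leaf (.up 2 1836 5)) (.leaf (.up 3 1308 3))) (.node (.leaf (.up 2 284 2)) (.leaf (.up 3 1806 5)))))) (.node (.node (.node (.node (.leaf (.up 2 718 4)) (.leaf (.up 3 450 6))) (.node (.leaf (.up 3 528 6)) (.leaf (.up 1 198 4)))) (.node (.node (.leaf (.up 4 537 6)) (.leaf (.up 3 767 3))) (.node (.leaf (.up 3 1012 5)) (.leaf (.up 4 459 6))))) (.node (.node (.node (.leaf (.up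 3 1425 6)) (.leaf (.up 2 1035 0))) (.node (.leaf (.up 4 1751 5)) (.leaf (.up 3 1767 5)))) (.node (.node (.leaf (.up 4 400 6)) (.leaf (.up 3 835 1))) (.node (.leaf (.up 3 458 2)) (.leaf (.up 2 745 0))))))))

noncomputable def vt5_5_1111 : Tr VStep :=
  .node (.node (.node (.node (.node (.node (.node (.leaf (.root 672)) (.leaf (.up 1 7 4))) (.node (.leaf (.up 3 544 0)) (.leaf (.up 1 7 5)))) (.node (.node (.leaf (.up 3 1979 4)) (.leaf (.up 1 1 5))) (.node (.leaf (.up 2 36 3)) (.leaf (.up 4 19 5))))) (.node (.node (.node (.leaf (.up 3 842 0)) (.leaf (.up 4 1402 1))) (.node (.leaf (.up 3 1280 5)) (.leaf (.up 5 108 6)))) (.node (.node (.leaf (.up 3 1983 6)) (.leaf (.up 3 788 2))) (.node (.leaf (.up 3 951 6)) (.leaf (.up 3 1316 5)))))) (.node (.node (.node (.node (.leaf (.up 3 458 1)) (.leaf (.up 2 233 2))) (.node (.leaf (.up 3 458 5)) (.leaf (.up 3 1779 2)))) (.node (.node (.leaf (.up 3 698 1)) (.leaf (.up 4 395 1))) (.node (.leaf (.up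 2 343 2)) (.leaf (.up 3 848 4))))) (.node (.node (.node (.leaf (.up 4 1982 6)) (.leaf (.up 5 1539 1))) (.node (.leaf (.up 5 115 4)) (.leaf (.up 4 123 4)))) (.node (.node (.leaf (.up 2 959 6)) (.leaf (.up 2 1125 6))) (.node (.leaf (.up 4 1512 2)) (.leaf (.up 1 109 6))))))) (.node (.node (.node (.node (.node (.leaf (.root 2492)) (.leaf (.up 2 39 4))) (.node (.leaf (.up 1 61 6)) (.leaf (.up 3 1541 2)))) (.node (.node (.leaf (.up 1 4 3)) (.leaf (.up 3 110 1))) (.node (.leaf (.up 3 516 3)) (.leaf (.up 2 12 3))))) (.node (.node (.node (.leaf (.up 2 1239 1)) (.leaf (.up 3 306 5))) (.node (.leaf (.up 2 650 2)) (.leaf (.up 3 698 2)))) (.node (.node (.leaf (.up 1 278 5)) (.leaf (.up 4 780 4))) (.node (.leaf (.up 1 260 3)) (.leaf (.up 4 1326 2)))))) (.node (.node (.node (.node (.leaf (.up 3 1480 5)) (.leaf (.up 1 103 1))) (.node (.leaf (.up 4 1085 6)) (.leaf (.up 1 204 1)))) (.node (.node (.leaf (.up 5 1588 0)) (.leaf (.up 2 1006 6))) (.node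 (.leaf (.up 3 60 6)) (.leaf (.up 4 880 4))))) (.node (.node (.node (.leaf (.up 4 595 4)) (.leaf (.up 5 603 4))) (.node (.leaf (.up 2 1823 0)) (.leaf (.up 3 110 6)))) (.node (.node (.leaf (.up 4 1246 1)) (.leaf (.up 1 103 6))) (.node (.leaf (.up 3 1480 2)) (.leaf (.up 2 1860 1)))))))) (.node (.node (.node (.node (.node (.node (.leaf (.up 1 13 4)) (.leaf (.up 2 686 0))) (.node (.leaf (.up 2 806 1)) (.leaf (.up 3 697 6)))) (.node (.node (.leaf (.up 2 33 5)) (.leaf (.up 3 17 5))) (.node (.leaf (.up 4 51 5)) (.leaf (.up 1 3 5))))) (.node (.node (.node (.leaf (.up 4 738 6)) (.leaf (.up 4 1178 4))) (.node (.leaf (.up 3 948 3)) (.leaf (.up 4 1690 4)))) (.node (.node (.leaf (.up 2 806 4)) (.leaf (.up 1 313 6))) (.node (.leaf (.up 4 308 3)) (.leaf (.up 2 1329 6)))))) (.node (.node (.node (.node (.leaf (.up 2 244 1)) (.leaf (.up 2 238 0))) (.node (.leaf (.up 2 1404 0)) (.leaf (.up 4 878 1)))) (.node (.node (.leaf (.up 2 1239 3)) (.leaf (.up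 3 181 1))) (.node (.leaf (.up 4 1751 3)) (.leaf (.up 3 850 4))))) (.node (.node (.node (.leaf (.up 3 625 4)) (.leaf (.up 4 633 4))) (.node (.leaf (.up 3 746 6)) (.leaf (.up 4 1644 2)))) (.node (.node (.leaf (.up 2 1259 5)) (.leaf (.up 3 1485 4))) (.node (.leaf (.up 3 456 2)) (.leaf (.up 4 504 2))))))) (.node (.node (.node (.node (.node (.leaf (.up 2 45 4)) (.leaf (.up 2 37 4))) (.node (.leaf (.up 3 533 2)) (.leaf (.up 3 1031 5)))) (.node (.node (.leaf (.up 4 532 3)) (.leaf (.up 4 1025 5))) (.node (.leaf (.up 3 20 3)) (.leaf (.up 3 698 6))))) (.node (.node (.node (.leaf (.up 3 274 5)) (.leaf (.up 3 314 6))) (.node (.leaf (.up 2 744 6)) (.leaf (.up 2 924 3)))) (.node (.node (.leaf (.up 3 262 5)) (.leaf (.up 4 1339 6))) (.node (.leaf (.up 1 2 0)) (.leaf (.up 2 284 3)))))) (.node (.node (.node (.node (.leaf (.up 2 361 6)) (.leaf (.up 4 1512 5))) (.node (.leaf (.up 2 1377 6)) (.leaf (.up 4 498 1)))) (.node (.node (.leaf (.up 4 1484 5))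 (.leaf (.up 3 690 6))) (.node (.leaf (.up 3 1419 0)) (.leaf (.up 2 882 4))))) (.node (.node (.node (.leaf (.up 3 736 6)) (.leaf (.up 2 1338 6))) (.node (.leaf (.up 2 1660 2)) (.leaf (.up 1 89 4)))) (.node (.node (.leaf (.up 3 2034 2)) (.leaf (.up 3 315 6))) (.node (.leaf (.up 2 233 5)) (.leaf (.up 2 1331 6))))))))

noncomputable def vt5_5_111 : Tr VStep := .node vt5_5_1110 vt5_5_1111

noncomputable def vt5_5_11 : Tr VStep := .node vt5_5_110 vt5_5_111

noncomputable def vt5_5_1 : Tr VStep := .node vt5_5_10 vt5_5_11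

noncomputable def vt5_5_ : Tr VStep := .node vt5_5_0 vt5_5_1

noncomputable def vt5_6_0000 : Tr VStep :=
  .node (.node (.node (.node (.node (.node (.node (.leaf (.root 677)) (.leaf (.up 3 138 4))) (.node (.leaf (.up 4 1667 2)) (.leaf (.up 2 1034 3)))) (.node (.node (.leaf (.up 2 125 4)) (.leaf (.up 2 934 1))) (.node (.leaf (.up 4 637 4)) (.leaf (.up 3 636 4))))) (.node (.node (.node (.leaf (.up 3 155 4)) (.leaf (.up 2 1038 3))) (.node (.leaf (.up 2 1054 3)) (.leaf (.up 3 1696 0)))) (.node (.node (.leaf (.up 3 195 2)) (.leaf (.up 2 108 4))) (.node (.leaf (.up 2 1329 1)) (.leaf (.up 4 620 4)))))) (.node (.node (.node (.node (.leaf (.root 1756)) (.leaf (.up 3 753 1))) (.node (.leaf (.up 2 582 2)) (.leaf (.up 2 1448 2)))) (.node (.node (.leaf (.root 1544)) (.leaf (.up 2 1371 4))) (.node (.leaf (.up 1 320 0)) (.leaf (.up 4 58 2))))) (.node (.node (.node (.leaf (.root 2212)) (.leaf (.up 2 1784 3))) (.node (.leaf (.up 2 1768 3)) (.leaf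 (.up 3 1134 1)))) (.node (.node (.leaf (.up 2 353 3)) (.leaf (.up 3 881 3))) (.node (.leaf (.up 5 865 3)) (.leaf (.up 3 1867 4))))))) (.node (.node (.node (.node (.node (.leaf (.up 2 1082 1)) (.leaf (.up 4 170 4))) (.node (.leaf (.up 4 683 4)) (.leaf (.up 2 48 3)))) (.node (.node (.leaf (.up 3 93 4)) (.leaf (.up 3 92 4))) (.node (.leaf (.up 4 605 4)) (.leaf (.up 4 604 4))))) (.node (.node (.node (.leaf (.up 3 165 1)) (.leaf (.up 3 35 2))) (.node (.leaf (.up 1 36 3)) (.leaf (.up 2 1084 0)))) (.node (.node (.leaf (.up 3 1965 3)) (.leaf (.up 3 76 4))) (.node (.leaf (.up 4 589 4)) (.leaf (.up 4 588 4)))))) (.node (.node (.node (.node (.leaf (.root 1670)) (.leaf (.up 1 198 3))) (.node (.leaf (.up 3 218 2)) (.leaf (.up 1 209 1)))) (.node (.node (.leaf (.up 3 1887 3)) (.leaf (.up 3 1403 4))) (.node (.leaf (.up 2 1352 2)) (.leaf (.up 4 1915 4))))) (.node (.node (.node (.leaf (.up 1 210 3)) (.leaf (.up 2 111 0))) (.node (.leaf (.up 2 1834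 0)) (.leaf (.up 1 194 3)))) (.node (.node (.leaf (.up 2 1371 3)) (.leaf (.up 3 1867 3))) (.node (.leaf (.up 5 1883 3)) (.leaf (.up 2 1899 4)))))))) (.node (.node (.node (.node (.node (.node (.leaf (.up 1 11 4)) (.leaf (.up 1 10 3))) (.node (.leaf (.up 4 523 4)) (.leaf (.up 3 673 0)))) (.node (.node (.leaf (.up 4 1939 3)) (.leaf (.up 4 1411 3))) (.node (.leaf (.up 2 765 4)) (.leaf (.up 2 764 4))))) (.node (.node (.node (.leaf (.up 2 30 3)) (.leaf (.up 3 143 1))) (.node (.leaf (.up 3 539 4)) (.leaf (.up 2 14 3)))) (.node (.node (.leaf (.up 4 1431 3)) (.leaf (.up 4 236 4))) (.node (.leaf (.up 2 749 4)) (.leaf (.up 5 1415 3)))))) (.node (.node (.node (.node (.leaf (.up 2 284 0)) (.leaf (.up 2 764 3))) (.node (.leaf (.up 4 1836 4)) (.leaf (.up 3 1752 2)))) (.node (.node (.leaf (.up 3 1381 3)) (.leaf (.up 3 993 2))) (.node (.leaf (.up 5 2010 4)) (.leaf (.up 3 1397 3))))) (.node (.node (.node (.leaf (.up 2 744 3)) (.leaf (.up 5 248 3)))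 (.node (.leaf (.up 1 232 3)) (.leaf (.up 2 760 3)))) (.node (.node (.leaf (.up 2 1889 3)) (.leaf (.up 5 1393 3))) (.node (.leaf (.up 2 2013 2)) (.leaf (.up 3 1995 4))))))) (.node (.node (.node (.node (.node (.leaf (.up 1 43 4)) (.leaf (.up 1 42 2))) (.node (.leaf (.up 4 555 4)) (.leaf (.up 1 61 0)))) (.node (.node (.leaf (.up 3 598 2)) (.leaf (.up 4 441 3))) (.node (.leaf (.up 2 765 2)) (.leaf (.up 2 1299 2))))) (.node (.node (.node (.leaf (.up 1 9 0)) (.leaf (.up 2 2023 0))) (.node (.leaf (.up 4 571 4)) (.leaf (.up 2 1076 3)))) (.node (.node (.leaf (.up 4 303 2)) (.leaf (.up 2 957 3))) (.node (.leaf (.up 2 717 4)) (.leaf (.up 2 716 4)))))) (.node (.node (.node (.node (.leaf (.up 3 731 1)) (.leaf (.up 3 1134 0))) (.node (.leaf (.up 2 938 2)) (.leaf (.up 3 1092 2)))) (.node (.node (.leaf (.up 3 351 3)) (.leaf (.up 3 1531 4))) (.node (.leaf (.up 5 2042 4)) (.leaf (.up 2 2043 4))))) (.node (.node (.node (.leaf (.up 3 1265 0)) (.leaf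 (.up 4 1309 4))) (.node (.leaf (.up 3 1092 1)) (.leaf (.up 2 948 0)))) (.node (.node (.leaf (.up 2 859 3)) (.leaf (.up 5 331 3))) (.node (.leaf (.up 2 2013 0)) (.leaf (.up 3 843 3))))))))

noncomputable def vt5_6_0001 : Tr VStep :=
  .node (.node (.node (.node (.node (.node (.node (.leaf (.up 3 143 4)) (.leaf (.up 1 18 1))) (.node (.leaf (.up 2 655 4)) (.leaf (.up 4 668 2)))) (.node (.node (.leaf (.up 1 75 2)) (.leaf (.up 3 120 4))) (.node (.leaf (.up 2 401 3)) (.leaf (.up 4 632 4))))) (.node (.node (.node (.leaf (.up 2 1052 3)) (.leaf (.up 4 1548 3))) (.node (.leaf (.up 4 1564 3)) (.leaf (.up 3 485 2)))) (.node (.node (.leaf (.up 4 405 3)) (.leaf (.up 3 1244 2))) (.node (.leaf (.up 3 921 2)) (.leaf (.up 2 389 3)))))) (.node (.node (.node (.node (.leaf (.root 2314)) (.leaf (.up 4 1790 3))) (.node (.leaf (.up 4 439 2)) (.leaf (.up 3 1265 1)))) (.node (.node (.leaf (.up 3 359 3)) (.leaf (.up 1 325 1))) (.node (.leaf (.up 5 1886 4))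 (.leaf (.up 3 1887 4))))) (.node (.node (.node (.leaf (.up 2 1770 3)) (.leaf (.up 3 622 1))) (.node (.leaf (.up 1 102 1)) (.leaf (.up 4 1786 3)))) (.node (.node (.leaf (.up 4 867 3)) (.leaf (.up 2 371 3))) (.node (.leaf (.up 4 355 3)) (.leaf (.up 5 883 3))))))) (.node (.node (.node (.node (.node (.leaf (.up 4 175 4)) (.leaf (.up 3 174 4))) (.node (.leaf (.up 1 34 3)) (.leaf (.up 1 0 2)))) (.node (.node (.leaf (.up 3 89 4)) (.leaf (.up 3 88 4))) (.node (.leaf (.up 3 636 2)) (.leaf (.up 3 600 4))))) (.node (.node (.node (.leaf (.up 2 1084 2)) (.leaf (.up 3 566 3))) (.node (.leaf (.up 3 1701 1)) (.leaf (.up 3 889 2)))) (.node (.node (.leaf (.up 5 73 4)) (.leaf (.up 1 72 4))) (.node (.leaf (.up 3 585 4)) (.leaf (.up 4 281 1)))))) (.node (.node (.node (.node (.leaf (.up 3 896 2)) (.leaf (.up 3 1134 2))) (.node (.leaf (.up 2 938 0)) (.leaf (.up 3 1092 0)))) (.node (.node (.leaf (.up 2 1373 3)) (.leaf (.up 3 1869 3))) (.node (.leaf (.up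 5 1885 3)) (.leaf (.up 2 1357 3))))) (.node (.node (.node (.leaf (.root 2266)) (.leaf (.up 1 192 3))) (.node (.leaf (.up 1 70 1)) (.leaf (.up 1 78 1)))) (.node (.node (.leaf (.up 4 1390 4)) (.leaf (.up 2 1353 3))) (.node (.leaf (.up 2 1369 3)) (.leaf (.up 5 1865 3)))))))) (.node (.node (.node (.node (.node (.node (.leaf (.up 1 15 4)) (.leaf (.up 2 14 4))) (.node (.leaf (.up 2 1726 0)) (.leaf (.up 4 8 3)))) (.node (.node (.leaf (.up 2 249 4)) (.leaf (.up 3 636 0))) (.node (.leaf (.up 2 761 4)) (.leaf (.up 2 760 4))))) (.node (.node (.node (.leaf (.up 4 540 3)) (.leaf (.up 2 30 4))) (.node (.leaf (.up 3 1403 2)) (.leaf (.up 4 524 3)))) (.node (.node (.leaf (.up 1 66 2)) (.leaf (.up 1 232 4))) (.node (.leaf (.up 2 745 4)) (.leaf (.up 2 744 4)))))) (.node (.node (.node (.node (.leaf (.up 2 749 0)) (.leaf (.up 3 1410 2))) (.node (.leaf (.up 2 1275 1)) (.leaf (.up 2 1833 4)))) (.node (.node (.leaf (.up 3 1502 4)) (.leaf (.up 2 16 2)))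 (.node (.leaf (.up 2 2014 4)) (.leaf (.up 4 2015 4))))) (.node (.node (.node (.leaf (.up 3 1336 4)) (.leaf (.up 4 620 1))) (.node (.leaf (.up 2 1848 4)) (.leaf (.up 2 108 1)))) (.node (.node (.leaf (.up 4 1379 3)) (.leaf (.up 2 1907 3))) (.node (.leaf (.up 3 1891 3)) (.leaf (.up 2 1999 4))))))) (.node (.node (.node (.node (.node (.leaf (.up 1 47 4)) (.leaf (.up 2 46 4))) (.node (.leaf (.up 2 1058 0)) (.leaf (.up 4 1074 3)))) (.node (.node (.leaf (.up 4 423 2)) (.leaf (.up 2 955 3))) (.node (.leaf (.up 2 729 4)) (.leaf (.up 1 75 0))))) (.node (.node (.node (.leaf (.up 4 63 4)) (.leaf (.up 4 1078 3))) (.node (.leaf (.up 2 2023 2)) (.leaf (.up 1 9 2)))) (.node (.node (.leaf (.up 3 734 2)) (.leaf (.up 3 200 4))) (.node (.leaf (.up 2 713 4)) (.leaf (.up 2 712 4)))))) (.node (.node (.node (.node (.leaf (.up 2 113 0)) (.leaf (.up 3 1220 3))) (.node (.leaf (.up 3 218 0)) (.leaf (.up 3 1844 0)))) (.node (.node (.leaf (.up 4 367 1)) (.leaf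 (.up 3 1535 4))) (.node (.leaf (.up 2 349 3)) (.leaf (.up 4 2047 4))))) (.node (.node (.node (.leaf (.up 4 1304 4)) (.leaf (.up 4 1728 3))) (.node (.leaf (.up 1 68 1)) (.leaf (.up 1 69 0)))) (.node (.node (.leaf (.up 4 345 3)) (.leaf (.up 2 841 3))) (.node (.leaf (.up 3 2030 4)) (.leaf (.up 1 329 3))))))))

noncomputable def vt5_6_000 : Tr VStep := .node vt5_6_0000 vt5_6_0001

noncomputable def vt5_6_0010 : Tr VStep :=
  .node (.node (.node (.node (.node (.node (.node (.leaf (.root 1352)) (.leaf (.up 3 693 2))) (.node (.leaf (.up 4 1178 3)) (.leaf (.up 5 642 4)))) (.node (.node (.leaf (.up 4 117 4)) (.leaf (.up 4 259 3))) (.node (.leaf (.up 1 98 2)) (.leaf (.up 4 628 4))))) (.node (.node (.node (.leaf (.up 3 147 4)) (.leaf (.up 4 146 4))) (.node (.leaf (.up 3 1694 3)) (.leaf (.up 3 359 2)))) (.node (.node (.leaf (.up 2 101 4)) (.leaf (.up 2 1848 1))) (.node (.leaf (.up 4 613 4)) (.leaf (.up 3 263 3)))))) (.node (.node (.node (.node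 (.leaf (.root 2202)) (.leaf (.up 2 1763 0))) (.node (.leaf (.up 4 309 2)) (.leaf (.up 4 240 1)))) (.node (.node (.leaf (.up 3 485 3)) (.leaf (.up 3 1013 3))) (.node (.leaf (.up 5 1874 4)) (.leaf (.up 2 841 2))))) (.node (.node (.node (.leaf (.up 4 1640 3)) (.leaf (.up 2 402 0))) (.node (.leaf (.up 4 1128 3)) (.leaf (.up 4 1656 3)))) (.node (.node (.leaf (.up 3 993 3)) (.leaf (.up 3 155 2))) (.node (.leaf (.up 2 2014 2)) (.leaf (.up 2 48 2))))))) (.node (.node (.node (.node (.node (.leaf (.root 1942)) (.leaf (.up 2 176 3))) (.node (.leaf (.up 4 160 3)) (.leaf (.up 4 674 4)))) (.node (.node (.leaf (.up 2 1833 3)) (.leaf (.up 5 84 4))) (.node (.leaf (.up 4 597 4)) (.leaf (.up 3 596 4))))) (.node (.node (.node (.leaf (.up 2 179 4)) (.leaf (.up 4 692 3))) (.node (.leaf (.up 2 179 0)) (.leaf (.up 3 1019 2)))) (.node (.node (.leaf (.up 1 69 4)) (.leaf (.up 1 68 4))) (.node (.leaf (.up 4 581 4)) (.leaf (.up 4 1304 1)))))) (.node (.node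 (.node (.node (.leaf (.up 3 1412 4)) (.leaf (.up 2 582 3))) (.node (.leaf (.up 3 598 3)) (.leaf (.up 1 70 3)))) (.node (.node (.leaf (.up 3 1503 3)) (.leaf (.up 2 1999 3))) (.node (.leaf (.up 4 2015 3)) (.leaf (.up 2 1907 4))))) (.node (.node (.node (.leaf (.up 3 1248 0)) (.leaf (.up 1 66 3))) (.node (.leaf (.up 3 82 3)) (.leaf (.up 3 1941 4)))) (.node (.node (.leaf (.up 3 1895 0)) (.leaf (.up 4 1379 4))) (.node (.leaf (.up 5 1499 3)) (.leaf (.up 1 34 0)))))))) (.node (.node (.node (.node (.node (.node (.leaf (.up 1 3 4)) (.leaf (.up 1 2 4))) (.node (.leaf (.up 2 1582 0)) (.leaf (.up 3 138 3)))) (.node (.node (.leaf (.up 2 1299 3)) (.leaf (.up 4 1795 3))) (.node (.leaf (.up 5 1811 3)) (.leaf (.up 5 1283 3))))) (.node (.node (.node (.leaf (.up 4 670 3)) (.leaf (.up 1 18 4))) (.node (.leaf (.up 3 531 4)) (.leaf (.up 3 1713 0)))) (.node (.node (.leaf (.up 1 192 2)) (.leaf (.up 4 228 4))) (.node (.leaf (.up 3 741 4)) (.leaf (.up 3 1799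 3)))))) (.node (.node (.node (.node (.leaf (.up 4 620 3)) (.leaf (.up 3 1280 2))) (.node (.leaf (.up 2 108 3)) (.leaf (.up 3 636 3)))) (.node (.node (.leaf (.up 3 2021 3)) (.leaf (.up 4 1525 3))) (.node (.leaf (.up 4 2002 4)) (.leaf (.up 2 2037 3))))) (.node (.node (.node (.leaf (.up 4 104 3)) (.leaf (.up 4 632 3))) (.node (.leaf (.up 2 316 2)) (.leaf (.up 3 120 3)))) (.node (.node (.leaf (.up 4 1505 3)) (.leaf (.up 3 2033 3))) (.node (.leaf (.up 3 2017 3)) (.leaf (.up 2 832 2))))))) (.node (.node (.node (.node (.node (.leaf (.up 3 35 4)) (.leaf (.up 1 34 4))) (.node (.leaf (.up 2 1052 2)) (.leaf (.up 3 1200 3)))) (.node (.node (.leaf (.up 4 297 3)) (.leaf (.up 4 901 1))) (.node (.leaf (.up 5 725 4)) (.leaf (.up 2 1632 2))))) (.node (.node (.node (.leaf (.up 4 1700 3)) (.leaf (.up 3 32 2))) (.node (.leaf (.up 3 563 4)) (.leaf (.up 2 139 2)))) (.node (.node (.leaf (.up 4 813 3)) (.leaf (.up 5 196 4))) (.node (.leaf (.up 1 68 0))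 (.leaf (.up 5 708 4)))))) (.node (.node (.node (.node (.leaf (.up 4 1622 3)) (.leaf (.up 4 1094 3))) (.node (.leaf (.up 3 218 1)) (.leaf (.up 1 210 1)))) (.node (.node (.leaf (.up 4 991 3)) (.leaf (.up 5 463 3))) (.node (.leaf (.up 2 2034 4)) (.leaf (.up 3 975 3))))) (.node (.node (.node (.leaf (.up 4 1106 3)) (.leaf (.up 3 1253 2))) (.node (.leaf (.up 5 1618 3)) (.leaf (.up 3 1090 3)))) (.node (.node (.leaf (.up 5 475 3)) (.leaf (.up 4 505 1))) (.node (.leaf (.up 3 987 3)) (.leaf (.up 2 850 0))))))))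

noncomputable def vt5_6_0011 : Tr VStep :=
  .node (.node (.node (.node (.node (.node (.node (.leaf (.up 2 135 4)) (.leaf (.up 4 134 4))) (.node (.leaf (.up 3 1711 0)) (.leaf (.up 3 321 0)))) (.node (.node (.leaf (.up 2 113 4)) (.leaf (.up 4 112 4))) (.node (.leaf (.up 4 625 4)) (.leaf (.up 3 257 3))))) (.node (.node (.node (.leaf (.up 4 1692 3)) (.leaf (.up 3 1691 0))) (.node (.leaf (.up 3 663 4)) (.leaf (.up 2 1584 0)))) (.node (.node (.leaf (.up 1 65 2)) (.leaf (.up 1 96 4))) (.node (.leaf (.up 3 609 4)) (.leaf (.up 4 608 4)))))) (.node (.node (.node (.node (.leaf (.up 2 1784 1)) (.leaf (.up 3 1776 1))) (.node (.leaf (.up 3 1134 3)) (.leaf (.up 4 1322 2)))) (.node (.node (.leaf (.root 2306)) (.leaf (.up 3 1367 4))) (.node (.leaf (.up 3 487 3)) (.leaf (.up 5 1015 3))))) (.node (.node (.node (.leaf (.up 3 278 2)) (.leaf (.up 2 1784 2))) (.node (.leaf (.up 1 103 1)) (.leaf (.up 2 111 1)))) (.node (.node (.leaf (.up 5 483 3)) (.leaf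 (.up 4 874 2))) (.node (.leaf (.up 3 995 3)) (.leaf (.up 4 499 3))))))) (.node (.node (.node (.node (.node (.leaf (.up 3 167 4)) (.leaf (.up 4 166 4))) (.node (.leaf (.up 4 674 3)) (.leaf (.up 3 989 0)))) (.node (.node (.leaf (.up 2 420 2)) (.leaf (.up 3 80 4))) (.node (.leaf (.up 4 593 4)) (.leaf (.up 3 1761 2))))) (.node (.node (.node (.leaf (.up 4 183 4)) (.leaf (.up 2 161 2))) (.node (.leaf (.up 2 2020 2)) (.leaf (.up 1 10 2)))) (.node (.node (.leaf (.up 1 65 4)) (.leaf (.up 1 64 4))) (.node (.leaf (.up 4 577 4)) (.leaf (.up 2 1432 2)))))) (.node (.node (.node (.node (.leaf (.up 1 96 0)) (.leaf (.up 1 68 3))) (.node (.leaf (.up 3 203 0)) (.leaf (.up 5 1921 4)))) (.node (.node (.leaf (.up 2 2013 3)) (.leaf (.up 2 1485 3))) (.node (.leaf (.up 2 1910 4)) (.leaf (.up 5 1997 3))))) (.node (.node (.node (.leaf (.up 3 80 3)) (.leaf (.up 3 576 3))) (.node (.leaf (.up 5 592 3)) (.leaf (.up 1 64 3)))) (.node (.node (.leaf (.up 5 1382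 4)) (.leaf (.up 3 1993 3))) (.node (.leaf (.up 3 1894 4)) (.leaf (.up 2 349 2)))))))) (.node (.node (.node (.node (.node (.node (.leaf (.up 4 664 3)) (.leaf (.up 1 6 4))) (.node (.leaf (.up 3 1503 0)) (.leaf (.up 3 561 0)))) (.node (.node (.leaf (.up 1 72 2)) (.leaf (.up 4 240 4))) (.node (.leaf (.up 3 753 4)) (.leaf (.up 4 752 4))))) (.node (.node (.node (.leaf (.up 3 1699 2)) (.leaf (.up 4 652 3))) (.node (.leaf (.up 3 535 4)) (.leaf (.up 3 534 4)))) (.node (.node (.leaf (.up 5 1301 3)) (.leaf (.up 2 224 4))) (.node (.leaf (.up 2 737 4)) (.leaf (.up 3 736 4)))))) (.node (.node (.node (.node (.leaf (.up 2 396 0)) (.leaf (.up 4 638 3))) (.node (.leaf (.up 3 622 3)) (.leaf (.up 3 126 3)))) (.node (.node (.leaf (.up 4 1511 3)) (.leaf (.up 4 867 2))) (.node (.leaf (.up 2 2023 3)) (.leaf (.up 5 1527 3))))) (.node (.node (.node (.leaf (.up 4 618 3)) (.leaf (.up 2 1329 4))) (.node (.leaf (.up 2 717 2)) (.leaf (.up 2 1315 2)))) (.node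 (.node (.leaf (.up 3 2036 2)) (.leaf (.up 4 1479 4))) (.node (.leaf (.up 3 1887 2)) (.leaf (.up 2 1991 4))))))) (.node (.node (.node (.node (.node (.leaf (.up 4 1698 3)) (.leaf (.up 1 6 0))) (.node (.leaf (.up 3 1859 0)) (.leaf (.up 1 3 2)))) (.node (.node (.leaf (.up 1 209 4)) (.leaf (.up 2 315 3))) (.node (.leaf (.up 2 299 3)) (.leaf (.up 2 720 4))))) (.node (.node (.node (.leaf (.up 2 1087 2)) (.leaf (.up 4 1718 3))) (.node (.leaf (.up 2 1172 2)) (.leaf (.up 3 566 4)))) (.node (.node (.leaf (.up 4 303 3)) (.leaf (.up 1 192 4))) (.node (.leaf (.up 3 705 4)) (.leaf (.up 2 1768 2)))))) (.node (.node (.node (.node (.leaf (.up 3 1280 4)) (.leaf (.up 5 1604 3))) (.node (.leaf (.up 2 955 0)) (.leaf (.up 3 1092 3)))) (.node (.node (.leaf (.up 5 477 3)) (.leaf (.up 4 511 2))) (.node (.leaf (.up 3 989 3)) (.leaf (.up 4 461 3))))) (.node (.node (.node (.leaf (.up 4 1616 3)) (.leaf (.up 4 1088 3))) (.node (.leaf (.up 1 69 1)) (.leaf (.up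 3 1809 4)))) (.node (.node (.leaf (.up 4 985 3)) (.leaf (.up 4 1511 4))) (.node (.leaf (.up 3 2033 1)) (.leaf (.up 2 2023 4))))))))

noncomputable def vt5_6_001 : Tr VStep := .node vt5_6_0010 vt5_6_0011

noncomputable def vt5_6_00 : Tr VStep := .node vt5_6_000 vt5_6_001

noncomputable def vt5_6_0100 : Tr VStep :=
  .node (.node (.node (.node (.node (.node (.node (.leaf (.root 1752)) (.leaf (.up 4 1045 4))) (.node (.leaf (.up 4 1556 4)) (.leaf (.up 3 676 0)))) (.node (.node (.leaf (.up 2 958 1)) (.leaf (.up 5 395 3))) (.node (.leaf (.up 3 1762 4)) (.leaf (.up 2 1763 4))))) (.node (.node (.node (.leaf (.up 4 1028 4)) (.leaf (.up 4 1029 4))) (.node (.leaf (.up 4 1558 3)) (.leaf (.up 2 353 2)))) (.node (.node (.leaf (.up 4 415 3)) (.leaf (.up 2 1833 1))) (.node (.leaf (.up 5 927 3)) (.leaf (.up 3 1779 4)))))) (.node (.node (.node (.node (.leaf (.root 1196)) (.leaf (.up 2 1654 2))) (.node (.leaf (.up 2 307 2)) (.leaf (.up 4 1268 3))))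 (.node (.node (.leaf (.up 2 1034 2)) (.leaf (.up 4 452 4))) (.node (.leaf (.up 3 1185 2)) (.leaf (.up 3 964 4))))) (.node (.node (.node (.leaf (.root 1416)) (.leaf (.up 5 1264 3))) (.node (.leaf (.up 3 1248 3)) (.leaf (.up 2 1444 2)))) (.node (.node (.leaf (.root 1226)) (.leaf (.up 5 468 4))) (.node (.leaf (.up 3 981 4)) (.leaf (.up 3 889 3))))))) (.node (.node (.node (.node (.node (.leaf (.root 1180)) (.leaf (.up 1 47 2))) (.node (.leaf (.up 4 1588 4)) (.leaf (.up 2 1589 4)))) (.node (.node (.leaf (.up 5 1953 3)) (.leaf (.up 4 1457 3))) (.node (.leaf (.up 2 760 2)) (.leaf (.up 3 1731 4))))) (.node (.node (.node (.leaf (.up 3 1060 4)) (.leaf (.up 4 572 3))) (.node (.leaf (.up 3 693 1)) (.leaf (.up 3 1021 2)))) (.node (.node (.leaf (.up 4 1445 3)) (.leaf (.up 3 1235 4))) (.node (.leaf (.up 5 1746 4)) (.leaf (.up 4 1289 1)))))) (.node (.node (.node (.node (.leaf (.root 1224)) (.leaf (.up 3 718 3))) (.node (.leaf (.up 3 734 3)) (.leaf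 (.up 3 206 3)))) (.node (.node (.leaf (.up 1 2 0)) (.leaf (.up 3 2028 0))) (.node (.leaf (.up 4 1917 1)) (.leaf (.up 5 1351 3))))) (.node (.node (.node (.leaf (.up 2 125 2)) (.leaf (.up 3 258 4))) (.node (.leaf (.up 3 218 3)) (.leaf (.up 2 1848 2)))) (.node (.node (.leaf (.up 2 1907 0)) (.leaf (.up 5 1347 3))) (.node (.leaf (.up 3 1013 4)) (.leaf (.up 3 1859 3)))))))) (.node (.node (.node (.node (.node (.node (.leaf (.root 705)) (.leaf (.up 4 1173 4))) (.node (.leaf (.up 4 1684 4)) (.leaf (.up 1 2 3)))) (.node (.node (.leaf (.up 3 1435 3)) (.leaf (.up 2 948 1))) (.node (.leaf (.up 4 1634 4)) (.leaf (.up 5 1419 3))))) (.node (.node (.node (.leaf (.up 3 534 3)) (.leaf (.up 1 6 3))) (.node (.leaf (.up 3 1535 2)) (.leaf (.up 3 1701 0)))) (.node (.node (.leaf (.up 1 198 2)) (.leaf (.up 3 1139 4))) (.node (.leaf (.up 2 1315 1)) (.leaf (.up 3 1935 3)))))) (.node (.node (.node (.node (.leaf (.up 2 744 2)) (.leaf (.up 3 1286 2))) (.node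 (.leaf (.up 4 228 3)) (.leaf (.up 4 946 4)))) (.node (.node (.leaf (.up 1 325 4)) (.leaf (.up 3 1405 3))) (.node (.leaf (.up 1 325 0)) (.leaf (.up 4 1917 3))))) (.node (.node (.node (.leaf (.root 1194)) (.leaf (.up 4 752 3))) (.node (.leaf (.up 3 736 3)) (.leaf (.up 4 240 3)))) (.node (.node (.leaf (.up 3 1385 3)) (.leaf (.up 4 340 4))) (.node (.leaf (.up 4 1897 3)) (.leaf (.up 3 1401 3))))))) (.node (.node (.node (.node (.node (.leaf (.up 3 1201 2)) (.leaf (.up 3 1205 4))) (.node (.leaf (.up 2 1050 2)) (.leaf (.up 2 1717 4)))) (.node (.node (.leaf (.up 2 291 2)) (.leaf (.up 4 1091 4))) (.node (.leaf (.up 5 1602 4)) (.leaf (.up 2 1638 2))))) (.node (.node (.node (.leaf (.up 4 1580 3)) (.leaf (.up 2 1084 3))) (.node (.leaf (.up 3 1891 2)) (.leaf (.up 2 1596 3)))) (.node (.node (.leaf (.up 3 602 2)) (.leaf (.up 4 437 3))) (.node (.leaf (.up 3 753 2)) (.leaf (.up 3 1311 2)))))) (.node (.node (.node (.node (.leaf (.up 3 1758 3)) (.leaf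 (.up 2 402 4))) (.node (.leaf (.up 3 203 1)) (.leaf (.up 3 914 4)))) (.node (.node (.leaf (.up 3 357 4)) (.leaf (.up 3 327 3))) (.node (.leaf (.up 2 1357 2)) (.leaf (.up 5 868 4))))) (.node (.node (.node (.leaf (.up 4 1242 3)) (.leaf (.up 4 1738 3))) (.node (.leaf (.up 2 934 2)) (.leaf (.up 5 1226 3)))) (.node (.node (.leaf (.up 3 339 3)) (.leaf (.up 4 835 3))) (.node (.leaf (.up 4 851 3)) (.leaf (.up 1 323 3))))))))

noncomputable def vt5_6_0101 : Tr VStep :=
  .node (.node (.node (.node (.node (.node (.node (.leaf (.root 2112)) (.leaf (.up 1 2 1))) (.node (.leaf (.up 4 1552 3)) (.leaf (.up 4 1024 3)))) (.node (.node (.leaf (.up 4 1254 4)) (.leaf (.up 4 1255 4))) (.node (.leaf (.up 3 921 3)) (.leaf (.up 3 1767 4))))) (.node (.node (.node (.leaf (.up 2 353 0)) (.leaf (.up 4 1028 3))) (.node (.leaf (.up 2 1044 3)) (.leaf (.up 4 656 2)))) (.node (.node (.leaf (.up 4 925 3)) (.leaf (.up 4 1271 4))) (.node (.leaf (.up 4 413 3)) (.leaf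 (.up 3 1794 2)))))) (.node (.node (.node (.node (.leaf (.up 2 1769 1)) (.leaf (.up 3 1761 1))) (.node (.leaf (.up 4 1254 3)) (.leaf (.up 4 1324 2)))) (.node (.node (.leaf (.root 697)) (.leaf (.up 3 448 4))) (.node (.leaf (.up 4 367 3)) (.leaf (.up 5 895 3))))) (.node (.node (.node (.leaf (.up 3 295 4)) (.leaf (.up 4 638 1))) (.node (.leaf (.up 3 1762 3)) (.leaf (.up 3 732 0)))) (.node (.node (.leaf (.up 5 363 3)) (.leaf (.up 3 891 3))) (.node (.leaf (.up 2 875 3)) (.leaf (.up 3 976 4))))))) (.node (.node (.node (.node (.node (.leaf (.root 2426)) (.leaf (.up 1 34 1))) (.node (.leaf (.up 2 1584 4)) (.leaf (.up 4 58 3)))) (.node (.node (.leaf (.up 5 1222 4)) (.leaf (.up 3 1223 4))) (.node (.leaf (.up 5 1734 4)) (.leaf (.up 1 78 0))))) (.node (.node (.node (.leaf (.up 3 1205 1)) (.leaf (.up 3 167 2))) (.node (.leaf (.up 2 46 3)) (.leaf (.up 3 574 3)))) (.node (.node (.leaf (.up 3 731 2)) (.leaf (.up 4 1463 3))) (.node (.leaf (.up 1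 209 0)) (.leaf (.up 4 1751 4)))))) (.node (.node (.node (.node (.leaf (.up 3 732 3)) (.leaf (.up 3 278 4))) (.node (.leaf (.up 3 94 2)) (.leaf (.up 2 716 3)))) (.node (.node (.leaf (.up 4 481 4)) (.leaf (.up 3 480 4))) (.node (.leaf (.up 3 993 4)) (.leaf (.up 5 1861 3))))) (.node (.node (.node (.leaf (.up 3 263 4)) (.leaf (.up 2 712 3))) (.node (.leaf (.up 3 728 3)) (.leaf (.up 1 64 0)))) (.node (.node (.leaf (.up 5 497 4)) (.leaf (.up 3 1857 3))) (.node (.leaf (.up 2 1873 3)) (.leaf (.up 3 1008 4)))))))) (.node (.node (.node (.node (.node (.node (.leaf (.up 4 1168 4)) (.leaf (.up 1 0 1))) (.node (.leaf (.up 2 16 3)) (.leaf (.up 4 1681 4)))) (.node (.node (.leaf (.up 1 78 2)) (.leaf (.up 5 1417 3))) (.node (.leaf (.up 2 1638 4)) (.leaf (.up 5 1929 3))))) (.node (.node (.node (.leaf (.up 2 20 3)) (.leaf (.up 3 1183 1))) (.node (.leaf (.up 3 532 3)) (.leaf (.up 1 4 3)))) (.node (.node (.leaf (.up 4 1437 3)) (.leaf (.up 2 1143 4)))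 (.node (.leaf (.up 2 1654 4)) (.leaf (.up 2 1655 4)))))) (.node (.node (.node (.node (.leaf (.up 2 408 0)) (.leaf (.up 2 1763 1))) (.node (.leaf (.up 2 951 4)) (.leaf (.up 4 246 3)))) (.node (.node (.leaf (.up 2 1163 2)) (.leaf (.up 1 320 4))) (.node (.leaf (.up 4 833 4)) (.leaf (.up 2 832 4))))) (.node (.node (.node (.leaf (.up 2 1769 0)) (.leaf (.up 3 636 1))) (.node (.leaf (.up 3 226 3)) (.leaf (.up 2 934 4)))) (.node (.node (.leaf (.up 2 1899 3)) (.leaf (.up 3 1403 3))) (.node (.leaf (.up 2 849 4)) (.leaf (.up 4 1915 3))))))) (.node (.node (.node (.node (.node (.leaf (.up 3 1200 4)) (.leaf (.up 1 18 0))) (.node (.leaf (.up 2 1066 3)) (.leaf (.up 3 1713 4)))) (.node (.node (.leaf (.up 4 1094 4)) (.leaf (.up 3 1095 4))) (.node (.leaf (.up 2 419 3)) (.leaf (.up 4 1431 2))))) (.node (.node (.node (.leaf (.up 2 1070 3)) (.leaf (.up 3 1185 4))) (.node (.leaf (.up 2 1582 3)) (.leaf (.up 2 1086 3)))) (.node (.node (.leaf (.up 4 423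 3)) (.leaf (.up 2 951 3))) (.node (.leaf (.up 3 256 2)) (.leaf (.up 4 439 3)))))) (.node (.node (.node (.node (.leaf (.up 2 772 0)) (.leaf (.up 3 1740 3))) (.node (.leaf (.up 3 1756 3)) (.leaf (.up 3 1228 3)))) (.node (.node (.leaf (.up 2 353 4)) (.leaf (.up 2 1901 0))) (.node (.leaf (.up 4 1724 2)) (.leaf (.up 1 325 3))))) (.node (.node (.node (.leaf (.up 3 1752 3)) (.leaf (.up 4 1224 3))) (.node (.leaf (.up 5 1240 3)) (.leaf (.up 3 816 0)))) (.node (.node (.leaf (.up 2 849 3)) (.leaf (.up 3 321 3))) (.node (.leaf (.up 2 1477 2)) (.leaf (.up 4 833 3))))))))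

noncomputable def vt5_6_010 : Tr VStep := .node vt5_6_0100 vt5_6_0101

noncomputable def vt5_6_0110 : Tr VStep :=
  .node (.node (.node (.node (.node (.node (.node (.leaf (.root 1082)) (.leaf (.up 3 1666 3))) (.node (.leaf (.up 3 1579 0)) (.leaf (.up 3 453 0)))) (.node (.node (.leaf (.up 2 283 3)) (.leaf (.up 2 951 1))) (.node (.leaf (.up 2 1770 4)) (.leaf (.up 3 578 0))))) (.node (.node (.node (.leaf (.up 3 1686 3)) (.leaf (.up 4 697 2))) (.node (.leaf (.up 3 346 0)) (.leaf (.up 3 1716 0)))) (.node (.node (.leaf (.up 4 799 3)) (.leaf (.up 2 1275 4))) (.node (.leaf (.up 3 733 0)) (.leaf (.up 3 1331 0)))))) (.node (.node (.node (.node (.leaf (.root 1984)) (.leaf (.up 3 736 1))) (.node (.leaf (.up 1 232 1)) (.leaf (.up 2 1652 3)))) (.node (.node (.leaf (.up 4 461 4)) (.leaf (.up 5 509 3))) (.node (.leaf (.up 4 493 3)) (.leaf (.up 3 1021 3))))) (.node (.node (.node (.leaf (.root 2200)) (.leaf (.up 4 1648 3))) (.node (.leaf (.up 2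 1632 3)) (.leaf (.up 4 1136 3)))) (.node (.node (.leaf (.up 4 1024 2)) (.leaf (.up 4 1017 3))) (.node (.leaf (.up 2 1195 2)) (.leaf (.up 3 837 2))))))) (.node (.node (.node (.node (.node (.leaf (.up 2 1084 4)) (.leaf (.up 3 696 3))) (.node (.leaf (.up 2 1596 4)) (.leaf (.up 3 857 0)))) (.node (.node (.leaf (.up 4 288 2)) (.leaf (.up 4 919 1))) (.node (.leaf (.up 3 1840 0)) (.leaf (.up 2 1329 3))))) (.node (.node (.node (.leaf (.up 3 684 3)) (.leaf (.up 3 37 2))) (.node (.leaf (.up 3 966 0)) (.leaf (.up 2 1581 4)))) (.node (.node (.leaf (.up 4 1242 4)) (.leaf (.up 4 1463 2))) (.node (.leaf (.up 1 65 0)) (.leaf (.up 3 1967 0)))))) (.node (.node (.node (.node (.leaf (.root 1622)) (.leaf (.up 1 78 3))) (.node (.leaf (.up 3 94 3)) (.leaf (.up 1 192 1)))) (.node (.node (.leaf (.up 4 493 4)) (.leaf (.up 4 1479 3))) (.node (.leaf (.up 5 1495 3)) (.leaf (.up 2 1991 3))))) (.node (.node (.node (.leaf (.up 3 90 3)) (.leaf (.up 3 1248 2)))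 (.node (.leaf (.up 3 602 3)) (.leaf (.up 3 74 3)))) (.node (.node (.leaf (.up 4 1692 2)) (.leaf (.up 4 491 1))) (.node (.leaf (.up 3 1021 4)) (.leaf (.up 4 1020 4)))))))) (.node (.node (.node (.node (.node (.node (.leaf (.up 4 658 3)) (.leaf (.up 5 130 3))) (.node (.leaf (.up 2 1371 0)) (.leaf (.up 3 693 0)))) (.node (.node (.leaf (.up 2 957 1)) (.leaf (.up 4 1291 3))) (.node (.leaf (.up 1 103 2)) (.leaf (.up 3 306 0))))) (.node (.node (.node (.leaf (.up 2 1575 2)) (.leaf (.up 4 1165 4))) (.node (.leaf (.up 3 1676 2)) (.leaf (.up 2 354 2)))) (.node (.node (.leaf (.up 3 1311 3)) (.leaf (.up 2 1834 1))) (.node (.leaf (.up 4 1658 4)) (.leaf (.up 3 1603 0)))))) (.node (.node (.node (.node (.leaf (.up 2 264 0)) (.leaf (.up 4 628 3))) (.node (.leaf (.up 2 955 4)) (.leaf (.up 3 1758 2)))) (.node (.node (.leaf (.up 2 1517 3)) (.leaf (.up 1 332 4))) (.node (.leaf (.up 5 2029 3)) (.leaf (.up 4 1533 3))))) (.node (.node (.node (.leaf (.up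 4 608 3)) (.leaf (.up 4 112 3))) (.node (.leaf (.up 1 96 3)) (.leaf (.up 2 938 4)))) (.node (.node (.leaf (.up 2 349 4)) (.leaf (.up 5 348 4))) (.node (.leaf (.up 5 1513 3)) (.leaf (.up 3 860 4))))))) (.node (.node (.node (.node (.node (.leaf (.up 4 1704 3)) (.leaf (.up 3 1213 4))) (.node (.leaf (.up 2 1991 0)) (.leaf (.up 2 1720 3)))) (.node (.node (.leaf (.up 4 1098 4)) (.leaf (.up 4 305 3))) (.node (.leaf (.up 4 413 1)) (.leaf (.up 4 1611 4))))) (.node (.node (.node (.leaf (.up 3 1196 3)) (.leaf (.up 4 1724 3))) (.node (.leaf (.up 2 1708 3)) (.leaf (.up 3 1709 4)))) (.node (.node (.leaf (.up 3 1114 4)) (.leaf (.up 3 1735 2))) (.node (.leaf (.up 5 1626 4)) (.leaf (.up 4 309 3)))))) (.node (.node (.node (.node (.leaf (.up 4 411 4)) (.leaf (.up 4 1614 3))) (.node (.leaf (.up 3 1630 3)) (.leaf (.up 1 194 1)))) (.node (.node (.leaf (.up 3 471 3)) (.leaf (.up 2 2045 0))) (.node (.leaf (.up 5 877 4)) (.leaf (.up 1 455 3))))) (.node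 (.node (.node (.leaf (.up 3 1253 0)) (.leaf (.up 4 1098 3))) (.node (.leaf (.up 3 1114 3)) (.leaf (.up 5 906 4)))) (.node (.node (.leaf (.up 4 979 3)) (.leaf (.up 5 451 3))) (.node (.leaf (.up 3 993 1)) (.leaf (.up 3 963 3))))))))

noncomputable def vt5_6_0111 : Tr VStep :=
  .node (.node (.node (.node (.node (.node (.node (.leaf (.up 1 11 1)) (.leaf (.up 1 3 1))) (.node (.leaf (.up 4 1168 3)) (.leaf (.up 3 564 0)))) (.node (.node (.leaf (.up 2 1262 4)) (.leaf (.up 3 1263 4))) (.node (.leaf (.up 4 281 3)) (.leaf (.up 3 435 0))))) (.node (.node (.node (.leaf (.up 2 1032 4)) (.leaf (.up 4 1033 4))) (.node (.leaf (.up 4 1684 1)) (.leaf (.up 3 1349 0)))) (.node (.node (.leaf (.up 4 285 3)) (.leaf (.up 4 1242 2))) (.node (.leaf (.up 3 300 0)) (.leaf (.up 3 1730 0)))))) (.node (.node (.node (.node (.leaf (.root 1238)) (.leaf (.up 2 1654 3))) (.node (.leaf (.up 2 1638 3)) (.leaf (.up 3 1248 1)))) (.node (.node (.leaf (.up 5 495 3)) (.leaf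 (.up 4 1023 3))) (.node (.leaf (.up 3 1007 3)) (.leaf (.up 4 511 3))))) (.node (.node (.node (.leaf (.up 2 1784 0)) (.leaf (.up 3 639 1))) (.node (.leaf (.up 2 712 2)) (.leaf (.up 3 814 4)))) (.node (.node (.leaf (.up 3 2033 2)) (.leaf (.up 5 472 4))) (.node (.leaf (.up 3 1882 2)) (.leaf (.up 3 1019 3))))))) (.node (.node (.node (.node (.node (.leaf (.up 1 43 1)) (.leaf (.up 1 3 0))) (.node (.leaf (.up 4 170 3)) (.leaf (.up 1 6 2)))) (.node (.node (.leaf (.up 3 1827 3)) (.leaf (.up 3 1231 4))) (.node (.leaf (.up 2 1315 3)) (.leaf (.up 3 815 0))))) (.node (.node (.node (.leaf (.up 2 1082 2)) (.leaf (.up 4 1065 4))) (.node (.leaf (.up 2 1576 4)) (.leaf (.up 3 2009 0)))) (.node (.node (.leaf (.up 4 1319 3)) (.leaf (.up 3 1847 3))) (.node (.leaf (.up 3 1758 4)) (.leaf (.up 2 1773 2)))))) (.node (.node (.node (.node (.leaf (.up 3 92 3)) (.leaf (.up 2 1275 0))) (.node (.leaf (.up 2 958 0)) (.leaf (.up 3 76 3)))) (.node (.node (.leaf (.up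 4 1493 3)) (.leaf (.up 3 1989 3))) (.node (.leaf (.up 2 2005 3)) (.leaf (.up 2 1477 3))))) (.node (.node (.node (.leaf (.up 3 600 3)) (.leaf (.up 1 72 3))) (.node (.leaf (.up 3 88 3)) (.leaf (.up 5 782 4)))) (.node (.node (.leaf (.up 3 2001 3)) (.leaf (.up 5 504 4))) (.node (.leaf (.up 4 1017 4)) (.leaf (.up 2 1985 3)))))))) (.node (.node (.node (.node (.node (.node (.leaf (.up 1 9 1)) (.leaf (.up 1 1 1))) (.node (.leaf (.up 4 656 3)) (.leaf (.up 4 128 3)))) (.node (.node (.leaf (.up 3 1134 4)) (.leaf (.up 3 616 0))) (.node (.leaf (.up 3 1817 3)) (.leaf (.up 3 707 0))))) (.node (.node (.node (.leaf (.up 4 660 3)) (.leaf (.up 3 1694 0))) (.node (.leaf (.up 3 1405 2)) (.leaf (.up 2 1589 0)))) (.node (.node (.leaf (.up 1 68 2)) (.leaf (.up 5 1293 3))) (.node (.leaf (.up 4 1309 3)) (.leaf (.up 5 1805 3)))))) (.node (.node (.node (.node (.leaf (.up 2 1770 1)) (.leaf (.up 3 1412 2))) (.node (.leaf (.up 1 102 3)) (.leaf (.up 2 958 4))))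 (.node (.node (.leaf (.up 1 329 4)) (.leaf (.up 3 1535 3))) (.node (.leaf (.up 2 841 4)) (.leaf (.up 4 2047 3))))) (.node (.node (.node (.leaf (.up 1 98 3)) (.leaf (.up 4 626 3))) (.node (.leaf (.up 2 1315 0)) (.leaf (.up 2 125 1)))) (.node (.node (.leaf (.up 4 345 4)) (.leaf (.up 2 2043 3))) (.node (.leaf (.up 2 1066 2)) (.leaf (.up 1 330 0))))))) (.node (.node (.node (.node (.node (.leaf (.up 4 1194 3)) (.leaf (.up 1 33 1))) (.node (.leaf (.up 2 1720 4)) (.leaf (.up 4 1210 3)))) (.node (.node (.leaf (.up 2 291 3)) (.leaf (.up 3 819 3))) (.node (.leaf (.up 4 1614 4)) (.leaf (.up 2 307 3))))) (.node (.node (.node (.leaf (.up 4 1192 4)) (.leaf (.up 3 1193 4))) (.node (.leaf (.up 3 2017 2)) (.leaf (.up 1 15 2)))) (.node (.node (.leaf (.up 3 728 2)) (.leaf (.up 3 1119 4))) (.node (.leaf (.up 1 192 0)) (.leaf (.up 4 1437 2)))))) (.node (.node (.node (.node (.leaf (.up 2 101 0)) (.leaf (.up 2 414 4))) (.node (.leaf (.up 3 206 0)) (.leaf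 (.up 5 926 4)))) (.node (.node (.leaf (.up 3 981 3)) (.leaf (.up 3 360 4))) (.node (.leaf (.up 2 841 0)) (.leaf (.up 5 965 3))))) (.node (.node (.node (.leaf (.up 4 1112 3)) (.leaf (.up 4 1608 3))) (.node (.leaf (.up 3 1624 3)) (.leaf (.up 3 81 0)))) (.node (.node (.leaf (.up 4 1505 1)) (.leaf (.up 4 499 2))) (.node (.leaf (.up 3 889 4)) (.leaf (.up 2 449 3))))))))

noncomputable def vt5_6_011 : Tr VStep := .node vt5_6_0110 vt5_6_0111

noncomputable def vt5_6_01 : Tr VStep := .node vt5_6_010 vt5_6_011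

noncomputable def vt5_6_0 : Tr VStep := .node vt5_6_00 vt5_6_01

noncomputable def vt5_6_1000 : Tr VStep :=
  .node (.node (.node (.node (.node (.node (.node (.leaf (.root 1374)) (.leaf (.up 5 1162 4))) (.node (.leaf (.up 4 1675 4)) (.leaf (.up 4 1558 1)))) (.node (.node (.leaf (.up 2 938 1)) (.leaf (.up 5 1308 3))) (.node (.leaf (.up 4 112 2)) (.leaf (.up 4 1660 4))))) (.node (.node (.node (.leaf (.up 2 1584 2)) (.leaf (.up 4 1178 4))) (.node (.leaf (.up 3 1691 2)) (.leaf (.up 2 1690 4)))) (.node (.node (.leaf (.up 4 1288 3)) (.leaf (.up 2 1132 4))) (.node (.leaf (.up 5 1800 3)) (.leaf (.up 4 1304 3)))))) (.node (.node (.node (.node (.leaf (.root 2148)) (.leaf (.up 4 611 3))) (.node (.leaf (.up 3 627 3)) (.leaf (.up 1 99 3)))) (.node (.node (.leaf (.up 2 1054 2)) (.leaf (.up 3 1008 2))) (.node (.leaf (.up 3 1205 2)) (.leaf (.up 2 859 2))))) (.node (.node (.node (.leaf (.up 4 631 3)) (.leaf (.up 1 103 3))) (.node (.leaf (.up 2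 119 3)) (.leaf (.up 2 957 4)))) (.node (.node (.leaf (.up 1 330 4)) (.leaf (.up 4 137 2))) (.node (.leaf (.up 5 842 4)) (.leaf (.up 1 34 2))))))) (.node (.node (.node (.node (.node (.leaf (.root 769)) (.leaf (.up 3 59 2))) (.node (.leaf (.up 4 1707 4)) (.leaf (.up 3 1711 3)))) (.node (.node (.leaf (.up 5 822 3)) (.leaf (.up 5 1116 4))) (.node (.leaf (.up 4 1629 4)) (.leaf (.up 4 1628 4))))) (.node (.node (.node (.leaf (.up 1 10 0)) (.leaf (.up 2 2020 0))) (.node (.leaf (.up 2 161 0)) (.leaf (.up 2 1195 3)))) (.node (.node (.leaf (.up 3 1101 4)) (.leaf (.up 3 802 3))) (.node (.leaf (.up 4 405 2)) (.leaf (.up 4 1309 1)))))) (.node (.node (.node (.node (.leaf (.up 2 396 4)) (.leaf (.up 5 1625 3))) (.node (.leaf (.up 2 955 2)) (.leaf (.up 3 1113 3)))) (.node (.node (.leaf (.up 1 4 0)) (.leaf (.up 3 976 3))) (.node (.leaf (.up 4 1897 1)) (.leaf (.up 1 455 2))))) (.node (.node (.node (.leaf (.up 5 1613 3)) (.leaf (.up 4 413 4))) (.node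 (.leaf (.up 1 194 2)) (.leaf (.up 2 951 0)))) (.node (.node (.leaf (.up 3 964 3)) (.leaf (.up 3 155 0))) (.node (.leaf (.up 2 2014 0)) (.leaf (.up 2 875 4)))))))) (.node (.node (.node (.node (.node (.node (.leaf (.up 2 1035 4)) (.leaf (.up 2 1034 4))) (.node (.leaf (.up 2 1596 0)) (.leaf (.up 4 1173 3)))) (.node (.node (.leaf (.up 3 268 3)) (.leaf (.up 4 796 3))) (.node (.leaf (.up 5 780 3)) (.leaf (.up 2 284 3))))) (.node (.node (.node (.leaf (.up 2 1051 4)) (.leaf (.up 2 1050 4))) (.node (.leaf (.up 4 1563 4)) (.leaf (.up 3 1699 0)))) (.node (.node (.leaf (.up 1 210 2)) (.leaf (.up 3 280 3))) (.node (.leaf (.up 2 1773 4)) (.leaf (.up 2 1772 4)))))) (.node (.node (.node (.node (.leaf (.up 2 764 2)) (.leaf (.up 3 1298 2))) (.node (.leaf (.up 3 1139 3)) (.leaf (.up 4 813 4)))) (.node (.node (.leaf (.up 3 474 4)) (.leaf (.up 4 128 2))) (.node (.leaf (.up 1 323 0)) (.leaf (.up 1 43 2))))) (.node (.node (.node (.leaf (.root 1936)) (.leaf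 (.up 4 1640 1))) (.node (.leaf (.up 2 1655 3)) (.leaf (.up 4 1728 2)))) (.node (.node (.leaf (.up 5 510 3)) (.leaf (.up 4 1017 2))) (.node (.leaf (.up 3 970 4)) (.leaf (.up 2 850 2))))))) (.node (.node (.node (.node (.node (.leaf (.up 2 1084 1)) (.leaf (.up 2 1066 4))) (.node (.leaf (.up 2 1038 2)) (.leaf (.up 4 175 3)))) (.node (.node (.leaf (.up 3 1245 4)) (.leaf (.up 1 98 0))) (.node (.leaf (.up 4 1757 4)) (.leaf (.up 3 1756 4))))) (.node (.node (.node (.leaf (.up 2 1083 4)) (.leaf (.up 2 1082 4))) (.node (.leaf (.up 4 1595 4)) (.leaf (.up 2 1087 0)))) (.node (.node (.leaf (.up 3 1842 3)) (.leaf (.up 3 1228 4))) (.node (.leaf (.up 3 741 2)) (.leaf (.up 3 1740 4)))))) (.node (.node (.node (.node (.leaf (.up 1 96 2)) (.leaf (.up 3 89 3))) (.node (.leaf (.up 3 203 2)) (.leaf (.up 5 601 3)))) (.node (.node (.leaf (.up 3 506 4)) (.leaf (.up 4 1379 1))) (.node (.leaf (.up 2 1369 2)) (.leaf (.up 3 1019 4))))) (.node (.node (.node (.leaf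 (.up 2 284 4)) (.leaf (.up 2 108 0))) (.node (.leaf (.up 2 1833 0)) (.leaf (.up 3 93 3)))) (.node (.node (.leaf (.up 4 1476 3)) (.leaf (.up 3 2004 3))) (.node (.leaf (.up 3 1002 4)) (.leaf (.up 2 832 0))))))))

noncomputable def vt5_6_1001 : Tr VStep :=
  .node (.node (.node (.node (.node (.node (.node (.leaf (.root 1128)) (.leaf (.up 3 663 3))) (.node (.leaf (.up 4 1679 4)) (.leaf (.up 3 339 0)))) (.node (.node (.leaf (.up 4 1294 3)) (.leaf (.up 3 639 0))) (.node (.leaf (.up 4 1657 4)) (.leaf (.up 3 724 0))))) (.node (.node (.node (.leaf (.up 3 1183 4)) (.leaf (.up 3 147 3))) (.node (.leaf (.up 2 131 3)) (.leaf (.up 3 1694 4)))) (.node (.node (.leaf (.up 3 736 0)) (.leaf (.up 4 1128 4))) (.node (.leaf (.up 3 587 0)) (.leaf (.up 4 1640 4)))))) (.node (.node (.node (.node (.leaf (.up 4 625 3)) (.leaf (.up 3 1781 1))) (.node (.leaf (.up 2 113 3)) (.leaf (.up 3 609 3)))) (.node (.node (.leaf (.root 2000)) (.leaf (.up 1 1 2))) (.node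 (.leaf (.up 1 450 0)) (.leaf (.up 4 170 2))))) (.node (.node (.node (.leaf (.up 4 117 3)) (.leaf (.up 2 1770 2))) (.node (.leaf (.up 1 98 1)) (.leaf (.up 2 101 3)))) (.node (.node (.leaf (.up 5 1532 3)) (.leaf (.up 3 2028 3))) (.node (.leaf (.up 3 2044 3)) (.leaf (.up 2 2014 1))))))) (.node (.node (.node (.node (.node (.leaf (.up 3 1213 3)) (.leaf (.up 3 1709 3))) (.node (.leaf (.up 2 1167 2)) (.leaf (.up 3 975 0)))) (.node (.node (.leaf (.up 3 1113 4)) (.leaf (.up 3 1624 2))) (.node (.leaf (.up 4 285 2)) (.leaf (.up 1 72 0))))) (.node (.node (.node (.leaf (.up 3 1185 1)) (.leaf (.up 2 179 2))) (.node (.leaf (.up 2 1727 4)) (.leaf (.up 2 1726 4)))) (.node (.node (.leaf (.up 3 816 3)) (.leaf (.up 4 288 3))) (.node (.leaf (.up 4 1609 4)) (.leaf (.up 4 1608 4)))))) (.node (.node (.node (.node (.leaf (.up 4 1611 3)) (.leaf (.up 4 393 4))) (.node (.leaf (.up 3 74 2)) (.leaf (.up 3 1847 0)))) (.node (.node (.leaf (.up 3 1013 0)) (.leaf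 (.up 2 353 1))) (.node (.leaf (.up 1 450 3)) (.leaf (.up 3 1200 0))))) (.node (.node (.node (.leaf (.up 2 408 4)) (.leaf (.up 5 1631 3))) (.node (.leaf (.up 1 66 1)) (.leaf (.up 1 70 0)))) (.node (.node (.leaf (.up 5 366 4)) (.leaf (.up 4 367 4))) (.node (.leaf (.up 3 878 4)) (.leaf (.up 2 879 4)))))))) (.node (.node (.node (.node (.node (.node (.leaf (.up 3 1671 3)) (.leaf (.up 2 1038 4))) (.node (.leaf (.up 2 1485 0)) (.leaf (.up 3 547 0)))) (.node (.node (.leaf (.up 3 1761 0)) (.leaf (.up 4 286 3))) (.node (.leaf (.up 2 1785 4)) (.leaf (.up 2 1784 4))))) (.node (.node (.node (.leaf (.up 3 1713 2)) (.leaf (.up 2 1054 4))) (.node (.leaf (.up 3 700 0)) (.leaf (.up 4 1171 3)))) (.node (.node (.leaf (.up 5 266 3)) (.leaf (.up 2 1256 4))) (.node (.leaf (.up 2 1769 4)) (.leaf (.up 2 1768 4)))))) (.node (.node (.node (.node (.leaf (.up 2 414 0)) (.leaf (.up 2 1763 2))) (.node (.leaf (.up 4 808 4)) (.leaf (.up 4 1608 2)))) (.node (.node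 (.leaf (.up 3 1183 2)) (.leaf (.up 1 323 1))) (.node (.leaf (.up 2 1076 2)) (.leaf (.up 3 986 2))))) (.node (.node (.node (.leaf (.up 4 628 2)) (.leaf (.up 3 616 1))) (.node (.leaf (.up 1 96 1)) (.leaf (.up 2 1329 2)))) (.node (.node (.leaf (.up 4 1020 3)) (.leaf (.up 4 8 2))) (.node (.leaf (.up 3 1869 2)) (.leaf (.up 2 163 2))))))) (.node (.node (.node (.node (.node (.leaf (.up 3 701 3)) (.leaf (.up 2 1070 4))) (.node (.leaf (.up 2 1873 0)) (.leaf (.up 2 1582 4)))) (.node (.node (.leaf (.up 3 1844 3)) (.leaf (.up 4 1320 2))) (.node (.leaf (.up 3 1753 4)) (.leaf (.up 3 1752 4))))) (.node (.node (.node (.leaf (.up 2 1087 4)) (.leaf (.up 2 1086 4))) (.node (.leaf (.up 3 1699 1)) (.leaf (.up 4 169 3)))) (.node (.node (.leaf (.up 3 1225 4)) (.leaf (.up 4 1224 4))) (.node (.leaf (.up 3 1737 4)) (.leaf (.up 4 287 1)))))) (.node (.node (.node (.node (.leaf (.up 1 75 3)) (.leaf (.up 4 603 3))) (.node (.leaf (.up 3 776 4)) (.leaf (.up 3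 91 3)))) (.node (.node (.leaf (.up 4 1539 2)) (.leaf (.up 2 1899 0))) (.node (.leaf (.up 2 875 1)) (.leaf (.up 4 1023 4))))) (.node (.node (.node (.leaf (.up 1 232 2)) (.leaf (.up 4 281 4))) (.node (.leaf (.up 1 64 1)) (.leaf (.up 1 72 1)))) (.node (.node (.leaf (.up 3 2036 0)) (.leaf (.up 4 660 2))) (.node (.leaf (.up 3 2036 1)) (.leaf (.up 3 1007 4))))))))

noncomputable def vt5_6_100 : Tr VStep := .node vt5_6_1000 vt5_6_1001

noncomputable def vt5_6_1010 : Tr VStep :=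
  .node (.node (.node (.node (.node (.node (.node (.leaf (.up 4 1594 2)) (.leaf (.up 3 533 3))) (.node (.leaf (.up 2 1581 0)) (.leaf (.up 3 1666 4)))) (.node (.node (.leaf (.up 2 1420 3)) (.leaf (.up 4 1094 2))) (.node (.leaf (.up 5 1932 3)) (.leaf (.up 2 1652 4))))) (.node (.node (.node (.leaf (.up 4 1171 4)) (.leaf (.up 2 1170 4))) (.node (.leaf (.up 1 1 3)) (.leaf (.up 3 529 3)))) (.node (.node (.leaf (.up 1 209 2)) (.leaf (.up 2 1432 3))) (.node (.leaf (.up 3 731 0)) (.leaf (.up 2 1636 4)))))) (.node (.node (.node (.node (.leaf (.root 1406)) (.leaf (.up 5 421 4))) (.node (.leaf (.up 3 243 3)) (.leaf (.up 3 739 3)))) (.node (.node (.leaf (.root 1276)) (.leaf (.up 2 131 2))) (.node (.leaf (.up 2 850 4)) (.leaf (.up 4 851 4))))) (.node (.node (.node (.leaf (.up 5 436 4)) (.leaf (.up 2 737 0))) (.node (.leaf (.up 2 948 4)) (.leaf (.up 3 231 3)))) (.node (.node (.leaf (.up 2 1044 2)) (.leaf (.up 1 323 4))) (.node (.leaf (.up 4 834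 4)) (.leaf (.up 2 849 2))))))) (.node (.node (.node (.node (.node (.leaf (.up 2 1087 1)) (.leaf (.up 4 1583 3))) (.node (.leaf (.up 3 1699 4)) (.leaf (.up 3 995 2)))) (.node (.node (.leaf (.up 3 1109 4)) (.leaf (.up 2 934 3))) (.node (.leaf (.up 4 415 2)) (.leaf (.up 4 1620 4))))) (.node (.node (.node (.leaf (.up 2 875 0)) (.leaf (.up 3 49 2))) (.node (.leaf (.up 2 1083 3)) (.leaf (.up 2 1070 0)))) (.node (.node (.leaf (.up 4 946 3)) (.leaf (.up 3 1092 4))) (.node (.leaf (.up 4 1605 4)) (.leaf (.up 4 1288 2)))))) (.node (.node (.node (.node (.leaf (.up 1 99 2)) (.leaf (.up 2 389 4))) (.node (.leaf (.up 3 1225 3)) (.leaf (.up 3 1753 3)))) (.node (.node (.leaf (.up 2 832 3)) (.leaf (.up 2 371 4))) (.node (.leaf (.up 1 320 3)) (.leaf (.up 4 692 2))))) (.node (.node (.node (.leaf (.up 2 404 4)) (.leaf (.up 2 125 0))) (.node (.leaf (.up 2 1848 0)) (.leaf (.up 3 1245 3)))) (.node (.node (.leaf (.up 2 354 4)) (.leaf (.up 3 1018 0))) (.node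 (.leaf (.up 4 1571 2)) (.leaf (.up 2 849 0)))))))) (.node (.node (.node (.node (.node (.node (.leaf (.up 4 1541 3)) (.leaf (.up 3 676 2))) (.node (.leaf (.up 2 1373 0)) (.leaf (.up 4 1538 4)))) (.node (.node (.leaf (.up 4 908 3)) (.leaf (.up 4 1268 4))) (.node (.leaf (.up 2 396 3)) (.leaf (.up 3 924 3))))) (.node (.node (.node (.leaf (.up 4 1587 2)) (.leaf (.up 3 138 1))) (.node (.leaf (.up 5 1537 3)) (.leaf (.up 2 1554 4)))) (.node (.node (.leaf (.up 3 1253 4)) (.leaf (.up 2 1252 4))) (.node (.leaf (.up 4 1765 4)) (.leaf (.up 2 408 3)))))) (.node (.node (.node (.node (.leaf (.up 3 292 4)) (.leaf (.up 2 1763 3))) (.node (.leaf (.up 3 1779 3)) (.leaf (.up 4 246 1)))) (.node (.node (.leaf (.up 3 378 3)) (.leaf (.up 4 874 3))) (.node (.leaf (.up 5 978 4)) (.leaf (.up 3 856 2))))) (.node (.node (.node (.leaf (.up 4 1783 3)) (.leaf (.up 2 401 0))) (.node (.leaf (.up 4 1271 3)) (.leaf (.up 3 1767 3)))) (.node (.node (.leaf (.up 1 450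 4)) (.leaf (.up 3 138 2))) (.node (.leaf (.up 2 1999 2)) (.leaf (.up 1 33 2))))))) (.node (.node (.node (.node (.node (.leaf (.up 4 575 3)) (.leaf (.up 1 47 3))) (.node (.leaf (.up 2 1985 0)) (.leaf (.up 1 47 0)))) (.node (.node (.leaf (.up 3 1237 4)) (.leaf (.up 5 1236 4))) (.node (.leaf (.up 4 393 1)) (.leaf (.up 4 1748 4))))) (.node (.node (.node (.leaf (.up 3 59 3)) (.leaf (.up 2 2037 0))) (.node (.leaf (.up 2 176 0)) (.leaf (.up 1 43 3)))) (.node (.node (.leaf (.up 3 1221 4)) (.leaf (.up 3 1220 4))) (.node (.leaf (.up 4 1733 4)) (.leaf (.up 4 1310 1)))))) (.node (.node (.node (.node (.leaf (.up 3 734 1)) (.leaf (.up 2 729 3))) (.node (.leaf (.up 2 713 3)) (.leaf (.up 5 217 3)))) (.node (.node (.leaf (.up 3 1344 3)) (.leaf (.up 2 2043 0))) (.node (.leaf (.up 5 1010 4)) (.leaf (.up 4 1360 3))))) (.node (.node (.node (.leaf (.up 2 717 3)) (.leaf (.up 4 221 3))) (.node (.leaf (.up 5 205 3)) (.leaf (.up 2 934 0)))) (.node (.node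 (.leaf (.up 3 1860 3)) (.leaf (.up 3 138 0))) (.node (.leaf (.up 2 1999 0)) (.leaf (.up 1 33 0))))))))

noncomputable def vt5_6_1011 : Tr VStep :=
  .node (.node (.node (.node (.node (.node (.node (.leaf (.up 4 1159 4)) (.leaf (.up 4 549 2))) (.node (.leaf (.up 3 1671 4)) (.leaf (.up 3 562 0)))) (.node (.node (.leaf (.up 3 1776 0)) (.leaf (.up 4 1136 4))) (.node (.leaf (.up 5 1422 3)) (.leaf (.up 4 1648 4))))) (.node (.node (.node (.leaf (.up 1 3 3)) (.leaf (.up 3 531 3))) (.node (.leaf (.up 4 1664 1)) (.leaf (.up 3 1686 4)))) (.node (.node (.leaf (.up 5 1418 3)) (.leaf (.up 2 1120 4))) (.node (.leaf (.up 4 1633 4)) (.leaf (.up 2 1632 4)))))) (.node (.node (.node (.node (.leaf (.up 3 241 3)) (.leaf (.up 2 737 3))) (.node (.leaf (.up 3 753 3)) (.leaf (.up 4 1611 2)))) (.node (.node (.leaf (.up 3 342 4)) (.leaf (.up 1 320 1))) (.node (.leaf (.up 5 1912 3)) (.leaf (.up 2 832 1))))) (.node (.node (.node (.leaf (.up 4 631 2)) (.leaf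 (.up 3 229 3))) (.node (.leaf (.up 1 99 1)) (.leaf (.up 3 741 3)))) (.node (.node (.leaf (.up 3 2021 2)) (.leaf (.up 1 11 2))) (.node (.leaf (.up 5 838 4)) (.leaf (.up 4 160 2))))))) (.node (.node (.node (.node (.node (.leaf (.up 4 1597 3)) (.leaf (.up 3 185 2))) (.node (.leaf (.up 3 2044 2)) (.leaf (.up 1 18 2)))) (.node (.node (.leaf (.up 2 948 3)) (.leaf (.up 2 420 3))) (.node (.leaf (.up 3 622 2)) (.leaf (.up 3 1408 2))))) (.node (.node (.node (.leaf (.up 2 1070 2)) (.leaf (.up 4 1577 3))) (.node (.leaf (.up 3 1696 1)) (.leaf (.up 2 875 2)))) (.node (.node (.leaf (.up 5 1089 4)) (.leaf (.up 4 1088 4))) (.node (.leaf (.up 2 1601 4)) (.leaf (.up 2 1785 2)))))) (.node (.node (.node (.node (.leaf (.up 3 914 2)) (.leaf (.up 4 1755 3))) (.node (.leaf (.up 3 896 4)) (.leaf (.up 5 1243 3)))) (.node (.node (.leaf (.up 3 322 3)) (.leaf (.up 2 850 3))) (.node (.leaf (.up 4 834 3)) (.leaf (.up 1 325 2))))) (.node (.node (.node (.leaf (.up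 4 1743 3)) (.leaf (.up 2 401 4))) (.node (.leaf (.up 1 64 2)) (.leaf (.up 1 75 1)))) (.node (.node (.leaf (.up 3 2021 0)) (.leaf (.up 1 11 0))) (.node (.leaf (.up 5 326 3)) (.leaf (.up 4 2047 1)))))))) (.node (.node (.node (.node (.node (.node (.leaf (.up 4 1031 3)) (.leaf (.up 4 1030 4))) (.node (.leaf (.up 2 1708 0)) (.leaf (.up 3 322 0)))) (.node (.node (.leaf (.up 3 1265 4)) (.leaf (.up 3 622 0))) (.node (.leaf (.up 4 1777 4)) (.leaf (.up 2 414 3))))) (.node (.node (.node (.leaf (.up 4 1539 3)) (.leaf (.up 5 1043 3))) (.node (.leaf (.up 3 1385 2)) (.leaf (.up 4 1558 4)))) (.node (.node (.leaf (.up 3 753 0)) (.leaf (.up 3 1248 4))) (.node (.leaf (.up 3 1761 4)) (.leaf (.up 2 1760 4)))))) (.node (.node (.node (.node (.leaf (.up 2 767 0)) (.leaf (.up 5 1249 3))) (.node (.leaf (.up 3 1265 3)) (.leaf (.up 3 1761 3)))) (.node (.node (.leaf (.up 1 330 1)) (.leaf (.up 1 2 2))) (.node (.leaf (.up 5 376 3)) (.leaf (.up 4 169 2))))) (.node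 (.node (.node (.leaf (.up 3 263 2)) (.leaf (.up 2 1769 2))) (.node (.leaf (.up 2 428 2)) (.leaf (.up 3 1253 3)))) (.node (.node (.leaf (.up 4 1173 2)) (.leaf (.up 1 455 4))) (.node (.leaf (.up 2 1086 2)) (.leaf (.up 1 332 0))))))) (.node (.node (.node (.node (.node (.leaf (.root 783)) (.leaf (.up 4 1062 4))) (.node (.leaf (.up 2 1575 4)) (.leaf (.up 3 990 0)))) (.node (.node (.leaf (.up 4 437 2)) (.leaf (.up 5 1956 3))) (.node (.leaf (.up 4 286 2)) (.leaf (.up 2 1444 3))))) (.node (.node (.node (.leaf (.up 3 569 3)) (.leaf (.up 2 176 2))) (.node (.leaf (.up 2 2037 2)) (.leaf (.up 3 1590 4)))) (.node (.node (.leaf (.up 2 716 2)) (.leaf (.up 3 1216 4))) (.node (.leaf (.up 1 198 0)) (.leaf (.up 4 1728 4)))))) (.node (.node (.node (.node (.leaf (.up 1 99 0)) (.leaf (.up 3 257 4))) (.node (.leaf (.up 3 203 3)) (.leaf (.up 3 731 3)))) (.node (.node (.leaf (.up 4 1858 3)) (.leaf (.up 2 354 1))) (.node (.leaf (.up 4 1014 4)) (.leaf (.up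 3 1185 0))))) (.node (.node (.node (.leaf (.up 4 207 3)) (.leaf (.up 3 735 3))) (.node (.leaf (.up 1 65 1)) (.leaf (.up 5 223 3)))) (.node (.node (.leaf (.up 4 1525 1)) (.leaf (.up 3 891 0))) (.node (.leaf (.up 2 2037 1)) (.leaf (.up 1 332 2))))))))

noncomputable def vt5_6_101 : Tr VStep := .node vt5_6_1010 vt5_6_1011

noncomputable def vt5_6_10 : Tr VStep := .node vt5_6_100 vt5_6_101

noncomputable def vt5_6_1100 : Tr VStep :=
  .node (.node (.node (.node (.node (.node (.node (.leaf (.root 2050)) (.leaf (.up 4 669 3))) (.node (.leaf (.up 3 532 4)) (.leaf (.up 3 533 4)))) (.node (.node (.leaf (.up 3 226 4)) (.leaf (.up 4 1088 2))) (.node (.leaf (.up 4 738 4)) (.leaf (.up 3 739 4))))) (.node (.node (.node (.leaf (.up 1 4 4)) (.leaf (.up 4 683 2))) (.node (.leaf (.up 4 137 3)) (.leaf (.up 3 517 4)))) (.node (.node (.leaf (.up 4 1792 3)) (.leaf (.up 3 243 4))) (.node (.leaf (.up 3 1280 3)) (.leaf (.up 2 755 4)))))) (.node (.node (.node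 (.node (.leaf (.up 2 761 2)) (.leaf (.up 3 741 1))) (.node (.leaf (.up 3 123 3)) (.leaf (.up 2 1468 2)))) (.node (.node (.leaf (.root 1250)) (.leaf (.up 4 1476 4))) (.node (.leaf (.up 3 1989 4)) (.leaf (.up 2 46 2))))) (.node (.node (.node (.leaf (.up 2 1315 4)) (.leaf (.up 4 623 3))) (.node (.leaf (.up 2 299 2)) (.leaf (.up 2 111 3)))) (.node (.node (.leaf (.up 4 1493 4)) (.leaf (.up 4 1020 2))) (.node (.leaf (.up 2 2005 4)) (.leaf (.up 3 2004 4))))))) (.node (.node (.node (.node (.node (.leaf (.up 2 1070 1)) (.leaf (.up 4 1703 3))) (.node (.leaf (.up 2 1035 2)) (.leaf (.up 3 565 4)))) (.node (.node (.leaf (.up 1 194 4)) (.leaf (.up 1 103 0))) (.node (.leaf (.up 4 706 4)) (.leaf (.up 2 1655 2))))) (.node (.node (.node (.leaf (.up 1 36 4)) (.leaf (.up 3 37 4))) (.node (.leaf (.up 4 1203 3)) (.leaf (.up 2 1082 0)))) (.node (.node (.leaf (.up 1 210 4)) (.leaf (.up 4 1445 2))) (.node (.leaf (.up 3 736 2)) (.leaf (.up 4 1294 2))))))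 (.node (.node (.node (.node (.leaf (.root 1712)) (.leaf (.up 3 1298 4))) (.node (.leaf (.up 3 206 2)) (.leaf (.up 5 1617 3)))) (.node (.node (.leaf (.up 3 881 0)) (.leaf (.up 3 1183 0))) (.node (.leaf (.up 3 2021 4)) (.leaf (.up 2 2020 4))))) (.node (.node (.node (.leaf (.up 4 796 2)) (.leaf (.up 5 1621 3))) (.node (.leaf (.up 2 951 2)) (.leaf (.up 1 194 0)))) (.node (.node (.leaf (.up 4 1525 4)) (.leaf (.up 4 988 3))) (.node (.leaf (.up 2 2037 4)) (.leaf (.up 3 2036 4)))))))) (.node (.node (.node (.node (.node (.node (.leaf (.up 4 1677 3)) (.leaf (.up 4 674 2))) (.node (.leaf (.up 2 1353 0)) (.leaf (.up 5 1693 3)))) (.node (.node (.leaf (.up 1 98 4)) (.leaf (.up 1 99 4))) (.node (.leaf (.up 4 117 2)) (.leaf (.up 4 611 4))))) (.node (.node (.node (.leaf (.up 2 1589 2)) (.leaf (.up 3 155 1))) (.node (.leaf (.up 3 1694 2)) (.leaf (.up 2 645 4)))) (.node (.node (.leaf (.up 3 256 3)) (.leaf (.up 2 115 4))) (.node (.leaf (.up 4 626 4))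 (.leaf (.up 3 627 4)))))) (.node (.node (.node (.node (.leaf (.up 2 282 0)) (.leaf (.up 4 1643 3))) (.node (.leaf (.up 4 1659 3)) (.leaf (.up 3 1740 2)))) (.node (.node (.leaf (.up 2 1051 2)) (.leaf (.up 3 1013 2))) (.node (.leaf (.up 3 1200 2)) (.leaf (.up 3 1860 4))))) (.node (.node (.node (.leaf (.up 4 752 2)) (.leaf (.up 2 389 0))) (.node (.leaf (.up 4 1136 1)) (.leaf (.up 4 1647 3)))) (.node (.node (.leaf (.up 4 1014 3)) (.leaf (.up 5 1364 4))) (.node (.leaf (.up 3 1993 2)) (.leaf (.up 3 1876 4))))))) (.node (.node (.node (.node (.node (.leaf (.up 4 695 3)) (.leaf (.up 3 167 3))) (.node (.leaf (.up 2 2005 0)) (.leaf (.up 3 693 4)))) (.node (.node (.leaf (.up 1 66 4)) (.leaf (.up 2 1452 2))) (.node (.leaf (.up 2 745 2)) (.leaf (.up 4 579 4))))) (.node (.node (.node (.leaf (.up 1 15 0)) (.leaf (.up 3 165 4))) (.node (.leaf (.up 3 676 4)) (.leaf (.up 2 163 3)))) (.node (.node (.leaf (.up 2 315 2)) (.leaf (.up 2 1834 3))) (.node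 (.leaf (.up 5 594 4)) (.leaf (.up 4 1322 3)))))) (.node (.node (.node (.node (.leaf (.up 1 65 3)) (.leaf (.up 2 1275 2))) (.node (.leaf (.up 2 958 2)) (.leaf (.up 3 81 3)))) (.node (.node (.leaf (.up 1 1 0)) (.leaf (.up 2 2031 0))) (.node (.leaf (.up 4 1915 1)) (.leaf (.up 1 450 2))))) (.node (.node (.node (.leaf (.up 2 108 2)) (.leaf (.up 3 1410 4))) (.node (.leaf (.up 1 69 3)) (.leaf (.up 2 1833 2)))) (.node (.node (.leaf (.up 3 1397 4)) (.leaf (.up 5 1500 3))) (.node (.leaf (.up 5 1909 4)) (.leaf (.up 3 2012 3))))))))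

noncomputable def vt5_6_1101 : Tr VStep :=
  .node (.node (.node (.node (.node (.node (.node (.leaf (.root 1100)) (.leaf (.up 1 6 1))) (.node (.leaf (.up 3 143 3)) (.leaf (.up 3 529 4)))) (.node (.node (.leaf (.up 4 230 4)) (.leaf (.up 3 231 4))) (.node (.leaf (.up 3 1286 3)) (.leaf (.up 4 743 4))))) (.node (.node (.node (.leaf (.up 1 0 4)) (.leaf (.up 1 1 4))) (.node (.leaf (.up 4 1681 1)) (.leaf (.up 3 155 3)))) (.node (.node (.leaf (.up 4 246 4)) (.leaf (.up 4 1224 2))) (.node (.leaf (.up 3 1794 3)) (.leaf (.up 3 1298 3)))))) (.node (.node (.node (.node (.leaf (.root 2174)) (.leaf (.up 4 617 3))) (.node (.leaf (.up 2 419 2)) (.leaf (.up 3 1253 1)))) (.node (.node (.leaf (.up 4 1178 2)) (.leaf (.up 3 2016 3))) (.node (.leaf (.up 2 1985 4)) (.leaf (.up 2 849 1))))) (.node (.node (.node (.leaf (.up 2 1770 0)) (.leaf (.up 4 109 3))) (.node (.leaf (.up 2 125 3)) (.leaf (.up 3 1830 4)))) (.node (.node (.leaf (.up 3 2036 3)) (.leaf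 (.up 5 1508 3))) (.node (.leaf (.up 3 2001 4)) (.leaf (.up 2 2020 3))))))) (.node (.node (.node (.node (.node (.leaf (.root 1022)) (.leaf (.up 3 49 4))) (.node (.leaf (.up 3 1205 3)) (.leaf (.up 2 20 2)))) (.node (.node (.leaf (.up 1 198 4)) (.leaf (.up 3 199 4))) (.node (.leaf (.up 2 316 3)) (.leaf (.up 3 1414 2))))) (.node (.node (.node (.leaf (.up 3 32 4)) (.leaf (.up 1 33 4))) (.node (.leaf (.up 3 1713 1)) (.leaf (.up 3 1185 3)))) (.node (.node (.leaf (.up 5 214 4)) (.leaf (.up 4 808 3))) (.node (.leaf (.up 2 726 4)) (.leaf (.up 4 269 1)))))) (.node (.node (.node (.node (.leaf (.up 4 1091 3)) (.leaf (.up 4 1619 3))) (.node (.leaf (.up 3 1815 4)) (.leaf (.up 3 1090 0)))) (.node (.node (.leaf (.up 4 1505 4)) (.leaf (.up 3 986 3))) (.node (.leaf (.up 1 43 0)) (.leaf (.up 1 323 2))))) (.node (.node (.node (.leaf (.up 5 1607 3)) (.leaf (.up 3 1286 4))) (.node (.leaf (.up 1 70 2)) (.leaf (.up 3 819 0)))) (.node (.node (.leaf (.up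 3 2033 0)) (.leaf (.up 5 478 3))) (.node (.leaf (.up 3 2033 4)) (.leaf (.up 3 990 3)))))))) (.node (.node (.node (.node (.node (.node (.leaf (.up 2 1167 3)) (.leaf (.up 1 4 1))) (.node (.leaf (.up 2 1720 0)) (.leaf (.up 3 1183 3)))) (.node (.node (.leaf (.up 1 102 4)) (.leaf (.up 1 103 4))) (.node (.leaf (.up 3 774 3)) (.leaf (.up 3 278 3))))) (.node (.node (.node (.leaf (.up 2 354 0)) (.leaf (.up 3 1676 0))) (.node (.leaf (.up 2 1163 3)) (.leaf (.up 2 1575 0)))) (.node (.node (.leaf (.up 3 741 0)) (.leaf (.up 2 119 4))) (.node (.leaf (.up 3 258 3)) (.leaf (.up 4 631 4)))))) (.node (.node (.node (.node (.leaf (.up 2 747 0)) (.leaf (.up 3 1430 2))) (.node (.leaf (.up 3 576 0)) (.leaf (.up 4 1641 3)))) (.node (.node (.leaf (.up 3 1008 3)) (.leaf (.up 1 4 2))) (.node (.leaf (.up 1 455 0)) (.leaf (.up 4 175 2))))) (.node (.node (.node (.leaf (.up 3 257 2)) (.leaf (.up 4 632 1))) (.node (.leaf (.up 2 1329 0)) (.leaf (.up 3 735 0))))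 (.node (.node (.leaf (.up 4 1171 2)) (.leaf (.up 4 1360 4))) (.node (.leaf (.up 2 1873 4)) (.leaf (.up 4 1872 4))))))) (.node (.node (.node (.node (.node (.leaf (.up 2 176 4)) (.leaf (.up 1 36 1))) (.node (.leaf (.up 3 693 3)) (.leaf (.up 3 165 3)))) (.node (.node (.leaf (.up 1 70 4)) (.leaf (.up 4 1836 3))) (.node (.leaf (.up 2 582 4)) (.leaf (.up 4 1324 3))))) (.node (.node (.node (.leaf (.up 4 160 4)) (.leaf (.up 2 161 3))) (.node (.leaf (.up 2 672 4)) (.leaf (.up 3 673 3)))) (.node (.node (.leaf (.up 2 1848 3)) (.leaf (.up 4 1320 3))) (.node (.leaf (.up 1 210 0)) (.leaf (.up 3 599 4)))))) (.node (.node (.node (.node (.leaf (.up 2 119 0)) (.leaf (.up 3 1430 4))) (.node (.leaf (.up 3 67 3)) (.leaf (.up 3 1842 0)))) (.node (.node (.leaf (.up 3 1008 0)) (.leaf (.up 2 371 1))) (.node (.leaf (.up 2 859 0)) (.leaf (.up 3 1205 0))))) (.node (.node (.node (.leaf (.up 4 925 2)) (.leaf (.up 1 232 0))) (.node (.leaf (.up 3 1965 0)) (.leaf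 (.up 3 67 0)))) (.node (.node (.leaf (.up 4 1551 2)) (.leaf (.up 2 2014 3))) (.node (.leaf (.up 2 2020 1)) (.leaf (.up 1 330 2))))))))

noncomputable def vt5_6_110 : Tr VStep := .node vt5_6_1100 vt5_6_1101

noncomputable def vt5_6_1110 : Tr VStep :=
  .node (.node (.node (.node (.node (.node (.node (.leaf (.up 4 525 3)) (.leaf (.up 3 673 2))) (.node (.leaf (.up 3 1368 0)) (.leaf (.up 3 541 3)))) (.node (.node (.leaf (.up 2 955 1)) (.leaf (.up 5 1428 3))) (.node (.leaf (.up 3 1412 3)) (.leaf (.up 2 747 4))))) (.node (.node (.node (.leaf (.up 1 9 3)) (.leaf (.up 3 537 3))) (.node (.leaf (.up 3 553 0)) (.leaf (.up 2 371 2)))) (.node (.node (.leaf (.up 3 1408 3)) (.leaf (.up 4 1098 2))) (.node (.leaf (.up 5 1920 3)) (.leaf (.up 3 1600 0)))))) (.node (.node (.node (.node (.leaf (.up 5 1339 4)) (.leaf (.up 2 747 3))) (.node (.leaf (.up 4 763 3)) (.leaf (.up 4 228 1)))) (.node (.node (.leaf (.up 2 1485 4)) (.leaf (.up 4 1014 2))) (.node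 (.leaf (.up 4 1203 2)) (.leaf (.up 4 1378 3))))) (.node (.node (.node (.leaf (.up 2 767 3)) (.leaf (.up 2 404 0))) (.node (.leaf (.up 3 600 2)) (.leaf (.up 2 1834 4)))) (.node (.node (.leaf (.root 1718)) (.leaf (.up 3 143 2))) (.node (.leaf (.up 2 2013 4)) (.leaf (.up 1 36 2))))))) (.node (.node (.node (.node (.node (.leaf (.up 4 1591 3)) (.leaf (.up 1 61 2))) (.node (.leaf (.up 3 1988 0)) (.leaf (.up 1 42 0)))) (.node (.node (.leaf (.up 2 958 3)) (.leaf (.up 3 203 4))) (.node (.leaf (.up 4 411 1)) (.leaf (.up 3 715 4))))) (.node (.node (.node (.leaf (.up 2 176 1)) (.leaf (.up 4 1571 3))) (.node (.leaf (.up 4 1587 3)) (.leaf (.up 3 1007 2)))) (.node (.node (.leaf (.up 3 218 4)) (.leaf (.up 2 938 3))) (.node (.leaf (.up 4 730 4)) (.leaf (.up 3 731 4)))))) (.node (.node (.node (.node (.leaf (.root 2150)) (.leaf (.up 5 1745 3))) (.node (.leaf (.up 2 957 2)) (.leaf (.up 5 1233 3)))) (.node (.node (.leaf (.up 2 1517 4)) (.leaf (.up 3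 856 3))) (.node (.leaf (.up 4 1583 2)) (.leaf (.up 2 449 2))))) (.node (.node (.node (.leaf (.up 2 111 2)) (.leaf (.up 3 1237 3))) (.node (.leaf (.up 3 1221 3)) (.leaf (.up 2 1834 2)))) (.node (.node (.leaf (.up 2 1889 0)) (.leaf (.up 3 143 0))) (.node (.leaf (.up 1 332 3)) (.leaf (.up 1 36 0)))))))) (.node (.node (.node (.node (.node (.node (.leaf (.up 4 156 4)) (.leaf (.up 4 1565 3))) (.node (.leaf (.up 2 1576 0)) (.leaf (.up 3 378 2)))) (.node (.node (.leaf (.up 3 388 3)) (.leaf (.up 4 1091 2))) (.node (.leaf (.up 3 774 2)) (.leaf (.up 2 404 3))))) (.node (.node (.node (.leaf (.up 4 1545 3)) (.leaf (.up 2 141 4))) (.node (.leaf (.up 2 1517 2)) (.leaf (.up 4 1561 3)))) (.node (.node (.leaf (.up 3 896 3)) (.leaf (.up 3 123 4))) (.node (.leaf (.up 3 734 0)) (.leaf (.up 3 912 3)))))) (.node (.node (.node (.node (.leaf (.up 4 1787 3)) (.leaf (.up 3 1466 4))) (.node (.leaf (.up 2 1275 3)) (.leaf (.up 4 1771 3)))) (.node (.node (.leaf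 (.up 2 1357 4)) (.leaf (.up 2 354 3))) (.node (.leaf (.up 3 1869 4)) (.leaf (.up 5 866 3))))) (.node (.node (.node (.leaf (.up 5 1451 4)) (.leaf (.up 4 1775 3))) (.node (.leaf (.up 4 1791 3)) (.leaf (.up 3 1263 3)))) (.node (.node (.leaf (.up 2 1373 4)) (.leaf (.up 4 1023 2))) (.node (.leaf (.up 4 1210 2)) (.leaf (.up 5 358 3))))))) (.node (.node (.node (.node (.node (.leaf (.up 3 188 4)) (.leaf (.up 4 189 4))) (.node (.leaf (.up 2 1032 2)) (.leaf (.up 3 701 4)))) (.node (.node (.leaf (.up 3 74 4)) (.leaf (.up 1 75 4))) (.node (.leaf (.up 5 586 4)) (.leaf (.up 2 1652 2))))) (.node (.node (.node (.leaf (.up 3 563 3)) (.leaf (.up 3 35 3))) (.node (.leaf (.up 3 684 4)) (.leaf (.up 3 547 3)))) (.node (.node (.leaf (.up 3 90 4)) (.leaf (.up 3 91 4))) (.node (.leaf (.up 1 66 0)) (.leaf (.up 3 1964 0)))))) (.node (.node (.node (.node (.leaf (.up 1 102 2)) (.leaf (.up 1 209 3))) (.node (.leaf (.up 3 206 1)) (.leaf (.up 1 198 1)))) (.node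 (.node (.leaf (.up 3 1389 4)) (.leaf (.up 3 1388 4))) (.node (.leaf (.up 2 1352 3)) (.leaf (.up 5 1880 3))))) (.node (.node (.node (.leaf (.up 4 799 2)) (.leaf (.up 3 1265 2))) (.node (.leaf (.up 2 948 2)) (.leaf (.up 3 1114 2)))) (.node (.node (.leaf (.up 3 1405 4)) (.leaf (.up 4 493 1))) (.node (.leaf (.up 4 1917 4)) (.leaf (.up 5 1916 4))))))))

noncomputable def vt5_6_1111 : Tr VStep :=
  .node (.node (.node (.node (.node (.node (.node (.leaf (.root 678)) (.leaf (.up 4 25 4))) (.node (.leaf (.up 3 536 4)) (.leaf (.up 3 537 4)))) (.node (.node (.leaf (.up 3 1414 3)) (.leaf (.up 4 239 4))) (.node (.leaf (.up 4 750 4)) (.leaf (.up 3 1430 3))))) (.node (.node (.node (.leaf (.up 2 371 0)) (.leaf (.up 1 9 4))) (.node (.leaf (.up 1 11 3)) (.leaf (.up 3 539 3)))) (.node (.node (.leaf (.up 4 1922 3)) (.leaf (.up 4 1426 3))) (.node (.leaf (.up 3 1410 3)) (.leaf (.up 2 767 4)))))) (.node (.node (.node (.node (.leaf (.up 2 761 3)) (.leaf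 (.up 3 233 3))) (.node (.leaf (.up 2 249 3)) (.leaf (.up 2 745 3)))) (.node (.node (.leaf (.up 3 1904 3)) (.leaf (.up 3 1480 4))) (.node (.leaf (.up 3 1993 4)) (.leaf (.up 5 1888 3))))) (.node (.node (.node (.leaf (.up 3 258 2)) (.leaf (.up 2 749 3))) (.node (.leaf (.up 2 765 3)) (.leaf (.up 3 718 0)))) (.node (.node (.leaf (.up 4 1168 2)) (.leaf (.up 3 894 2))) (.node (.leaf (.up 2 1083 2)) (.leaf (.up 1 329 0))))))) (.node (.node (.node (.node (.node (.leaf (.root 1170)) (.leaf (.up 4 57 4))) (.node (.leaf (.up 2 1589 3)) (.leaf (.up 3 569 4)))) (.node (.node (.leaf (.up 3 206 4)) (.leaf (.up 3 1630 2))) (.node (.leaf (.up 2 283 2)) (.leaf (.up 2 428 3))))) (.node (.node (.node (.leaf (.up 3 1200 1)) (.leaf (.up 4 41 4))) (.node (.leaf (.up 2 552 4)) (.leaf (.up 2 30 2)))) (.node (.node (.leaf (.up 2 713 2)) (.leaf (.up 4 1319 2))) (.node (.leaf (.up 3 734 4)) (.leaf (.up 2 1420 2)))))) (.node (.node (.node (.node (.leaf (.up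 1 102 0)) (.leaf (.up 3 1235 3))) (.node (.leaf (.up 3 76 2)) (.leaf (.up 3 1827 0)))) (.node (.node (.leaf (.up 3 993 0)) (.leaf (.up 3 1512 4))) (.node (.leaf (.up 1 330 3)) (.leaf (.up 5 858 3))))) (.node (.node (.node (.leaf (.up 3 1223 3)) (.leaf (.up 2 249 0))) (.node (.leaf (.up 3 1735 3)) (.leaf (.up 3 82 0)))) (.node (.node (.leaf (.up 4 1511 1)) (.leaf (.up 3 894 0))) (.node (.leaf (.up 2 2023 1)) (.leaf (.up 1 329 2)))))))) (.node (.node (.node (.node (.node (.node (.leaf (.up 4 1551 3)) (.leaf (.up 4 153 4))) (.node (.leaf (.up 3 1381 2)) (.leaf (.up 3 567 0)))) (.node (.node (.leaf (.up 3 1781 0)) (.leaf (.up 2 111 4))) (.node (.leaf (.up 3 622 4)) (.leaf (.up 3 1817 2))))) (.node (.node (.node (.leaf (.up 2 1035 3)) (.leaf (.up 2 1517 0))) (.node (.leaf (.up 4 1682 1)) (.leaf (.up 2 1051 3)))) (.node (.node (.leaf (.up 3 126 4)) (.leaf (.up 3 914 3))) (.node (.leaf (.up 4 638 4)) (.leaf (.up 2 402 3)))))) (.node (.node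 (.node (.node (.leaf (.up 5 1273 3)) (.leaf (.up 2 1769 3))) (.node (.leaf (.up 2 1785 3)) (.leaf (.up 4 1614 2)))) (.node (.node (.leaf (.up 2 1353 4)) (.leaf (.up 2 1352 4))) (.node (.leaf (.up 4 1074 2)) (.leaf (.up 2 850 1))))) (.node (.node (.node (.leaf (.up 4 626 2)) (.leaf (.up 3 1261 3))) (.node (.leaf (.up 2 729 2)) (.leaf (.up 2 1773 3)))) (.node (.node (.leaf (.up 2 1369 4)) (.leaf (.up 2 14 2))) (.node (.leaf (.up 3 1867 2)) (.leaf (.up 3 165 2))))))) (.node (.node (.node (.node (.node (.leaf (.up 3 565 3)) (.leaf (.up 1 0 0))) (.node (.leaf (.up 3 696 4)) (.leaf (.up 4 697 4)))) (.node (.node (.leaf (.up 1 78 4)) (.leaf (.up 2 1452 3))) (.node (.leaf (.up 2 1468 3)) (.leaf (.up 3 591 4))))) (.node (.node (.node (.leaf (.up 3 49 3)) (.leaf (.up 4 169 4))) (.node (.leaf (.up 3 561 3)) (.leaf (.up 1 33 3)))) (.node (.node (.leaf (.up 3 94 4)) (.leaf (.up 5 1960 3))) (.node (.leaf (.up 2 606 4)) (.leaf (.up 2 1448 3))))))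 (.node (.node (.node (.node (.leaf (.up 2 790 0)) (.leaf (.up 5 723 3))) (.node (.leaf (.up 2 957 0)) (.leaf (.up 5 211 3)))) (.node (.node (.leaf (.up 3 1385 4)) (.leaf (.up 2 1919 0))) (.node (.leaf (.up 4 1897 4)) (.leaf (.up 1 320 2))))) (.node (.node (.node (.leaf (.up 4 711 3)) (.leaf (.up 4 1792 2))) (.node (.leaf (.up 1 69 2)) (.leaf (.up 3 802 0)))) (.node (.node (.leaf (.up 3 1401 4)) (.leaf (.up 2 1517 1))) (.node (.leaf (.up 3 2021 1)) (.leaf (.up 3 165 0))))))))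

noncomputable def vt5_6_111 : Tr VStep := .node vt5_6_1110 vt5_6_1111

noncomputable def vt5_6_11 : Tr VStep := .node vt5_6_110 vt5_6_111

noncomputable def vt5_6_1 : Tr VStep := .node vt5_6_10 vt5_6_11

noncomputable def vt5_6_ : Tr VStep := .node vt5_6_0 vt5_6_1

noncomputable def vt5_7_0000 : Tr VStep :=
  .node (.node (.node (.node (.node (.node (.node (.leaf (.root 1576)) (.leaf (.up 5 1422 1))) (.node (.leaf (.up 3 161 1)) (.leaf (.up 5 390 1)))) (.node (.node (.leaf (.up 6 309 2)) (.leaf (.up 7 430 1))) (.node (.leaf (.up 5 1153 1)) (.leaf (.up 5 1446 1))))) (.node (.node (.node (.leaf (.up 6 459 2)) (.leaf (.up 6 596 1))) (.node (.leaf (.up 4 1915 1)) (.leaf (.up 5 1631 2)))) (.node (.node (.leaf (.up 4 1875 1)) (.leaf (.up 5 1209 0))) (.node (.leaf (.up 4 859 1)) (.leaf (.up 5 636 1)))))) (.node (.node (.node (.node (.leaf (.up 5 588 2)) (.leaf (.up 5 369 0))) (.node (.leaf (.up 6 1057 1)) (.leaf (.up 5 2002 0)))) (.node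 (.node (.leaf (.up 3 513 0)) (.leaf (.up 4 1326 1))) (.node (.leaf (.up 1 1 1)) (.leaf (.up 4 1939 0))))) (.node (.node (.node (.leaf (.up 4 2035 1)) (.leaf (.up 5 1748 1))) (.node (.leaf (.up 6 1294 2)) (.leaf (.up 5 732 1)))) (.node (.node (.leaf (.up 6 690 2)) (.leaf (.up 5 756 1))) (.node (.leaf (.up 4 875 0)) (.leaf (.up 5 90 0))))))) (.node (.node (.node (.node (.node (.leaf (.up 3 61 2)) (.leaf (.up 5 1338 2))) (.node (.leaf (.up 3 1557 0)) (.leaf (.up 5 1961 2)))) (.node (.node (.leaf (.up 4 247 0)) (.leaf (.up 6 966 0))) (.node (.leaf (.up 6 1620 0)) (.leaf (.up 6 420 1))))) (.node (.node (.node (.leaf (.up 4 1905 1)) (.leaf (.up 6 1102 0))) (.node (.leaf (.up 5 1919 2)) (.leaf (.up 7 632 2)))) (.node (.node (.leaf (.up 5 195 2)) (.leaf (.up 6 1039 0))) (.node (.leaf (.up 4 1881 1)) (.leaf (.up 4 684 0)))))) (.node (.node (.node (.node (.leaf (.up 5 1067 1)) (.leaf (.up 5 455 0))) (.node (.leaf (.up 4 1109 0)) (.leaf (.up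 5 260 1)))) (.node (.node (.leaf (.up 5 695 0)) (.leaf (.up 5 1603 2))) (.node (.leaf (.up 7 1027 1)) (.leaf (.up 5 1829 0))))) (.node (.node (.node (.leaf (.up 6 954 2)) (.leaf (.up 3 1550 0))) (.node (.leaf (.up 4 297 2)) (.leaf (.up 3 1070 2)))) (.node (.node (.leaf (.up 6 2001 1)) (.leaf (.up 5 1782 1))) (.node (.leaf (.up 4 985 1)) (.leaf (.up 5 766 1)))))))) (.node (.node (.node (.node (.node (.node (.leaf (.up 5 1799 2)) (.leaf (.up 2 1581 0))) (.node (.leaf (.up 2 959 0)) (.leaf (.up 4 1158 1)))) (.node (.node (.leaf (.up 5 1417 1)) (.leaf (.up 5 1198 1))) (.node (.leaf (.up 5 1022 0)) (.leaf (.up 5 207 0))))) (.node (.node (.node (.leaf (.up 5 725 0)) (.leaf (.up 5 484 0))) (.node (.leaf (.up 7 635 1)) (.leaf (.up 5 1863 0)))) (.node (.node (.leaf (.up 5 2041 2)) (.leaf (.up 5 766 2))) (.node (.leaf (.up 3 1079 0)) (.leaf (.up 5 1798 0)))))) (.node (.node (.node (.node (.leaf (.up 5 1321 1)) (.leaf (.up 3 1133 0))) (.node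 (.leaf (.up 6 962 2)) (.leaf (.up 6 1733 2)))) (.node (.node (.leaf (.up 6 1821 0)) (.leaf (.up 6 46 1))) (.node (.leaf (.up 6 1281 1)) (.leaf (.up 5 1062 1))))) (.node (.node (.node (.leaf (.up 4 755 1)) (.leaf (.up 4 932 0))) (.node (.leaf (.up 5 1787 1)) (.leaf (.up 7 788 2)))) (.node (.node (.leaf (.up 5 1747 1)) (.leaf (.up 5 2036 1))) (.node (.leaf (.up 3 731 1)) (.leaf (.up 6 1350 0))))))) (.node (.node (.node (.node (.node (.leaf (.up 7 1450 0)) (.leaf (.up 2 1691 0))) (.node (.leaf (.up 5 419 1)) (.leaf (.up 4 132 1)))) (.node (.node (.leaf (.up 7 1515 0)) (.leaf (.up 6 776 2))) (.node (.leaf (.up 6 840 0)) (.leaf (.up 5 411 2))))) (.node (.node (.node (.leaf (.up 7 1777 2)) (.leaf (.up 6 338 0))) (.node (.leaf (.up 4 1657 1)) (.leaf (.up 4 2033 0)))) (.node (.node (.leaf (.up 5 1617 1)) (.leaf (.up 4 1753 2))) (.node (.leaf (.up 5 1153 0)) (.leaf (.up 5 1098 2)))))) (.node (.node (.node (.node (.leaf (.up 4 2026 0)) (.leaf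 (.up 6 113 2))) (.node (.leaf (.up 5 2021 2)) (.leaf (.up 4 738 2)))) (.node (.node (.leaf (.up 6 1291 1)) (.leaf (.up 5 1178 0))) (.node (.leaf (.up 6 259 1)) (.leaf (.up 6 1997 2))))) (.node (.node (.node (.leaf (.up 5 167 2)) (.leaf (.up 5 2006 1))) (.node (.leaf (.up 6 564 2)) (.leaf (.up 6 990 1)))) (.node (.node (.leaf (.up 1 98 0)) (.leaf (.up 4 851 0))) (.node (.leaf (.up 4 1753 1)) (.leaf (.up 5 2046 1))))))))

noncomputable def vt5_7_0001 : Tr VStep :=
  .node (.node (.node (.node (.node (.node (.node (.leaf (.up 4 922 0)) (.leaf (.up 5 1082 2))) (.node (.leaf (.up 6 1337 0)) (.leaf (.up 3 527 1)))) (.node (.node (.leaf (.up 6 768 1)) (.leaf (.up 6 277 2))) (.node (.leaf (.up 5 1800 1)) (.leaf (.up 4 902 2))))) (.node (.node (.node (.leaf (.up 4 250 1)) (.leaf (.up 6 491 2))) (.node (.leaf (.up 5 1266 1)) (.leaf (.up 6 1493 1)))) (.node (.node (.leaf (.up 7 451 2)) (.leaf (.up 4 1827 0))) (.node (.leaf (.up 6 210 1)) (.leaf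 (.up 5 1623 2)))))) (.node (.node (.node (.node (.leaf (.up 5 928 1)) (.leaf (.up 6 647 1))) (.node (.leaf (.up 4 1913 0)) (.leaf (.up 6 1679 1)))) (.node (.node (.leaf (.up 5 411 0)) (.leaf (.up 6 1703 1))) (.node (.leaf (.up 5 215 2)) (.leaf (.up 6 1488 2))))) (.node (.node (.node (.leaf (.up 7 698 2)) (.leaf (.up 6 1373 1))) (.node (.leaf (.up 6 41 2)) (.leaf (.up 4 1326 2)))) (.node (.node (.leaf (.up 4 1941 2)) (.leaf (.up 5 381 1))) (.node (.leaf (.up 6 241 0)) (.leaf (.up 1 1 2))))))) (.node (.node (.node (.node (.node (.leaf (.up 6 802 1)) (.leaf (.up 4 517 1))) (.node (.leaf (.up 5 1834 1)) (.leaf (.up 3 654 2)))) (.node (.node (.leaf (.up 5 53 2)) (.leaf (.up 5 92 0))) (.node (.leaf (.up 6 778 1)) (.leaf (.up 3 557 1))))) (.node (.node (.node (.leaf (.up 5 203 2)) (.leaf (.up 7 2004 0))) (.node (.leaf (.up 5 600 2)) (.leaf (.up 6 375 0)))) (.node (.node (.leaf (.up 3 216 1)) (.leaf (.up 4 1941 0))) (.node (.leaf (.up 4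 1911 2)) (.leaf (.up 4 310 0)))))) (.node (.node (.node (.node (.leaf (.up 4 364 0)) (.leaf (.up 5 1669 1))) (.node (.leaf (.up 6 1999 0)) (.leaf (.up 6 1278 0)))) (.node (.node (.leaf (.up 7 1635 2)) (.leaf (.up 3 677 1))) (.node (.leaf (.up 6 1930 1)) (.leaf (.up 5 1215 0))))) (.node (.node (.node (.leaf (.up 5 1701 0)) (.leaf (.up 4 922 2))) (.node (.leaf (.up 6 1038 2)) (.leaf (.up 6 1367 1)))) (.node (.node (.leaf (.up 5 1764 0)) (.leaf (.up 6 1493 0))) (.node (.leaf (.up 6 80 1)) (.leaf (.up 5 1062 2)))))))) (.node (.node (.node (.node (.node (.node (.leaf (.up 2 1670 0)) (.leaf (.up 6 1831 2))) (.node (.leaf (.up 3 37 0)) (.leaf (.up 6 1807 1)))) (.node (.node (.leaf (.up 6 1807 2)) (.leaf (.up 6 1526 0))) (.node (.leaf (.up 5 100 0)) (.leaf (.up 5 155 2))))) (.node (.node (.node (.leaf (.up 4 2033 2)) (.leaf (.up 5 758 2))) (.node (.leaf (.up 6 1378 2)) (.leaf (.up 6 101 2)))) (.node (.node (.leaf (.up 5 474 1)) (.leaf (.up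 5 2009 2))) (.node (.leaf (.up 5 1965 0)) (.leaf (.up 6 1269 1)))))) (.node (.node (.node (.node (.leaf (.up 7 1222 0)) (.leaf (.up 5 369 2))) (.node (.leaf (.up 4 613 0)) (.leaf (.up 6 340 0)))) (.node (.node (.leaf (.up 5 640 1)) (.leaf (.up 6 935 1))) (.node (.leaf (.up 6 548 0)) (.leaf (.up 5 1741 2))))) (.node (.node (.node (.leaf (.up 2 783 0)) (.leaf (.up 5 93 1))) (.node (.leaf (.up 5 820 2)) (.leaf (.up 4 1109 1)))) (.node (.node (.leaf (.up 5 846 0)) (.leaf (.up 5 1149 1))) (.node (.leaf (.up 5 1517 0)) (.leaf (.up 5 117 1))))))) (.node (.node (.node (.node (.node (.leaf (.up 5 1584 0)) (.leaf (.up 6 1281 0))) (.node (.leaf (.up 4 1172 2)) (.leaf (.up 5 930 0)))) (.node (.node (.leaf (.up 5 514 1)) (.leaf (.up 5 1344 0))) (.node (.leaf (.up 6 210 0)) (.leaf (.up 5 1212 2))))) (.node (.node (.node (.leaf (.up 6 504 1)) (.leaf (.up 6 223 1))) (.node (.leaf (.up 5 1520 1)) (.leaf (.up 4 1131 0)))) (.node (.node (.leaf (.up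 6 1496 1)) (.leaf (.up 5 1022 2))) (.node (.leaf (.up 4 1130 2)) (.leaf (.up 4 247 1)))))) (.node (.node (.node (.node (.leaf (.up 6 81 2)) (.leaf (.up 3 901 1))) (.node (.leaf (.up 6 723 0)) (.leaf (.up 6 1989 2)))) (.node (.node (.leaf (.up 5 1073 0)) (.leaf (.up 6 1792 0))) (.node (.leaf (.up 6 2029 2)) (.leaf (.up 5 419 0))))) (.node (.node (.node (.leaf (.up 5 953 0)) (.leaf (.up 5 1119 1))) (.node (.leaf (.up 6 1811 2)) (.leaf (.up 5 87 1)))) (.node (.node (.leaf (.up 5 175 2)) (.leaf (.up 5 201 0))) (.node (.leaf (.up 5 1371 0)) (.leaf (.up 5 1642 0))))))))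

noncomputable def vt5_7_000 : Tr VStep := .node vt5_7_0000 vt5_7_0001

noncomputable def vt5_7_0010 : Tr VStep :=
  .node (.node (.node (.node (.node (.node (.node (.leaf (.up 5 381 2)) (.leaf (.up 5 1221 0))) (.node (.leaf (.up 6 1006 2)) (.leaf (.up 4 1131 1)))) (.node (.node (.leaf (.up 4 1380 1)) (.leaf (.up 5 1156 0))) (.node (.leaf (.up 4 364 1)) (.leaf (.up 6 966 2))))) (.node (.node (.node (.leaf (.up 3 61 0)) (.leaf (.up 4 1977 1))) (.node (.leaf (.up 4 1694 0)) (.leaf (.up 6 945 1)))) (.node (.node (.leaf (.up 5 387 2)) (.leaf (.up 5 1156 2))) (.node (.leaf (.up 5 1718 1)) (.leaf (.up 3 1518 0)))))) (.node (.node (.node (.node (.leaf (.up 5 1835 2)) (.leaf (.up 5 1669 0))) (.node (.leaf (.up 6 791 0)) (.leaf (.up 5 38 0)))) (.node (.node (.leaf (.up 5 484 1)) (.leaf (.up 5 1732 0))) (.node (.leaf (.up 6 151 2)) (.leaf (.up 4 103 0))))) (.node (.node (.node (.leaf (.up 5 542 1)) (.leaf (.up 4 332 0))) (.node (.leaf (.up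 5 1246 0)) (.leaf (.up 4 1841 1)))) (.node (.node (.leaf (.up 4 2005 2)) (.leaf (.up 5 1817 1))) (.node (.leaf (.up 6 1350 2)) (.leaf (.up 6 1966 0))))))) (.node (.node (.node (.node (.node (.leaf (.up 6 1350 1)) (.leaf (.up 5 1121 1))) (.node (.leaf (.up 5 334 1)) (.leaf (.up 5 105 1)))) (.node (.node (.leaf (.up 5 117 2)) (.leaf (.up 7 1394 2))) (.node (.leaf (.up 6 416 0)) (.leaf (.up 6 2017 2))))) (.node (.node (.node (.leaf (.up 2 668 1)) (.leaf (.up 5 955 1))) (.node (.leaf (.up 4 1576 0)) (.leaf (.up 5 1971 1)))) (.node (.node (.leaf (.up 5 1724 1)) (.leaf (.up 6 163 2))) (.node (.leaf (.up 3 692 1)) (.leaf (.up 6 560 2)))))) (.node (.node (.node (.node (.leaf (.up 4 780 2)) (.leaf (.up 7 225 1))) (.node (.leaf (.up 4 929 0)) (.leaf (.up 2 1257 1)))) (.node (.node (.leaf (.up 4 1571 2)) (.leaf (.up 3 1217 1))) (.node (.leaf (.up 4 494 1)) (.leaf (.up 5 201 1))))) (.node (.node (.node (.leaf (.up 5 1564 1)) (.leaf (.up 5 1851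 1))) (.node (.leaf (.up 6 1102 2)) (.leaf (.up 4 1881 0)))) (.node (.node (.leaf (.up 4 1010 2)) (.leaf (.up 5 1781 2))) (.node (.leaf (.up 5 1588 1)) (.leaf (.up 6 1816 0)))))))) (.node (.node (.node (.node (.node (.node (.leaf (.up 5 608 2)) (.leaf (.up 6 473 0))) (.node (.leaf (.up 5 1099 0)) (.leaf (.up 6 1914 0)))) (.node (.node (.leaf (.up 5 100 1)) (.leaf (.up 5 584 2))) (.node (.leaf (.up 6 1500 2)) (.leaf (.up 4 1355 1))))) (.node (.node (.node (.leaf (.up 6 926 1)) (.leaf (.up 3 697 1))) (.node (.leaf (.up 4 1942 1)) (.leaf (.up 3 37 2)))) (.node (.node (.leaf (.up 5 670 2)) (.leaf (.up 5 1617 0))) (.node (.leaf (.up 1 13 2)) (.leaf (.up 6 242 0)))))) (.node (.node (.node (.node (.leaf (.up 6 196 1)) (.leaf (.up 6 921 0))) (.node (.leaf (.up 5 1701 2)) (.leaf (.up 5 1338 0)))) (.node (.node (.leaf (.up 5 281 2)) (.leaf (.up 6 1054 2))) (.node (.leaf (.up 4 906 2)) (.leaf (.up 6 459 1))))) (.node (.node (.node (.leaf (.up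 4 1822 1)) (.leaf (.up 4 1104 0))) (.node (.leaf (.up 5 450 0)) (.leaf (.up 4 755 0)))) (.node (.node (.leaf (.up 7 1224 2)) (.leaf (.up 5 1041 0))) (.node (.leaf (.up 5 387 0)) (.leaf (.up 6 690 0))))))) (.node (.node (.node (.node (.node (.leaf (.up 6 1607 2)) (.leaf (.up 2 832 2))) (.node (.leaf (.up 5 1236 2)) (.leaf (.up 4 1996 0)))) (.node (.node (.leaf (.up 6 1126 1)) (.leaf (.up 3 1647 2))) (.node (.leaf (.up 4 110 1)) (.leaf (.up 7 1276 2))))) (.node (.node (.node (.leaf (.up 2 918 2)) (.leaf (.up 4 1723 1))) (.node (.leaf (.up 2 916 1)) (.leaf (.up 1 5 0)))) (.node (.node (.leaf (.up 5 1494 0)) (.leaf (.up 6 958 2))) (.node (.leaf (.up 4 1066 2)) (.leaf (.up 6 68 0)))))) (.node (.node (.node (.node (.leaf (.up 3 17 2)) (.leaf (.up 5 1505 1))) (.node (.leaf (.up 5 206 1)) (.leaf (.up 6 1925 2)))) (.node (.node (.leaf (.up 4 230 1)) (.leaf (.up 6 878 0))) (.node (.leaf (.up 5 1965 2)) (.leaf (.up 5 1481 1))))) (.node (.node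 (.node (.leaf (.up 6 796 1)) (.leaf (.up 6 1254 0))) (.node (.leaf (.up 4 1875 2)) (.leaf (.up 6 596 2)))) (.node (.node (.leaf (.up 4 1942 0)) (.leaf (.up 6 1563 1))) (.node (.leaf (.up 5 636 2)) (.leaf (.up 4 1915 2))))))))

noncomputable def vt5_7_0011 : Tr VStep :=
  .node (.node (.node (.node (.node (.node (.node (.leaf (.up 5 1114 2)) (.leaf (.up 7 1887 0))) (.node (.leaf (.up 6 717 0)) (.leaf (.up 5 2018 1)))) (.node (.node (.leaf (.up 6 1071 0)) (.leaf (.up 4 1822 0))) (.node (.leaf (.up 3 741 1)) (.leaf (.up 5 1761 2))))) (.node (.node (.node (.leaf (.up 6 1303 1)) (.leaf (.up 2 150 0))) (.node (.leaf (.up 6 1284 0)) (.leaf (.up 2 1567 2)))) (.node (.node (.leaf (.up 6 1188 2)) (.leaf (.up 5 215 0))) (.node (.leaf (.up 5 1349 0)) (.leaf (.up 7 1652 0)))))) (.node (.node (.node (.node (.leaf (.up 6 1582 0)) (.leaf (.up 6 1311 0))) (.node (.leaf (.up 4 159 2)) (.leaf (.up 5 866 1)))) (.node (.node (.leaf (.up 3 1647 0)) (.leaf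 (.up 6 548 2))) (.node (.leaf (.up 5 1456 2)) (.leaf (.up 5 183 2))))) (.node (.node (.node (.leaf (.up 6 407 1)) (.leaf (.up 5 726 0))) (.node (.leaf (.up 4 1439 1)) (.leaf (.up 2 73 2)))) (.node (.node (.leaf (.up 7 1463 1)) (.leaf (.up 6 1168 1))) (.node (.leaf (.up 6 1797 0)) (.leaf (.up 3 1076 0))))))) (.node (.node (.node (.node (.node (.leaf (.up 6 1240 0)) (.leaf (.up 5 1402 2))) (.node (.leaf (.up 5 711 1)) (.leaf (.up 4 330 0)))) (.node (.node (.leaf (.up 5 1362 2)) (.leaf (.up 5 1960 0))) (.node (.leaf (.up 6 1985 2)) (.leaf (.up 5 267 0))))) (.node (.node (.node (.leaf (.up 6 277 1)) (.leaf (.up 3 50 1))) (.node (.leaf (.up 3 1309 1)) (.leaf (.up 5 568 2)))) (.node (.node (.leaf (.up 5 1333 1)) (.leaf (.up 6 1412 2))) (.node (.leaf (.up 3 528 2)) (.leaf (.up 6 26 1)))))) (.node (.node (.node (.node (.leaf (.up 4 591 1)) (.leaf (.up 7 1449 0))) (.node (.leaf (.up 6 1607 1)) (.leaf (.up 6 1888 1)))) (.node (.node (.leaf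 (.up 3 1647 1)) (.leaf (.up 7 1512 0))) (.node (.leaf (.up 6 407 2)) (.leaf (.up 2 832 1))))) (.node (.node (.node (.leaf (.up 6 1018 2)) (.leaf (.up 5 608 0))) (.node (.leaf (.up 5 413 1)) (.leaf (.up 6 186 1)))) (.node (.node (.leaf (.up 6 272 0)) (.leaf (.up 6 978 2))) (.node (.leaf (.up 5 1971 0)) (.leaf (.up 5 1178 1)))))))) (.node (.node (.node (.node (.node (.node (.leaf (.up 5 1863 2)) (.leaf (.up 7 576 2))) (.node (.leaf (.up 5 965 1)) (.leaf (.up 4 1248 0)))) (.node (.node (.leaf (.up 4 1005 1)) (.leaf (.up 5 1903 2))) (.node (.leaf (.up 5 2021 1)) (.leaf (.up 6 1532 2))))) (.node (.node (.node (.leaf (.up 4 1723 0)) (.leaf (.up 7 1937 2))) (.node (.leaf (.up 1 5 2)) (.leaf (.up 5 1282 2)))) (.node (.node (.leaf (.up 3 1079 1)) (.leaf (.up 6 702 2))) (.node (.leaf (.up 5 63 1)) (.leaf (.up 5 45 2)))))) (.node (.node (.node (.node (.leaf (.up 4 818 0)) (.leaf (.up 1 3 0))) (.node (.leaf (.up 6 1861 1)) (.leaf (.up 5 1669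 2)))) (.node (.node (.leaf (.up 5 1086 2)) (.leaf (.up 1 66 0))) (.node (.leaf (.up 6 1488 0)) (.leaf (.up 5 1761 0))))) (.node (.node (.node (.leaf (.up 6 1216 2)) (.leaf (.up 5 455 2))) (.node (.leaf (.up 4 159 1)) (.leaf (.up 5 852 2)))) (.node (.node (.leaf (.up 4 1210 0)) (.leaf (.up 5 1256 2))) (.node (.leaf (.up 5 1215 1)) (.leaf (.up 6 296 0))))))) (.node (.node (.node (.node (.node (.leaf (.up 5 452 0)) (.leaf (.up 7 1639 2))) (.node (.leaf (.up 6 499 2)) (.leaf (.up 4 1760 1)))) (.node (.node (.leaf (.up 6 1615 2)) (.leaf (.up 3 692 0))) (.node (.leaf (.up 6 1244 2)) (.leaf (.up 5 1047 0))))) (.node (.node (.node (.leaf (.up 3 1045 1)) (.leaf (.up 4 1340 0))) (.node (.leaf (.up 4 29 1)) (.leaf (.up 4 927 0)))) (.node (.node (.leaf (.up 5 53 1)) (.leaf (.up 6 274 1))) (.node (.leaf (.up 6 1085 1)) (.leaf (.up 6 1034 2)))))) (.node (.node (.node (.node (.leaf (.up 6 900 0)) (.leaf (.up 7 181 0))) (.node (.leaf (.up 4 839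 1)) (.leaf (.up 5 608 1)))) (.node (.node (.leaf (.up 5 965 0)) (.leaf (.up 5 584 1))) (.node (.leaf (.up 7 1382 0)) (.leaf (.up 5 1623 0))))) (.node (.node (.node (.leaf (.up 6 149 1)) (.leaf (.up 6 1916 0))) (.node (.leaf (.up 6 750 0)) (.leaf (.up 5 1907 2)))) (.node (.node (.leaf (.up 6 1480 2)) (.leaf (.up 5 207 2))) (.node (.leaf (.up 7 189 1)) (.leaf (.up 6 410 1))))))))

noncomputable def vt5_7_001 : Tr VStep := .node vt5_7_0010 vt5_7_0011

noncomputable def vt5_7_00 : Tr VStep := .node vt5_7_000 vt5_7_001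

noncomputable def vt5_7_0100 : Tr VStep :=
  .node (.node (.node (.node (.node (.node (.node (.leaf (.root 2256)) (.leaf (.up 2 668 0))) (.node (.leaf (.up 4 789 1)) (.leaf (.up 2 1087 0)))) (.node (.node (.leaf (.up 4 829 1)) (.leaf (.up 4 789 2))) (.node (.leaf (.up 3 1845 1)) (.leaf (.up 5 390 2))))) (.node (.node (.node (.leaf (.up 3 1636 0)) (.leaf (.up 7 1003 2))) (.node (.leaf (.up 6 1231 1)) (.leaf (.up 6 1014 0)))) (.node (.node (.leaf (.up 5 1573 0)) (.leaf (.up 5 1732 2))) (.node (.leaf (.up 6 134 0)) (.leaf (.up 3 951 0)))))) (.node (.node (.node (.node (.leaf (.root 1112)) (.leaf (.up 5 108 2))) (.node (.leaf (.up 4 1941 1)) (.leaf (.up 6 767 2)))) (.node (.node (.leaf (.up 4 940 0)) (.leaf (.up 5 1347 2))) (.node (.leaf (.up 5 1295 0)) (.leaf (.up 7 658 1))))) (.node (.node (.node (.leaf (.up 6 186 2)) (.leaf (.up 6 1376 1))) (.node (.leaf (.up 6 647 0)) (.leaf (.up 6 438 0)))) (.node (.node (.leaf (.up 4 103 1))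 (.leaf (.up 4 320 1))) (.node (.leaf (.up 5 710 0)) (.leaf (.up 3 513 2))))))) (.node (.node (.node (.node (.node (.leaf (.up 4 799 1)) (.leaf (.up 5 568 1))) (.node (.leaf (.up 5 1417 2)) (.leaf (.up 5 1584 1)))) (.node (.node (.leaf (.up 5 1855 1)) (.leaf (.up 5 619 0))) (.node (.leaf (.up 5 2041 0)) (.leaf (.up 3 528 1))))) (.node (.node (.node (.leaf (.up 5 1746 0)) (.leaf (.up 4 1507 0))) (.node (.leaf (.up 6 113 0)) (.leaf (.up 2 832 0)))) (.node (.node (.leaf (.up 6 229 1)) (.leaf (.up 4 739 2))) (.node (.leaf (.up 4 1261 1)) (.leaf (.up 4 1482 1)))))) (.node (.node (.node (.node (.leaf (.root 1288)) (.leaf (.up 5 1720 1))) (.node (.leaf (.up 2 919 1)) (.leaf (.up 5 1752 2)))) (.node (.node (.leaf (.up 2 959 1)) (.leaf (.up 5 356 2))) (.node (.leaf (.up 4 1975 1)) (.leaf (.up 6 1680 1))))) (.node (.node (.node (.leaf (.up 3 1170 0)) (.leaf (.up 3 354 1))) (.node (.leaf (.up 3 1550 2)) (.leaf (.up 6 1386 1)))) (.node (.node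 (.leaf (.up 6 1125 1)) (.leaf (.up 5 2018 0))) (.node (.leaf (.up 6 801 2)) (.leaf (.up 4 330 1)))))))) (.node (.node (.node (.node (.node (.node (.leaf (.up 4 32 2)) (.leaf (.up 6 1920 0))) (.node (.leaf (.up 3 1557 1)) (.leaf (.up 6 1842 1)))) (.node (.node (.leaf (.up 5 1295 2)) (.leaf (.up 5 8 2))) (.node (.leaf (.up 6 1948 2)) (.leaf (.up 3 354 0))))) (.node (.node (.node (.leaf (.up 7 888 0)) (.leaf (.up 2 73 0))) (.node (.leaf (.up 6 463 1)) (.leaf (.up 4 613 2)))) (.node (.node (.leaf (.up 5 222 2)) (.leaf (.up 5 8 0))) (.node (.leaf (.up 6 589 2)) (.leaf (.up 7 1224 1)))))) (.node (.node (.node (.node (.leaf (.up 7 1777 0)) (.leaf (.up 5 1978 1))) (.node (.leaf (.up 6 1253 2)) (.leaf (.up 6 946 1)))) (.node (.node (.leaf (.up 5 701 1)) (.leaf (.up 4 922 1))) (.node (.leaf (.up 5 458 2)) (.leaf (.up 3 1229 2))))) (.node (.node (.node (.leaf (.up 5 327 1)) (.leaf (.up 5 521 0))) (.node (.leaf (.up 6 1359 1)) (.leaf (.up 4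 1075 2)))) (.node (.node (.leaf (.up 5 1383 1)) (.leaf (.up 5 584 0))) (.node (.leaf (.up 5 2010 0)) (.leaf (.up 4 1259 0))))))) (.node (.node (.node (.node (.node (.leaf (.up 2 1567 1)) (.leaf (.up 6 1848 1))) (.node (.leaf (.up 4 1684 2)) (.leaf (.up 7 405 0)))) (.node (.node (.leaf (.up 5 1094 0)) (.leaf (.up 4 1911 0))) (.node (.leaf (.up 3 741 0)) (.leaf (.up 5 1724 2))))) (.node (.node (.node (.leaf (.up 6 470 2)) (.leaf (.up 4 226 1))) (.node (.leaf (.up 5 837 2)) (.leaf (.up 6 1628 0)))) (.node (.node (.leaf (.up 6 1509 1)) (.leaf (.up 5 190 0))) (.node (.leaf (.up 5 1642 2)) (.leaf (.up 6 877 2)))))) (.node (.node (.node (.node (.leaf (.up 6 593 2)) (.leaf (.up 5 952 1))) (.node (.leaf (.up 6 1687 1)) (.leaf (.up 6 1477 2)))) (.node (.node (.leaf (.up 5 1727 1)) (.leaf (.up 6 1335 0))) (.node (.leaf (.up 3 165 0)) (.leaf (.up 2 916 0))))) (.node (.node (.node (.leaf (.up 5 1349 1)) (.leaf (.up 4 703 0))) (.node (.leaf (.up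 6 1837 0)) (.leaf (.up 5 106 1)))) (.node (.node (.leaf (.up 5 357 1)) (.leaf (.up 1 66 1))) (.node (.leaf (.up 3 1900 0)) (.leaf (.up 5 1098 1))))))))

noncomputable def vt5_7_0101 : Tr VStep :=
  .node (.node (.node (.node (.node (.node (.node (.leaf (.root 958)) (.leaf (.up 5 797 2))) (.node (.leaf (.up 4 1172 0)) (.leaf (.up 6 1957 0)))) (.node (.node (.leaf (.up 3 180 1)) (.leaf (.up 5 327 0))) (.node (.leaf (.up 5 1237 0)) (.leaf (.up 5 1435 1))))) (.node (.node (.node (.leaf (.up 5 971 2)) (.leaf (.up 3 1740 2))) (.node (.leaf (.up 6 1862 1)) (.leaf (.up 5 1119 2)))) (.node (.node (.leaf (.up 4 1902 1)) (.leaf (.up 7 1678 0))) (.node (.leaf (.up 3 870 1)) (.leaf (.up 5 577 1)))))) (.node (.node (.node (.node (.leaf (.up 6 20 1)) (.leaf (.up 4 1355 2))) (.node (.leaf (.up 5 1748 0)) (.leaf (.up 6 1339 1)))) (.node (.node (.leaf (.up 3 1076 1)) (.leaf (.up 5 100 2))) (.node (.leaf (.up 6 2032 2)) (.leaf (.up 6 283 1))))) (.node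 (.node (.node (.leaf (.up 6 1437 2)) (.leaf (.up 5 154 2))) (.node (.leaf (.up 5 1806 2)) (.leaf (.up 5 521 2)))) (.node (.node (.leaf (.up 4 2047 0)) (.leaf (.up 3 713 1))) (.node (.leaf (.up 6 348 0)) (.leaf (.up 5 621 0))))))) (.node (.node (.node (.node (.node (.leaf (.root 2434)) (.leaf (.up 3 1850 2))) (.node (.leaf (.up 5 174 2)) (.leaf (.up 6 1465 1)))) (.node (.node (.leaf (.up 4 1810 2)) (.leaf (.up 6 497 0))) (.node (.leaf (.up 5 190 1)) (.leaf (.up 4 1874 0))))) (.node (.node (.node (.leaf (.up 6 1868 1)) (.leaf (.up 4 1657 0))) (.node (.leaf (.up 6 1407 2)) (.leaf (.up 7 120 2)))) (.node (.node (.leaf (.up 3 1289 0)) (.leaf (.up 6 587 1))) (.node (.leaf (.up 6 80 2)) (.leaf (.up 5 155 0)))))) (.node (.node (.node (.node (.leaf (.up 4 1131 2)) (.leaf (.up 3 1329 1))) (.node (.leaf (.up 5 30 1)) (.leaf (.up 4 1363 0)))) (.node (.node (.leaf (.up 5 54 1)) (.leaf (.up 5 1091 2))) (.node (.leaf (.up 4 1571 0)) (.leaf (.up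 6 1298 0))))) (.node (.node (.node (.leaf (.up 5 1800 0)) (.leaf (.up 6 1213 2))) (.node (.leaf (.up 6 809 2)) (.leaf (.up 6 1763 1)))) (.node (.node (.leaf (.up 6 2028 1)) (.leaf (.up 4 1144 0))) (.node (.leaf (.up 6 996 1)) (.leaf (.up 3 731 0)))))))) (.node (.node (.node (.node (.node (.node (.leaf (.up 5 1835 0)) (.leaf (.up 1 0 2))) (.node (.leaf (.up 7 1940 2)) (.leaf (.up 2 659 2)))) (.node (.node (.leaf (.up 7 1460 1)) (.leaf (.up 6 1171 1))) (.node (.leaf (.up 5 457 0)) (.leaf (.up 5 155 1))))) (.node (.node (.node (.leaf (.up 4 226 0)) (.leaf (.up 4 1489 2))) (.node (.leaf (.up 6 1601 0)) (.leaf (.up 6 865 1)))) (.node (.node (.leaf (.up 5 622 1)) (.leaf (.up 7 914 0))) (.node (.leaf (.up 3 1638 1)) (.leaf (.up 3 1329 0)))))) (.node (.node (.node (.node (.leaf (.up 4 1387 0)) (.leaf (.up 4 1075 1))) (.node (.leaf (.up 5 284 1)) (.leaf (.up 5 1221 2)))) (.node (.node (.leaf (.up 7 308 1)) (.leaf (.up 6 889 2))) (.node (.leaf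 (.up 4 1261 2)) (.leaf (.up 7 184 0))))) (.node (.node (.node (.leaf (.up 6 1664 2)) (.leaf (.up 8 903 2))) (.node (.leaf (.up 5 1043 2)) (.leaf (.up 6 2017 1)))) (.node (.node (.leaf (.up 4 739 0)) (.leaf (.up 6 1993 1))) (.node (.leaf (.up 6 1088 0)) (.leaf (.up 4 1905 0))))))) (.node (.node (.node (.node (.node (.leaf (.up 5 288 2)) (.leaf (.up 4 1196 0))) (.node (.leaf (.up 6 947 2)) (.leaf (.up 2 1716 2)))) (.node (.node (.leaf (.up 6 1039 2)) (.leaf (.up 4 1261 0))) (.node (.leaf (.up 6 1470 1)) (.leaf (.up 2 923 2))))) (.node (.node (.node (.leaf (.up 5 588 1)) (.leaf (.up 3 502 2))) (.node (.leaf (.up 6 1604 1)) (.leaf (.up 3 1891 1)))) (.node (.node (.leaf (.up 6 478 2)) (.leaf (.up 5 1867 1))) (.node (.leaf (.up 5 612 1)) (.leaf (.up 4 835 1)))))) (.node (.node (.node (.node (.leaf (.up 5 278 1)) (.leaf (.up 7 1772 0))) (.node (.leaf (.up 6 1509 2)) (.leaf (.up 4 226 2)))) (.node (.node (.leaf (.up 6 1334 1)) (.leaf (.up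 4 1886 2))) (.node (.leaf (.up 7 202 2)) (.leaf (.up 5 25 1))))) (.node (.node (.node (.leaf (.up 3 1740 1)) (.leaf (.up 3 2027 1))) (.node (.leaf (.up 6 708 1)) (.leaf (.up 5 1331 2)))) (.node (.node (.leaf (.up 6 1928 2)) (.leaf (.up 5 356 0))) (.node (.leaf (.up 5 1764 1)) (.leaf (.up 6 1987 1))))))))

noncomputable def vt5_7_010 : Tr VStep := .node vt5_7_0100 vt5_7_0101

noncomputable def vt5_7_0110 : Tr VStep :=
  .node (.node (.node (.node (.node (.node (.node (.leaf (.up 5 1625 0)) (.leaf (.up 4 1384 0))) (.node (.leaf (.up 4 250 0)) (.leaf (.up 5 971 0)))) (.node (.node (.leaf (.up 6 885 2)) (.leaf (.up 5 1321 0))) (.node (.leaf (.up 6 486 2)) (.leaf (.up 4 906 0))))) (.node (.node (.node (.leaf (.up 5 907 2)) (.leaf (.up 3 1037 1))) (.node (.leaf (.up 6 290 1)) (.leaf (.up 1 5 1)))) (.node (.node (.leaf (.up 4 266 1)) (.leaf (.up 5 45 1))) (.node (.leaf (.up 3 1079 2)) (.leaf (.up 4 1061 1)))))) (.node (.node (.node (.node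 (.leaf (.up 5 1648 1)) (.leaf (.up 4 1832 0))) (.node (.leaf (.up 7 698 0)) (.leaf (.up 7 1944 2)))) (.node (.node (.leaf (.up 6 1112 0)) (.leaf (.up 5 1897 0))) (.node (.leaf (.up 6 1968 2)) (.leaf (.up 5 1919 1))))) (.node (.node (.node (.leaf (.up 4 426 1)) (.leaf (.up 6 141 1))) (.node (.leaf (.up 4 1395 0)) (.leaf (.up 6 1157 1)))) (.node (.node (.leaf (.up 6 242 2)) (.leaf (.up 5 160 0))) (.node (.leaf (.up 5 1330 0)) (.leaf (.up 3 165 1))))))) (.node (.node (.node (.node (.node (.leaf (.up 4 1775 0)) (.leaf (.up 4 2005 1))) (.node (.leaf (.up 7 762 1)) (.leaf (.up 5 989 1)))) (.node (.node (.leaf (.up 4 1874 2)) (.leaf (.up 4 1439 0))) (.node (.leaf (.up 1 13 0)) (.leaf (.up 5 2045 1))))) (.node (.node (.node (.leaf (.up 5 294 0)) (.leaf (.up 4 15 1))) (.node (.leaf (.up 6 1925 0)) (.leaf (.up 5 1204 0)))) (.node (.node (.leaf (.up 6 359 0)) (.leaf (.up 4 1924 2))) (.node (.leaf (.up 6 16 2)) (.leaf (.up 5 39 1)))))) (.node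 (.node (.node (.node (.leaf (.up 5 1067 2)) (.leaf (.up 5 853 1))) (.node (.leaf (.up 5 1720 2)) (.leaf (.up 2 959 2)))) (.node (.node (.leaf (.up 5 260 2)) (.leaf (.up 6 1909 1))) (.node (.leaf (.up 2 919 2)) (.leaf (.up 6 380 0))))) (.node (.node (.node (.leaf (.up 3 870 0)) (.leaf (.up 5 87 0))) (.node (.leaf (.up 6 1477 0)) (.leaf (.up 6 135 1)))) (.node (.node (.leaf (.up 5 1237 2)) (.leaf (.up 5 175 1))) (.node (.leaf (.up 6 1412 0)) (.leaf (.up 6 1717 0)))))))) (.node (.node (.node (.node (.node (.node (.leaf (.up 5 837 0)) (.leaf (.up 4 116 0))) (.node (.leaf (.up 6 1510 0)) (.leaf (.up 6 1751 0)))) (.node (.node (.leaf (.up 4 976 1)) (.leaf (.up 5 53 0))) (.node (.leaf (.up 5 1447 0)) (.leaf (.up 5 1791 1))))) (.node (.node (.node (.leaf (.up 1 42 1)) (.leaf (.up 6 1981 0))) (.node (.leaf (.up 4 517 2)) (.leaf (.up 6 1794 2)))) (.node (.node (.leaf (.up 3 1229 0)) (.leaf (.up 5 190 2))) (.node (.leaf (.up 1 2 1)) (.leaf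 (.up 3 557 2)))))) (.node (.node (.node (.node (.leaf (.up 6 261 0)) (.leaf (.up 6 564 0))) (.node (.leaf (.up 6 1958 0)) (.leaf (.up 5 1631 1)))) (.node (.node (.leaf (.up 6 324 0)) (.leaf (.up 5 1655 1))) (.node (.leaf (.up 7 856 1)) (.leaf (.up 4 426 2))))) (.node (.node (.node (.leaf (.up 3 1740 0)) (.leaf (.up 4 1533 0))) (.node (.leaf (.up 4 111 0)) (.leaf (.up 6 862 0)))) (.node (.node (.leaf (.up 5 1007 2)) (.leaf (.up 4 429 1))) (.node (.leaf (.up 6 46 0)) (.leaf (.up 4 799 0))))))) (.node (.node (.node (.node (.node (.leaf (.up 4 1010 1)) (.leaf (.up 5 725 1))) (.node (.leaf (.up 6 1011 2)) (.leaf (.up 7 1780 2)))) (.node (.node (.leaf (.up 3 1103 2)) (.leaf (.up 5 1781 1))) (.node (.leaf (.up 3 1297 0)) (.leaf (.up 6 765 1))))) (.node (.node (.node (.leaf (.up 5 1064 1)) (.leaf (.up 5 1295 1))) (.node (.leaf (.up 4 32 1)) (.leaf (.up 4 424 0)))) (.node (.node (.leaf (.up 5 8 1)) (.leaf (.up 4 303 1))) (.node (.leaf (.up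 6 781 2)) (.leaf (.up 7 489 0)))))) (.node (.node (.node (.node (.leaf (.up 3 1906 1)) (.leaf (.up 7 561 2))) (.node (.leaf (.up 6 1445 2)) (.leaf (.up 6 1057 0)))) (.node (.node (.leaf (.up 6 850 1)) (.leaf (.up 4 1822 2))) (.node (.leaf (.up 6 138 2)) (.leaf (.up 5 1661 1))))) (.node (.node (.node (.leaf (.up 5 1658 0)) (.leaf (.up 4 1355 0))) (.node (.leaf (.up 4 116 2)) (.leaf (.up 4 1395 2)))) (.node (.node (.leaf (.up 2 1992 2)) (.leaf (.up 5 719 2))) (.node (.leaf (.up 5 152 0)) (.leaf (.up 5 92 2))))))))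

noncomputable def vt5_7_0111 : Tr VStep :=
  .node (.node (.node (.node (.node (.node (.node (.leaf (.up 6 893 2)) (.leaf (.up 5 1658 2))) (.node (.leaf (.up 4 494 2)) (.leaf (.up 2 1257 2)))) (.node (.node (.leaf (.up 5 1369 1)) (.leaf (.up 5 853 2))) (.node (.leaf (.up 3 1217 2)) (.leaf (.up 4 118 1))))) (.node (.node (.node (.leaf (.up 5 1699 1)) (.leaf (.up 4 1924 1))) (.node (.leaf (.up 2 1087 2)) (.leaf (.up 6 908 1)))) (.node (.node (.leaf (.up 6 587 0)) (.leaf (.up 4 932 1))) (.node (.leaf (.up 5 1256 0)) (.leaf (.up 5 2009 0)))))) (.node (.node (.node (.node (.leaf (.up 4 1323 2)) (.leaf (.up 5 1246 1))) (.node (.leaf (.up 5 288 0)) (.leaf (.up 4 703 2)))) (.node (.node (.leaf (.up 4 1986 0)) (.leaf (.up 6 1283 2))) (.node (.leaf (.up 4 1489 1)) (.leaf (.up 5 1270 1))))) (.node (.node (.node (.leaf (.up 4 250 2)) (.leaf (.up 2 891 0))) (.node (.leaf (.up 6 617 2)) (.leaf (.up 4 1902 2)))) (.node (.node (.leaf (.up 6 1493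 2)) (.leaf (.up 6 210 2))) (.node (.leaf (.up 6 1862 2)) (.leaf (.up 5 577 2))))))) (.node (.node (.node (.node (.node (.leaf (.up 5 1397 0)) (.leaf (.up 2 1116 1))) (.node (.leaf (.up 3 371 1)) (.leaf (.up 5 206 2)))) (.node (.node (.leaf (.up 4 1332 0)) (.leaf (.up 3 1541 0))) (.node (.leaf (.up 2 919 0)) (.leaf (.up 5 1505 2))))) (.node (.node (.node (.leaf (.up 4 651 2)) (.leaf (.up 4 902 1))) (.node (.leaf (.up 3 24 2)) (.leaf (.up 6 1311 2)))) (.node (.node (.leaf (.up 6 765 0)) (.leaf (.up 4 675 2))) (.node (.leaf (.up 6 649 1)) (.leaf (.up 5 1903 0)))))) (.node (.node (.node (.node (.leaf (.up 3 1845 0)) (.leaf (.up 6 1028 0))) (.node (.leaf (.up 4 406 0)) (.leaf (.up 5 1236 1)))) (.node (.node (.leaf (.up 6 1059 2)) (.leaf (.up 6 292 2))) (.node (.leaf (.up 5 1712 2)) (.leaf (.up 3 951 2))))) (.node (.node (.node (.leaf (.up 7 1245 2)) (.leaf (.up 5 474 2))) (.node (.leaf (.up 5 1614 2)) (.leaf (.up 4 782 1)))) (.node (.node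 (.leaf (.up 3 513 1)) (.leaf (.up 2 806 1))) (.node (.leaf (.up 5 1545 1)) (.leaf (.up 3 1638 2)))))))) (.node (.node (.node (.node (.node (.node (.leaf (.up 4 1145 1)) (.leaf (.up 5 1383 2))) (.node (.leaf (.up 4 755 2)) (.leaf (.up 5 2036 2)))) (.node (.node (.leaf (.up 6 1359 2)) (.leaf (.up 6 72 2))) (.node (.leaf (.up 6 1105 1)) (.leaf (.up 3 731 2))))) (.node (.node (.node (.leaf (.up 6 1814 0)) (.leaf (.up 5 1063 0))) (.node (.leaf (.up 4 1826 2)) (.leaf (.up 3 1676 1)))) (.node (.node (.leaf (.up 7 1879 0)) (.leaf (.up 6 1126 0))) (.node (.leaf (.up 5 907 1)) (.leaf (.up 4 684 1)))))) (.node (.node (.node (.node (.leaf (.up 7 249 1)) (.leaf (.up 6 478 1))) (.node (.leaf (.up 7 1265 1)) (.leaf (.up 5 1494 1)))) (.node (.node (.leaf (.up 6 793 2)) (.leaf (.up 6 1566 2))) (.node (.leaf (.up 5 1149 0)) (.leaf (.up 3 502 1))))) (.node (.node (.node (.leaf (.up 4 1827 1)) (.leaf (.up 4 1760 2))) (.node (.leaf (.up 5 372 2)) (.leaf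 (.up 6 196 0)))) (.node (.node (.leaf (.up 5 1736 2)) (.leaf (.up 6 548 1))) (.node (.leaf (.up 5 948 0)) (.leaf (.up 5 133 0))))))) (.node (.node (.node (.node (.node (.leaf (.up 5 105 0)) (.leaf (.up 4 320 2))) (.node (.leaf (.up 5 1748 2)) (.leaf (.up 6 1531 0)))) (.node (.node (.leaf (.up 7 1115 1)) (.leaf (.up 6 1404 1))) (.node (.leaf (.up 6 1019 2)) (.leaf (.up 5 372 1))))) (.node (.node (.node (.leaf (.up 4 406 2)) (.leaf (.up 2 1670 1))) (.node (.leaf (.up 5 937 1)) (.leaf (.up 3 1538 2)))) (.node (.node (.leaf (.up 5 1209 2)) (.leaf (.up 5 1232 0))) (.node (.leaf (.up 5 322 0)) (.leaf (.up 7 627 0)))))) (.node (.node (.node (.node (.leaf (.up 7 529 2)) (.leaf (.up 6 1500 1))) (.node (.leaf (.up 4 130 2)) (.leaf (.up 7 1413 2)))) (.node (.node (.leaf (.up 6 1854 2)) (.leaf (.up 7 508 1))) (.node (.leaf (.up 6 1235 1)) (.leaf (.up 7 2042 0))))) (.node (.node (.node (.leaf (.up 6 1984 2)) (.leaf (.up 5 711 2))) (.node (.leaf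 (.up 4 835 0)) (.leaf (.up 3 1550 1)))) (.node (.node (.leaf (.up 5 1441 0)) (.leaf (.up 6 1574 1))) (.node (.leaf (.up 4 770 0)) (.leaf (.up 4 558 1))))))))

noncomputable def vt5_7_011 : Tr VStep := .node vt5_7_0110 vt5_7_0111

noncomputable def vt5_7_01 : Tr VStep := .node vt5_7_010 vt5_7_011

noncomputable def vt5_7_0 : Tr VStep := .node vt5_7_00 vt5_7_01

noncomputable def vt5_7_1000 : Tr VStep :=
  .node (.node (.node (.node (.node (.node (.node (.leaf (.root 2408)) (.leaf (.up 5 1653 2))) (.node (.leaf (.up 2 2019 0)) (.leaf (.up 6 1234 0)))) (.node (.node (.leaf (.up 4 469 1)) (.leaf (.up 5 858 2))) (.node (.leaf (.up 3 1230 2)) (.leaf (.up 4 1274 1))))) (.node (.node (.node (.leaf (.up 4 1673 0)) (.leaf (.up 4 932 2))) (.node (.leaf (.up 1 42 0)) (.leaf (.up 6 1792 1)))) (.node (.node (.leaf (.up 5 1736 0)) (.leaf (.up 4 1832 1))) (.node (.leaf (.up 5 519 1)) (.leaf (.up 5 858 0)))))) (.node (.node (.node (.node (.leaf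 (.up 6 768 0)) (.leaf (.up 7 35 2))) (.node (.leaf (.up 4 1975 2)) (.leaf (.up 5 1114 1)))) (.node (.node (.leaf (.up 7 11 2)) (.leaf (.up 5 112 0))) (.node (.leaf (.up 6 1506 0)) (.leaf (.up 2 1951 2))))) (.node (.node (.node (.leaf (.up 6 1711 1)) (.leaf (.up 2 1522 2))) (.node (.leaf (.up 6 618 0)) (.leaf (.up 5 896 1)))) (.node (.node (.leaf (.up 7 655 1)) (.leaf (.up 4 1977 0))) (.node (.leaf (.up 5 555 0)) (.leaf (.up 5 1952 1))))))) (.node (.node (.node (.node (.node (.leaf (.up 3 502 0)) (.leaf (.up 5 208 1))) (.node (.leaf (.up 6 1478 2)) (.leaf (.up 6 1240 1)))) (.node (.node (.leaf (.up 6 439 0)) (.leaf (.up 6 1264 1))) (.node (.leaf (.up 5 1812 0)) (.leaf (.up 3 1518 2))))) (.node (.node (.node (.leaf (.up 2 1581 1)) (.leaf (.up 6 1294 0))) (.node (.leaf (.up 4 549 1)) (.leaf (.up 4 770 1)))) (.node (.node (.leaf (.up 6 1963 2)) (.leaf (.up 4 684 2))) (.node (.leaf (.up 3 1541 1)) (.leaf (.up 4 1826 1)))))) (.node (.node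 (.node (.node (.leaf (.up 5 1399 1)) (.leaf (.up 4 1104 1))) (.node (.leaf (.up 4 1301 0)) (.leaf (.up 6 1687 2)))) (.node (.node (.leaf (.up 6 1068 2)) (.leaf (.up 5 198 0))) (.node (.leaf (.up 5 1727 2)) (.leaf (.up 4 1144 1))))) (.node (.node (.node (.leaf (.up 6 1234 2)) (.leaf (.up 4 469 2))) (.node (.leaf (.up 5 1701 1)) (.leaf (.up 4 1922 1)))) (.node (.node (.leaf (.up 5 1086 0)) (.leaf (.up 4 1274 2))) (.node (.leaf (.up 6 669 0)) (.leaf (.up 5 930 1)))))))) (.node (.node (.node (.node (.node (.node (.leaf (.up 2 1116 0)) (.leaf (.up 4 1384 2))) (.node (.leaf (.up 6 767 0)) (.leaf (.up 7 462 0)))) (.node (.node (.leaf (.up 5 1344 2)) (.leaf (.up 2 1522 1))) (.node (.leaf (.up 6 221 1)) (.leaf (.up 5 399 0))))) (.node (.node (.node (.leaf (.up 5 917 0)) (.leaf (.up 3 164 0))) (.node (.leaf (.up 6 1837 2)) (.leaf (.up 4 512 1)))) (.node (.node (.leaf (.up 2 783 1)) (.leaf (.up 6 1430 2))) (.node (.leaf (.up 5 1799 1)) (.leaf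 (.up 6 1797 2)))))) (.node (.node (.node (.node (.leaf (.up 5 1564 0)) (.leaf (.up 5 1362 1))) (.node (.leaf (.up 5 191 0)) (.leaf (.up 4 429 2)))) (.node (.node (.leaf (.up 6 790 2)) (.leaf (.up 6 370 1))) (.node (.leaf (.up 5 1117 1)) (.leaf (.up 5 1402 1))))) (.node (.node (.node (.leaf (.up 4 469 0)) (.leaf (.up 4 1775 2))) (.node (.leaf (.up 4 379 2)) (.leaf (.up 6 1664 1)))) (.node (.node (.leaf (.up 6 404 0)) (.leaf (.up 3 677 0))) (.node (.leaf (.up 5 1847 0)) (.leaf (.up 5 1030 0))))))) (.node (.node (.node (.node (.node (.leaf (.up 6 1271 1)) (.leaf (.up 4 335 2))) (.node (.leaf (.up 6 585 0)) (.leaf (.up 6 376 0)))) (.node (.node (.leaf (.up 5 215 1)) (.leaf (.up 2 496 1))) (.node (.leaf (.up 6 1012 2)) (.leaf (.up 3 1779 2))))) (.node (.node (.node (.leaf (.up 6 803 0)) (.leaf (.up 5 522 1))) (.node (.leaf (.up 5 1829 1)) (.leaf (.up 3 1538 1)))) (.node (.node (.leaf (.up 5 866 0)) (.leaf (.up 6 433 2))) (.node (.leaf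 (.up 5 1473 0)) (.leaf (.up 6 546 1)))))) (.node (.node (.node (.node (.leaf (.up 5 542 2)) (.leaf (.up 5 1817 2))) (.node (.leaf (.up 6 141 2)) (.leaf (.up 7 1368 1)))) (.node (.node (.leaf (.up 4 1841 2)) (.leaf (.up 6 1392 1))) (.node (.leaf (.up 5 1442 2)) (.leaf (.up 3 165 2))))) (.node (.node (.node (.leaf (.up 5 1965 1)) (.leaf (.up 6 1674 1))) (.node (.leaf (.up 2 1372 2)) (.leaf (.up 6 91 2)))) (.node (.node (.leaf (.up 5 736 2)) (.leaf (.up 7 531 0))) (.node (.leaf (.up 6 1921 0)) (.leaf (.up 3 1698 1))))))))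

noncomputable def vt5_7_1001 : Tr VStep :=
  .node (.node (.node (.node (.node (.node (.node (.leaf (.up 6 1660 1)) (.leaf (.up 6 850 2))) (.node (.leaf (.up 4 1145 0)) (.leaf (.up 4 851 1)))) (.node (.node (.leaf (.up 6 667 0)) (.leaf (.up 2 891 1))) (.node (.leaf (.up 6 1620 1)) (.leaf (.up 5 1907 1))))) (.node (.node (.node (.leaf (.up 6 900 2)) (.leaf (.up 5 129 1))) (.node (.leaf (.up 5 1454 1)) (.leaf (.up 3 1040 2)))) (.node (.node (.leaf (.up 5 1362 0)) (.leaf (.up 4 940 2))) (.node (.leaf (.up 7 398 1)) (.leaf (.up 5 192 0)))))) (.node (.node (.node (.node (.leaf (.up 1 3 2)) (.leaf (.up 6 1284 2))) (.node (.leaf (.up 5 1593 0)) (.leaf (.up 6 1943 2)))) (.node (.node (.leaf (.up 6 1324 2)) (.leaf (.up 6 43 2))) (.node (.leaf (.up 6 724 1)) (.leaf (.up 6 696 2))))) (.node (.node (.node (.leaf (.up 4 1875 0)) (.leaf (.up 6 1025 1))) (.node (.leaf (.up 2 496 0)) (.leaf (.up 7 9 1)))) (.node (.node (.leaf (.up 4 1810 0)) (.leaf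 (.up 4 33 1))) (.node (.leaf (.up 5 622 2)) (.leaf (.up 5 1897 2))))))) (.node (.node (.node (.node (.node (.leaf (.up 5 638 1)) (.leaf (.up 6 1909 2))) (.node (.leaf (.up 6 1231 0)) (.leaf (.up 5 2046 0)))) (.node (.node (.leaf (.up 3 557 0)) (.leaf (.up 4 1913 1))) (.node (.leaf (.up 5 1166 0)) (.leaf (.up 5 201 2))))) (.node (.node (.node (.leaf (.up 6 1445 0)) (.leaf (.up 4 1155 1))) (.node (.leaf (.up 6 428 1)) (.leaf (.up 4 139 1)))) (.node (.node (.leaf (.up 6 388 1)) (.leaf (.up 6 163 1))) (.node (.leaf (.up 4 839 0)) (.leaf (.up 4 118 0)))))) (.node (.node (.node (.node (.leaf (.up 4 1790 1)) (.leaf (.up 5 797 0))) (.node (.leaf (.up 5 758 1)) (.leaf (.up 6 977 1)))) (.node (.node (.leaf (.up 5 267 2)) (.leaf (.up 7 860 0))) (.node (.leaf (.up 5 1742 0)) (.leaf (.up 4 2033 1))))) (.node (.node (.node (.leaf (.up 5 2021 0)) (.leaf (.up 1 3 1))) (.node (.leaf (.up 3 870 2)) (.leaf (.up 7 631 0)))) (.node (.node (.leaf (.up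 6 1284 1)) (.leaf (.up 6 1059 1))) (.node (.leaf (.up 7 1609 2)) (.leaf (.up 5 846 2)))))))) (.node (.node (.node (.node (.node (.node (.leaf (.up 4 1990 0)) (.leaf (.up 6 1271 0))) (.node (.leaf (.up 5 2011 2)) (.leaf (.up 5 732 2)))) (.node (.node (.leaf (.up 4 103 2)) (.leaf (.up 6 1376 2))) (.node (.leaf (.up 5 756 2)) (.leaf (.up 4 2035 2))))) (.node (.node (.node (.leaf (.up 4 15 0)) (.leaf (.up 5 1409 1))) (.node (.leaf (.up 5 522 2)) (.leaf (.up 6 1437 0)))) (.node (.node (.leaf (.up 5 78 0)) (.leaf (.up 7 177 2))) (.node (.leaf (.up 5 1166 1)) (.leaf (.up 6 546 2)))))) (.node (.node (.node (.node (.leaf (.up 6 1414 0)) (.leaf (.up 6 1561 2))) (.node (.leaf (.up 6 1012 1)) (.leaf (.up 4 1162 2)))) (.node (.node (.leaf (.up 6 988 1)) (.leaf (.up 4 822 2))) (.node (.leaf (.up 5 868 0)) (.leaf (.up 3 1779 1))))) (.node (.node (.node (.leaf (.up 4 591 0)) (.leaf (.up 5 257 1))) (.node (.leaf (.up 2 1116 2)) (.leaf (.up 3 1289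 1)))) (.node (.node (.leaf (.up 5 526 0)) (.leaf (.up 7 319 0))) (.node (.leaf (.up 3 371 2)) (.leaf (.up 4 297 1))))))) (.node (.node (.node (.node (.node (.leaf (.up 6 367 2)) (.leaf (.up 5 1625 1))) (.node (.leaf (.up 7 886 1)) (.leaf (.up 4 738 0)))) (.node (.node (.leaf (.up 4 1841 0)) (.leaf (.up 5 327 2))) (.node (.leaf (.up 5 1747 2)) (.leaf (.up 4 675 0))))) (.node (.node (.node (.leaf (.up 3 1214 2)) (.leaf (.up 4 441 2))) (.node (.leaf (.up 2 1581 2)) (.leaf (.up 4 1323 0)))) (.node (.node (.leaf (.up 3 401 2)) (.leaf (.up 5 1443 1))) (.node (.leaf (.up 4 770 2)) (.leaf (.up 3 1541 2)))))) (.node (.node (.node (.node (.leaf (.up 5 1849 2)) (.leaf (.up 3 729 1))) (.node (.leaf (.up 6 2038 1)) (.leaf (.up 3 173 2)))) (.node (.node (.leaf (.up 6 2014 1)) (.leaf (.up 6 1600 0))) (.node (.leaf (.up 5 133 2)) (.leaf (.up 3 753 1))))) (.node (.node (.node (.leaf (.up 6 1060 1)) (.leaf (.up 5 456 0))) (.node (.leaf (.up 5 1114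 0)) (.leaf (.up 5 267 1)))) (.node (.node (.leaf (.up 6 4 1)) (.leaf (.up 6 393 0))) (.node (.leaf (.up 7 1364 2)) (.leaf (.up 4 1323 1))))))))

noncomputable def vt5_7_100 : Tr VStep := .node vt5_7_1000 vt5_7_1001

noncomputable def vt5_7_1010 : Tr VStep :=
  .node (.node (.node (.node (.node (.node (.node (.leaf (.root 1832)) (.leaf (.up 7 1413 0))) (.node (.leaf (.up 3 1040 1)) (.leaf (.up 2 806 0)))) (.node (.node (.leaf (.up 5 1781 0)) (.leaf (.up 6 1476 0))) (.node (.leaf (.up 7 425 2)) (.leaf (.up 5 1198 2))))) (.node (.node (.node (.leaf (.up 4 1986 1)) (.leaf (.up 5 588 0))) (.node (.leaf (.up 6 2014 0)) (.leaf (.up 4 1104 2)))) (.node (.node (.leaf (.up 7 316 0)) (.leaf (.up 6 1004 2))) (.node (.leaf (.up 2 1951 0)) (.leaf (.up 5 1741 1)))))) (.node (.node (.node (.node (.leaf (.up 6 1176 1)) (.leaf (.up 6 1348 2))) (.node (.leaf (.up 6 720 2)) (.leaf (.up 6 439 1)))) (.node (.node (.leaf (.up 7 184 1)) (.leaf (.up 4 1924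 0))) (.node (.leaf (.up 4 2047 2)) (.leaf (.up 5 295 0))))) (.node (.node (.node (.leaf (.up 4 829 0)) (.leaf (.up 4 613 1))) (.node (.leaf (.up 5 1793 2)) (.leaf (.up 5 518 2)))) (.node (.node (.leaf (.up 7 189 2)) (.leaf (.up 5 77 0))) (.node (.leaf (.up 4 558 2)) (.leaf (.up 5 1774 0))))))) (.node (.node (.node (.node (.node (.leaf (.up 2 1050 1)) (.leaf (.up 3 1845 2))) (.node (.leaf (.up 3 161 0)) (.leaf (.up 4 912 0)))) (.node (.node (.leaf (.up 5 1603 0)) (.leaf (.up 7 285 1))) (.node (.leaf (.up 5 1422 2)) (.leaf (.up 4 1301 1))))) (.node (.node (.node (.leaf (.up 2 2019 2)) (.leaf (.up 7 743 1))) (.node (.leaf (.up 2 1992 1)) (.leaf (.up 4 1775 1)))) (.node (.node (.leaf (.up 5 394 0)) (.leaf (.up 5 699 0))) (.node (.leaf (.up 6 1833 0)) (.leaf (.up 5 719 1)))))) (.node (.node (.node (.node (.leaf (.up 5 154 1)) (.leaf (.up 5 1907 0))) (.node (.leaf (.up 3 1170 1)) (.leaf (.up 5 1008 2)))) (.node (.node (.leaf (.up 4 1210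 1)) (.leaf (.up 6 1437 1))) (.node (.leaf (.up 6 672 0)) (.leaf (.up 3 401 0))))) (.node (.node (.node (.leaf (.up 5 907 0)) (.leaf (.up 5 1202 2))) (.node (.leaf (.up 2 806 2)) (.leaf (.up 5 623 1)))) (.node (.node (.leaf (.up 5 1178 2)) (.leaf (.up 5 413 2))) (.node (.leaf (.up 5 1545 2)) (.leaf (.up 4 782 2)))))))) (.node (.node (.node (.node (.node (.node (.leaf (.up 5 936 0)) (.leaf (.up 2 1087 1))) (.node (.leaf (.up 6 1291 0)) (.leaf (.up 2 668 2)))) (.node (.node (.leaf (.up 5 39 2)) (.leaf (.up 3 216 0))) (.node (.leaf (.up 3 692 2)) (.leaf (.up 5 1971 2))))) (.node (.node (.node (.leaf (.up 5 1121 0)) (.leaf (.up 6 997 1))) (.node (.leaf (.up 6 586 2)) (.leaf (.up 6 2029 1)))) (.node (.node (.leaf (.up 6 1056 0)) (.leaf (.up 6 241 2))) (.node (.leaf (.up 4 1893 2)) (.leaf (.up 3 610 2)))))) (.node (.node (.node (.node (.leaf (.up 6 488 0)) (.leaf (.up 3 729 0))) (.node (.leaf (.up 5 461 2)) (.leaf (.up 6 1226 2)))) (.node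 (.node (.leaf (.up 6 1464 1)) (.leaf (.up 6 1183 1))) (.node (.leaf (.up 4 1250 2)) (.leaf (.up 6 151 1))))) (.node (.node (.node (.leaf (.up 6 1679 2)) (.leaf (.up 4 1893 1))) (.node (.leaf (.up 4 130 0)) (.leaf (.up 6 877 1)))) (.node (.node (.leaf (.up 3 610 1)) (.leaf (.up 5 837 1))) (.node (.leaf (.up 5 1642 1)) (.leaf (.up 3 1076 2))))))) (.node (.node (.node (.node (.node (.leaf (.up 4 303 2)) (.leaf (.up 3 61 1))) (.node (.leaf (.up 6 1298 1)) (.leaf (.up 3 1676 0)))) (.node (.node (.leaf (.up 5 1338 1)) (.leaf (.up 4 110 0))) (.node (.leaf (.up 6 1532 0)) (.leaf (.up 2 916 2))))) (.node (.node (.node (.leaf (.up 6 1239 0)) (.leaf (.up 7 505 2))) (.node (.leaf (.up 6 1645 2)) (.leaf (.up 5 874 2)))) (.node (.node (.leaf (.up 5 736 1)) (.leaf (.up 4 967 1))) (.node (.leaf (.up 6 834 2)) (.leaf (.up 5 260 0)))))) (.node (.node (.node (.node (.leaf (.up 4 1913 2)) (.leaf (.up 5 638 2))) (.node (.leaf (.up 5 2045 0)) (.leaf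 (.up 4 237 2)))) (.node (.node (.leaf (.up 7 287 0)) (.leaf (.up 4 558 0))) (.node (.leaf (.up 5 197 2)) (.leaf (.up 5 1474 2))))) (.node (.node (.node (.leaf (.up 6 1687 0)) (.leaf (.up 5 1446 0))) (.node (.leaf (.up 7 1608 1)) (.leaf (.up 4 1340 2)))) (.node (.node (.leaf (.up 6 1632 1)) (.leaf (.up 5 1863 1))) (.node (.leaf (.up 5 117 0)) (.leaf (.up 5 847 1))))))))

noncomputable def vt5_7_1011 : Tr VStep :=
  .node (.node (.node (.node (.node (.node (.node (.leaf (.root 2436)) (.leaf (.up 2 1567 0))) (.node (.leaf (.up 7 1945 1)) (.leaf (.up 4 1726 1)))) (.node (.node (.leaf (.up 7 1565 2)) (.leaf (.up 6 1630 0))) (.node (.leaf (.up 5 1166 2)) (.leaf (.up 5 670 1))))) (.node (.node (.node (.leaf (.up 5 1099 1)) (.leaf (.up 6 996 2))) (.node (.leaf (.up 6 1092 0)) (.leaf (.up 5 356 1)))) (.node (.node (.leaf (.up 7 107 1)) (.leaf (.up 4 332 1))) (.node (.leaf (.up 6 1123 1)) (.leaf (.up 6 1348 1)))))) (.node (.node (.node (.node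 (.leaf (.up 4 1902 0)) (.leaf (.up 5 1119 0))) (.node (.leaf (.up 5 461 0)) (.leaf (.up 6 574 1)))) (.node (.node (.leaf (.up 7 1839 0)) (.leaf (.up 6 1054 0))) (.node (.leaf (.up 5 1849 1)) (.leaf (.up 5 701 0))))) (.node (.node (.node (.leaf (.up 5 167 0)) (.leaf (.up 2 918 0))) (.node (.leaf (.up 5 1540 0)) (.leaf (.up 4 1825 2)))) (.node (.node (.leaf (.up 4 1259 1)) (.leaf (.up 6 157 2))) (.node (.leaf (.up 6 1801 2)) (.leaf (.up 5 526 2))))))) (.node (.node (.node (.node (.node (.leaf (.up 4 1939 1)) (.leaf (.up 2 1716 1))) (.node (.leaf (.up 2 923 1)) (.leaf (.up 1 10 0)))) (.node (.node (.leaf (.up 6 947 1)) (.leaf (.up 5 660 1))) (.node (.leaf (.up 7 169 2)) (.leaf (.up 5 1454 2))))) (.node (.node (.node (.leaf (.up 2 73 1)) (.leaf (.up 6 352 0))) (.node (.leaf (.up 5 87 2)) (.leaf (.up 6 1987 0)))) (.node (.node (.leaf (.up 3 528 0)) (.leaf (.up 6 748 2))) (.node (.leaf (.up 6 97 1)) (.leaf (.up 4 1922 0)))))) (.node (.node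 (.node (.node (.leaf (.up 6 323 2)) (.leaf (.up 2 1257 0))) (.node (.leaf (.up 4 379 0)) (.leaf (.up 5 1596 1)))) (.node (.node (.leaf (.up 7 1945 0)) (.leaf (.up 6 363 2))) (.node (.leaf (.up 5 827 1)) (.leaf (.up 6 540 1))))) (.node (.node (.node (.leaf (.up 3 17 0)) (.leaf (.up 3 1518 1))) (.node (.leaf (.up 7 1537 2)) (.leaf (.up 6 486 1)))) (.node (.node (.leaf (.up 6 80 0)) (.leaf (.up 4 1210 2))) (.node (.leaf (.up 3 1779 0)) (.leaf (.up 5 1474 0)))))))) (.node (.node (.node (.node (.node (.node (.leaf (.up 3 50 0)) (.leaf (.up 6 1320 2))) (.node (.leaf (.up 5 1681 0)) (.leaf (.up 6 958 1)))) (.node (.node (.leaf (.up 6 689 1)) (.leaf (.up 2 918 1))) (.node (.leaf (.up 4 1939 2)) (.leaf (.up 5 1950 1))))) (.node (.node (.node (.leaf (.up 5 331 1)) (.leaf (.up 5 108 1))) (.node (.leaf (.up 5 1347 1)) (.leaf (.up 6 617 0)))) (.node (.node (.leaf (.up 4 1387 1)) (.leaf (.up 5 1494 2))) (.node (.leaf (.up 5 355 1)) (.leaf (.up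 6 1861 2)))))) (.node (.node (.node (.node (.leaf (.up 4 1657 2)) (.leaf (.up 4 822 1))) (.node (.leaf (.up 5 1233 0)) (.leaf (.up 6 2016 0)))) (.node (.node (.leaf (.up 6 563 0)) (.leaf (.up 5 1617 2))) (.node (.leaf (.up 6 1168 0)) (.leaf (.up 5 1953 0))))) (.node (.node (.node (.leaf (.up 5 936 2)) (.leaf (.up 6 1260 1))) (.node (.leaf (.up 6 792 0)) (.leaf (.up 6 41 0)))) (.node (.node (.leaf (.up 6 491 1)) (.leaf (.up 5 896 2))) (.node (.leaf (.up 4 1507 1)) (.leaf (.up 5 1220 1))))))) (.node (.node (.node (.node (.node (.leaf (.up 2 659 1)) (.leaf (.up 5 948 1))) (.node (.leaf (.up 2 1691 1)) (.leaf (.up 6 1302 0)))) (.node (.node (.leaf (.up 5 197 0)) (.leaf (.up 6 1056 2))) (.node (.leaf (.up 3 1638 0)) (.leaf (.up 6 1715 2))))) (.node (.node (.node (.leaf (.up 6 1869 0)) (.leaf (.up 5 1246 2))) (.node (.leaf (.up 4 494 0)) (.leaf (.up 6 102 1)))) (.node (.node (.leaf (.up 5 1270 2)) (.leaf (.up 5 78 1))) (.node (.leaf (.up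 6 1377 1)) (.leaf (.up 5 670 0)))))) (.node (.node (.node (.node (.leaf (.up 6 708 0)) (.leaf (.up 4 1881 2))) (.node (.leaf (.up 6 205 2)) (.leaf (.up 4 1482 2)))) (.node (.node (.leaf (.up 4 1905 2)) (.leaf (.up 6 436 0))) (.node (.leaf (.up 5 1062 0)) (.leaf (.up 6 1815 0))))) (.node (.node (.node (.leaf (.up 5 457 1)) (.leaf (.up 5 1596 0))) (.node (.leaf (.up 5 1473 1)) (.leaf (.up 4 159 0)))) (.node (.node (.leaf (.up 6 672 2)) (.leaf (.up 3 1230 1))) (.node (.leaf (.up 5 1007 0)) (.leaf (.up 4 1332 2))))))))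

noncomputable def vt5_7_101 : Tr VStep := .node vt5_7_1010 vt5_7_1011

noncomputable def vt5_7_10 : Tr VStep := .node vt5_7_100 vt5_7_101

noncomputable def vt5_7_1100 : Tr VStep :=
  .node (.node (.node (.node (.node (.node (.node (.leaf (.root 1368)) (.leaf (.up 6 338 2))) (.node (.leaf (.up 5 1614 0)) (.leaf (.up 6 1407 0)))) (.node (.node (.leaf (.up 5 609 1)) (.leaf (.up 5 1149 2))) (.node (.leaf (.up 7 1551 0)) (.leaf (.up 5 1774 2))))) (.node (.node (.node (.leaf (.up 5 411 1)) (.leaf (.up 3 1045 0))) (.node (.leaf (.up 5 1427 1)) (.leaf (.up 5 1552 2)))) (.node (.node (.leaf (.up 4 1893 0)) (.leaf (.up 6 428 2))) (.node (.leaf (.up 6 1592 2)) (.leaf (.up 7 759 0)))))) (.node (.node (.node (.node (.leaf (.up 6 685 0)) (.leaf (.up 4 412 0))) (.node (.leaf (.up 6 144 2)) (.leaf (.up 4 2030 1)))) (.node (.node (.leaf (.up 5 1761 1)) (.leaf (.up 4 1990 1))) (.node (.leaf (.up 3 1103 0)) (.leaf (.up 7 974 1))))) (.node (.node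 (.node (.leaf (.up 4 1380 0)) (.leaf (.up 5 725 2))) (.node (.leaf (.up 4 967 0)) (.leaf (.up 6 70 2)))) (.node (.node (.leaf (.up 6 765 2)) (.leaf (.up 6 28 1))) (.node (.leaf (.up 4 902 0)) (.leaf (.up 5 183 0))))))) (.node (.node (.node (.node (.node (.leaf (.up 6 91 0)) (.leaf (.up 5 868 1))) (.node (.leaf (.up 6 737 2)) (.leaf (.up 3 1900 1)))) (.node (.node (.leaf (.up 6 1373 2)) (.leaf (.up 5 90 2))) (.node (.leaf (.up 5 619 1)) (.leaf (.up 3 713 2))))) (.node (.node (.node (.leaf (.up 5 1443 2)) (.leaf (.up 3 1214 1))) (.node (.leaf (.up 3 401 1)) (.leaf (.up 4 567 2)))) (.node (.node (.leaf (.up 4 441 1)) (.leaf (.up 4 1250 0))) (.node (.leaf (.up 6 543 2)) (.leaf (.up 5 577 0)))))) (.node (.node (.node (.node (.leaf (.up 6 1572 2)) (.leaf (.up 5 298 0))) (.node (.leaf (.up 6 715 1)) (.leaf (.up 6 432 2)))) (.node (.node (.leaf (.up 4 739 1)) (.leaf (.up 6 363 0))) (.node (.leaf (.up 6 408 2)) (.leaf (.up 2 1992 0)))))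 (.node (.node (.node (.leaf (.up 5 281 1)) (.leaf (.up 6 1763 0))) (.node (.leaf (.up 3 1297 1)) (.leaf (.up 5 1121 2)))) (.node (.node (.leaf (.up 5 1427 0)) (.leaf (.up 3 1698 0))) (.node (.leaf (.up 6 305 1)) (.leaf (.up 1 1 0)))))))) (.node (.node (.node (.node (.node (.node (.leaf (.up 7 833 1)) (.leaf (.up 4 591 2))) (.node (.leaf (.up 6 850 0)) (.leaf (.up 6 1646 1)))) (.node (.node (.leaf (.up 5 1456 0)) (.leaf (.up 6 1888 2))) (.node (.leaf (.up 6 873 1)) (.leaf (.up 5 34 0))))) (.node (.node (.node (.leaf (.up 3 1179 1)) (.leaf (.up 5 1950 2))) (.node (.leaf (.up 1 10 2)) (.leaf (.up 6 436 1)))) (.node (.node (.leaf (.up 7 187 1)) (.leaf (.up 4 412 1))) (.node (.leaf (.up 6 1203 1)) (.leaf (.up 3 2027 0)))))) (.node (.node (.node (.node (.leaf (.up 6 1985 1)) (.leaf (.up 7 1766 1))) (.node (.leaf (.up 6 969 1)) (.leaf (.up 6 750 1)))) (.node (.node (.leaf (.up 5 1073 2)) (.leaf (.up 3 1217 0))) (.node (.leaf (.up 3 1698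 2)) (.leaf (.up 3 610 0))))) (.node (.node (.node (.leaf (.up 6 1231 2)) (.leaf (.up 5 456 2))) (.node (.leaf (.up 5 1043 1)) (.leaf (.up 4 859 2)))) (.node (.node (.leaf (.up 6 1083 1)) (.leaf (.up 6 1308 1))) (.node (.leaf (.up 7 51 1)) (.leaf (.up 6 276 1))))))) (.node (.node (.node (.node (.node (.leaf (.up 6 879 2)) (.leaf (.up 3 1636 1))) (.node (.leaf (.up 5 843 1)) (.leaf (.up 7 213 0)))) (.node (.node (.leaf (.up 6 1600 2)) (.leaf (.up 4 839 2))) (.node (.leaf (.up 6 1235 2)) (.leaf (.up 6 1612 1))))) (.node (.node (.node (.leaf (.up 3 654 0)) (.leaf (.up 5 953 2))) (.node (.leaf (.up 3 1069 0)) (.leaf (.up 5 298 2)))) (.node (.node (.leaf (.up 5 719 0)) (.leaf (.up 6 510 0))) (.node (.leaf (.up 5 258 2)) (.leaf (.up 4 406 1)))))) (.node (.node (.node (.node (.leaf (.up 5 1799 0)) (.leaf (.up 6 1078 0))) (.node (.leaf (.up 6 1962 2)) (.leaf (.up 6 685 2)))) (.node (.node (.leaf (.up 2 2019 1)) (.leaf (.up 3 1297 2))) (.node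 (.leaf (.up 6 485 0)) (.leaf (.up 4 1922 2))))) (.node (.node (.node (.leaf (.up 5 206 0)) (.leaf (.up 6 1519 2))) (.node (.leaf (.up 3 17 1)) (.leaf (.up 2 1372 0)))) (.node (.node (.leaf (.up 5 143 0)) (.leaf (.up 5 192 2))) (.node (.leaf (.up 5 1073 1)) (.leaf (.up 3 1309 0))))))))

noncomputable def vt5_7_1101 : Tr VStep :=
  .node (.node (.node (.node (.node (.node (.node (.leaf (.up 6 370 2)) (.leaf (.up 6 1141 2))) (.node (.leaf (.up 6 1492 0)) (.leaf (.up 6 231 1)))) (.node (.node (.leaf (.up 4 822 0)) (.leaf (.up 5 7 0))) (.node (.leaf (.up 5 1742 2)) (.leaf (.up 6 969 2))))) (.node (.node (.node (.leaf (.up 3 1214 0)) (.leaf (.up 6 420 2))) (.node (.leaf (.up 3 1562 1)) (.leaf (.up 6 300 0)))) (.node (.node (.leaf (.up 6 1279 0)) (.leaf (.up 6 1998 0))) (.node (.leaf (.up 4 799 2)) (.leaf (.up 5 797 1)))))) (.node (.node (.node (.node (.leaf (.up 6 328 1)) (.leaf (.up 4 111 1))) (.node (.leaf (.up 5 1344 1)) (.leaf (.up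 6 1127 1)))) (.node (.node (.leaf (.up 4 1384 1)) (.leaf (.up 3 1103 1))) (.node (.leaf (.up 4 2005 0)) (.leaf (.up 4 1439 2))))) (.node (.node (.node (.leaf (.up 4 1790 0)) (.leaf (.up 6 1487 0))) (.node (.leaf (.up 5 93 0)) (.leaf (.up 6 1377 2)))) (.node (.node (.leaf (.up 5 1727 0)) (.leaf (.up 5 917 1))) (.node (.leaf (.up 4 1722 1)) (.leaf (.up 5 78 2))))))) (.node (.node (.node (.node (.node (.leaf (.up 5 458 1)) (.leaf (.up 4 237 1))) (.node (.leaf (.up 4 1990 2)) (.leaf (.up 6 1253 1)))) (.node (.node (.leaf (.up 5 896 0)) (.leaf (.up 3 1229 1))) (.node (.leaf (.up 4 745 2)) (.leaf (.up 4 2030 2))))) (.node (.node (.node (.leaf (.up 4 132 2)) (.leaf (.up 5 1847 1))) (.node (.leaf (.up 4 536 1)) (.leaf (.up 6 410 0)))) (.node (.node (.leaf (.up 6 560 1)) (.leaf (.up 6 1912 0))) (.node (.leaf (.up 6 1592 1)) (.leaf (.up 5 1823 1)))))) (.node (.node (.node (.node (.leaf (.up 6 385 0)) (.leaf (.up 3 1133 1))) (.node (.leaf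 (.up 4 1826 0)) (.leaf (.up 5 1043 0)))) (.node (.node (.leaf (.up 5 1580 2)) (.leaf (.up 3 753 0))) (.node (.leaf (.up 3 1891 0)) (.leaf (.up 6 1106 0))))) (.node (.node (.node (.leaf (.up 5 1746 2)) (.leaf (.up 3 951 1))) (.node (.leaf (.up 6 235 0)) (.leaf (.up 7 986 0)))) (.node (.node (.leaf (.up 5 1712 1)) (.leaf (.up 6 1336 0))) (.node (.leaf (.up 6 696 1)) (.leaf (.up 2 923 0)))))))) (.node (.node (.node (.node (.node (.node (.leaf (.up 5 623 2)) (.leaf (.up 6 1896 2))) (.node (.leaf (.up 6 1216 1)) (.leaf (.up 5 1511 1)))) (.node (.node (.leaf (.up 5 1256 1)) (.leaf (.up 6 1487 1))) (.node (.leaf (.up 7 224 1)) (.leaf (.up 5 455 1))))) (.node (.node (.node (.leaf (.up 4 1810 1)) (.leaf (.up 2 659 0))) (.node (.leaf (.up 5 1793 0)) (.leaf (.up 1 42 2)))) (.node (.node (.leaf (.up 4 818 1)) (.leaf (.up 4 1942 2))) (.node (.leaf (.up 1 2 2)) (.leaf (.up 6 1137 0)))))) (.node (.node (.node (.node (.leaf (.up 5 1067 0)) (.leaf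 (.up 6 1818 0))) (.node (.leaf (.up 6 64 1)) (.leaf (.up 4 441 0)))) (.node (.node (.leaf (.up 4 1130 0)) (.leaf (.up 4 335 1))) (.node (.leaf (.up 3 713 0)) (.leaf (.up 6 1351 1))))) (.node (.node (.node (.leaf (.up 6 488 2)) (.leaf (.up 7 693 1))) (.node (.leaf (.up 2 891 2)) (.leaf (.up 5 1648 0)))) (.node (.node (.leaf (.up 7 1970 1)) (.leaf (.up 7 1685 1))) (.node (.leaf (.up 6 954 1)) (.leaf (.up 4 851 2))))))) (.node (.node (.node (.node (.node (.leaf (.up 6 1226 1)) (.leaf (.up 5 847 2))) (.node (.leaf (.up 7 194 1)) (.leaf (.up 5 847 0)))) (.node (.node (.leaf (.up 6 234 1)) (.leaf (.up 5 461 1))) (.node (.leaf (.up 4 1250 1)) (.leaf (.up 4 782 0))))) (.node (.node (.node (.leaf (.up 6 921 2)) (.leaf (.up 4 567 1))) (.node (.leaf (.up 4 1975 0)) (.leaf (.up 3 1037 2)))) (.node (.node (.leaf (.up 5 1718 2)) (.leaf (.up 5 612 0))) (.node (.leaf (.up 4 1061 2)) (.leaf (.up 6 290 2)))))) (.node (.node (.node (.node (.leaf (.up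 5 30 2)) (.leaf (.up 7 1305 2))) (.node (.leaf (.up 6 574 0)) (.leaf (.up 6 1930 2)))) (.node (.node (.leaf (.up 3 1329 2)) (.leaf (.up 5 54 2))) (.node (.leaf (.up 1 98 1)) (.leaf (.up 3 677 2))))) (.node (.node (.node (.leaf (.up 5 852 0)) (.leaf (.up 6 101 0))) (.node (.leaf (.up 6 920 1)) (.leaf (.up 4 703 1)))) (.node (.node (.leaf (.up 4 789 0)) (.leaf (.up 5 1511 2))) (.node (.leaf (.up 5 1462 0)) (.leaf (.up 6 1908 2))))))))

noncomputable def vt5_7_110 : Tr VStep := .node vt5_7_1100 vt5_7_1101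

noncomputable def vt5_7_1110 : Tr VStep :=
  .node (.node (.node (.node (.node (.node (.node (.leaf (.up 4 940 1)) (.leaf (.up 4 1077 2))) (.node (.leaf (.up 4 929 2)) (.leaf (.up 4 651 0)))) (.node (.node (.leaf (.up 6 1880 0)) (.leaf (.up 6 1129 0))) (.node (.leaf (.up 5 507 0)) (.leaf (.up 4 675 1))))) (.node (.node (.node (.leaf (.up 5 208 0)) (.leaf (.up 5 484 2))) (.node (.leaf (.up 5 1648 2)) (.leaf (.up 6 1346 0)))) (.node (.node (.leaf (.up 6 145 0)) (.leaf (.up 5 928 0))) (.node (.leaf (.up 7 1118 1)) (.leaf (.up 6 1283 0)))))) (.node (.node (.node (.node (.leaf (.up 5 1369 0)) (.leaf (.up 7 1640 0))) (.node (.leaf (.up 6 1018 0)) (.leaf (.up 5 203 0)))) (.node (.node (.leaf (.up 4 780 1)) (.leaf (.up 5 555 1))) (.node (.leaf (.up 3 216 2)) (.leaf (.up 4 1571 1))))) (.node (.node (.node (.leaf (.up 6 246 1)) (.leaf (.up 7 465 1))) (.node (.leaf (.up 4 1075 0)) (.leaf (.up 6 1794 0)))) (.node (.node (.leaf (.up 4 1946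 2)) (.leaf (.up 6 669 2))) (.node (.leaf (.up 3 1289 2)) (.leaf (.up 7 505 1))))))) (.node (.node (.node (.node (.node (.leaf (.up 4 1301 2)) (.leaf (.up 4 1673 1))) (.node (.leaf (.up 5 1926 2)) (.leaf (.up 2 641 1)))) (.node (.node (.leaf (.up 4 2030 0)) (.leaf (.up 7 1341 2))) (.node (.leaf (.up 5 1926 1)) (.leaf (.up 5 636 0))))) (.node (.node (.node (.leaf (.up 4 116 1)) (.leaf (.up 6 855 0))) (.node (.leaf (.up 6 1733 0)) (.leaf (.up 5 1371 1)))) (.node (.node (.leaf (.up 5 39 0)) (.leaf (.up 4 1395 1))) (.node (.leaf (.up 5 92 1)) (.leaf (.up 4 379 1)))))) (.node (.node (.node (.node (.leaf (.up 3 814 1)) (.leaf (.up 5 521 1))) (.node (.leaf (.up 6 464 2)) (.leaf (.up 6 1239 2)))) (.node (.node (.leaf (.up 5 1454 0)) (.leaf (.up 4 875 2))) (.node (.leaf (.up 6 781 0)) (.leaf (.up 6 504 2))))) (.node (.node (.node (.leaf (.up 5 1682 2)) (.leaf (.up 5 917 2))) (.node (.leaf (.up 6 1025 2)) (.leaf (.up 7 262 2)))) (.node (.node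 (.leaf (.up 5 212 1)) (.leaf (.up 4 1722 2))) (.node (.leaf (.up 5 1220 0)) (.leaf (.up 6 1531 1)))))))) (.node (.node (.node (.node (.node (.node (.leaf (.up 4 517 0)) (.leaf (.up 4 1832 2))) (.node (.leaf (.up 4 188 2)) (.leaf (.up 6 1467 2)))) (.node (.node (.leaf (.up 6 1792 2)) (.leaf (.up 5 519 2))) (.node (.leaf (.up 5 1427 2)) (.leaf (.up 5 2006 0))))) (.node (.node (.node (.leaf (.up 5 2046 2)) (.leaf (.up 5 1789 0))) (.node (.leaf (.up 6 879 0)) (.leaf (.up 5 106 2)))) (.node (.node (.leaf (.up 5 721 2)) (.leaf (.up 5 1724 0))) (.node (.leaf (.up 1 66 2)) (.leaf (.up 5 1349 2)))))) (.node (.node (.node (.node (.leaf (.up 4 1145 2)) (.leaf (.up 6 884 0))) (.node (.leaf (.up 6 1572 1)) (.leaf (.up 4 1005 2)))) (.node (.node (.leaf (.up 6 4 0)) (.leaf (.up 5 1835 1))) (.node (.leaf (.up 5 965 2)) (.leaf (.up 6 803 1))))) (.node (.node (.node (.leaf (.up 4 424 2)) (.leaf (.up 5 1233 1))) (.node (.leaf (.up 4 303 0)) (.leaf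 (.up 5 542 0)))) (.node (.node (.leaf (.up 6 1997 0)) (.leaf (.up 5 384 2))) (.node (.leaf (.up 7 366 0)) (.leaf (.up 6 1273 1))))))) (.node (.node (.node (.node (.node (.leaf (.up 4 691 0)) (.leaf (.up 2 783 2))) (.node (.leaf (.up 3 1040 0)) (.leaf (.up 4 1825 0)))) (.node (.node (.leaf (.up 6 807 2)) (.leaf (.up 5 1961 1))) (.node (.leaf (.up 6 436 2)) (.leaf (.up 4 929 1))))) (.node (.node (.node (.leaf (.up 4 985 2)) (.leaf (.up 7 1758 2))) (.node (.leaf (.up 4 985 0)) (.leaf (.up 6 91 1)))) (.node (.node (.leaf (.up 5 1782 2)) (.leaf (.up 6 115 1))) (.node (.leaf (.up 2 1372 1)) (.leaf (.up 3 354 2)))))) (.node (.node (.node (.node (.leaf (.up 6 243 0)) (.leaf (.up 5 1369 2))) (.node (.leaf (.up 6 717 2)) (.leaf (.up 4 769 1)))) (.node (.node (.leaf (.up 5 526 1)) (.leaf (.up 4 118 2))) (.node (.leaf (.up 5 2018 2)) (.leaf (.up 3 741 2))))) (.node (.node (.node (.leaf (.up 3 1850 0)) (.leaf (.up 5 136 2))) (.node (.leaf (.up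 6 409 0)) (.leaf (.up 6 680 0)))) (.node (.node (.leaf (.up 4 1915 0)) (.leaf (.up 5 1098 0))) (.node (.leaf (.up 5 476 1)) (.leaf (.up 4 745 0))))))))

noncomputable def vt5_7_1111 : Tr VStep :=
  .node (.node (.node (.node (.node (.node (.node (.leaf (.up 3 1045 2)) (.leaf (.up 5 258 1))) (.node (.leaf (.up 2 1670 2)) (.leaf (.up 6 273 0)))) (.node (.node (.leaf (.up 7 314 2)) (.leaf (.up 4 2035 0))) (.node (.leaf (.up 1 13 1)) (.leaf (.up 5 298 1))))) (.node (.node (.node (.leaf (.up 4 2047 1)) (.leaf (.up 5 1752 1))) (.node (.leaf (.up 6 855 2)) (.leaf (.up 5 1752 0)))) (.node (.node (.leaf (.up 4 1259 2)) (.leaf (.up 6 58 0))) (.node (.leaf (.up 5 1448 0)) (.leaf (.up 7 1689 0)))))) (.node (.node (.node (.node (.leaf (.up 7 579 2)) (.leaf (.up 2 1522 0))) (.node (.leaf (.up 3 173 1)) (.leaf (.up 5 394 1)))) (.node (.node (.leaf (.up 3 1900 2)) (.leaf (.up 5 619 2))) (.node (.leaf (.up 4 33 0)) (.leaf (.up 6 784 0))))) (.node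 (.node (.node (.leaf (.up 4 266 0)) (.leaf (.up 5 600 1))) (.node (.leaf (.up 4 1911 1)) (.leaf (.up 6 1176 0)))) (.node (.node (.leaf (.up 5 701 2)) (.leaf (.up 5 1978 2))) (.node (.leaf (.up 6 46 2)) (.leaf (.up 5 1321 2))))))) (.node (.node (.node (.node (.node (.leaf (.up 3 50 2)) (.leaf (.up 5 1333 2))) (.node (.leaf (.up 4 47 1)) (.leaf (.up 6 423 0)))) (.node (.node (.leaf (.up 3 1309 2)) (.leaf (.up 5 288 1))) (.node (.leaf (.up 5 727 0)) (.leaf (.up 6 1320 1))))) (.node (.node (.node (.leaf (.up 4 1507 2)) (.leaf (.up 6 205 0))) (.node (.leaf (.up 6 1375 0)) (.leaf (.up 5 1746 1)))) (.node (.node (.leaf (.up 6 2013 1)) (.leaf (.up 6 1786 1))) (.node (.leaf (.up 6 981 1)) (.leaf (.up 6 1880 2)))))) (.node (.node (.node (.node (.leaf (.up 3 1636 2)) (.leaf (.up 5 384 1))) (.node (.leaf (.up 4 214 0)) (.leaf (.up 2 496 2)))) (.node (.node (.leaf (.up 5 1588 0)) (.leaf (.up 6 1612 2))) (.node (.leaf (.up 5 143 1)) (.leaf (.up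 4 424 1))))) (.node (.node (.node (.leaf (.up 6 444 0)) (.leaf (.up 6 1626 1))) (.node (.leaf (.up 5 294 2)) (.leaf (.up 3 1070 0)))) (.node (.node (.leaf (.up 7 509 0)) (.leaf (.up 5 716 0))) (.node (.leaf (.up 4 1886 0)) (.leaf (.up 6 270 2)))))))) (.node (.node (.node (.node (.node (.node (.leaf (.up 5 1800 2)) (.leaf (.up 3 527 2))) (.node (.leaf (.up 5 1435 2)) (.leaf (.up 1 10 1)))) (.node (.node (.leaf (.up 6 478 0)) (.leaf (.up 5 34 1))) (.node (.leaf (.up 3 180 2)) (.leaf (.up 4 1066 1))))) (.node (.node (.node (.leaf (.up 3 729 2)) (.leaf (.up 5 1383 0))) (.node (.leaf (.up 7 74 2)) (.leaf (.up 7 2000 1)))) (.node (.node (.leaf (.up 6 2038 2)) (.leaf (.up 3 753 2))) (.node (.leaf (.up 3 180 0)) (.leaf (.up 1 98 2)))))) (.node (.node (.node (.node (.leaf (.up 6 991 0)) (.leaf (.up 4 130 1))) (.node (.leaf (.up 6 1404 0)) (.leaf (.up 4 1162 1)))) (.node (.node (.leaf (.up 6 1137 2)) (.leaf (.up 5 1186 1))) (.node (.leaf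 (.up 7 1341 0)) (.leaf (.up 6 997 2))))) (.node (.node (.node (.leaf (.up 5 1046 0)) (.leaf (.up 6 1880 1))) (.node (.leaf (.up 5 1564 2)) (.leaf (.up 6 388 0)))) (.node (.node (.leaf (.up 6 416 2)) (.leaf (.up 7 888 1))) (.node (.leaf (.up 5 1623 1)) (.leaf (.up 5 1588 2))))))) (.node (.node (.node (.node (.node (.leaf (.up 4 297 0)) (.leaf (.up 1 0 1))) (.node (.leaf (.up 6 1930 0)) (.leaf (.up 5 1211 0)))) (.node (.node (.leaf (.up 6 1536 2)) (.leaf (.up 6 1056 1))) (.node (.leaf (.up 6 1995 0)) (.leaf (.up 4 1274 0))))) (.node (.node (.node (.leaf (.up 4 1760 0)) (.leaf (.up 4 1489 0))) (.node (.leaf (.up 3 1133 2)) (.leaf (.up 4 882 0)))) (.node (.node (.leaf (.up 5 1697 0)) (.leaf (.up 6 1018 1))) (.node (.leaf (.up 1 2 0)) (.leaf (.up 6 2034 1)))))) (.node (.node (.node (.node (.leaf (.up 5 1447 1)) (.leaf (.up 7 1152 1))) (.node (.leaf (.up 4 1482 0)) (.leaf (.up 5 1787 0)))) (.node (.node (.leaf (.up 7 808 0)) (.leaf (.up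 5 25 0))) (.node (.leaf (.up 6 709 2)) (.leaf (.up 4 1986 2))))) (.node (.node (.node (.leaf (.up 6 168 2)) (.leaf (.up 5 858 1))) (.node (.leaf (.up 5 1653 1)) (.leaf (.up 4 1874 1)))) (.node (.node (.leaf (.up 5 1249 0)) (.leaf (.up 6 1914 1))) (.node (.leaf (.up 5 1812 2)) (.leaf (.up 3 371 0))))))))

noncomputable def vt5_7_111 : Tr VStep := .node vt5_7_1110 vt5_7_1111

noncomputable def vt5_7_11 : Tr VStep := .node vt5_7_110 vt5_7_111

noncomputable def vt5_7_1 : Tr VStep := .node vt5_7_10 vt5_7_11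

noncomputable def vt5_7_ : Tr VStep := .node vt5_7_0 vt5_7_1

noncomputable def vt5_8_0000 : Tr VStep :=
  .node (.node (.node (.node (.node (.node (.node (.leaf (.root 650)) (.leaf (.up 5 706 2))) (.node (.leaf (.up 3 1064 1)) (.leaf (.up 4 1677 1)))) (.node (.node (.leaf (.up 3 715 1)) (.leaf (.up 3 264 0))) (.node (.leaf (.up 4 256 0)) (.leaf (.up 4 1620 1))))) (.node (.node (.node (.leaf (.up 3 1066 1)) (.leaf (.up 4 1020 2))) (.node (.leaf (.up 4 528 1)) (.leaf (.up 3 648 0)))) (.node (.node (.leaf (.up 4 1267 1)) (.leaf (.up 3 143 2))) (.node (.leaf (.up 1 98 2)) (.leaf (.up 4 108 1)))))) (.node (.node (.node (.node (.leaf (.up 4 620 4)) (.leaf (.up 5 236 3))) (.node (.leaf (.up 5 1435 1)) (.leaf (.up 4 624 3)))) (.node (.node (.leaf (.up 5 888 1)) (.leaf (.up 5 797 3))) (.node (.leaf (.up 2 1507 0)) (.leaf (.up 2 1710 4))))) (.node (.node (.node (.leaf (.up 4 636 2)) (.leaf (.up 5 1852 1))) (.node (.leaf (.up 2 807 3)) (.leaf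 (.up 5 1717 3)))) (.node (.node (.leaf (.up 4 1690 4)) (.leaf (.up 3 2021 1))) (.node (.leaf (.up 5 1585 4)) (.leaf (.up 4 482 2))))))) (.node (.node (.node (.node (.node (.leaf (.up 2 1082 0)) (.leaf (.up 4 1263 2))) (.node (.leaf (.up 3 1726 3)) (.leaf (.up 4 1651 2)))) (.node (.node (.leaf (.up 5 1233 1)) (.leaf (.up 4 577 3))) (.node (.leaf (.up 4 747 1)) (.leaf (.up 4 1280 2))))) (.node (.node (.node (.leaf (.up 4 560 1)) (.leaf (.up 4 1489 2))) (.node (.leaf (.up 4 1340 2)) (.leaf (.up 4 1711 1)))) (.node (.node (.leaf (.up 3 1466 0)) (.leaf (.up 4 1808 4))) (.node (.leaf (.up 3 1235 1)) (.leaf (.up 5 1048 3)))))) (.node (.node (.node (.node (.leaf (.up 4 240 4)) (.leaf (.up 3 1822 1))) (.node (.leaf (.up 3 91 4)) (.leaf (.up 4 1117 3)))) (.node (.node (.leaf (.up 4 162 3)) (.leaf (.up 4 1177 4))) (.node (.leaf (.up 5 856 1)) (.leaf (.up 4 1777 2))))) (.node (.node (.node (.leaf (.up 4 601 0)) (.leaf (.up 2 516 3))) (.node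 (.leaf (.up 4 1290 3)) (.leaf (.up 3 196 4)))) (.node (.node (.leaf (.up 3 1127 3)) (.leaf (.up 2 849 0))) (.node (.leaf (.up 4 1787 3)) (.leaf (.up 3 835 4)))))))) (.node (.node (.node (.node (.node (.node (.leaf (.up 4 514 0)) (.leaf (.up 1 10 0))) (.node (.leaf (.up 3 1770 2)) (.leaf (.up 2 673 4)))) (.node (.node (.leaf (.up 4 1797 2)) (.leaf (.up 4 1396 2))) (.node (.leaf (.up 3 714 1)) (.leaf (.up 3 266 0))))) (.node (.node (.node (.leaf (.up 4 1531 3)) (.leaf (.up 4 650 0))) (.node (.leaf (.up 3 1067 1)) (.leaf (.up 3 1488 4)))) (.node (.node (.leaf (.up 3 712 1)) (.leaf (.up 4 1098 2))) (.node (.leaf (.up 5 441 4)) (.leaf (.up 4 1750 2)))))) (.node (.node (.node (.node (.leaf (.up 3 284 4)) (.leaf (.up 4 1257 0))) (.node (.leaf (.up 3 1235 3)) (.leaf (.up 5 321 3)))) (.node (.node (.leaf (.up 5 1347 1)) (.leaf (.up 3 44 3))) (.node (.leaf (.up 4 1826 3)) (.leaf (.up 4 1049 2))))) (.node (.node (.node (.leaf (.up 4 650 3))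 (.leaf (.up 5 263 1))) (.node (.leaf (.up 3 1061 2)) (.leaf (.up 4 1620 2)))) (.node (.node (.leaf (.up 3 891 1)) (.leaf (.up 2 516 4))) (.node (.leaf (.up 2 999 3)) (.leaf (.up 4 1897 0))))))) (.node (.node (.node (.node (.node (.leaf (.up 4 1592 0)) (.leaf (.up 1 42 2))) (.node (.leaf (.up 3 1080 0)) (.leaf (.up 3 694 2)))) (.node (.node (.leaf (.up 4 296 2)) (.leaf (.up 4 79 1))) (.node (.leaf (.up 3 948 2)) (.leaf (.up 5 954 4))))) (.node (.node (.node (.leaf (.up 5 1035 1)) (.leaf (.up 2 1710 1))) (.node (.leaf (.up 4 162 4)) (.leaf (.up 3 1200 0)))) (.node (.node (.leaf (.up 4 22 2)) (.leaf (.up 2 1655 1))) (.node (.leaf (.up 4 650 2)) (.leaf (.up 4 251 2)))))) (.node (.node (.node (.node (.leaf (.up 1 98 3)) (.leaf (.up 3 987 2))) (.node (.leaf (.up 3 1466 1)) (.leaf (.up 4 327 2)))) (.node (.node (.leaf (.up 5 7 4)) (.leaf (.up 4 2025 4))) (.node (.leaf (.up 3 987 0)) (.leaf (.up 4 1990 1))))) (.node (.node (.node (.leaf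 (.up 3 91 0)) (.leaf (.up 4 1821 1))) (.node (.leaf (.up 4 1595 3)) (.leaf (.up 3 948 4)))) (.node (.node (.leaf (.up 2 999 2)) (.leaf (.up 4 406 2))) (.node (.leaf (.up 2 2013 4)) (.leaf (.up 5 510 1))))))))

noncomputable def vt5_8_0001 : Tr VStep :=
  .node (.node (.node (.node (.node (.node (.node (.leaf (.up 4 817 3)) (.leaf (.up 3 1699 3))) (.node (.leaf (.up 4 429 3)) (.leaf (.up 2 1087 3)))) (.node (.node (.leaf (.up 2 1762 4)) (.leaf (.up 5 1800 0))) (.node (.leaf (.up 4 604 3)) (.leaf (.up 4 1403 2))))) (.node (.node (.node (.leaf (.up 5 2011 2)) (.leaf (.up 4 1530 4))) (.node (.leaf (.up 2 1070 1)) (.leaf (.up 5 1361 4)))) (.node (.node (.leaf (.up 5 1920 0)) (.leaf (.up 2 407 3))) (.node (.leaf (.up 4 1408 0)) (.leaf (.up 4 1750 4)))))) (.node (.node (.node (.node (.leaf (.up 4 1300 2)) (.leaf (.up 4 1651 4))) (.node (.leaf (.up 3 933 1)) (.leaf (.up 4 747 0)))) (.node (.node (.leaf (.up 5 1350 1)) (.leaf (.up 5 1524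 4))) (.node (.leaf (.up 4 689 4)) (.leaf (.up 3 1375 4))))) (.node (.node (.node (.leaf (.up 3 935 1)) (.leaf (.up 4 1627 2))) (.node (.leaf (.up 2 1718 2)) (.leaf (.up 4 425 4)))) (.node (.node (.leaf (.up 4 1881 2)) (.leaf (.up 4 645 4))) (.node (.leaf (.up 4 1348 1)) (.leaf (.up 4 875 0))))))) (.node (.node (.node (.node (.node (.leaf (.up 3 1308 3)) (.leaf (.up 2 142 3))) (.node (.leaf (.up 5 596 2)) (.leaf (.up 3 188 4)))) (.node (.node (.leaf (.up 3 1773 3)) (.leaf (.up 3 458 2))) (.node (.leaf (.up 5 295 2)) (.leaf (.up 3 827 4))))) (.node (.node (.node (.leaf (.up 3 502 2)) (.leaf (.up 4 903 2))) (.node (.leaf (.up 4 35 4)) (.leaf (.up 3 1751 3)))) (.node (.node (.leaf (.up 4 645 2)) (.leaf (.up 4 1978 3))) (.node (.leaf (.up 4 25 2)) (.leaf (.up 4 1098 4)))))) (.node (.node (.node (.node (.leaf (.up 3 901 1)) (.leaf (.up 4 1263 4))) (.node (.leaf (.up 4 1471 1)) (.leaf (.up 4 1379 3)))) (.node (.node (.leaf (.up 4 134 4))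 (.leaf (.up 5 571 2))) (.node (.leaf (.up 3 45 4)) (.leaf (.up 4 1682 3))))) (.node (.node (.node (.leaf (.up 4 1113 0)) (.leaf (.up 5 118 2))) (.node (.leaf (.up 4 903 1)) (.leaf (.up 4 422 3)))) (.node (.node (.leaf (.up 4 1881 0)) (.leaf (.up 3 203 3))) (.node (.leaf (.up 4 1884 4)) (.leaf (.up 4 599 3)))))))) (.node (.node (.node (.node (.node (.node (.leaf (.up 1 0 3)) (.leaf (.up 4 81 2))) (.node (.leaf (.up 3 188 2)) (.leaf (.up 4 1806 3)))) (.node (.node (.leaf (.up 3 1009 3)) (.leaf (.up 4 636 4))) (.node (.leaf (.up 5 365 3)) (.leaf (.up 4 727 4))))) (.node (.node (.node (.leaf (.up 5 798 2)) (.leaf (.up 4 367 2))) (.node (.leaf (.up 5 1154 0)) (.leaf (.up 4 971 3)))) (.node (.node (.leaf (.up 3 1270 1)) (.leaf (.up 4 678 3))) (.node (.leaf (.up 3 716 1)) (.leaf (.up 4 128 2)))))) (.node (.node (.node (.node (.leaf (.up 4 749 4)) (.leaf (.up 4 1283 4))) (.node (.leaf (.up 4 845 2)) (.leaf (.up 4 127 3)))) (.node (.node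 (.leaf (.up 4 893 1)) (.leaf (.up 3 472 1))) (.node (.leaf (.up 4 449 4)) (.leaf (.up 4 1583 4))))) (.node (.node (.node (.leaf (.up 3 948 3)) (.leaf (.up 4 626 4))) (.node (.leaf (.up 2 934 1)) (.leaf (.up 5 1210 3)))) (.node (.node (.leaf (.up 2 353 0)) (.leaf (.up 3 501 4))) (.node (.leaf (.up 4 1712 4)) (.leaf (.up 4 1867 3))))))) (.node (.node (.node (.node (.node (.leaf (.up 4 1037 1)) (.leaf (.up 2 1660 2))) (.node (.leaf (.up 3 1681 2)) (.leaf (.up 3 1248 2)))) (.node (.node (.leaf (.up 4 1500 3)) (.leaf (.up 4 1649 1))) (.node (.leaf (.up 3 1856 3)) (.leaf (.up 4 1939 2))))) (.node (.node (.node (.leaf (.up 5 1331 2)) (.leaf (.up 5 1858 2))) (.node (.leaf (.up 5 1039 1)) (.leaf (.up 3 1706 1)))) (.node (.node (.leaf (.up 3 748 1)) (.leaf (.up 4 1937 4))) (.node (.leaf (.up 3 1238 1)) (.leaf (.up 4 1651 1)))))) (.node (.node (.node (.node (.leaf (.up 5 113 4)) (.leaf (.up 2 1230 3))) (.node (.leaf (.up 5 1376 2)) (.leaf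 (.up 3 1235 0)))) (.node (.node (.leaf (.up 4 1014 4)) (.leaf (.up 4 1491 0))) (.node (.leaf (.up 4 1499 0)) (.leaf (.up 5 1122 2))))) (.node (.node (.node (.leaf (.up 3 1730 2)) (.leaf (.up 4 1107 0))) (.node (.leaf (.up 4 1468 1)) (.leaf (.up 4 1583 2)))) (.node (.node (.leaf (.up 4 1159 4)) (.leaf (.up 3 506 1))) (.node (.leaf (.up 4 1837 2)) (.leaf (.up 3 1372 2))))))))

noncomputable def vt5_8_000 : Tr VStep := .node vt5_8_0000 vt5_8_0001

noncomputable def vt5_8_0010 : Tr VStep :=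
  .node (.node (.node (.node (.node (.node (.node (.leaf (.root 2140)) (.leaf (.up 3 499 2))) (.node (.leaf (.up 1 4 0)) (.leaf (.up 3 879 2)))) (.node (.node (.leaf (.up 5 1960 3)) (.leaf (.up 4 570 3))) (.node (.leaf (.up 3 731 1)) (.leaf (.up 3 166 3))))) (.node (.node (.node (.leaf (.up 3 644 4)) (.leaf (.up 3 652 0))) (.node (.leaf (.up 2 1082 1)) (.leaf (.up 5 140 0)))) (.node (.node (.leaf (.up 5 259 4)) (.leaf (.up 3 1773 4))) (.node (.leaf (.up 5 424 4)) (.leaf (.up 4 1123 3)))))) (.node (.node (.node (.node (.leaf (.up 4 115 2)) (.leaf (.up 4 514 2))) (.node (.leaf (.up 3 436 3)) (.leaf (.up 5 1608 4)))) (.node (.node (.leaf (.up 4 650 4)) (.leaf (.up 3 2031 0))) (.node (.leaf (.up 4 872 1)) (.leaf (.up 3 1005 2))))) (.node (.node (.node (.leaf (.up 2 1660 4)) (.leaf (.up 3 278 1))) (.node (.leaf (.up 3 1751 4)) (.leaf (.up 4 416 2)))) (.node (.node (.leaf (.up 4 1531 4)) (.leaf (.up 4 79 2))) (.node (.leaf (.up 4 162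 2)) (.leaf (.up 3 786 3))))))) (.node (.node (.node (.node (.node (.leaf (.up 4 1455 2)) (.leaf (.up 5 135 1))) (.node (.leaf (.up 5 1048 1)) (.leaf (.up 3 44 4)))) (.node (.node (.leaf (.up 3 763 1)) (.leaf (.up 5 1197 2))) (.node (.leaf (.up 4 793 3)) (.leaf (.up 5 1585 2))))) (.node (.node (.node (.leaf (.up 2 1214 0)) (.leaf (.up 2 1718 0))) (.node (.leaf (.up 3 179 4)) (.leaf (.up 3 133 1)))) (.node (.node (.leaf (.up 3 927 4)) (.leaf (.up 4 1462 0))) (.node (.leaf (.up 4 820 4)) (.leaf (.up 2 590 3)))))) (.node (.node (.node (.node (.leaf (.up 4 1630 2)) (.leaf (.up 5 308 1))) (.node (.leaf (.up 4 1945 3)) (.leaf (.up 4 523 3)))) (.node (.node (.leaf (.up 4 22 4)) (.leaf (.up 4 2040 4))) (.node (.leaf (.up 5 189 4)) (.leaf (.up 3 506 3))))) (.node (.node (.node (.leaf (.up 3 1248 4)) (.leaf (.up 3 1297 2))) (.node (.leaf (.up 4 605 0)) (.leaf (.up 3 933 4)))) (.node (.node (.leaf (.up 4 561 3)) (.leaf (.up 5 2005 1))) (.node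 (.leaf (.up 2 842 1)) (.leaf (.up 5 34 4)))))))) (.node (.node (.node (.node (.node (.node (.leaf (.up 3 1669 4)) (.leaf (.up 3 166 1))) (.node (.leaf (.up 4 1499 2)) (.leaf (.up 5 1692 1)))) (.node (.node (.leaf (.up 4 1177 3)) (.leaf (.up 3 748 4))) (.node (.leaf (.up 3 1248 1)) (.leaf (.up 2 583 4))))) (.node (.node (.node (.leaf (.up 5 1657 2)) (.leaf (.up 2 142 0))) (.node (.leaf (.up 2 513 1)) (.leaf (.up 3 164 1)))) (.node (.node (.leaf (.up 4 1290 2)) (.leaf (.up 4 1607 1))) (.node (.leaf (.up 3 704 3)) (.leaf (.up 4 125 1)))))) (.node (.node (.node (.node (.leaf (.up 4 25 3)) (.leaf (.up 3 1773 0))) (.node (.leaf (.up 4 645 3)) (.leaf (.up 3 1839 1)))) (.node (.node (.leaf (.up 3 506 4)) (.leaf (.up 6 1517 0))) (.node (.leaf (.up 4 1363 1)) (.leaf (.up 4 1832 2))))) (.node (.node (.node (.leaf (.up 3 1416 1)) (.leaf (.up 4 1837 1))) (.node (.leaf (.up 3 1812 2)) (.leaf (.up 5 978 3)))) (.node (.node (.leaf (.up 4 1837 3))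 (.leaf (.up 3 1901 0))) (.node (.leaf (.up 3 1127 2)) (.leaf (.up 4 35 3))))))) (.node (.node (.node (.node (.node (.leaf (.up 4 1049 1)) (.leaf (.up 4 795 2))) (.node (.leaf (.up 4 1014 2)) (.leaf (.up 4 134 1)))) (.node (.node (.leaf (.up 4 692 3)) (.leaf (.up 2 112 4))) (.node (.leaf (.up 3 133 2)) (.leaf (.up 3 1466 3))))) (.node (.node (.node (.leaf (.up 4 872 4)) (.leaf (.up 1 18 3))) (.node (.leaf (.up 3 712 2)) (.leaf (.up 3 654 3)))) (.node (.node (.leaf (.up 2 807 2)) (.leaf (.up 5 93 1))) (.node (.leaf (.up 2 1980 0)) (.leaf (.up 5 1962 4)))))) (.node (.node (.node (.node (.leaf (.up 5 1588 3)) (.leaf (.up 2 934 3))) (.node (.leaf (.up 5 7 2)) (.leaf (.up 3 1956 4)))) (.node (.node (.leaf (.up 4 991 0)) (.leaf (.up 3 921 2))) (.node (.leaf (.up 4 1881 3)) (.leaf (.up 3 715 3))))) (.node (.node (.node (.leaf (.up 3 933 2)) (.leaf (.up 4 126 4))) (.node (.leaf (.up 4 313 2)) (.leaf (.up 4 599 0)))) (.node (.node (.leaf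 (.up 4 256 3)) (.leaf (.up 4 1017 4))) (.node (.leaf (.up 4 1393 1)) (.leaf (.up 5 59 2))))))))

noncomputable def vt5_8_0011 : Tr VStep :=
  .node (.node (.node (.node (.node (.node (.node (.leaf (.up 4 1492 2)) (.leaf (.up 5 1957 2))) (.node (.leaf (.up 4 1711 4)) (.leaf (.up 5 1689 1)))) (.node (.node (.leaf (.up 4 1796 0)) (.leaf (.up 3 1238 2))) (.node (.leaf (.up 4 1320 4)) (.leaf (.up 3 1610 2))))) (.node (.node (.node (.leaf (.up 4 418 3)) (.leaf (.up 2 1072 3))) (.node (.leaf (.up 2 516 1)) (.leaf (.up 2 161 1)))) (.node (.node (.leaf (.up 4 1945 2)) (.leaf (.up 3 1308 4))) (.node (.leaf (.up 4 601 4)) (.leaf (.up 4 1463 4)))))) (.node (.node (.node (.node (.leaf (.up 4 1573 2)) (.leaf (.up 3 751 0))) (.node (.leaf (.up 3 138 3)) (.leaf (.up 4 239 0)))) (.node (.node (.leaf (.root 2490)) (.leaf (.up 4 1685 4))) (.node (.leaf (.up 2 1366 1)) (.leaf (.up 4 1598 4))))) (.node (.node (.node (.leaf (.up 3 1747 3)) (.leaf (.up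 4 611 4))) (.node (.leaf (.up 2 951 1)) (.leaf (.up 3 712 4)))) (.node (.node (.leaf (.up 5 1314 3)) (.leaf (.up 3 879 0))) (.node (.leaf (.up 5 1697 4)) (.leaf (.up 3 335 4))))))) (.node (.node (.node (.node (.node (.leaf (.up 2 842 3)) (.leaf (.up 5 566 0))) (.node (.leaf (.up 4 470 3)) (.leaf (.up 4 788 2)))) (.node (.node (.leaf (.up 3 138 2)) (.leaf (.up 3 763 2))) (.node (.leaf (.up 5 534 2)) (.leaf (.up 4 103 2))))) (.node (.node (.node (.leaf (.up 5 711 2)) (.leaf (.up 2 541 3))) (.node (.leaf (.up 3 91 2)) (.leaf (.up 3 1723 1)))) (.node (.node (.leaf (.up 3 436 2)) (.leaf (.up 5 1920 4))) (.node (.leaf (.up 2 1762 3)) (.leaf (.up 4 880 3)))))) (.node (.node (.node (.node (.leaf (.up 3 1245 0)) (.leaf (.up 3 1749 0))) (.node (.leaf (.up 3 660 2)) (.leaf (.up 5 1829 4)))) (.node (.node (.leaf (.up 2 999 4)) (.leaf (.up 3 266 2))) (.node (.leaf (.up 2 1366 3)) (.leaf (.up 3 196 3))))) (.node (.node (.node (.leaf (.up 4 1629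 0)) (.leaf (.up 4 255 4))) (.node (.leaf (.up 2 1453 1)) (.leaf (.up 5 1800 1)))) (.node (.node (.leaf (.up 4 783 3)) (.leaf (.up 5 52 2))) (.node (.leaf (.up 4 1396 1)) (.leaf (.up 5 979 4)))))))) (.node (.node (.node (.node (.node (.node (.leaf (.up 4 1396 4)) (.leaf (.up 5 964 3))) (.node (.leaf (.up 5 909 2)) (.leaf (.up 4 162 1)))) (.node (.node (.leaf (.up 2 1779 4)) (.leaf (.up 2 1601 1))) (.node (.leaf (.up 4 734 1)) (.leaf (.up 4 655 2))))) (.node (.node (.node (.leaf (.up 3 517 1)) (.leaf (.up 5 606 2))) (.node (.leaf (.up 2 1087 1)) (.leaf (.up 4 1690 1)))) (.node (.node (.leaf (.up 5 732 1)) (.leaf (.up 4 301 2))) (.node (.leaf (.up 4 297 4)) (.leaf (.up 4 1735 4)))))) (.node (.node (.node (.node (.leaf (.up 5 295 3)) (.leaf (.up 4 145 2))) (.node (.leaf (.up 3 948 1)) (.leaf (.up 4 1737 4)))) (.node (.node (.leaf (.up 4 523 4)) (.leaf (.up 2 2034 1))) (.node (.leaf (.up 4 783 2)) (.leaf (.up 3 1358 4))))) (.node (.node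 (.node (.leaf (.up 4 990 2)) (.leaf (.up 2 112 3))) (.node (.leaf (.up 4 322 2)) (.leaf (.up 3 748 3)))) (.node (.node (.leaf (.up 3 879 1)) (.leaf (.up 3 660 4))) (.node (.leaf (.up 4 1489 4)) (.leaf (.up 4 575 4))))))) (.node (.node (.node (.node (.node (.leaf (.up 5 1852 2)) (.leaf (.up 5 6 4))) (.node (.leaf (.up 5 1053 1)) (.leaf (.up 4 1720 1)))) (.node (.node (.leaf (.up 4 906 3)) (.leaf (.up 3 91 1))) (.node (.leaf (.up 3 278 3)) (.leaf (.up 4 1156 3))))) (.node (.node (.node (.leaf (.up 2 1214 3)) (.leaf (.up 4 1139 2))) (.node (.leaf (.up 3 549 1)) (.leaf (.up 4 128 1)))) (.node (.node (.leaf (.up 4 1393 2)) (.leaf (.up 3 436 0))) (.node (.leaf (.up 4 1491 3)) (.leaf (.up 1 65 3)))))) (.node (.node (.node (.node (.leaf (.up 4 784 4)) (.leaf (.up 5 1239 0))) (.node (.leaf (.up 3 1454 1)) (.leaf (.up 1 4 3)))) (.node (.node (.leaf (.up 4 845 1)) (.leaf (.up 4 2007 0))) (.node (.leaf (.up 5 1314 2)) (.leaf (.up 3 2002 1)))))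 (.node (.node (.node (.leaf (.up 4 1121 4)) (.leaf (.up 4 1629 3))) (.node (.leaf (.up 4 1903 2)) (.leaf (.up 5 1217 3)))) (.node (.node (.leaf (.up 3 1887 0)) (.leaf (.up 4 1367 0))) (.node (.leaf (.up 3 1375 0)) (.leaf (.up 5 163 4))))))))

noncomputable def vt5_8_001 : Tr VStep := .node vt5_8_0010 vt5_8_0011

noncomputable def vt5_8_00 : Tr VStep := .node vt5_8_000 vt5_8_001

noncomputable def vt5_8_0100 : Tr VStep :=
  .node (.node (.node (.node (.node (.node (.node (.leaf (.up 4 528 0)) (.leaf (.up 2 24 0))) (.node (.leaf (.up 3 1751 2)) (.leaf (.up 4 1190 2)))) (.node (.node (.leaf (.up 4 1638 4)) (.leaf (.up 4 2027 3))) (.node (.leaf (.up 4 1741 4)) (.leaf (.up 4 280 0))))) (.node (.node (.node (.leaf (.up 4 656 1)) (.leaf (.up 4 1796 2))) (.node (.leaf (.up 3 1194 1)) (.leaf (.up 4 1551 1)))) (.node (.node (.leaf (.up 5 1542 2)) (.leaf (.up 4 1785 4))) (.node (.leaf (.up 3 1178 2)) (.leaf (.up 4 1750 1)))))) (.node (.node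 (.node (.node (.leaf (.root 1060)) (.leaf (.up 4 875 3))) (.node (.leaf (.up 4 801 1)) (.leaf (.up 4 1787 0)))) (.node (.node (.leaf (.up 3 1474 1)) (.leaf (.up 4 2043 0))) (.node (.leaf (.up 5 1621 2)) (.leaf (.up 4 349 1))))) (.node (.node (.node (.leaf (.up 4 1139 0)) (.leaf (.up 3 1966 3))) (.node (.leaf (.up 4 1305 1)) (.leaf (.up 2 1980 1)))) (.node (.node (.leaf (.up 4 461 3)) (.leaf (.up 2 513 4))) (.node (.leaf (.up 2 849 3)) (.leaf (.up 5 1893 1))))))) (.node (.node (.node (.node (.node (.leaf (.up 4 1578 0)) (.leaf (.up 3 567 3))) (.node (.leaf (.up 3 1066 0)) (.leaf (.up 3 171 3)))) (.node (.node (.leaf (.up 4 619 1)) (.leaf (.up 4 788 4))) (.node (.leaf (.up 4 1834 0)) (.leaf (.up 3 959 4))))) (.node (.node (.node (.leaf (.up 3 1194 0)) (.leaf (.up 4 297 2))) (.node (.leaf (.up 3 1706 0)) (.leaf (.up 5 21 1)))) (.node (.node (.leaf (.up 3 43 2)) (.leaf (.up 4 1283 3))) (.node (.leaf (.up 4 695 2)) (.leaf (.up 1 198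 2)))))) (.node (.node (.node (.node (.leaf (.root 1146)) (.leaf (.up 4 420 1))) (.node (.leaf (.up 4 201 0)) (.leaf (.up 5 378 2)))) (.node (.node (.leaf (.up 5 984 1)) (.leaf (.up 4 1719 3))) (.node (.leaf (.up 4 969 0)) (.leaf (.up 3 1067 3))))) (.node (.node (.node (.leaf (.up 5 1041 3)) (.leaf (.up 3 794 4))) (.node (.leaf (.up 4 771 1)) (.leaf (.up 1 65 0)))) (.node (.node (.leaf (.up 3 1504 1)) (.leaf (.up 4 626 3))) (.node (.leaf (.up 4 329 0)) (.leaf (.up 5 833 0)))))))) (.node (.node (.node (.node (.node (.node (.leaf (.root 2152)) (.leaf (.up 5 383 4))) (.node (.leaf (.up 2 1193 1)) (.leaf (.up 3 99 2)))) (.node (.node (.leaf (.up 3 786 0)) (.leaf (.up 4 239 1))) (.node (.leaf (.up 2 353 2)) (.leaf (.up 3 1749 1))))) (.node (.node (.node (.leaf (.up 2 1660 3)) (.leaf (.up 5 1550 1))) (.node (.leaf (.up 3 1248 3)) (.leaf (.up 3 1701 4)))) (.node (.node (.leaf (.up 3 1138 1)) (.leaf (.up 3 1751 1))) (.node (.leaf (.up 3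 716 4)) (.leaf (.up 5 1314 4)))))) (.node (.node (.node (.node (.leaf (.up 5 1480 3)) (.leaf (.up 4 270 2))) (.node (.leaf (.up 4 1777 0)) (.leaf (.up 4 1324 4)))) (.node (.node (.leaf (.up 4 1017 1)) (.leaf (.up 5 637 2))) (.node (.leaf (.up 4 656 2)) (.leaf (.up 5 2041 0))))) (.node (.node (.node (.leaf (.up 4 577 2)) (.leaf (.up 4 758 4))) (.node (.leaf (.up 4 913 3)) (.leaf (.up 4 684 2)))) (.node (.node (.leaf (.up 4 306 2)) (.leaf (.up 3 835 2))) (.node (.leaf (.up 4 1019 1)) (.leaf (.up 2 1522 3))))))) (.node (.node (.node (.node (.node (.leaf (.up 3 1699 2)) (.leaf (.up 5 262 3))) (.node (.leaf (.up 2 1087 2)) (.leaf (.up 4 22 1)))) (.node (.node (.leaf (.up 3 1488 2)) (.leaf (.up 3 1781 1))) (.node (.leaf (.up 4 1320 0)) (.leaf (.up 4 107 3))))) (.node (.node (.node (.leaf (.up 4 81 3)) (.leaf (.up 4 1475 3))) (.node (.leaf (.up 5 983 4)) (.leaf (.up 3 1887 3)))) (.node (.node (.leaf (.up 4 928 3)) (.leaf (.up 5 1586 3)))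 (.node (.leaf (.up 4 80 4)) (.leaf (.up 5 1027 2)))))) (.node (.node (.node (.node (.leaf (.up 3 203 0)) (.leaf (.up 2 1655 3))) (.node (.leaf (.up 3 715 0)) (.leaf (.up 4 1259 3)))) (.node (.node (.leaf (.up 2 1507 1)) (.leaf (.up 5 1862 1))) (.node (.leaf (.up 3 648 3)) (.leaf (.up 4 1740 2))))) (.node (.node (.node (.leaf (.up 4 1132 2)) (.leaf (.up 4 1565 2))) (.node (.leaf (.up 3 1839 4)) (.leaf (.up 5 1153 2)))) (.node (.node (.leaf (.up 3 987 1)) (.leaf (.up 1 323 3))) (.node (.leaf (.up 4 1411 2)) (.leaf (.up 1 323 0))))))))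

noncomputable def vt5_8_0101 : Tr VStep :=
  .node (.node (.node (.node (.node (.node (.node (.leaf (.root 1184)) (.leaf (.up 4 108 2))) (.node (.leaf (.up 3 1723 4)) (.leaf (.up 5 1048 0)))) (.node (.node (.leaf (.up 2 1431 4)) (.leaf (.up 3 1749 3))) (.node (.leaf (.up 4 1340 4)) (.leaf (.up 5 387 2))))) (.node (.node (.node (.leaf (.up 2 353 4)) (.leaf (.up 5 338 2))) (.node (.leaf (.up 3 660 1)) (.leaf (.up 4 893 3)))) (.node (.node (.leaf (.up 4 80 2)) (.leaf (.up 4 528 3))) (.node (.leaf (.up 3 716 2)) (.leaf (.up 5 189 2)))))) (.node (.node (.node (.node (.leaf (.up 4 1991 3)) (.leaf (.up 3 763 0))) (.node (.leaf (.up 4 880 2)) (.leaf (.up 2 1453 4)))) (.node (.node (.leaf (.up 4 367 4)) (.leaf (.up 4 420 3))) (.node (.leaf (.up 1 3 2)) (.leaf (.up 4 1578 4))))) (.node (.node (.node (.leaf (.up 5 770 3)) (.leaf (.up 4 1680 3))) (.node (.leaf (.up 2 807 1)) (.leaf (.up 5 63 2)))) (.node (.node (.leaf (.up 2 371 0)) (.leaf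 (.up 3 496 4))) (.node (.leaf (.up 4 1022 1)) (.leaf (.up 3 2045 3))))))) (.node (.node (.node (.node (.node (.leaf (.root 2472)) (.leaf (.up 2 1601 2))) (.node (.leaf (.up 3 1063 4)) (.leaf (.up 3 1245 2)))) (.node (.node (.leaf (.up 3 1803 4)) (.leaf (.up 4 1776 1))) (.node (.leaf (.up 4 298 0)) (.leaf (.up 3 1966 2))))) (.node (.node (.node (.leaf (.up 4 692 1)) (.leaf (.up 2 17 1))) (.node (.leaf (.up 5 194 3)) (.leaf (.up 2 1507 2)))) (.node (.node (.leaf (.up 3 1661 2)) (.leaf (.up 4 200 1))) (.node (.leaf (.up 5 1249 2)) (.leaf (.up 4 1680 2)))))) (.node (.node (.node (.node (.leaf (.up 4 1985 2)) (.leaf (.up 3 1456 2))) (.node (.leaf (.up 4 1737 0)) (.leaf (.up 4 416 1)))) (.node (.node (.leaf (.up 5 1993 0)) (.leaf (.up 5 1053 4))) (.node (.leaf (.up 4 1481 0)) (.leaf (.up 4 1301 3))))) (.node (.node (.node (.leaf (.up 4 1327 3)) (.leaf (.up 4 418 1))) (.node (.leaf (.up 3 1966 4)) (.leaf (.up 2 1601 0)))) (.node (.node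 (.leaf (.up 4 1420 2)) (.leaf (.up 3 2045 2))) (.node (.leaf (.up 4 1808 2)) (.leaf (.up 3 1345 0)))))))) (.node (.node (.node (.node (.node (.node (.leaf (.up 4 903 3)) (.leaf (.up 2 1193 2))) (.node (.leaf (.up 5 1092 2)) (.leaf (.up 3 1589 2)))) (.node (.node (.leaf (.up 3 1140 1)) (.leaf (.up 5 265 4))) (.node (.leaf (.up 2 590 1)) (.leaf (.up 4 418 4))))) (.node (.node (.node (.leaf (.up 4 661 1)) (.leaf (.up 2 1431 2))) (.node (.leaf (.up 4 1402 2)) (.leaf (.up 3 1803 2)))) (.node (.node (.leaf (.up 4 1173 2)) (.leaf (.up 4 1656 4))) (.node (.leaf (.up 4 1583 3)) (.leaf (.up 2 957 3)))))) (.node (.node (.node (.node (.leaf (.up 3 1270 3)) (.leaf (.up 5 249 0))) (.node (.leaf (.up 5 1642 3)) (.leaf (.up 4 1757 4)))) (.node (.node (.leaf (.up 5 543 4)) (.leaf (.up 3 1067 2))) (.node (.leaf (.up 3 1009 0)) (.leaf (.up 4 1370 4))))) (.node (.node (.node (.leaf (.up 4 806 1)) (.leaf (.up 4 1638 2))) (.node (.leaf (.up 3 1308 1))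 (.leaf (.up 4 428 4)))) (.node (.node (.leaf (.up 3 962 3)) (.leaf (.up 4 1301 2))) (.node (.leaf (.up 4 1528 2)) (.leaf (.up 4 555 4))))))) (.node (.node (.node (.node (.node (.leaf (.up 4 695 1)) (.leaf (.up 1 18 1))) (.node (.leaf (.up 3 1165 1)) (.leaf (.up 2 24 2)))) (.node (.node (.leaf (.up 4 1627 3)) (.leaf (.up 3 203 1))) (.node (.leaf (.up 4 1108 1)) (.leaf (.up 4 875 2))))) (.node (.node (.node (.leaf (.up 4 141 4)) (.leaf (.up 4 1578 1))) (.node (.leaf (.up 3 38 4)) (.leaf (.up 5 1992 4)))) (.node (.node (.leaf (.up 5 670 3)) (.leaf (.up 2 1779 1))) (.node (.leaf (.up 4 620 1)) (.leaf (.up 3 597 2)))))) (.node (.node (.node (.node (.leaf (.up 3 731 3)) (.leaf (.up 5 1258 4))) (.node (.leaf (.up 4 1342 1)) (.leaf (.up 5 1089 4)))) (.node (.node (.leaf (.up 4 298 3)) (.leaf (.up 3 1901 4))) (.node (.leaf (.up 4 747 2)) (.leaf (.up 4 1990 4))))) (.node (.node (.node (.leaf (.up 4 1340 1)) (.leaf (.up 3 923 4))) (.node (.leaf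 (.up 3 166 2)) (.leaf (.up 4 419 1)))) (.node (.node (.leaf (.up 2 2034 4)) (.leaf (.up 3 1856 1))) (.node (.leaf (.up 3 1355 0)) (.leaf (.up 4 420 2))))))))

noncomputable def vt5_8_010 : Tr VStep := .node vt5_8_0100 vt5_8_0101

noncomputable def vt5_8_0110 : Tr VStep :=
  .node (.node (.node (.node (.node (.node (.node (.leaf (.up 4 642 1)) (.leaf (.up 4 1291 2))) (.node (.leaf (.up 4 1579 4)) (.leaf (.up 4 1565 1)))) (.node (.node (.leaf (.up 4 788 0)) (.leaf (.up 3 284 0))) (.node (.leaf (.up 4 1685 2)) (.leaf (.up 4 1252 2))))) (.node (.node (.node (.leaf (.up 3 660 0)) (.leaf (.up 4 156 0))) (.node (.leaf (.up 5 391 3)) (.leaf (.up 3 1705 2)))) (.node (.node (.leaf (.up 4 630 4)) (.leaf (.up 5 924 0))) (.node (.leaf (.up 4 630 3)) (.leaf (.up 5 1331 4)))))) (.node (.node (.node (.node (.leaf (.up 4 817 1)) (.leaf (.up 5 404 1))) (.node (.leaf (.up 4 1291 1)) (.leaf (.up 3 1966 1)))) (.node (.node (.leaf (.up 3 511 4)) (.leaf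 (.up 4 1553 4))) (.node (.leaf (.up 4 340 4)) (.leaf (.up 4 1911 1))))) (.node (.node (.node (.leaf (.root 1284)) (.leaf (.up 4 1988 2))) (.node (.leaf (.up 4 1782 3)) (.leaf (.up 4 406 1)))) (.node (.node (.leaf (.up 3 1488 1)) (.leaf (.up 4 521 3))) (.node (.leaf (.up 4 1573 4)) (.leaf (.up 3 335 1))))))) (.node (.node (.node (.node (.node (.leaf (.up 2 1070 0)) (.leaf (.up 4 1121 3))) (.node (.leaf (.up 3 879 3)) (.leaf (.up 5 7 1)))) (.node (.node (.leaf (.up 4 514 3)) (.leaf (.up 4 117 4))) (.node (.leaf (.up 3 1326 0)) (.leaf (.up 2 713 2))))) (.node (.node (.node (.leaf (.up 2 1710 0)) (.leaf (.up 3 164 3))) (.node (.leaf (.up 3 1178 1)) (.leaf (.up 3 1064 4)))) (.node (.node (.leaf (.up 3 1454 0)) (.leaf (.up 4 1796 4))) (.node (.leaf (.up 1 65 4)) (.leaf (.up 4 1766 1)))))) (.node (.node (.node (.node (.leaf (.up 4 228 4)) (.leaf (.up 4 215 2))) (.node (.leaf (.up 4 79 4)) (.leaf (.up 3 436 1)))) (.node (.node (.leaf (.up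 2 1522 1)) (.leaf (.up 3 1165 4))) (.node (.leaf (.up 3 2031 3)) (.leaf (.up 5 365 1))))) (.node (.node (.node (.leaf (.up 2 583 3)) (.leaf (.up 5 489 2))) (.node (.leaf (.up 4 219 3)) (.leaf (.up 3 885 2)))) (.node (.node (.leaf (.up 5 970 1)) (.leaf (.up 4 367 1))) (.node (.leaf (.up 4 845 0)) (.leaf (.up 4 1720 3)))))))) (.node (.node (.node (.node (.node (.node (.leaf (.up 3 959 2)) (.leaf (.up 4 462 2))) (.node (.leaf (.up 4 1651 3)) (.leaf (.up 3 38 1)))) (.node (.node (.leaf (.up 2 1655 4)) (.leaf (.up 3 652 3))) (.node (.leaf (.up 4 592 2)) (.leaf (.up 4 255 1))))) (.node (.node (.node (.leaf (.up 1 42 3)) (.leaf (.up 4 240 2))) (.node (.leaf (.up 3 1211 1)) (.leaf (.up 4 620 2)))) (.node (.node (.leaf (.up 3 987 3)) (.leaf (.up 4 414 0))) (.node (.leaf (.up 4 327 3)) (.leaf (.up 4 1735 1)))))) (.node (.node (.node (.node (.leaf (.up 3 264 4)) (.leaf (.up 4 575 2))) (.node (.leaf (.up 4 419 4)) (.leaf (.up 5 1168 3)))) (.node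 (.node (.leaf (.up 4 655 4)) (.leaf (.up 1 332 2))) (.node (.leaf (.up 5 755 3)) (.leaf (.up 1 332 1))))) (.node (.node (.node (.leaf (.up 5 1657 4)) (.leaf (.up 2 713 3))) (.node (.leaf (.up 5 1746 4)) (.leaf (.up 3 1965 1)))) (.node (.node (.leaf (.up 3 1194 3)) (.leaf (.up 4 528 4))) (.node (.leaf (.up 4 1489 1)) (.leaf (.up 4 1908 1))))))) (.node (.node (.node (.node (.node (.leaf (.up 4 1426 2)) (.leaf (.up 5 6 1))) (.node (.leaf (.up 4 1177 1)) (.leaf (.up 4 41 4)))) (.node (.node (.leaf (.up 3 1761 2)) (.leaf (.up 5 1168 2))) (.node (.leaf (.up 4 943 3)) (.leaf (.up 5 1597 3))))) (.node (.node (.node (.leaf (.up 3 1543 3)) (.leaf (.up 4 1598 1))) (.node (.leaf (.up 2 673 1)) (.leaf (.up 1 4 1)))) (.node (.node (.leaf (.up 5 1526 3)) (.leaf (.up 3 1454 2))) (.node (.leaf (.up 4 817 4)) (.leaf (.up 3 1956 0)))))) (.node (.node (.node (.node (.leaf (.up 4 784 1)) (.leaf (.up 5 33 3))) (.node (.leaf (.up 3 1839 3)) (.leaf (.up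 5 1678 2)))) (.node (.node (.leaf (.up 4 969 1)) (.leaf (.up 3 976 3))) (.node (.leaf (.up 5 1932 2)) (.leaf (.up 1 332 3))))) (.node (.node (.node (.leaf (.up 4 1320 1)) (.leaf (.up 2 583 0))) (.node (.leaf (.up 3 786 1)) (.leaf (.up 3 439 1)))) (.node (.node (.leaf (.up 2 1070 2)) (.leaf (.up 4 327 0))) (.node (.leaf (.up 3 335 0)) (.leaf (.up 4 366 1))))))))

noncomputable def vt5_8_0111 : Tr VStep :=
  .node (.node (.node (.node (.node (.node (.node (.leaf (.up 4 1393 4)) (.leaf (.up 4 882 3))) (.node (.leaf (.up 4 1044 0)) (.leaf (.up 4 35 1)))) (.node (.node (.leaf (.up 3 1297 3)) (.leaf (.up 4 280 4))) (.node (.leaf (.up 3 1812 0)) (.leaf (.up 3 1308 0))))) (.node (.node (.node (.leaf (.up 1 18 2)) (.leaf (.up 4 611 2))) (.node (.leaf (.up 2 1214 1)) (.leaf (.up 4 255 2)))) (.node (.node (.leaf (.up 4 605 1)) (.leaf (.up 4 248 1))) (.node (.leaf (.up 3 1127 1)) (.leaf (.up 3 1730 1)))))) (.node (.node (.node (.node (.leaf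 (.up 4 393 4)) (.leaf (.up 4 255 0))) (.node (.leaf (.up 1 65 2)) (.leaf (.up 4 400 1)))) (.node (.node (.leaf (.up 4 608 3)) (.leaf (.up 2 2034 3))) (.node (.leaf (.up 5 252 3)) (.leaf (.up 1 323 2))))) (.node (.node (.node (.leaf (.up 5 119 0)) (.leaf (.up 1 198 3))) (.node (.leaf (.up 5 383 2)) (.leaf (.up 4 782 2)))) (.node (.node (.leaf (.up 3 1701 3)) (.leaf (.up 5 657 4))) (.node (.leaf (.up 4 1492 1)) (.leaf (.up 4 125 2))))))) (.node (.node (.node (.node (.node (.leaf (.up 4 678 1)) (.leaf (.up 1 3 1))) (.node (.leaf (.up 5 593 3)) (.leaf (.up 4 168 4)))) (.node (.node (.leaf (.up 3 1138 2)) (.leaf (.up 2 1710 3))) (.node (.leaf (.up 4 416 3)) (.leaf (.up 4 1760 1))))) (.node (.node (.node (.leaf (.up 4 1182 1)) (.leaf (.up 4 1595 1))) (.node (.leaf (.up 4 1684 3)) (.leaf (.up 1 1 1)))) (.node (.node (.leaf (.up 4 795 4)) (.leaf (.up 2 1762 1))) (.node (.leaf (.up 5 944 4)) (.leaf (.up 2 934 0)))))) (.node (.node (.node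 (.node (.leaf (.up 2 1980 3)) (.leaf (.up 5 1665 2))) (.node (.leaf (.up 4 958 4)) (.leaf (.up 5 1733 0)))) (.node (.node (.leaf (.up 3 146 4)) (.leaf (.up 2 1522 2))) (.node (.leaf (.up 4 1997 0)) (.leaf (.up 3 835 3))))) (.node (.node (.node (.leaf (.up 5 1325 1)) (.leaf (.up 4 906 4))) (.node (.leaf (.up 5 791 1)) (.leaf (.up 3 1315 2)))) (.node (.node (.leaf (.up 5 1524 1)) (.leaf (.up 5 1228 2))) (.node (.leaf (.up 4 1864 4)) (.leaf (.up 3 166 4)))))))) (.node (.node (.node (.node (.node (.node (.leaf (.up 4 647 1)) (.leaf (.up 5 34 1))) (.node (.leaf (.up 3 1706 4)) (.leaf (.up 5 324 4)))) (.node (.node (.leaf (.up 4 1690 2)) (.leaf (.up 4 1259 2))) (.node (.leaf (.up 4 1302 0)) (.leaf (.up 2 1655 2))))) (.node (.node (.node (.leaf (.up 5 1239 2)) (.leaf (.up 3 1694 4))) (.node (.leaf (.up 4 645 1)) (.leaf (.up 2 1082 2)))) (.node (.node (.leaf (.up 3 1956 2)) (.leaf (.up 4 1305 4))) (.node (.leaf (.up 4 604 1)) (.leaf (.up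 5 1438 0)))))) (.node (.node (.node (.node (.leaf (.up 4 820 1)) (.leaf (.up 4 1129 2))) (.node (.leaf (.up 4 1156 2)) (.leaf (.up 3 1454 3)))) (.node (.node (.leaf (.up 3 1005 1)) (.leaf (.up 4 1680 4))) (.node (.leaf (.up 3 501 0)) (.leaf (.up 4 1595 4))))) (.node (.node (.node (.leaf (.up 3 1830 2)) (.leaf (.up 4 125 0))) (.node (.leaf (.up 3 1466 2)) (.leaf (.up 4 363 3)))) (.node (.node (.leaf (.up 4 1551 4)) (.leaf (.up 4 893 0))) (.node (.leaf (.up 3 885 0)) (.leaf (.up 4 381 0))))))) (.node (.node (.node (.node (.node (.leaf (.up 3 44 0)) (.leaf (.up 4 1592 1))) (.node (.leaf (.up 4 679 1)) (.leaf (.up 3 809 2)))) (.node (.node (.leaf (.up 5 1818 4)) (.leaf (.up 3 1761 1))) (.node (.leaf (.up 4 555 2)) (.leaf (.up 4 219 1))))) (.node (.node (.node (.leaf (.up 4 762 2)) (.leaf (.up 1 0 1))) (.node (.leaf (.up 5 102 2)) (.leaf (.up 2 1193 4)))) (.node (.node (.leaf (.up 4 636 1)) (.leaf (.up 5 1016 2))) (.node (.leaf (.up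 3 940 0)) (.leaf (.up 4 420 0)))))) (.node (.node (.node (.node (.leaf (.up 3 1326 1)) (.leaf (.up 4 1735 0))) (.node (.leaf (.up 4 1553 3)) (.leaf (.up 4 216 2)))) (.node (.node (.leaf (.up 4 1527 1)) (.leaf (.up 5 311 2))) (.node (.leaf (.up 3 1504 3)) (.leaf (.up 4 1991 0))))) (.node (.node (.node (.leaf (.up 3 1812 4)) (.leaf (.up 5 890 2))) (.node (.leaf (.up 4 1324 1)) (.leaf (.up 4 81 4)))) (.node (.node (.leaf (.up 4 953 3)) (.leaf (.up 4 893 4))) (.node (.leaf (.up 3 1080 4)) (.leaf (.up 4 661 2))))))))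

noncomputable def vt5_8_011 : Tr VStep := .node vt5_8_0110 vt5_8_0111

noncomputable def vt5_8_01 : Tr VStep := .node vt5_8_010 vt5_8_011

noncomputable def vt5_8_0 : Tr VStep := .node vt5_8_00 vt5_8_01

noncomputable def vt5_8_1000 : Tr VStep :=
  .node (.node (.node (.node (.node (.node (.node (.leaf (.root 1968)) (.leaf (.up 4 653 1))) (.node (.leaf (.up 1 1 0)) (.leaf (.up 4 521 0)))) (.node (.node (.leaf (.up 4 911 3)) (.leaf (.up 4 1565 3))) (.node (.leaf (.up 3 731 2)) (.leaf (.up 5 265 0))))) (.node (.node (.node (.leaf (.up 3 1211 3)) (.leaf (.up 4 297 3))) (.node (.leaf (.up 1 42 1)) (.leaf (.up 4 655 1)))) (.node (.node (.leaf (.up 4 1737 1)) (.leaf (.up 3 728 3))) (.node (.leaf (.up 5 243 1)) (.leaf (.up 4 1620 4)))))) (.node (.node (.node (.node (.leaf (.root 801)) (.leaf (.up 4 692 2))) (.node (.leaf (.up 3 436 4)) (.leaf (.up 1 1 3)))) (.node (.node (.leaf (.up 4 322 1)) (.leaf (.up 2 999 1))) (.node (.leaf (.up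 4 298 2)) (.leaf (.up 3 1008 3))))) (.node (.node (.node (.leaf (.up 5 1122 0)) (.leaf (.up 4 1286 1))) (.node (.leaf (.up 5 1733 4)) (.leaf (.up 3 278 2)))) (.node (.node (.leaf (.up 3 648 2)) (.leaf (.up 5 1503 1))) (.node (.leaf (.up 4 679 3)) (.leaf (.up 3 1845 3))))))) (.node (.node (.node (.node (.node (.leaf (.up 4 1305 2)) (.leaf (.up 5 149 4))) (.node (.leaf (.up 5 2000 4)) (.leaf (.up 4 349 3)))) (.node (.node (.leaf (.up 4 1339 0)) (.leaf (.up 3 786 4))) (.node (.leaf (.up 3 1270 2)) (.leaf (.up 4 953 4))))) (.node (.node (.node (.leaf (.up 1 10 1)) (.leaf (.up 4 1796 3))) (.node (.leaf (.up 1 10 3)) (.leaf (.up 4 1173 1)))) (.node (.node (.leaf (.up 5 909 4)) (.leaf (.up 4 630 1))) (.node (.leaf (.up 4 806 4)) (.leaf (.up 4 1100 1)))))) (.node (.node (.node (.node (.leaf (.up 3 728 0)) (.leaf (.up 3 1200 3))) (.node (.leaf (.up 3 1140 2)) (.leaf (.up 4 720 0)))) (.node (.node (.leaf (.up 1 4 4)) (.leaf (.up 3 976 0)))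 (.node (.leaf (.up 4 79 3)) (.leaf (.up 3 967 1))))) (.node (.node (.node (.leaf (.up 4 1511 3)) (.leaf (.up 4 117 3))) (.node (.leaf (.up 4 1113 4)) (.leaf (.up 2 951 4)))) (.node (.node (.leaf (.up 4 1558 3)) (.leaf (.up 5 155 4))) (.node (.leaf (.up 5 1882 1)) (.leaf (.up 4 280 3)))))))) (.node (.node (.node (.node (.node (.node (.leaf (.up 1 3 0)) (.leaf (.up 4 523 0))) (.node (.leaf (.up 4 41 1)) (.leaf (.up 3 652 1)))) (.node (.node (.leaf (.up 4 771 0)) (.leaf (.up 2 1779 2))) (.node (.leaf (.up 4 240 1)) (.leaf (.up 3 597 1))))) (.node (.node (.node (.leaf (.up 3 43 1)) (.leaf (.up 2 1214 2))) (.node (.leaf (.up 4 1553 1)) (.leaf (.up 2 1204 1)))) (.node (.node (.leaf (.up 4 1468 2)) (.leaf (.up 4 599 1))) (.node (.leaf (.up 3 714 4)) (.leaf (.up 3 885 3)))))) (.node (.node (.node (.node (.leaf (.up 3 1248 0)) (.leaf (.up 4 428 3))) (.node (.leaf (.up 4 708 4)) (.leaf (.up 4 816 3)))) (.node (.node (.leaf (.up 4 1913 1))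 (.leaf (.up 4 1500 1))) (.node (.leaf (.up 1 323 1)) (.leaf (.up 5 2024 0))))) (.node (.node (.node (.leaf (.up 4 1342 2)) (.leaf (.up 4 1385 3))) (.node (.leaf (.up 2 1954 1)) (.leaf (.up 4 1491 2)))) (.node (.node (.leaf (.up 5 1689 4)) (.leaf (.up 3 996 1))) (.node (.leaf (.up 4 406 3)) (.leaf (.up 4 1028 3))))))) (.node (.node (.node (.node (.node (.leaf (.up 4 476 2)) (.leaf (.up 4 240 3))) (.node (.leaf (.up 3 832 2)) (.leaf (.up 4 620 3)))) (.node (.node (.leaf (.up 5 208 1)) (.leaf (.up 1 98 4))) (.node (.leaf (.up 3 1770 1)) (.leaf (.up 4 201 4))))) (.node (.node (.node (.leaf (.up 4 423 3)) (.leaf (.up 3 1172 1))) (.node (.leaf (.up 3 827 3)) (.leaf (.up 2 1087 4)))) (.node (.node (.leaf (.up 4 913 2)) (.leaf (.up 4 1988 3))) (.node (.leaf (.up 4 86 4)) (.leaf (.up 4 1368 3)))))) (.node (.node (.node (.node (.leaf (.up 4 557 2)) (.leaf (.up 4 1821 4))) (.node (.leaf (.up 3 143 3)) (.leaf (.up 3 704 2)))) (.node (.node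 (.leaf (.up 4 482 3)) (.leaf (.up 3 1178 4))) (.node (.leaf (.up 3 962 2)) (.leaf (.up 5 435 2))))) (.node (.node (.node (.leaf (.up 4 1750 3)) (.leaf (.up 4 108 4))) (.node (.leaf (.up 4 1098 3)) (.leaf (.up 3 472 3)))) (.node (.node (.leaf (.up 5 96 2)) (.leaf (.up 5 529 2))) (.node (.leaf (.up 2 353 1)) (.leaf (.up 3 832 4))))))))

noncomputable def vt5_8_1001 : Tr VStep :=
  .node (.node (.node (.node (.node (.node (.node (.leaf (.up 4 1558 1)) (.leaf (.up 5 1811 2))) (.node (.leaf (.up 3 44 1)) (.leaf (.up 5 1614 3)))) (.node (.node (.leaf (.up 4 1553 2)) (.leaf (.up 3 639 4))) (.node (.leaf (.up 3 45 3)) (.leaf (.up 4 592 1))))) (.node (.node (.node (.leaf (.up 5 1116 2)) (.leaf (.up 4 23 3))) (.node (.leaf (.up 5 1817 3)) (.leaf (.up 4 1201 1)))) (.node (.node (.leaf (.up 3 1839 2)) (.leaf (.up 5 1374 2))) (.node (.leaf (.up 4 1741 1)) (.leaf (.up 5 378 3)))))) (.node (.node (.node (.node (.leaf (.up 5 1585 3)) (.leaf (.up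 4 1280 1))) (.node (.leaf (.up 5 738 0)) (.leaf (.up 5 319 3)))) (.node (.node (.leaf (.up 3 1504 2)) (.leaf (.up 4 1671 4))) (.node (.leaf (.up 4 1884 3)) (.leaf (.up 5 1580 4))))) (.node (.node (.node (.leaf (.up 3 1965 2)) (.leaf (.up 4 1500 2))) (.node (.leaf (.up 1 98 0)) (.leaf (.up 3 1856 2)))) (.node (.node (.leaf (.up 5 324 1)) (.leaf (.up 3 502 4))) (.node (.leaf (.up 3 921 3)) (.leaf (.up 4 349 4))))))) (.node (.node (.node (.node (.node (.leaf (.up 3 1901 3)) (.leaf (.up 6 767 3))) (.node (.leaf (.up 5 467 2)) (.leaf (.up 3 99 3)))) (.node (.node (.leaf (.up 3 827 0)) (.leaf (.up 4 624 1))) (.node (.leaf (.up 2 315 0)) (.leaf (.up 4 1098 1))))) (.node (.node (.node (.leaf (.up 4 1019 4)) (.leaf (.up 1 0 2))) (.node (.leaf (.up 5 308 3)) (.leaf (.up 2 1214 4)))) (.node (.node (.leaf (.up 3 1773 1)) (.leaf (.up 5 1096 1))) (.node (.leaf (.up 4 215 1)) (.leaf (.up 4 626 1)))))) (.node (.node (.node (.node (.leaf (.up 4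 114 4)) (.leaf (.up 3 794 1))) (.node (.leaf (.up 4 546 2)) (.leaf (.up 4 1810 3)))) (.node (.node (.leaf (.up 3 1005 3)) (.leaf (.up 3 1488 0))) (.node (.leaf (.up 4 1884 1)) (.leaf (.up 3 1200 4))))) (.node (.node (.node (.leaf (.up 4 1927 1)) (.leaf (.up 3 1009 2))) (.node (.leaf (.up 5 796 2)) (.leaf (.up 5 365 2)))) (.node (.node (.leaf (.up 4 1156 4)) (.leaf (.up 4 698 3))) (.node (.leaf (.up 5 1071 4)) (.leaf (.up 3 38 3)))))))) (.node (.node (.node (.node (.node (.node (.leaf (.up 3 45 1)) (.leaf (.up 3 648 1))) (.node (.leaf (.up 3 827 2)) (.leaf (.up 5 1407 3)))) (.node (.node (.leaf (.up 3 1761 4)) (.leaf (.up 3 1803 0))) (.node (.leaf (.up 3 1610 4)) (.leaf (.up 4 1291 0))))) (.node (.node (.node (.leaf (.up 4 1716 3)) (.leaf (.up 3 1200 1))) (.node (.leaf (.up 3 1064 3)) (.leaf (.up 4 650 1)))) (.node (.node (.leaf (.up 4 400 4)) (.leaf (.up 4 215 3))) (.node (.leaf (.up 2 315 4)) (.leaf (.up 3 1749 4)))))) (.node (.node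 (.node (.node (.leaf (.up 4 1280 3)) (.leaf (.up 3 827 1))) (.node (.leaf (.up 3 1956 1)) (.leaf (.up 4 699 2)))) (.node (.node (.leaf (.up 4 327 1)) (.leaf (.up 4 1527 4))) (.node (.leaf (.up 4 953 2)) (.leaf (.up 3 1372 4))))) (.node (.node (.node (.leaf (.up 4 872 2)) (.leaf (.up 4 1283 1))) (.node (.leaf (.up 4 608 0)) (.leaf (.up 3 901 2)))) (.node (.node (.leaf (.up 4 27 2)) (.leaf (.up 5 360 0))) (.node (.leaf (.up 4 168 3)) (.leaf (.up 4 557 4))))))) (.node (.node (.node (.node (.node (.leaf (.up 4 1591 1)) (.leaf (.up 4 462 3))) (.node (.leaf (.up 4 1302 2)) (.leaf (.up 4 561 0)))) (.node (.node (.leaf (.up 3 1965 3)) (.leaf (.up 4 575 3))) (.node (.leaf (.up 2 1329 3)) (.leaf (.up 4 1044 2))))) (.node (.node (.node (.leaf (.up 4 139 4)) (.leaf (.up 4 1291 3))) (.node (.leaf (.up 3 32 4)) (.leaf (.up 5 1168 1)))) (.node (.node (.leaf (.up 4 953 0)) (.leaf (.up 4 1250 4))) (.node (.leaf (.up 3 935 4)) (.leaf (.up 5 1097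 1)))))) (.node (.node (.node (.node (.leaf (.up 4 1147 2)) (.leaf (.up 4 1313 1))) (.node (.leaf (.up 5 446 1)) (.leaf (.up 4 795 1)))) (.node (.node (.leaf (.up 3 133 4)) (.leaf (.up 3 1358 3))) (.node (.leaf (.up 5 1428 2)) (.leaf (.up 3 962 1))))) (.node (.node (.node (.leaf (.up 4 1139 4)) (.leaf (.up 3 925 4))) (.node (.leaf (.up 4 1396 3)) (.leaf (.up 3 1315 1)))) (.node (.node (.leaf (.up 4 1049 3)) (.leaf (.up 5 26 4))) (.node (.leaf (.up 3 1194 2)) (.leaf (.up 4 1530 1))))))))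

noncomputable def vt5_8_100 : Tr VStep := .node vt5_8_1000 vt5_8_1001

noncomputable def vt5_8_1010 : Tr VStep :=
  .node (.node (.node (.node (.node (.node (.node (.leaf (.up 4 1576 3)) (.leaf (.up 5 360 4))) (.node (.leaf (.up 2 1204 3)) (.leaf (.up 5 232 2)))) (.node (.node (.leaf (.up 5 1281 4)) (.leaf (.up 3 751 4))) (.node (.leaf (.up 5 1450 4)) (.leaf (.up 3 923 2))))) (.node (.node (.node (.leaf (.up 2 315 2)) (.leaf (.up 2 842 2))) (.node (.leaf (.up 3 935 2)) (.leaf (.up 2 1507 3)))) (.node (.node (.leaf (.up 3 284 3)) (.leaf (.up 5 1438 4))) (.node (.leaf (.up 2 896 3)) (.leaf (.up 4 1554 3)))))) (.node (.node (.node (.node (.leaf (.up 5 638 4)) (.leaf (.up 4 389 2))) (.node (.leaf (.up 4 1766 0)) (.leaf (.up 4 1623 3)))) (.node (.node (.leaf (.up 5 135 2)) (.leaf (.up 4 758 2))) (.node (.leaf (.up 5 338 1)) (.leaf (.up 4 2030 0))))) (.node (.node (.node (.leaf (.up 3 714 2)) (.leaf (.up 5 737 4))) (.node (.leaf (.up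 4 86 2)) (.leaf (.up 4 1302 1)))) (.node (.node (.leaf (.up 4 1382 0)) (.leaf (.up 3 358 4))) (.node (.leaf (.up 5 1265 3)) (.leaf (.up 3 1390 0))))))) (.node (.node (.node (.node (.node (.leaf (.up 2 24 1)) (.leaf (.up 2 1431 3))) (.node (.leaf (.up 2 1204 2)) (.leaf (.up 3 1803 3)))) (.node (.node (.leaf (.up 5 1371 2)) (.leaf (.up 4 115 4))) (.node (.leaf (.up 4 1787 1)) (.leaf (.up 4 1462 2))))) (.node (.node (.node (.leaf (.up 4 875 4)) (.leaf (.up 3 1157 1))) (.node (.leaf (.up 5 1628 3)) (.leaf (.up 2 1070 4)))) (.node (.node (.leaf (.up 4 1785 1)) (.leaf (.up 4 675 3))) (.node (.leaf (.up 2 1453 3)) (.leaf (.up 4 1463 0)))))) (.node (.node (.node (.node (.leaf (.up 4 1908 3)) (.leaf (.up 4 1804 4))) (.node (.leaf (.up 4 1937 1)) (.leaf (.up 3 1959 4)))) (.node (.node (.leaf (.up 3 1157 3)) (.leaf (.up 5 1243 2))) (.node (.leaf (.up 4 476 0)) (.leaf (.up 4 1607 2))))) (.node (.node (.node (.leaf (.up 4 1939 1)) (.leaf (.up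 4 125 4))) (.node (.leaf (.up 4 301 3)) (.leaf (.up 5 596 0)))) (.node (.node (.leaf (.up 4 1044 4)) (.leaf (.up 4 1490 3))) (.node (.leaf (.up 5 732 3)) (.leaf (.up 2 849 4)))))))) (.node (.node (.node (.node (.node (.node (.leaf (.up 4 1305 3)) (.leaf (.up 3 668 1))) (.node (.leaf (.up 5 7 0)) (.leaf (.up 3 1069 2)))) (.node (.node (.leaf (.up 4 1649 4)) (.leaf (.up 3 1474 2))) (.node (.leaf (.up 3 1140 3)) (.leaf (.up 4 271 0))))) (.node (.node (.node (.leaf (.up 4 647 4)) (.leaf (.up 3 1188 1))) (.node (.leaf (.up 3 832 3)) (.leaf (.up 3 1474 4)))) (.node (.node (.leaf (.up 4 557 3)) (.leaf (.up 4 1774 4))) (.node (.leaf (.up 5 391 0)) (.leaf (.up 2 583 1)))))) (.node (.node (.node (.node (.leaf (.up 4 270 4)) (.leaf (.up 4 1760 4))) (.node (.leaf (.up 2 1453 2)) (.leaf (.up 4 1301 1)))) (.node (.node (.leaf (.up 5 1090 2)) (.leaf (.up 4 1014 1))) (.node (.leaf (.up 4 1897 1)) (.leaf (.up 4 1484 1))))) (.node (.node (.node (.leaf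 (.up 4 1551 2)) (.leaf (.up 5 1150 2))) (.node (.leaf (.up 5 1073 3)) (.leaf (.up 2 1762 2)))) (.node (.node (.leaf (.up 3 1372 3)) (.leaf (.up 4 1388 0))) (.node (.leaf (.up 4 1363 4)) (.leaf (.up 4 1900 0))))))) (.node (.node (.node (.node (.node (.leaf (.up 4 820 3)) (.leaf (.up 4 132 4))) (.node (.leaf (.up 4 25 1)) (.leaf (.up 2 1082 3)))) (.node (.node (.leaf (.up 4 197 3)) (.leaf (.up 3 1845 0))) (.node (.leaf (.up 4 601 3)) (.leaf (.up 2 371 2))))) (.node (.node (.node (.leaf (.up 4 27 1)) (.leaf (.up 4 418 2))) (.node (.leaf (.up 3 335 2)) (.leaf (.up 4 1156 1)))) (.node (.node (.leaf (.up 5 194 1)) (.leaf (.up 3 1138 4))) (.node (.leaf (.up 5 1692 3)) (.leaf (.up 4 1117 1)))))) (.node (.node (.node (.node (.leaf (.up 3 284 2)) (.leaf (.up 4 1333 1))) (.node (.leaf (.up 2 896 2)) (.leaf (.up 4 783 1)))) (.node (.node (.leaf (.up 5 21 4)) (.leaf (.up 4 550 3))) (.node (.leaf (.up 2 371 1)) (.leaf (.up 4 642 2))))) (.node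 (.node (.node (.leaf (.up 4 128 3)) (.leaf (.up 3 781 1))) (.node (.leaf (.up 5 606 0)) (.leaf (.up 2 934 4)))) (.node (.node (.leaf (.up 2 849 2)) (.leaf (.up 3 138 4))) (.node (.leaf (.up 4 1867 1)) (.leaf (.up 5 33 4))))))))

noncomputable def vt5_8_1011 : Tr VStep :=
  .node (.node (.node (.node (.node (.node (.node (.leaf (.up 5 1814 3)) (.leaf (.up 3 644 3))) (.node (.leaf (.up 4 1500 4)) (.leaf (.up 2 24 3)))) (.node (.node (.leaf (.up 4 1776 4)) (.leaf (.up 5 286 4))) (.node (.leaf (.up 2 1980 2)) (.leaf (.up 5 1485 2))))) (.node (.node (.node (.leaf (.up 3 1901 2)) (.leaf (.up 2 1601 3))) (.node (.leaf (.up 3 335 3)) (.leaf (.up 3 1245 3)))) (.node (.node (.leaf (.up 4 1757 1)) (.leaf (.up 3 1456 3))) (.node (.leaf (.up 4 298 4)) (.leaf (.up 4 1267 2)))))) (.node (.node (.node (.node (.leaf (.up 4 103 3)) (.leaf (.up 4 1525 3))) (.node (.leaf (.up 3 763 3)) (.leaf (.up 4 1897 3)))) (.node (.node (.leaf (.up 5 918 3)) (.leaf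 (.up 4 1540 3))) (.node (.leaf (.up 3 266 3)) (.leaf (.up 4 1481 1))))) (.node (.node (.node (.leaf (.up 5 1790 4)) (.leaf (.up 3 1773 2))) (.node (.leaf (.up 4 1598 3)) (.leaf (.up 3 940 3)))) (.node (.node (.leaf (.up 3 2031 2)) (.leaf (.up 4 366 0))) (.node (.leaf (.up 3 358 0)) (.leaf (.up 3 1009 1))))))) (.node (.node (.node (.node (.node (.leaf (.up 2 315 3)) (.leaf (.up 2 1193 3))) (.node (.leaf (.up 3 935 3)) (.leaf (.up 3 1589 3)))) (.node (.node (.leaf (.up 3 714 3)) (.leaf (.up 4 898 4))) (.node (.leaf (.up 4 86 3)) (.leaf (.up 3 809 4))))) (.node (.node (.node (.leaf (.up 5 30 1)) (.leaf (.up 4 108 3))) (.node (.leaf (.up 4 1890 3)) (.leaf (.up 4 429 2)))) (.node (.node (.leaf (.up 3 959 0)) (.leaf (.up 1 66 2))) (.node (.leaf (.up 5 1789 1)) (.leaf (.up 2 951 0)))))) (.node (.node (.node (.node (.leaf (.up 3 1610 3)) (.leaf (.up 5 510 2))) (.node (.leaf (.up 3 1238 3)) (.leaf (.up 5 324 3)))) (.node (.node (.leaf (.up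 4 1500 0)) (.leaf (.up 4 41 3))) (.node (.leaf (.up 4 608 2)) (.leaf (.up 2 17 2))))) (.node (.node (.node (.leaf (.up 4 655 3)) (.leaf (.up 4 1821 3))) (.node (.leaf (.up 3 45 2)) (.leaf (.up 2 807 4)))) (.node (.node (.leaf (.up 3 2021 4)) (.leaf (.up 5 11 4))) (.node (.leaf (.up 2 1870 1)) (.leaf (.up 5 1648 3)))))))) (.node (.node (.node (.node (.node (.node (.leaf (.up 3 1543 1)) (.leaf (.up 4 1551 0))) (.node (.leaf (.up 1 10 2)) (.leaf (.up 3 809 3)))) (.node (.node (.leaf (.up 4 1408 4)) (.leaf (.up 4 580 3))) (.node (.leaf (.up 4 228 1)) (.leaf (.up 3 264 2))))) (.node (.node (.node (.leaf (.up 4 1671 0)) (.leaf (.up 5 666 1))) (.node (.leaf (.up 4 1159 0)) (.leaf (.up 5 1587 4)))) (.node (.node (.leaf (.up 3 230 1)) (.leaf (.up 5 1665 3))) (.node (.leaf (.up 2 583 2)) (.leaf (.up 5 1053 3)))))) (.node (.node (.node (.node (.leaf (.up 4 228 0)) (.leaf (.up 3 1297 1))) (.node (.leaf (.up 3 458 3)) (.leaf (.up 3 1466 4))))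 (.node (.node (.leaf (.up 3 1901 1)) (.leaf (.up 4 1333 3))) (.node (.leaf (.up 5 467 4)) (.leaf (.up 5 1010 1))))) (.node (.node (.node (.leaf (.up 4 1939 3)) (.leaf (.up 2 513 3))) (.node (.leaf (.up 4 1974 1)) (.leaf (.up 3 715 4)))) (.node (.node (.leaf (.up 5 810 2)) (.leaf (.up 3 496 3))) (.node (.leaf (.up 4 1903 1)) (.leaf (.up 1 332 4))))))) (.node (.node (.node (.node (.node (.leaf (.up 3 1211 2)) (.leaf (.up 3 885 4))) (.node (.leaf (.up 2 1072 4)) (.leaf (.up 4 990 4)))) (.node (.node (.leaf (.up 3 196 1)) (.leaf (.up 4 1129 3))) (.node (.leaf (.up 4 317 0)) (.leaf (.up 3 1781 3))))) (.node (.node (.node (.leaf (.up 4 1573 1)) (.leaf (.up 4 1028 4))) (.node (.leaf (.up 4 1107 3)) (.leaf (.up 4 693 0)))) (.node (.node (.leaf (.up 4 1342 3)) (.leaf (.up 4 1113 1))) (.node (.leaf (.up 1 198 1)) (.leaf (.up 4 611 1)))))) (.node (.node (.node (.node (.leaf (.up 3 99 4)) (.leaf (.up 4 1750 0))) (.node (.leaf (.up 4 200 4))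 (.leaf (.up 2 1329 1)))) (.node (.node (.leaf (.up 3 996 4)) (.leaf (.up 5 1034 4))) (.node (.leaf (.up 3 1701 2)) (.leaf (.up 4 1512 1))))) (.node (.node (.node (.leaf (.up 4 1630 0)) (.leaf (.up 5 1331 1))) (.node (.leaf (.up 4 428 1)) (.leaf (.up 4 1712 3)))) (.node (.node (.leaf (.up 4 1173 4)) (.leaf (.up 2 1878 0))) (.node (.leaf (.up 5 1086 4)) (.leaf (.up 2 1366 0))))))))

noncomputable def vt5_8_101 : Tr VStep := .node vt5_8_1010 vt5_8_1011

noncomputable def vt5_8_10 : Tr VStep := .node vt5_8_100 vt5_8_101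

noncomputable def vt5_8_1100 : Tr VStep :=
  .node (.node (.node (.node (.node (.node (.node (.leaf (.root 1698)) (.leaf (.up 4 537 0))) (.node (.leaf (.up 4 168 1)) (.leaf (.up 4 25 0)))) (.node (.node (.leaf (.up 4 1301 4)) (.leaf (.up 3 763 4))) (.node (.leaf (.up 3 660 3)) (.leaf (.up 4 592 4))))) (.node (.node (.node (.leaf (.up 5 1852 3)) (.leaf (.up 3 1549 4))) (.node (.leaf (.up 4 1680 1)) (.leaf (.up 4 50 3)))) (.node (.node (.leaf (.up 4 115 1)) (.leaf (.up 3 921 0))) (.node (.leaf (.up 4 1821 2)) (.leaf (.up 4 1388 2)))))) (.node (.node (.node (.node (.leaf (.up 4 1085 2)) (.leaf (.up 4 1412 1))) (.node (.leaf (.up 5 1697 2)) (.leaf (.up 4 958 1)))) (.node (.node (.leaf (.root 2142)) (.leaf (.up 4 747 3))) (.node (.leaf (.up 2 1522 0)) (.leaf (.up 4 1704 4))))) (.node (.node (.node (.leaf (.up 4 1283 2)) (.leaf (.up 5 1503 3))) (.node (.leaf (.up 3 1456 4)) (.leaf (.up 5 606 4)))) (.node (.node (.leaf (.up 5 1648 2))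 (.leaf (.up 3 370 4))) (.node (.leaf (.up 4 1591 4)) (.leaf (.up 3 1375 1))))))) (.node (.node (.node (.node (.node (.leaf (.up 3 1067 0)) (.leaf (.up 4 557 1))) (.node (.leaf (.up 4 1714 1)) (.leaf (.up 4 730 3)))) (.node (.node (.leaf (.up 4 1573 3)) (.leaf (.up 2 951 3))) (.node (.leaf (.up 4 1826 4)) (.leaf (.up 2 1230 1))))) (.node (.node (.node (.leaf (.up 4 1712 1)) (.leaf (.up 3 1169 4))) (.node (.leaf (.up 3 138 1)) (.leaf (.up 2 1082 4)))) (.node (.node (.leaf (.up 3 940 2)) (.leaf (.up 5 1814 4))) (.node (.leaf (.up 5 124 3)) (.leaf (.up 4 758 1)))))) (.node (.node (.node (.node (.leaf (.up 2 315 1)) (.leaf (.up 3 704 0))) (.node (.leaf (.up 3 712 0)) (.leaf (.up 5 192 0)))) (.node (.node (.leaf (.up 4 340 3)) (.leaf (.up 3 786 2))) (.node (.leaf (.up 4 1023 2)) (.leaf (.up 5 1076 4))))) (.node (.node (.node (.leaf (.up 4 584 0)) (.leaf (.up 5 64 0))) (.node (.leaf (.up 4 313 1)) (.leaf (.up 4 366 3)))) (.node (.node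 (.leaf (.up 5 93 2)) (.leaf (.up 1 3 3))) (.node (.leaf (.up 4 480 1)) (.leaf (.up 5 671 3)))))))) (.node (.node (.node (.node (.node (.node (.leaf (.up 4 200 3)) (.leaf (.up 4 1370 3))) (.node (.leaf (.up 5 1683 1)) (.leaf (.up 3 996 2)))) (.node (.node (.leaf (.up 2 112 1)) (.leaf (.up 4 795 0))) (.node (.leaf (.up 3 1610 1)) (.leaf (.up 4 1263 1))))) (.node (.node (.node (.leaf (.up 3 1681 1)) (.leaf (.up 5 667 0))) (.node (.leaf (.up 3 171 1)) (.leaf (.up 4 771 3)))) (.node (.node (.leaf (.up 5 324 2)) (.leaf (.up 4 411 0))) (.node (.leaf (.up 4 114 1)) (.leaf (.up 3 923 0)))))) (.node (.node (.node (.node (.leaf (.up 4 1776 0)) (.leaf (.up 3 959 1))) (.node (.leaf (.up 5 1317 3)) (.leaf (.up 5 21 2)))) (.node (.node (.leaf (.up 5 907 2)) (.leaf (.up 3 506 2))) (.node (.leaf (.up 5 566 4)) (.leaf (.up 3 1372 1))))) (.node (.node (.node (.leaf (.up 4 454 2)) (.leaf (.up 2 951 2))) (.node (.leaf (.up 4 858 2)) (.leaf (.up 2 957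 1)))) (.node (.node (.leaf (.up 4 141 3)) (.leaf (.up 3 196 2))) (.node (.leaf (.up 4 41 2)) (.leaf (.up 5 1923 3))))))) (.node (.node (.node (.node (.node (.leaf (.up 4 1715 1)) (.leaf (.up 5 887 3))) (.node (.leaf (.up 5 1976 2)) (.leaf (.up 4 1481 2)))) (.node (.node (.leaf (.up 4 1623 2)) (.leaf (.up 4 134 3))) (.node (.leaf (.up 4 80 1)) (.leaf (.up 4 1313 0))))) (.node (.node (.node (.leaf (.up 2 1193 0)) (.leaf (.up 5 1697 0))) (.node (.leaf (.up 3 164 4)) (.leaf (.up 3 1326 3)))) (.node (.node (.leaf (.up 4 1897 2)) (.leaf (.up 5 1304 2))) (.node (.leaf (.up 4 845 3)) (.leaf (.up 4 1229 1)))))) (.node (.node (.node (.node (.leaf (.up 3 1749 2)) (.leaf (.up 3 1188 2))) (.node (.leaf (.up 5 314 1)) (.leaf (.up 3 927 1)))) (.node (.node (.leaf (.up 1 1 4)) (.leaf (.up 3 2031 4))) (.node (.leaf (.up 5 249 3)) (.leaf (.up 3 1355 2))))) (.node (.node (.node (.leaf (.up 4 2027 2)) (.leaf (.up 3 925 1))) (.node (.leaf (.up 4 1997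 3)) (.leaf (.up 1 66 0)))) (.node (.node (.leaf (.up 2 842 0)) (.leaf (.up 4 322 0))) (.node (.leaf (.up 4 1540 2)) (.leaf (.up 5 430 3))))))))

noncomputable def vt5_8_1101 : Tr VStep :=
  .node (.node (.node (.node (.node (.node (.node (.leaf (.up 4 1553 0)) (.leaf (.up 4 653 4))) (.node (.leaf (.up 3 91 3)) (.leaf (.up 4 1481 3)))) (.node (.node (.leaf (.up 3 1297 0)) (.leaf (.up 3 1188 3))) (.node (.leaf (.up 4 117 2)) (.leaf (.up 2 516 2))))) (.node (.node (.node (.leaf (.up 3 164 2)) (.leaf (.up 5 1689 0))) (.node (.leaf (.up 3 1681 0)) (.leaf (.up 4 1177 0)))) (.node (.node (.leaf (.up 4 1937 0)) (.leaf (.up 4 422 2))) (.node (.leaf (.up 4 1903 3)) (.leaf (.up 4 1945 0)))))) (.node (.node (.node (.node (.leaf (.up 4 1462 3)) (.leaf (.up 5 954 1))) (.node (.leaf (.up 3 247 2)) (.leaf (.up 4 762 0)))) (.node (.node (.leaf (.up 4 454 1)) (.leaf (.up 2 1522 4))) (.node (.leaf (.up 4 695 4)) (.leaf (.up 3 506 0))))) (.node (.node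 (.node (.leaf (.up 2 371 3)) (.leaf (.up 4 292 2))) (.node (.leaf (.up 2 1601 4)) (.leaf (.up 3 1661 3)))) (.node (.node (.leaf (.up 3 38 2)) (.leaf (.up 4 1808 3))) (.node (.leaf (.up 3 370 0)) (.leaf (.up 3 203 2))))))) (.node (.node (.node (.node (.node (.leaf (.up 2 1718 1)) (.leaf (.up 2 17 4))) (.node (.leaf (.up 3 43 0)) (.leaf (.up 3 996 3)))) (.node (.node (.leaf (.up 3 1144 4)) (.leaf (.up 5 1717 2))) (.node (.leaf (.up 3 1235 4)) (.leaf (.up 5 21 3))))) (.node (.node (.node (.leaf (.up 2 142 1)) (.leaf (.up 4 555 1))) (.node (.leaf (.up 3 37 4)) (.leaf (.up 4 1995 4)))) (.node (.node (.leaf (.up 4 1530 2)) (.leaf (.up 4 419 0))) (.node (.leaf (.up 4 322 3)) (.leaf (.up 4 1100 4)))))) (.node (.node (.node (.node (.leaf (.up 3 923 3)) (.leaf (.up 4 1591 2))) (.node (.leaf (.up 3 940 4)) (.leaf (.up 4 1173 3)))) (.node (.node (.leaf (.up 3 1845 2)) (.leaf (.up 4 1401 1))) (.node (.leaf (.up 3 43 4)) (.leaf (.up 3 835 1)))))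 (.node (.node (.node (.leaf (.up 4 317 1)) (.leaf (.up 3 716 3))) (.node (.leaf (.up 3 1245 4)) (.leaf (.up 4 80 3)))) (.node (.node (.leaf (.up 4 2033 4)) (.leaf (.up 4 317 3))) (.node (.leaf (.up 5 1882 4)) (.leaf (.up 3 1856 0)))))))) (.node (.node (.node (.node (.node (.node (.leaf (.up 3 502 3)) (.leaf (.up 5 509 4))) (.node (.leaf (.up 4 1555 0)) (.leaf (.up 5 342 4)))) (.node (.node (.leaf (.up 5 1580 2)) (.leaf (.up 3 1941 3))) (.node (.leaf (.up 3 1200 2)) (.leaf (.up 3 721 1))))) (.node (.node (.node (.leaf (.up 4 1121 2)) (.leaf (.up 2 161 3))) (.node (.leaf (.up 4 1685 1)) (.leaf (.up 2 1072 1)))) (.node (.node (.leaf (.up 3 1730 3)) (.leaf (.up 4 1291 4))) (.node (.leaf (.up 2 590 4)) (.leaf (.up 4 1257 1)))))) (.node (.node (.node (.node (.leaf (.up 2 1710 2)) (.leaf (.up 4 1285 4))) (.node (.leaf (.up 5 286 1)) (.leaf (.up 3 1454 4)))) (.node (.node (.leaf (.up 3 364 4)) (.leaf (.up 4 228 3))) (.node (.leaf (.up 3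 496 0)) (.leaf (.up 4 1577 4))))) (.node (.node (.node (.leaf (.up 3 284 1)) (.leaf (.up 4 953 1))) (.node (.leaf (.up 2 112 0)) (.leaf (.up 4 1411 1)))) (.node (.node (.leaf (.up 4 1565 4)) (.leaf (.up 3 499 4))) (.node (.leaf (.up 2 1718 4)) (.leaf (.up 4 1370 1))))))) (.node (.node (.node (.node (.node (.leaf (.up 4 141 1)) (.leaf (.up 5 259 2))) (.node (.leaf (.up 4 1719 1)) (.leaf (.up 3 927 2)))) (.node (.node (.leaf (.up 1 1 2)) (.leaf (.up 3 230 4))) (.node (.leaf (.up 2 1718 3)) (.leaf (.up 4 801 0))))) (.node (.node (.node (.leaf (.up 4 1022 4)) (.leaf (.up 2 1040 1))) (.node (.leaf (.up 3 143 1)) (.leaf (.up 2 1040 3)))) (.node (.node (.leaf (.up 4 239 3)) (.leaf (.up 5 1225 1))) (.node (.leaf (.up 4 86 1)) (.leaf (.up 5 1852 4)))))) (.node (.node (.node (.node (.leaf (.up 5 119 4)) (.leaf (.up 3 923 1))) (.node (.leaf (.up 4 1796 1)) (.leaf (.up 3 1956 3)))) (.node (.node (.leaf (.up 3 1008 2)) (.leaf (.up 3 1474 0)))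 (.node (.leaf (.up 2 2013 1)) (.leaf (.up 5 797 2))))) (.node (.node (.node (.leaf (.up 3 1610 0)) (.leaf (.up 5 509 3))) (.node (.leaf (.up 2 1779 3)) (.leaf (.up 3 921 1)))) (.node (.node (.leaf (.up 5 1153 4)) (.leaf (.up 3 879 4))) (.node (.leaf (.up 3 1066 4)) (.leaf (.up 3 832 1))))))))

noncomputable def vt5_8_110 : Tr VStep := .node vt5_8_1100 vt5_8_1101

noncomputable def vt5_8_1110 : Tr VStep :=
  .node (.node (.node (.node (.node (.node (.node (.leaf (.up 4 1455 3)) (.leaf (.up 2 541 1))) (.node (.leaf (.up 4 1368 4)) (.leaf (.up 2 1040 2)))) (.node (.node (.leaf (.up 4 1630 3)) (.leaf (.up 4 708 1))) (.node (.leaf (.up 4 1627 1)) (.leaf (.up 5 285 0))))) (.node (.node (.node (.leaf (.up 4 642 4)) (.leaf (.up 3 1061 1))) (.node (.leaf (.up 3 1887 2)) (.leaf (.up 3 1326 2)))) (.node (.node (.leaf (.up 4 1712 2)) (.leaf (.up 4 413 0))) (.node (.leaf (.up 3 99 1)) (.leaf (.up 3 925 0)))))) (.node (.node (.node (.node (.leaf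 (.up 4 734 3)) (.leaf (.up 5 1868 3))) (.node (.leaf (.up 1 66 3)) (.leaf (.up 3 1488 3)))) (.node (.node (.leaf (.up 3 652 4)) (.leaf (.up 5 887 1))) (.node (.leaf (.up 5 2024 1)) (.leaf (.up 4 1481 4))))) (.node (.node (.node (.leaf (.up 5 1586 2)) (.leaf (.up 5 404 4))) (.node (.leaf (.up 4 1159 3)) (.leaf (.up 3 940 1)))) (.node (.node (.leaf (.up 2 1910 0)) (.leaf (.up 5 1359 1))) (.node (.leaf (.up 2 1366 4)) (.leaf (.up 3 885 1))))))) (.node (.node (.node (.node (.node (.leaf (.up 4 1903 4)) (.leaf (.up 2 161 2))) (.node (.leaf (.up 4 1988 4)) (.leaf (.up 1 42 4)))) (.node (.node (.leaf (.up 4 115 3)) (.leaf (.up 5 774 4))) (.node (.leaf (.up 1 65 1)) (.leaf (.up 5 334 2))))) (.node (.node (.node (.leaf (.up 5 1863 3)) (.leaf (.up 4 575 1))) (.node (.leaf (.up 3 370 2)) (.leaf (.up 4 771 2)))) (.node (.node (.leaf (.up 3 921 4)) (.leaf (.up 3 748 2))) (.node (.leaf (.up 2 513 2)) (.leaf (.up 2 112 2)))))) (.node (.node (.node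 (.node (.leaf (.up 3 716 0)) (.leaf (.up 2 353 3))) (.node (.leaf (.up 2 957 2)) (.leaf (.up 4 708 0)))) (.node (.node (.leaf (.up 5 1992 1)) (.leaf (.up 4 35 2))) (.node (.leaf (.up 4 498 1)) (.leaf (.up 4 703 2))))) (.node (.node (.node (.leaf (.up 4 297 1)) (.leaf (.up 4 580 0))) (.node (.leaf (.up 4 588 0)) (.leaf (.up 4 1462 1)))) (.node (.node (.leaf (.up 3 496 1)) (.leaf (.up 3 143 4))) (.node (.leaf (.up 1 332 0)) (.leaf (.up 5 1225 3)))))))) (.node (.node (.node (.node (.node (.node (.leaf (.up 3 1694 3)) (.leaf (.up 5 365 4))) (.node (.leaf (.up 3 1026 3)) (.leaf (.up 4 454 4)))) (.node (.node (.leaf (.up 5 791 0)) (.leaf (.up 4 746 4))) (.node (.leaf (.up 4 1455 4)) (.leaf (.up 2 934 2))))) (.node (.node (.node (.leaf (.up 4 498 4)) (.leaf (.up 4 542 1))) (.node (.leaf (.up 5 345 4)) (.leaf (.up 4 1719 4)))) (.node (.node (.leaf (.up 1 98 1)) (.leaf (.up 1 4 2))) (.node (.leaf (.up 4 734 4)) (.leaf (.up 4 1700 3))))))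 (.node (.node (.node (.node (.leaf (.up 4 969 2)) (.leaf (.up 4 440 2))) (.node (.leaf (.up 3 266 1)) (.leaf (.up 3 1761 3)))) (.node (.node (.leaf (.up 4 2025 1)) (.leaf (.up 3 715 2))) (.node (.leaf (.up 4 550 2)) (.leaf (.up 5 1296 3))))) (.node (.node (.node (.leaf (.up 3 264 1)) (.leaf (.up 4 134 2))) (.node (.leaf (.up 3 1140 0)) (.leaf (.up 2 1431 1)))) (.node (.node (.leaf (.up 4 1677 4)) (.leaf (.up 4 1916 0))) (.node (.leaf (.up 4 2027 1)) (.leaf (.up 3 1358 1))))))) (.node (.node (.node (.node (.node (.leaf (.up 3 179 3)) (.leaf (.up 3 1009 4))) (.node (.leaf (.up 2 1204 4)) (.leaf (.up 3 1061 0)))) (.node (.node (.leaf (.up 4 1837 0)) (.leaf (.up 3 1815 2))) (.node (.leaf (.up 5 478 3)) (.leaf (.up 4 1100 3))))) (.node (.node (.node (.leaf (.up 5 1697 1)) (.leaf (.up 4 1370 2))) (.node (.leaf (.up 3 1770 3)) (.leaf (.up 3 1067 4)))) (.node (.node (.leaf (.up 2 1453 0)) (.leaf (.up 3 1245 1))) (.node (.leaf (.up 1 66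 1)) (.leaf (.up 5 1205 2)))))) (.node (.node (.node (.node (.leaf (.up 4 298 1)) (.leaf (.up 3 1941 2))) (.node (.leaf (.up 4 1808 1)) (.leaf (.up 1 198 0)))) (.node (.node (.leaf (.up 3 499 1)) (.leaf (.up 4 454 0))) (.node (.leaf (.up 4 1711 3)) (.leaf (.up 3 1061 4))))) (.node (.node (.node (.leaf (.up 2 590 0)) (.leaf (.up 4 1463 1))) (.node (.leaf (.up 4 296 1)) (.leaf (.up 4 1079 2)))) (.node (.node (.leaf (.up 4 1995 1)) (.leaf (.up 3 1390 1))) (.node (.leaf (.up 4 1333 2)) (.leaf (.up 4 2040 3))))))))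

noncomputable def vt5_8_1111 : Tr VStep :=
  .node (.node (.node (.node (.node (.node (.node (.leaf (.up 3 1169 3)) (.leaf (.up 4 1565 0))) (.node (.leaf (.up 3 188 1)) (.leaf (.up 3 927 3)))) (.node (.node (.leaf (.up 3 472 2)) (.leaf (.up 4 619 4))) (.node (.leaf (.up 3 1326 4)) (.leaf (.up 3 704 1))))) (.node (.node (.node (.leaf (.up 2 371 4)) (.leaf (.up 5 539 1))) (.node (.leaf (.up 3 712 3)) (.leaf (.up 5 1590 4)))) (.node (.node (.leaf (.up 3 933 3)) (.leaf (.up 4 1591 3))) (.node (.leaf (.up 3 1941 0)) (.leaf (.up 5 11 2)))))) (.node (.node (.node (.node (.leaf (.up 3 1845 1)) (.leaf (.up 4 811 2))) (.node (.leaf (.up 4 271 1)) (.leaf (.up 3 439 2)))) (.node (.node (.leaf (.up 2 17 3)) (.leaf (.up 4 1411 3))) (.node (.leaf (.up 3 502 0)) (.leaf (.up 4 1592 4))))) (.node (.node (.node (.leaf (.up 4 630 0)) (.leaf (.up 4 126 0))) (.node (.leaf (.up 5 118 0)) (.leaf (.up 3 43 3)))) (.node (.node (.leaf (.up 5 791 2)) (.leaf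 (.up 3 358 2))) (.node (.leaf (.up 4 2030 1)) (.leaf (.up 3 1355 1))))))) (.node (.node (.node (.node (.node (.leaf (.up 4 1182 4)) (.leaf (.up 4 880 4))) (.node (.leaf (.up 3 32 3)) (.leaf (.up 3 987 4)))) (.node (.node (.leaf (.up 5 815 0)) (.leaf (.up 3 247 4))) (.node (.leaf (.up 4 1385 2)) (.leaf (.up 2 807 0))))) (.node (.node (.node (.leaf (.up 4 1700 1)) (.leaf (.up 5 1993 2))) (.node (.leaf (.up 5 1253 3)) (.leaf (.up 3 1194 4)))) (.node (.node (.leaf (.up 3 1416 3)) (.leaf (.up 3 935 0))) (.node (.leaf (.up 3 1812 3)) (.leaf (.up 4 1837 4)))))) (.node (.node (.node (.node (.leaf (.up 4 1911 2)) (.leaf (.up 4 1286 2))) (.node (.leaf (.up 4 1740 0)) (.leaf (.up 3 1456 1)))) (.node (.node (.leaf (.up 3 502 1)) (.leaf (.up 5 1653 2))) (.node (.leaf (.up 2 842 4)) (.leaf (.up 3 1188 4))))) (.node (.node (.node (.leaf (.up 3 264 3)) (.leaf (.up 3 1178 3))) (.node (.leaf (.up 2 1980 4)) (.leaf (.up 4 1700 2)))) (.node (.node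 (.leaf (.up 4 1338 2)) (.leaf (.up 4 1867 2))) (.node (.leaf (.up 5 1868 0)) (.leaf (.up 2 849 1)))))))) (.node (.node (.node (.node (.node (.node (.leaf (.up 5 189 1)) (.leaf (.up 3 668 4))) (.node (.leaf (.up 4 1340 3)) (.leaf (.up 3 567 4)))) (.node (.node (.leaf (.up 3 1781 4)) (.leaf (.up 4 1900 2))) (.node (.leaf (.up 3 1815 0)) (.leaf (.up 5 863 3))))) (.node (.node (.node (.leaf (.up 3 1669 1)) (.leaf (.up 4 1313 2))) (.node (.leaf (.up 4 1484 2)) (.leaf (.up 5 1350 4)))) (.node (.node (.leaf (.up 5 1059 2)) (.leaf (.up 4 1286 3))) (.node (.leaf (.up 2 1431 0)) (.leaf (.up 2 1230 2)))))) (.node (.node (.node (.node (.leaf (.up 4 270 1)) (.leaf (.up 4 2030 2))) (.node (.leaf (.up 4 1844 1)) (.leaf (.up 4 1743 4)))) (.node (.node (.leaf (.up 5 525 4)) (.leaf (.up 2 1507 4))) (.node (.leaf (.up 4 1136 2)) (.leaf (.up 2 1070 3))))) (.node (.node (.node (.leaf (.up 4 1044 3)) (.leaf (.up 4 636 0))) (.node (.leaf (.up 5 268 1))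 (.leaf (.up 3 794 3)))) (.node (.node (.leaf (.up 3 2031 1)) (.leaf (.up 4 658 4))) (.node (.leaf (.up 3 1358 2)) (.leaf (.up 4 880 1))))))) (.node (.node (.node (.node (.node (.leaf (.up 4 557 0)) (.leaf (.up 1 0 4))) (.node (.leaf (.up 3 45 0)) (.leaf (.up 3 171 4)))) (.node (.node (.leaf (.up 4 636 3)) (.leaf (.up 4 2030 3))) (.node (.leaf (.up 4 428 2)) (.leaf (.up 5 989 2))))) (.node (.node (.node (.leaf (.up 4 381 2)) (.leaf (.up 4 570 1))) (.node (.leaf (.up 3 1701 1)) (.leaf (.up 4 400 2)))) (.node (.node (.leaf (.up 5 526 2)) (.leaf (.up 3 1270 4))) (.node (.leaf (.up 2 1660 1)) (.leaf (.up 3 439 3)))))) (.node (.node (.node (.node (.leaf (.up 3 1812 1)) (.leaf (.up 5 1272 4))) (.node (.leaf (.up 2 957 4)) (.leaf (.up 4 498 3)))) (.node (.node (.leaf (.up 4 145 4)) (.leaf (.up 4 1990 0))) (.node (.leaf (.up 4 605 2)) (.leaf (.up 3 44 2))))) (.node (.node (.node (.leaf (.up 3 652 2)) (.leaf (.up 4 1606 0))) (.node (.leaf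 (.up 5 1814 1)) (.leaf (.up 4 1335 3)))) (.node (.node (.leaf (.up 2 1870 0)) (.leaf (.up 4 910 2))) (.node (.leaf (.up 3 1358 0)) (.leaf (.up 4 274 2))))))))

noncomputable def vt5_8_111 : Tr VStep := .node vt5_8_1110 vt5_8_1111

noncomputable def vt5_8_11 : Tr VStep := .node vt5_8_110 vt5_8_111

noncomputable def vt5_8_1 : Tr VStep := .node vt5_8_10 vt5_8_11

noncomputable def vt5_8_ : Tr VStep := .node vt5_8_0 vt5_8_1

noncomputable def vt5_9_0000 : Tr VStep :=
  .node (.node (.node (.node (.node (.node (.node (.leaf (.root 1954)) (.leaf (.up 9 695 1))) (.node (.leaf (.up 4 659 1)) (.leaf (.up 7 1687 0)))) (.node (.node (.leaf (.up 4 1992 0)) (.leaf (.up 8 880 2))) (.node (.leaf (.up 6 1762 2)) (.leaf (.up 7 1995 0))))) (.node (.node (.node (.leaf (.up 6 727 1)) (.leaf (.up 7 1640 1))) (.node (.leaf (.up 8 362 2)) (.leaf (.up 9 1197 0)))) (.node (.node (.leaf (.up 6 1928 2)) (.leaf (.up 8 743 1))) (.node (.leaf (.up 2 496 0))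 (.leaf (.up 8 1521 0)))))) (.node (.node (.node (.node (.leaf (.up 8 1309 0)) (.leaf (.up 6 284 0))) (.node (.leaf (.up 8 287 0)) (.leaf (.up 4 361 1)))) (.node (.node (.leaf (.up 3 513 2)) (.leaf (.up 6 304 2))) (.node (.leaf (.up 8 345 1)) (.leaf (.up 7 1090 0))))) (.node (.node (.node (.leaf (.up 7 1426 1)) (.leaf (.up 6 1720 2))) (.node (.leaf (.up 8 805 0)) (.leaf (.up 6 1462 1)))) (.node (.node (.leaf (.up 5 1480 2)) (.leaf (.up 6 634 0))) (.node (.leaf (.up 6 875 2)) (.leaf (.up 7 313 1))))))) (.node (.node (.node (.node (.node (.leaf (.up 6 182 2)) (.leaf (.up 8 1669 0))) (.node (.leaf (.up 5 1557 2)) (.leaf (.up 9 1316 2)))) (.node (.node (.leaf (.up 7 984 0)) (.leaf (.up 4 678 1))) (.node (.leaf (.up 8 2010 0)) (.leaf (.up 9 1597 1))))) (.node (.node (.node (.leaf (.up 8 1609 1)) (.leaf (.up 5 758 1))) (.node (.leaf (.up 4 476 2)) (.leaf (.up 8 1645 1)))) (.node (.node (.leaf (.up 7 710 1)) (.leaf (.up 5 1657 1))) (.node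 (.leaf (.up 5 1629 1)) (.leaf (.up 7 481 0)))))) (.node (.node (.node (.node (.leaf (.up 5 758 2)) (.leaf (.up 5 455 2))) (.node (.leaf (.up 7 328 1)) (.leaf (.up 6 1892 2)))) (.node (.node (.leaf (.up 9 348 1)) (.leaf (.up 9 390 2))) (.node (.leaf (.up 8 1107 0)) (.leaf (.up 6 82 0))))) (.node (.node (.node (.leaf (.up 7 268 1)) (.leaf (.up 9 1550 2))) (.node (.leaf (.up 7 924 2)) (.leaf (.up 2 173 2)))) (.node (.node (.leaf (.up 8 619 0)) (.leaf (.up 5 1642 0))) (.node (.leaf (.up 9 280 1)) (.leaf (.up 3 616 0)))))))) (.node (.node (.node (.node (.node (.node (.leaf (.up 7 1308 2)) (.leaf (.up 2 1581 2))) (.node (.leaf (.up 6 959 2)) (.leaf (.up 4 1161 1)))) (.node (.node (.leaf (.up 8 972 0)) (.leaf (.up 9 1181 1))) (.node (.leaf (.up 9 1022 2)) (.leaf (.up 7 975 0))))) (.node (.node (.node (.leaf (.up 7 114 1)) (.leaf (.up 8 484 2))) (.node (.leaf (.up 9 1192 0)) (.leaf (.up 6 86 1)))) (.node (.node (.leaf (.up 7 502 0)) (.leaf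 (.up 1 66 1))) (.node (.leaf (.up 5 102 1)) (.leaf (.up 4 501 0)))))) (.node (.node (.node (.node (.leaf (.up 6 1000 1)) (.leaf (.up 10 1304 0))) (.node (.leaf (.up 5 511 2)) (.leaf (.up 7 718 2)))) (.node (.node (.leaf (.up 8 1895 1)) (.leaf (.up 7 984 1))) (.node (.leaf (.up 6 1095 0)) (.leaf (.up 6 70 0))))) (.node (.node (.node (.leaf (.up 7 149 2)) (.leaf (.up 9 1826 0))) (.node (.leaf (.up 6 1825 0)) (.leaf (.up 8 1811 1)))) (.node (.node (.leaf (.up 5 639 0)) (.leaf (.up 7 997 2))) (.node (.leaf (.up 5 1827 1)) (.leaf (.up 6 1350 2))))))) (.node (.node (.node (.node (.node (.leaf (.up 9 51 1)) (.leaf (.up 2 1691 2))) (.node (.leaf (.up 9 642 0)) (.leaf (.up 4 1667 0)))) (.node (.node (.leaf (.up 5 1515 2)) (.leaf (.up 10 1754 2))) (.node (.leaf (.up 6 840 2)) (.leaf (.up 8 1176 1))))) (.node (.node (.node (.leaf (.up 6 611 2)) (.leaf (.up 7 83 1))) (.node (.leaf (.up 6 184 0)) (.leaf (.up 9 1224 1)))) (.node (.node (.leaf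 (.up 7 546 2)) (.leaf (.up 5 1244 1))) (.node (.leaf (.up 8 484 0)) (.leaf (.up 3 1509 0)))))) (.node (.node (.node (.node (.leaf (.up 3 1910 1)) (.leaf (.up 8 969 1))) (.node (.leaf (.up 4 1005 1)) (.leaf (.up 9 1874 1)))) (.node (.node (.leaf (.up 7 1109 0)) (.leaf (.up 5 1862 1))) (.node (.leaf (.up 7 1890 1)) (.leaf (.up 8 1110 0))))) (.node (.node (.node (.leaf (.up 7 937 1)) (.leaf (.up 5 818 0))) (.node (.leaf (.up 9 1842 1)) (.leaf (.up 8 1457 2)))) (.node (.node (.leaf (.up 1 98 2)) (.leaf (.up 8 622 0))) (.node (.leaf (.up 5 621 0)) (.leaf (.up 9 1644 0))))))))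

noncomputable def vt5_9_0001 : Tr VStep :=
  .node (.node (.node (.node (.node (.node (.node (.leaf (.up 7 922 2)) (.leaf (.up 3 522 0))) (.node (.leaf (.up 8 1337 2)) (.leaf (.up 4 179 1)))) (.node (.node (.leaf (.up 9 987 2)) (.leaf (.up 6 167 1))) (.node (.leaf (.up 8 853 0)) (.leaf (.up 8 1084 1))))) (.node (.node (.node (.leaf (.up 7 1096 1)) (.leaf (.up 7 1890 2))) (.node (.leaf (.up 9 211 1)) (.leaf (.up 7 1132 1)))) (.node (.node (.leaf (.up 8 1042 2)) (.leaf (.up 3 1144 1))) (.node (.leaf (.up 8 1116 1)) (.leaf (.up 5 227 1)))))) (.node (.node (.node (.node (.leaf (.up 7 2002 1)) (.leaf (.up 6 747 2))) (.node (.leaf (.up 6 1913 2)) (.leaf (.up 7 2038 1)))) (.node (.node (.leaf (.up 6 1246 0)) (.leaf (.up 7 682 2))) (.node (.leaf (.up 5 1848 2)) (.leaf (.up 6 889 1))))) (.node (.node (.node (.leaf (.up 7 1555 2)) (.leaf (.up 8 1970 1))) (.node (.leaf (.up 6 954 0)) (.leaf (.up 5 897 2)))) (.node (.node (.leaf (.up 5 1764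 0)) (.leaf (.up 4 741 0))) (.node (.leaf (.up 6 241 2)) (.leaf (.up 3 1958 1))))))) (.node (.node (.node (.node (.node (.leaf (.up 8 812 2)) (.leaf (.up 6 182 1))) (.node (.leaf (.up 7 146 1)) (.leaf (.up 4 1726 2)))) (.node (.node (.leaf (.up 7 134 1)) (.leaf (.up 5 92 2))) (.node (.leaf (.up 6 1053 1)) (.leaf (.up 7 162 1))))) (.node (.node (.node (.leaf (.up 7 33 0)) (.leaf (.up 8 1129 1))) (.node (.leaf (.up 6 1101 1)) (.leaf (.up 8 34 0)))) (.node (.node (.leaf (.up 5 1188 2)) (.leaf (.up 6 1941 2))) (.node (.leaf (.up 4 519 2)) (.leaf (.up 4 382 0)))))) (.node (.node (.node (.node (.leaf (.up 2 402 0)) (.leaf (.up 8 2035 1))) (.node (.leaf (.up 2 1424 0)) (.leaf (.up 6 872 1)))) (.node (.node (.leaf (.up 6 206 0)) (.leaf (.up 9 1231 0))) (.node (.leaf (.up 5 1228 0)) (.leaf (.up 7 205 0))))) (.node (.node (.node (.leaf (.up 4 1701 2)) (.leaf (.up 8 1428 2))) (.node (.leaf (.up 7 6 2)) (.leaf (.up 7 1975 1)))) (.node (.node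 (.leaf (.up 5 756 0)) (.leaf (.up 7 1781 0))) (.node (.leaf (.up 5 71 2)) (.leaf (.up 6 759 0)))))))) (.node (.node (.node (.node (.node (.node (.leaf (.up 3 562 1)) (.leaf (.up 9 1463 2))) (.node (.leaf (.up 3 1705 1)) (.leaf (.up 7 524 0)))) (.node (.node (.leaf (.up 8 1735 2)) (.leaf (.up 9 1874 0))) (.node (.leaf (.up 7 100 2)) (.leaf (.up 6 1689 1))))) (.node (.node (.node (.leaf (.up 8 335 2)) (.leaf (.up 7 594 1))) (.node (.leaf (.up 6 630 1)) (.leaf (.up 6 1245 2)))) (.node (.node (.leaf (.up 4 361 0)) (.leaf (.up 6 1757 1))) (.node (.leaf (.up 6 1387 0)) (.leaf (.up 6 582 1)))))) (.node (.node (.node (.node (.leaf (.up 9 1399 1)) (.leaf (.up 4 2039 2))) (.node (.leaf (.up 5 613 2)) (.leaf (.up 5 1363 1)))) (.node (.node (.leaf (.up 9 1159 2)) (.leaf (.up 8 1351 1))) (.node (.leaf (.up 7 1379 1)) (.leaf (.up 4 476 1))))) (.node (.node (.node (.leaf (.up 6 424 1)) (.leaf (.up 7 1303 1))) (.node (.leaf (.up 4 1331 1)) (.leaf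 (.up 6 1693 2)))) (.node (.node (.leaf (.up 6 846 2)) (.leaf (.up 5 408 1))) (.node (.leaf (.up 6 1762 0)) (.leaf (.up 5 1756 2))))))) (.node (.node (.node (.node (.node (.leaf (.up 4 1708 1)) (.leaf (.up 7 531 1))) (.node (.leaf (.up 2 147 2)) (.leaf (.up 8 1672 1)))) (.node (.node (.leaf (.up 6 547 1)) (.leaf (.up 5 1692 1))) (.node (.leaf (.up 6 1720 1)) (.leaf (.up 4 519 1))))) (.node (.node (.node (.leaf (.up 5 1061 0)) (.leaf (.up 4 36 0))) (.node (.leaf (.up 7 1882 2)) (.leaf (.up 5 1131 2)))) (.node (.node (.leaf (.up 6 1401 0)) (.leaf (.up 7 649 2))) (.node (.leaf (.up 6 379 0)) (.leaf (.up 6 1066 2)))))) (.node (.node (.node (.node (.leaf (.up 9 1136 2)) (.leaf (.up 2 1857 2))) (.node (.leaf (.up 8 404 0)) (.leaf (.up 6 461 1)))) (.node (.node (.leaf (.up 9 1226 0)) (.leaf (.up 8 203 0))) (.node (.leaf (.up 6 658 2)) (.leaf (.up 4 1346 1))))) (.node (.node (.node (.leaf (.up 9 953 2)) (.leaf (.up 8 136 2))) (.node (.leaf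 (.up 7 1306 2)) (.leaf (.up 5 1579 2)))) (.node (.node (.leaf (.up 9 441 1)) (.leaf (.up 5 753 0))) (.node (.leaf (.up 9 1314 1)) (.leaf (.up 3 1779 0))))))))

noncomputable def vt5_9_000 : Tr VStep := .node vt5_9_0000 vt5_9_0001

noncomputable def vt5_9_0010 : Tr VStep :=
  .node (.node (.node (.node (.node (.node (.node (.leaf (.up 7 216 1)) (.leaf (.up 8 1127 1))) (.node (.leaf (.up 8 1091 1)) (.leaf (.up 6 614 2)))) (.node (.node (.leaf (.up 7 1973 2)) (.leaf (.up 5 232 1))) (.node (.leaf (.up 4 1994 0)) (.leaf (.up 5 1139 1))))) (.node (.node (.node (.leaf (.up 3 174 0)) (.leaf (.up 5 780 2))) (.node (.leaf (.up 6 156 1)) (.leaf (.up 2 173 0)))) (.node (.node (.leaf (.up 8 124 2)) (.leaf (.up 6 1523 0))) (.node (.leaf (.up 6 1043 1)) (.leaf (.up 7 497 0)))))) (.node (.node (.node (.node (.leaf (.up 7 1460 2)) (.leaf (.up 7 1308 0))) (.node (.leaf (.up 9 1311 0)) (.leaf (.up 4 1977 1)))) (.node (.node (.leaf (.up 7 786 1)) (.leaf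 (.up 7 1088 0))) (.node (.leaf (.up 8 1091 0)) (.leaf (.up 1 66 0))))) (.node (.node (.node (.leaf (.up 8 834 1)) (.leaf (.up 4 1830 0))) (.node (.leaf (.up 5 2009 1)) (.leaf (.up 7 2031 2)))) (.node (.node (.leaf (.up 8 572 2)) (.leaf (.up 6 882 1))) (.node (.leaf (.up 5 1657 0)) (.leaf (.up 9 2025 1))))))) (.node (.node (.node (.node (.node (.leaf (.up 3 1668 0)) (.leaf (.up 5 1139 2))) (.node (.leaf (.up 7 481 2)) (.leaf (.up 5 1671 0)))) (.node (.node (.leaf (.up 6 2008 0)) (.leaf (.up 8 1074 2))) (.node (.leaf (.up 6 1106 1)) (.leaf (.up 9 237 1))))) (.node (.node (.node (.leaf (.up 8 139 2)) (.leaf (.up 4 191 0))) (.node (.leaf (.up 4 1026 1)) (.leaf (.up 7 1305 2)))) (.node (.node (.leaf (.up 7 1506 0)) (.leaf (.up 7 1019 2))) (.node (.leaf (.up 9 480 0)) (.leaf (.up 8 1074 1)))))) (.node (.node (.node (.node (.leaf (.up 6 1282 2)) (.leaf (.up 7 268 0))) (.node (.leaf (.up 5 271 0)) (.leaf (.up 7 1294 0)))) (.node (.node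 (.leaf (.up 7 1347 2)) (.leaf (.up 5 1650 2))) (.node (.leaf (.up 7 83 0)) (.leaf (.up 5 1960 1))))) (.node (.node (.node (.leaf (.up 7 2012 1)) (.leaf (.up 4 822 0))) (.node (.leaf (.up 7 821 0)) (.leaf (.up 4 1881 2)))) (.node (.node (.leaf (.up 7 1643 0)) (.leaf (.up 5 443 2))) (.node (.leaf (.up 4 1992 1)) (.leaf (.up 7 1816 2)))))))) (.node (.node (.node (.node (.node (.node (.leaf (.up 7 1680 0)) (.leaf (.up 8 473 2))) (.node (.leaf (.up 6 658 0)) (.leaf (.up 7 1914 2)))) (.node (.node (.leaf (.up 9 1996 0)) (.leaf (.up 5 408 2))) (.node (.leaf (.up 7 617 1)) (.leaf (.up 3 1750 1))))) (.node (.node (.node (.leaf (.up 6 1194 0)) (.leaf (.up 3 541 1))) (.node (.leaf (.up 7 898 2)) (.leaf (.up 2 1193 0)))) (.node (.node (.leaf (.up 7 557 1)) (.leaf (.up 7 503 0))) (.node (.leaf (.up 6 1718 1)) (.leaf (.up 7 1525 0)))))) (.node (.node (.node (.node (.leaf (.up 6 1336 1)) (.leaf (.up 8 921 2))) (.node (.leaf (.up 6 419 1)) (.leaf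 (.up 7 1308 1)))) (.node (.node (.leaf (.up 5 233 2)) (.leaf (.up 7 1288 1))) (.node (.leaf (.up 4 1610 2)) (.leaf (.up 7 1403 2))))) (.node (.node (.node (.leaf (.up 5 1827 0)) (.leaf (.up 8 802 0))) (.node (.leaf (.up 5 801 0)) (.leaf (.up 9 755 2)))) (.node (.node (.leaf (.up 10 1824 2)) (.leaf (.up 9 1041 2))) (.node (.leaf (.up 8 637 0)) (.leaf (.up 8 1356 1))))))) (.node (.node (.node (.node (.node (.leaf (.up 7 606 2)) (.leaf (.up 9 604 1))) (.node (.leaf (.up 7 1666 0)) (.leaf (.up 8 1735 1)))) (.node (.node (.leaf (.up 6 543 2)) (.leaf (.up 3 1747 1))) (.node (.leaf (.up 6 1783 1)) (.leaf (.up 5 1933 2))))) (.node (.node (.node (.leaf (.up 6 186 0)) (.leaf (.up 4 1667 1))) (.node (.leaf (.up 5 1208 0)) (.leaf (.up 4 536 1)))) (.node (.node (.leaf (.up 6 1715 1)) (.leaf (.up 6 1511 0))) (.node (.leaf (.up 6 1508 0)) (.leaf (.up 7 1687 1)))))) (.node (.node (.node (.node (.leaf (.up 6 422 1)) (.leaf (.up 7 1288 0))) (.node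 (.leaf (.up 6 1291 0)) (.leaf (.up 7 386 1)))) (.node (.node (.leaf (.up 3 85 0)) (.leaf (.up 9 1108 0))) (.node (.leaf (.up 6 434 1)) (.leaf (.up 6 1485 2))))) (.node (.node (.node (.leaf (.up 6 1401 1)) (.leaf (.up 7 454 1))) (.node (.leaf (.up 4 372 2)) (.leaf (.up 7 816 0)))) (.node (.node (.leaf (.up 7 502 1)) (.leaf (.up 5 1353 1))) (.node (.leaf (.up 8 1645 0)) (.leaf (.up 7 620 0))))))))

noncomputable def vt5_9_0011 : Tr VStep :=
  .node (.node (.node (.node (.node (.node (.node (.leaf (.up 9 1607 1)) (.leaf (.up 8 760 1))) (.node (.leaf (.up 6 732 1)) (.leaf (.up 8 508 2)))) (.node (.node (.leaf (.up 6 1071 2)) (.leaf (.up 6 1655 1))) (.node (.leaf (.up 4 1619 1)) (.leaf (.up 5 852 0))))) (.node (.node (.node (.leaf (.up 4 935 2)) (.leaf (.up 2 150 2))) (.node (.leaf (.up 6 1539 1)) (.leaf (.up 4 700 1)))) (.node (.node (.leaf (.up 6 1559 1)) (.leaf (.up 7 680 1))) (.node (.leaf (.up 7 652 1)) (.leaf (.up 8 366 0))))))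 (.node (.node (.node (.node (.leaf (.up 7 386 0)) (.leaf (.up 8 1469 1))) (.node (.leaf (.up 8 1433 1)) (.leaf (.up 7 385 0)))) (.node (.node (.leaf (.up 4 222 0)) (.leaf (.up 7 1374 2))) (.node (.leaf (.up 5 1244 0)) (.leaf (.up 6 1021 2))))) (.node (.node (.node (.leaf (.up 5 1501 1)) (.leaf (.up 4 1977 0))) (.node (.leaf (.up 2 1860 2)) (.leaf (.up 7 955 0)))) (.node (.node (.leaf (.up 6 422 2)) (.leaf (.up 8 663 2))) (.node (.leaf (.up 7 1797 2)) (.leaf (.up 8 743 0))))))) (.node (.node (.node (.node (.node (.leaf (.up 7 1563 0)) (.leaf (.up 7 1638 1))) (.node (.leaf (.up 8 537 0)) (.leaf (.up 7 330 2)))) (.node (.node (.leaf (.up 8 1177 2)) (.leaf (.up 5 745 1))) (.node (.leaf (.up 7 570 2)) (.leaf (.up 2 1860 0))))) (.node (.node (.node (.leaf (.up 7 785 2)) (.leaf (.up 5 697 1))) (.node (.leaf (.up 9 1458 2)) (.leaf (.up 3 1570 1)))) (.node (.node (.leaf (.up 7 649 1)) (.leaf (.up 7 1590 1))) (.node (.leaf (.up 6 1523 2))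 (.leaf (.up 9 1730 2)))))) (.node (.node (.node (.node (.leaf (.up 7 1436 1)) (.leaf (.up 6 1449 2))) (.node (.leaf (.up 6 263 1)) (.leaf (.up 8 1425 0)))) (.node (.node (.leaf (.up 4 1230 0)) (.leaf (.up 8 1452 1))) (.node (.leaf (.up 4 1416 1)) (.leaf (.up 9 1229 0))))) (.node (.node (.node (.leaf (.up 5 1960 0)) (.leaf (.up 6 1532 1))) (.node (.leaf (.up 6 1496 1)) (.leaf (.up 5 359 1)))) (.node (.node (.leaf (.up 8 1780 0)) (.leaf (.up 5 545 2))) (.node (.leaf (.up 5 758 0)) (.leaf (.up 6 1783 0)))))))) (.node (.node (.node (.node (.node (.node (.leaf (.up 7 1250 1)) (.leaf (.up 7 93 1))) (.node (.leaf (.up 9 2001 2)) (.leaf (.up 9 1548 0)))) (.node (.node (.leaf (.up 5 109 1)) (.leaf (.up 6 850 0))) (.node (.leaf (.up 5 849 0)) (.leaf (.up 7 73 1))))) (.node (.node (.node (.leaf (.up 5 61 1)) (.leaf (.up 7 1154 1))) (.node (.leaf (.up 2 55 0)) (.leaf (.up 4 1078 0)))) (.node (.node (.leaf (.up 6 1385 0)) (.leaf (.up 6 13 1)))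 (.node (.leaf (.up 6 89 2)) (.leaf (.up 3 1386 0)))))) (.node (.node (.node (.node (.leaf (.up 4 935 1)) (.leaf (.up 7 1816 1))) (.node (.leaf (.up 8 1425 2)) (.leaf (.up 7 1413 0)))) (.node (.node (.leaf (.up 8 1832 1)) (.leaf (.up 1 66 2))) (.node (.leaf (.up 7 216 0)) (.leaf (.up 5 1241 0))))) (.node (.node (.node (.leaf (.up 5 1912 1)) (.leaf (.up 4 1994 2))) (.node (.leaf (.up 5 958 0)) (.leaf (.up 4 361 2)))) (.node (.node (.leaf (.up 3 1760 0)) (.leaf (.up 4 737 0))) (.node (.leaf (.up 8 537 2)) (.leaf (.up 6 979 1))))))) (.node (.node (.node (.node (.node (.leaf (.up 6 543 0)) (.leaf (.up 7 1219 1))) (.node (.leaf (.up 7 1565 0)) (.leaf (.up 8 1110 2)))) (.node (.node (.leaf (.up 5 1267 1)) (.leaf (.up 6 692 2))) (.node (.leaf (.up 2 1857 0)) (.leaf (.up 8 1239 1))))) (.node (.node (.node (.leaf (.up 5 37 0)) (.leaf (.up 6 1060 0))) (.node (.leaf (.up 3 174 2)) (.leaf (.up 6 38 0)))) (.node (.node (.leaf (.up 7 377 0)) (.leaf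 (.up 8 1171 1))) (.node (.leaf (.up 7 1207 1)) (.leaf (.up 8 990 2)))))) (.node (.node (.node (.node (.leaf (.up 7 900 2)) (.leaf (.up 6 902 1))) (.node (.leaf (.up 7 1319 2)) (.leaf (.up 8 1558 2)))) (.node (.node (.leaf (.up 6 950 1)) (.leaf (.up 6 1227 0))) (.node (.leaf (.up 9 1224 0)) (.leaf (.up 5 914 1))))) (.node (.node (.node (.leaf (.up 6 1101 2)) (.leaf (.up 4 1881 1))) (.node (.leaf (.up 9 1917 1)) (.leaf (.up 6 479 2)))) (.node (.node (.leaf (.up 7 1897 1)) (.leaf (.up 5 1777 0))) (.node (.leaf (.up 9 1778 0)) (.leaf (.up 7 414 2))))))))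

noncomputable def vt5_9_001 : Tr VStep := .node vt5_9_0010 vt5_9_0011

noncomputable def vt5_9_00 : Tr VStep := .node vt5_9_000 vt5_9_001

noncomputable def vt5_9_0100 : Tr VStep :=
  .node (.node (.node (.node (.node (.node (.node (.leaf (.up 7 532 0)) (.leaf (.up 3 668 2))) (.node (.leaf (.up 8 1558 0)) (.leaf (.up 4 691 1)))) (.node (.node (.leaf (.up 6 840 0)) (.leaf (.up 5 679 1))) (.node (.leaf (.up 8 1871 2)) (.leaf (.up 9 1596 1))))) (.node (.node (.node (.leaf (.up 7 46 0)) (.leaf (.up 6 759 1))) (.node (.leaf (.up 8 1068 0)) (.leaf (.up 6 45 0)))) (.node (.node (.leaf (.up 6 1573 2)) (.leaf (.up 6 1300 2))) (.node (.leaf (.up 6 1392 0)) (.leaf (.up 7 369 0)))))) (.node (.node (.node (.node (.leaf (.root 2454)) (.leaf (.up 6 220 2))) (.node (.leaf (.up 4 1358 2)) (.leaf (.up 7 414 0)))) (.node (.node (.leaf (.up 6 193 0)) (.leaf (.up 3 157 2))) (.node (.leaf (.up 7 1219 0)) (.leaf (.up 5 194 0))))) (.node (.node (.node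 (.leaf (.up 4 935 0)) (.leaf (.up 3 1958 0))) (.node (.leaf (.up 9 647 2)) (.leaf (.up 8 297 1)))) (.node (.node (.leaf (.up 5 763 0)) (.leaf (.up 6 317 1))) (.node (.leaf (.up 6 281 1)) (.leaf (.up 5 1446 1))))))) (.node (.node (.node (.node (.node (.leaf (.up 7 1540 0)) (.leaf (.up 3 554 2))) (.node (.leaf (.up 6 658 1)) (.leaf (.up 2 1581 1)))) (.node (.node (.leaf (.up 5 1880 0)) (.leaf (.up 8 619 2))) (.node (.leaf (.up 7 1565 1)) (.leaf (.up 8 674 1))))) (.node (.node (.node (.leaf (.up 6 1086 0)) (.leaf (.up 8 63 0))) (.node (.leaf (.up 7 60 0)) (.leaf (.up 8 1085 0)))) (.node (.node (.leaf (.up 8 1378 0)) (.leaf (.up 7 742 1))) (.node (.leaf (.up 10 352 0)) (.leaf (.up 5 1377 0)))))) (.node (.node (.node (.node (.leaf (.root 2138)) (.leaf (.up 6 1523 1))) (.node (.leaf (.up 6 1495 1)) (.leaf (.up 6 1422 0)))) (.node (.node (.leaf (.up 8 794 2)) (.leaf (.up 7 380 1))) (.node (.leaf (.up 9 1465 2)) (.leaf (.up 6 1511 1)))))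 (.node (.node (.node (.leaf (.up 7 1975 0)) (.leaf (.up 6 950 0))) (.node (.leaf (.up 8 561 2)) (.leaf (.up 5 256 2)))) (.node (.node (.leaf (.up 6 284 1)) (.leaf (.up 6 746 0))) (.node (.leaf (.up 5 745 0)) (.leaf (.up 7 312 1)))))))) (.node (.node (.node (.node (.node (.node (.leaf (.up 5 1552 0)) (.leaf (.up 7 1165 1))) (.node (.leaf (.up 2 1193 1)) (.leaf (.up 7 22 1)))) (.node (.node (.leaf (.up 6 1264 2)) (.leaf (.up 7 1985 2))) (.node (.leaf (.up 6 846 0)) (.leaf (.up 8 1177 1))))) (.node (.node (.node (.leaf (.up 6 1066 0)) (.leaf (.up 6 82 1))) (.node (.leaf (.up 5 1499 2)) (.leaf (.up 6 1770 2)))) (.node (.node (.leaf (.up 1 98 1)) (.leaf (.up 6 1245 1))) (.node (.leaf (.up 4 372 0)) (.leaf (.up 6 70 1)))))) (.node (.node (.node (.node (.leaf (.up 5 1777 2)) (.leaf (.up 5 408 0))) (.node (.leaf (.up 6 1004 1)) (.leaf (.up 6 1434 0)))) (.node (.node (.leaf (.up 9 1221 0)) (.leaf (.up 8 1409 2))) (.node (.leaf (.up 5 1891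 1)) (.leaf (.up 8 802 2))))) (.node (.node (.node (.leaf (.up 5 936 1)) (.leaf (.up 10 1815 1))) (.node (.leaf (.up 7 929 0)) (.leaf (.up 6 1194 2)))) (.node (.node (.leaf (.up 7 377 2)) (.leaf (.up 6 766 0))) (.node (.leaf (.up 8 956 1)) (.leaf (.up 6 1259 2))))))) (.node (.node (.node (.node (.node (.leaf (.up 5 512 0)) (.leaf (.up 7 19 1))) (.node (.leaf (.up 2 55 1)) (.leaf (.up 8 1160 1)))) (.node (.node (.leaf (.up 8 1094 2)) (.leaf (.up 6 1911 2))) (.node (.leaf (.up 4 741 2)) (.leaf (.up 8 7 1))))) (.node (.node (.node (.leaf (.up 7 58 0)) (.leaf (.up 5 1228 1))) (.node (.leaf (.up 8 1080 0)) (.leaf (.up 8 1628 2)))) (.node (.node (.leaf (.up 5 1276 1)) (.leaf (.up 8 1383 0))) (.node (.leaf (.up 4 103 1)) (.leaf (.up 7 1565 2)))))) (.node (.node (.node (.node (.leaf (.up 6 1001 1)) (.leaf (.up 4 1416 0))) (.node (.leaf (.up 7 1906 1)) (.leaf (.up 4 394 0)))) (.node (.node (.leaf (.up 7 1894 1)) (.leaf (.up 8 985 1))) (.node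 (.leaf (.up 5 165 2)) (.leaf (.up 6 1858 1))))) (.node (.node (.node (.leaf (.up 8 947 0)) (.leaf (.up 8 1970 0))) (.node (.leaf (.up 9 1837 2)) (.leaf (.up 8 1052 2)))) (.node (.node (.leaf (.up 9 953 1)) (.leaf (.up 6 766 2))) (.node (.leaf (.up 9 1826 1)) (.leaf (.up 6 925 1))))))))

noncomputable def vt5_9_0101 : Tr VStep :=
  .node (.node (.node (.node (.node (.node (.node (.leaf (.root 2360)) (.leaf (.up 7 183 1))) (.node (.leaf (.up 2 147 1)) (.leaf (.up 8 1068 1)))) (.node (.node (.leaf (.up 6 630 2)) (.leaf (.up 8 1080 1))) (.node (.leaf (.up 8 1052 1)) (.leaf (.up 8 2020 2))))) (.node (.node (.node (.leaf (.up 7 1534 2)) (.leaf (.up 8 1200 0))) (.node (.leaf (.up 9 1100 1)) (.leaf (.up 7 243 1)))) (.node (.node (.leaf (.up 3 1471 2)) (.leaf (.up 6 1516 0))) (.node (.leaf (.up 4 1519 0)) (.leaf (.up 6 45 2)))))) (.node (.node (.node (.node (.leaf (.up 7 258 0)) (.leaf (.up 6 838 2))) (.node (.leaf (.up 9 1280 0)) (.leaf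 (.up 3 1509 2)))) (.node (.node (.leaf (.up 6 1986 1)) (.leaf (.up 5 1119 0))) (.node (.leaf (.up 8 1116 0)) (.leaf (.up 7 93 0))))) (.node (.node (.node (.leaf (.up 7 824 0)) (.leaf (.up 8 813 1))) (.node (.leaf (.up 7 1850 0)) (.leaf (.up 9 827 0)))) (.node (.node (.leaf (.up 6 612 0)) (.leaf (.up 4 1230 2))) (.node (.leaf (.up 7 1638 0)) (.leaf (.up 3 825 1))))))) (.node (.node (.node (.node (.node (.leaf (.root 6446)) (.leaf (.up 5 666 0))) (.node (.leaf (.up 2 665 0)) (.leaf (.up 7 1688 0)))) (.node (.node (.leaf (.up 5 1049 1)) (.leaf (.up 7 497 2))) (.node (.leaf (.up 7 965 0)) (.leaf (.up 8 1085 1))))) (.node (.node (.node (.leaf (.up 8 1097 1)) (.leaf (.up 5 1657 2))) (.node (.leaf (.up 6 210 1)) (.leaf (.up 9 1186 0)))) (.node (.node (.leaf (.up 4 1289 2)) (.leaf (.up 8 508 0))) (.node (.leaf (.up 5 511 0)) (.leaf (.up 7 155 2)))))) (.node (.node (.node (.node (.leaf (.up 6 193 2)) (.leaf (.up 5 876 1))) (.node (.leaf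 (.up 6 840 1)) (.leaf (.up 4 1297 0)))) (.node (.node (.leaf (.up 7 1102 0)) (.leaf (.up 2 2019 1))) (.node (.leaf (.up 6 1991 1)) (.leaf (.up 6 1101 0))))) (.node (.node (.node (.leaf (.up 5 780 1)) (.leaf (.up 5 809 0))) (.node (.leaf (.up 5 1943 1)) (.leaf (.up 5 1835 0)))) (.node (.node (.leaf (.up 6 1865 2)) (.leaf (.up 3 828 1))) (.node (.leaf (.up 6 630 0)) (.leaf (.up 5 1959 1)))))))) (.node (.node (.node (.node (.node (.node (.leaf (.up 5 1835 2)) (.leaf (.up 3 530 1))) (.node (.leaf (.up 8 653 0)) (.leaf (.up 5 1676 0)))) (.node (.node (.leaf (.up 7 2003 0)) (.leaf (.up 6 1693 1))) (.node (.leaf (.up 7 457 2)) (.leaf (.up 7 518 1))))) (.node (.node (.node (.leaf (.up 5 1205 0)) (.leaf (.up 6 979 2))) (.node (.leaf (.up 4 1601 2)) (.leaf (.up 4 598 1)))) (.node (.node (.leaf (.up 8 1789 1)) (.leaf (.up 5 914 2))) (.node (.leaf (.up 6 614 1)) (.leaf (.up 4 1514 0)))))) (.node (.node (.node (.node (.leaf (.up 6 488 1)) (.leaf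 (.up 6 263 0))) (.node (.leaf (.up 6 1395 1)) (.leaf (.up 7 1285 0)))) (.node (.node (.leaf (.up 7 1114 0)) (.leaf (.up 7 472 1))) (.node (.leaf (.up 8 508 1)) (.leaf (.up 6 184 2))))) (.node (.node (.node (.leaf (.up 8 674 2)) (.leaf (.up 8 403 2))) (.node (.leaf (.up 8 1025 2)) (.leaf (.up 9 1840 2)))) (.node (.node (.leaf (.up 7 1632 0)) (.leaf (.up 8 609 0))) (.node (.leaf (.up 7 1315 1)) (.leaf (.up 7 412 1))))))) (.node (.node (.node (.node (.node (.leaf (.up 6 563 1)) (.leaf (.up 5 1676 1))) (.node (.leaf (.up 6 1693 0)) (.leaf (.up 3 668 0)))) (.node (.node (.leaf (.up 7 963 0)) (.leaf (.up 6 1986 0))) (.node (.leaf (.up 7 551 1)) (.leaf (.up 6 590 2))))) (.node (.node (.node (.leaf (.up 5 165 0)) (.leaf (.up 5 1188 0))) (.node (.leaf (.up 5 1191 0)) (.leaf (.up 6 1736 1)))) (.node (.node (.leaf (.up 2 21 2)) (.leaf (.up 5 1756 1))) (.node (.leaf (.up 5 1531 0)) (.leaf (.up 4 583 1)))))) (.node (.node (.node (.node (.leaf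 (.up 5 1398 1)) (.leaf (.up 6 1772 2))) (.node (.leaf (.up 5 493 1)) (.leaf (.up 5 277 0)))) (.node (.node (.leaf (.up 7 1436 2)) (.leaf (.up 6 1350 1))) (.node (.leaf (.up 7 1096 0)) (.leaf (.up 6 14 2))))) (.node (.node (.node (.leaf (.up 7 425 1)) (.leaf (.up 8 1302 1))) (.node (.leaf (.up 7 1207 2)) (.leaf (.up 5 397 1)))) (.node (.node (.leaf (.up 5 1318 1)) (.leaf (.up 6 409 1))) (.node (.leaf (.up 5 1650 0)) (.leaf (.up 6 1991 2))))))))

noncomputable def vt5_9_010 : Tr VStep := .node vt5_9_0100 vt5_9_0101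

noncomputable def vt5_9_0110 : Tr VStep :=
  .node (.node (.node (.node (.node (.node (.node (.leaf (.up 6 1095 1)) (.leaf (.up 7 533 0))) (.node (.leaf (.up 6 220 1)) (.leaf (.up 6 1559 0)))) (.node (.node (.leaf (.up 7 1864 0)) (.leaf (.up 6 841 0))) (.node (.leaf (.up 8 187 2)) (.leaf (.up 5 906 2))))) (.node (.node (.node (.leaf (.up 6 1070 0)) (.leaf (.up 4 673 2))) (.node (.leaf (.up 8 1843 2)) (.leaf (.up 4 1026 2)))) (.node (.node (.leaf (.up 8 1047 1)) (.leaf (.up 6 371 0))) (.node (.leaf (.up 5 140 1)) (.leaf (.up 6 1075 1)))))) (.node (.node (.node (.node (.leaf (.up 5 1049 2)) (.leaf (.up 7 412 0))) (.node (.leaf (.up 5 415 0)) (.leaf (.up 5 395 2)))) (.node (.node (.leaf (.up 5 1112 2)) (.leaf (.up 5 818 1))) (.node (.leaf (.up 5 763 2)) (.leaf (.up 4 1218 0))))) (.node (.node (.node (.leaf (.up 4 2013 1)) (.leaf (.up 9 225 2))) (.node (.leaf (.up 6 838 1)) (.leaf (.up 8 1602 2)))) (.node (.node (.leaf (.up 6 850 1))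 (.leaf (.up 7 2029 1))) (.node (.leaf (.up 7 1330 2)) (.leaf (.up 6 1539 2))))))) (.node (.node (.node (.node (.node (.leaf (.up 5 217 1)) (.leaf (.up 6 1502 2))) (.node (.leaf (.up 7 1090 1)) (.leaf (.up 4 519 0)))) (.node (.node (.leaf (.up 8 1710 2)) (.leaf (.up 4 1881 0))) (.node (.leaf (.up 6 13 2)) (.leaf (.up 3 828 2))))) (.node (.node (.node (.leaf (.up 8 62 0)) (.leaf (.up 4 535 2))) (.node (.leaf (.up 3 157 1)) (.leaf (.up 4 1058 1)))) (.node (.node (.leaf (.up 5 359 2)) (.leaf (.up 4 598 2))) (.node (.leaf (.up 8 1042 1)) (.leaf (.up 2 173 1)))))) (.node (.node (.node (.node (.leaf (.up 4 1948 1)) (.leaf (.up 8 803 1))) (.node (.leaf (.up 5 775 1)) (.leaf (.up 6 317 2)))) (.node (.node (.leaf (.up 6 209 0)) (.leaf (.up 9 2015 2))) (.node (.leaf (.up 6 1928 1)) (.leaf (.up 6 210 0))))) (.node (.node (.node (.leaf (.up 6 835 1)) (.leaf (.up 8 2044 1))) (.node (.leaf (.up 6 2008 1)) (.leaf (.up 7 871 1)))) (.node (.node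 (.leaf (.up 6 747 0)) (.leaf (.up 6 1770 0))) (.node (.leaf (.up 7 1412 2)) (.leaf (.up 7 2024 1)))))))) (.node (.node (.node (.node (.node (.node (.leaf (.up 6 1762 1)) (.leaf (.up 7 116 2))) (.node (.leaf (.up 7 1510 2)) (.leaf (.up 7 531 0)))) (.node (.node (.leaf (.up 5 621 1)) (.leaf (.up 7 1746 1))) (.node (.leaf (.up 5 1782 1)) (.leaf (.up 7 585 1))))) (.node (.node (.node (.leaf (.up 1 42 0)) (.leaf (.up 7 1666 1))) (.node (.leaf (.up 5 1702 1)) (.leaf (.up 7 286 2)))) (.node (.node (.leaf (.up 9 1714 1)) (.leaf (.up 8 2044 2))) (.node (.leaf (.up 8 622 2)) (.leaf (.up 7 373 0)))))) (.node (.node (.node (.node (.leaf (.up 5 423 1)) (.leaf (.up 7 1432 0))) (.node (.leaf (.up 3 1958 2)) (.leaf (.up 9 387 1)))) (.node (.node (.leaf (.up 6 1320 1)) (.leaf (.up 3 629 2))) (.node (.leaf (.up 7 2023 2)) (.leaf (.up 5 198 0))))) (.node (.node (.node (.leaf (.up 8 1740 2)) (.leaf (.up 5 1533 2))) (.node (.leaf (.up 6 1953 0)) (.leaf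 (.up 2 1372 1)))) (.node (.node (.leaf (.up 7 503 1)) (.leaf (.up 8 1790 0))) (.node (.leaf (.up 7 46 2)) (.leaf (.up 8 799 2))))))) (.node (.node (.node (.node (.node (.leaf (.up 8 636 1)) (.leaf (.up 3 513 0))) (.node (.leaf (.up 8 1360 2)) (.leaf (.up 6 1539 0)))) (.node (.node (.leaf (.up 3 1779 1)) (.leaf (.up 9 588 1))) (.node (.leaf (.up 3 616 1)) (.leaf (.up 9 1887 0))))) (.node (.node (.node (.leaf (.up 5 1699 1)) (.leaf (.up 7 59 0))) (.node (.leaf (.up 2 665 2)) (.leaf (.up 5 1671 1)))) (.node (.node (.leaf (.up 9 556 1)) (.leaf (.up 5 359 0))) (.node (.leaf (.up 5 728 2)) (.leaf (.up 9 520 1)))))) (.node (.node (.node (.node (.leaf (.up 7 435 2)) (.leaf (.up 9 642 2))) (.node (.leaf (.up 5 395 0)) (.leaf (.up 7 1418 0)))) (.node (.node (.leaf (.up 10 438 1)) (.leaf (.up 4 1289 1))) (.node (.leaf (.up 7 215 0)) (.leaf (.up 2 402 1))))) (.node (.node (.node (.leaf (.up 6 1658 2)) (.leaf (.up 5 1355 2))) (.node (.leaf (.up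 4 945 0)) (.leaf (.up 4 1968 0)))) (.node (.node (.leaf (.up 6 1385 1)) (.leaf (.up 8 470 1))) (.node (.leaf (.up 8 749 0)) (.leaf (.up 6 1357 1))))))))

noncomputable def vt5_9_0111 : Tr VStep :=
  .node (.node (.node (.node (.node (.node (.node (.leaf (.up 5 728 1)) (.leaf (.up 8 1639 1))) (.node (.leaf (.up 7 649 0)) (.leaf (.up 8 1672 0)))) (.node (.node (.leaf (.up 6 1623 1)) (.leaf (.up 6 1715 2))) (.node (.leaf (.up 3 716 1)) (.leaf (.up 8 16 2))))) (.node (.node (.node (.leaf (.up 3 522 2)) (.leaf (.up 3 315 2))) (.node (.leaf (.up 2 1193 2)) (.leaf (.up 6 1202 0)))) (.node (.node (.leaf (.up 8 1517 0)) (.leaf (.up 5 1591 1))) (.node (.leaf (.up 7 1555 1)) (.leaf (.up 5 2009 2)))))) (.node (.node (.node (.node (.leaf (.up 6 1282 0)) (.leaf (.up 6 290 1))) (.node (.leaf (.up 5 256 0)) (.leaf (.up 9 1465 1)))) (.node (.node (.leaf (.up 6 1986 2)) (.leaf (.up 3 1453 1))) (.node (.leaf (.up 5 92 0)) (.leaf (.up 4 310 1)))))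 (.node (.node (.node (.leaf (.up 5 1848 0)) (.leaf (.up 3 825 0))) (.node (.leaf (.up 6 1497 1)) (.leaf (.up 5 1851 0)))) (.node (.node (.leaf (.up 6 1485 1)) (.leaf (.up 5 613 0))) (.node (.leaf (.up 6 614 0)) (.leaf (.up 8 1433 2))))))) (.node (.node (.node (.node (.node (.leaf (.up 6 1606 1)) (.leaf (.up 5 1690 0))) (.node (.leaf (.up 6 1689 0)) (.leaf (.up 6 231 2)))) (.node (.node (.leaf (.up 3 713 1)) (.leaf (.up 7 1990 0))) (.node (.leaf (.up 4 919 2)) (.leaf (.up 6 964 0))))) (.node (.node (.node (.leaf (.up 2 665 1)) (.leaf (.up 5 397 2))) (.node (.leaf (.up 5 1538 1)) (.leaf (.up 7 1838 2)))) (.node (.node (.leaf (.up 8 1558 1)) (.leaf (.up 6 1532 0))) (.node (.leaf (.up 8 653 1)) (.leaf (.up 9 1586 1)))))) (.node (.node (.node (.node (.leaf (.up 7 274 0)) (.leaf (.up 9 1468 1))) (.node (.leaf (.up 7 1432 1)) (.leaf (.up 5 679 2)))) (.node (.node (.leaf (.up 7 1908 2)) (.leaf (.up 5 1103 0))) (.node (.leaf (.up 9 1100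 0)) (.leaf (.up 7 742 2))))) (.node (.node (.node (.leaf (.up 5 1500 1)) (.leaf (.up 7 1833 0))) (.node (.leaf (.up 9 1834 0)) (.leaf (.up 6 1390 2)))) (.node (.node (.leaf (.up 7 628 0)) (.leaf (.up 6 1516 1))) (.node (.leaf (.up 5 1480 1)) (.leaf (.up 7 631 0)))))))) (.node (.node (.node (.node (.node (.node (.leaf (.up 7 125 1)) (.leaf (.up 4 1218 1))) (.node (.leaf (.up 9 1660 2)) (.leaf (.up 6 1357 2)))) (.node (.node (.leaf (.up 6 979 0)) (.leaf (.up 7 2002 0))) (.node (.leaf (.up 7 105 1)) (.leaf (.up 6 976 0))))) (.node (.node (.node (.leaf (.up 8 1814 2)) (.leaf (.up 5 1204 0))) (.node (.leaf (.up 7 1207 0)) (.leaf (.up 5 1158 1)))) (.node (.node (.leaf (.up 6 45 1)) (.leaf (.up 7 1170 1))) (.node (.leaf (.up 5 1515 0)) (.leaf (.up 7 490 0)))))) (.node (.node (.node (.node (.leaf (.up 5 1848 1)) (.leaf (.up 8 1287 0))) (.node (.leaf (.up 6 1284 0)) (.leaf (.up 6 261 0)))) (.node (.node (.leaf (.up 7 734 2)) (.leaf (.up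 6 1115 0))) (.node (.leaf (.up 3 1836 1)) (.leaf (.up 6 89 0))))) (.node (.node (.node (.leaf (.up 3 828 0)) (.leaf (.up 5 1880 1))) (.node (.leaf (.up 6 1916 1)) (.leaf (.up 7 963 1)))) (.node (.node (.leaf (.up 7 1303 2)) (.leaf (.up 5 1574 2))) (.node (.leaf (.up 7 1634 0)) (.leaf (.up 5 133 2))))))) (.node (.node (.node (.node (.node (.leaf (.up 7 1695 0)) (.leaf (.up 5 92 1))) (.node (.leaf (.up 9 669 0)) (.leaf (.up 5 1531 2)))) (.node (.node (.leaf (.up 8 1987 0)) (.leaf (.up 7 1235 1))) (.node (.leaf (.up 8 961 0)) (.leaf (.up 6 1466 2))))) (.node (.node (.node (.leaf (.up 7 60 1)) (.leaf (.up 7 1169 2))) (.node (.leaf (.up 5 1191 1)) (.leaf (.up 3 562 2)))) (.node (.node (.leaf (.up 8 1529 0)) (.leaf (.up 10 1232 2))) (.node (.leaf (.up 4 507 0)) (.leaf (.up 7 1530 0)))))) (.node (.node (.node (.node (.leaf (.up 8 1302 0)) (.leaf (.up 8 1817 1))) (.node (.leaf (.up 8 1853 1)) (.leaf (.up 7 898 1)))) (.node (.node (.leaf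 (.up 3 616 2)) (.leaf (.up 8 345 2))) (.node (.leaf (.up 5 946 1)) (.leaf (.up 7 2042 2))))) (.node (.node (.node (.leaf (.up 3 1836 0)) (.leaf (.up 7 1745 2))) (.node (.leaf (.up 5 814 0)) (.leaf (.up 7 114 2)))) (.node (.node (.leaf (.up 9 1441 2)) (.leaf (.up 6 1865 1))) (.node (.leaf (.up 8 626 0)) (.leaf (.up 8 1651 0))))))))

noncomputable def vt5_9_011 : Tr VStep := .node vt5_9_0110 vt5_9_0111

noncomputable def vt5_9_01 : Tr VStep := .node vt5_9_010 vt5_9_011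

noncomputable def vt5_9_0 : Tr VStep := .node vt5_9_00 vt5_9_01

noncomputable def vt5_9_1000 : Tr VStep :=
  .node (.node (.node (.node (.node (.node (.node (.leaf (.root 1130)) (.leaf (.up 7 1717 0))) (.node (.leaf (.up 2 2019 2)) (.leaf (.up 9 695 0)))) (.node (.node (.leaf (.up 6 1000 0)) (.leaf (.up 8 1092 1))) (.node (.leaf (.up 6 1954 2)) (.leaf (.up 8 1171 2))))) (.node (.node (.node (.leaf (.up 4 142 0)) (.leaf (.up 8 1464 2))) (.node (.leaf (.up 1 42 2)) (.leaf (.up 9 141 0)))) (.node (.node (.leaf (.up 6 1736 2)) (.leaf (.up 7 155 1))) (.node (.leaf (.up 4 191 1)) (.leaf (.up 9 465 0)))))) (.node (.node (.node (.node (.leaf (.up 6 317 0)) (.leaf (.up 6 49 2))) (.node (.leaf (.up 7 1443 2)) (.leaf (.up 3 789 1)))) (.node (.node (.leaf (.up 7 97 0)) (.leaf (.up 4 112 2))) (.node (.leaf (.up 7 1123 0)) (.leaf (.up 1 98 0))))) (.node (.node (.node (.leaf (.up 5 775 0)) (.leaf (.up 4 2040 2))) (.node (.leaf (.up 7 1797 0))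 (.leaf (.up 4 1994 1)))) (.node (.node (.leaf (.up 8 1160 2)) (.leaf (.up 4 1977 2))) (.node (.leaf (.up 7 2042 1)) (.leaf (.up 6 600 0))))))) (.node (.node (.node (.node (.node (.leaf (.up 6 234 1)) (.leaf (.up 7 711 2))) (.node (.leaf (.up 4 678 0)) (.leaf (.up 6 206 1)))) (.node (.node (.leaf (.up 4 2040 0)) (.leaf (.up 8 1017 0))) (.node (.leaf (.up 4 254 1)) (.leaf (.up 5 1061 2))))) (.node (.node (.node (.leaf (.up 5 1077 1)) (.leaf (.up 7 1294 2))) (.node (.leaf (.up 3 174 1)) (.leaf (.up 9 1181 0)))) (.node (.node (.leaf (.up 6 186 1)) (.leaf (.up 8 1029 1))) (.node (.leaf (.up 6 448 0)) (.leaf (.up 5 1473 0)))))) (.node (.node (.node (.node (.leaf (.up 6 950 2)) (.leaf (.up 7 135 2))) (.node (.leaf (.up 7 1301 2)) (.leaf (.up 6 1572 2)))) (.node (.node (.leaf (.up 7 1137 0)) (.leaf (.up 4 1951 1))) (.node (.leaf (.up 7 115 0)) (.leaf (.up 5 1138 0))))) (.node (.node (.node (.leaf (.up 8 880 1)) (.leaf (.up 5 1999 1))) (.node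 (.leaf (.up 3 789 0)) (.leaf (.up 4 1812 0)))) (.node (.node (.leaf (.up 6 1086 2)) (.leaf (.up 9 832 1))) (.node (.leaf (.up 7 585 0)) (.leaf (.up 8 1608 0)))))))) (.node (.node (.node (.node (.node (.node (.leaf (.up 7 1745 1)) (.leaf (.up 8 622 1))) (.node (.leaf (.up 8 767 2)) (.leaf (.up 6 1715 0)))) (.node (.node (.leaf (.up 6 1053 2)) (.leaf (.up 3 1836 2))) (.node (.leaf (.up 6 1006 0)) (.leaf (.up 6 634 1))))) (.node (.node (.node (.leaf (.up 8 526 1)) (.leaf (.up 6 1713 1))) (.node (.leaf (.up 8 136 0)) (.leaf (.up 3 554 1)))) (.node (.node (.leaf (.up 9 1494 0)) (.leaf (.up 7 229 2))) (.node (.leaf (.up 9 538 1)) (.leaf (.up 4 1701 1)))))) (.node (.node (.node (.node (.leaf (.up 8 404 1)) (.leaf (.up 7 312 0))) (.node (.leaf (.up 3 315 0)) (.leaf (.up 7 1338 0)))) (.node (.node (.leaf (.up 5 1629 2)) (.leaf (.up 7 100 0))) (.node (.leaf (.up 4 254 2)) (.leaf (.up 7 975 2))))) (.node (.node (.node (.leaf (.up 5 1355 1))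 (.leaf (.up 8 500 1))) (.node (.leaf (.up 3 1910 2)) (.leaf (.up 6 1095 2)))) (.node (.node (.leaf (.up 8 404 2)) (.leaf (.up 7 1403 1))) (.node (.leaf (.up 8 1847 2)) (.leaf (.up 8 1628 0))))))) (.node (.node (.node (.node (.node (.leaf (.up 5 672 0)) (.leaf (.up 9 2011 2))) (.node (.leaf (.up 7 585 2)) (.leaf (.up 8 619 1)))) (.node (.node (.leaf (.up 7 1728 1)) (.leaf (.up 4 2045 0))) (.node (.leaf (.up 9 520 2)) (.leaf (.up 5 1023 0))))) (.node (.node (.node (.leaf (.up 6 154 0)) (.leaf (.up 5 1179 0))) (.node (.leaf (.up 8 1176 0)) (.leaf (.up 5 1716 1)))) (.node (.node (.leaf (.up 6 543 1)) (.leaf (.up 7 83 2))) (.node (.leaf (.up 3 1668 1)) (.leaf (.up 9 453 0)))))) (.node (.node (.node (.node (.leaf (.up 8 297 0)) (.leaf (.up 6 1320 0))) (.node (.leaf (.up 7 9 2)) (.leaf (.up 6 298 0)))) (.node (.node (.leaf (.up 6 389 1)) (.leaf (.up 7 1338 1))) (.node (.leaf (.up 7 1143 0)) (.leaf (.up 6 889 2))))) (.node (.node (.node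 (.leaf (.up 5 469 1)) (.leaf (.up 3 1386 1))) (.node (.leaf (.up 4 1358 1)) (.leaf (.up 4 1265 2)))) (.node (.node (.leaf (.up 6 290 2)) (.leaf (.up 7 531 2))) (.node (.leaf (.up 9 449 1)) (.leaf (.up 8 1200 2))))))))

noncomputable def vt5_9_1001 : Tr VStep :=
  .node (.node (.node (.node (.node (.node (.node (.leaf (.up 6 747 1)) (.leaf (.up 8 1620 1))) (.node (.leaf (.up 9 1577 0)) (.leaf (.up 7 1864 2)))) (.node (.node (.leaf (.up 8 887 0)) (.leaf (.up 3 1910 0))) (.node (.leaf (.up 8 1080 2)) (.leaf (.up 5 1600 1))))) (.node (.node (.node (.leaf (.up 8 17 0)) (.leaf (.up 3 651 1))) (.node (.leaf (.up 6 1043 0)) (.leaf (.up 5 1552 1)))) (.node (.node (.leaf (.up 8 699 1)) (.leaf (.up 7 1540 1))) (.node (.leaf (.up 10 1009 2)) (.leaf (.up 7 334 0)))))) (.node (.node (.node (.node (.leaf (.up 6 154 2)) (.leaf (.up 7 273 1))) (.node (.leaf (.up 6 1440 0)) (.leaf (.up 7 1288 2)))) (.node (.node (.leaf (.up 4 254 0)) (.leaf (.up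 4 1279 0))) (.node (.leaf (.up 5 1276 0)) (.leaf (.up 5 1353 2))))) (.node (.node (.node (.leaf (.up 7 369 1)) (.leaf (.up 6 1945 0))) (.node (.leaf (.up 2 496 2)) (.leaf (.up 7 923 0)))) (.node (.node (.leaf (.up 6 708 0)) (.leaf (.up 7 1059 2))) (.node (.leaf (.up 7 433 2)) (.leaf (.up 7 711 0))))))) (.node (.node (.node (.node (.node (.leaf (.up 6 1653 1)) (.leaf (.up 7 349 2))) (.node (.leaf (.up 9 1231 2)) (.leaf (.up 8 1617 1)))) (.node (.node (.leaf (.up 7 557 2)) (.leaf (.up 6 284 2))) (.node (.leaf (.up 4 1166 2)) (.leaf (.up 6 1892 0))))) (.node (.node (.node (.leaf (.up 7 682 1)) (.leaf (.up 1 0 0))) (.node (.leaf (.up 9 1585 1)) (.leaf (.up 2 55 2)))) (.node (.node (.leaf (.up 6 1573 1)) (.leaf (.up 5 666 1))) (.node (.leaf (.up 6 702 1)) (.leaf (.up 7 1374 0)))))) (.node (.node (.node (.node (.leaf (.up 6 304 1)) (.leaf (.up 7 435 0))) (.node (.leaf (.up 6 1451 1)) (.leaf (.up 8 1457 0)))) (.node (.node (.leaf (.up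 3 1471 1)) (.leaf (.up 5 256 1))) (.node (.leaf (.up 6 1742 2)) (.leaf (.up 6 1435 1))))) (.node (.node (.node (.leaf (.up 4 1519 1)) (.leaf (.up 9 1236 2))) (.node (.leaf (.up 4 372 1)) (.leaf (.up 7 1483 1)))) (.node (.node (.leaf (.up 9 1956 2)) (.leaf (.up 8 1173 2))) (.node (.leaf (.up 5 1531 1)) (.leaf (.up 8 324 1)))))))) (.node (.node (.node (.node (.node (.node (.leaf (.up 6 1583 0)) (.leaf (.up 4 1265 1))) (.node (.leaf (.up 7 557 0)) (.leaf (.up 7 596 2)))) (.node (.node (.leaf (.up 5 1217 1)) (.leaf (.up 6 882 0))) (.node (.leaf (.up 7 90 1)) (.leaf (.up 7 1253 1))))) (.node (.node (.node (.leaf (.up 7 1045 0)) (.leaf (.up 7 46 1))) (.node (.leaf (.up 1 10 1)) (.leaf (.up 5 1205 1)))) (.node (.node (.leaf (.up 5 1353 0)) (.leaf (.up 7 328 0))) (.node (.leaf (.up 7 1157 1)) (.leaf (.up 5 1500 2)))))) (.node (.node (.node (.node (.leaf (.up 5 1446 0)) (.leaf (.up 5 423 0))) (.node (.leaf (.up 6 912 1)) (.leaf (.up 8 20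 2)))) (.node (.node (.leaf (.up 7 900 1)) (.leaf (.up 5 1851 1))) (.node (.leaf (.up 8 868 2)) (.leaf (.up 3 85 2))))) (.node (.node (.node (.leaf (.up 4 1948 0)) (.leaf (.up 4 382 2))) (.node (.leaf (.up 6 926 0)) (.leaf (.up 4 1951 0)))) (.node (.node (.leaf (.up 7 1728 0)) (.leaf (.up 5 996 1))) (.node (.leaf (.up 7 960 1)) (.leaf (.up 4 1948 2))))))) (.node (.node (.node (.node (.node (.leaf (.up 8 575 0)) (.leaf (.up 6 1598 0))) (.node (.leaf (.up 9 1597 0)) (.leaf (.up 8 572 0)))) (.node (.node (.leaf (.up 6 1841 2)) (.leaf (.up 7 1890 0))) (.node (.leaf (.up 2 402 2)) (.leaf (.up 9 675 2))))) (.node (.node (.node (.leaf (.up 6 5 0)) (.leaf (.up 8 1200 1))) (.node (.leaf (.up 4 1172 1)) (.leaf (.up 7 6 0)))) (.node (.node (.leaf (.up 8 345 0)) (.leaf (.up 8 63 1))) (.node (.leaf (.up 8 27 1)) (.leaf (.up 3 1386 2)))))) (.node (.node (.node (.node (.leaf (.up 10 917 1)) (.leaf (.up 9 1834 1))) (.node (.leaf (.up 7 1460 0))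 (.leaf (.up 4 945 1)))) (.node (.node (.leaf (.up 6 234 0)) (.leaf (.up 5 1600 2))) (.node (.leaf (.up 5 897 1)) (.leaf (.up 5 227 2))))) (.node (.node (.node (.leaf (.up 7 761 2)) (.leaf (.up 5 1933 0))) (.node (.leaf (.up 6 1934 0)) (.leaf (.up 6 911 0)))) (.node (.node (.leaf (.up 7 720 0)) (.leaf (.up 7 1914 1))) (.node (.leaf (.up 7 1746 0)) (.leaf (.up 8 993 1))))))))

noncomputable def vt5_9_100 : Tr VStep := .node vt5_9_1000 vt5_9_1001

noncomputable def vt5_9_1010 : Tr VStep :=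
  .node (.node (.node (.node (.node (.node (.node (.leaf (.up 5 676 1)) (.leaf (.up 7 1563 1))) (.node (.leaf (.up 3 694 0)) (.leaf (.up 6 1719 0)))) (.node (.node (.leaf (.up 5 1579 1)) (.leaf (.up 6 1001 0))) (.node (.leaf (.up 6 86 2)) (.leaf (.up 6 2027 0))))) (.node (.node (.node (.leaf (.up 4 1166 0)) (.leaf (.up 6 708 1))) (.node (.leaf (.up 5 140 0)) (.leaf (.up 7 1165 0)))) (.node (.node (.leaf (.up 5 756 1)) (.leaf (.up 6 1611 1))) (.node (.leaf (.up 4 1951 2)) (.leaf (.up 6 1198 2)))))) (.node (.node (.node (.node (.leaf (.up 8 1268 2)) (.leaf (.up 6 316 0))) (.node (.leaf (.up 6 599 2)) (.leaf (.up 7 358 2)))) (.node (.node (.leaf (.up 5 1205 2)) (.leaf (.up 6 96 0))) (.node (.leaf (.up 7 1525 1)) (.leaf (.up 6 295 2))))) (.node (.node (.node (.leaf (.up 7 1799 0)) (.leaf (.up 8 1409 1))) (.node (.leaf (.up 7 773 0)) (.leaf (.up 6 1796 0)))) (.node (.node (.leaf (.up 8 1457 1)) (.leaf (.up 7 270 1))) (.node (.leaf (.up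 6 298 1)) (.leaf (.up 6 1624 0))))))) (.node (.node (.node (.node (.node (.leaf (.up 4 1594 1)) (.leaf (.up 4 1331 2))) (.node (.leaf (.up 4 673 1)) (.leaf (.up 5 679 0)))) (.node (.node (.leaf (.up 8 1603 2)) (.leaf (.up 9 2041 0))) (.node (.leaf (.up 7 2042 0)) (.leaf (.up 7 1019 0))))) (.node (.node (.node (.leaf (.up 4 741 1)) (.leaf (.up 8 1626 1))) (.node (.leaf (.up 8 1662 1)) (.leaf (.up 3 157 0)))) (.node (.node (.leaf (.up 4 394 2)) (.leaf (.up 8 699 2))) (.node (.leaf (.up 5 753 1)) (.leaf (.up 9 449 0)))))) (.node (.node (.node (.node (.leaf (.up 7 301 0)) (.leaf (.up 6 1324 0))) (.node (.leaf (.up 4 737 2)) (.leaf (.up 4 302 0)))) (.node (.node (.leaf (.up 9 113 0)) (.leaf (.up 8 335 1))) (.node (.leaf (.up 5 672 2)) (.leaf (.up 7 114 0))))) (.node (.node (.node (.leaf (.up 6 1440 1)) (.leaf (.up 6 186 2))) (.node (.leaf (.up 3 315 1)) (.leaf (.up 7 1412 1)))) (.node (.node (.leaf (.up 8 970 2)) (.leaf (.up 2 1424 1)))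 (.node (.leaf (.up 6 1385 2)) (.leaf (.up 5 267 1)))))))) (.node (.node (.node (.node (.node (.node (.leaf (.up 1 1 1)) (.leaf (.up 6 1713 0))) (.node (.leaf (.up 6 1291 2)) (.leaf (.up 4 691 0)))) (.node (.node (.leaf (.up 4 1166 1)) (.leaf (.up 6 49 1))) (.node (.leaf (.up 2 21 1)) (.leaf (.up 5 1007 0))))) (.node (.node (.node (.leaf (.up 6 1246 1)) (.leaf (.up 7 97 1))) (.node (.leaf (.up 8 1160 0)) (.leaf (.up 9 1274 1)))) (.node (.node (.leaf (.up 8 470 0)) (.leaf (.up 6 1495 0))) (.node (.leaf (.up 9 643 2)) (.leaf (.up 5 469 0)))))) (.node (.node (.node (.node (.leaf (.up 2 1860 1)) (.leaf (.up 6 1336 0))) (.node (.leaf (.up 4 1339 0)) (.leaf (.up 7 1146 2)))) (.node (.node (.leaf (.up 7 425 2)) (.leaf (.up 7 1908 1))) (.node (.leaf (.up 7 1872 1)) (.leaf (.up 5 1007 1))))) (.node (.node (.node (.leaf (.up 7 923 1)) (.leaf (.up 10 1296 2))) (.node (.leaf (.up 8 1792 1)) (.leaf (.up 6 959 1)))) (.node (.node (.leaf (.up 4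 1812 1)) (.leaf (.up 7 1630 0))) (.node (.leaf (.up 5 1629 0)) (.leaf (.up 9 1840 1))))))) (.node (.node (.node (.node (.node (.leaf (.up 8 1183 1)) (.leaf (.up 4 673 0))) (.node (.leaf (.up 8 1469 2)) (.leaf (.up 5 1699 0)))) (.node (.node (.leaf (.up 8 16 1)) (.leaf (.up 6 1021 0))) (.node (.leaf (.up 6 1532 2)) (.leaf (.up 7 2047 0))))) (.node (.node (.node (.leaf (.up 7 1178 0)) (.leaf (.up 4 1279 1))) (.node (.leaf (.up 7 628 2)) (.leaf (.up 6 325 2)))) (.node (.node (.leaf (.up 8 1478 0)) (.leaf (.up 4 112 1))) (.node (.leaf (.up 7 84 1)) (.leaf (.up 6 1259 1)))))) (.node (.node (.node (.node (.leaf (.up 7 1321 0)) (.leaf (.up 7 623 2))) (.node (.leaf (.up 2 1857 1)) (.leaf (.up 5 1228 2)))) (.node (.node (.leaf (.up 6 1877 1)) (.leaf (.up 7 558 2))) (.node (.leaf (.up 7 974 1)) (.leaf (.up 7 1905 1))))) (.node (.node (.node (.leaf (.up 7 1797 1)) (.leaf (.up 5 1446 2))) (.node (.leaf (.up 6 926 1)) (.leaf (.up 6 1825 1))))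 (.node (.node (.leaf (.up 3 1750 2)) (.leaf (.up 6 1511 2))) (.node (.leaf (.up 7 589 0)) (.leaf (.up 8 1612 0))))))))

noncomputable def vt5_9_1011 : Tr VStep :=
  .node (.node (.node (.node (.node (.node (.node (.leaf (.up 5 1579 0)) (.leaf (.up 3 554 0))) (.node (.leaf (.up 9 160 1)) (.leaf (.up 5 1055 1)))) (.node (.node (.leaf (.up 6 1911 0)) (.leaf (.up 7 1630 2))) (.node (.leaf (.up 6 1071 1)) (.leaf (.up 7 1908 0))))) (.node (.node (.node (.leaf (.up 8 228 1)) (.leaf (.up 6 1115 1))) (.node (.leaf (.up 7 19 0)) (.leaf (.up 8 1909 2)))) (.node (.node (.leaf (.up 4 678 2)) (.leaf (.up 5 332 0))) (.node (.leaf (.up 8 1029 2)) (.leaf (.up 4 1358 0)))))) (.node (.node (.node (.node (.leaf (.up 6 894 1)) (.leaf (.up 5 1119 2))) (.node (.leaf (.up 6 461 2)) (.leaf (.up 9 1441 0)))) (.node (.node (.leaf (.up 8 1278 0)) (.leaf (.up 5 1054 2))) (.node (.leaf (.up 7 874 1)) (.leaf (.up 9 701 2))))) (.node (.node (.node (.leaf (.up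 6 167 2)) (.leaf (.up 8 921 0))) (.node (.leaf (.up 7 922 0)) (.leaf (.up 7 1333 2)))) (.node (.node (.leaf (.up 5 814 1)) (.leaf (.up 5 1937 1))) (.node (.leaf (.up 7 710 0)) (.leaf (.up 8 1735 0))))))) (.node (.node (.node (.node (.node (.leaf (.up 5 165 1)) (.leaf (.up 3 1705 2))) (.node (.leaf (.up 6 1086 1)) (.leaf (.up 1 10 2)))) (.node (.node (.leaf (.up 6 1497 2)) (.leaf (.up 7 149 1))) (.node (.leaf (.up 7 177 1)) (.leaf (.up 8 868 0))))) (.node (.node (.node (.leaf (.up 1 1 0)) (.leaf (.up 8 197 1))) (.node (.leaf (.up 9 1266 2)) (.leaf (.up 8 1987 2)))) (.node (.node (.leaf (.up 7 349 0)) (.leaf (.up 2 1372 0))) (.node (.leaf (.up 9 1375 0)) (.leaf (.up 6 209 1)))))) (.node (.node (.node (.node (.leaf (.up 4 2016 1)) (.leaf (.up 9 863 1))) (.node (.leaf (.up 4 891 1)) (.leaf (.up 7 433 0)))) (.node (.node (.leaf (.up 6 238 0)) (.leaf (.up 7 2000 1))) (.node (.leaf (.up 7 1260 0)) (.leaf (.up 9 237 0))))) (.node (.node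 (.node (.leaf (.up 8 831 1)) (.leaf (.up 8 1929 0))) (.node (.leaf (.up 7 1930 0)) (.leaf (.up 9 1411 2)))) (.node (.node (.leaf (.up 4 1968 1)) (.leaf (.up 7 1749 0))) (.node (.leaf (.up 3 1750 0)) (.leaf (.up 6 727 0)))))))) (.node (.node (.node (.node (.node (.node (.leaf (.up 6 50 2)) (.leaf (.up 5 545 1))) (.node (.leaf (.up 2 1581 0)) (.leaf (.up 6 1440 2)))) (.node (.node (.leaf (.up 7 115 2)) (.leaf (.up 7 1906 0))) (.node (.leaf (.up 7 1905 0)) (.leaf (.up 8 880 0))))) (.node (.node (.node (.leaf (.up 2 21 0)) (.leaf (.up 8 1790 1))) (.node (.leaf (.up 8 1047 0)) (.leaf (.up 5 613 1)))) (.node (.node (.leaf (.up 5 329 0)) (.leaf (.up 8 1163 2))) (.node (.leaf (.up 5 1355 0)) (.leaf (.up 6 1770 1)))))) (.node (.node (.node (.node (.leaf (.up 6 422 0)) (.leaf (.up 5 1447 0))) (.node (.leaf (.up 7 1344 1)) (.leaf (.up 4 2016 2)))) (.node (.node (.leaf (.up 6 563 2)) (.leaf (.up 7 258 2))) (.node (.leaf (.up 9 1168 2)) (.leaf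 (.up 6 1392 1))))) (.node (.node (.node (.leaf (.up 6 1284 1)) (.leaf (.up 5 443 1))) (.node (.leaf (.up 5 415 1)) (.leaf (.up 5 1312 1)))) (.node (.node (.leaf (.up 5 395 1)) (.leaf (.up 4 1332 1))) (.node (.leaf (.up 9 1730 0)) (.leaf (.up 3 104 2))))))) (.node (.node (.node (.node (.node (.leaf (.up 4 132 2)) (.leaf (.up 7 1727 1))) (.node (.leaf (.up 2 1691 1)) (.leaf (.up 8 1302 2)))) (.node (.node (.leaf (.up 5 1891 0)) (.leaf (.up 9 1012 2))) (.node (.leaf (.up 7 1638 2)) (.leaf (.up 7 1888 0))))) (.node (.node (.node (.leaf (.up 8 1029 0)) (.leaf (.up 7 1148 2))) (.node (.leaf (.up 8 7 0)) (.leaf (.up 8 1030 0)))) (.node (.node (.leaf (.up 6 1369 0)) (.leaf (.up 7 1775 1))) (.node (.leaf (.up 6 1739 1)) (.leaf (.up 7 628 1)))))) (.node (.node (.node (.node (.leaf (.up 6 708 2)) (.leaf (.up 4 501 2))) (.node (.leaf (.up 7 436 0)) (.leaf (.up 5 1377 1)))) (.node (.node (.leaf (.up 6 645 2)) (.leaf (.up 7 436 2))) (.node (.leaf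 (.up 5 232 0)) (.leaf (.up 8 494 1))))) (.node (.node (.node (.leaf (.up 8 1293 2)) (.leaf (.up 9 909 0))) (.node (.leaf (.up 8 910 0)) (.leaf (.up 7 1935 0)))) (.node (.node (.leaf (.up 7 1301 1)) (.leaf (.up 4 721 0))) (.node (.leaf (.up 5 1007 2)) (.leaf (.up 3 1747 0))))))))

noncomputable def vt5_9_101 : Tr VStep := .node vt5_9_1010 vt5_9_1011

noncomputable def vt5_9_10 : Tr VStep := .node vt5_9_100 vt5_9_101

noncomputable def vt5_9_1100 : Tr VStep :=
  .node (.node (.node (.node (.node (.node (.node (.leaf (.up 9 235 1)) (.leaf (.up 9 988 2))) (.node (.leaf (.up 9 566 0)) (.leaf (.up 5 1591 0)))) (.node (.node (.leaf (.up 8 1896 0)) (.leaf (.up 6 925 2))) (.node (.leaf (.up 6 255 1)) (.leaf (.up 6 1899 0))))) (.node (.node (.node (.leaf (.up 9 1038 0)) (.leaf (.up 7 1045 2))) (.node (.leaf (.up 8 175 1)) (.leaf (.up 3 694 2)))) (.node (.node (.leaf (.up 8 1893 2)) (.leaf (.up 8 339 0))) (.node (.leaf (.up 7 454 2)) (.leaf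 (.up 6 759 2)))))) (.node (.node (.node (.node (.leaf (.up 8 1469 0)) (.leaf (.up 7 412 2))) (.node (.leaf (.up 7 821 1)) (.leaf (.up 7 1930 1)))) (.node (.node (.leaf (.up 5 801 1)) (.leaf (.up 6 477 2))) (.node (.leaf (.up 5 1103 2)) (.leaf (.up 7 1250 0))))) (.node (.node (.node (.leaf (.up 6 1380 2)) (.leaf (.up 6 902 0))) (.node (.leaf (.up 5 901 0)) (.leaf (.up 7 246 2)))) (.node (.node (.leaf (.up 9 2046 1)) (.leaf (.up 8 1556 2))) (.node (.leaf (.up 6 902 2)) (.leaf (.up 7 1752 0))))))) (.node (.node (.node (.node (.node (.leaf (.up 8 548 0)) (.leaf (.up 6 1573 0))) (.node (.leaf (.up 5 1574 0)) (.leaf (.up 7 551 0)))) (.node (.node (.leaf (.up 6 26 2)) (.leaf (.up 6 1913 0))) (.node (.leaf (.up 7 1914 0)) (.leaf (.up 4 222 1))))) (.node (.node (.node (.leaf (.up 7 1938 2)) (.leaf (.up 5 1055 0))) (.node (.leaf (.up 8 305 2)) (.leaf (.up 4 142 1)))) (.node (.node (.leaf (.up 5 1061 1)) (.leaf (.up 6 154 1))) (.node (.leaf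 (.up 7 1344 0)) (.leaf (.up 8 321 0)))))) (.node (.node (.node (.node (.leaf (.up 7 816 1)) (.leaf (.up 6 298 2))) (.node (.leaf (.up 5 1208 2)) (.leaf (.up 8 1929 2)))) (.node (.node (.leaf (.up 6 241 0)) (.leaf (.up 6 1264 0))) (.node (.leaf (.up 5 1267 0)) (.leaf (.up 4 1992 2))))) (.node (.node (.node (.leaf (.up 4 919 0)) (.leaf (.up 7 848 1))) (.node (.leaf (.up 6 1941 0)) (.leaf (.up 7 916 0)))) (.node (.node (.leaf (.up 8 715 0)) (.leaf (.up 9 1698 2))) (.node (.leaf (.up 5 2043 1)) (.leaf (.up 1 1 2)))))))) (.node (.node (.node (.node (.node (.node (.leaf (.up 6 590 1)) (.leaf (.up 5 1777 1))) (.node (.leaf (.up 6 850 2)) (.leaf (.up 6 563 0)))) (.node (.node (.leaf (.up 5 876 0)) (.leaf (.up 9 638 1))) (.node (.leaf (.up 7 602 1)) (.leaf (.up 7 879 0))))) (.node (.node (.node (.leaf (.up 1 10 0)) (.leaf (.up 7 558 1))) (.node (.leaf (.up 3 522 1)) (.leaf (.up 7 1717 1)))) (.node (.node (.leaf (.up 7 342 0)) (.leaf (.up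 7 328 2))) (.node (.leaf (.up 8 1364 0)) (.leaf (.up 6 2027 2)))))) (.node (.node (.node (.node (.leaf (.up 6 1291 1)) (.leaf (.up 7 436 1))) (.node (.leaf (.up 7 1467 0)) (.leaf (.up 3 442 0)))) (.node (.node (.leaf (.up 7 229 0)) (.leaf (.up 4 1339 1))) (.node (.leaf (.up 8 339 2)) (.leaf (.up 7 230 0))))) (.node (.node (.node (.leaf (.up 8 899 0)) (.leaf (.up 6 841 2))) (.node (.leaf (.up 9 1755 2)) (.leaf (.up 2 496 1)))) (.node (.node (.leaf (.up 9 57 2)) (.leaf (.up 8 1758 0))) (.node (.leaf (.up 5 1690 2)) (.leaf (.up 6 1407 1))))))) (.node (.node (.node (.node (.node (.leaf (.up 8 1351 2)) (.leaf (.up 5 545 0))) (.node (.leaf (.up 5 996 2)) (.leaf (.up 8 1571 0)))) (.node (.node (.leaf (.up 6 1916 0)) (.leaf (.up 3 1760 1))) (.node (.leaf (.up 6 894 0)) (.leaf (.up 7 148 2))))) (.node (.node (.node (.leaf (.up 3 654 2)) (.leaf (.up 8 27 0))) (.node (.leaf (.up 3 1684 1)) (.leaf (.up 5 1049 0)))) (.node (.node (.leaf (.up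 6 1350 0)) (.leaf (.up 8 575 1))) (.node (.leaf (.up 7 1132 2)) (.leaf (.up 7 1349 0)))))) (.node (.node (.node (.node (.leaf (.up 6 1449 0)) (.leaf (.up 4 1078 2))) (.node (.leaf (.up 7 427 0)) (.leaf (.up 7 433 1)))) (.node (.node (.leaf (.up 5 1862 2)) (.leaf (.up 5 421 1))) (.node (.leaf (.up 7 385 1)) (.leaf (.up 6 724 2))))) (.node (.node (.node (.leaf (.up 6 1354 1)) (.leaf (.up 4 501 1))) (.node (.leaf (.up 8 1645 2)) (.leaf (.up 2 1372 2)))) (.node (.node (.leaf (.up 9 1743 0)) (.leaf (.up 5 958 2))) (.node (.leaf (.up 7 1374 1)) (.leaf (.up 7 481 1))))))))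

noncomputable def vt5_9_1101 : Tr VStep :=
  .node (.node (.node (.node (.node (.node (.node (.leaf (.up 8 1652 1)) (.leaf (.up 6 70 2))) (.node (.leaf (.up 10 751 1)) (.leaf (.up 8 1616 1)))) (.node (.node (.leaf (.up 4 2039 0)) (.leaf (.up 5 1604 1))) (.node (.leaf (.up 7 1429 2)) (.leaf (.up 8 2036 0))))) (.node (.node (.node (.leaf (.up 7 683 1)) (.leaf (.up 7 1935 2))) (.node (.leaf (.up 2 147 0)) (.leaf (.up 7 1170 0)))) (.node (.node (.leaf (.up 4 1279 2)) (.leaf (.up 7 460 0))) (.node (.leaf (.up 9 604 2)) (.leaf (.up 6 1486 0)))))) (.node (.node (.node (.node (.leaf (.up 8 305 1)) (.leaf (.up 6 1422 1))) (.node (.leaf (.up 8 1940 2)) (.leaf (.up 5 277 1)))) (.node (.node (.leaf (.up 9 1150 0)) (.leaf (.up 4 583 2))) (.node (.leaf (.up 8 124 0)) (.leaf (.up 5 1252 2))))) (.node (.node (.node (.leaf (.up 7 1518 1)) (.leaf (.up 5 1487 2))) (.node (.leaf (.up 7 373 1)) (.leaf (.up 5 876 2)))) (.node (.node (.leaf (.up 5 1604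 0)) (.leaf (.up 6 1422 2))) (.node (.leaf (.up 6 582 0)) (.leaf (.up 6 325 1))))))) (.node (.node (.node (.node (.node (.leaf (.up 6 746 1)) (.leaf (.up 7 1722 0))) (.node (.leaf (.up 7 1649 1)) (.leaf (.up 4 1619 2)))) (.node (.node (.leaf (.up 3 896 2)) (.leaf (.up 7 177 2))) (.node (.leaf (.up 6 766 1)) (.leaf (.up 4 1601 1))))) (.node (.node (.node (.leaf (.up 4 1032 2)) (.leaf (.up 8 1152 0))) (.node (.leaf (.up 6 686 1)) (.leaf (.up 7 1553 1)))) (.node (.node (.leaf (.up 6 477 0)) (.leaf (.up 5 1912 2))) (.node (.leaf (.up 6 746 2)) (.leaf (.up 7 475 2)))))) (.node (.node (.node (.node (.leaf (.up 5 1455 1)) (.leaf (.up 4 1331 0))) (.node (.leaf (.up 7 308 1)) (.leaf (.up 6 1043 2)))) (.node (.node (.leaf (.up 6 448 2)) (.leaf (.up 5 753 2))) (.node (.leaf (.up 5 1891 2)) (.leaf (.up 5 109 0))))) (.node (.node (.node (.leaf (.up 8 1608 2)) (.leaf (.up 5 1487 1))) (.node (.leaf (.up 5 1515 1)) (.leaf (.up 6 340 1)))) (.node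 (.node (.leaf (.up 7 596 0)) (.leaf (.up 4 320 1))) (.node (.leaf (.up 8 356 1)) (.leaf (.up 5 1499 1)))))))) (.node (.node (.node (.node (.node (.node (.leaf (.up 7 1643 2)) (.leaf (.up 8 1710 0))) (.node (.leaf (.up 8 200 2)) (.leaf (.up 6 1269 1)))) (.node (.node (.leaf (.up 6 94 1)) (.leaf (.up 6 1249 1))) (.node (.leaf (.up 9 1221 1)) (.leaf (.up 6 1008 0))))) (.node (.node (.node (.leaf (.up 6 14 1)) (.leaf (.up 4 659 2))) (.node (.leaf (.up 8 1173 1)) (.leaf (.up 1 42 1)))) (.node (.node (.leaf (.up 7 457 0)) (.leaf (.up 5 1480 0))) (.node (.leaf (.up 6 26 1)) (.leaf (.up 7 1137 2)))))) (.node (.node (.node (.node (.leaf (.up 7 916 1)) (.leaf (.up 5 1835 1))) (.node (.leaf (.up 9 1316 0)) (.leaf (.up 9 293 0)))) (.node (.node (.leaf (.up 6 1130 2)) (.leaf (.up 9 1147 0))) (.node (.leaf (.up 3 1144 0)) (.leaf (.up 9 1855 1))))) (.node (.node (.node (.leaf (.up 6 796 0)) (.leaf (.up 9 1821 0))) (.node (.leaf (.up 5 1345 2))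 (.leaf (.up 8 799 0)))) (.node (.node (.leaf (.up 6 964 1)) (.leaf (.up 4 1601 0))) (.node (.leaf (.up 8 1602 0)) (.leaf (.up 8 579 0))))))) (.node (.node (.node (.node (.node (.leaf (.up 6 1757 2)) (.leaf (.up 6 1516 2))) (.node (.leaf (.up 9 1236 1)) (.leaf (.up 6 107 1)))) (.node (.node (.leaf (.up 2 2019 0)) (.leaf (.up 3 1453 2))) (.node (.leaf (.up 8 63 2)) (.leaf (.up 4 782 2))))) (.node (.node (.node (.leaf (.up 7 1157 0)) (.leaf (.up 4 132 0))) (.node (.leaf (.up 7 135 0)) (.leaf (.up 5 1158 0)))) (.node (.node (.leaf (.up 4 31 1)) (.leaf (.up 6 1184 1))) (.node (.leaf (.up 6 1156 1)) (.leaf (.up 7 59 1)))))) (.node (.node (.node (.node (.leaf (.up 9 1181 2)) (.leaf (.up 8 949 1))) (.node (.leaf (.up 7 308 0)) (.leaf (.up 5 271 2)))) (.node (.node (.leaf (.up 5 901 1)) (.leaf (.up 6 107 0))) (.node (.leaf (.up 3 104 0)) (.leaf (.up 7 334 2))))) (.node (.node (.node (.leaf (.up 5 852 2)) (.leaf (.up 7 1898 1))) (.node (.leaf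 (.up 4 782 0)) (.leaf (.up 9 1734 2)))) (.node (.node (.leaf (.up 3 789 2)) (.leaf (.up 4 36 2))) (.node (.leaf (.up 6 1462 2)) (.leaf (.up 4 1619 0))))))))

noncomputable def vt5_9_110 : Tr VStep := .node vt5_9_1100 vt5_9_1101

noncomputable def vt5_9_1110 : Tr VStep :=
  .node (.node (.node (.node (.node (.node (.node (.leaf (.up 7 1595 1)) (.leaf (.up 6 1589 0))) (.node (.leaf (.up 3 442 2)) (.leaf (.up 3 651 2)))) (.node (.node (.leaf (.up 5 1880 2)) (.leaf (.up 7 1897 0))) (.node (.leaf (.up 4 507 2)) (.leaf (.up 6 875 0))))) (.node (.node (.node (.leaf (.up 6 14 0)) (.leaf (.up 8 993 2))) (.node (.leaf (.up 8 1651 2)) (.leaf (.up 4 1346 2)))) (.node (.node (.leaf (.up 7 1643 1)) (.leaf (.up 5 1363 0))) (.node (.leaf (.up 8 1360 0)) (.leaf (.up 6 1615 1)))))) (.node (.node (.node (.node (.leaf (.up 4 382 1)) (.leaf (.up 5 1473 1))) (.node (.leaf (.up 3 1509 1)) (.leaf (.up 8 346 1)))) (.node (.node (.leaf (.up 8 1521 1)) (.leaf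 (.up 7 334 1))) (.node (.leaf (.up 7 955 2)) (.leaf (.up 8 1493 1))))) (.node (.node (.node (.leaf (.up 9 903 0)) (.leaf (.up 7 286 1))) (.node (.leaf (.up 6 1075 2)) (.leaf (.up 7 1413 1)))) (.node (.node (.leaf (.up 4 721 2)) (.leaf (.up 8 1425 1))) (.node (.leaf (.up 5 1753 0)) (.leaf (.up 5 728 0))))))) (.node (.node (.node (.node (.node (.leaf (.up 6 1572 0)) (.leaf (.up 5 549 0))) (.node (.leaf (.up 6 1598 1)) (.leaf (.up 2 641 1)))) (.node (.node (.leaf (.up 5 1912 0)) (.leaf (.up 6 889 0))) (.node (.leaf (.up 8 890 0)) (.leaf (.up 8 1915 0))))) (.node (.node (.node (.leaf (.up 5 1054 0)) (.leaf (.up 4 31 0))) (.node (.leaf (.up 4 737 1)) (.leaf (.up 6 1053 0)))) (.node (.node (.leaf (.up 4 1346 0)) (.leaf (.up 4 1610 1))) (.node (.leaf (.up 3 1668 2)) (.leaf (.up 4 721 1)))))) (.node (.node (.node (.node (.leaf (.up 3 1453 0)) (.leaf (.up 7 351 1))) (.node (.leaf (.up 6 379 1)) (.leaf (.up 7 1476 1)))) (.node (.node (.leaf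 (.up 4 1265 0)) (.leaf (.up 7 1695 2))) (.node (.leaf (.up 6 1524 1)) (.leaf (.up 7 60 2))))) (.node (.node (.node (.leaf (.up 5 1943 0)) (.leaf (.up 9 918 0))) (.node (.leaf (.up 7 1157 2)) (.leaf (.up 7 283 1)))) (.node (.node (.leaf (.up 6 1739 0)) (.leaf (.up 5 271 1))) (.node (.leaf (.up 3 713 0)) (.leaf (.up 6 1736 0)))))))) (.node (.node (.node (.node (.node (.node (.leaf (.up 4 517 2)) (.leaf (.up 7 308 2))) (.node (.leaf (.up 3 562 0)) (.leaf (.up 5 1943 2)))) (.node (.node (.leaf (.up 8 17 1)) (.leaf (.up 6 1198 1))) (.node (.leaf (.up 9 1162 1)) (.leaf (.up 9 53 1))))) (.node (.node (.node (.leaf (.up 7 65 1)) (.leaf (.up 8 1789 2))) (.node (.leaf (.up 7 879 2)) (.leaf (.up 6 94 2)))) (.node (.node (.leaf (.up 4 1366 0)) (.leaf (.up 7 1724 2))) (.node (.leaf (.up 3 85 1)) (.leaf (.up 4 31 2)))))) (.node (.node (.node (.node (.leaf (.up 9 1465 0)) (.leaf (.up 6 1892 1))) (.node (.leaf (.up 5 443 0)) (.leaf (.up 5 1023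 1)))) (.node (.node (.leaf (.up 7 1253 0)) (.leaf (.up 7 821 2))) (.node (.leaf (.up 6 231 0)) (.leaf (.up 9 1904 1))))) (.node (.node (.node (.leaf (.up 6 1796 1)) (.leaf (.up 7 898 0))) (.node (.leaf (.up 5 897 0)) (.leaf (.up 9 1920 0)))) (.node (.node (.leaf (.up 9 1997 2)) (.leaf (.up 5 1276 2))) (.node (.leaf (.up 6 733 0)) (.leaf (.up 5 1756 0))))))) (.node (.node (.node (.node (.node (.leaf (.up 1 0 1)) (.leaf (.up 7 386 2))) (.node (.leaf (.up 3 1570 0)) (.leaf (.up 4 36 1)))) (.node (.node (.leaf (.up 10 892 0)) (.leaf (.up 9 1917 0))) (.node (.leaf (.up 8 1918 0)) (.leaf (.up 7 1888 2))))) (.node (.node (.node (.leaf (.up 6 26 0)) (.leaf (.up 6 96 1))) (.node (.leaf (.up 8 68 1)) (.leaf (.up 5 232 2)))) (.node (.node (.leaf (.up 4 1339 2)) (.leaf (.up 8 1351 0))) (.node (.leaf (.up 6 1227 1)) (.leaf (.up 6 325 0)))))) (.node (.node (.node (.node (.leaf (.up 7 1861 1)) (.leaf (.up 6 1018 1))) (.node (.leaf (.up 6 1451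 0)) (.leaf (.up 5 1377 2)))) (.node (.node (.leaf (.up 8 178 2)) (.leaf (.up 8 1268 0))) (.node (.leaf (.up 7 1553 2)) (.leaf (.up 5 1312 2))))) (.node (.node (.node (.leaf (.up 7 1850 2)) (.leaf (.up 7 1938 0))) (.node (.leaf (.up 5 1937 0)) (.leaf (.up 5 958 1)))) (.node (.node (.leaf (.up 6 1813 1)) (.leaf (.up 6 1742 0))) (.node (.leaf (.up 7 472 2)) (.leaf (.up 3 716 0))))))))

noncomputable def vt5_9_1111 : Tr VStep :=
  .node (.node (.node (.node (.node (.node (.node (.leaf (.up 7 683 0)) (.leaf (.up 8 1970 2))) (.node (.leaf (.up 3 1705 0)) (.leaf (.up 7 128 1)))) (.node (.node (.leaf (.up 4 1218 2)) (.leaf (.up 7 148 1))) (.node (.leaf (.up 7 176 1)) (.leaf (.up 9 1039 1))))) (.node (.node (.node (.leaf (.up 9 842 2)) (.leaf (.up 9 196 1))) (.node (.leaf (.up 8 1171 0)) (.leaf (.up 5 1119 1)))) (.node (.node (.leaf (.up 6 461 0)) (.leaf (.up 7 1099 1))) (.node (.leaf (.up 5 1487 0)) (.leaf (.up 6 1689 2)))))) (.node (.node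 (.node (.node (.leaf (.up 6 290 0)) (.leaf (.up 4 862 1))) (.node (.leaf (.up 5 1312 0)) (.leaf (.up 5 849 2)))) (.node (.node (.leaf (.up 7 1666 2)) (.leaf (.up 9 1459 2))) (.node (.leaf (.up 7 1148 0)) (.leaf (.up 7 125 0))))) (.node (.node (.node (.leaf (.up 7 266 2)) (.leaf (.up 8 1817 0))) (.node (.leaf (.up 8 1818 0)) (.leaf (.up 8 1176 2)))) (.node (.node (.leaf (.up 10 580 0)) (.leaf (.up 4 782 1))) (.node (.leaf (.up 6 1606 0)) (.leaf (.up 4 583 0))))))) (.node (.node (.node (.node (.node (.leaf (.up 5 1077 2)) (.leaf (.up 5 133 1))) (.node (.leaf (.up 5 697 0)) (.leaf (.up 5 1054 1)))) (.node (.node (.leaf (.up 7 2023 0)) (.leaf (.up 7 1861 2))) (.node (.leaf (.up 6 1070 1)) (.leaf (.up 7 486 2))))) (.node (.node (.node (.leaf (.up 7 229 1)) (.leaf (.up 7 205 2))) (.node (.leaf (.up 9 1375 2)) (.leaf (.up 6 1646 2)))) (.node (.node (.leaf (.up 5 1501 0)) (.leaf (.up 4 476 0))) (.node (.leaf (.up 6 479 0)) (.leaf (.up 6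 1583 2)))))) (.node (.node (.node (.node (.leaf (.up 6 1653 2)) (.leaf (.up 7 307 0))) (.node (.leaf (.up 6 304 0)) (.leaf (.up 4 859 1)))) (.node (.node (.leaf (.up 9 1588 2)) (.leaf (.up 7 1285 2))) (.node (.leaf (.up 6 875 1)) (.leaf (.up 9 2004 1))))) (.node (.node (.node (.leaf (.up 8 1952 1)) (.leaf (.up 8 653 2))) (.node (.leaf (.up 9 827 1)) (.leaf (.up 6 1070 2)))) (.node (.node (.leaf (.up 7 815 1)) (.leaf (.up 3 716 2))) (.node (.leaf (.up 4 598 0)) (.leaf (.up 6 1623 0)))))))) (.node (.node (.node (.node (.node (.node (.leaf (.up 3 513 1)) (.leaf (.up 4 1726 1))) (.node (.leaf (.up 5 1690 1)) (.leaf (.up 4 1037 2)))) (.node (.node (.leaf (.up 7 1678 1)) (.leaf (.up 8 561 1))) (.node (.leaf (.up 7 533 1)) (.leaf (.up 9 1100 2))))) (.node (.node (.node (.leaf (.up 8 1758 1)) (.leaf (.up 7 148 0))) (.node (.leaf (.up 7 581 1)) (.leaf (.up 6 964 2)))) (.node (.node (.leaf (.up 4 593 1)) (.leaf (.up 5 1318 2))) (.node (.leaf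 (.up 6 459 0)) (.leaf (.up 3 629 1)))))) (.node (.node (.node (.node (.leaf (.up 5 1318 0)) (.leaf (.up 4 507 1))) (.node (.leaf (.up 6 479 1)) (.leaf (.up 10 1317 0)))) (.node (.node (.leaf (.up 6 459 1)) (.leaf (.up 8 175 2))) (.node (.leaf (.up 8 1360 1)) (.leaf (.up 8 495 1))))) (.node (.node (.node (.leaf (.up 8 1820 0)) (.leaf (.up 8 797 0))) (.node (.leaf (.up 8 693 2)) (.leaf (.up 9 447 1)))) (.node (.node (.leaf (.up 5 1600 0)) (.leaf (.up 7 427 1))) (.node (.leaf (.up 5 756 2)) (.leaf (.up 8 1603 0))))))) (.node (.node (.node (.node (.node (.leaf (.up 7 1695 1)) (.leaf (.up 4 1726 0))) (.node (.leaf (.up 7 1930 2)) (.leaf (.up 4 700 0)))) (.node (.node (.leaf (.up 6 995 0)) (.leaf (.up 7 1711 1))) (.node (.leaf (.up 7 1995 2)) (.leaf (.up 8 564 1))))) (.node (.node (.node (.leaf (.up 3 1760 2)) (.leaf (.up 6 1156 0))) (.node (.leaf (.up 9 1159 0)) (.leaf (.up 6 612 1)))) (.node (.node (.leaf (.up 8 473 0)) (.leaf (.up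 2 1424 2))) (.node (.leaf (.up 5 1499 0)) (.leaf (.up 7 1771 1)))))) (.node (.node (.node (.node (.leaf (.up 4 310 0)) (.leaf (.up 9 1381 1))) (.node (.leaf (.up 4 1332 0)) (.leaf (.up 9 309 0)))) (.node (.node (.leaf (.up 7 808 2)) (.leaf (.up 5 1131 0))) (.node (.leaf (.up 7 462 1)) (.leaf (.up 7 1722 2))))) (.node (.node (.node (.leaf (.up 5 780 0)) (.leaf (.up 3 442 1))) (.node (.leaf (.up 7 414 1)) (.leaf (.up 8 783 0)))) (.node (.node (.leaf (.up 4 394 1)) (.leaf (.up 7 1333 1))) (.node (.leaf (.up 4 1297 1)) (.leaf (.up 6 371 2))))))))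

noncomputable def vt5_9_111 : Tr VStep := .node vt5_9_1110 vt5_9_1111

noncomputable def vt5_9_11 : Tr VStep := .node vt5_9_110 vt5_9_111

noncomputable def vt5_9_1 : Tr VStep := .node vt5_9_10 vt5_9_11

noncomputable def vt5_9_ : Tr VStep := .node vt5_9_0 vt5_9_1

noncomputable def roots5 : List Root := [⟨0,[⟨[623],11151459129900078896213286698592629285376320,0,11151459129900078896213286698592629285376320,[87,93,90,156]⟩,⟨[645,670,631,623,670],19558805719320410783238869234291234358493201,1544,11152470126905546981839662932296832462684177,[88,90,141]⟩,⟨[670,670,623,645,670],14869042113764069129619873149162772259473316,683,11150436408052053600892115439148409244682148,[88,55,44,236]⟩,⟨[670,610,623,670,631,670],14037193170433579963410460654407647661577439,530,11151598698944021793241043983386253228430559,[55,155,160]⟩],vt5_0_⟩,⟨2,[⟨[610,631,610,670],14789623744821218385065458826672160859707066,668,1115268580717022808756891102244142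2215665338,[93,44,150]⟩,⟨[670,623,645,670,623,631,623],16736451924015769153144010718249117626142721,1026,11150376588641643336929253162649210666881025,[87,56,123,142]⟩],vt5_1_⟩,⟨3,[⟨[610],11151063964037478814256529169967610387825153,0,11151063964037478814256529169967610387825153,[88,104,188]⟩,⟨[670,610,631],19557399556442203886733367939681781708498313,1544,11151063964027340085334161637687379812689289,[87,94,90,194]⟩,⟨[623,645,645],17646350248400203598062035959810439878279405,1193,11151040428613330207473141453152848258007277,[57,123,166]⟩,⟨[645,610,645,623],20320424501881248956410406392459772377413395,654,11151856407563482996853240969818209687942931,[87,110,43,136]⟩],vt5_2_⟩,⟨6,[⟨[623,631,670,631,670],16867492761268923264078198113100775946744310,1050,11150748996997157077893504708247069994283510,[94,155,71]⟩,⟨[631,670,623,670,645,670],19585131300192961850754893917367163633644022,188,11151573118424422972278617646778220280918518,[57,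123,133]⟩,⟨[670,623,670,645,610,645],20320441775732105801577811229135473040230047,1576,11151873681414339842020645806493910350759583,[55,43,211]⟩],vt5_3_⟩,⟨8,[⟨[631,631,645,623],17516586633166737034546643647147903958388738,1169,11151945242277504013927684989744111331315714,[57,55,42,75]⟩,⟨[610,645,645,623,610],14711251171625163689707214259524975412495295,654,11150536484164463608026462367358952847819711,[87,140,127]⟩,⟨[670,645,670,631,623],11452385329113275882395450066846885346281187,55,11152936846222850034547680412306929320199907,[57,93,90,92]⟩,⟨[623,670,670,670,610,670],11354072968130696048174405325590571444617792,562,11152625806913500477804087557990964663435840,[57,123,194]⟩],vt5_4_⟩,⟨10,[⟨[623],11151459129900078896213286698592629285376320,0,11151459129900078896213286698592629285376320,[88,55,76]⟩,⟨[645,631],14037053105589844084066195956092035067834993,530,11151458634100285913896779285070640634688113,[55,123,227]⟩,⟨[631,631,631]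,11150436909260816198998535495737573818662948,0,11150436909260816198998535495737573818662948,[88,110,104,181]⟩,⟨[670,610,631],19557399556442203886733367939681781708498313,1544,11151063964027340085334161637687379812689289,[88,94,103,210]⟩,⟨[670,631,670,631],16867127163670804336745631827466389637103620,1050,11150383399399038150560938422612683684642820,[94,44,243]⟩,⟨[670,670,623,645,670],14869042113764069129619873149162772259473316,683,11150436408052053600892115439148409244682148,[57,90,30]⟩,⟨[631,670,670,623,645],16897011036146654267090416442050904487547828,686,11153044682521213003828653068602657078170548,[88,94,116,8]⟩],vt5_5_⟩,⟨168,[⟨[645,670,623],20321639081978773469954972683504605350810483,1087,11153070987661007510397807260863042661340019,[56,44,169]⟩,⟨[670,631,670,631],16867127163670804336745631827466389637103620,1050,11150383399399038150560938422612683684642820,[57,43,158]⟩,⟨[631,670,623,670],19733631151980808481546257264385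717739934561,1576,11153070987702424186853803163386250519860065,[57,94,103,1]⟩,⟨[631,610,631,631],16867818362184627956403010856494187872814751,1050,11151074597912861770218317451640481920353951,[88,93,89,126]⟩,⟨[631,631,610,645,623],11907162078698464415233118448850738099123200,139,11150374094666297272490573321922485596845056,[88,93,201]⟩],vt5_6_⟩,⟨424,[⟨[623],11151459129900078896213286698592629285376320,0,11151459129900078896213286698592629285376320,[89,115]⟩,⟨[645,670],17646074876297792711146413699334353953964380,1087,11150765056510919320557519192676762333692252,[57,93,43,191]⟩,⟨[670,670,631],16868827293930544385350252181076558344255336,1050,11152083529658778199165558776222852391794536,[88,56,176,113]⟩],vt5_7_⟩,⟨531,[⟨[610],11151063964037478814256529169967610387825153,0,11151063964037478814256529169967610387825153,[93,90,92]⟩,⟨[623,645],14036867475407813967595537494669138552660538,1214,11151273003918255797426120823647744119513658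,[56,89,210]⟩,⟨[631,623],12125772282472603369657938885804680796930951,1193,11151203583611035610298834010120096639320967,[57,55,11]⟩,⟨[670,670,670],14021529213123012671104484002984868273746545,24,11152268295245659547181309313120198714749553,[94,42,115]⟩,⟨[645,670,623],20321639081978773469954972683504605350810483,1087,11153070987661007510397807260863042661340019,[55,155,115]⟩],vt5_8_⟩,⟨2261,[⟨[631],20320303485262375552873952510350274201125920,1193,11151735390944609593316787087708711511655456,[87,155,0]⟩,⟨[670],19558323586394912203169540842804654100836988,55,11151987993980048401770334540810252205027964,[91,169]⟩,⟨[623],11151459129900078896213286698592629285376320,0,11151459129900078896213286698592629285376320,[87,110,190]⟩],vt5_9_⟩]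

noncomputable def sel5_0 : Tr (ℕ × ℕ × ℕ) :=
  .node (.node (.node (.node (.node (.node (.node (.leaf (11151063964037478814256529169967610387825153,610,0)) (.leaf (17648236200938423209565588644682248171324756,49,4))) (.node (.leaf (12043296128634096014280880398776636381632059,30,3)) (.leaf (17645873833765269614057498409609711119843344,3,3)))) (.node (.node (.leaf (11151609007537367050766038567377171509405179,20,2)) (.leaf (19557410190256358425066166592209242220921600,4,2))) (.node (.leaf (19557394455934961037064521242903714944247527,0,4)) (.leaf (11177618169184635605977474408827030314422273,210,219))))) (.node (.node (.node (.leaf (12125111481182604429118013926609708042944642,7,1)) (.leaf (17647199239333763911178606994835872885962448,73,4))) (.node (.leaf (14038673549980644508436212021210323281511217,51,1)) (.leaf (19730954548630463775834817582941258899267585,201,207)))) (.node (.node (.leaf (20321647215796491857733836691213962932745413,32,2))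 (.leaf (19557834590761698853482935123497615055794464,109,1))) (.leaf (19556878374817802390728040962125445735252687,26,4))))) (.node (.node (.node (.node (.leaf (20319608508979333665745425008011526708458588,5,2)) (.leaf (17648282394978312994731162710139927008604669,62,4))) (.node (.leaf (14036956036336243897036039216604512672045044,3,0)) (.leaf (19830752470784259842091762347168079395282964,191,11)))) (.node (.node (.leaf (20319121476449393470774278605387946721841160,26,2)) (.leaf (16972880759409368190530398746029638363288003,99,2))) (.leaf (14021291615875162422667009265891071683215424,16,4)))) (.node (.node (.node (.leaf (12125627562385467018369929068403199194447884,12,2)) (.leaf (17439798353999496796386452592653981090365558,86,4))) (.node (.leaf (17761912990307755580199691889190515934524664,58,1)) (.leaf (14070977617330621710850171807927181674606848,214,215)))) (.node (.node (.leaf (17761299221581721632151581165296805933364159,11,3))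 (.leaf (11451994411801909397707607995731040185091057,118,2))) (.leaf (14037539930174384891104705119209100493452393,36,4)))))) (.node (.node (.node (.node (.node (.leaf (19558323586394912203169540842804654100836988,670,0)) (.leaf (11983668347488454277905299724346789790179575,55,4))) (.node (.leaf (11907181858887955669466573914130156376727572,39,3)) (.leaf (14036147888678699168692447646771140490698880,38,195)))) (.node (.node (.leaf (16867119188299400005551006311439112479966367,22,1)) (.leaf (12127573726491345542063349538906410042745230,97,4))) (.leaf (20243867233398971268074597938644133951295760,8,4)))) (.node (.node (.node (.leaf (17645846456149112557515744194319311445067539,8,2)) (.leaf (19629503700381247712229977506953879855939879,81,4))) (.node (.leaf (11150542783414781455595387437146116406878344,52,3)) (.leaf (11983712536422669335631419106017281789190145,211,197)))) (.node (.node (.leaf (17517414759955936916323918517636867880047818,2,3))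 (.leaf (14038065099566665840919844916136309525029299,113,2))) (.leaf (19558338042055093291011845604459798128379373,32,4))))) (.node (.node (.node (.node (.leaf (14712638503625866001535003988234523373553194,6,0)) (.leaf (17440994659153218798358087136499718739461343,69,4))) (.node (.leaf (17647252243195789656380506528506112494284802,49,3)) (.leaf (17069527437828864443410746809085447893911449,202,202)))) (.node (.node (.leaf (16867539284367359559285595297945776249513414,28,1)) (.leaf (11451322163224026820468606996788282642990450,103,2))) (.leaf (14037451031247787491576626138832336805856606,22,4)))) (.node (.node (.node (.leaf (16867874530455831678604371722832913748952762,16,2)) (.leaf (17645853077599354365096159124890610906972751,93,4))) (.node (.leaf (14036634848501112349185416648176657639941546,63,1)) (.leaf (20433287533621296735939990937185625229561857,197,219)))) (.node (.node (.leaf (14036130910867372228980968719657724987926376,23,3))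 (.leaf (17647233970586611014217086035819049301702638,123,3))) (.leaf (14038141904556799124928433611594923592425957,44,4))))))) (.node (.node (.node (.node (.node (.node (.leaf (20320303485262375552873952510350274201125920,631,0)) (.leaf (20476875586745553410843032937572783081277123,53,4))) (.node (.leaf (17517421735154490339281435189822543233721064,37,3)) (.leaf (17517698089619451964121519153306439156933567,3,193)))) (.node (.node (.leaf (14713066721214531399210098156971637683422973,21,1)) (.leaf (19556711016290020642842605638659620435165440,96,2))) (.node (.leaf (19557697679331030152728578345233795437151564,5,4)) (.leaf (19556712563014823858217328474387173748019201,212,219))))) (.node (.node (.node (.leaf (14712213685904565937899143365229558710100205,8,0)) (.leaf (17646671384503894279605952202281885897168804,75,4))) (.node (.leaf (11908899726688600577561251479152879296311419,52,0)) (.leaf (14711174070204897144443409233801900511338497,199,208))))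 (.node (.node (.leaf (14036867475407813967595537494669138552660538,1,3)) (.leaf (19731037949134352658390389206593565684098441,110,3))) (.leaf (19557539175981146428565264672655614510126961,29,4))))) (.node (.node (.node (.node (.leaf (12125772282472603369657938885804680796930951,2,1)) (.leaf (20477147281828711920694648565552513940919552,66,4))) (.node (.leaf (14037438546094039724954382157972719331067849,49,0)) (.leaf (12125269843769142822186020258072560539178410,4,4)))) (.node (.node (.leaf (14712618890492460347252320287339534381749760,27,1)) (.leaf (11352358639908542978343231166907399567229786,102,4))) (.leaf (14021807356385808541675957405820835756648163,19,4)))) (.node (.node (.node (.leaf (11152489237164127880454692569029331067840062,14,2)) (.leaf (17439754652909644201755420674427569291888513,88,4))) (.node (.leaf (17762568309067923740524776762358609871119148,61,0)) (.leaf (14035988504556406515202277706622336338233268,38,217))))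 (.node (.node (.leaf (11909202610556455530359857118652486442419328,18,3)) (.leaf (14038008931244214823522074846069944163043111,120,2))) (.leaf (14787773441296342387236351335533398282052532,39,4)))))) (.node (.node (.node (.node (.node (.leaf (20320510844911025859788204176697246842118178,0,2)) (.leaf (14869026167573576173961749567449163253289056,58,4))) (.node (.leaf (11907699104716249349024749119429881101468755,47,3)) (.leaf (19583941581164149804217436277231383868407809,197,197)))) (.node (.node (.leaf (17645688118711539145834182888056847452881924,24,0)) (.leaf (12126643266923755587322788072857998640351034,98,4))) (.leaf (19627577862894466637204153749656461730772602,14,4)))) (.node (.node (.node (.leaf (16868391644671602838263529156190782704817092,10,2)) (.leaf (19558365910115829243346875173992460605719104,84,4))) (.node (.leaf (17761579479760597726327964680376624593040037,55,0)) (.leaf (14064315904418848539230395487911557747160181,213,23))))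 (.node (.node (.leaf (11909056575563273931707630335300591498236529,9,3)) (.leaf (12126692114114215118978885052348579194270983,116,4))) (.leaf (14788484578193096362107443903620452251006902,34,4))))) (.node (.node (.node (.node (.leaf (17646533166889348416007565915893073093066896,6,2)) (.leaf (20479120993617401792678341827019212327638732,71,4))) (.node (.leaf (14036658604236744142832419195413886578925577,50,2)) (.leaf (11452444981573492668801175210510588321091618,203,205)))) (.node (.node (.leaf (17647842631443926720663873305982418696316686,30,0)) (.leaf (19733233833745350529829613912592901734795177,107,3))) (.leaf (14020414000197731820201120377719741905436751,24,4)))) (.node (.node (.node (.leaf (12125930785809813682667881262528731862775068,18,2)) (.leaf (14868979644671047484065182697108203091542262,95,4))) (.node (.leaf (20319642702618628256973123346811311162925696,67,3)) (.leaf (12044635990423137514009865341200944039211009,199,219))))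 (.node (.node (.leaf (14036937752176575042356875674041084938212175,26,3)) (.leaf (11153004490582480367294373449054948551181748,144,2))) (.leaf (20245389524632954035622172059251934517117833,48,4)))))))

noncomputable def sel5_1 : Tr (ℕ × ℕ × ℕ) :=
  .node (.node (.node (.node (.node (.node (.node (.leaf (11151459129900078896213286698592629285376320,623,0)) (.leaf (20476995420812003160476895576765912537093413,52,4))) (.node (.leaf (14036817953216534369028763161506699270550032,32,3)) (.leaf (20321060813864116898706075690078769743138833,192,192)))) (.node (.node (.leaf (17646582689063118077496800724039049883152543,21,0)) (.leaf (19557164330799430461954465597754420796307380,96,1))) (.node (.leaf (19558180189123440858839140602857692563755978,1,4)) (.leaf (20243044443884629006443496659355189861740545,211,219))))) (.node (.node (.node (.leaf (17646653297511959587572136458845159646638485,7,2)) (.leaf (17648314625428211498442686555036025762280402,74,4)))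 (.node (.leaf (17647718024143829625883652634968560338564697,51,3)) (.leaf (17440152386734817961434765614242242091843585,198,208)))) (.node (.node (.leaf (14037657868632879973504958975354051299725674,0,3)) (.leaf (19556761867700627015003020638204483973818260,109,2))) (.leaf (14036179789107420040092226766773373760962752,28,4))))) (.node (.node (.node (.node (.leaf (14711099257604845446097328908911119316846130,2,0)) (.leaf (11983672664115737335144179813488329124361827,64,4))) (.node (.leaf (14035993698221361429657140917600216594530308,3,1)) (.leaf (14211181145282439020405622897282314721318844,200,160)))) (.node (.node (.leaf (17647373413992162675025245905133687183709586,27,0)) (.leaf (11353095032086221011635288224321392222520796,101,4))) (.leaf (14787987121766048157914125816084456696845623,18,4)))) (.node (.node (.node (.leaf (16867687153719543341152832871645953028986215,13,2)) (.leaf (14871545047485093643209519785329967896875891,87,4)))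 (.node (.leaf (17761501255722012775275354472370469650485750,59,2)) (.leaf (16973162510580422213911452655143826836649514,206,0)))) (.node (.node (.leaf (17761383742448264769871985082611035757634052,17,3)) (.leaf (14037805607072531223736796208671149979931421,120,1))) (.leaf (19629805323957305008644089067112671637451375,38,4)))))) (.node (.node (.node (.node (.node (.leaf (11152150328592305701732332813578360843925475,0,1)) (.leaf (17439619237196936221460691578521094164116043,57,4))) (.node (.leaf (17760209045565039010805622675895137295958144,46,3)) (.leaf (12174726245413631697125074023702875242500097,191,196)))) (.node (.node (.leaf (20318967285999981096330445132099115477954576,23,2)) (.leaf (12124963896625496692993564699637329044706653,98,3))) (.leaf (19629829575228436520983630246281524304818393,11,4)))) (.node (.node (.node (.leaf (12126556692847952866705385178172219953140887,9,2)) (.leaf (14869949184493757288729820918986513563631874,82,4)))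 (.node (.leaf (11907183222075280754624082139527445928226849,53,2)) (.leaf (14063645973541221478631902963590881200714979,201,11)))) (.node (.node (.leaf (17516417987897521715613044047901618620859393,8,3)) (.leaf (12125122415552102816189874498665294097555821,116,3))) (.leaf (19627643999207550695604019046983565688402134,33,4))))) (.node (.node (.node (.node (.leaf (12126571148467341412401012759978147387379995,6,1)) (.leaf (14871138514449521109383194701159161028958140,70,4))) (.node (.leaf (14037582259315448445225753688993596254584872,50,0)) (.leaf (20548566385321743611289846702925329425805717,204,204)))) (.node (.node (.leaf (20321461123825338258635826847460726193067606,29,2)) (.leaf (11449911852393451309291214363032991883489769,105,2))) (.leaf (19558828352277559383330400096087243036299854,23,4)))) (.node (.node (.node (.leaf (11152300206067833623701304459142810555303746,17,2)) (.leaf (20244841551434102288338726381880979241320516,94,4)))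 (.node (.leaf (14038083207721912531862819297774378344783878,65,2)) (.leaf (14021977463538046046766029103966457787539457,198,219)))) (.node (.node (.leaf (12045238355323490470530234621161385832198462,24,3)) (.leaf (11232825951466606122361550189476047185917833,137,1))) (.leaf (20243375744300330838253663101302174064785291,45,4))))))) (.node (.node (.node (.node (.node (.node (.leaf (14038127086118799684306059030744692446126423,645,0)) (.leaf (14869942538351750522023953387332016198203289,54,4))) (.node (.leaf (17762052568635430572487294062900294939599778,38,3)) (.leaf (17760027931558992131278546127465093982617609,194,48)))) (.node (.node (.leaf (16867818362184627956403010856494187872814751,21,2)) (.leaf (12124949275117780841727386578522466576024920,97,3))) (.node (.leaf (20244530518168234579832495250672081616838920,7,4)) (.leaf (19524051728817156487259858480485844599709697,208,208))))) (.node (.node (.node (.leaf (12127061458662638879561446724530651997016067,8,1))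 (.leaf (17646368477277946786295099186704428036523235,78,4))) (.node (.leaf (11907585995326137857331622554936472204251565,52,2)) (.leaf (14830887958070946281464791549696398891941889,209,208)))) (.node (.node (.leaf (14035972905089106710644341205909456176550912,5,3)) (.leaf (17645698371537343219318550074300174543381470,111,3))) (.leaf (14036649006579872597726544518515314647085121,31,4))))) (.node (.node (.node (.node (.leaf (17645726325485684080147322690845288498966545,2,2)) (.leaf (14869878543585208610978663217987985972372597,68,4))) (.node (.leaf (14037744304156126467439896630923359587750618,49,2)) (.leaf (14021529213123012671104484002984868273746545,4,202)))) (.node (.node (.leaf (16868195922948545315297478648434491299374975,27,2)) (.leaf (11283713318468186405165120064389581243254597,103,1))) (.leaf (14019962062711422402065837422482189606937334,21,4)))) (.node (.node (.node (.leaf (12126413295541708850526783000779576604205978,15,2))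 (.leaf (17439152297892593963562569622467722450531169,89,4))) (.node (.leaf (14038087706828589250203233752164219255776824,63,0)) (.leaf (11281827119295537381354045571101514478649345,216,218)))) (.node (.node (.leaf (12045957792883545395147634929103122825233721,19,3)) (.leaf (11352196148802512156895580081289653105861100,121,4))) (.leaf (14037590274987676738917470576671653123003257,43,4)))))) (.node (.node (.node (.node (.node (.leaf (20319422417192479788723200024399824241332949,1,2)) (.leaf (17646025365842579749945682615980590485778927,60,4))) (.node (.leaf (17517111519875311554084218883186543829255311,48,3)) (.leaf (14871320446677583733211463312801585188270081,198,197)))) (.node (.node (.leaf (14711543425901980257143942891396449309770862,24,1)) (.leaf (16737756436991130066149259304908246793167835,99,1))) (.leaf (14788610529695436998925964953121573657986351,15,4)))) (.node (.node (.node (.leaf (11150436909260816198998535495737573818662948,11,2))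 (.leaf (14869267298885823348915120230919766111303394,85,4))) (.node (.leaf (11909316813749760619798417147617834781418961,55,1)) (.leaf (17647153894267868395458628527542542921598873,3,191)))) (.node (.node (.leaf (12043485219831734412557170534701077589775551,10,3)) (.leaf (11352905956583014132915810142011333327528816,117,4))) (.leaf (14038091559700470896148202494128802104361202,35,4))))) (.node (.node (.node (.node (.leaf (14713736981075640124269002261553206212863588,7,0)) (.leaf (17647384165911638222932934818540281847650266,72,4))) (.node (.leaf (14036653128984433589220619445727218221715976,51,0)) (.leaf (12174098867067258913401152465650502622155655,206,70)))) (.node (.node (.leaf (14711095595127982972308700654718576939880962,30,1)) (.leaf (17070459220751413573511338797206541350146933,107,4))) (.leaf (14038345601658400814560218159194909975065560,25,4)))) (.node (.node (.node (.leaf (16867170039656857259693160172735338012410016,19,2))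 (.leaf (19558687626033406454879422302580231172945191,4,1))) (.node (.leaf (11907206110161770363902350659392719909037213,71,0)) (.leaf (14036752810758402933074415450649150301810689,209,219)))) (.node (.node (.leaf (14036011111866183753665974991158652577136688,29,3)) (.leaf (20245018347460905526799782434739611750498337,2,4))) (.leaf (17646074876297792711146413699334353953964380,3,4)))))))

noncomputable def sel5_ : Tr (ℕ × ℕ × ℕ) := .node sel5_0 sel5_1

noncomputable def orb5 : Orb := ⟨trio5_, roots5, sel5_, 228, 5, [(1,[228,0,1,5,2,6,7,8,9,10,11,12,13,14,15,16,17,18,19,20,21,22,23,24,25,26,27,28,29,30,31,32,33,34,35,36,37,38,39,40,41,42,43,44,45,46,47,48,3,49,50,51,52,53,54,55,56,57,58,59,60,61,62,63,64,65,66,67,68,69,70,71,72,73,74,75,76,77,78,79,80,81,82,83,84,85,86,87,88,89,90,91,92,93,94,95,4,96,97,98,99,100,101,102,103,104,105,106,107,108,109,110,111,112,113,114,115,116,117,118,119,120,121,122,123,124,125,126,127,128,129,130,131,132,133,134,135,136,137,138,139,140,141,142,143,144,145,146,147,148,149,150,151,152,153,154,155,156,157,158,159,160,161,162,163,164,165,166,167,168,169,170,171,172,173,174,175,176,177,178,179,180,181,182,183,184,185,186,187,188,189,190]),(2,[228,197,198,199,209,210,211,212,219,220,221,222,223,224,225,226]),(4,[228,208,227])],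 54405120⟩

end Cfsg.Agent.Lib.J4Dce59.Data
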