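import Cfsg.Agent.Lib.J4Dce59.CoverRules

/-! # Generated data for the double coset enumeration (Orb6) -/

set_option autoImplicit false
set_option maxRecDepth 100000
set_option maxHeartbeats 0

namespace Cfsg.Agent.Lib.J4Dce59.Data

noncomputable def trio6_00000 : Tr TStep :=
  .node (.node (.node (.node (.node (.node (.node (.leaf (.root 0)) (.leaf (.up 13 1489 [2628] 1299 [88,56,155,189]))) (.node (.leaf (.up 7 2133 [2501] 0 [88,55,44,180])) (.leaf (.up 7 325 [2628] 1299 [57,56,104,223])))) (.node (.node (.leaf (.up 6 704 [2501] 0 [57,123,106])) (.leaf (.up 12 899 [2501] 0 [55,44,184]))) (.node (.leaf (.up 9 1532 [2628] 1299 [88,104,144])) (.leaf (.up 15 3244 [2628] 1299 [57,93,44,220]))))) (.node (.node (.node (.leaf (.up 6 3513 [2628] 1299 [57,56,172])) (.leaf (.up 15 2345 [2628] 1299 [88,110,104,98]))) (.node (.leaf (.up 13 1658 [2628] 1299 [57,56,103,3])) (.leaf (.up 10 3074 [2501] 0 [57,55,155,97])))) (.node (.node (.leaf (.up 9 1325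 [2501] 0 [87,55,44,145])) (.leaf (.up 4 337 [2501] 0 [93,123,130]))) (.leaf (.up 10 2026 [2628] 1299 [57,94,103,197]))))) (.node (.node (.node (.node (.leaf (.up 13 2236 [2628] 1299 [56,134])) (.leaf (.up 16 2271 [2501] 0 [55,91,120]))) (.node (.leaf (.up 5 1636 [2628] 1299 [57,56,104,129])) (.leaf (.up 10 752 [2628] 1299 [93,43,72])))) (.node (.node (.leaf (.up 10 2969 [2501] 0 [57,56,89,144])) (.leaf (.up 8 2674 [2501] 0 [87,176,225]))) (.node (.leaf (.up 12 1997 [2628] 1299 [57,116,194])) (.leaf (.up 13 3605 [2501] 0 [57,56,176,117]))))) (.node (.node (.node (.leaf (.up 9 3127 [2628] 1299 [88,93,89,101])) (.leaf (.up 9 863 [2628] 1299 [110,89,165]))) (.node (.leaf (.up 5 2710 [2628] 1299 [87,116,25])) (.leaf (.up 14 1301 [2628] 1299 [57,94,91,234])))) (.node (.node (.leaf (.up 11 3742 [2501] 0 [93,123,96])) (.leaf (.up 14 1078 [2501] 0 [88,94,44,18]))) (.leaf (.up 13 3104 [2628] 1299 [88,93,103,105])))))) (.node (.node (.node (.node (.node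 (.leaf (.up 12 3470 [2628] 1299 [87,110,42,61])) (.leaf (.up 9 2278 [2501] 0 [87,93,116,131]))) (.node (.leaf (.up 14 898 [2628] 1299 [88,93,140])) (.leaf (.up 10 2582 [2628] 1299 [88,94,43,246])))) (.node (.node (.leaf (.up 9 775 [2628] 1299 [87,94,123,124])) (.leaf (.up 17 397 [2501] 0 [87,94,123,156]))) (.node (.leaf (.up 16 1432 [2628] 1299 [57,55,123,182])) (.leaf (.up 8 1900 [2628] 1299 [87,140,182]))))) (.node (.node (.node (.leaf (.up 15 1599 [2628] 1299 [56,123,200])) (.leaf (.up 7 2120 [2628] 1299 [87,55,116,138]))) (.node (.leaf (.up 9 2937 [2628] 1299 [88,93,176,130])) (.leaf (.up 13 273 [2628] 1299 [55,140,149])))) (.node (.node (.leaf (.up 12 1774 [2628] 1299 [88,110,137])) (.leaf (.up 14 2662 [2628] 1299 [56,116,76]))) (.leaf (.up 3 375 [2501] 0 [123,35]))))) (.node (.node (.node (.node (.leaf (.up 14 2091 [2628] 1299 [87,56,140,137])) (.leaf (.up 13 3733 [2501] 0 [57,56,176,197]))) (.node (.leaf (.up 9 713 [2628] 1299 [87,94,89,187]))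 (.leaf (.up 5 1671 [2628] 1299 [94,155,202])))) (.node (.node (.leaf (.up 5 409 [2628] 1299 [55,90,31])) (.leaf (.up 14 3737 [2501] 0 [87,110,89,151]))) (.node (.leaf (.up 13 3302 [2628] 1299 [57,55,103,33])) (.leaf (.up 9 2221 [2501] 0 [57,93,44,235]))))) (.node (.node (.node (.leaf (.up 7 3077 [2628] 1299 [88,56,104,230])) (.leaf (.up 12 1669 [2628] 1299 [88,55,89]))) (.node (.leaf (.up 6 3165 [2628] 1299 [88,94,116,126])) (.leaf (.up 8 1307 [2628] 1299 [87,55,43,187])))) (.node (.node (.leaf (.up 10 2862 [2628] 1299 [88,56,103,105])) (.leaf (.up 13 234 [2628] 1299 [56,44,198]))) (.leaf (.up 9 3221 [2501] 0 [93,116,36]))))))) (.node (.node (.node (.node (.node (.node (.leaf (.up 10 1764 [2501] 0 [57,94,119])) (.leaf (.up 9 1220 [2501] 0 [57,55,116,162]))) (.node (.leaf (.up 12 2226 [2501] 0 [57,116,146])) (.leaf (.up 12 2004 [2628] 1299 [88,93,140,169])))) (.node (.node (.leaf (.up 8 2900 [2628] 1299 [140,61])) (.leaf (.up 11 1416 [2628]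 1299 [57,110,157]))) (.node (.leaf (.up 15 1581 [2501] 0 [57,93,90,205])) (.leaf (.up 6 3078 [2628] 1299 [57,94,90]))))) (.node (.node (.node (.leaf (.up 8 394 [2501] 0 [87,56,103,193])) (.leaf (.up 15 2061 [2628] 1299 [87,104,101]))) (.node (.leaf (.up 13 2716 [2628] 1299 [57,56,89,239])) (.leaf (.up 11 3326 [2501] 0 [88,94,43,122])))) (.node (.node (.leaf (.up 14 2687 [2501] 0 [57,123,16])) (.leaf (.up 10 1795 [2501] 0 [176,77]))) (.leaf (.up 10 2492 [2501] 0 [57,55,91,246]))))) (.node (.node (.node (.node (.leaf (.up 10 969 [2501] 0 [57,160])) (.leaf (.up 9 1666 [2501] 0 [88,93,90,219]))) (.node (.leaf (.up 15 213 [2501] 0 [88,94,103,133])) (.leaf (.up 6 1706 [2628] 1299 [87,110,123,239])))) (.node (.node (.leaf (.up 12 3466 [2628] 1299 [55,104,181])) (.leaf (.up 13 159 [2628] 1299 [110,89,21]))) (.node (.leaf (.up 12 2948 [2628] 1299 [57,94,116,174])) (.leaf (.up 16 2307 [2628] 1299 [57,110,89,138]))))) (.node (.node (.node (.leaf (.up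 15 456 [2501] 0 [87,93,176,115])) (.leaf (.up 6 2887 [2501] 0 [88,55,43,6]))) (.node (.leaf (.up 12 3630 [2501] 0 [87,55,44,229])) (.leaf (.up 18 3246 [2501] 0 [94,91,180])))) (.node (.node (.leaf (.up 4 854 [2501] 0 [89,191])) (.leaf (.up 13 1272 [2501] 0 [88,93,123,141]))) (.leaf (.up 8 1430 [2501] 0 [55,176,196])))))) (.node (.node (.node (.node (.node (.leaf (.up 10 2995 [2501] 0 [57,110,190])) (.leaf (.up 9 2407 [2628] 1299 [87,110,243]))) (.node (.leaf (.up 8 2137 [2501] 0 [57,93,42,37])) (.leaf (.up 11 1988 [2501] 0 [57,103,118])))) (.node (.node (.leaf (.up 15 2803 [2501] 0 [87,94,104,132])) (.leaf (.up 13 1459 [2628] 1299 [87,93,169]))) (.node (.leaf (.up 9 3039 [2628] 1299 [87,56,103,126])) (.leaf (.up 11 1450 [2628] 1299 [88,55,140,230]))))) (.node (.node (.node (.leaf (.up 6 2721 [2628] 1299 [93,176,184])) (.leaf (.up 13 64 [2501] 0 [88,110,90,12]))) (.node (.leaf (.up 13 2357 [2501] 0 [155,92])) (.leaf (.up 11 139 [2628] 1299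 [87,93,43,224])))) (.node (.node (.leaf (.up 12 3345 [2501] 0 [57,56,103,208])) (.leaf (.up 3 67 [2628] 1299 [55,89,247]))) (.leaf (.up 7 1415 [2501] 0 [57,89,0]))))) (.node (.node (.node (.node (.leaf (.up 12 321 [2628] 1299 [56,176,194])) (.leaf (.up 12 2537 [2501] 0 [87,56,103,243]))) (.node (.leaf (.up 13 2073 [2501] 0 [88,94,140,72])) (.leaf (.up 8 505 [2628] 1299 [55,116,195])))) (.node (.node (.leaf (.up 10 857 [2501] 0 [87,55,217])) (.leaf (.up 12 1335 [2501] 0 [57,56,209]))) (.leaf (.up 13 2755 [2628] 1299 [88,110,91,59])))) (.node (.node (.node (.leaf (.up 6 3264 [2501] 0 [57,110,91,65])) (.leaf (.up 13 445 [2628] 1299 [56,90,111]))) (.node (.leaf (.up 13 1014 [2501] 0 [94,91,37])) (.leaf (.up 12 2689 [2501] 0 [88,56,1])))) (.node (.node (.leaf (.up 12 1151 [2501] 0 [88,89,122])) (.leaf (.up 9 1126 [2628] 1299 [57,56,123,243]))) (.leaf (.up 14 818 [2628] 1299 [88,55,42,191])))))))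

noncomputable def trio6_00001 : Tr TStep :=
  .node (.node (.node (.node (.node (.node (.node (.leaf (.up 1 4 [2501] 0 [56,44,126])) (.leaf (.up 10 2316 [2628] 1299 [88,93,140,231]))) (.node (.leaf (.up 7 277 [2628] 1299 [55,176,197])) (.leaf (.up 4 3579 [2501] 0 [87,155,223])))) (.node (.node (.leaf (.up 12 1213 [2501] 0 [88,55,91,75])) (.leaf (.up 13 429 [2501] 0 [87,55,43,23]))) (.node (.leaf (.up 11 1286 [2628] 1299 [57,93,43,25])) (.leaf (.up 14 1215 [2628] 1299 [88,56,140,139]))))) (.node (.node (.node (.leaf (.up 6 1519 [2501] 0 [87,110,103,238])) (.leaf (.up 7 3276 [2501] 0 [57,89,102]))) (.node (.leaf (.up 12 3151 [2501] 0 [57,93,42,8])) (.leaf (.up 12 826 [2628] 1299 [87,55,43,224])))) (.node (.node (.leaf (.up 15 755 [2501] 0 [55,90,248])) (.leaf (.up 6 1138 [2501] 0 [57,155,128]))) (.leaf (.up 2 2857 [2501] 0 [57,110,155,6]))))) (.node (.node (.node (.node (.leaf (.up 6 3752 [2501] 0 [57,175])) (.leaf (.up 8 2906 [2501] 0 [88,94,104,25])))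 (.node (.leaf (.up 8 2268 [2501] 0 [88,94,155,10])) (.leaf (.up 12 2744 [2501] 0 [56,116,23])))) (.node (.node (.leaf (.up 12 2923 [2628] 1299 [55,42,30])) (.leaf (.up 12 3222 [2501] 0 [87,94,43,159]))) (.node (.leaf (.up 9 1017 [2628] 1299 [110,176,165])) (.leaf (.up 15 103 [2628] 1299 [88,140,178]))))) (.node (.node (.node (.leaf (.up 10 1764 [2628] 1299 [87,55,90,153])) (.leaf (.up 10 2607 [2501] 0 [57,93,140,150]))) (.node (.leaf (.up 10 266 [2501] 0 [57,94,123,157])) (.leaf (.up 10 2208 [2628] 1299 [57,123,225])))) (.node (.node (.leaf (.up 13 2801 [2501] 0 [87,56,44,2])) (.leaf (.up 10 3247 [2501] 0 [88,94,89,147]))) (.leaf (.up 15 2188 [2628] 1299 [93,140,236])))))) (.node (.node (.node (.node (.node (.leaf (.up 15 760 [2628] 1299 [57,93,123,183])) (.leaf (.up 1 4 [2628] 1299 [94,241]))) (.node (.leaf (.up 10 3254 [2501] 0 [94,103,167])) (.leaf (.up 9 839 [2501] 0 [55,123,162])))) (.node (.node (.leaf (.up 13 2869 [2501] 0 [57,93,103,1]))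 (.leaf (.up 11 595 [2628] 1299 [87,56,91,191]))) (.node (.leaf (.up 10 2968 [2501] 0 [87,94,103,142])) (.leaf (.up 16 2566 [2501] 0 [87,55,91,139]))))) (.node (.node (.node (.leaf (.up 11 1243 [2501] 0 [88,94,123,76])) (.leaf (.up 10 1730 [2501] 0 [57,94,90,230]))) (.node (.leaf (.up 8 3699 [2501] 0 [94,43,241])) (.leaf (.up 5 2097 [2501] 0 [87,56,104,20])))) (.node (.node (.leaf (.up 8 2426 [2628] 1299 [57,89,30])) (.leaf (.up 4 821 [2501] 0 [93,90,119]))) (.leaf (.up 13 2811 [2628] 1299 [93,89,97]))))) (.node (.node (.node (.node (.leaf (.up 15 1699 [2628] 1299 [87,103,231])) (.leaf (.up 14 358 [2501] 0 [87,93,116,248]))) (.node (.leaf (.up 15 1522 [2501] 0 [57,55,155,22])) (.leaf (.up 13 2262 [2628] 1299 [88,56,116,207])))) (.node (.node (.leaf (.up 8 228 [2501] 0 [88,110,145])) (.leaf (.up 9 1754 [2501] 0 [87,176,246]))) (.node (.leaf (.up 15 718 [2628] 1299 [87,110,43,170])) (.leaf (.up 13 642 [2501] 0 [56,91,170]))))) (.node (.node (.node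 (.leaf (.up 7 1379 [2501] 0 [87,93,220])) (.leaf (.up 11 513 [2501] 0 [94,140,114]))) (.node (.leaf (.up 11 2415 [2628] 1299 [88,104,15])) (.leaf (.up 15 1642 [2501] 0 [94,116,106])))) (.node (.node (.leaf (.up 8 1359 [2501] 0 [57,110,140,245])) (.leaf (.up 12 2369 [2501] 0 [93,176,96]))) (.leaf (.up 12 2802 [2628] 1299 [110,123,133]))))))) (.node (.node (.node (.node (.node (.node (.leaf (.up 10 1803 [2501] 0 [91,33])) (.leaf (.up 14 13 [2501] 0 [57,103,196]))) (.node (.leaf (.up 10 510 [2501] 0 [57,123,182])) (.leaf (.up 15 494 [2501] 0 [110,42,241])))) (.node (.node (.leaf (.up 10 1978 [2628] 1299 [93,42,240])) (.leaf (.up 16 2661 [2501] 0 [94,103,245]))) (.node (.leaf (.up 12 2226 [2628] 1299 [87,155,137])) (.leaf (.up 11 2356 [2501] 0 [87,55,104,235]))))) (.node (.node (.node (.leaf (.up 14 2499 [2628] 1299 [57,56,140,216])) (.leaf (.up 11 2583 [2501] 0 [110,44,223]))) (.node (.leaf (.up 14 1539 [2501] 0 [55,140,5])) (.leaf (.up 12 2649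 [2628] 1299 [87,21])))) (.node (.node (.leaf (.up 12 93 [2628] 1299 [88,110,104,108])) (.leaf (.up 13 3189 [2628] 1299 [88,110,155,157]))) (.leaf (.up 11 161 [2628] 1299 [87,94,90,65]))))) (.node (.node (.node (.node (.leaf (.up 10 830 [2628] 1299 [88,55,116,212])) (.leaf (.up 6 119 [2628] 1299 [57,94,42,101]))) (.node (.leaf (.up 11 1242 [2501] 0 [88,93,155,23])) (.leaf (.up 13 19 [2628] 1299 [87,140,233])))) (.node (.node (.leaf (.up 8 2235 [2501] 0 [57,93,140,1])) (.leaf (.up 8 3647 [2628] 1299 [88,110,123,171]))) (.node (.leaf (.up 12 711 [2501] 0 [88,94,140,171])) (.leaf (.up 11 2384 [2501] 0 [87,110,123,106]))))) (.node (.node (.node (.leaf (.up 11 723 [2628] 1299 [57,55,89,129])) (.leaf (.up 15 2942 [2628] 1299 [88,93,123,213]))) (.node (.leaf (.up 14 1007 [2628] 1299 [57,55,42,121])) (.leaf (.up 13 1712 [2628] 1299 [88,42,37])))) (.node (.node (.leaf (.up 13 3738 [2501] 0 [57,93,104,182])) (.leaf (.up 14 1530 [2501] 0 [88,93,90,185])))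 (.leaf (.up 16 3747 [2501] 0 [57,91,95])))))) (.node (.node (.node (.node (.node (.leaf (.up 11 2778 [2628] 1299 [88,56,90,157])) (.leaf (.up 10 3618 [2501] 0 [57,94,42,200]))) (.node (.leaf (.up 7 3294 [2628] 1299 [56,44,170])) (.leaf (.up 10 780 [2628] 1299 [88,110,43,115])))) (.node (.node (.leaf (.up 10 1177 [2628] 1299 [88,56,224])) (.leaf (.up 9 2946 [2501] 0 [43,239]))) (.node (.leaf (.up 8 253 [2501] 0 [88,44,213])) (.leaf (.up 11 2219 [2501] 0 [87,94,140,8]))))) (.node (.node (.node (.leaf (.up 13 2179 [2628] 1299 [87,176,5])) (.leaf (.up 10 984 [2628] 1299 [88,56,43,230]))) (.node (.leaf (.up 8 1153 [2501] 0 [57,56,123,164])) (.leaf (.up 11 3401 [2628] 1299 [87,56,123,241])))) (.node (.node (.leaf (.up 15 477 [2628] 1299 [88,93,140,11])) (.leaf (.up 10 1907 [2501] 0 [57,55,103,18]))) (.leaf (.up 7 1125 [2628] 1299 [106]))))) (.node (.node (.node (.node (.leaf (.up 14 1815 [2501] 0 [87,110,44,0])) (.leaf (.up 12 2879 [2628] 1299 [110,43,148])))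 (.node (.leaf (.up 12 1306 [2501] 0 [57,94,44,16])) (.leaf (.up 13 1733 [2501] 0 [87,93,116,114])))) (.node (.node (.leaf (.up 9 3019 [2501] 0 [57,93,89,185])) (.leaf (.up 13 118 [2501] 0 [56,104,178]))) (.leaf (.up 14 2062 [2628] 1299 [57,110,176,130])))) (.node (.node (.node (.leaf (.up 8 3539 [2501] 0 [87,94,42,230])) (.leaf (.up 13 1584 [2501] 0 [87,110,155,157]))) (.node (.leaf (.up 10 2968 [2628] 1299 [88,104,144])) (.leaf (.up 10 1163 [2501] 0 [57,110,44,143])))) (.node (.node (.leaf (.up 12 3397 [2628] 1299 [88,94,116,124])) (.leaf (.up 10 1877 [2628] 1299 [88,55,90,230]))) (.leaf (.up 9 502 [2628] 1299 [87,93,176,160])))))))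

noncomputable def trio6_0000 : Tr TStep := .node trio6_00000 trio6_00001

noncomputable def trio6_00010 : Tr TStep :=
  .node (.node (.node (.node (.node (.node (.node (.leaf (.up 3 2660 [2501] 0 [88,55,92])) (.leaf (.up 13 1332 [2628] 1299 [57,94,155,172]))) (.node (.leaf (.up 7 3633 [2628] 1299 [88,56,103,138])) (.leaf (.up 11 1047 [2501] 0 [87,56,123,141])))) (.node (.node (.leaf (.up 10 472 [2628] 1299 [88,94,116,208])) (.leaf (.up 11 1574 [2628] 1299 [87,110,43,134]))) (.node (.leaf (.up 8 3291 [2501] 0 [57,56,155,1])) (.leaf (.up 8 381 [2501] 0 [87,56,90,239]))))) (.node (.node (.node (.leaf (.up 8 756 [2501] 0 [57,110,123,73])) (.leaf (.up 15 2611 [2501] 0 [57,93,103,201]))) (.node (.leaf (.up 14 111 [2501] 0 [87,103,139])) (.leaf (.up 13 2561 [2628] 1299 [87,94,140,130])))) (.node (.node (.leaf (.up 11 646 [2501] 0 [88,93,155,203])) (.leaf (.up 12 3223 [2501] 0 [87,55,104,179]))) (.leaf (.up 7 209 [2501] 0 [55,140,97]))))) (.node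 (.node (.node (.node (.leaf (.up 5 302 [2501] 0 [56,123,210])) (.leaf (.up 10 2080 [2501] 0 [57,104,147]))) (.node (.leaf (.up 11 1607 [2501] 0 [57,55,90,161])) (.leaf (.up 7 3000 [2628] 1299 [44,201])))) (.node (.node (.leaf (.up 11 1490 [2628] 1299 [88,55,140,240])) (.leaf (.up 9 2901 [2501] 0 [25]))) (.node (.leaf (.up 15 3144 [2628] 1299 [57,56,176,129])) (.leaf (.up 10 2383 [2628] 1299 [87,56,44,117]))))) (.node (.node (.node (.leaf (.up 15 171 [2501] 0 [88,55,89,226])) (.leaf (.up 16 1417 [2501] 0 [57,93,89,72]))) (.node (.leaf (.up 10 3197 [2501] 0 [94,43,214])) (.leaf (.up 9 1694 [2628] 1299 [110,103,109])))) (.node (.node (.leaf (.up 8 3128 [2628] 1299 [57,93,91,111])) (.leaf (.up 7 1193 [2628] 1299 [176,172]))) (.leaf (.up 10 561 [2628] 1299 [57,55,140,22])))))) (.node (.node (.node (.node (.node (.leaf (.up 12 2612 [2501] 0 [57,93,90,207])) (.leaf (.up 6 235 [2501] 0 [87,110,155,72]))) (.node (.leaf (.up 12 2139 [2628] 1299 [88,56,155,145]))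 (.leaf (.up 14 819 [2628] 1299 [57,93,42,146])))) (.node (.node (.leaf (.up 8 66 [2628] 1299 [87,55,123,245])) (.leaf (.up 9 3688 [2501] 0 [91,143]))) (.node (.leaf (.up 11 254 [2501] 0 [57,56,89,163])) (.leaf (.up 6 3233 [2501] 0 [57,94,235]))))) (.node (.node (.node (.leaf (.up 3 1808 [2501] 0 [87,56,176,173])) (.leaf (.up 8 253 [2628] 1299 [57,56,140,146]))) (.node (.leaf (.up 13 1459 [2501] 0 [56,116,191])) (.leaf (.up 10 3074 [2628] 1299 [87,93,89,203])))) (.node (.node (.leaf (.up 12 3749 [2501] 0 [88,89,175])) (.leaf (.up 13 1953 [2501] 0 [57,94,104,242]))) (.leaf (.up 10 444 [2501] 0 [93,43,158]))))) (.node (.node (.node (.node (.leaf (.up 7 2445 [2501] 0 [87,93,116,73])) (.leaf (.up 7 391 [2628] 1299 [57,90,113]))) (.node (.leaf (.up 8 226 [2501] 0 [57,110,43,157])) (.leaf (.up 10 1013 [2628] 1299 [88,55,151])))) (.node (.node (.leaf (.up 7 619 [2501] 0 [94,140,34])) (.leaf (.up 15 1858 [2628] 1299 [87,110,42,228]))) (.node (.leaf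 (.up 14 3574 [2501] 0 [44,37])) (.leaf (.up 10 3242 [2501] 0 [88,56,155,238]))))) (.node (.node (.node (.leaf (.up 14 382 [2501] 0 [110,73])) (.leaf (.up 7 3518 [2628] 1299 [94,43,46]))) (.node (.leaf (.up 13 2158 [2501] 0 [57,94,103,246])) (.leaf (.up 6 1236 [2501] 0 [110,104,77])))) (.node (.node (.leaf (.up 14 3041 [2628] 1299 [87,93,123,30])) (.leaf (.up 13 3615 [2628] 1299 [110,140,197]))) (.leaf (.up 14 526 [2628] 1299 [56,91,208]))))))) (.node (.node (.node (.node (.node (.node (.leaf (.up 11 1897 [2501] 0 [57,94,123,119])) (.leaf (.up 12 1697 [2501] 0 [55,140,153]))) (.node (.leaf (.up 7 2085 [2501] 0 [110,90,136])) (.leaf (.up 8 2137 [2628] 1299 [88,94,43,241])))) (.node (.node (.leaf (.up 9 1325 [2628] 1299 [87,93,90,18])) (.leaf (.up 13 3445 [2628] 1299 [87,94,89,181]))) (.node (.leaf (.up 12 2014 [2628] 1299 [87,93,103,142])) (.leaf (.up 10 969 [2628] 1299 [88,94,176,183]))))) (.node (.node (.node (.leaf (.up 6 1257 [2628] 1299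 [88,93,103,73])) (.leaf (.up 8 3659 [2501] 0 [57,123,37]))) (.node (.leaf (.up 11 1555 [2628] 1299 [57,55,116,166])) (.leaf (.up 12 2004 [2501] 0 [56,42,75])))) (.node (.node (.leaf (.up 13 947 [2501] 0 [56,123,243])) (.leaf (.up 15 868 [2628] 1299 [87,56,44,246]))) (.leaf (.up 17 427 [2501] 0 [88,42,214]))))) (.node (.node (.node (.node (.leaf (.up 13 3407 [2501] 0 [87,90,107])) (.leaf (.up 10 2379 [2501] 0 [88,110,44,69]))) (.node (.leaf (.up 13 1452 [2501] 0 [88,93,43,9])) (.leaf (.up 8 1299 [2628] 1299 [87,94,104,75])))) (.node (.node (.leaf (.up 11 2988 [2501] 0 [88,56,215])) (.leaf (.up 8 3208 [2501] 0 [55,116,226]))) (.node (.leaf (.up 11 2603 [2628] 1299 [57,90,72])) (.leaf (.up 5 3226 [2628] 1299 [87,110,123,153]))))) (.node (.node (.node (.leaf (.up 8 1685 [2501] 0 [88,94,103,46])) (.leaf (.up 7 1981 [2628] 1299 [87,94,116,125]))) (.node (.leaf (.up 2 16 [2628] 1299 [57,94,90,122])) (.leaf (.up 11 1934 [2628] 1299 [57,55,43,199]))))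 (.node (.node (.leaf (.up 13 473 [2501] 0 [57,140,219])) (.leaf (.up 14 3436 [2501] 0 [94,34]))) (.leaf (.up 15 113 [2501] 0 [87,43,180])))))) (.node (.node (.node (.node (.node (.leaf (.up 14 1937 [2501] 0 [56,140,224])) (.leaf (.up 13 378 [2501] 0 [87,155,120]))) (.node (.leaf (.up 10 3327 [2501] 0 [88,90,197])) (.leaf (.up 13 1529 [2501] 0 [57,140,115])))) (.node (.node (.leaf (.up 7 3071 [2628] 1299 [56,155,169])) (.leaf (.up 8 2095 [2628] 1299 [87,56,176,106]))) (.node (.leaf (.up 13 3048 [2628] 1299 [87,123,13])) (.leaf (.up 8 1049 [2501] 0 [87,56,140,210]))))) (.node (.node (.node (.leaf (.up 13 1576 [2628] 1299 [55,155,162])) (.leaf (.up 12 2619 [2628] 1299 [56,123,130]))) (.node (.leaf (.up 12 1835 [2628] 1299 [57,94,42,233])) (.leaf (.up 12 2977 [2501] 0 [87,55,91,247])))) (.node (.node (.leaf (.up 12 3451 [2501] 0 [57,94,44,212])) (.leaf (.up 7 3071 [2501] 0 [88,94,176,69]))) (.leaf (.up 10 3554 [2501] 0 [94,140,208]))))) (.node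 (.node (.node (.node (.leaf (.up 13 478 [2501] 0 [57,93,104,193])) (.leaf (.up 13 7 [2501] 0 [57,56,103,36]))) (.node (.leaf (.up 8 265 [2501] 0 [55,155,138])) (.leaf (.up 11 1104 [2628] 1299 [57,94,43,184])))) (.node (.node (.leaf (.up 13 2590 [2501] 0 [88,56,89,207])) (.leaf (.up 13 241 [2628] 1299 [87,56,43,196]))) (.leaf (.up 12 482 [2501] 0 [94,116,106])))) (.node (.node (.node (.leaf (.up 10 2205 [2628] 1299 [57,93,155,171])) (.leaf (.up 12 2202 [2501] 0 [110,123,224]))) (.node (.leaf (.up 10 2799 [2628] 1299 [56,43,107])) (.leaf (.up 14 3619 [2628] 1299 [88,56,89,31])))) (.node (.node (.leaf (.up 14 1492 [2628] 1299 [87,155,16])) (.leaf (.up 12 776 [2628] 1299 [57,94,155,177]))) (.leaf (.up 9 3087 [2628] 1299 [56,89,102])))))))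

noncomputable def trio6_00011 : Tr TStep :=
  .node (.node (.node (.node (.node (.node (.node (.leaf (.up 16 3191 [2628] 1299 [87,123,35])) (.leaf (.up 12 3746 [2501] 0 [57,110,104,237]))) (.node (.leaf (.up 11 3755 [2501] 0 [88,94,91,8])) (.leaf (.up 10 1589 [2628] 1299 [55,155,22])))) (.node (.node (.leaf (.up 14 3213 [2628] 1299 [90,202])) (.leaf (.up 9 1959 [2501] 0 [88,94,127]))) (.node (.leaf (.up 13 2051 [2501] 0 [87,55,90,73])) (.leaf (.up 14 1728 [2628] 1299 [57,110,176,230]))))) (.node (.node (.node (.leaf (.up 8 3709 [2501] 0 [87,55,176,154])) (.leaf (.up 14 1598 [2501] 0 [57,110,104,126]))) (.node (.leaf (.up 14 571 [2628] 1299 [93,91,120])) (.leaf (.up 4 1856 [2628] 1299 [88,55,89,158])))) (.node (.node (.leaf (.up 10 3385 [2501] 0 [87,55,116,222])) (.leaf (.up 9 264 [2628] 1299 [88,56,42,113]))) (.leaf (.up 11 3541 [2501] 0 [87,110,11]))))) (.node (.node (.node (.node (.leaf (.up 10 1253 [2628] 1299 [88,90,102])) (.leaf (.up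 14 1245 [2501] 0 [88,55,116,209]))) (.node (.leaf (.up 14 2382 [2628] 1299 [42,186])) (.leaf (.up 10 1234 [2501] 0 [55,22])))) (.node (.node (.leaf (.up 10 707 [2628] 1299 [88,93,103,149])) (.leaf (.up 11 460 [2628] 1299 [88,110,89,242]))) (.node (.leaf (.up 14 1215 [2501] 0 [57,55,116,21])) (.leaf (.up 11 85 [2628] 1299 [57,110,44,231]))))) (.node (.node (.node (.leaf (.up 11 3399 [2628] 1299 [87,94,103,236])) (.leaf (.up 17 657 [2628] 1299 [94,42,2]))) (.node (.leaf (.up 15 690 [2501] 0 [87,93,89,16])) (.leaf (.up 9 985 [2501] 0 [88,93,237])))) (.node (.node (.leaf (.up 13 1748 [2501] 0 [88,56,91,121])) (.leaf (.up 9 1330 [2628] 1299 [88,93,89,100]))) (.leaf (.up 13 2458 [2628] 1299 [87,93,91,220])))))) (.node (.node (.node (.node (.node (.leaf (.up 16 1417 [2628] 1299 [87,55,42,145])) (.leaf (.up 9 1779 [2501] 0 [87,94,176]))) (.node (.leaf (.up 12 3760 [2628] 1299 [176,4])) (.leaf (.up 11 1520 [2501] 0 [88,55,91,169])))) (.node (.node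 (.leaf (.up 13 2362 [2501] 0 [93,140,141])) (.leaf (.up 14 1260 [2628] 1299 [88,93,42,159]))) (.node (.leaf (.up 13 2523 [2501] 0 [57,55,104,13])) (.leaf (.up 8 226 [2628] 1299 [88,93,116,218]))))) (.node (.node (.node (.leaf (.up 13 1095 [2628] 1299 [87,56,91,239])) (.leaf (.up 13 2357 [2628] 1299 [88,93,140,114]))) (.node (.leaf (.up 14 376 [2501] 0 [57,110,44,36])) (.leaf (.up 15 725 [2501] 0 [57,94,116,129])))) (.node (.node (.leaf (.up 13 2041 [2501] 0 [87,110,123,71])) (.leaf (.up 13 2046 [2628] 1299 [88,93,90,1]))) (.leaf (.up 15 1847 [2501] 0 [57,55,104,175]))))) (.node (.node (.node (.node (.leaf (.up 8 1904 [2501] 0 [57,94,42,183])) (.leaf (.up 13 2243 [2628] 1299 [87,56,116,144]))) (.node (.leaf (.up 12 1206 [2501] 0 [87,56,91,186])) (.leaf (.up 8 3072 [2501] 0 [57,94,155,241])))) (.node (.node (.leaf (.up 9 858 [2628] 1299 [57,94,42,102])) (.leaf (.up 5 2836 [2501] 0 [88,42,171]))) (.leaf (.up 10 196 [2501] 0 [88,56,44,113]))))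 (.node (.node (.node (.leaf (.up 9 147 [2501] 0 [57,110,103,205])) (.leaf (.up 7 144 [2501] 0 [87,55,103,29]))) (.node (.leaf (.up 9 1414 [2501] 0 [57,93,116,180])) (.leaf (.up 9 1861 [2501] 0 [88,90,229])))) (.node (.node (.leaf (.up 9 3112 [2501] 0 [87,93,91,76])) (.leaf (.up 13 3142 [2628] 1299 [88,94,155,146]))) (.leaf (.up 11 1535 [2501] 0 [88,110,123,232]))))))) (.node (.node (.node (.node (.node (.node (.leaf (.up 11 746 [2501] 0 [57,90,193])) (.leaf (.up 12 348 [2628] 1299 [57,55,155,239]))) (.node (.leaf (.up 11 624 [2501] 0 [55,90,144])) (.leaf (.up 7 457 [2501] 0 [57,55,43,149])))) (.node (.node (.leaf (.up 10 2246 [2501] 0 [88,93,116,134])) (.leaf (.up 11 3200 [2501] 0 [56,116,226]))) (.node (.leaf (.up 11 439 [2628] 1299 [93,155,185])) (.leaf (.up 11 3047 [2628] 1299 [88,110,197]))))) (.node (.node (.node (.leaf (.up 14 2679 [2501] 0 [57,56,176,199])) (.leaf (.up 8 1859 [2501] 0 [88,94,42,227]))) (.node (.leaf (.up 14 3594 [2501]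 0 [87,94,91,125])) (.leaf (.up 7 469 [2501] 0 [94,116,180])))) (.node (.node (.leaf (.up 10 1358 [2628] 1299 [57,55,140,114])) (.leaf (.up 11 316 [2628] 1299 [56,44,142]))) (.leaf (.up 11 1759 [2628] 1299 [57,56,176,206]))))) (.node (.node (.node (.node (.leaf (.up 15 589 [2628] 1299 [87,94,155,238])) (.leaf (.up 7 1356 [2501] 0 [87,94,90,242]))) (.node (.leaf (.up 11 20 [2501] 0 [110,176,212])) (.leaf (.up 5 3329 [2501] 0 [87,93,44,132])))) (.node (.node (.leaf (.up 9 6 [2501] 0 [87,93,116,127])) (.leaf (.up 11 1777 [2628] 1299 [87,55,116,161]))) (.node (.leaf (.up 11 32 [2501] 0 [93,89,175])) (.leaf (.up 13 2222 [2501] 0 [57,110,123,18]))))) (.node (.node (.node (.leaf (.up 11 1574 [2501] 0 [57,110,90,101])) (.leaf (.up 8 410 [2628] 1299 [88,110,42,15]))) (.node (.leaf (.up 9 2057 [2501] 0 [88,93,116,162])) (.leaf (.up 5 3525 [2501] 0 [57,110,103,163])))) (.node (.node (.leaf (.up 9 3439 [2628] 1299 [57,55,124])) (.leaf (.up 6 2776 [2501]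 0 [44,161]))) (.leaf (.up 8 2932 [2628] 1299 [88,93,104,25])))))) (.node (.node (.node (.node (.node (.leaf (.up 8 394 [2628] 1299 [88,94,89,20])) (.leaf (.up 12 1720 [2628] 1299 [57,94,166]))) (.node (.leaf (.up 16 1587 [2501] 0 [87,93,43,175])) (.leaf (.up 10 433 [2501] 0 [88,56,140,201])))) (.node (.node (.leaf (.up 12 3627 [2501] 0 [88,94,103,221])) (.leaf (.up 13 670 [2628] 1299 [87,94,91,149]))) (.node (.leaf (.up 15 62 [2501] 0 [88,55,104,169])) (.leaf (.up 14 3082 [2501] 0 [87,93,43,195]))))) (.node (.node (.node (.leaf (.up 13 832 [2501] 0 [88,94,104])) (.leaf (.up 6 1036 [2501] 0 [88,56,90,96]))) (.node (.leaf (.up 15 2511 [2628] 1299 [104,113])) (.leaf (.up 8 793 [2501] 0 [57,94,33])))) (.node (.node (.leaf (.up 6 1819 [2628] 1299 [57,56,116,118])) (.leaf (.up 10 533 [2501] 0 [87,56,103,76]))) (.leaf (.up 15 625 [2628] 1299 [88,55,116,61]))))) (.node (.node (.node (.node (.leaf (.up 13 2281 [2628] 1299 [57,93,140,96])) (.leaf (.up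 13 943 [2501] 0 [57,110,42,31]))) (.node (.leaf (.up 12 1678 [2628] 1299 [88,94,116,20])) (.leaf (.up 10 2584 [2628] 1299 [110,176,128])))) (.node (.node (.leaf (.up 14 2549 [2501] 0 [87,44,141])) (.leaf (.up 9 985 [2628] 1299 [57,140,131]))) (.leaf (.up 14 1624 [2628] 1299 [88,94,104,174])))) (.node (.node (.node (.leaf (.up 9 1745 [2501] 0 [93,140,184])) (.leaf (.up 9 2964 [2501] 0 [94,104,128]))) (.node (.leaf (.up 12 826 [2501] 0 [88,110,104,114])) (.leaf (.up 9 3286 [2501] 0 [88,56,217])))) (.node (.node (.leaf (.up 13 623 [2628] 1299 [87,104,133])) (.leaf (.up 12 1390 [2628] 1299 [55,89,130]))) (.leaf (.up 13 813 [2628] 1299 [87,93,103,139])))))))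

noncomputable def trio6_0001 : Tr TStep := .node trio6_00010 trio6_00011

noncomputable def trio6_000 : Tr TStep := .node trio6_0000 trio6_0001

noncomputable def trio6_00100 : Tr TStep :=
  .node (.node (.node (.node (.node (.node (.node (.leaf (.root 3)) (.leaf (.up 16 2810 [2628] 1299 [56,90,69]))) (.node (.leaf (.up 12 3009 [2628] 1299 [57,91,20])) (.leaf (.up 8 270 [2501] 0 [110,42,137])))) (.node (.node (.leaf (.up 12 2899 [2501] 0 [87,94,155,4])) (.leaf (.up 12 2014 [2501] 0 [87,89,142]))) (.node (.leaf (.up 5 1247 [2628] 1299 [57,55,91,31])) (.leaf (.up 11 2797 [2628] 1299 [57,103,227]))))) (.node (.node (.node (.leaf (.up 8 331 [2628] 1299 [88,116,179])) (.leaf (.up 14 368 [2501] 0 [57,56,103,107]))) (.node (.leaf (.up 8 878 [2501] 0 [57,55,104,25])) (.leaf (.up 6 1291 [2501] 0 [87,91,162])))) (.node (.node (.leaf (.up 7 2224 [2628] 1299 [87,110,205])) (.leaf (.up 7 1603 [2501] 0 [87,93,123,164]))) (.leaf (.up 11 199 [2628] 1299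 [87,155,241]))))) (.node (.node (.node (.node (.leaf (.up 14 3731 [2628] 1299 [87,55,104,210])) (.leaf (.up 8 1867 [2628] 1299 [57,110,140,122]))) (.node (.leaf (.up 11 2218 [2628] 1299 [57,94,104,191])) (.leaf (.up 11 363 [2628] 1299 [87,94,176,127])))) (.node (.node (.leaf (.up 9 886 [2501] 0 [57,55,104,23])) (.leaf (.up 13 2496 [2501] 0 [57,93,42,237]))) (.node (.leaf (.up 10 2123 [2628] 1299 [88,110,42,248])) (.leaf (.up 15 2273 [2501] 0 [93,140,10]))))) (.node (.node (.node (.leaf (.up 14 1591 [2628] 1299 [88,91,11])) (.leaf (.up 13 1639 [2501] 0 [110,91,60]))) (.node (.leaf (.up 11 1115 [2628] 1299 [55,116,189])) (.leaf (.up 10 517 [2501] 0 [88,93,203])))) (.node (.node (.leaf (.up 13 2214 [2501] 0 [93,122])) (.leaf (.up 11 1555 [2501] 0 [110,123,217]))) (.leaf (.up 12 114 [2628] 1299 [57,56,140,156])))))) (.node (.node (.node (.node (.node (.leaf (.up 9 1011 [2628] 1299 [56,89,179])) (.leaf (.up 12 3714 [2501] 0 [104,204]))) (.node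 (.leaf (.up 15 2886 [2501] 0 [88,44,234])) (.leaf (.up 11 176 [2501] 0 [88,56,42,226])))) (.node (.node (.leaf (.up 16 2951 [2628] 1299 [87,55,104,4])) (.leaf (.up 12 1191 [2628] 1299 [87,56,104,107]))) (.node (.leaf (.up 12 2640 [2628] 1299 [57,110,155,225])) (.leaf (.up 13 350 [2501] 0 [87,55,128]))))) (.node (.node (.node (.leaf (.up 10 989 [2501] 0 [88,94,91,197])) (.leaf (.up 7 512 [2628] 1299 [88,93,90,96]))) (.node (.leaf (.up 11 51 [2501] 0 [88,110,103,11])) (.leaf (.up 13 2113 [2501] 0 [57,110,42,201])))) (.node (.node (.leaf (.up 13 22 [2501] 0 [87,93,29])) (.leaf (.up 16 150 [2501] 0 [57,110,116]))) (.leaf (.up 9 3592 [2628] 1299 [88,55,91,37]))))) (.node (.node (.node (.node (.leaf (.up 9 863 [2501] 0 [93,155])) (.leaf (.up 8 1662 [2628] 1299 [88,94,43,154]))) (.node (.leaf (.up 8 3291 [2628] 1299 [110,43,147])) (.leaf (.up 9 3251 [2501] 0 [87,104,207])))) (.node (.node (.leaf (.up 15 1688 [2628] 1299 [87,55,176,105])) (.leaf (.up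 12 2861 [2501] 0 [87,94,155,122]))) (.node (.leaf (.up 13 484 [2628] 1299 [87,143])) (.leaf (.up 9 3296 [2501] 0 [87,93,44,72]))))) (.node (.node (.node (.leaf (.up 10 298 [2501] 0 [88,159])) (.leaf (.up 8 1964 [2501] 0 [57,90,27]))) (.node (.leaf (.up 10 572 [2628] 1299 [87,55,116,124])) (.leaf (.up 9 1845 [2501] 0 [57,94,155,166])))) (.node (.node (.leaf (.up 7 2934 [2501] 0 [90,74])) (.leaf (.up 12 1026 [2501] 0 [57,55,123,99]))) (.leaf (.up 10 384 [2628] 1299 [87,55,155,27]))))))) (.node (.node (.node (.node (.node (.node (.leaf (.up 12 970 [2501] 0 [57,93,102])) (.leaf (.up 12 2872 [2628] 1299 [88,55,176,77]))) (.node (.leaf (.up 9 1431 [2501] 0 [57,110,116,219])) (.leaf (.up 6 1477 [2501] 0 [57,94,123,174])))) (.node (.node (.leaf (.up 8 2932 [2501] 0 [57,56,43,237])) (.leaf (.up 11 117 [2501] 0 [88,110,42,175]))) (.node (.leaf (.up 12 3466 [2501] 0 [55,103,205])) (.leaf (.up 10 2895 [2628] 1299 [57,55,42,198]))))) (.node (.node (.node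 (.leaf (.up 5 3088 [2501] 0 [87,110,155,229])) (.leaf (.up 13 1274 [2628] 1299 [57,94,140,121]))) (.node (.leaf (.up 13 2363 [2501] 0 [57,93,90,189])) (.leaf (.up 12 205 [2501] 0 [88,90,173])))) (.node (.node (.leaf (.up 11 1527 [2628] 1299 [57,93,89,109])) (.leaf (.up 13 2266 [2501] 0 [87,110,89,20]))) (.leaf (.up 9 3067 [2628] 1299 [57,56,124]))))) (.node (.node (.node (.node (.leaf (.up 8 1387 [2501] 0 [57,110,43,92])) (.leaf (.up 12 649 [2501] 0 [87,56,103,132]))) (.node (.leaf (.up 11 2100 [2628] 1299 [110,91,141])) (.leaf (.up 9 3402 [2501] 0 [94,44,134])))) (.node (.node (.leaf (.up 11 543 [2628] 1299 [110,116,246])) (.leaf (.up 14 1260 [2501] 0 [87,56,42,143]))) (.node (.leaf (.up 4 1324 [2501] 0 [94,91,12])) (.leaf (.up 8 3164 [2501] 0 [57,55,123,95]))))) (.node (.node (.node (.leaf (.up 13 3535 [2628] 1299 [87,94,103,125])) (.leaf (.up 14 2929 [2501] 0 [103,183]))) (.node (.leaf (.up 8 1725 [2628] 1299 [87,56,155,211])) (.leaf (.up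 11 2027 [2628] 1299 [56,176,109])))) (.node (.node (.leaf (.up 14 329 [2628] 1299 [56,123,236])) (.leaf (.up 11 3084 [2501] 0 [55,90,75]))) (.leaf (.up 11 1588 [2501] 0 [88,55,89,138])))))) (.node (.node (.node (.node (.node (.leaf (.up 12 2771 [2501] 0 [57,55,140,232])) (.leaf (.up 9 3124 [2501] 0 [110,42,115]))) (.node (.leaf (.up 10 2851 [2628] 1299 [110,118])) (.leaf (.up 9 903 [2628] 1299 [94,90,7])))) (.node (.node (.leaf (.up 10 3586 [2628] 1299 [88,56,44,105])) (.leaf (.up 2 3561 [2628] 1299 [88,56,91,245]))) (.node (.leaf (.up 4 3007 [2501] 0 [87,93,90,5])) (.leaf (.up 8 1237 [2501] 0 [87,91,223]))))) (.node (.node (.node (.leaf (.up 15 388 [2628] 1299 [87,103,10])) (.leaf (.up 12 2465 [2628] 1299 [88,55,176,208]))) (.node (.leaf (.up 11 1787 [2501] 0 [110,103,102])) (.leaf (.up 14 13 [2628] 1299 [87,56,43,184])))) (.node (.node (.leaf (.up 14 3671 [2628] 1299 [87,116,98])) (.leaf (.up 12 2250 [2628] 1299 [56,44,211]))) (.leaf (.up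 14 961 [2628] 1299 [57,110,140,35]))))) (.node (.node (.node (.node (.leaf (.up 7 352 [2501] 0 [57,93,44,141])) (.leaf (.up 2 573 [2501] 0 [87,91,218]))) (.node (.leaf (.up 12 929 [2628] 1299 [88,56,176,245])) (.leaf (.up 8 2373 [2628] 1299 [87,89,223])))) (.node (.node (.leaf (.up 15 2935 [2501] 0 [57,93,140,198])) (.leaf (.up 12 727 [2501] 0 [42,23]))) (.leaf (.up 9 3023 [2628] 1299 [88,93,104,231])))) (.node (.node (.node (.leaf (.up 12 2508 [2628] 1299 [88,55,90,152])) (.leaf (.up 12 2169 [2628] 1299 [55,89,212]))) (.node (.leaf (.up 10 1337 [2628] 1299 [57,55,91,224])) (.leaf (.up 10 163 [2628] 1299 [87,56,176,153])))) (.node (.node (.leaf (.up 4 14 [2501] 0 [88,55,176,121])) (.leaf (.up 13 100 [2628] 1299 [57,93,91,145]))) (.leaf (.up 16 581 [2628] 1299 [87,110,123,20])))))))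

noncomputable def trio6_00101 : Tr TStep :=
  .node (.node (.node (.node (.node (.node (.node (.leaf (.up 10 2090 [2628] 1299 [87,93,123,248])) (.leaf (.up 7 827 [2628] 1299 [87,110,155,229]))) (.node (.leaf (.up 15 1739 [2501] 0 [88,55,91,98])) (.leaf (.up 14 2656 [2501] 0 [87,94,176,243])))) (.node (.node (.leaf (.up 13 3368 [2628] 1299 [87,94,43,217])) (.leaf (.up 8 188 [2628] 1299 [57,176,216]))) (.node (.leaf (.up 15 1428 [2501] 0 [57,103,30])) (.leaf (.up 13 2438 [2628] 1299 [88,93,89,217]))))) (.node (.node (.node (.leaf (.up 2 573 [2628] 1299 [57,176,171])) (.leaf (.up 9 679 [2501] 0 [57,93,155,227]))) (.node (.leaf (.up 5 2816 [2628] 1299 [57,55,42,245])) (.leaf (.up 12 2872 [2501] 0 [94,89,112])))) (.node (.node (.leaf (.up 10 1990 [2628] 1299 [123,208])) (.leaf (.up 4 1507 [2628] 1299 [87,93,89,177]))) (.leaf (.up 16 1364 [2628] 1299 [88,55,116,37]))))) (.node (.node (.node (.node (.leaf (.up 10 3502 [2628] 1299 [57,94,44,71]))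 (.leaf (.up 13 3751 [2628] 1299 [88,55,42,154]))) (.node (.leaf (.up 15 3600 [2501] 0 [57,55,43,207])) (.leaf (.up 14 853 [2628] 1299 [91,208])))) (.node (.node (.leaf (.up 15 2774 [2628] 1299 [57,56,91,97])) (.leaf (.up 9 1989 [2628] 1299 [88,93,44,187]))) (.node (.leaf (.up 12 1927 [2628] 1299 [89,171])) (.leaf (.up 16 3324 [2628] 1299 [87,55,90,22]))))) (.node (.node (.node (.leaf (.up 14 1617 [2628] 1299 [57,55,89,96])) (.leaf (.up 8 331 [2501] 0 [87,55,44,156]))) (.node (.leaf (.up 14 1954 [2501] 0 [87,43,227])) (.leaf (.up 15 1918 [2628] 1299 [87,94,172])))) (.node (.node (.leaf (.up 13 2438 [2501] 0 [55,116,23])) (.leaf (.up 8 1458 [2628] 1299 [87,94,43,134]))) (.leaf (.up 11 774 [2628] 1299 [88,55,42,114])))))) (.node (.node (.node (.node (.node (.leaf (.up 12 1079 [2501] 0 [88,55,44,8])) (.leaf (.up 2 16 [2501] 0 [88,94,90,237]))) (.node (.leaf (.up 15 23 [2501] 0 [56,196])) (.leaf (.up 12 1061 [2628] 1299 [87,110,91,226])))) (.node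 (.node (.leaf (.up 12 2649 [2501] 0 [57,103,215])) (.leaf (.up 14 271 [2628] 1299 [110,104,36]))) (.node (.leaf (.up 11 3638 [2628] 1299 [87,110,44,13])) (.leaf (.up 2 2857 [2628] 1299 [57,93,42,186]))))) (.node (.node (.node (.leaf (.up 15 104 [2628] 1299 [88,93,42,211])) (.leaf (.up 12 2213 [2501] 0 [56,123,172]))) (.node (.leaf (.up 15 1847 [2628] 1299 [57,43,210])) (.leaf (.up 10 3090 [2628] 1299 [87,55,43,33])))) (.node (.node (.leaf (.up 11 1865 [2501] 0 [57,110,90,18])) (.leaf (.up 7 2657 [2501] 0 [87,55,91,220]))) (.leaf (.up 5 3020 [2628] 1299 [88,55,103,13]))))) (.node (.node (.node (.node (.leaf (.up 16 356 [2501] 0 [87,110,42,34])) (.leaf (.up 15 3157 [2628] 1299 [57,93,91,167]))) (.node (.leaf (.up 5 2613 [2501] 0 [87,94,140,107])) (.leaf (.up 15 2127 [2628] 1299 [87,56,103,13])))) (.node (.node (.leaf (.up 15 3303 [2501] 0 [88,93,44,130])) (.leaf (.up 18 1949 [2628] 1299 [57,93,91,144]))) (.leaf (.up 12 3696 [2628] 1299 [88,94,89,232]))))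 (.node (.node (.node (.leaf (.up 11 777 [2501] 0 [88,94,42,226])) (.leaf (.up 5 308 [2628] 1299 [57,55,183]))) (.node (.leaf (.up 13 2978 [2628] 1299 [57,94,89,158])) (.leaf (.up 12 1932 [2501] 0 [56,116,235])))) (.node (.node (.leaf (.up 12 2108 [2628] 1299 [87,55,91,114])) (.leaf (.up 12 1076 [2628] 1299 [87,94,89,12]))) (.leaf (.up 11 850 [2501] 0 [87,103,153]))))))) (.node (.node (.node (.node (.node (.node (.leaf (.up 6 2773 [2628] 1299 [93,104,185])) (.leaf (.up 10 1034 [2501] 0 [93,155,194]))) (.node (.leaf (.up 11 3387 [2501] 0 [88,56,43,242])) (.leaf (.up 8 2235 [2628] 1299 [88,94,91,220])))) (.node (.node (.leaf (.up 10 2123 [2501] 0 [88,56,89,5])) (.leaf (.up 11 2562 [2501] 0 [57,56,89,186]))) (.node (.leaf (.up 10 1852 [2628] 1299 [88,55,44,237])) (.leaf (.up 13 3566 [2501] 0 [88,93,89,145]))))) (.node (.node (.node (.leaf (.up 4 821 [2628] 1299 [91,46])) (.leaf (.up 10 455 [2501] 0 [93,91,197]))) (.node (.leaf (.up 12 1206 [2628]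 1299 [57,93,90,125])) (.leaf (.up 8 715 [2501] 0 [87,93,44,193])))) (.node (.node (.leaf (.up 14 1480 [2501] 0 [88,93,155,65])) (.leaf (.up 4 1324 [2628] 1299 [87,56,104,69]))) (.leaf (.up 15 653 [2628] 1299 [87,103,203]))))) (.node (.node (.node (.node (.leaf (.up 14 3473 [2628] 1299 [94,140,124])) (.leaf (.up 16 1568 [2628] 1299 [93,103,200]))) (.node (.leaf (.up 8 2157 [2501] 0 [57,94,89,245])) (.leaf (.up 16 449 [2628] 1299 [56,89,203])))) (.node (.node (.leaf (.up 16 2652 [2628] 1299 [57,93,91,229])) (.leaf (.up 13 3180 [2501] 0 [87,93,123,15]))) (.node (.leaf (.up 11 2933 [2628] 1299 [57,140,9])) (.leaf (.up 16 392 [2501] 0 [87,56,176]))))) (.node (.node (.node (.leaf (.up 5 1933 [2501] 0 [57,55,140,180])) (.leaf (.up 5 308 [2501] 0 [57,55,104,137]))) (.node (.leaf (.up 10 2148 [2501] 0 [88,56,103,183])) (.leaf (.up 14 371 [2501] 0 [88,93,44,113])))) (.node (.node (.leaf (.up 15 1898 [2628] 1299 [88,93,91,179])) (.leaf (.up 11 3038 [2628]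 1299 [57,94,123,59]))) (.leaf (.up 13 3287 [2628] 1299 [110,44,96])))))) (.node (.node (.node (.node (.node (.leaf (.up 10 3477 [2501] 0 [94,103,178])) (.leaf (.up 12 2908 [2628] 1299 [87,110,103,128]))) (.node (.leaf (.up 8 3070 [2501] 0 [93,90,199])) (.leaf (.up 12 2527 [2501] 0 [57,55,176,202])))) (.node (.node (.leaf (.up 10 2282 [2628] 1299 [87,55,103,115])) (.leaf (.up 9 2717 [2628] 1299 [55,140,127]))) (.node (.leaf (.up 15 3461 [2501] 0 [87,56,155,228])) (.leaf (.up 12 364 [2628] 1299 [88,56,44,23]))))) (.node (.node (.node (.leaf (.up 8 1351 [2628] 1299 [88,110,176,5])) (.leaf (.up 12 1154 [2628] 1299 [87,55,91,221]))) (.node (.leaf (.up 13 1254 [2628] 1299 [87,93,44,3])) (.leaf (.up 11 1707 [2628] 1299 [87,103,96])))) (.node (.node (.leaf (.up 16 3191 [2501] 0 [110,91,124])) (.leaf (.up 7 888 [2501] 0 [87,93,140,209]))) (.leaf (.up 8 2483 [2628] 1299 [88,55,104,108]))))) (.node (.node (.node (.node (.leaf (.up 8 1359 [2628] 1299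 [88,56,155,71])) (.leaf (.up 12 3522 [2501] 0 [57,176,221]))) (.node (.leaf (.up 11 2010 [2501] 0 [88,56,43,215])) (.leaf (.up 13 475 [2501] 0 [87,44,153])))) (.node (.node (.leaf (.up 7 2094 [2628] 1299 [55,140,235])) (.leaf (.up 15 3650 [2628] 1299 [88,94,43,127]))) (.leaf (.up 7 3332 [2628] 1299 [88,91,129])))) (.node (.node (.node (.leaf (.up 8 3117 [2628] 1299 [56,155,101])) (.leaf (.up 11 1559 [2501] 0 [110,116,144]))) (.node (.leaf (.up 10 1633 [2501] 0 [88,93,91,196])) (.leaf (.up 8 3617 [2501] 0 [88,110,42,0])))) (.node (.node (.leaf (.up 6 3513 [2501] 0 [56,176,203])) (.leaf (.up 15 2737 [2501] 0 [87,93,91,25]))) (.leaf (.up 11 588 [2628] 1299 [93,90,29])))))))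

noncomputable def trio6_0010 : Tr TStep := .node trio6_00100 trio6_00101

noncomputable def trio6_00110 : Tr TStep :=
  .node (.node (.node (.node (.node (.node (.node (.leaf (.up 12 221 [2628] 1299 [87,93,89,244])) (.leaf (.up 9 904 [2501] 0 [88,42,212]))) (.node (.leaf (.up 5 243 [2501] 0 [88,56,43,33])) (.leaf (.up 10 2432 [2501] 0 [57,89,141])))) (.node (.node (.leaf (.up 12 553 [2628] 1299 [88,42,175])) (.leaf (.up 10 2383 [2501] 0 [57,55,155,198]))) (.node (.leaf (.up 4 3004 [2501] 0 [110,104,200])) (.leaf (.up 14 1728 [2501] 0 [87,89,127]))))) (.node (.node (.node (.leaf (.up 13 889 [2501] 0 [87,94,103,188])) (.leaf (.up 9 2705 [2628] 1299 [87,93,103,130]))) (.node (.leaf (.up 4 2089 [2501] 0 [88,93,140,227])) (.leaf (.up 10 384 [2501] 0 [110,91,232])))) (.node (.node (.leaf (.up 9 2346 [2628] 1299 [57,110,90,189])) (.leaf (.up 8 2320 [2628] 1299 [87,123,96]))) (.leaf (.up 13 3609 [2628] 1299 [94,44,192]))))) (.node (.node (.node (.node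 (.leaf (.up 12 3598 [2501] 0 [87,110,44,21])) (.leaf (.up 14 3604 [2501] 0 [57,56,90,221]))) (.node (.leaf (.up 13 2335 [2501] 0 [110,44,169])) (.leaf (.up 11 762 [2628] 1299 [93,42,162])))) (.node (.node (.leaf (.up 9 1811 [2501] 0 [57,55,140,225])) (.leaf (.up 9 1284 [2628] 1299 [87,155,156]))) (.node (.leaf (.up 10 2443 [2501] 0 [56,91,0])) (.leaf (.up 13 2179 [2501] 0 [88,94,176,74]))))) (.node (.node (.node (.leaf (.up 13 2673 [2501] 0 [57,55,211])) (.leaf (.up 8 1514 [2501] 0 [88,94,91,152]))) (.node (.leaf (.up 8 2268 [2628] 1299 [88,56,103,156])) (.leaf (.up 3 67 [2501] 0 [88,94,44,121])))) (.node (.node (.leaf (.up 13 90 [2501] 0 [57,93,104,151])) (.leaf (.up 11 2356 [2628] 1299 [57,93,42,235]))) (.leaf (.up 11 1605 [2501] 0 [57,55,159])))))) (.node (.node (.node (.node (.node (.leaf (.up 7 2595 [2501] 0 [88,93,116,162])) (.leaf (.up 15 2255 [2628] 1299 [56,104,232]))) (.node (.leaf (.up 11 2135 [2501] 0 [87,55,103,212])) (.leaf (.up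 14 1081 [2628] 1299 [57,123,69])))) (.node (.node (.leaf (.up 10 3339 [2501] 0 [87,56,104,31])) (.leaf (.up 14 2025 [2501] 0 [87,91,178]))) (.node (.leaf (.up 10 3641 [2501] 0 [57,91,76])) (.leaf (.up 12 1623 [2628] 1299 [87,91,197]))))) (.node (.node (.node (.leaf (.up 14 1035 [2628] 1299 [57,93,202])) (.leaf (.up 11 560 [2501] 0 [57,110,43,150]))) (.node (.leaf (.up 6 1706 [2501] 0 [57,55,104,33])) (.leaf (.up 7 3021 [2501] 0 [87,93,155,209])))) (.node (.node (.leaf (.up 7 2323 [2501] 0 [103,230])) (.leaf (.up 10 291 [2628] 1299 [87,56,15]))) (.leaf (.up 13 1440 [2628] 1299 [57,56,89,98]))))) (.node (.node (.node (.node (.leaf (.up 12 2770 [2501] 0 [88,55,42,29])) (.leaf (.up 5 1644 [2501] 0 [88,43,134]))) (.node (.leaf (.up 9 1583 [2501] 0 [87,94,140,145])) (.leaf (.up 6 860 [2628] 1299 [88,110,123,76])))) (.node (.node (.leaf (.up 10 1358 [2501] 0 [57,94,104,185])) (.leaf (.up 16 1029 [2501] 0 [87,93,174]))) (.node (.leaf (.up 13 219 [2628]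 1299 [110,103,119])) (.leaf (.up 8 3628 [2628] 1299 [57,55,123,11]))))) (.node (.node (.node (.leaf (.up 10 2862 [2501] 0 [88,110,89,8])) (.leaf (.up 11 279 [2501] 0 [87,93,103,0]))) (.node (.leaf (.up 13 3193 [2501] 0 [57,55,91,156])) (.leaf (.up 9 3380 [2501] 0 [56,103,247])))) (.node (.node (.leaf (.up 7 3378 [2628] 1299 [57,27])) (.leaf (.up 4 3468 [2628] 1299 [57,93,235]))) (.leaf (.up 10 177 [2501] 0 [94,234]))))))) (.node (.node (.node (.node (.node (.node (.leaf (.up 11 1547 [2501] 0 [57,44,156])) (.leaf (.up 11 2733 [2628] 1299 [57,56,43,150]))) (.node (.leaf (.up 1 1 [2628] 1299 [57,56,140,114])) (.leaf (.up 13 524 [2501] 0 [57,42,161])))) (.node (.node (.leaf (.up 12 3523 [2501] 0 [87,56,176,172])) (.leaf (.up 11 1494 [2501] 0 [93,176,133]))) (.node (.leaf (.up 11 1616 [2501] 0 [87,42,139])) (.leaf (.up 7 2617 [2628] 1299 [87,110,123,107]))))) (.node (.node (.node (.leaf (.up 13 2198 [2501] 0 [57,56,42,244])) (.leaf (.up 12 779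 [2628] 1299 [88,93,116,208]))) (.node (.leaf (.up 3 2132 [2628] 1299 [88,55,104,76])) (.leaf (.up 10 318 [2628] 1299 [88,56,176,238])))) (.node (.node (.leaf (.up 11 588 [2501] 0 [87,97])) (.leaf (.up 6 1819 [2501] 0 [88,55,123,69]))) (.leaf (.up 13 110 [2628] 1299 [57,93,91,74]))))) (.node (.node (.node (.node (.leaf (.up 12 193 [2628] 1299 [87,123,149])) (.leaf (.up 12 3673 [2628] 1299 [57,55,42,130]))) (.node (.leaf (.up 13 864 [2628] 1299 [87,55,44,15])) (.leaf (.up 14 2885 [2628] 1299 [57,140,220])))) (.node (.node (.leaf (.up 12 849 [2501] 0 [88,55,155,202])) (.leaf (.up 8 1089 [2628] 1299 [57,55,91]))) (.node (.leaf (.up 10 2693 [2501] 0 [87,94,43,153])) (.leaf (.up 11 283 [2501] 0 [94,103,215]))))) (.node (.node (.node (.leaf (.up 8 1458 [2501] 0 [88,93,0])) (.leaf (.up 8 2419 [2628] 1299 [103,182]))) (.node (.leaf (.up 12 538 [2628] 1299 [110,89,0])) (.leaf (.up 7 2706 [2501] 0 [88,94,176,165])))) (.node (.node (.leaf (.up 14 3101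 [2501] 0 [57,110,43,144])) (.leaf (.up 10 2425 [2628] 1299 [88,55,116,239]))) (.leaf (.up 7 2421 [2628] 1299 [88,56,89,151])))))) (.node (.node (.node (.node (.node (.leaf (.up 10 1729 [2501] 0 [87,91,136])) (.leaf (.up 13 3133 [2501] 0 [57,110,126]))) (.node (.leaf (.up 13 1361 [2628] 1299 [88,110,44,142])) (.leaf (.up 12 1329 [2501] 0 [57,93,91,183])))) (.node (.node (.leaf (.up 11 3568 [2501] 0 [87,91,163])) (.leaf (.up 11 59 [2628] 1299 [93,43,23]))) (.node (.leaf (.up 4 2912 [2501] 0 [57,93,104,158])) (.leaf (.up 12 1816 [2628] 1299 [88,93,90,98]))))) (.node (.node (.node (.leaf (.up 11 1851 [2628] 1299 [57,55,43,158])) (.leaf (.up 9 1609 [2628] 1299 [88,44,171]))) (.node (.leaf (.up 9 1120 [2628] 1299 [88,56,155,201])) (.leaf (.up 13 3700 [2501] 0 [57,110,42,239])))) (.node (.node (.leaf (.up 11 3587 [2628] 1299 [88,94,91,37])) (.leaf (.up 11 1137 [2628] 1299 [57,110,44,130]))) (.leaf (.up 7 951 [2628] 1299 [57,110,91,179]))))) (.node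 (.node (.node (.node (.leaf (.up 12 2751 [2501] 0 [94,176,157])) (.leaf (.up 13 2940 [2628] 1299 [57,160]))) (.node (.leaf (.up 13 2824 [2628] 1299 [87,90,234])) (.leaf (.up 2 773 [2501] 0 [88,94,91,138])))) (.node (.node (.leaf (.up 13 3189 [2501] 0 [87,94,104,75])) (.leaf (.up 13 2178 [2628] 1299 [110,104,172]))) (.leaf (.up 11 1759 [2501] 0 [87,55,104,172])))) (.node (.node (.node (.leaf (.up 8 715 [2628] 1299 [88,55,91,247])) (.leaf (.up 5 869 [2501] 0 [87,91,12]))) (.node (.leaf (.up 8 1032 [2501] 0 [88,93,176,35])) (.leaf (.up 15 669 [2501] 0 [94,89,201])))) (.node (.node (.leaf (.up 3 2033 [2501] 0 [57,56,90,152])) (.leaf (.up 11 1668 [2628] 1299 [87,56,146]))) (.leaf (.up 7 2207 [2501] 0 [87,56,90,235])))))))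

noncomputable def trio6_00111 : Tr TStep :=
  .node (.node (.node (.node (.node (.node (.node (.leaf (.up 9 1914 [2501] 0 [55,34])) (.leaf (.up 11 2047 [2628] 1299 [57,55,123,0]))) (.node (.leaf (.up 13 3702 [2501] 0 [57,55,90,141])) (.leaf (.up 12 3526 [2628] 1299 [87,93,91,192])))) (.node (.node (.leaf (.up 14 1409 [2628] 1299 [57,93,176,71])) (.leaf (.up 16 855 [2501] 0 [88,93,116,129]))) (.node (.leaf (.up 3 3308 [2628] 1299 [91,202])) (.leaf (.up 13 902 [2501] 0 [87,56,116,107]))))) (.node (.node (.node (.leaf (.up 11 1622 [2501] 0 [88,140,218])) (.leaf (.up 5 3088 [2628] 1299 [57,44,60]))) (.node (.leaf (.up 13 2474 [2501] 0 [55,90,233])) (.leaf (.up 12 1407 [2501] 0 [87,94,123,115])))) (.node (.node (.leaf (.up 12 154 [2501] 0 [88,94,103,238])) (.leaf (.up 10 2324 [2628] 1299 [57,93,176,18]))) (.leaf (.up 11 74 [2501] 0 [87,176,228]))))) (.node (.node (.node (.node (.leaf (.up 9 3179 [2501] 0 [87,93,104,30])) (.leaf (.up 8 246 [2628]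 1299 [94,43,226]))) (.node (.leaf (.up 9 2447 [2501] 0 [94,140,133])) (.leaf (.up 12 1891 [2628] 1299 [110,89,122])))) (.node (.node (.leaf (.up 11 3491 [2501] 0 [87,94,123,115])) (.leaf (.up 12 3097 [2501] 0 [88,140,225]))) (.node (.leaf (.up 9 1169 [2628] 1299 [87,55,42,118])) (.leaf (.up 11 2448 [2628] 1299 [87,55,104,98]))))) (.node (.node (.node (.leaf (.up 11 3708 [2501] 0 [57,94,155,170])) (.leaf (.up 12 1208 [2628] 1299 [87,94,90,175]))) (.node (.leaf (.up 5 2495 [2628] 1299 [88,56,140,190])) (.leaf (.up 10 2412 [2501] 0 [87,94,89,157])))) (.node (.node (.leaf (.up 10 2365 [2628] 1299 [57,55,43,59])) (.leaf (.up 13 419 [2628] 1299 [57,93,44,209]))) (.leaf (.up 14 3669 [2501] 0 [93,43,132])))))) (.node (.node (.node (.node (.node (.leaf (.up 14 1830 [2628] 1299 [110,44,11])) (.leaf (.up 9 2398 [2501] 0 [87,55,43,21]))) (.node (.leaf (.up 9 216 [2501] 0 [57,93,42,131])) (.leaf (.up 7 1415 [2628] 1299 [57,90,34])))) (.node (.node (.leaf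 (.up 9 3286 [2628] 1299 [57,56,103,234])) (.leaf (.up 15 3508 [2628] 1299 [87,55,43,15]))) (.node (.leaf (.up 12 2380 [2501] 0 [57,110,43,209])) (.leaf (.up 14 1084 [2501] 0 [88,55,42,184]))))) (.node (.node (.node (.leaf (.up 11 1476 [2501] 0 [87,110,42,190])) (.leaf (.up 13 1645 [2501] 0 [93,155,190]))) (.node (.leaf (.up 11 1612 [2501] 0 [88,93,104,243])) (.leaf (.up 9 775 [2501] 0 [88,94,43,153])))) (.node (.node (.leaf (.up 5 983 [2628] 1299 [87,56,44,185])) (.leaf (.up 11 3491 [2628] 1299 [94,123,8]))) (.leaf (.up 13 2038 [2501] 0 [88,110,43,117]))))) (.node (.node (.node (.node (.leaf (.up 15 873 [2501] 0 [88,55,155,12])) (.leaf (.up 7 1302 [2501] 0 [88,94,104,211]))) (.node (.leaf (.up 14 1513 [2501] 0 [87,110,203])) (.leaf (.up 12 1350 [2628] 1299 [57,93,90,153])))) (.node (.node (.leaf (.up 9 737 [2628] 1299 [88,55,91,143])) (.leaf (.up 9 1126 [2501] 0 [57,110,116,136]))) (.leaf (.up 10 1915 [2628] 1299 [88,110,104,174])))) (.node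 (.node (.node (.leaf (.up 10 2479 [2501] 0 [87,56,123,146])) (.leaf (.up 13 3774 [2501] 0 [57,93,176,21]))) (.node (.leaf (.up 10 2093 [2628] 1299 [57,140,175])) (.leaf (.up 8 1606 [2501] 0 [57,55,176,30])))) (.node (.node (.leaf (.up 7 3237 [2628] 1299 [55,91,238])) (.leaf (.up 16 2462 [2628] 1299 [93,140,105]))) (.leaf (.up 12 956 [2501] 0 [87,110,175]))))))) (.node (.node (.node (.node (.node (.node (.leaf (.up 9 2146 [2628] 1299 [88,94,116,11])) (.leaf (.up 11 1977 [2501] 0 [93,103,131]))) (.node (.leaf (.up 13 1437 [2628] 1299 [87,140,232])) (.leaf (.up 15 973 [2501] 0 [57,56,116,207])))) (.node (.node (.leaf (.up 9 1420 [2501] 0 [57,110,103,96])) (.leaf (.up 12 3533 [2628] 1299 [87,55,103,100]))) (.node (.leaf (.up 15 2911 [2501] 0 [56,43,223])) (.leaf (.up 15 535 [2628] 1299 [87,56,91,212]))))) (.node (.node (.node (.leaf (.up 10 55 [2501] 0 [88,110,155,1])) (.leaf (.up 12 3740 [2501] 0 [88,104,190]))) (.node (.leaf (.up 6 3165 [2501]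 0 [55,104,195])) (.leaf (.up 6 3408 [2628] 1299 [87,110,116,31])))) (.node (.node (.leaf (.up 13 1664 [2501] 0 [93,155,226])) (.leaf (.up 11 3753 [2628] 1299 [87,110,140,36]))) (.leaf (.up 9 651 [2501] 0 [88,110,91,95]))))) (.node (.node (.node (.node (.leaf (.up 7 2832 [2628] 1299 [88,55,176,248])) (.leaf (.up 12 3485 [2501] 0 [57,110,89,167]))) (.node (.leaf (.up 13 2957 [2501] 0 [88,55,42,131])) (.leaf (.up 9 426 [2501] 0 [88,55,44,243])))) (.node (.node (.leaf (.up 14 423 [2628] 1299 [57,56,103,197])) (.leaf (.up 7 3735 [2501] 0 [57,55,140,227]))) (.node (.leaf (.up 11 881 [2501] 0 [57,110,91,159])) (.leaf (.up 13 1749 [2501] 0 [88,94,176,131]))))) (.node (.node (.node (.leaf (.up 9 858 [2501] 0 [57,110,103,3])) (.leaf (.up 9 2422 [2628] 1299 [88,110,44,101]))) (.node (.leaf (.up 15 2417 [2501] 0 [88,110,103,165])) (.leaf (.up 13 2178 [2501] 0 [88,94,140,137])))) (.node (.node (.leaf (.up 11 26 [2501] 0 [57,89,220])) (.leaf (.up 3 3270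 [2501] 0 [87,116,164]))) (.leaf (.up 13 18 [2628] 1299 [110,176,223])))))) (.node (.node (.node (.node (.node (.leaf (.up 7 2464 [2628] 1299 [87,110,103,139])) (.leaf (.up 9 548 [2628] 1299 [88,56,44,192]))) (.node (.leaf (.up 15 1398 [2628] 1299 [94,176,220])) (.leaf (.up 11 2216 [2628] 1299 [57,93,116,230])))) (.node (.node (.leaf (.up 12 2966 [2628] 1299 [88,110,89,183])) (.leaf (.up 9 2201 [2628] 1299 [93,104,125]))) (.node (.leaf (.up 12 3080 [2628] 1299 [57,94,43,11])) (.leaf (.up 10 1962 [2628] 1299 [110,89,205]))))) (.node (.node (.node (.leaf (.up 13 1271 [2501] 0 [93,123,197])) (.leaf (.up 15 3453 [2628] 1299 [88,56,123,120]))) (.node (.leaf (.up 14 470 [2628] 1299 [88,55,155,239])) (.leaf (.up 12 3261 [2628] 1299 [56,90,30])))) (.node (.node (.leaf (.up 4 1813 [2501] 0 [88,56,42,100])) (.leaf (.up 12 3630 [2628] 1299 [87,56,89,195]))) (.leaf (.up 12 2585 [2628] 1299 [88,56,176,238]))))) (.node (.node (.node (.node (.leaf (.up 9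 1955 [2628] 1299 [94,127])) (.leaf (.up 10 2093 [2501] 0 [42,124]))) (.node (.leaf (.up 7 2063 [2628] 1299 [57,103,35])) (.leaf (.up 15 2724 [2628] 1299 [88,93,140,157])))) (.node (.node (.leaf (.up 11 612 [2501] 0 [87,56,91,175])) (.leaf (.up 12 3421 [2501] 0 [57,155,152]))) (.leaf (.up 5 928 [2628] 1299 [110,103,7])))) (.node (.node (.node (.leaf (.up 10 29 [2501] 0 [44,105])) (.leaf (.up 14 1239 [2628] 1299 [57,56,89,21]))) (.node (.leaf (.up 8 2194 [2628] 1299 [88,93,155,148])) (.leaf (.up 9 2500 [2501] 0 [88,55,104,65])))) (.node (.node (.leaf (.up 13 1911 [2501] 0 [88,110,43,120])) (.leaf (.up 8 1780 [2628] 1299 [87,56,89,169]))) (.leaf (.up 14 2117 [2501] 0 [88,55,90,8])))))))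

noncomputable def trio6_0011 : Tr TStep := .node trio6_00110 trio6_00111

noncomputable def trio6_001 : Tr TStep := .node trio6_0010 trio6_0011

noncomputable def trio6_00 : Tr TStep := .node trio6_000 trio6_001

noncomputable def trio6_01000 : Tr TStep :=
  .node (.node (.node (.node (.node (.node (.node (.leaf (.root 2)) (.leaf (.up 5 1551 [2628] 1299 [57,93,42,238]))) (.node (.leaf (.up 11 2938 [2628] 1299 [57,56,91,150])) (.leaf (.up 9 2481 [2501] 0 [93,91,190])))) (.node (.node (.leaf (.up 4 1497 [2501] 0 [93,216])) (.leaf (.up 10 2058 [2628] 1299 [55,155,20]))) (.node (.leaf (.up 7 3095 [2501] 0 [87,56,176,166])) (.leaf (.up 9 1882 [2628] 1299 [57,123,171]))))) (.node (.node (.node (.leaf (.up 9 2211 [2628] 1299 [110,42,5])) (.leaf (.up 7 333 [2628] 1299 [88,56,90,162]))) (.node (.leaf (.up 16 1483 [2628] 1299 [55,140,149])) (.leaf (.up 11 3606 [2501] 0 [87,155,6])))) (.node (.node (.leaf (.up 15 1857 [2628] 1299 [87,94,103,198])) (.leaf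 (.up 10 1589 [2501] 0 [57,110,116,178]))) (.leaf (.up 13 413 [2501] 0 [155,73]))))) (.node (.node (.node (.node (.leaf (.up 16 1744 [2628] 1299 [87,42,126])) (.leaf (.up 12 3632 [2628] 1299 [87,56,43,113]))) (.node (.leaf (.up 11 1183 [2628] 1299 [88,93,104,153])) (.leaf (.up 11 2814 [2628] 1299 [87,110,123,234])))) (.node (.node (.leaf (.up 12 721 [2628] 1299 [57,55,123,202])) (.leaf (.up 12 1816 [2501] 0 [57,55,43,100]))) (.node (.leaf (.up 8 3743 [2628] 1299 [56,103,72])) (.leaf (.up 11 447 [2628] 1299 [88,93,155,216]))))) (.node (.node (.node (.leaf (.up 11 2542 [2628] 1299 [88,155,120])) (.leaf (.up 5 2070 [2628] 1299 [56,103,227]))) (.node (.leaf (.up 9 2444 [2501] 0 [87,110,42,12])) (.leaf (.up 11 509 [2628] 1299 [88,94,155,180])))) (.node (.node (.leaf (.up 13 1374 [2628] 1299 [87,93,44,211])) (.leaf (.up 8 1159 [2501] 0 [57,56,91,120]))) (.leaf (.up 9 2554 [2628] 1299 [110,91,4])))))) (.node (.node (.node (.node (.node (.leaf (.up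 7 1698 [2501] 0 [87,110,171])) (.leaf (.up 9 244 [2628] 1299 [87,55,91,198]))) (.node (.leaf (.up 14 3418 [2628] 1299 [88,94,155,171])) (.leaf (.up 5 2469 [2501] 0 [87,55,91,16])))) (.node (.node (.leaf (.up 13 766 [2628] 1299 [56,43,145])) (.leaf (.up 6 1305 [2501] 0 [110,140,74]))) (.node (.leaf (.up 5 2816 [2501] 0 [110,176,108])) (.leaf (.up 14 2030 [2628] 1299 [57,93,42,92]))))) (.node (.node (.node (.leaf (.up 13 977 [2628] 1299 [110,155,76])) (.leaf (.up 13 1142 [2628] 1299 [57,56,104,7]))) (.node (.leaf (.up 12 2294 [2501] 0 [57,94,90,95])) (.leaf (.up 13 2348 [2628] 1299 [57,56,103,166])))) (.node (.node (.leaf (.up 15 1773 [2501] 0 [57,89,172])) (.leaf (.up 10 2684 [2501] 0 [110,123,187]))) (.leaf (.up 14 2396 [2628] 1299 [88,44,175]))))) (.node (.node (.node (.node (.leaf (.up 12 2966 [2501] 0 [88,93,140,118])) (.leaf (.up 8 2373 [2501] 0 [57,56,90,139]))) (.node (.leaf (.up 11 148 [2501] 0 [87,94,42,74])) (.leaf (.up 14 168 [2501]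 0 [56,42,240])))) (.node (.node (.leaf (.up 15 1328 [2501] 0 [87,110,176,117])) (.leaf (.up 13 613 [2628] 1299 [57,55,44,197]))) (.node (.leaf (.up 9 1224 [2628] 1299 [87,90,130])) (.leaf (.up 11 1367 [2501] 0 [57,93,43,21]))))) (.node (.node (.node (.leaf (.up 8 1538 [2501] 0 [57,110,8])) (.leaf (.up 16 834 [2628] 1299 [57,110,43,71]))) (.node (.leaf (.up 12 1848 [2628] 1299 [93,123,143])) (.leaf (.up 11 2793 [2628] 1299 [87,56,176,208])))) (.node (.node (.leaf (.up 13 15 [2501] 0 [87,93,42,101])) (.leaf (.up 11 1087 [2628] 1299 [88,56,42,247]))) (.leaf (.up 9 1360 [2501] 0 [87,110,43,160]))))))) (.node (.node (.node (.node (.node (.node (.leaf (.up 7 2934 [2628] 1299 [87,94,176,183])) (.leaf (.up 9 1224 [2501] 0 [87,56,104,77]))) (.node (.leaf (.up 3 2660 [2628] 1299 [88,110,155,130])) (.leaf (.up 9 3089 [2501] 0 [43,100])))) (.node (.node (.leaf (.up 8 2920 [2628] 1299 [57,93,116,33])) (.leaf (.up 12 127 [2501] 0 [93,42,220]))) (.node (.leaf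 (.up 5 514 [2501] 0 [88,55,42,247])) (.leaf (.up 9 1444 [2628] 1299 [57,93,43,37]))))) (.node (.node (.node (.leaf (.up 14 2888 [2501] 0 [88,110,43,171])) (.leaf (.up 12 3323 [2501] 0 [88,155,202]))) (.node (.leaf (.up 10 1566 [2501] 0 [87,104,59])) (.leaf (.up 9 1982 [2628] 1299 [88,56,90,247])))) (.node (.node (.leaf (.up 9 993 [2501] 0 [57,110,123,0])) (.leaf (.up 16 675 [2501] 0 [110,103,75]))) (.leaf (.up 10 2922 [2628] 1299 [88,55,89,61]))))) (.node (.node (.node (.node (.leaf (.up 9 1204 [2628] 1299 [87,56,176,167])) (.leaf (.up 8 2749 [2501] 0 [57,56,104,204]))) (.node (.leaf (.up 11 363 [2501] 0 [87,93,155,167])) (.leaf (.up 12 3531 [2501] 0 [55,103,222])))) (.node (.node (.leaf (.up 12 2604 [2628] 1299 [88,55,44,193])) (.leaf (.up 12 3779 [2501] 0 [57,55,61]))) (.node (.leaf (.up 6 2332 [2501] 0 [87,93,91,145])) (.leaf (.up 11 1197 [2501] 0 [57,94,104,187]))))) (.node (.node (.node (.leaf (.up 8 1679 [2501] 0 [93,123,235])) (.leaf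 (.up 12 364 [2501] 0 [57,110,103,95]))) (.node (.leaf (.up 8 1809 [2628] 1299 [87,55,151])) (.leaf (.up 13 1911 [2628] 1299 [110,176,118])))) (.node (.node (.leaf (.up 9 2344 [2628] 1299 [88,55,90,151])) (.leaf (.up 12 1950 [2501] 0 [57,55,176,221]))) (.leaf (.up 13 1317 [2628] 1299 [87,55,104,73])))))) (.node (.node (.node (.node (.node (.leaf (.up 16 2336 [2501] 0 [56,90,96])) (.leaf (.up 8 124 [2501] 0 [57,110,104,9]))) (.node (.leaf (.up 13 198 [2501] 0 [56,91,146])) (.leaf (.up 10 3362 [2501] 0 [94,176,216])))) (.node (.node (.leaf (.up 15 536 [2628] 1299 [87,110,44,96])) (.leaf (.up 14 2639 [2501] 0 [57,43,147]))) (.node (.leaf (.up 2 327 [2628] 1299 [88,94,155,177])) (.leaf (.up 14 1957 [2501] 0 [57,55,155,134]))))) (.node (.node (.node (.leaf (.up 8 1571 [2501] 0 [87,55,90,27])) (.leaf (.up 12 1412 [2501] 0 [93,72]))) (.node (.leaf (.up 14 2350 [2628] 1299 [88,94,42,102])) (.leaf (.up 14 2927 [2501] 0 [88,93,225])))) (.node (.node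 (.leaf (.up 11 3279 [2501] 0 [110,90,136])) (.leaf (.up 9 3079 [2628] 1299 [57,93,140,170]))) (.leaf (.up 15 17 [2628] 1299 [57,55,155,99]))))) (.node (.node (.node (.node (.leaf (.up 7 1340 [2628] 1299 [57,110,90,6])) (.leaf (.up 11 3272 [2628] 1299 [57,110,155,9]))) (.node (.leaf (.up 11 116 [2628] 1299 [88,55,155,226])) (.leaf (.up 11 2321 [2628] 1299 [88,93,123,228])))) (.node (.node (.leaf (.up 12 81 [2628] 1299 [88,56,104,162])) (.leaf (.up 13 1518 [2628] 1299 [88,94,116,230]))) (.leaf (.up 12 1111 [2501] 0 [56,140,113])))) (.node (.node (.node (.leaf (.up 11 3720 [2501] 0 [88,110,104,6])) (.leaf (.up 13 47 [2501] 0 [110,103,127]))) (.node (.leaf (.up 10 339 [2501] 0 [88,56,123,97])) (.leaf (.up 9 705 [2628] 1299 [87,94,140,135])))) (.node (.node (.leaf (.up 13 3692 [2628] 1299 [56,91,240])) (.leaf (.up 14 592 [2628] 1299 [88,55,116,97]))) (.leaf (.up 16 1960 [2628] 1299 [56,116,171])))))))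

noncomputable def trio6_01001 : Tr TStep :=
  .node (.node (.node (.node (.node (.node (.node (.leaf (.up 12 1133 [2628] 1299 [88,56,155,114])) (.leaf (.up 11 640 [2501] 0 [88,123,31]))) (.node (.leaf (.up 8 3794 [2501] 0 [88,93,91,180])) (.leaf (.up 9 1849 [2501] 0 [88,56,155,73])))) (.node (.node (.leaf (.up 13 2364 [2501] 0 [87,110,116,219])) (.leaf (.up 14 3116 [2628] 1299 [110,89,221]))) (.node (.leaf (.up 16 3730 [2628] 1299 [88,94,42,188])) (.leaf (.up 8 3025 [2628] 1299 [104,159]))))) (.node (.node (.node (.leaf (.up 11 3200 [2628] 1299 [88,94,90,168])) (.leaf (.up 12 3440 [2501] 0 [94,42,1]))) (.node (.leaf (.up 7 2249 [2628] 1299 [56,103,156])) (.leaf (.up 13 957 [2501] 0 [88,110,140,132])))) (.node (.node (.leaf (.up 4 1831 [2628] 1299 [57,56,155,35])) (.leaf (.up 11 1824 [2628] 1299 [88,93,42,234]))) (.leaf (.up 9 713 [2501] 0 [57,110,44,219]))))) (.node (.node (.node (.node (.leaf (.up 15 682 [2628] 1299 [88,116,0])) (.leaf (.up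 7 3077 [2501] 0 [57,94,89,18]))) (.node (.leaf (.up 12 2298 [2628] 1299 [55,123,95])) (.leaf (.up 11 693 [2628] 1299 [88,110,101])))) (.node (.node (.leaf (.up 16 1652 [2628] 1299 [57,44,216])) (.leaf (.up 6 2821 [2628] 1299 [57,55,91,2]))) (.node (.leaf (.up 11 1399 [2628] 1299 [94,123,5])) (.leaf (.up 15 180 [2501] 0 [88,94,104,201]))))) (.node (.node (.node (.leaf (.up 11 716 [2628] 1299 [87,93,89,163])) (.leaf (.up 14 630 [2501] 0 [103,160]))) (.node (.leaf (.up 4 1438 [2501] 0 [43,98])) (.leaf (.up 4 406 [2628] 1299 [110,91,229])))) (.node (.node (.leaf (.up 13 1475 [2501] 0 [88,56,43,148])) (.leaf (.up 9 1675 [2501] 0 [57,90,122]))) (.leaf (.up 13 3643 [2628] 1299 [88,43,69])))))) (.node (.node (.node (.node (.node (.leaf (.up 14 2196 [2628] 1299 [55,116,220])) (.leaf (.up 6 3138 [2501] 0 [57,56,89,161]))) (.node (.leaf (.up 12 553 [2501] 0 [87,94,91,111])) (.leaf (.up 13 1738 [2501] 0 [88,94,123,77])))) (.node (.node (.leaf (.up 15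 2738 [2628] 1299 [93,44,138])) (.leaf (.up 10 2172 [2628] 1299 [88,93,104,219]))) (.node (.leaf (.up 14 1149 [2501] 0 [87,123,238])) (.leaf (.up 12 2945 [2628] 1299 [57,56,116,183]))))) (.node (.node (.node (.leaf (.up 15 3042 [2501] 0 [88,94,91,121])) (.leaf (.up 13 3540 [2628] 1299 [87,110,75]))) (.node (.leaf (.up 13 799 [2501] 0 [87,93,176,12])) (.leaf (.up 11 2389 [2628] 1299 [87,55,176,247])))) (.node (.node (.leaf (.up 10 3209 [2628] 1299 [88,110,43,168])) (.leaf (.up 15 3600 [2628] 1299 [87,110,42,105]))) (.leaf (.up 16 2234 [2501] 0 [94,165]))))) (.node (.node (.node (.node (.leaf (.up 10 1464 [2628] 1299 [87,94,43,74])) (.leaf (.up 9 2732 [2628] 1299 [87,110,123,182]))) (.node (.leaf (.up 9 1002 [2628] 1299 [56,103,210])) (.leaf (.up 12 680 [2501] 0 [88,55,103,30])))) (.node (.node (.leaf (.up 12 2787 [2501] 0 [87,93,116,198])) (.leaf (.up 11 2637 [2501] 0 [110,89,130]))) (.node (.leaf (.up 11 96 [2628] 1299 [57,110,20])) (.leaf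 (.up 7 695 [2628] 1299 [56,103,233]))))) (.node (.node (.node (.leaf (.up 11 2848 [2501] 0 [88,42,132])) (.leaf (.up 15 742 [2501] 0 [91,142]))) (.node (.leaf (.up 10 258 [2501] 0 [87,93,176,157])) (.leaf (.up 7 2154 [2628] 1299 [57,56,123,240])))) (.node (.node (.leaf (.up 13 3609 [2501] 0 [93,104,178])) (.leaf (.up 11 1166 [2501] 0 [88,110,42,150]))) (.leaf (.up 12 3275 [2501] 0 [87,129]))))))) (.node (.node (.node (.node (.node (.node (.leaf (.up 11 317 [2628] 1299 [57,110,116,34])) (.leaf (.up 12 3640 [2501] 0 [93,42,101]))) (.node (.leaf (.up 9 2201 [2501] 0 [87,55,140,61])) (.leaf (.up 15 2917 [2628] 1299 [57,110,43,98])))) (.node (.node (.leaf (.up 8 1299 [2501] 0 [87,55,42,130])) (.leaf (.up 7 1827 [2628] 1299 [94,103,177]))) (.node (.leaf (.up 12 915 [2628] 1299 [87,90,112])) (.leaf (.up 8 483 [2628] 1299 [57,55,91,225]))))) (.node (.node (.node (.leaf (.up 16 3357 [2628] 1299 [87,94,176,162])) (.leaf (.up 11 2471 [2628] 1299 [87,110,44,222])))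 (.node (.leaf (.up 8 1800 [2501] 0 [88,55,123,135])) (.leaf (.up 6 493 [2501] 0 [87,104,215])))) (.node (.node (.leaf (.up 13 2628 [2501] 0 [87,56,104,197])) (.leaf (.up 4 3243 [2501] 0 [87,56,43,6]))) (.leaf (.up 10 2858 [2501] 0 [87,94,42,196]))))) (.node (.node (.node (.node (.leaf (.up 5 1426 [2628] 1299 [57,123,147])) (.leaf (.up 11 2654 [2628] 1299 [88,94,91,166]))) (.node (.leaf (.up 11 2654 [2501] 0 [88,89,154])) (.leaf (.up 12 44 [2501] 0 [57,56,116,122])))) (.node (.node (.leaf (.up 14 1217 [2628] 1299 [57,55,116,158])) (.leaf (.up 14 3129 [2628] 1299 [94,176,101]))) (.node (.leaf (.up 11 3269 [2501] 0 [110,123,238])) (.leaf (.up 13 750 [2628] 1299 [88,93,44,183]))))) (.node (.node (.node (.leaf (.up 14 3105 [2628] 1299 [88,110,42,245])) (.leaf (.up 4 406 [2501] 0 [87,55,90,185]))) (.node (.leaf (.up 7 3758 [2501] 0 [88,93,104,102])) (.leaf (.up 15 536 [2501] 0 [57,110,89,160])))) (.node (.node (.leaf (.up 14 1830 [2501] 0 [57,103,166]))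 (.leaf (.up 11 1110 [2501] 0 [88,94,155,150]))) (.leaf (.up 8 1064 [2628] 1299 [88,93,140,18])))))) (.node (.node (.node (.node (.node (.leaf (.up 11 749 [2501] 0 [88,94,90,234])) (.leaf (.up 12 3178 [2501] 0 [178]))) (.node (.leaf (.up 5 3474 [2501] 0 [57,55,140,173])) (.leaf (.up 10 1828 [2501] 0 [88,43,247])))) (.node (.node (.leaf (.up 6 2571 [2501] 0 [55,91,167])) (.leaf (.up 7 2925 [2628] 1299 [93,90,106]))) (.node (.leaf (.up 8 483 [2501] 0 [56,123,154])) (.leaf (.up 15 1505 [2501] 0 [56,123,207]))))) (.node (.node (.node (.leaf (.up 16 3564 [2628] 1299 [57,94,120])) (.leaf (.up 9 976 [2628] 1299 [88,56,42,191]))) (.node (.leaf (.up 15 1661 [2501] 0 [57,110,103,11])) (.leaf (.up 11 545 [2628] 1299 [87,155,215])))) (.node (.node (.leaf (.up 13 3462 [2501] 0 [88,93,123,247])) (.leaf (.up 14 1495 [2628] 1299 [57,94,116,170]))) (.leaf (.up 15 3608 [2501] 0 [87,55,123,77]))))) (.node (.node (.node (.node (.leaf (.up 10 3174 [2501] 0 [55,176,98]))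 (.leaf (.up 11 2779 [2628] 1299 [57,93,103,33]))) (.node (.leaf (.up 11 850 [2628] 1299 [88,56,44,65])) (.leaf (.up 3 2033 [2628] 1299 [93,44,31])))) (.node (.node (.leaf (.up 6 3138 [2628] 1299 [87,110,91,169])) (.leaf (.up 11 3340 [2501] 0 [87,56,91,153]))) (.leaf (.up 11 3058 [2628] 1299 [110,90,246])))) (.node (.node (.node (.leaf (.up 10 2552 [2501] 0 [93,91,1])) (.leaf (.up 9 2759 [2501] 0 [89,34]))) (.node (.leaf (.up 14 2433 [2501] 0 [87,56,43,136])) (.leaf (.up 9 3549 [2501] 0 [87,110,203])))) (.node (.node (.leaf (.up 14 978 [2501] 0 [88,110,44,230])) (.leaf (.up 10 2780 [2501] 0 [93,104,232]))) (.leaf (.up 14 3594 [2628] 1299 [57,94,43,238])))))))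

noncomputable def trio6_0100 : Tr TStep := .node trio6_01000 trio6_01001

noncomputable def trio6_01010 : Tr TStep :=
  .node (.node (.node (.node (.node (.node (.node (.leaf (.up 14 3391 [2501] 0 [87,110,123,205])) (.leaf (.up 9 372 [2501] 0 [87,110,116,236]))) (.node (.leaf (.up 9 359 [2501] 0 [88,93,155,11])) (.leaf (.up 13 567 [2501] 0 [88,56,103,173])))) (.node (.node (.leaf (.up 16 1205 [2628] 1299 [94,104,132])) (.leaf (.up 13 2017 [2501] 0 [87,56,44,198]))) (.node (.leaf (.up 9 1955 [2501] 0 [57,55,91,37])) (.leaf (.up 13 2408 [2501] 0 [87,55,104,218]))))) (.node (.node (.node (.leaf (.up 9 1952 [2628] 1299 [57,94,42,106])) (.leaf (.up 14 1740 [2501] 0 [87,94,103,11]))) (.node (.leaf (.up 9 2146 [2501] 0 [57,93,44,241])) (.leaf (.up 14 1760 [2501] 0 [88,56,90,69])))) (.node (.node (.leaf (.up 10 3385 [2628] 1299 [88,89,211])) (.leaf (.up 13 656 [2501] 0 [57,55,44,178]))) (.leaf (.up 11 366 [2628] 1299 [55,104,126]))))) (.node (.node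 (.node (.node (.leaf (.up 11 1454 [2628] 1299 [55,103,217])) (.leaf (.up 10 1801 [2501] 0 [88,93,42,207]))) (.node (.leaf (.up 11 3701 [2628] 1299 [110,123,13])) (.leaf (.up 10 1388 [2628] 1299 [57,94,104,179])))) (.node (.node (.leaf (.up 8 1646 [2501] 0 [87,94,91,168])) (.leaf (.up 16 1499 [2628] 1299 [94,44,244]))) (.node (.leaf (.up 10 252 [2628] 1299 [87,56,43,77])) (.leaf (.up 7 277 [2501] 0 [87,94,143]))))) (.node (.node (.node (.leaf (.up 7 325 [2501] 0 [57,110,43,226])) (.leaf (.up 14 2600 [2501] 0 [94,123,95]))) (.node (.leaf (.up 11 568 [2628] 1299 [87,93,176,189])) (.leaf (.up 11 954 [2628] 1299 [88,43,159])))) (.node (.node (.leaf (.up 10 3613 [2501] 0 [57,93,104,177])) (.leaf (.up 12 3496 [2501] 0 [55,104,124]))) (.leaf (.up 10 29 [2628] 1299 [43,177])))))) (.node (.node (.node (.node (.node (.leaf (.up 10 728 [2501] 0 [57,9])) (.leaf (.up 9 1434 [2628] 1299 [57,56,69]))) (.node (.leaf (.up 14 2786 [2628] 1299 [218])) (.leaf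 (.up 9 3207 [2501] 0 [57,94,116,195])))) (.node (.node (.leaf (.up 14 89 [2628] 1299 [87,55,115])) (.leaf (.up 10 3498 [2501] 0 [88,55,89,157]))) (.node (.leaf (.up 9 1516 [2501] 0 [57,94,89,172])) (.leaf (.up 12 618 [2628] 1299 [87,110,90,125]))))) (.node (.node (.node (.leaf (.up 9 2242 [2501] 0 [88,55,44,214])) (.leaf (.up 13 516 [2628] 1299 [57,55,103,168]))) (.node (.leaf (.up 14 1980 [2501] 0 [87,93,146])) (.leaf (.up 8 1964 [2628] 1299 [87,89,164])))) (.node (.node (.leaf (.up 14 1052 [2628] 1299 [93,42,239])) (.leaf (.up 10 389 [2628] 1299 [87,44,126]))) (.leaf (.up 11 1967 [2501] 0 [57,55,43,11]))))) (.node (.node (.node (.node (.leaf (.up 14 2396 [2501] 0 [87,56,140,98])) (.leaf (.up 11 242 [2501] 0 [57,93,91,169]))) (.node (.leaf (.up 6 263 [2628] 1299 [88,55,155,35])) (.leaf (.up 12 2640 [2501] 0 [87,55,103,101])))) (.node (.node (.leaf (.up 10 807 [2628] 1299 [57,110,91,237])) (.leaf (.up 15 3382 [2628] 1299 [110,116,124]))) (.node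 (.leaf (.up 12 255 [2628] 1299 [93,91,112])) (.leaf (.up 10 2727 [2628] 1299 [87,55,44,72]))))) (.node (.node (.node (.leaf (.up 9 2937 [2501] 0 [88,94,157])) (.leaf (.up 15 3715 [2501] 0 [88,94,176,9]))) (.node (.leaf (.up 12 1510 [2501] 0 [57,94,198])) (.leaf (.up 1 9 [2628] 1299 [57,93,43,174])))) (.node (.node (.leaf (.up 11 1668 [2501] 0 [57,110,104,206])) (.leaf (.up 12 1418 [2628] 1299 [88,55,103,3]))) (.leaf (.up 14 2999 [2501] 0 [87,56,91,164]))))))) (.node (.node (.node (.node (.node (.node (.leaf (.up 6 1570 [2628] 1299 [55,176,31])) (.leaf (.up 9 2622 [2501] 0 [110,43,159]))) (.node (.leaf (.up 7 2085 [2628] 1299 [57,90,11])) (.leaf (.up 12 3457 [2501] 0 [57,56,1])))) (.node (.node (.leaf (.up 11 2729 [2501] 0 [110,44,75])) (.leaf (.up 12 2861 [2628] 1299 [94,42,157]))) (.node (.leaf (.up 14 2606 [2501] 0 [88,94,103,147])) (.leaf (.up 14 1625 [2628] 1299 [56,103,196]))))) (.node (.node (.node (.leaf (.up 9 424 [2628] 1299 [110,44,35]))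 (.leaf (.up 8 464 [2501] 0 [87,93,117]))) (.node (.leaf (.up 13 3505 [2628] 1299 [56,44,201])) (.leaf (.up 11 3224 [2501] 0 [87,90,169])))) (.node (.node (.leaf (.up 13 1421 [2628] 1299 [55,91,146])) (.leaf (.up 9 1694 [2501] 0 [87,93,123,229]))) (.leaf (.up 11 3620 [2501] 0 [88,55,103,136]))))) (.node (.node (.node (.node (.leaf (.up 15 895 [2501] 0 [88,110,91,150])) (.leaf (.up 10 2090 [2501] 0 [88,196]))) (.node (.leaf (.up 11 564 [2628] 1299 [87,110,214])) (.leaf (.up 9 2376 [2501] 0 [88,94,103,23])))) (.node (.node (.leaf (.up 14 2056 [2501] 0 [89,171])) (.leaf (.up 14 2615 [2501] 0 [87,56,176,224]))) (.node (.leaf (.up 5 1292 [2628] 1299 [119])) (.leaf (.up 12 1623 [2501] 0 [87,89,154]))))) (.node (.node (.node (.leaf (.up 8 2952 [2501] 0 [88,56,44,194])) (.leaf (.up 12 2553 [2628] 1299 [87,94,91,156]))) (.node (.leaf (.up 10 1337 [2501] 0 [57,94,1])) (.leaf (.up 9 2901 [2628] 1299 [56,43,186])))) (.node (.node (.leaf (.up 13 2231 [2628]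 1299 [88,91,18])) (.leaf (.up 12 676 [2628] 1299 [88,94,116,235]))) (.leaf (.up 9 3087 [2501] 0 [87,56,43,138])))))) (.node (.node (.node (.node (.node (.leaf (.up 7 801 [2628] 1299 [87,56,42,30])) (.leaf (.up 6 436 [2628] 1299 [57,94,89,10]))) (.node (.leaf (.up 9 3757 [2628] 1299 [57,93,140,189])) (.leaf (.up 11 1357 [2628] 1299 [87,110,44,73])))) (.node (.node (.leaf (.up 11 431 [2628] 1299 [57,93,126])) (.leaf (.up 8 387 [2628] 1299 [110,95]))) (.node (.leaf (.up 14 3785 [2628] 1299 [57,110,176,180])) (.leaf (.up 8 3766 [2628] 1299 [57,110,36]))))) (.node (.node (.node (.leaf (.up 7 3735 [2628] 1299 [87,94,123,195])) (.leaf (.up 12 609 [2628] 1299 [87,93,90,207]))) (.node (.leaf (.up 8 2320 [2501] 0 [88,56,155,35])) (.leaf (.up 15 185 [2628] 1299 [87,103,112])))) (.node (.node (.leaf (.up 15 390 [2628] 1299 [57,94,44,75])) (.leaf (.up 9 2475 [2501] 0 [89,16]))) (.leaf (.up 14 1248 [2628] 1299 [87,110,123,220]))))) (.node (.node (.node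 (.node (.leaf (.up 12 2138 [2501] 0 [88,56,44,196])) (.leaf (.up 9 562 [2628] 1299 [56,176,138]))) (.node (.leaf (.up 10 930 [2628] 1299 [57,110,91,20])) (.leaf (.up 14 532 [2501] 0 [88,91,29])))) (.node (.node (.leaf (.up 10 3641 [2628] 1299 [94,44,121])) (.leaf (.up 12 1250 [2501] 0 [93,155,139]))) (.leaf (.up 15 2351 [2628] 1299 [87,56,91,178])))) (.node (.node (.node (.leaf (.up 11 2761 [2628] 1299 [87,110,155,22])) (.leaf (.up 13 2609 [2501] 0 [57,56,44,191]))) (.node (.leaf (.up 7 3656 [2628] 1299 [87,110,89,171])) (.leaf (.up 11 3677 [2501] 0 [57,94,155,247])))) (.node (.node (.leaf (.up 8 2743 [2628] 1299 [88,56,42,192])) (.leaf (.up 7 2626 [2501] 0 [88,91,35]))) (.leaf (.up 9 1414 [2628] 1299 [87,55,89,149])))))))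

noncomputable def trio6_01011 : Tr TStep :=
  .node (.node (.node (.node (.node (.node (.node (.leaf (.up 10 2060 [2628] 1299 [94,42,134])) (.leaf (.up 13 596 [2628] 1299 [57,155,112]))) (.node (.leaf (.up 2 641 [2501] 0 [57,123,161])) (.leaf (.up 8 3511 [2628] 1299 [88,103,221])))) (.node (.node (.leaf (.up 11 369 [2501] 0 [57,94,176,22])) (.leaf (.up 9 3549 [2628] 1299 [87,55,43,119]))) (.node (.leaf (.up 11 3460 [2501] 0 [57,55,90,222])) (.leaf (.up 11 2471 [2501] 0 [123,31]))))) (.node (.node (.node (.leaf (.up 9 1989 [2501] 0 [94,43,36])) (.leaf (.up 7 974 [2501] 0 [55,116,129]))) (.node (.leaf (.up 11 1527 [2501] 0 [57,56,123,7])) (.leaf (.up 11 3073 [2501] 0 [88,56,140,120])))) (.node (.node (.leaf (.up 9 679 [2628] 1299 [88,176,233])) (.leaf (.up 12 1963 [2501] 0 [87,91,205]))) (.leaf (.up 9 2736 [2628] 1299 [57,93,123,8]))))) (.node (.node (.node (.node (.leaf (.up 11 3153 [2628] 1299 [88,55,42,208])) (.leaf (.up 11 1242 [2628] 1299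 [57,94,123,195]))) (.node (.leaf (.up 10 162 [2628] 1299 [87,55,43,100])) (.leaf (.up 4 328 [2628] 1299 [87,91])))) (.node (.node (.leaf (.up 16 3278 [2628] 1299 [116,124])) (.leaf (.up 14 3280 [2501] 0 [87,110,43,34]))) (.node (.leaf (.up 11 1885 [2501] 0 [57,42,187])) (.leaf (.up 12 3381 [2628] 1299 [57,56,162]))))) (.node (.node (.node (.leaf (.up 7 272 [2628] 1299 [94,44,208])) (.leaf (.up 12 1997 [2501] 0 [110,90,71]))) (.node (.leaf (.up 8 1686 [2628] 1299 [87,110,104,117])) (.leaf (.up 14 1376 [2628] 1299 [110,33])))) (.node (.node (.leaf (.up 13 3299 [2628] 1299 [88,93,103,158])) (.leaf (.up 17 98 [2628] 1299 [87,155,108]))) (.leaf (.up 6 3256 [2628] 1299 [57,55,103,9])))))) (.node (.node (.node (.node (.node (.leaf (.up 12 314 [2501] 0 [57,56,235])) (.leaf (.up 11 3773 [2628] 1299 [55,176,145]))) (.node (.leaf (.up 6 3512 [2628] 1299 [87,110,43,128])) (.leaf (.up 16 1102 [2628] 1299 [57,56,140,145])))) (.node (.node (.leaf (.up 15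 1368 [2628] 1299 [88,94,89,130])) (.leaf (.up 10 2172 [2501] 0 [88,91,149]))) (.node (.leaf (.up 9 542 [2628] 1299 [57,55,104,100])) (.leaf (.up 11 1687 [2628] 1299 [87,93,42,225]))))) (.node (.node (.node (.leaf (.up 11 2102 [2628] 1299 [56,155,194])) (.leaf (.up 13 3225 [2628] 1299 [57,94,104,139]))) (.node (.leaf (.up 11 1526 [2501] 0 [87,94,104,191])) (.leaf (.up 13 2541 [2628] 1299 [87,44,224])))) (.node (.node (.leaf (.up 8 2902 [2628] 1299 [94,123,245])) (.leaf (.up 7 2657 [2628] 1299 [56,43,247]))) (.leaf (.up 8 505 [2501] 0 [87,155,243]))))) (.node (.node (.node (.node (.leaf (.up 15 1736 [2628] 1299 [87,94,90,185])) (.leaf (.up 12 1714 [2628] 1299 [87,55,89,200]))) (.node (.leaf (.up 10 2103 [2628] 1299 [88,94,89,20])) (.leaf (.up 13 2985 [2628] 1299 [57,55,43,128])))) (.node (.node (.leaf (.up 10 2503 [2628] 1299 [57,93,155,65])) (.leaf (.up 10 2808 [2501] 0 [56,42,139]))) (.leaf (.up 8 3403 [2628] 1299 [91,196])))) (.node (.node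 (.node (.leaf (.up 12 50 [2501] 0 [55,103,122])) (.leaf (.up 10 2361 [2628] 1299 [56,91,192]))) (.node (.leaf (.up 11 2763 [2501] 0 [110,123,109])) (.leaf (.up 12 214 [2628] 1299 [57,56,123,126])))) (.node (.node (.leaf (.up 6 2434 [2628] 1299 [88,93,140,205])) (.leaf (.up 13 3045 [2628] 1299 [87,155,214]))) (.leaf (.up 10 2708 [2501] 0 [87,56,176,130]))))))) (.node (.node (.node (.node (.node (.node (.leaf (.up 14 1053 [2628] 1299 [94,140,120])) (.leaf (.up 10 2060 [2501] 0 [87,110,247]))) (.node (.leaf (.up 12 1062 [2628] 1299 [57,56,116,170])) (.leaf (.up 7 3021 [2628] 1299 [56,123,18])))) (.node (.node (.leaf (.up 8 575 [2501] 0 [55,42,209])) (.leaf (.up 9 471 [2501] 0 [88,93,89,237]))) (.node (.leaf (.up 12 1320 [2501] 0 [87,94,104,228])) (.leaf (.up 13 3761 [2628] 1299 [87,93,103,187]))))) (.node (.node (.node (.leaf (.up 11 1128 [2628] 1299 [57,55,43,194])) (.leaf (.up 12 1202 [2628] 1299 [55,89,156]))) (.node (.leaf (.up 9 3748 [2501]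 0 [88,94,44,125])) (.leaf (.up 11 3711 [2501] 0 [87,123,61])))) (.node (.node (.leaf (.up 11 1473 [2628] 1299 [57,55,44,223])) (.leaf (.up 13 1105 [2628] 1299 [57,55,91,242]))) (.leaf (.up 14 3342 [2628] 1299 [88,56,91,229]))))) (.node (.node (.node (.node (.leaf (.up 11 1723 [2628] 1299 [94,155,8])) (.leaf (.up 15 3367 [2628] 1299 [87,55,140,162]))) (.node (.leaf (.up 13 2359 [2628] 1299 [87,55,43,22])) (.leaf (.up 13 2493 [2628] 1299 [57,110,89,119])))) (.node (.node (.leaf (.up 10 2190 [2628] 1299 [88,110,103,204])) (.leaf (.up 12 401 [2628] 1299 [88,93,91,76]))) (.node (.leaf (.up 9 1970 [2628] 1299 [87,104,36])) (.leaf (.up 14 2156 [2628] 1299 [110,140,4]))))) (.node (.node (.node (.leaf (.up 12 2815 [2628] 1299 [57,110,138])) (.leaf (.up 7 1259 [2501] 0 [87,91,92]))) (.node (.leaf (.up 12 1670 [2628] 1299 [57,55,140,36])) (.leaf (.up 9 1791 [2501] 0 [88,103,153])))) (.node (.node (.leaf (.up 10 780 [2501] 0 [57,93,103,236])) (.leaf (.up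 12 2502 [2501] 0 [93,104,71]))) (.leaf (.up 9 2242 [2628] 1299 [87,56,89,246])))))) (.node (.node (.node (.node (.node (.leaf (.up 7 3551 [2501] 0 [88,94,90,219])) (.leaf (.up 9 1970 [2501] 0 [88,93,5]))) (.node (.leaf (.up 11 1118 [2628] 1299 [88,110,91,207])) (.leaf (.up 10 1536 [2501] 0 [87,110,176,159])))) (.node (.node (.leaf (.up 11 2778 [2501] 0 [57,93,104,152])) (.leaf (.up 12 3489 [2501] 0 [56,89,35]))) (.node (.leaf (.up 12 1724 [2501] 0 [87,93,116,238])) (.leaf (.up 9 1011 [2501] 0 [87,93,43,213]))))) (.node (.node (.node (.leaf (.up 12 3309 [2628] 1299 [87,91,151])) (.leaf (.up 7 52 [2501] 0 [57,55,42,181]))) (.node (.leaf (.up 10 1180 [2501] 0 [57,55,116,198])) (.leaf (.up 13 3660 [2501] 0 [88,56,89,205])))) (.node (.node (.leaf (.up 12 1863 [2501] 0 [87,55,104,96])) (.leaf (.up 10 2768 [2628] 1299 [110,155,31]))) (.leaf (.up 8 772 [2501] 0 [57,56,143]))))) (.node (.node (.node (.node (.leaf (.up 9 2823 [2628] 1299 [57,55,140,10]))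 (.leaf (.up 11 96 [2501] 0 [88,94,42,4]))) (.node (.leaf (.up 12 1160 [2501] 0 [7])) (.leaf (.up 13 3104 [2501] 0 [57,55,104,204])))) (.node (.node (.leaf (.up 10 3447 [2628] 1299 [57,110,155,143])) (.leaf (.up 15 1948 [2501] 0 [88,55,104,105]))) (.leaf (.up 12 1306 [2628] 1299 [88,55,103,7])))) (.node (.node (.node (.leaf (.up 14 3697 [2628] 1299 [57,55,123,95])) (.leaf (.up 8 2028 [2501] 0 [87,55,155]))) (.node (.leaf (.up 13 1586 [2501] 0 [87,55,43,74])) (.leaf (.up 10 2492 [2628] 1299 [93,123,130])))) (.node (.node (.leaf (.up 9 1444 [2501] 0 [88,55,89,100])) (.leaf (.up 14 3391 [2628] 1299 [87,56,245]))) (.leaf (.up 10 3524 [2501] 0 [88,55,155,13])))))))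

noncomputable def trio6_0101 : Tr TStep := .node trio6_01010 trio6_01011

noncomputable def trio6_010 : Tr TStep := .node trio6_0100 trio6_0101

noncomputable def trio6_01100 : Tr TStep :=
  .node (.node (.node (.node (.node (.node (.node (.leaf (.up 8 1057 [2501] 0 [110,176,168])) (.leaf (.up 11 1059 [2501] 0 [87,93,43,193]))) (.node (.leaf (.up 10 2208 [2501] 0 [88,56,135])) (.leaf (.up 5 2710 [2501] 0 [87,42,16])))) (.node (.node (.leaf (.up 15 2442 [2628] 1299 [57,94,90,227])) (.leaf (.up 15 1263 [2501] 0 [57,93,90,10]))) (.node (.leaf (.up 13 217 [2628] 1299 [94,155,29])) (.leaf (.up 10 3780 [2628] 1299 [57,93,155]))))) (.node (.node (.node (.leaf (.up 13 219 [2501] 0 [88,93,176,30])) (.leaf (.up 15 589 [2501] 0 [87,55,44,13]))) (.node (.leaf (.up 10 1467 [2501] 0 [57,56,140,75])) (.leaf (.up 8 2248 [2628] 1299 [57,56,91,20])))) (.node (.node (.leaf (.up 10 2618 [2501] 0 [57,110,89,73])) (.leaf (.up 12 941 [2501] 0 [87,55,140,12])))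 (.leaf (.up 14 963 [2628] 1299 [87,93,123,241]))))) (.node (.node (.node (.node (.leaf (.up 7 2130 [2628] 1299 [176,231])) (.leaf (.up 8 3794 [2628] 1299 [57,103,194]))) (.node (.leaf (.up 7 480 [2501] 0 [93,42,172])) (.leaf (.up 11 2650 [2501] 0 [87,110,123,113])))) (.node (.node (.leaf (.up 10 1854 [2628] 1299 [87,110,42,60])) (.leaf (.up 10 2829 [2628] 1299 [88,55,155,106]))) (.node (.leaf (.up 11 1752 [2628] 1299 [57,110,103,8])) (.leaf (.up 11 1490 [2501] 0 [87,110,42,234]))))) (.node (.node (.node (.leaf (.up 14 3322 [2628] 1299 [140,73])) (.leaf (.up 12 95 [2501] 0 [57,94,155,108]))) (.node (.leaf (.up 8 1780 [2501] 0 [57,94,89,216])) (.leaf (.up 12 2712 [2628] 1299 [56,90,20])))) (.node (.node (.leaf (.up 12 1716 [2628] 1299 [87,135])) (.leaf (.up 12 2750 [2501] 0 [88,93,104,166]))) (.leaf (.up 9 2587 [2501] 0 [93,44,34])))))) (.node (.node (.node (.node (.node (.leaf (.up 13 2021 [2628] 1299 [56,43,10])) (.leaf (.up 13 2822 [2628]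 1299 [93,103,210]))) (.node (.leaf (.up 11 1524 [2501] 0 [87,89,216])) (.leaf (.up 12 2633 [2628] 1299 [110,42,20])))) (.node (.node (.leaf (.up 14 2656 [2628] 1299 [88,110,43,231])) (.leaf (.up 12 3125 [2628] 1299 [88,56,140,98]))) (.node (.leaf (.up 7 626 [2628] 1299 [87,110,91,21])) (.leaf (.up 14 3542 [2501] 0 [57,93,176,239]))))) (.node (.node (.node (.leaf (.up 10 3713 [2501] 0 [57,55,42,184])) (.leaf (.up 10 1177 [2501] 0 [55,89,6]))) (.node (.leaf (.up 11 3136 [2501] 0 [57,110,43,206])) (.leaf (.up 10 2799 [2501] 0 [88,93,44,213])))) (.node (.node (.leaf (.up 2 327 [2501] 0 [57,55,89,167])) (.leaf (.up 14 2441 [2501] 0 [87,93,155,194]))) (.leaf (.up 11 2401 [2628] 1299 [94,123,98]))))) (.node (.node (.node (.node (.leaf (.up 12 998 [2501] 0 [88,44,168])) (.leaf (.up 9 1516 [2628] 1299 [110,44,92]))) (.node (.leaf (.up 10 1338 [2628] 1299 [93,104,211])) (.leaf (.up 2 1068 [2628] 1299 [57,56,176,228])))) (.node (.node (.leaf (.up 10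 1695 [2501] 0 [55,185])) (.leaf (.up 11 749 [2628] 1299 [87,123,210]))) (.node (.leaf (.up 11 2865 [2501] 0 [94,123,128])) (.leaf (.up 13 2359 [2501] 0 [87,94,43,193]))))) (.node (.node (.node (.leaf (.up 9 967 [2501] 0 [94,91,2])) (.leaf (.up 11 1167 [2628] 1299 [57,55,175]))) (.node (.leaf (.up 8 448 [2628] 1299 [87,103,165])) (.leaf (.up 11 3265 [2628] 1299 [57,91,151])))) (.node (.node (.leaf (.up 10 2279 [2501] 0 [93,103,243])) (.leaf (.up 14 2864 [2628] 1299 [88,55,89,182]))) (.leaf (.up 9 720 [2628] 1299 [87,103,162]))))))) (.node (.node (.node (.node (.node (.node (.leaf (.up 9 481 [2501] 0 [88,56,43,206])) (.leaf (.up 13 623 [2501] 0 [87,110,89,231]))) (.node (.leaf (.up 11 835 [2501] 0 [57,56,90,133])) (.leaf (.up 11 2155 [2501] 0 [55,155,152])))) (.node (.node (.leaf (.up 10 2381 [2628] 1299 [87,55,43,197])) (.leaf (.up 9 3098 [2628] 1299 [87,104,196]))) (.node (.leaf (.up 10 2767 [2501] 0 [57,55,44,59])) (.leaf (.up 10 3135 [2501]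 0 [87,103,97]))))) (.node (.node (.node (.leaf (.up 9 1959 [2628] 1299 [88,56,176,208])) (.leaf (.up 10 489 [2501] 0 [87,94,90,9]))) (.node (.leaf (.up 5 1903 [2628] 1299 [88,94,90,117])) (.leaf (.up 10 1610 [2628] 1299 [110,103,236])))) (.node (.node (.leaf (.up 16 2124 [2628] 1299 [87,44,30])) (.leaf (.up 9 3690 [2628] 1299 [88,110,183]))) (.leaf (.up 13 1573 [2628] 1299 [42,33]))))) (.node (.node (.node (.node (.leaf (.up 13 1647 [2501] 0 [57,56,42,161])) (.leaf (.up 12 1608 [2628] 1299 [88,110,104,214]))) (.node (.leaf (.up 13 1085 [2501] 0 [88,55,104,99])) (.leaf (.up 12 3485 [2628] 1299 [87,55,90,177])))) (.node (.node (.leaf (.up 10 1810 [2628] 1299 [93,91,99])) (.leaf (.up 16 1209 [2501] 0 [88,56,44,133]))) (.node (.leaf (.up 14 3121 [2501] 0 [87,116,221])) (.leaf (.up 10 3174 [2628] 1299 [57,91,191]))))) (.node (.node (.node (.leaf (.up 15 2507 [2628] 1299 [88,110,44,206])) (.leaf (.up 12 1447 [2628] 1299 [57,110,176,97]))) (.node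 (.leaf (.up 10 3173 [2501] 0 [56,44,129])) (.leaf (.up 14 990 [2501] 0 [224])))) (.node (.node (.leaf (.up 10 3679 [2628] 1299 [57,94,44,143])) (.leaf (.up 11 2526 [2628] 1299 [87,93,176,222]))) (.leaf (.up 12 1862 [2628] 1299 [110,123,194])))))) (.node (.node (.node (.node (.node (.leaf (.up 14 2086 [2628] 1299 [89,211])) (.leaf (.up 13 3505 [2501] 0 [87,110,91,75]))) (.node (.leaf (.up 8 1277 [2628] 1299 [88,56,103,96])) (.leaf (.up 9 496 [2628] 1299 [88,55,104,101])))) (.node (.node (.leaf (.up 11 1935 [2501] 0 [87,55,44,77])) (.leaf (.up 13 2002 [2628] 1299 [87,93,90,21]))) (.node (.leaf (.up 9 3098 [2501] 0 [103,239])) (.leaf (.up 12 2274 [2501] 0 [57,93,90,160]))))) (.node (.node (.node (.leaf (.up 13 816 [2501] 0 [87,94,90,15])) (.leaf (.up 7 1012 [2501] 0 [87,116,203]))) (.node (.leaf (.up 7 1340 [2501] 0 [87,56,155,117])) (.leaf (.up 14 2449 [2628] 1299 [87,55,176,214])))) (.node (.node (.leaf (.up 13 1349 [2501] 0 [88,56,155,61]))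 (.leaf (.up 7 296 [2501] 0 [88,93,42,12]))) (.leaf (.up 13 1628 [2628] 1299 [104,125]))))) (.node (.node (.node (.node (.leaf (.up 13 3045 [2501] 0 [110,89,145])) (.leaf (.up 8 49 [2501] 0 [88,94,42,234]))) (.node (.leaf (.up 12 1048 [2501] 0 [123,2])) (.leaf (.up 12 349 [2501] 0 [88,55,104,109])))) (.node (.node (.leaf (.up 14 3032 [2501] 0 [87,56,44,214])) (.leaf (.up 14 978 [2628] 1299 [88,140,226]))) (.leaf (.up 15 1776 [2501] 0 [88,55,43,206])))) (.node (.node (.node (.leaf (.up 14 2040 [2501] 0 [57,94,103,15])) (.leaf (.up 16 3347 [2628] 1299 [88,89,59]))) (.node (.leaf (.up 11 2229 [2501] 0 [87,110,104,130])) (.leaf (.up 12 3424 [2501] 0 [88,56,176,35])))) (.node (.node (.leaf (.up 11 3340 [2628] 1299 [42,119])) (.leaf (.up 9 2823 [2501] 0 [87,56,103,139]))) (.leaf (.up 12 3029 [2628] 1299 [55,90,149])))))))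

noncomputable def trio6_01101 : Tr TStep :=
  .node (.node (.node (.node (.node (.node (.node (.leaf (.up 12 1162 [2501] 0 [93,155,169])) (.leaf (.up 4 2565 [2501] 0 [57,110,44,5]))) (.node (.leaf (.up 12 3319 [2628] 1299 [57,55,123,20])) (.leaf (.up 11 3543 [2628] 1299 [87,55,42,198])))) (.node (.node (.leaf (.up 13 528 [2628] 1299 [88,93,155,145])) (.leaf (.up 9 426 [2628] 1299 [87,55,155,178]))) (.node (.leaf (.up 6 1540 [2501] 0 [87,55,103,35])) (.leaf (.up 10 677 [2501] 0 [87,55,176,21]))))) (.node (.node (.node (.leaf (.up 11 2765 [2628] 1299 [88,94,90,2])) (.leaf (.up 14 2280 [2628] 1299 [57,155,138]))) (.node (.leaf (.up 6 2643 [2628] 1299 [87,89,71])) (.leaf (.up 13 442 [2628] 1299 [88,110,44,124])))) (.node (.node (.leaf (.up 13 1129 [2501] 0 [56,44,21])) (.leaf (.up 10 3181 [2501] 0 [88,55,104,2]))) (.leaf (.up 11 3622 [2628] 1299 [88,93,155,18]))))) (.node (.node (.node (.node (.leaf (.up 15 113 [2628] 1299 [88,56,44,130])) (.leaf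 (.up 12 648 [2628] 1299 [88,55,140,237]))) (.node (.leaf (.up 9 1595 [2501] 0 [87,56,140,72])) (.leaf (.up 11 2814 [2501] 0 [88,55,90,69])))) (.node (.node (.leaf (.up 11 3328 [2628] 1299 [88,94,103,195])) (.leaf (.up 4 1438 [2628] 1299 [57,55,90,246]))) (.node (.leaf (.up 7 2991 [2501] 0 [103,247])) (.leaf (.up 6 2484 [2628] 1299 [88,93,155,178]))))) (.node (.node (.node (.leaf (.up 3 787 [2628] 1299 [88,110,116,195])) (.leaf (.up 6 3317 [2501] 0 [94,103,105]))) (.node (.leaf (.up 7 256 [2501] 0 [87,94,90,232])) (.leaf (.up 11 139 [2501] 0 [55,91,114])))) (.node (.node (.leaf (.up 11 1500 [2628] 1299 [88,93,103,245])) (.leaf (.up 11 508 [2628] 1299 [87,110,42,23]))) (.leaf (.up 14 3163 [2501] 0 [56,155,6])))))) (.node (.node (.node (.node (.node (.leaf (.up 15 155 [2501] 0 [93,103,174])) (.leaf (.up 13 3228 [2501] 0 [88,93,90,135]))) (.node (.leaf (.up 10 2780 [2628] 1299 [87,56,89,33])) (.leaf (.up 14 1747 [2501] 0 [88,56,43,98])))) (.node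 (.node (.leaf (.up 13 2293 [2628] 1299 [87,93,42,95])) (.leaf (.up 12 3569 [2501] 0 [55,91,152]))) (.node (.leaf (.up 10 659 [2501] 0 [57,56,44,206])) (.leaf (.up 10 385 [2628] 1299 [94,104,201]))))) (.node (.node (.node (.leaf (.up 12 1704 [2501] 0 [57,55,42,113])) (.leaf (.up 10 187 [2501] 0 [87,44,246]))) (.node (.leaf (.up 12 2834 [2628] 1299 [87,94,89,60])) (.leaf (.up 14 828 [2628] 1299 [94,106])))) (.node (.node (.leaf (.up 3 3668 [2501] 0 [94,155,117])) (.leaf (.up 7 767 [2501] 0 [87,94,176,34]))) (.leaf (.up 8 988 [2501] 0 [87,55,123,30]))))) (.node (.node (.node (.node (.leaf (.up 11 2936 [2628] 1299 [57,55,129])) (.leaf (.up 12 804 [2501] 0 [43,211]))) (.node (.leaf (.up 11 3765 [2501] 0 [57,93,89,22])) (.leaf (.up 8 1315 [2501] 0 [110,155,72])))) (.node (.node (.leaf (.up 6 2821 [2501] 0 [57,110,89,118])) (.leaf (.up 14 262 [2628] 1299 [88,110,42,200]))) (.leaf (.up 13 231 [2501] 0 [93,90,34])))) (.node (.node (.node (.leaf (.up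 13 1046 [2501] 0 [87,155,161])) (.leaf (.up 13 2493 [2501] 0 [57,94,44,0]))) (.node (.leaf (.up 10 3519 [2501] 0 [57,94,91,146])) (.leaf (.up 13 2071 [2628] 1299 [57,93,90,158])))) (.node (.node (.leaf (.up 6 2484 [2501] 0 [57,110,43,60])) (.leaf (.up 14 3450 [2628] 1299 [94,43,37]))) (.leaf (.up 14 803 [2628] 1299 [88,91,178]))))))) (.node (.node (.node (.node (.node (.node (.leaf (.up 8 3403 [2501] 0 [57,94,116,131])) (.leaf (.up 10 2463 [2501] 0 [56,155,105]))) (.node (.leaf (.up 13 890 [2628] 1299 [87,94,43,30])) (.leaf (.up 13 1112 [2628] 1299 [93,104,75])))) (.node (.node (.leaf (.up 13 2987 [2628] 1299 [88,103,107])) (.leaf (.up 14 1740 [2628] 1299 [93,123,33]))) (.node (.leaf (.up 13 2110 [2501] 0 [88,93,155,233])) (.leaf (.up 10 3637 [2628] 1299 [94,176,73]))))) (.node (.node (.node (.leaf (.up 12 432 [2628] 1299 [55,155,225])) (.leaf (.up 16 647 [2501] 0 [57,103,227]))) (.node (.leaf (.up 13 1899 [2501] 0 [55,104,22])) (.leaf (.up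 14 1741 [2628] 1299 [88,123,92])))) (.node (.node (.leaf (.up 7 3534 [2501] 0 [55,42,195])) (.leaf (.up 7 3406 [2628] 1299 [93,89,156]))) (.leaf (.up 13 3100 [2501] 0 [88,103,214]))))) (.node (.node (.node (.node (.leaf (.up 13 1958 [2501] 0 [57,93,89,100])) (.leaf (.up 11 865 [2628] 1299 [88,56,139]))) (.node (.leaf (.up 11 87 [2501] 0 [88,93,44,22])) (.leaf (.up 9 120 [2501] 0 [88,110,103,210])))) (.node (.node (.leaf (.up 13 529 [2501] 0 [87,56,91,15])) (.leaf (.up 11 222 [2628] 1299 [87,55,176,132]))) (.node (.leaf (.up 14 1501 [2501] 0 [87,93,43,129])) (.leaf (.up 7 1389 [2501] 0 [57,55,89,148]))))) (.node (.node (.node (.leaf (.up 13 2739 [2501] 0 [87,110,69])) (.leaf (.up 15 104 [2501] 0 [88,93,140,206]))) (.node (.leaf (.up 12 2465 [2501] 0 [87,56,90,208])) (.leaf (.up 14 3777 [2501] 0 [87,94,176,126])))) (.node (.node (.leaf (.up 16 1844 [2628] 1299 [94,91,181])) (.leaf (.up 14 21 [2501] 0 [87,110,176,61]))) (.leaf (.up 11 924 [2628]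 1299 [88,56,103,214])))))) (.node (.node (.node (.node (.node (.leaf (.up 12 2853 [2501] 0 [87,93,140,209])) (.leaf (.up 14 1491 [2501] 0 [225]))) (.node (.leaf (.up 12 3001 [2501] 0 [57,94,176,76])) (.leaf (.up 11 26 [2628] 1299 [88,93,103,144])))) (.node (.node (.leaf (.up 13 1105 [2501] 0 [88,56,103,230])) (.leaf (.up 16 1983 [2628] 1299 [123,172]))) (.node (.leaf (.up 12 30 [2501] 0 [57,56,43,246])) (.leaf (.up 12 2354 [2501] 0 [93,43,111]))))) (.node (.node (.node (.leaf (.up 16 405 [2501] 0 [56,176,144])) (.leaf (.up 8 1900 [2501] 0 [57,91,159]))) (.node (.leaf (.up 14 3393 [2501] 0 [57,103,3])) (.leaf (.up 14 1225 [2501] 0 [110,90,20])))) (.node (.node (.leaf (.up 8 2748 [2628] 1299 [87,110,90,60])) (.leaf (.up 6 1318 [2501] 0 [110,90,126]))) (.leaf (.up 10 3236 [2501] 0 [87,94,123,217]))))) (.node (.node (.node (.node (.leaf (.up 7 951 [2501] 0 [88,55,91,208])) (.leaf (.up 11 3194 [2628] 1299 [87,56,176,122]))) (.node (.leaf (.up 13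 2073 [2628] 1299 [55,176,146])) (.leaf (.up 12 941 [2628] 1299 [88,55,44,3])))) (.node (.node (.leaf (.up 7 1379 [2628] 1299 [55,176,96])) (.leaf (.up 16 1880 [2628] 1299 [87,55,140,243]))) (.leaf (.up 9 643 [2501] 0 [88,110,60])))) (.node (.node (.node (.leaf (.up 8 3539 [2628] 1299 [57,56,42,46])) (.leaf (.up 9 1976 [2628] 1299 [110,143]))) (.node (.leaf (.up 10 794 [2501] 0 [93,91,200])) (.leaf (.up 13 2420 [2501] 0 [87,93,114])))) (.node (.node (.leaf (.up 12 703 [2501] 0 [91,33])) (.leaf (.up 13 2035 [2501] 0 [88,55,103,4]))) (.leaf (.up 12 3202 [2501] 0 [87,110,140,8])))))))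

noncomputable def trio6_0110 : Tr TStep := .node trio6_01100 trio6_01101

noncomputable def trio6_01110 : Tr TStep :=
  .node (.node (.node (.node (.node (.node (.node (.leaf (.up 3 1050 [2628] 1299 [94,103,157])) (.leaf (.up 13 935 [2501] 0 [103,74]))) (.node (.leaf (.up 11 2174 [2501] 0 [87,93,140,205])) (.leaf (.up 8 2686 [2501] 0 [87,93,91,21])))) (.node (.node (.leaf (.up 13 12 [2501] 0 [116,220])) (.leaf (.up 16 635 [2628] 1299 [88,56,123,169]))) (.node (.leaf (.up 10 455 [2628] 1299 [87,56,74])) (.leaf (.up 11 2353 [2628] 1299 [57,55,104,111]))))) (.node (.node (.node (.leaf (.up 7 2647 [2501] 0 [88,55,23])) (.leaf (.up 14 3473 [2501] 0 [57,56,241]))) (.node (.leaf (.up 13 1731 [2628] 1299 [57,94,104,174])) (.leaf (.up 13 2725 [2628] 1299 [88,110,43,165])))) (.node (.node (.leaf (.up 11 628 [2501] 0 [44,120])) (.leaf (.up 13 2458 [2501] 0 [57,110,91,228]))) (.leaf (.up 12 412 [2501] 0 [57,94,171]))))) (.node (.node (.node (.node (.leaf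 (.up 12 1682 [2628] 1299 [57,56,176,215])) (.leaf (.up 9 2055 [2628] 1299 [93,155,11]))) (.node (.leaf (.up 10 2586 [2628] 1299 [87,44,101])) (.leaf (.up 16 1657 [2628] 1299 [56,123,100])))) (.node (.node (.leaf (.up 12 2039 [2628] 1299 [104,217])) (.leaf (.up 12 203 [2501] 0 [90,205]))) (.node (.leaf (.up 11 297 [2501] 0 [88,123,203])) (.leaf (.up 15 2556 [2628] 1299 [88,93,116,11]))))) (.node (.node (.node (.leaf (.up 13 145 [2501] 0 [93,89,231])) (.leaf (.up 14 1868 [2628] 1299 [88,55,42,242]))) (.node (.leaf (.up 11 3708 [2628] 1299 [88,93,133])) (.leaf (.up 11 698 [2501] 0 [57,155,75])))) (.node (.node (.leaf (.up 11 3683 [2628] 1299 [57,94,89,33])) (.leaf (.up 13 2388 [2501] 0 [94,89,188]))) (.leaf (.up 10 504 [2628] 1299 [87,93,116,201])))))) (.node (.node (.node (.node (.node (.leaf (.up 10 3289 [2628] 1299 [110,90,209])) (.leaf (.up 14 1742 [2628] 1299 [55,43,170]))) (.node (.leaf (.up 15 3456 [2501] 0 [57,94,90,212])) (.leaf (.up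 14 3768 [2628] 1299 [88,55,43,148])))) (.node (.node (.leaf (.up 10 1323 [2628] 1299 [88,110,123,217])) (.leaf (.up 11 3279 [2628] 1299 [56,104,120]))) (.node (.leaf (.up 7 1125 [2501] 0 [56,155,154])) (.leaf (.up 9 54 [2628] 1299 [88,93,43,216]))))) (.node (.node (.node (.leaf (.up 14 137 [2501] 0 [57,94,123,229])) (.leaf (.up 13 2646 [2501] 0 [56,90,199]))) (.node (.leaf (.up 9 1648 [2628] 1299 [87,104,92])) (.leaf (.up 6 3512 [2501] 0 [87,89,216])))) (.node (.node (.leaf (.up 9 169 [2501] 0 [57,94,42,230])) (.leaf (.up 8 1298 [2628] 1299 [57,104,180]))) (.leaf (.up 14 89 [2501] 0 [88,90,120]))))) (.node (.node (.node (.node (.leaf (.up 12 3345 [2628] 1299 [57,110,182])) (.leaf (.up 14 2350 [2501] 0 [87,55,155,195]))) (.node (.leaf (.up 14 1591 [2501] 0 [110,90,161])) (.leaf (.up 15 1045 [2501] 0 [57,110,176,233])))) (.node (.node (.leaf (.up 14 2392 [2501] 0 [94,176,6])) (.leaf (.up 8 3130 [2628] 1299 [88,93,116,178]))) (.node (.leaf (.up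 13 393 [2501] 0 [57,110,104,199])) (.leaf (.up 13 3364 [2501] 0 [88,110,91,130]))))) (.node (.node (.node (.leaf (.up 13 1684 [2501] 0 [90,200])) (.leaf (.up 11 1178 [2501] 0 [87,94,116,0]))) (.node (.leaf (.up 12 2996 [2628] 1299 [94,116,2])) (.leaf (.up 6 1876 [2501] 0 [88,94,89,72])))) (.node (.node (.leaf (.up 6 2593 [2501] 0 [87,55,43,171])) (.leaf (.up 10 60 [2628] 1299 [87,94,91,181]))) (.leaf (.up 15 1523 [2501] 0 [57,110,42,15]))))))) (.node (.node (.node (.node (.node (.node (.leaf (.up 10 2403 [2628] 1299 [57,110,176,245])) (.leaf (.up 6 493 [2628] 1299 [87,104,198]))) (.node (.leaf (.up 14 2185 [2628] 1299 [87,89,69])) (.leaf (.up 14 380 [2628] 1299 [55,104,199])))) (.node (.node (.leaf (.up 12 1772 [2628] 1299 [87,56,155,65])) (.leaf (.up 13 1696 [2501] 0 [87,56,103,179]))) (.node (.leaf (.up 7 391 [2501] 0 [57,56,160])) (.leaf (.up 11 615 [2501] 0 [57,93,123,61]))))) (.node (.node (.node (.leaf (.up 4 1564 [2628] 1299 [88,94,44,69]))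 (.leaf (.up 13 3566 [2628] 1299 [87,110,91,178]))) (.node (.leaf (.up 9 3068 [2501] 0 [57,94,103,204])) (.leaf (.up 12 1213 [2628] 1299 [88,44,174])))) (.node (.node (.leaf (.up 14 909 [2501] 0 [87,116,102])) (.leaf (.up 9 1585 [2628] 1299 [88,110,89,30]))) (.leaf (.up 13 3681 [2501] 0 [110,42,186]))))) (.node (.node (.node (.node (.leaf (.up 14 961 [2501] 0 [93,42,119])) (.leaf (.up 12 3427 [2628] 1299 [57,93,107]))) (.node (.leaf (.up 12 2967 [2628] 1299 [88,55,91,214])) (.leaf (.up 17 306 [2628] 1299 [87,110,91,15])))) (.node (.node (.leaf (.up 9 1169 [2501] 0 [87,116,33])) (.leaf (.up 9 3563 [2501] 0 [87,110,123,27]))) (.node (.leaf (.up 4 2912 [2628] 1299 [87,56,116,214])) (.leaf (.up 6 1788 [2628] 1299 [57,55,176,204]))))) (.node (.node (.node (.leaf (.up 9 2191 [2628] 1299 [87,55,123,25])) (.leaf (.up 10 1721 [2501] 0 [87,110,43,139]))) (.node (.leaf (.up 10 2727 [2501] 0 [88,55,91,149])) (.leaf (.up 9 2631 [2628] 1299 [56,176]))))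 (.node (.node (.leaf (.up 10 2546 [2628] 1299 [57,56,176,5])) (.leaf (.up 12 1151 [2628] 1299 [87,56,155,221]))) (.leaf (.up 8 3500 [2628] 1299 [56,42,92])))))) (.node (.node (.node (.node (.node (.leaf (.up 12 1418 [2501] 0 [87,55,90,138])) (.leaf (.up 12 402 [2628] 1299 [87,94,176,232]))) (.node (.leaf (.up 10 2922 [2501] 0 [88,55,42,160])) (.leaf (.up 10 1443 [2501] 0 [57,43,141])))) (.node (.node (.leaf (.up 12 3026 [2501] 0 [110,176,1])) (.leaf (.up 10 2379 [2628] 1299 [57,176,213]))) (.node (.leaf (.up 7 2207 [2628] 1299 [57,94,176,59])) (.leaf (.up 12 2173 [2501] 0 [87,55,104,234]))))) (.node (.node (.node (.leaf (.up 10 2425 [2501] 0 [88,94,89,12])) (.leaf (.up 14 1954 [2628] 1299 [87,110,90,185]))) (.node (.leaf (.up 11 565 [2501] 0 [88,94,43,211])) (.leaf (.up 11 1110 [2628] 1299 [57,56,176,122])))) (.node (.node (.leaf (.up 7 3734 [2628] 1299 [87,55,90,171])) (.leaf (.up 13 558 [2501] 0 [56,140,143]))) (.leaf (.up 8 1679 [2628]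 1299 [57,89,240]))))) (.node (.node (.node (.node (.leaf (.up 10 686 [2501] 0 [89,171])) (.leaf (.up 12 2309 [2628] 1299 [55,89,198]))) (.node (.leaf (.up 13 3454 [2628] 1299 [94,155,77])) (.leaf (.up 9 169 [2628] 1299 [57,55,116,221])))) (.node (.node (.leaf (.up 12 2159 [2501] 0 [87,42,27])) (.leaf (.up 14 748 [2628] 1299 [57,93,176,182]))) (.leaf (.up 11 595 [2501] 0 [88,110,123,74])))) (.node (.node (.node (.leaf (.up 14 2134 [2628] 1299 [88,42,181])) (.leaf (.up 10 2569 [2501] 0 [87,133]))) (.node (.leaf (.up 12 3134 [2501] 0 [57,110,155,137])) (.leaf (.up 12 2834 [2501] 0 [57,93,42,2])))) (.node (.node (.leaf (.up 14 1530 [2628] 1299 [94,104,206])) (.leaf (.up 10 1261 [2501] 0 [94,43,154]))) (.leaf (.up 13 2286 [2501] 0 [43,77])))))))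

noncomputable def trio6_01111 : Tr TStep :=
  .node (.node (.node (.node (.node (.node (.node (.leaf (.up 11 1243 [2628] 1299 [57,93,104,170])) (.leaf (.up 9 886 [2628] 1299 [88,110,140,214]))) (.node (.leaf (.up 10 3477 [2628] 1299 [57,55,140,231])) (.leaf (.up 12 346 [2628] 1299 [57,94,140,77])))) (.node (.node (.leaf (.up 8 2059 [2501] 0 [57,110,103,31])) (.leaf (.up 12 1840 [2501] 0 [87,56,104,187]))) (.node (.leaf (.up 9 3439 [2501] 0 [57,55,155,197])) (.leaf (.up 14 2662 [2501] 0 [87,0]))))) (.node (.node (.node (.leaf (.up 16 606 [2628] 1299 [87,176,153])) (.leaf (.up 13 2104 [2628] 1299 [88,90,217]))) (.node (.leaf (.up 14 248 [2628] 1299 [87,94,43,195])) (.leaf (.up 15 41 [2501] 0 [88,56,42,98])))) (.node (.node (.leaf (.up 15 486 [2501] 0 [87,89,100])) (.leaf (.up 12 3629 [2501] 0 [87,110,123,210]))) (.leaf (.up 10 1075 [2501] 0 [87,55,91,108]))))) (.node (.node (.node (.node (.leaf (.up 10 1531 [2628] 1299 [57,55,155,170])) (.leaf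 (.up 7 2141 [2628] 1299 [116,211]))) (.node (.leaf (.up 13 1917 [2628] 1299 [94,144])) (.leaf (.up 1 2 [2628] 1299 [87,94,169])))) (.node (.node (.leaf (.up 12 3381 [2501] 0 [93,176,92])) (.leaf (.up 13 64 [2628] 1299 [88,93,122]))) (.node (.leaf (.up 8 1800 [2628] 1299 [57,56,176,61])) (.leaf (.up 10 1577 [2628] 1299 [110,104,159]))))) (.node (.node (.node (.leaf (.up 6 2313 [2501] 0 [88,110,103,126])) (.leaf (.up 15 3066 [2501] 0 [87,93,89,133]))) (.node (.leaf (.up 3 463 [2501] 0 [176,238])) (.leaf (.up 13 3292 [2628] 1299 [110,140,167])))) (.node (.node (.leaf (.up 16 2878 [2501] 0 [87,110,176,197])) (.leaf (.up 10 3289 [2501] 0 [94,42,171]))) (.leaf (.up 11 1605 [2628] 1299 [87,56,123,99])))))) (.node (.node (.node (.node (.node (.leaf (.up 13 2739 [2628] 1299 [57,110,187])) (.leaf (.up 11 476 [2628] 1299 [57,55,91,231]))) (.node (.leaf (.up 10 2840 [2501] 0 [88,93,195])) (.leaf (.up 8 2610 [2501] 0 [87,56,104,167])))) (.node (.node (.leaf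 (.up 15 3220 [2501] 0 [88,110,91,142])) (.leaf (.up 10 2122 [2501] 0 [88,94,116,75]))) (.node (.leaf (.up 11 1930 [2628] 1299 [87,56,44,192])) (.leaf (.up 10 3268 [2628] 1299 [88,56,90,4]))))) (.node (.node (.node (.leaf (.up 12 2671 [2628] 1299 [87,56,155,69])) (.leaf (.up 8 1136 [2628] 1299 [93,123,121]))) (.node (.leaf (.up 12 1191 [2501] 0 [88,55,140,61])) (.leaf (.up 14 2800 [2628] 1299 [87,56,43,124])))) (.node (.node (.leaf (.up 14 94 [2501] 0 [57,93,155,141])) (.leaf (.up 13 3292 [2501] 0 [57,93,90,240]))) (.leaf (.up 5 1700 [2501] 0 [57,56,140,222]))))) (.node (.node (.node (.node (.leaf (.up 10 2371 [2501] 0 [88,110,42,76])) (.leaf (.up 13 1579 [2628] 1299 [88,55,43,33]))) (.node (.leaf (.up 11 1506 [2501] 0 [56,42,13])) (.leaf (.up 6 3256 [2501] 0 [88,94,42,227])))) (.node (.node (.leaf (.up 14 3201 [2501] 0 [110,104,15])) (.leaf (.up 13 1142 [2501] 0 [94,176,165]))) (.leaf (.up 14 3669 [2628] 1299 [94,89,174])))) (.node (.node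 (.node (.leaf (.up 12 2512 [2628] 1299 [57,93,43,34])) (.leaf (.up 10 2317 [2501] 0 [88,55,155,132]))) (.node (.leaf (.up 11 3484 [2501] 0 [110,91,98])) (.leaf (.up 15 3148 [2628] 1299 [57,110,43,192])))) (.node (.node (.leaf (.up 13 1916 [2501] 0 [57,43,189])) (.leaf (.up 10 2503 [2501] 0 [87,94,91,143]))) (.leaf (.up 11 960 [2501] 0 [57,94,90,138]))))))) (.node (.node (.node (.node (.node (.node (.leaf (.up 14 371 [2628] 1299 [88,110,104,2])) (.leaf (.up 12 3052 [2501] 0 [110,44,147]))) (.node (.leaf (.up 11 3400 [2501] 0 [87,110,90,112])) (.leaf (.up 11 3568 [2628] 1299 [57,176,121])))) (.node (.node (.leaf (.up 13 1545 [2628] 1299 [57,110,91,7])) (.leaf (.up 8 844 [2628] 1299 [87,94,104,184]))) (.node (.leaf (.up 13 1733 [2628] 1299 [87,94,89,2])) (.leaf (.up 11 520 [2628] 1299 [94,89,239]))))) (.node (.node (.node (.leaf (.up 9 3520 [2501] 0 [110,176,170])) (.leaf (.up 9 1420 [2628] 1299 [94,42,232]))) (.node (.leaf (.up 8 783 [2628]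 1299 [57,56,116,192])) (.leaf (.up 10 984 [2501] 0 [88,91,126])))) (.node (.node (.leaf (.up 9 650 [2628] 1299 [57,55,140,15])) (.leaf (.up 15 2644 [2628] 1299 [110,91,167]))) (.leaf (.up 9 1434 [2501] 0 [87,176,187]))))) (.node (.node (.node (.node (.leaf (.up 6 1436 [2628] 1299 [93,89,149])) (.leaf (.up 8 2181 [2501] 0 [88,56,104,229]))) (.node (.leaf (.up 14 415 [2501] 0 [57,110,44,143])) (.leaf (.up 11 2347 [2501] 0 [87,56,42,130])))) (.node (.node (.leaf (.up 12 386 [2501] 0 [88,110,176,170])) (.leaf (.up 11 3366 [2628] 1299 [55,140,106]))) (.node (.leaf (.up 11 3590 [2628] 1299 [56,104,197])) (.leaf (.up 12 127 [2628] 1299 [87,56,104,178]))))) (.node (.node (.node (.leaf (.up 12 1350 [2501] 0 [87,56,42,36])) (.leaf (.up 11 885 [2501] 0 [87,94,123,33]))) (.node (.leaf (.up 14 2455 [2628] 1299 [57,93,104,167])) (.leaf (.up 6 2875 [2628] 1299 [55,90,129])))) (.node (.node (.leaf (.up 14 73 [2501] 0 [88,55,155,203])) (.leaf (.up 13 442 [2501]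 0 [55,103,60]))) (.leaf (.up 8 1538 [2628] 1299 [87,110,155,113])))))) (.node (.node (.node (.node (.node (.leaf (.up 11 152 [2501] 0 [57,55,89,33])) (.leaf (.up 10 3260 [2628] 1299 [56,44,200]))) (.node (.leaf (.up 10 981 [2501] 0 [93,104,182])) (.leaf (.up 13 2846 [2628] 1299 [88,110,103,77])))) (.node (.node (.leaf (.up 13 2404 [2501] 0 [57,93,155,233])) (.leaf (.up 7 1356 [2628] 1299 [57,20]))) (.node (.leaf (.up 7 1369 [2628] 1299 [57,94,89,7])) (.leaf (.up 8 395 [2628] 1299 [57,55,240]))))) (.node (.node (.node (.leaf (.up 13 1979 [2628] 1299 [56,89,121])) (.leaf (.up 15 1798 [2501] 0 [94,116,187]))) (.node (.leaf (.up 10 919 [2501] 0 [94,103,115])) (.leaf (.up 12 3499 [2628] 1299 [88,94,140,201])))) (.node (.node (.leaf (.up 15 1219 [2628] 1299 [110,42,114])) (.leaf (.up 14 3589 [2628] 1299 [57,110,176,31]))) (.leaf (.up 14 856 [2628] 1299 [87,56,89,246]))))) (.node (.node (.node (.node (.leaf (.up 10 1091 [2501] 0 [103,71])) (.leaf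 (.up 12 2151 [2501] 0 [88,94,42,133]))) (.node (.leaf (.up 13 2564 [2628] 1299 [88,56,90,222])) (.leaf (.up 10 1481 [2628] 1299 [110,155,208])))) (.node (.node (.leaf (.up 12 3275 [2628] 1299 [55,116,202])) (.leaf (.up 10 2331 [2628] 1299 [88,55,91,129]))) (.leaf (.up 14 3393 [2628] 1299 [88,56,42,243])))) (.node (.node (.node (.leaf (.up 9 546 [2628] 1299 [87,55,104,238])) (.leaf (.up 13 301 [2628] 1299 [57,110,43,34]))) (.node (.leaf (.up 15 1157 [2628] 1299 [57,93,140,182])) (.leaf (.up 10 3152 [2501] 0 [87,56,140,130])))) (.node (.node (.leaf (.up 10 2285 [2501] 0 [87,94,89,191])) (.leaf (.up 7 3518 [2501] 0 [176,138]))) (.leaf (.up 12 1187 [2628] 1299 [88,56,195])))))))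

noncomputable def trio6_0111 : Tr TStep := .node trio6_01110 trio6_01111

noncomputable def trio6_011 : Tr TStep := .node trio6_0110 trio6_0111

noncomputable def trio6_01 : Tr TStep := .node trio6_010 trio6_011

noncomputable def trio6_0 : Tr TStep := .node trio6_00 trio6_01

noncomputable def trio6_10000 : Tr TStep :=
  .node (.node (.node (.node (.node (.node (.node (.leaf (.root 1)) (.leaf (.up 13 2220 [2501] 0 [87,56,91,11]))) (.node (.leaf (.up 13 2000 [2501] 0 [94,97])) (.leaf (.up 10 521 [2628] 1299 [87,55,89,186])))) (.node (.node (.leaf (.up 10 3580 [2628] 1299 [87,110,140,201])) (.leaf (.up 12 1802 [2501] 0 [87,56,89,98]))) (.node (.leaf (.up 13 887 [2628] 1299 [55,176,25])) (.leaf (.up 14 368 [2628] 1299 [176,150]))))) (.node (.node (.node (.leaf (.up 12 2039 [2501] 0 [88,55,116,21])) (.leaf (.up 13 1518 [2501] 0 [93,174]))) (.node (.leaf (.up 5 996 [2628] 1299 [87,55,123,148])) (.leaf (.up 4 3243 [2628] 1299 [56,42,146])))) (.node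 (.node (.leaf (.up 10 2265 [2501] 0 [57,56,151])) (.leaf (.up 11 431 [2501] 0 [56,42,178]))) (.leaf (.up 15 2034 [2628] 1299 [94,91,9]))))) (.node (.node (.node (.node (.leaf (.up 11 2478 [2628] 1299 [88,55,44,224])) (.leaf (.up 13 446 [2628] 1299 [57,56,116,157]))) (.node (.leaf (.up 7 1341 [2628] 1299 [87,94,90,149])) (.leaf (.up 13 2000 [2628] 1299 [87,110,155,242])))) (.node (.node (.leaf (.up 1 9 [2501] 0 [88,94,155,207])) (.leaf (.up 11 1367 [2628] 1299 [57,55,104,73]))) (.node (.leaf (.up 14 83 [2501] 0 [88,55,140,184])) (.leaf (.up 9 2509 [2628] 1299 [88,56,140,206]))))) (.node (.node (.node (.leaf (.up 9 2055 [2501] 0 [87,56,103,126])) (.leaf (.up 13 3356 [2628] 1299 [57,56,176,124]))) (.node (.leaf (.up 13 3445 [2501] 0 [57,94,42,234])) (.leaf (.up 11 1508 [2501] 0 [88,56,42,112])))) (.node (.node (.leaf (.up 14 3501 [2628] 1299 [57,94,44,148])) (.leaf (.up 11 1124 [2501] 0 [57,55,89,36]))) (.leaf (.up 13 3407 [2628] 1299 [56,103,71]))))))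 (.node (.node (.node (.node (.node (.leaf (.up 11 2881 [2501] 0 [88,93,146])) (.leaf (.up 12 2092 [2501] 0 [57,56,42,133]))) (.node (.leaf (.up 7 512 [2501] 0 [57,56,176,152])) (.leaf (.up 14 2433 [2628] 1299 [88,91,157])))) (.node (.node (.leaf (.up 11 20 [2628] 1299 [87,55,8])) (.leaf (.up 8 3538 [2501] 0 [88,110,123,243]))) (.node (.leaf (.up 11 435 [2628] 1299 [88,55,155,169])) (.leaf (.up 14 3169 [2501] 0 [94,42,152]))))) (.node (.node (.node (.leaf (.up 11 3484 [2628] 1299 [56,103,236])) (.leaf (.up 11 805 [2501] 0 [93,176,175]))) (.node (.leaf (.up 12 2568 [2628] 1299 [87,93,91,167])) (.leaf (.up 13 1287 [2501] 0 [87,56,100])))) (.node (.node (.leaf (.up 10 2058 [2501] 0 [87,93,90,4])) (.leaf (.up 10 3013 [2628] 1299 [57,93,155,27]))) (.leaf (.up 14 747 [2628] 1299 [87,155,18]))))) (.node (.node (.node (.node (.leaf (.up 11 366 [2501] 0 [55,116,152])) (.leaf (.up 9 3240 [2501] 0 [87,55,42,193]))) (.node (.leaf (.up 13 1397 [2628] 1299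 [57,94,91,21])) (.leaf (.up 10 2403 [2501] 0 [88,94,123,128])))) (.node (.node (.leaf (.up 8 501 [2628] 1299 [87,56,155,111])) (.leaf (.up 11 736 [2628] 1299 [57,56,89,193]))) (.node (.leaf (.up 9 1371 [2501] 0 [88,89,180])) (.leaf (.up 13 2594 [2628] 1299 [110,42,200]))))) (.node (.node (.node (.leaf (.up 15 102 [2501] 0 [110,146])) (.leaf (.up 7 1114 [2628] 1299 [55,178]))) (.node (.leaf (.up 10 1509 [2501] 0 [88,110,43,200])) (.leaf (.up 13 3299 [2501] 0 [88,90,161])))) (.node (.node (.leaf (.up 13 1155 [2501] 0 [88,56,42,74])) (.leaf (.up 11 1137 [2501] 0 [93,140,18]))) (.leaf (.up 14 697 [2628] 1299 [57,93,155,2]))))))) (.node (.node (.node (.node (.node (.node (.leaf (.up 16 2131 [2501] 0 [110,123,190])) (.leaf (.up 5 227 [2628] 1299 [57,93,234]))) (.node (.leaf (.up 7 414 [2628] 1299 [110,91,198])) (.leaf (.up 13 2147 [2501] 0 [155,204])))) (.node (.node (.leaf (.up 10 3637 [2501] 0 [55,43,141])) (.leaf (.up 5 243 [2628] 1299 [43,209])))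 (.node (.leaf (.up 12 1973 [2628] 1299 [57,94,155,125])) (.leaf (.up 7 754 [2501] 0 [55,173]))))) (.node (.node (.node (.leaf (.up 12 3492 [2501] 0 [57,56,103,214])) (.leaf (.up 15 3144 [2501] 0 [57,123,4]))) (.node (.leaf (.up 16 537 [2501] 0 [88,94,176,184])) (.leaf (.up 8 1430 [2628] 1299 [57,110,123,114])))) (.node (.node (.leaf (.up 6 2653 [2628] 1299 [87,56,155,190])) (.leaf (.up 13 1106 [2501] 0 [87,56,91,149]))) (.leaf (.up 12 1186 [2628] 1299 [88,110,89,218]))))) (.node (.node (.node (.node (.leaf (.up 10 3420 [2628] 1299 [57,56,103,181])) (.leaf (.up 16 2009 [2501] 0 [87,55,116,206]))) (.node (.leaf (.up 6 235 [2628] 1299 [87,110,44,192])) (.leaf (.up 5 2809 [2628] 1299 [57,55,140,213])))) (.node (.node (.leaf (.up 9 1517 [2628] 1299 [57,43,192])) (.leaf (.up 5 1636 [2501] 0 [93,42,8]))) (.node (.leaf (.up 11 2583 [2628] 1299 [87,176,190])) (.leaf (.up 7 2626 [2628] 1299 [57,110,89,230]))))) (.node (.node (.node (.leaf (.up 8 2330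 [2628] 1299 [57,94,42,150])) (.leaf (.up 11 1479 [2628] 1299 [57,93,116,196]))) (.node (.leaf (.up 14 1425 [2501] 0 [56,91,243])) (.leaf (.up 11 195 [2501] 0 [43,22])))) (.node (.node (.leaf (.up 11 3449 [2501] 0 [88,55,116,72])) (.leaf (.up 11 2694 [2628] 1299 [88,42,76]))) (.leaf (.up 12 3779 [2628] 1299 [57,55,104,158])))))) (.node (.node (.node (.node (.node (.leaf (.up 13 691 [2628] 1299 [57,93,89,169])) (.leaf (.up 10 38 [2628] 1299 [57,56,116,133]))) (.node (.leaf (.up 11 1865 [2628] 1299 [88,55,123,152])) (.leaf (.up 13 733 [2628] 1299 [57,56,169])))) (.node (.node (.leaf (.up 11 108 [2628] 1299 [94,42,6])) (.leaf (.up 6 860 [2501] 0 [93,89,23]))) (.node (.leaf (.up 9 1869 [2628] 1299 [88,110,103,198])) (.leaf (.up 12 3718 [2628] 1299 [57,93,155,208]))))) (.node (.node (.node (.leaf (.up 9 3166 [2501] 0 [57,103,22])) (.leaf (.up 10 2696 [2501] 0 [88,56,116,97]))) (.node (.leaf (.up 17 3214 [2628] 1299 [88,94,42,35])) (.leaf (.up 7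 2454 [2501] 0 [88,55,104,193])))) (.node (.node (.leaf (.up 10 3493 [2501] 0 [110,123,222])) (.leaf (.up 16 3324 [2501] 0 [55,223]))) (.leaf (.up 13 687 [2501] 0 [88,93,91,13]))))) (.node (.node (.node (.node (.leaf (.up 13 2813 [2628] 1299 [110,116,131])) (.leaf (.up 14 3044 [2628] 1299 [88,55,176,3]))) (.node (.leaf (.up 13 1761 [2501] 0 [56,43,152])) (.leaf (.up 12 998 [2628] 1299 [87,56,89,157])))) (.node (.node (.leaf (.up 8 122 [2501] 0 [88,94,43,187])) (.leaf (.up 11 1363 [2628] 1299 [88,56,103,210]))) (.leaf (.up 12 3110 [2628] 1299 [87,91,247])))) (.node (.node (.node (.leaf (.up 8 2306 [2501] 0 [57,94,44,119])) (.leaf (.up 14 1537 [2501] 0 [110,90,228]))) (.node (.leaf (.up 14 79 [2501] 0 [87,56,103,232])) (.leaf (.up 13 2233 [2628] 1299 [87,55,103,228])))) (.node (.node (.leaf (.up 8 134 [2628] 1299 [88,110,116,245])) (.leaf (.up 13 3274 [2628] 1299 [110,91,9]))) (.leaf (.up 12 3094 [2501] 0 [88,56,176,168])))))))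

noncomputable def trio6_10001 : Tr TStep :=
  .node (.node (.node (.node (.node (.node (.node (.leaf (.up 14 1542 [2501] 0 [94,104,151])) (.leaf (.up 15 3430 [2501] 0 [87,55,104,12]))) (.node (.leaf (.up 14 2270 [2501] 0 [93,104,107])) (.leaf (.up 8 616 [2501] 0 [57,55,90,247])))) (.node (.node (.leaf (.up 12 143 [2501] 0 [123,194])) (.leaf (.up 5 2469 [2628] 1299 [93,43,152]))) (.node (.leaf (.up 15 1893 [2501] 0 [87,110,104,125])) (.leaf (.up 13 1207 [2501] 0 [88,110,91,46]))))) (.node (.node (.node (.leaf (.up 12 1834 [2628] 1299 [94,104,135])) (.leaf (.up 10 686 [2628] 1299 [88,56,116,127]))) (.node (.leaf (.up 9 3147 [2628] 1299 [87,140,97])) (.leaf (.up 11 1910 [2628] 1299 [110,176,229])))) (.node (.node (.leaf (.up 9 3288 [2501] 0 [87,110,155,105])) (.leaf (.up 10 1531 [2501] 0 [88,94,155,33]))) (.leaf (.up 7 1279 [2501] 0 [93,123,236]))))) (.node (.node (.node (.node (.leaf (.up 12 1637 [2628] 1299 [89,31])) (.leaf (.up 14 1817 [2501]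 0 [88,110,42,202]))) (.node (.leaf (.up 8 2101 [2628] 1299 [87,93,155,114])) (.leaf (.up 14 2667 [2501] 0 [88,116,237])))) (.node (.node (.leaf (.up 16 1709 [2501] 0 [88,103,163])) (.leaf (.up 8 3743 [2501] 0 [88,91,101]))) (.node (.leaf (.up 14 3642 [2628] 1299 [88,93,89,0])) (.leaf (.up 8 1614 [2628] 1299 [87,94,103,210]))))) (.node (.node (.node (.leaf (.up 11 3170 [2501] 0 [87,176,141])) (.leaf (.up 13 1207 [2628] 1299 [88,93,91,229]))) (.node (.leaf (.up 13 1349 [2628] 1299 [87,56,155,61])) (.leaf (.up 13 2149 [2628] 1299 [88,93,103,228])))) (.node (.node (.leaf (.up 5 2482 [2501] 0 [57,94,90,20])) (.leaf (.up 13 1659 [2501] 0 [110,43,107]))) (.leaf (.up 13 2167 [2628] 1299 [57,94,89,131])))))) (.node (.node (.node (.node (.node (.leaf (.up 11 3369 [2501] 0 [57,93,89,69])) (.leaf (.up 12 1146 [2628] 1299 [88,56,43,31]))) (.node (.leaf (.up 12 1031 [2628] 1299 [87,91,136])) (.leaf (.up 10 2301 [2501] 0 [55,90,182])))) (.node (.node (.leaf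 (.up 15 229 [2628] 1299 [57,55,104,230])) (.leaf (.up 7 767 [2628] 1299 [87,110,140,247]))) (.node (.leaf (.up 13 22 [2628] 1299 [88,94,116,143])) (.leaf (.up 10 768 [2501] 0 [87,93,103,76]))))) (.node (.node (.node (.leaf (.up 3 1634 [2628] 1299 [87,89,186])) (.leaf (.up 11 1150 [2501] 0 [88,234]))) (.node (.leaf (.up 12 3309 [2501] 0 [155,105])) (.leaf (.up 7 3675 [2628] 1299 [55,44,177])))) (.node (.node (.leaf (.up 11 3269 [2628] 1299 [87,94,244])) (.leaf (.up 14 1617 [2501] 0 [88,94,44,193]))) (.leaf (.up 13 1287 [2628] 1299 [87,94,123,144]))))) (.node (.node (.node (.node (.leaf (.up 6 3233 [2628] 1299 [57,110,105])) (.leaf (.up 11 2833 [2628] 1299 [94,123,95]))) (.node (.leaf (.up 12 348 [2501] 0 [57,55,43,236])) (.leaf (.up 13 1482 [2628] 1299 [57,94,43,29])))) (.node (.node (.leaf (.up 11 1667 [2501] 0 [88,110,104,174])) (.leaf (.up 14 1020 [2628] 1299 [88,55,211]))) (.node (.leaf (.up 8 3651 [2628] 1299 [56,43,16])) (.leaf (.up 14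 3198 [2628] 1299 [110,91,203]))))) (.node (.node (.node (.leaf (.up 13 2110 [2628] 1299 [88,176,134])) (.leaf (.up 8 2068 [2628] 1299 [87,94,123,126]))) (.node (.leaf (.up 12 2297 [2628] 1299 [88,110,90,115])) (.leaf (.up 9 1717 [2628] 1299 [87,56,116,234])))) (.node (.node (.leaf (.up 12 3778 [2628] 1299 [176,187])) (.leaf (.up 7 629 [2628] 1299 [56,176,59]))) (.leaf (.up 14 3731 [2501] 0 [57,93,104,65]))))))) (.node (.node (.node (.node (.node (.node (.leaf (.up 7 1279 [2628] 1299 [57,94,91,157])) (.leaf (.up 4 1813 [2628] 1299 [87,93,42,33]))) (.node (.leaf (.up 10 3679 [2501] 0 [88,110,89,164])) (.leaf (.up 13 1719 [2628] 1299 [93,90,115])))) (.node (.node (.leaf (.up 9 511 [2628] 1299 [110,42,225])) (.leaf (.up 12 2843 [2501] 0 [88,93,176,242]))) (.node (.leaf (.up 8 2101 [2501] 0 [87,56,42,222])) (.leaf (.up 6 2171 [2628] 1299 [56,140,134]))))) (.node (.node (.node (.leaf (.up 10 1546 [2628] 1299 [57,94,123,157])) (.leaf (.up 10 1060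 [2628] 1299 [55,116,175]))) (.node (.leaf (.up 11 2848 [2628] 1299 [87,94,89,166])) (.leaf (.up 15 3595 [2501] 0 [88,56,44,105])))) (.node (.node (.leaf (.up 13 2812 [2628] 1299 [110,89,207])) (.leaf (.up 10 3046 [2628] 1299 [57,55,140,234]))) (.leaf (.up 10 291 [2501] 0 [57,110,104,46]))))) (.node (.node (.node (.node (.leaf (.up 9 3027 [2628] 1299 [57,55,116,170])) (.leaf (.up 15 2461 [2628] 1299 [55,42,164]))) (.node (.leaf (.up 9 1256 [2501] 0 [87,155,243])) (.leaf (.up 8 2206 [2501] 0 [87,56,90,10])))) (.node (.node (.leaf (.up 7 2454 [2628] 1299 [94,104,65])) (.leaf (.up 14 962 [2628] 1299 [87,155,216]))) (.node (.leaf (.up 10 28 [2628] 1299 [88,93,176,174])) (.leaf (.up 12 2924 [2501] 0 [88,93,99]))))) (.node (.node (.node (.leaf (.up 9 2664 [2501] 0 [57,93,176,160])) (.leaf (.up 8 34 [2628] 1299 [57,55,155,188]))) (.node (.leaf (.up 14 3322 [2501] 0 [94,176,127])) (.leaf (.up 12 2151 [2628] 1299 [57,56,116,248])))) (.node (.node (.leaf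 (.up 15 1353 [2628] 1299 [87,93,140,106])) (.leaf (.up 10 1075 [2628] 1299 [57,89,30]))) (.leaf (.up 9 2192 [2501] 0 [57,94,176,34])))))) (.node (.node (.node (.node (.node (.leaf (.up 14 2240 [2628] 1299 [88,176,76])) (.leaf (.up 12 112 [2628] 1299 [57,110,123,188]))) (.node (.leaf (.up 10 162 [2501] 0 [57,56,176,197])) (.leaf (.up 14 183 [2628] 1299 [87,55,123,206])))) (.node (.node (.leaf (.up 14 1190 [2628] 1299 [57,56,104,157])) (.leaf (.up 12 3304 [2501] 0 [88,55,176,170]))) (.node (.leaf (.up 13 1005 [2501] 0 [57,110,123,144])) (.leaf (.up 13 1296 [2628] 1299 [88,56,91,248]))))) (.node (.node (.node (.leaf (.up 10 604 [2501] 0 [87,44,31])) (.leaf (.up 14 3507 [2628] 1299 [87,103,196]))) (.node (.leaf (.up 9 1042 [2501] 0 [88,94,176,210])) (.leaf (.up 14 2439 [2628] 1299 [88,56,104,181])))) (.node (.node (.leaf (.up 10 2265 [2628] 1299 [88,110,123,137])) (.leaf (.up 13 3064 [2628] 1299 [110,42,178]))) (.leaf (.up 14 1383 [2501] 0 [87,94,103,25])))))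 (.node (.node (.node (.node (.leaf (.up 12 2352 [2628] 1299 [55,90,168])) (.leaf (.up 11 2522 [2501] 0 [87,155,217]))) (.node (.leaf (.up 12 1567 [2501] 0 [87,110,155,77])) (.leaf (.up 12 2876 [2501] 0 [87,110,155,130])))) (.node (.node (.leaf (.up 10 504 [2501] 0 [55,162])) (.leaf (.up 12 278 [2628] 1299 [57,110,43,18]))) (.leaf (.up 10 1821 [2501] 0 [87,94,176,185])))) (.node (.node (.node (.leaf (.up 13 1712 [2501] 0 [87,55,174])) (.leaf (.up 3 261 [2501] 0 [55,89,248]))) (.node (.leaf (.up 13 2098 [2501] 0 [87,110,123,118])) (.leaf (.up 11 1512 [2628] 1299 [57,103,132])))) (.node (.node (.leaf (.up 11 841 [2628] 1299 [88,110,123,230])) (.leaf (.up 7 2111 [2501] 0 [87,93,116,137]))) (.leaf (.up 2 3530 [2501] 0 [55,104,189])))))))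

noncomputable def trio6_1000 : Tr TStep := .node trio6_10000 trio6_10001

noncomputable def trio6_10010 : Tr TStep :=
  .node (.node (.node (.node (.node (.node (.node (.leaf (.root 5)) (.leaf (.up 8 2827 [2501] 0 [57,56,91,117]))) (.node (.leaf (.up 13 3376 [2501] 0 [87,110,89,243])) (.leaf (.up 3 1143 [2501] 0 [57,93,42,59])))) (.node (.node (.leaf (.up 9 1140 [2628] 1299 [87,116,221])) (.leaf (.up 9 417 [2501] 0 [88,94,176,138]))) (.node (.leaf (.up 12 2908 [2501] 0 [88,94,155,234])) (.leaf (.up 14 1817 [2628] 1299 [55,123,202]))))) (.node (.node (.node (.leaf (.up 7 2445 [2628] 1299 [88,93,155,122])) (.leaf (.up 5 2482 [2628] 1299 [87,55,104,199]))) (.node (.leaf (.up 9 1779 [2628] 1299 [89,181])) (.leaf (.up 9 1256 [2628] 1299 [88,110,140,8])))) (.node (.node (.leaf (.up 10 2418 [2501] 0 [56,44,7])) (.leaf (.up 13 1565 [2628] 1299 [88,176,180]))) (.leaf (.up 9 1019 [2501] 0 [57,55,43,72]))))) (.node (.node (.node (.node (.leaf (.up 13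 3250 [2628] 1299 [88,93,116,164])) (.leaf (.up 13 3193 [2628] 1299 [88,93,176,225]))) (.node (.leaf (.up 13 3002 [2501] 0 [88,90,235])) (.leaf (.up 9 1648 [2501] 0 [87,91,1])))) (.node (.node (.leaf (.up 11 762 [2501] 0 [87,44,160])) (.leaf (.up 8 1136 [2501] 0 [88,55,44,227]))) (.node (.leaf (.up 12 2923 [2501] 0 [88,94,214])) (.leaf (.up 10 3109 [2628] 1299 [57,56,140,106]))))) (.node (.node (.node (.leaf (.up 12 2899 [2628] 1299 [55,91,165])) (.leaf (.up 13 3577 [2628] 1299 [57,94,103,172]))) (.node (.leaf (.up 15 1310 [2501] 0 [94,44,214])) (.leaf (.up 9 215 [2501] 0 [88,93,90,146])))) (.node (.node (.leaf (.up 7 3734 [2501] 0 [87,110,43,234])) (.leaf (.up 14 2703 [2501] 0 [87,43,150]))) (.leaf (.up 10 846 [2628] 1299 [88,42,188])))))) (.node (.node (.node (.node (.node (.leaf (.up 13 2220 [2628] 1299 [110,176,199])) (.leaf (.up 11 3701 [2501] 0 [94,90,132]))) (.node (.leaf (.up 15 3149 [2628] 1299 [57,93,91,142])) (.leaf (.up 14 3792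 [2628] 1299 [57,55,155,219])))) (.node (.node (.leaf (.up 16 3685 [2501] 0 [88,110,150])) (.leaf (.up 11 3645 [2501] 0 [87,89,102]))) (.node (.leaf (.up 8 1039 [2501] 0 [87,94,44,161])) (.leaf (.up 15 3593 [2501] 0 [87,110,176,77]))))) (.node (.node (.node (.leaf (.up 13 2646 [2628] 1299 [87,93,104,150])) (.leaf (.up 11 2547 [2628] 1299 [57,110,90,36]))) (.node (.leaf (.up 14 2931 [2501] 0 [87,94,43,213])) (.leaf (.up 10 1051 [2501] 0 [94,104,162])))) (.node (.node (.leaf (.up 10 2366 [2501] 0 [88,55,90,216])) (.leaf (.up 11 2711 [2501] 0 [88,110,176,197]))) (.leaf (.up 10 2905 [2628] 1299 [88,94,89,237]))))) (.node (.node (.node (.node (.leaf (.up 10 1907 [2628] 1299 [140,5])) (.leaf (.up 6 3408 [2501] 0 [87,110,91,240]))) (.node (.leaf (.up 13 3018 [2501] 0 [87,93,91,187])) (.leaf (.up 12 274 [2501] 0 [56,123,75])))) (.node (.node (.leaf (.up 8 3722 [2628] 1299 [88,110,43,204])) (.leaf (.up 10 1999 [2501] 0 [88,56,104,169]))) (.node (.leaf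 (.up 15 1992 [2628] 1299 [55,123,143])) (.leaf (.up 13 528 [2501] 0 [87,93,89,99]))))) (.node (.node (.node (.leaf (.up 6 987 [2628] 1299 [90,92])) (.leaf (.up 13 2590 [2628] 1299 [94,42,234]))) (.node (.leaf (.up 9 3602 [2501] 0 [55,90,199])) (.leaf (.up 9 3147 [2501] 0 [93,123,170])))) (.node (.node (.leaf (.up 9 3113 [2501] 0 [57,55,89,167])) (.leaf (.up 12 1195 [2501] 0 [93,176,77]))) (.leaf (.up 13 118 [2628] 1299 [88,94,89,245]))))))) (.node (.node (.node (.node (.node (.node (.leaf (.up 14 1316 [2628] 1299 [56,140,214])) (.leaf (.up 3 3375 [2501] 0 [55,44,223]))) (.node (.leaf (.up 11 934 [2628] 1299 [87,55,116,152])) (.leaf (.up 8 265 [2628] 1299 [55,42,202])))) (.node (.node (.leaf (.up 11 2729 [2628] 1299 [87,56,33])) (.leaf (.up 11 949 [2628] 1299 [57,56,91,221]))) (.node (.leaf (.up 9 2444 [2628] 1299 [88,110,155,237])) (.leaf (.up 8 3745 [2628] 1299 [87,55,104,142]))))) (.node (.node (.node (.leaf (.up 10 1632 [2501] 0 [88,110,91,142]))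 (.leaf (.up 14 3105 [2501] 0 [57,56,0]))) (.node (.leaf (.up 13 3063 [2501] 0 [87,110,155,199])) (.leaf (.up 10 3254 [2628] 1299 [87,91,217])))) (.node (.node (.leaf (.up 16 3347 [2501] 0 [88,93,43,183])) (.leaf (.up 1 0 [2628] 1299 [87,94,104,98]))) (.leaf (.up 11 2765 [2501] 0 [44,113]))))) (.node (.node (.node (.node (.leaf (.up 8 822 [2628] 1299 [88,93,42,130])) (.leaf (.up 11 476 [2501] 0 [88,110,42,213]))) (.node (.leaf (.up 6 3078 [2501] 0 [57,56,104,15])) (.leaf (.up 14 2370 [2628] 1299 [56,104,189])))) (.node (.node (.leaf (.up 15 1088 [2501] 0 [88,55,123,115])) (.leaf (.up 10 1843 [2501] 0 [94,43,9]))) (.node (.leaf (.up 10 1922 [2628] 1299 [87,93,89,222])) (.leaf (.up 10 2659 [2501] 0 [57,55,43,248]))))) (.node (.node (.node (.leaf (.up 5 285 [2501] 0 [57,93,42,190])) (.leaf (.up 10 2734 [2501] 0 [87,110,162]))) (.node (.leaf (.up 14 3005 [2501] 0 [94,43,189])) (.leaf (.up 10 3776 [2628] 1299 [56,176,240])))) (.node (.node (.leaf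 (.up 8 3699 [2628] 1299 [57,94,229])) (.leaf (.up 12 929 [2501] 0 [57,93,42,197]))) (.leaf (.up 14 598 [2628] 1299 [88,110,43,97])))))) (.node (.node (.node (.node (.node (.leaf (.up 6 1300 [2501] 0 [87,110,176,16])) (.leaf (.up 9 1653 [2501] 0 [57,94,123,209]))) (.node (.leaf (.up 12 649 [2628] 1299 [110,203])) (.leaf (.up 14 3008 [2628] 1299 [224])))) (.node (.node (.leaf (.up 7 754 [2628] 1299 [94,116,161])) (.leaf (.up 11 2838 [2501] 0 [88,94,103,225]))) (.node (.leaf (.up 10 1986 [2628] 1299 [94,103,193])) (.leaf (.up 10 2700 [2628] 1299 [110,91,152]))))) (.node (.node (.node (.leaf (.up 11 3624 [2628] 1299 [87,94,90,122])) (.leaf (.up 10 979 [2501] 0 [116,117]))) (.node (.leaf (.up 9 2057 [2628] 1299 [55,206])) (.leaf (.up 9 1908 [2628] 1299 [88,94,103,245])))) (.node (.node (.leaf (.up 14 3712 [2628] 1299 [88,56,104,182])) (.leaf (.up 12 3479 [2501] 0 [87,56,91,139]))) (.leaf (.up 10 1077 [2628] 1299 [57,93,44,194]))))) (.node (.node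 (.node (.node (.leaf (.up 14 3281 [2628] 1299 [87,55,42,208])) (.leaf (.up 12 2510 [2501] 0 [87,93,155,101]))) (.node (.leaf (.up 5 2070 [2501] 0 [57,93,140,177])) (.leaf (.up 12 2758 [2628] 1299 [87,90,92])))) (.node (.node (.leaf (.up 7 42 [2628] 1299 [57,56,176,212])) (.leaf (.up 10 2241 [2628] 1299 [88,56,103,159]))) (.leaf (.up 13 1762 [2501] 0 [87,110,123,170])))) (.node (.node (.node (.leaf (.up 9 1861 [2628] 1299 [87,56,154])) (.leaf (.up 11 2303 [2628] 1299 [90,216]))) (.node (.leaf (.up 13 1008 [2628] 1299 [87,55,140,137])) (.leaf (.up 1 5 [2501] 0 [57,110,140,11])))) (.node (.node (.leaf (.up 4 3081 [2501] 0 [93,176,200])) (.leaf (.up 14 3016 [2628] 1299 [57,55,89,231]))) (.leaf (.up 13 2168 [2628] 1299 [57,56,176,6])))))))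

noncomputable def trio6_10011 : Tr TStep :=
  .node (.node (.node (.node (.node (.node (.node (.leaf (.up 12 3427 [2501] 0 [110,91,108])) (.leaf (.up 12 2380 [2628] 1299 [88,93,155,174]))) (.node (.leaf (.up 7 726 [2628] 1299 [88,55,123,20])) (.leaf (.up 11 2045 [2501] 0 [88,55,42,201])))) (.node (.node (.leaf (.up 15 2254 [2628] 1299 [87,56,42,187])) (.leaf (.up 11 2155 [2628] 1299 [57,56,89,129]))) (.node (.leaf (.up 10 2995 [2628] 1299 [87,94,43,191])) (.leaf (.up 12 466 [2628] 1299 [88,123,132]))))) (.node (.node (.node (.leaf (.up 14 141 [2501] 0 [87,56,155,210])) (.leaf (.up 13 3655 [2628] 1299 [57,56,123,18]))) (.node (.leaf (.up 5 3352 [2628] 1299 [116,239])) (.leaf (.up 8 745 [2501] 0 [57,110,103,61])))) (.node (.node (.leaf (.up 7 3277 [2628] 1299 [87,140,22])) (.leaf (.up 14 438 [2628] 1299 [88,140,132]))) (.leaf (.up 13 825 [2501] 0 [87,55,89,136]))))) (.node (.node (.node (.node (.leaf (.up 9 937 [2501] 0 [57,94,123,157])) (.leaf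 (.up 8 3130 [2501] 0 [55,116,131]))) (.node (.leaf (.up 9 1691 [2628] 1299 [88,55,89,189])) (.leaf (.up 12 911 [2501] 0 [87,93,90,20])))) (.node (.node (.leaf (.up 12 65 [2628] 1299 [87,44,130])) (.leaf (.up 8 2349 [2628] 1299 [87,94,176,15]))) (.node (.leaf (.up 13 204 [2628] 1299 [57,94,44,2])) (.leaf (.up 13 1147 [2628] 1299 [93,90,242]))))) (.node (.node (.node (.leaf (.up 4 8 [2628] 1299 [55,42,162])) (.leaf (.up 6 178 [2501] 0 [88,55,44,165]))) (.node (.leaf (.up 16 2009 [2628] 1299 [44,219])) (.leaf (.up 9 2210 [2501] 0 [88,110,116,114])))) (.node (.node (.leaf (.up 12 3457 [2628] 1299 [56,103,59])) (.leaf (.up 9 839 [2628] 1299 [55,176,74]))) (.leaf (.up 10 1107 [2501] 0 [88,103,216])))))) (.node (.node (.node (.node (.node (.leaf (.up 13 799 [2628] 1299 [88,55,214])) (.leaf (.up 7 3 [2628] 1299 [88,43,187]))) (.node (.leaf (.up 9 500 [2501] 0 [87,93,123,150])) (.leaf (.up 13 2029 [2628] 1299 [57,55,89,156])))) (.node (.node (.leaf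 (.up 9 3607 [2501] 0 [88,176,137])) (.leaf (.up 11 238 [2628] 1299 [88,93,140,224]))) (.node (.leaf (.up 13 289 [2501] 0 [87,56,105])) (.leaf (.up 11 3320 [2501] 0 [57,43,12]))))) (.node (.node (.node (.leaf (.up 12 1266 [2501] 0 [87,55,89,158])) (.leaf (.up 15 171 [2628] 1299 [110,140,193]))) (.node (.leaf (.up 6 2577 [2501] 0 [57,56,43,225])) (.leaf (.up 12 3470 [2501] 0 [88,42,134])))) (.node (.node (.leaf (.up 9 3361 [2501] 0 [88,104,153])) (.leaf (.up 9 3429 [2501] 0 [56,42,202]))) (.leaf (.up 13 738 [2501] 0 [88,56,43,75]))))) (.node (.node (.node (.node (.leaf (.up 12 3222 [2628] 1299 [90,219])) (.leaf (.up 9 2599 [2628] 1299 [88,110,176,183]))) (.node (.leaf (.up 15 3217 [2628] 1299 [57,93,103,127])) (.leaf (.up 9 3691 [2501] 0 [94,43,76])))) (.node (.node (.leaf (.up 14 2825 [2628] 1299 [123,218])) (.leaf (.up 14 3101 [2628] 1299 [88,56,105]))) (.leaf (.up 17 2678 [2501] 0 [87,42,237])))) (.node (.node (.node (.leaf (.up 12 45 [2501]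 0 [87,55,155,164])) (.leaf (.up 12 1195 [2628] 1299 [57,110,44,248]))) (.node (.leaf (.up 3 261 [2628] 1299 [88,56,43,247])) (.leaf (.up 11 2145 [2501] 0 [56,91,154])))) (.node (.node (.leaf (.up 8 1571 [2628] 1299 [88,44,107])) (.leaf (.up 14 1975 [2501] 0 [94,123,168]))) (.leaf (.up 15 1041 [2628] 1299 [87,55,116,119]))))))) (.node (.node (.node (.node (.node (.node (.leaf (.up 4 1831 [2501] 0 [87,110,104,220])) (.leaf (.up 7 2424 [2628] 1299 [57,89,33]))) (.node (.leaf (.up 13 403 [2501] 0 [88,44,142])) (.leaf (.up 13 140 [2501] 0 [57,93,104,112])))) (.node (.node (.leaf (.up 13 2756 [2501] 0 [87,110,42,241])) (.leaf (.up 6 223 [2501] 0 [88,55,44,187]))) (.node (.leaf (.up 6 2516 [2501] 0 [88,110,176,72])) (.leaf (.up 9 2697 [2628] 1299 [93,155,127]))))) (.node (.node (.node (.leaf (.up 14 2819 [2628] 1299 [88,176,71])) (.leaf (.up 9 2728 [2501] 0 [88,94,116,178]))) (.node (.leaf (.up 9 1869 [2501] 0 [57,93,44,228])) (.leaf (.up 9 428 [2628]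 1299 [57,55,176,174])))) (.node (.node (.leaf (.up 12 1895 [2628] 1299 [88,55,44,108])) (.leaf (.up 10 3268 [2501] 0 [88,55,116,119]))) (.leaf (.up 8 387 [2501] 0 [88,110,43,223]))))) (.node (.node (.node (.node (.leaf (.up 14 3062 [2501] 0 [88,55,155,96])) (.leaf (.up 12 579 [2628] 1299 [140,109]))) (.node (.leaf (.up 15 515 [2501] 0 [93,140,248])) (.leaf (.up 13 671 [2628] 1299 [57,103,185])))) (.node (.node (.leaf (.up 13 2402 [2628] 1299 [87,94,42,60])) (.leaf (.up 9 417 [2628] 1299 [94,43,99]))) (.node (.leaf (.up 9 2182 [2501] 0 [88,55,44,113])) (.leaf (.up 12 3703 [2501] 0 [57,55,89,11]))))) (.node (.node (.node (.leaf (.up 9 216 [2628] 1299 [88,176,162])) (.leaf (.up 14 2074 [2501] 0 [55,116,162]))) (.node (.leaf (.up 5 1001 [2628] 1299 [90,153])) (.leaf (.up 5 1700 [2628] 1299 [57,89,147])))) (.node (.node (.leaf (.up 11 1757 [2501] 0 [90,119])) (.leaf (.up 11 3541 [2628] 1299 [87,93,43,34]))) (.leaf (.up 10 2676 [2628] 1299 [88,56,42,167]))))))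 (.node (.node (.node (.node (.node (.leaf (.up 13 3024 [2628] 1299 [88,91,230])) (.leaf (.up 11 2882 [2628] 1299 [55,43,25]))) (.node (.leaf (.up 14 2731 [2628] 1299 [87,123,151])) (.leaf (.up 12 2742 [2501] 0 [94,103,200])))) (.node (.node (.leaf (.up 11 210 [2501] 0 [57,56,153])) (.leaf (.up 10 2205 [2501] 0 [57,110,42,199]))) (.node (.leaf (.up 15 968 [2501] 0 [110,104,69])) (.leaf (.up 11 3472 [2628] 1299 [93,91,107]))))) (.node (.node (.node (.leaf (.up 15 2326 [2501] 0 [57,110,103,127])) (.leaf (.up 9 3688 [2628] 1299 [93,116,205]))) (.node (.leaf (.up 15 734 [2501] 0 [87,110,104,182])) (.leaf (.up 10 709 [2628] 1299 [57,110,103,128])))) (.node (.node (.leaf (.up 12 112 [2501] 0 [87,93,42,192])) (.leaf (.up 8 1040 [2501] 0 [87,103,96]))) (.leaf (.up 9 3634 [2628] 1299 [57,94,91,192]))))) (.node (.node (.node (.node (.leaf (.up 17 1631 [2501] 0 [57,43,225])) (.leaf (.up 11 1543 [2501] 0 [88,56,176,119]))) (.node (.leaf (.up 11 2384 [2628]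 1299 [88,110,140,18])) (.leaf (.up 15 535 [2501] 0 [88,94,116,239])))) (.node (.node (.leaf (.up 8 1064 [2501] 0 [57,123,192])) (.leaf (.up 4 485 [2501] 0 [88,90,76]))) (.leaf (.up 12 1255 [2628] 1299 [57,110,102])))) (.node (.node (.node (.leaf (.up 7 1593 [2628] 1299 [87,89,112])) (.leaf (.up 11 1896 [2628] 1299 [110,141]))) (.node (.leaf (.up 12 3323 [2628] 1299 [87,94,235])) (.leaf (.up 12 1086 [2501] 0 [57,56,123,221])))) (.node (.node (.leaf (.up 8 3647 [2501] 0 [56,123,169])) (.leaf (.up 14 3490 [2628] 1299 [57,56,91,128]))) (.leaf (.up 12 3515 [2501] 0 [57,104,175])))))))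

noncomputable def trio6_1001 : Tr TStep := .node trio6_10010 trio6_10011

noncomputable def trio6_100 : Tr TStep := .node trio6_1000 trio6_1001

noncomputable def trio6_10100 : Tr TStep :=
  .node (.node (.node (.node (.node (.node (.node (.leaf (.root 4)) (.leaf (.up 13 2168 [2501] 0 [94,89,201]))) (.node (.leaf (.up 15 312 [2628] 1299 [56,44,203])) (.leaf (.up 6 1788 [2501] 0 [87,140,126])))) (.node (.node (.leaf (.up 9 1392 [2628] 1299 [88,91,18])) (.leaf (.up 3 3375 [2628] 1299 [57,56,116,105]))) (.node (.leaf (.up 15 62 [2628] 1299 [57,116,222])) (.leaf (.up 13 1673 [2501] 0 [110,44,34]))))) (.node (.node (.node (.leaf (.up 2 3230 [2501] 0 [88,110,176,211])) (.leaf (.up 11 3543 [2501] 0 [56,44,156]))) (.node (.leaf (.up 14 912 [2628] 1299 [110,91,115])) (.leaf (.up 12 3783 [2501] 0 [88,110,140,150])))) (.node (.node (.leaf (.up 1 5 [2628] 1299 [87,110,104,158])) (.leaf (.up 5 786 [2501] 0 [87,56,89,142]))) (.leaf (.up 13 27 [2501] 0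 [110,91,219]))))) (.node (.node (.node (.node (.leaf (.up 13 7 [2628] 1299 [94,123,234])) (.leaf (.up 7 2595 [2628] 1299 [94,89,117]))) (.node (.leaf (.up 14 638 [2628] 1299 [57,94,116,207])) (.leaf (.up 13 3769 [2628] 1299 [88,55,140,200])))) (.node (.node (.leaf (.up 13 3599 [2628] 1299 [94,42,36])) (.leaf (.up 9 2877 [2628] 1299 [57,93,155,234]))) (.node (.leaf (.up 11 74 [2628] 1299 [87,55,123,141])) (.leaf (.up 10 2858 [2628] 1299 [88,94,140,143]))))) (.node (.node (.node (.leaf (.up 9 1131 [2628] 1299 [57,110,104,173])) (.leaf (.up 13 1761 [2628] 1299 [57,94,89,65]))) (.node (.leaf (.up 14 3504 [2628] 1299 [88,55,112])) (.leaf (.up 14 181 [2628] 1299 [87,116,73])))) (.node (.node (.leaf (.up 13 206 [2501] 0 [87,44,11])) (.leaf (.up 12 1940 [2628] 1299 [110,103,3]))) (.leaf (.up 16 717 [2628] 1299 [57,56,173])))))) (.node (.node (.node (.node (.node (.leaf (.up 12 1121 [2501] 0 [88,176,237])) (.leaf (.up 13 429 [2628] 1299 [88,56,155,242])))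 (.node (.leaf (.up 14 1993 [2628] 1299 [88,91,156])) (.leaf (.up 14 790 [2628] 1299 [88,176,12])))) (.node (.node (.leaf (.up 15 1581 [2628] 1299 [88,56,140,208])) (.leaf (.up 10 2291 [2628] 1299 [57,43,59]))) (.node (.leaf (.up 10 1821 [2628] 1299 [87,91])) (.leaf (.up 9 164 [2501] 0 [88,93,140,92]))))) (.node (.node (.node (.leaf (.up 6 1886 [2628] 1299 [88,93,155,210])) (.leaf (.up 7 2563 [2628] 1299 [87,93,123,9]))) (.node (.leaf (.up 12 2553 [2501] 0 [57,93,42,118])) (.leaf (.up 11 3455 [2501] 0 [57,56,89,237])))) (.node (.node (.leaf (.up 9 544 [2501] 0 [93,43,147])) (.leaf (.up 13 2978 [2501] 0 [87,55,104,238]))) (.leaf (.up 8 1582 [2628] 1299 [87,110,44,156]))))) (.node (.node (.node (.node (.leaf (.up 14 3423 [2628] 1299 [88,110,134])) (.leaf (.up 13 1462 [2501] 0 [87,110,116,179]))) (.node (.leaf (.up 13 2824 [2501] 0 [110,89,197])) (.leaf (.up 10 2082 [2628] 1299 [88,44,111])))) (.node (.node (.leaf (.up 9 3639 [2628] 1299 [57,110,123,200]))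 (.leaf (.up 11 2416 [2628] 1299 [87,55,43,168]))) (.node (.leaf (.up 12 1973 [2501] 0 [87,56,116,221])) (.leaf (.up 13 198 [2628] 1299 [88,44,168]))))) (.node (.node (.node (.leaf (.up 12 1781 [2501] 0 [57,55,123,223])) (.leaf (.up 12 1891 [2501] 0 [56,44,27]))) (.node (.leaf (.up 5 409 [2501] 0 [57,94,44,185])) (.leaf (.up 4 14 [2628] 1299 [88,93,44,168])))) (.node (.node (.leaf (.up 14 2518 [2501] 0 [88,55,90,133])) (.leaf (.up 9 1878 [2501] 0 [94,89,193]))) (.leaf (.up 8 122 [2628] 1299 [87,110,42,179]))))))) (.node (.node (.node (.node (.node (.node (.leaf (.up 10 245 [2501] 0 [87,55,123,190])) (.leaf (.up 6 913 [2628] 1299 [88,110,44,18]))) (.node (.leaf (.up 11 2027 [2501] 0 [55,43,5])) (.leaf (.up 9 2947 [2501] 0 [57,104,105])))) (.node (.node (.leaf (.up 10 430 [2628] 1299 [110,103,227])) (.leaf (.up 11 1559 [2628] 1299 [88,110,140,154]))) (.node (.leaf (.up 12 1714 [2501] 0 [57,56,140,209])) (.leaf (.up 7 3388 [2628] 1299 [88,55,123,185])))))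 (.node (.node (.node (.leaf (.up 15 1618 [2501] 0 [94,104,151])) (.leaf (.up 15 3118 [2628] 1299 [87,93,42,6]))) (.node (.leaf (.up 12 1238 [2501] 0 [87,93,15])) (.leaf (.up 15 3585 [2501] 0 [57,110,44,243])))) (.node (.node (.leaf (.up 10 2840 [2628] 1299 [87,56,123,150])) (.leaf (.up 11 369 [2628] 1299 [57,110,90,105]))) (.leaf (.up 8 1387 [2628] 1299 [116,137]))))) (.node (.node (.node (.node (.leaf (.up 15 3092 [2501] 0 [57,93,42,108])) (.leaf (.up 11 1526 [2628] 1299 [87,56,89,215]))) (.node (.leaf (.up 10 156 [2628] 1299 [57,94,116,96])) (.leaf (.up 6 292 [2628] 1299 [94,103,37])))) (.node (.node (.leaf (.up 9 3691 [2628] 1299 [87,110,104,231])) (.leaf (.up 12 3778 [2501] 0 [110,90,134]))) (.node (.leaf (.up 13 3432 [2501] 0 [87,93,104,36])) (.leaf (.up 11 3107 [2501] 0 [88,55,89,129]))))) (.node (.node (.node (.leaf (.up 13 399 [2501] 0 [88,56,140,208])) (.leaf (.up 4 3081 [2628] 1299 [87,94,89,25]))) (.node (.leaf (.up 7 626 [2501]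 0 [57,110,89,165])) (.leaf (.up 9 3695 [2501] 0 [104,22])))) (.node (.node (.leaf (.up 10 1789 [2628] 1299 [88,56,155,221])) (.leaf (.up 12 2036 [2628] 1299 [88,110,104,4]))) (.leaf (.up 13 2655 [2628] 1299 [93,104,229])))))) (.node (.node (.node (.node (.node (.leaf (.up 11 1402 [2628] 1299 [87,93,89,169])) (.leaf (.up 12 1834 [2501] 0 [56,91,18]))) (.node (.leaf (.up 6 1477 [2628] 1299 [94,140,199])) (.leaf (.up 9 3221 [2628] 1299 [93,44,106])))) (.node (.node (.leaf (.up 12 3783 [2628] 1299 [55,123,46])) (.leaf (.up 15 3426 [2628] 1299 [87,93,89,6]))) (.node (.leaf (.up 11 116 [2501] 0 [87,93,176,227])) (.leaf (.up 15 2489 [2628] 1299 [87,110,140,92]))))) (.node (.node (.node (.leaf (.up 13 1965 [2628] 1299 [88,43,115])) (.leaf (.up 13 872 [2501] 0 [87,93,42,173]))) (.node (.leaf (.up 13 3454 [2501] 0 [88,55,104,144])) (.leaf (.up 8 905 [2628] 1299 [87,94,104,124])))) (.node (.node (.leaf (.up 4 667 [2628] 1299 [88,94,89,16])) (.leaf (.up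 14 600 [2501] 0 [56,104,229]))) (.leaf (.up 14 909 [2628] 1299 [57,94,155,36]))))) (.node (.node (.node (.node (.leaf (.up 14 1227 [2501] 0 [88,55,89,105])) (.leaf (.up 7 751 [2628] 1299 [57,56,89,30]))) (.node (.leaf (.up 9 1284 [2501] 0 [87,94,123,101])) (.leaf (.up 13 563 [2501] 0 [87,110,155,170])))) (.node (.node (.leaf (.up 13 3739 [2501] 0 [57,55,104,131])) (.leaf (.up 6 1318 [2628] 1299 [57,176,196]))) (.leaf (.up 16 1148 [2501] 0 [88,155,60])))) (.node (.node (.node (.leaf (.up 3 276 [2628] 1299 [93,44,219])) (.leaf (.up 8 2068 [2501] 0 [87,94,44,144]))) (.node (.leaf (.up 9 3557 [2628] 1299 [55,44,135])) (.leaf (.up 8 905 [2501] 0 [87,94,123,133])))) (.node (.node (.leaf (.up 12 3134 [2628] 1299 [57,93,140,141])) (.leaf (.up 12 468 [2628] 1299 [57,123,150]))) (.leaf (.up 12 618 [2501] 0 [57,94,44,4])))))))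

noncomputable def trio6_10101 : Tr TStep :=
  .node (.node (.node (.node (.node (.node (.node (.leaf (.up 13 3702 [2628] 1299 [57,110,103,181])) (.leaf (.up 14 2251 [2501] 0 [56,43,7]))) (.node (.leaf (.up 14 2449 [2501] 0 [57,56,91,239])) (.leaf (.up 14 2053 [2628] 1299 [93,176,109])))) (.node (.node (.leaf (.up 9 1442 [2501] 0 [57,55,140,167])) (.leaf (.up 15 63 [2501] 0 [93,201]))) (.node (.leaf (.up 12 1162 [2628] 1299 [57,94,90,230])) (.leaf (.up 12 1562 [2628] 1299 [87,43,174]))))) (.node (.node (.node (.leaf (.up 6 2776 [2628] 1299 [57,155,159])) (.leaf (.up 12 1061 [2501] 0 [57,55,42,132]))) (.node (.leaf (.up 13 1056 [2501] 0 [57,140,142])) (.leaf (.up 15 334 [2501] 0 [57,93,90,8])))) (.node (.node (.leaf (.up 15 3093 [2501] 0 [57,55,90,148])) (.leaf (.up 10 601 [2628] 1299 [88,155,0]))) (.leaf (.up 3 1808 [2628] 1299 [55,42,22]))))) (.node (.node (.node (.node (.leaf (.up 14 828 [2501] 0 [87,93,42,76])) (.leaf (.up 11 2818 [2628]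 1299 [57,110,142]))) (.node (.leaf (.up 13 1240 [2628] 1299 [123,65])) (.leaf (.up 8 3745 [2501] 0 [57,55,43,122])))) (.node (.node (.leaf (.up 11 1189 [2628] 1299 [57,155,3])) (.leaf (.up 13 2367 [2501] 0 [87,176,246]))) (.node (.leaf (.up 7 1603 [2628] 1299 [88,55,160])) (.leaf (.up 12 2007 [2628] 1299 [57,93,155,189]))))) (.node (.node (.node (.leaf (.up 15 2741 [2501] 0 [56,90,128])) (.leaf (.up 13 1155 [2628] 1299 [87,110,1]))) (.node (.leaf (.up 15 1145 [2501] 0 [87,55,43,109])) (.leaf (.up 9 879 [2628] 1299 [57,55,116,27])))) (.node (.node (.leaf (.up 11 710 [2501] 0 [87,94,103,7])) (.leaf (.up 12 764 [2501] 0 [55,90,106]))) (.leaf (.up 16 1912 [2501] 0 [88,56,116,141])))))) (.node (.node (.node (.node (.node (.leaf (.up 10 3481 [2628] 1299 [110,91,34])) (.leaf (.up 6 851 [2501] 0 [57,56,123,174]))) (.node (.leaf (.up 9 1971 [2501] 0 [94,77])) (.leaf (.up 14 795 [2628] 1299 [87,56,176,111])))) (.node (.node (.leaf (.up 15 2339 [2628]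 1299 [87,56,43,33])) (.leaf (.up 11 1222 [2501] 0 [93,43,247]))) (.node (.leaf (.up 11 3786 [2501] 0 [87,110,123,190])) (.leaf (.up 13 257 [2628] 1299 [93,155,215]))))) (.node (.node (.node (.leaf (.up 14 2150 [2628] 1299 [56,111])) (.leaf (.up 10 831 [2628] 1299 [57,93,89,215]))) (.node (.leaf (.up 16 146 [2501] 0 [56,104,213])) (.leaf (.up 13 2288 [2501] 0 [94,140,23])))) (.node (.node (.leaf (.up 13 2231 [2501] 0 [57,94,103,33])) (.leaf (.up 8 2299 [2628] 1299 [57,103,23]))) (.leaf (.up 9 2688 [2501] 0 [88,56,44,13]))))) (.node (.node (.node (.node (.leaf (.up 14 922 [2501] 0 [57,110,176,148])) (.leaf (.up 11 2522 [2628] 1299 [87,93,176,152]))) (.node (.leaf (.up 7 1472 [2501] 0 [87,110,116,182])) (.leaf (.up 3 2525 [2501] 0 [93,90,245])))) (.node (.node (.leaf (.up 14 2405 [2628] 1299 [87,93,44,163])) (.leaf (.up 5 2635 [2628] 1299 [88,155,157]))) (.leaf (.up 12 2758 [2501] 0 [110,116,184])))) (.node (.node (.node (.leaf (.up 6 3317 [2628]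 1299 [87,44,141])) (.leaf (.up 15 2115 [2501] 0 [88,110,89,77]))) (.node (.leaf (.up 9 260 [2628] 1299 [57,110,123,235])) (.leaf (.up 10 3242 [2628] 1299 [57,93,89,12])))) (.node (.node (.leaf (.up 9 904 [2628] 1299 [123,167])) (.leaf (.up 11 2003 [2628] 1299 [57,55,140,71]))) (.leaf (.up 14 836 [2628] 1299 [87,110,91,220]))))))) (.node (.node (.node (.node (.node (.node (.leaf (.up 10 802 [2501] 0 [88,93,43,4])) (.leaf (.up 7 2925 [2501] 0 [57,89,244]))) (.node (.leaf (.up 9 1392 [2501] 0 [88,55,42,163])) (.leaf (.up 11 78 [2501] 0 [94,155,119])))) (.node (.node (.leaf (.up 10 1923 [2628] 1299 [87,55,123,156])) (.leaf (.up 4 1004 [2628] 1299 [87,110,42,190]))) (.node (.leaf (.up 9 3288 [2628] 1299 [88,93,209])) (.leaf (.up 9 763 [2501] 0 [43,18]))))) (.node (.node (.node (.leaf (.up 12 2685 [2628] 1299 [57,94,103,101])) (.leaf (.up 12 3026 [2628] 1299 [88,110,140,124]))) (.node (.leaf (.up 14 322 [2501] 0 [57,55,89,247])) (.leaf (.up 11 35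 [2628] 1299 [116,173])))) (.node (.node (.leaf (.up 3 1448 [2501] 0 [88,55,104,12])) (.leaf (.up 12 2333 [2628] 1299 [87,93,90,112]))) (.leaf (.up 8 616 [2628] 1299 [88,93,116,120]))))) (.node (.node (.node (.node (.leaf (.up 13 236 [2501] 0 [87,56,116,144])) (.leaf (.up 10 3339 [2628] 1299 [88,56,123,134]))) (.node (.leaf (.up 15 388 [2501] 0 [87,93,44,179])) (.leaf (.up 14 3612 [2501] 0 [57,55,104,212])))) (.node (.node (.leaf (.up 10 2962 [2501] 0 [88,94,103,195])) (.leaf (.up 14 398 [2628] 1299 [87,94,103,214]))) (.node (.leaf (.up 8 107 [2628] 1299 [110,104,107])) (.leaf (.up 10 2418 [2628] 1299 [88,56,155,238]))))) (.node (.node (.node (.leaf (.up 14 2543 [2628] 1299 [57,56,43,212])) (.leaf (.up 10 1801 [2628] 1299 [57,94,89,132]))) (.node (.leaf (.up 13 2620 [2501] 0 [87,123,248])) (.leaf (.up 13 2949 [2501] 0 [88,56,123,60])))) (.node (.node (.leaf (.up 10 2427 [2501] 0 [87,55,167])) (.leaf (.up 9 3548 [2501] 0 [91,246]))) (.leaf (.up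 11 835 [2628] 1299 [87,56,103,223])))))) (.node (.node (.node (.node (.node (.leaf (.up 10 2427 [2628] 1299 [57,94,123,31])) (.leaf (.up 15 1328 [2628] 1299 [94,42,106]))) (.node (.leaf (.up 13 1785 [2501] 0 [88,55,218])) (.leaf (.up 12 3680 [2501] 0 [88,56,42,36])))) (.node (.node (.leaf (.up 6 425 [2501] 0 [57,55,44,134])) (.leaf (.up 12 1746 [2628] 1299 [87,56,91,231]))) (.node (.leaf (.up 8 188 [2501] 0 [110,91,9])) (.leaf (.up 10 3586 [2501] 0 [56,90,111]))))) (.node (.node (.node (.leaf (.up 14 3346 [2501] 0 [87,56,116,115])) (.leaf (.up 6 2653 [2501] 0 [87,94,104,182]))) (.node (.leaf (.up 12 278 [2501] 0 [87,93,123,233])) (.leaf (.up 12 1895 [2501] 0 [87,110,43,20])))) (.node (.node (.leaf (.up 10 163 [2501] 0 [88,43,143])) (.leaf (.up 10 2241 [2501] 0 [88,55,103,199]))) (.leaf (.up 5 514 [2628] 1299 [57,94,89,209]))))) (.node (.node (.node (.node (.leaf (.up 9 3729 [2628] 1299 [88,110,103,121])) (.leaf (.up 12 776 [2501] 0 [88,93,44,222])))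 (.node (.leaf (.up 15 3338 [2628] 1299 [87,155,151])) (.leaf (.up 5 1715 [2628] 1299 [88,93,89,192])))) (.node (.node (.leaf (.up 10 151 [2628] 1299 [57,155,74])) (.leaf (.up 10 1782 [2501] 0 [155,230]))) (.leaf (.up 11 2353 [2501] 0 [57,55,123,130])))) (.node (.node (.node (.leaf (.up 7 2457 [2501] 0 [87,55,42,107])) (.leaf (.up 13 1028 [2628] 1299 [110,90,228]))) (.node (.leaf (.up 11 3624 [2501] 0 [110,91,111])) (.leaf (.up 14 645 [2628] 1299 [94,43,69])))) (.node (.node (.leaf (.up 9 705 [2501] 0 [116,244])) (.leaf (.up 14 2591 [2501] 0 [57,110,103,184]))) (.leaf (.up 9 2732 [2501] 0 [94,91,175])))))))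

noncomputable def trio6_1010 : Tr TStep := .node trio6_10100 trio6_10101

noncomputable def trio6_10110 : Tr TStep :=
  .node (.node (.node (.node (.node (.node (.node (.leaf (.up 13 2957 [2628] 1299 [87,55,140,30])) (.leaf (.up 14 944 [2501] 0 [55,104,157]))) (.node (.leaf (.up 13 12 [2628] 1299 [87,94,104,96])) (.leaf (.up 8 362 [2501] 0 [88,110,140,129])))) (.node (.node (.leaf (.up 8 783 [2501] 0 [57,110,176,92])) (.leaf (.up 13 2266 [2628] 1299 [94,155,159]))) (.node (.leaf (.up 11 3721 [2628] 1299 [88,56,155,171])) (.leaf (.up 12 40 [2501] 0 [57,94,96]))))) (.node (.node (.node (.leaf (.up 7 3656 [2501] 0 [88,55,123,211])) (.leaf (.up 9 544 [2628] 1299 [88,94,155,195]))) (.node (.leaf (.up 14 1225 [2628] 1299 [57,110,43,191])) (.leaf (.up 7 239 [2628] 1299 [93,140,177])))) (.node (.node (.leaf (.up 11 1222 [2628] 1299 [110,209])) (.leaf (.up 9 99 [2501] 0 [88,94,89,69]))) (.leaf (.up 10 153 [2628] 1299 [57,110,155,22]))))) (.node (.node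 (.node (.node (.leaf (.up 13 3318 [2628] 1299 [88,93,140,34])) (.leaf (.up 12 956 [2628] 1299 [87,93,43,195]))) (.node (.leaf (.up 14 2196 [2501] 0 [57,103,37])) (.leaf (.up 13 2084 [2501] 0 [87,110,103,200])))) (.node (.node (.leaf (.up 14 1515 [2501] 0 [94,123,207])) (.leaf (.up 12 627 [2501] 0 [57,93,155,21]))) (.node (.leaf (.up 10 55 [2628] 1299 [88,94,104,33])) (.leaf (.up 13 399 [2628] 1299 [88,56,43,173]))))) (.node (.node (.node (.leaf (.up 16 405 [2628] 1299 [123])) (.leaf (.up 6 2643 [2501] 0 [88,10]))) (.node (.leaf (.up 12 2785 [2501] 0 [57,93,232])) (.leaf (.up 8 3384 [2628] 1299 [89,206])))) (.node (.node (.leaf (.up 13 1332 [2501] 0 [88,110,103,206])) (.leaf (.up 12 2712 [2501] 0 [55,90,132]))) (.leaf (.up 4 1497 [2628] 1299 [88,56,89,121])))))) (.node (.node (.node (.node (.node (.leaf (.up 10 3197 [2628] 1299 [88,56,116,102])) (.leaf (.up 13 2536 [2501] 0 [56,89,135]))) (.node (.leaf (.up 8 1423 [2628] 1299 [93,140,218]))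 (.leaf (.up 14 2296 [2628] 1299 [87,55,8])))) (.node (.node (.leaf (.up 14 2245 [2628] 1299 [88,93,123,231])) (.leaf (.up 10 1795 [2628] 1299 [87,110,89,34]))) (.node (.leaf (.up 10 3613 [2628] 1299 [88,93,42,13])) (.leaf (.up 13 1647 [2628] 1299 [56,140,2]))))) (.node (.node (.node (.leaf (.up 6 1236 [2628] 1299 [57,93,155,172])) (.leaf (.up 9 2947 [2628] 1299 [93,42,160]))) (.node (.leaf (.up 10 430 [2501] 0 [88,55,43,190])) (.leaf (.up 10 837 [2628] 1299 [57,56,91,211])))) (.node (.node (.leaf (.up 11 3194 [2501] 0 [57,55,90,22])) (.leaf (.up 10 3337 [2628] 1299 [57,93,91,222]))) (.leaf (.up 8 1237 [2628] 1299 [87,176,8]))))) (.node (.node (.node (.node (.leaf (.up 11 3717 [2628] 1299 [57,93,123,143])) (.leaf (.up 15 734 [2628] 1299 [87,123,205]))) (.node (.leaf (.up 11 3383 [2501] 0 [57,56,155,59])) (.leaf (.up 6 136 [2628] 1299 [55,104,113])))) (.node (.node (.leaf (.up 15 3495 [2628] 1299 [88,55,123,118])) (.leaf (.up 10 1692 [2501]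 0 [87,93,91,216]))) (.node (.leaf (.up 13 1028 [2501] 0 [88,155,120])) (.leaf (.up 14 1537 [2628] 1299 [87,56,140,227]))))) (.node (.node (.node (.leaf (.up 15 341 [2501] 0 [87,94,43,30])) (.leaf (.up 8 410 [2501] 0 [57,56,140,74]))) (.node (.leaf (.up 5 2539 [2501] 0 [87,110,44,115])) (.leaf (.up 11 1022 [2628] 1299 [88,43,97])))) (.node (.node (.leaf (.up 14 532 [2628] 1299 [88,55,116,92])) (.leaf (.up 6 2081 [2501] 0 [87,55,90,153]))) (.leaf (.up 11 326 [2628] 1299 [57,44,20]))))))) (.node (.node (.node (.node (.node (.node (.leaf (.up 11 1826 [2628] 1299 [57,55,176,132])) (.leaf (.up 9 2180 [2501] 0 [57,93,176,152]))) (.node (.leaf (.up 13 2673 [2628] 1299 [87,55,46])) (.leaf (.up 7 982 [2628] 1299 [110,89,150])))) (.node (.node (.leaf (.up 11 1842 [2628] 1299 [57,110,176,214])) (.leaf (.up 8 843 [2628] 1299 [87,110,90,217]))) (.node (.leaf (.up 14 2264 [2501] 0 [88,56,104,142])) (.leaf (.up 11 91 [2628] 1299 [93,90,201]))))) (.node (.node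 (.node (.leaf (.up 12 648 [2501] 0 [93,42,152])) (.leaf (.up 7 3675 [2501] 0 [55,126]))) (.node (.leaf (.up 8 2820 [2628] 1299 [87,94,103,205])) (.leaf (.up 10 3653 [2628] 1299 [87,55,103,228])))) (.node (.node (.leaf (.up 12 221 [2501] 0 [57,55,176,107])) (.leaf (.up 11 2186 [2628] 1299 [87,93,43,74]))) (.leaf (.up 13 3234 [2501] 0 [88,110,123,179]))))) (.node (.node (.node (.node (.leaf (.up 13 3063 [2628] 1299 [87,93,116,188])) (.leaf (.up 8 2504 [2501] 0 [88,93,89,203]))) (.node (.leaf (.up 10 551 [2628] 1299 [87,56,104,151])) (.leaf (.up 8 617 [2501] 0 [88,93,90,74])))) (.node (.node (.leaf (.up 11 1939 [2628] 1299 [88,110,90,92])) (.leaf (.up 10 3493 [2628] 1299 [87,55,104,141]))) (.node (.leaf (.up 15 456 [2628] 1299 [88,56,43,207])) (.leaf (.up 8 1158 [2628] 1299 [87,55,91,195]))))) (.node (.node (.node (.leaf (.up 12 847 [2501] 0 [87,93,44,193])) (.leaf (.up 8 2719 [2501] 0 [87,93,91,206]))) (.node (.leaf (.up 11 2928 [2501] 0 [87,94,91,113]))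 (.leaf (.up 13 2536 [2628] 1299 [57,110,42,129])))) (.node (.node (.leaf (.up 11 3717 [2501] 0 [57,110,42,202])) (.leaf (.up 15 3596 [2628] 1299 [88,110,43,133]))) (.leaf (.up 12 2671 [2501] 0 [94,42,165])))))) (.node (.node (.node (.node (.node (.leaf (.up 14 462 [2628] 1299 [57,55,89,102])) (.leaf (.up 7 3616 [2501] 0 [57,90,23]))) (.node (.leaf (.up 11 1189 [2501] 0 [55,176,244])) (.leaf (.up 9 848 [2628] 1299 [56,90,20])))) (.node (.node (.leaf (.up 8 2952 [2628] 1299 [110,90,195])) (.leaf (.up 16 2435 [2628] 1299 [93,42,122]))) (.node (.leaf (.up 12 1463 [2628] 1299 [88,55,116,235])) (.leaf (.up 11 1677 [2501] 0 [88,56,176,122]))))) (.node (.node (.node (.leaf (.up 13 2460 [2628] 1299 [57,93,42,214])) (.leaf (.up 15 3367 [2501] 0 [57,55,155,203]))) (.node (.leaf (.up 6 1465 [2501] 0 [55,91,18])) (.leaf (.up 13 234 [2501] 0 [87,55,42,3])))) (.node (.node (.leaf (.up 15 477 [2501] 0 [88,93,42,129])) (.leaf (.up 6 2239 [2628] 1299 [57,94,44,102])))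 (.leaf (.up 9 2894 [2501] 0 [57,93,123,117]))))) (.node (.node (.node (.node (.leaf (.up 10 1626 [2628] 1299 [57,55,123,3])) (.leaf (.up 9 1431 [2628] 1299 [87,94,123,106]))) (.node (.leaf (.up 9 3380 [2628] 1299 [90,46])) (.leaf (.up 11 2473 [2628] 1299 [110,123,177])))) (.node (.node (.leaf (.up 10 250 [2501] 0 [93,90,145])) (.leaf (.up 10 2026 [2501] 0 [88,94,44,218]))) (.leaf (.up 14 232 [2628] 1299 [93,89,109])))) (.node (.node (.node (.leaf (.up 5 3352 [2501] 0 [87,110,176,212])) (.leaf (.up 12 685 [2501] 0 [87,56,43,100]))) (.node (.leaf (.up 8 2349 [2501] 0 [57,110,89,163])) (.leaf (.up 9 688 [2501] 0 [87,55,140,146])))) (.node (.node (.leaf (.up 12 3298 [2501] 0 [57,55,123,214])) (.leaf (.up 11 3620 [2628] 1299 [57,110,103,222]))) (.leaf (.up 12 129 [2501] 0 [87,110,116,218])))))))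

noncomputable def trio6_10111 : Tr TStep :=
  .node (.node (.node (.node (.node (.node (.node (.leaf (.up 9 1717 [2501] 0 [88,110,116,76])) (.leaf (.up 14 990 [2628] 1299 [87,121]))) (.node (.leaf (.up 13 110 [2501] 0 [57,93,43])) (.leaf (.up 13 503 [2628] 1299 [57,56,123,214])))) (.node (.node (.leaf (.up 12 3693 [2628] 1299 [56,43,225])) (.leaf (.up 12 3386 [2501] 0 [94,91,241]))) (.node (.leaf (.up 12 2007 [2501] 0 [57,56,104,180])) (.leaf (.up 9 3634 [2501] 0 [88,56,176,71]))))) (.node (.node (.node (.leaf (.up 4 3579 [2628] 1299 [88,93,116,181])) (.leaf (.up 11 1826 [2501] 0 [87,104,131]))) (.node (.leaf (.up 13 1427 [2628] 1299 [87,43,177])) (.leaf (.up 15 2468 [2501] 0 [55,140,215])))) (.node (.node (.leaf (.up 10 2144 [2501] 0 [110,103,183])) (.leaf (.up 10 2285 [2628] 1299 [57,93,65]))) (.leaf (.up 9 3672 [2501] 0 [87,43,236]))))) (.node (.node (.node (.node (.leaf (.up 9 879 [2501] 0 [57,56,42,222])) (.leaf (.up 9 3159 [2628] 1299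 [57,43,187]))) (.node (.leaf (.up 13 241 [2501] 0 [88,55,116,30])) (.leaf (.up 11 1588 [2628] 1299 [93,104,102])))) (.node (.node (.leaf (.up 14 2048 [2501] 0 [88,94,44,158])) (.leaf (.up 8 3409 [2501] 0 [90,220]))) (.node (.leaf (.up 5 3329 [2628] 1299 [57,56,91])) (.leaf (.up 14 3423 [2501] 0 [87,94,91,158]))))) (.node (.node (.node (.leaf (.up 12 3703 [2628] 1299 [57,55,155,244])) (.leaf (.up 14 1889 [2628] 1299 [88,55,140,8]))) (.node (.leaf (.up 12 3160 [2501] 0 [88,110,104,246])) (.leaf (.up 11 2303 [2501] 0 [57,140,105])))) (.node (.node (.leaf (.up 9 1386 [2628] 1299 [87,93,103,214])) (.leaf (.up 14 1135 [2501] 0 [110,104,21]))) (.leaf (.up 17 2884 [2501] 0 [93,25])))))) (.node (.node (.node (.node (.node (.leaf (.up 11 999 [2628] 1299 [94,43,164])) (.leaf (.up 6 2171 [2501] 0 [57,94,42,222]))) (.node (.leaf (.up 17 1119 [2501] 0 [110,43,144])) (.leaf (.up 5 2896 [2628] 1299 [88,55,103,142])))) (.node (.node (.leaf (.up 12 1186 [2501]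 0 [88,55,116,102])) (.leaf (.up 5 2868 [2501] 0 [88,116,181]))) (.node (.leaf (.up 12 3204 [2501] 0 [57,110,91,192])) (.leaf (.up 10 3771 [2501] 0 [57,176,222]))))) (.node (.node (.node (.leaf (.up 11 3571 [2628] 1299 [93,123,152])) (.leaf (.up 5 996 [2501] 0 [87,56,123,162]))) (.node (.leaf (.up 13 671 [2501] 0 [57,44,10])) (.leaf (.up 11 1928 [2501] 0 [87,44,29])))) (.node (.node (.leaf (.up 16 2225 [2501] 0 [55,104,112])) (.leaf (.up 13 350 [2628] 1299 [140,22]))) (.leaf (.up 10 652 [2628] 1299 [87,104,35]))))) (.node (.node (.node (.node (.leaf (.up 11 1613 [2501] 0 [87,93,123,239])) (.leaf (.up 9 3251 [2628] 1299 [87,55,123,5]))) (.node (.leaf (.up 13 1179 [2628] 1299 [94,91,145])) (.leaf (.up 9 2360 [2501] 0 [87,43,46])))) (.node (.node (.leaf (.up 12 1133 [2501] 0 [155,130])) (.leaf (.up 7 2991 [2628] 1299 [87,110,90,166]))) (.leaf (.up 10 1913 [2501] 0 [93,140,146])))) (.node (.node (.node (.leaf (.up 14 1794 [2628] 1299 [57,91,180]))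 (.leaf (.up 2 3230 [2628] 1299 [88,93,116,219]))) (.node (.leaf (.up 13 2990 [2501] 0 [93,103,205])) (.leaf (.up 8 34 [2501] 0 [110,116,241])))) (.node (.node (.leaf (.up 9 3469 [2501] 0 [57,110,103,126])) (.leaf (.up 13 2869 [2628] 1299 [57,123,72]))) (.leaf (.up 13 2602 [2501] 0 [88,56,89,133]))))))) (.node (.node (.node (.node (.node (.node (.leaf (.up 13 2987 [2501] 0 [88,90,1])) (.leaf (.up 13 3017 [2501] 0 [155,100]))) (.node (.leaf (.up 12 408 [2628] 1299 [90,97])) (.leaf (.up 12 2685 [2501] 0 [88,55,44,223])))) (.node (.node (.leaf (.up 1 1 [2501] 0 [87,140,126])) (.leaf (.up 8 1351 [2501] 0 [87,110,140,178]))) (.node (.leaf (.up 12 2668 [2501] 0 [88,55,140,222])) (.leaf (.up 10 2700 [2501] 0 [57,94,91,174]))))) (.node (.node (.node (.leaf (.up 10 2024 [2501] 0 [57,155,157])) (.leaf (.up 9 650 [2501] 0 [57,56,103,187]))) (.node (.leaf (.up 6 3115 [2501] 0 [56,116,172])) (.leaf (.up 14 2040 [2628] 1299 [88,94,116,73])))) (.node (.node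 (.leaf (.up 8 2490 [2501] 0 [57,56,140,205])) (.leaf (.up 8 1614 [2501] 0 [110,176,2]))) (.leaf (.up 14 2867 [2628] 1299 [88,93,91,213]))))) (.node (.node (.node (.node (.leaf (.up 10 1388 [2501] 0 [57,56,116,216])) (.leaf (.up 14 3037 [2501] 0 [57,55,44,172]))) (.node (.leaf (.up 11 2903 [2628] 1299 [88,94,116,172])) (.leaf (.up 11 833 [2628] 1299 [56,155,205])))) (.node (.node (.leaf (.up 15 1145 [2628] 1299 [57,93,43,183])) (.leaf (.up 7 457 [2628] 1299 [88,94,43,100]))) (.node (.leaf (.up 7 2860 [2501] 0 [57,55,44,205])) (.leaf (.up 10 1990 [2501] 0 [87,93,103,33]))))) (.node (.node (.node (.leaf (.up 12 3458 [2501] 0 [87,56,91,142])) (.leaf (.up 12 412 [2628] 1299 [57,44,219]))) (.node (.leaf (.up 13 563 [2628] 1299 [57,56,176,92])) (.leaf (.up 11 1996 [2628] 1299 [103,101])))) (.node (.node (.leaf (.up 12 764 [2628] 1299 [87,55,43,16])) (.leaf (.up 13 3228 [2628] 1299 [93,141]))) (.leaf (.up 6 425 [2628] 1299 [57,110,155,71])))))) (.node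 (.node (.node (.node (.node (.leaf (.up 12 2770 [2628] 1299 [110,176,137])) (.leaf (.up 11 2629 [2501] 0 [88,116,184]))) (.node (.leaf (.up 13 2302 [2628] 1299 [94,90,46])) (.leaf (.up 9 288 [2628] 1299 [88,94,91,105])))) (.node (.node (.leaf (.up 16 416 [2628] 1299 [88,93,42,134])) (.leaf (.up 11 3054 [2628] 1299 [94,104,238]))) (.node (.leaf (.up 14 3205 [2501] 0 [88,94,90,210])) (.leaf (.up 7 2323 [2628] 1299 [94,42,139]))))) (.node (.node (.node (.leaf (.up 7 3277 [2501] 0 [57,94,103,169])) (.leaf (.up 13 145 [2628] 1299 [87,56,103,244]))) (.node (.leaf (.up 13 1659 [2628] 1299 [88,44,159])) (.leaf (.up 14 747 [2501] 0 [88,110,140,8])))) (.node (.node (.leaf (.up 13 453 [2628] 1299 [57,42,208])) (.leaf (.up 11 1314 [2628] 1299 [94,123,15]))) (.leaf (.up 12 2616 [2501] 0 [57,93,90,160]))))) (.node (.node (.node (.node (.leaf (.up 7 115 [2628] 1299 [94,91,185])) (.leaf (.up 9 120 [2628] 1299 [93,176,161]))) (.node (.leaf (.up 7 2224 [2501]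 0 [88,56,129])) (.leaf (.up 12 782 [2501] 0 [87,94,104,5])))) (.node (.node (.leaf (.up 9 2621 [2628] 1299 [57,55,155,122])) (.leaf (.up 12 3705 [2501] 0 [87,116,126]))) (.leaf (.up 9 3748 [2628] 1299 [110,90,1])))) (.node (.node (.node (.leaf (.up 10 2227 [2501] 0 [88,43,118])) (.leaf (.up 15 2005 [2628] 1299 [57,176,3]))) (.node (.leaf (.up 4 3004 [2628] 1299 [88,110,42,190])) (.leaf (.up 5 2809 [2501] 0 [93,160])))) (.node (.node (.leaf (.up 9 1532 [2501] 0 [88,93,91,12])) (.leaf (.up 9 2477 [2628] 1299 [57,94,116,9]))) (.leaf (.up 10 1509 [2628] 1299 [57,110,104,20])))))))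

noncomputable def trio6_1011 : Tr TStep := .node trio6_10110 trio6_10111

noncomputable def trio6_101 : Tr TStep := .node trio6_1010 trio6_1011

noncomputable def trio6_10 : Tr TStep := .node trio6_100 trio6_101

noncomputable def trio6_11000 : Tr TStep :=
  .node (.node (.node (.node (.node (.node (.node (.leaf (.up 6 207 [2501] 0 [87,56,123,235])) (.leaf (.up 12 662 [2501] 0 [87,94,116,201]))) (.node (.leaf (.up 15 540 [2501] 0 [88,110,116,157])) (.leaf (.up 10 2696 [2628] 1299 [140,100])))) (.node (.node (.leaf (.up 14 2639 [2628] 1299 [87,56,116,158])) (.leaf (.up 6 1152 [2501] 0 [87,93,44,100]))) (.node (.leaf (.up 13 1684 [2628] 1299 [57,94,155,185])) (.leaf (.up 10 2423 [2501] 0 [88,55,91,23]))))) (.node (.node (.node (.leaf (.up 13 194 [2501] 0 [57,94,89,241])) (.leaf (.up 15 2529 [2628] 1299 [87,56,89,172]))) (.node (.leaf (.up 11 2321 [2501] 0 [56,90,149])) (.leaf (.up 8 2426 [2501] 0 [88,94,123,16])))) (.node (.node (.leaf (.up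 12 3503 [2628] 1299 [55,44,248])) (.leaf (.up 13 1233 [2628] 1299 [57,116,16]))) (.leaf (.up 9 481 [2628] 1299 [57,55,43,216]))))) (.node (.node (.node (.node (.leaf (.up 15 1404 [2628] 1299 [88,56,225])) (.leaf (.up 12 1669 [2501] 0 [88,94,91,76]))) (.node (.leaf (.up 12 2817 [2628] 1299 [93,103,134])) (.leaf (.up 9 264 [2501] 0 [56,176,224])))) (.node (.node (.leaf (.up 8 3341 [2628] 1299 [57,93,89,225])) (.leaf (.up 11 3047 [2501] 0 [88,110,155,12]))) (.node (.leaf (.up 10 294 [2501] 0 [87,55,43,199])) (.leaf (.up 14 3169 [2628] 1299 [88,42,204]))))) (.node (.node (.node (.leaf (.up 7 739 [2628] 1299 [204])) (.leaf (.up 15 1006 [2501] 0 [57,94,176,158]))) (.node (.leaf (.up 13 345 [2501] 0 [93,116,4])) (.leaf (.up 5 1671 [2501] 0 [88,93,44,239])))) (.node (.node (.leaf (.up 11 778 [2501] 0 [88,93,155,183])) (.leaf (.up 8 106 [2501] 0 [94,140,148]))) (.leaf (.up 9 2500 [2628] 1299 [57,176,135])))))) (.node (.node (.node (.node (.node (.leaf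 (.up 2 2128 [2501] 0 [87,89,142])) (.leaf (.up 14 1312 [2628] 1299 [87,55,176,173]))) (.node (.leaf (.up 9 3331 [2628] 1299 [57,56,91,141])) (.leaf (.up 13 36 [2628] 1299 [88,94,42,235])))) (.node (.node (.leaf (.up 11 3689 [2501] 0 [110,43,234])) (.leaf (.up 14 1815 [2628] 1299 [88,55,116,238]))) (.node (.leaf (.up 6 1485 [2628] 1299 [88,55,42,198])) (.leaf (.up 7 2783 [2628] 1299 [57,110,42,10]))))) (.node (.node (.node (.leaf (.up 13 3211 [2628] 1299 [87,56,176,233])) (.leaf (.up 9 3039 [2501] 0 [93,44,76]))) (.node (.leaf (.up 15 2339 [2501] 0 [88,91,132])) (.leaf (.up 7 480 [2628] 1299 [88,55,155,188])))) (.node (.node (.leaf (.up 10 1289 [2501] 0 [56,90,167])) (.leaf (.up 11 3721 [2501] 0 [87,94,104,202]))) (.leaf (.up 7 1558 [2628] 1299 [57,93,116,145]))))) (.node (.node (.node (.node (.leaf (.up 10 3069 [2628] 1299 [55,42,5])) (.leaf (.up 12 609 [2501] 0 [88,94,116,166]))) (.node (.leaf (.up 14 182 [2628] 1299 [43,248])) (.leaf (.up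 13 872 [2628] 1299 [110,116,186])))) (.node (.node (.leaf (.up 9 2278 [2628] 1299 [87,94,89,144])) (.leaf (.up 12 627 [2628] 1299 [57,123,129]))) (.node (.leaf (.up 12 336 [2628] 1299 [140,108])) (.leaf (.up 11 1934 [2501] 0 [88,55,104,170]))))) (.node (.node (.node (.leaf (.up 14 2576 [2628] 1299 [87,110,104,102])) (.leaf (.up 13 684 [2501] 0 [155,105]))) (.node (.leaf (.up 12 3304 [2628] 1299 [56,123,105])) (.leaf (.up 11 664 [2501] 0 [88,56,90,192])))) (.node (.node (.leaf (.up 13 722 [2501] 0 [88,56,42,233])) (.leaf (.up 13 587 [2501] 0 [88,55,89,212]))) (.leaf (.up 16 3122 [2628] 1299 [87,44,100]))))))) (.node (.node (.node (.node (.node (.node (.leaf (.up 10 1113 [2501] 0 [57,56,44,191])) (.leaf (.up 16 3321 [2501] 0 [42,135]))) (.node (.leaf (.up 10 330 [2628] 1299 [123,34])) (.leaf (.up 10 266 [2628] 1299 [93,176,46])))) (.node (.node (.leaf (.up 16 660 [2501] 0 [88,90,228])) (.leaf (.up 6 3459 [2628] 1299 [88,93,176,187]))) (.node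 (.leaf (.up 7 631 [2501] 0 [87,55,89,193])) (.leaf (.up 13 1252 [2501] 0 [57,55,44,74]))))) (.node (.node (.node (.leaf (.up 9 848 [2501] 0 [57,94,140,130])) (.leaf (.up 14 3267 [2501] 0 [57,94,42,13]))) (.node (.leaf (.up 7 352 [2628] 1299 [88,93,90,136])) (.leaf (.up 13 3035 [2501] 0 [87,110,90,207])))) (.node (.node (.leaf (.up 13 864 [2501] 0 [87,43,115])) (.leaf (.up 9 492 [2501] 0 [88,55,142]))) (.leaf (.up 6 1602 [2628] 1299 [88,110,217]))))) (.node (.node (.node (.node (.leaf (.up 9 1650 [2628] 1299 [94,176,244])) (.leaf (.up 8 3050 [2628] 1299 [57,43,238]))) (.node (.leaf (.up 11 933 [2501] 0 [116,153])) (.leaf (.up 15 2355 [2628] 1299 [87,110,43,146])))) (.node (.node (.leaf (.up 15 729 [2501] 0 [87,94,44,243])) (.leaf (.up 11 3556 [2501] 0 [56,217]))) (.node (.leaf (.up 14 1881 [2501] 0 [110,89,72])) (.leaf (.up 15 2096 [2628] 1299 [110,103,22]))))) (.node (.node (.node (.leaf (.up 12 1208 [2501] 0 [55,123,34])) (.leaf (.up 10 1810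 [2501] 0 [87,93,43,217]))) (.node (.leaf (.up 9 2275 [2628] 1299 [57,93,123,177])) (.leaf (.up 10 1493 [2501] 0 [88,55,123,65])))) (.node (.node (.leaf (.up 13 3274 [2501] 0 [55,90,121])) (.leaf (.up 15 1661 [2628] 1299 [88,110,155,16]))) (.leaf (.up 8 758 [2501] 0 [93,140,125])))))) (.node (.node (.node (.node (.node (.leaf (.up 8 972 [2628] 1299 [87,93,44,213])) (.leaf (.up 12 3629 [2628] 1299 [93,103,243]))) (.node (.leaf (.up 11 189 [2501] 0 [88,176,222])) (.leaf (.up 8 1024 [2628] 1299 [88,43,223])))) (.node (.node (.leaf (.up 11 716 [2501] 0 [57,94,44,237])) (.leaf (.up 9 3435 [2501] 0 [57,94,42,112]))) (.node (.leaf (.up 15 800 [2628] 1299 [88,93,123,167])) (.leaf (.up 10 1174 [2628] 1299 [57,55,140,222]))))) (.node (.node (.node (.leaf (.up 11 3606 [2628] 1299 [56,42,107])) (.leaf (.up 9 3085 [2628] 1299 [57,93,90,236]))) (.node (.leaf (.up 6 1138 [2628] 1299 [88,110,42,144])) (.leaf (.up 11 769 [2628] 1299 [103,147])))) (.node (.node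 (.leaf (.up 16 2898 [2501] 0 [57,94,112])) (.leaf (.up 11 152 [2628] 1299 [57,42,5]))) (.leaf (.up 11 824 [2501] 0 [88,110,43,186]))))) (.node (.node (.node (.node (.leaf (.up 4 1564 [2501] 0 [57,91,36])) (.leaf (.up 8 1575 [2628] 1299 [57,44,241]))) (.node (.leaf (.up 16 3215 [2628] 1299 [57,110,140,37])) (.leaf (.up 12 3610 [2628] 1299 [57,55,140,207])))) (.node (.node (.leaf (.up 6 119 [2501] 0 [57,55,90,37])) (.leaf (.up 11 210 [2628] 1299 [88,55,90]))) (.leaf (.up 14 1689 [2628] 1299 [55,89,215])))) (.node (.node (.node (.leaf (.up 7 1226 [2501] 0 [57,110,104,120])) (.leaf (.up 15 1015 [2628] 1299 [87,56,43,173]))) (.node (.leaf (.up 3 1634 [2501] 0 [87,110,44,109])) (.leaf (.up 17 2498 [2628] 1299 [57,94,103,239])))) (.node (.node (.leaf (.up 11 283 [2628] 1299 [94,123,224])) (.leaf (.up 13 3559 [2628] 1299 [88,55,89,173]))) (.leaf (.up 12 3010 [2501] 0 [57,56,140,196])))))))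

noncomputable def trio6_11001 : Tr TStep :=
  .node (.node (.node (.node (.node (.node (.node (.leaf (.up 12 2087 [2628] 1299 [88,110,89,5])) (.leaf (.up 8 2651 [2628] 1299 [88,93,44,196]))) (.node (.leaf (.up 10 1107 [2628] 1299 [55,140,147])) (.leaf (.up 12 44 [2628] 1299 [88,110,155,105])))) (.node (.node (.leaf (.up 10 389 [2501] 0 [87,94,42,97])) (.leaf (.up 15 2005 [2501] 0 [110,44,166]))) (.node (.leaf (.up 10 807 [2501] 0 [55,43,137])) (.leaf (.up 11 2960 [2501] 0 [55,91,65]))))) (.node (.node (.node (.leaf (.up 12 2575 [2628] 1299 [94,176,1])) (.leaf (.up 6 3581 [2628] 1299 [87,93,43,185]))) (.node (.leaf (.up 7 3633 [2501] 0 [87,56,123,150])) (.leaf (.up 15 1892 [2501] 0 [88,110,116,30])))) (.node (.node (.leaf (.up 2 3561 [2501] 0 [88,140,134])) (.leaf (.up 11 3727 [2628] 1299 [56,176,229]))) (.leaf (.up 8 3025 [2501] 0 [88,55,91,197]))))) (.node (.node (.node (.node (.leaf (.up 8 2419 [2501] 0 [87,110,44,219])) (.leaf (.up 13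 1170 [2501] 0 [88,93,90,224]))) (.node (.leaf (.up 11 2119 [2501] 0 [88,93,149])) (.leaf (.up 12 781 [2501] 0 [88,89,146])))) (.node (.node (.leaf (.up 9 354 [2628] 1299 [94,5])) (.leaf (.up 16 603 [2628] 1299 [88,104,73]))) (.node (.leaf (.up 13 3605 [2628] 1299 [87,55,140,225])) (.leaf (.up 13 2012 [2628] 1299 [88,43,121]))))) (.node (.node (.node (.leaf (.up 12 1009 [2501] 0 [94,43,217])) (.leaf (.up 10 2423 [2628] 1299 [55,42,98]))) (.node (.leaf (.up 12 1734 [2501] 0 [57,155,147])) (.leaf (.up 13 766 [2501] 0 [88,94,164])))) (.node (.node (.leaf (.up 11 2634 [2501] 0 [87,90,207])) (.leaf (.up 15 2044 [2501] 0 [87,94,89,138]))) (.leaf (.up 10 1663 [2628] 1299 [87,55,176,59])))))) (.node (.node (.node (.node (.node (.leaf (.up 13 3754 [2628] 1299 [110,116,166])) (.leaf (.up 15 599 [2628] 1299 [94,140,169]))) (.node (.leaf (.up 9 2625 [2628] 1299 [87,110,42,144])) (.leaf (.up 16 1906 [2628] 1299 [56,123,236])))) (.node (.node (.leaf (.up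 10 1923 [2501] 0 [87,93,43,172])) (.leaf (.up 5 57 [2628] 1299 [57,94,42,113]))) (.node (.leaf (.up 13 2162 [2501] 0 [94,175])) (.leaf (.up 13 2704 [2628] 1299 [88,56,42,217]))))) (.node (.node (.node (.leaf (.up 9 2204 [2628] 1299 [55,91,152])) (.leaf (.up 12 876 [2628] 1299 [57,94,104,153]))) (.node (.leaf (.up 10 3524 [2628] 1299 [87,93,188])) (.leaf (.up 15 1771 [2628] 1299 [94,140,150])))) (.node (.node (.leaf (.up 5 2613 [2628] 1299 [88,110,116,97])) (.leaf (.up 11 3398 [2628] 1299 [55,91,128]))) (.leaf (.up 13 3546 [2501] 0 [87,55,104,247]))))) (.node (.node (.node (.node (.leaf (.up 10 2246 [2628] 1299 [88,55,42,159])) (.leaf (.up 12 852 [2628] 1299 [87,110,43,230]))) (.node (.leaf (.up 12 1200 [2628] 1299 [56,91,11])) (.leaf (.up 9 651 [2628] 1299 [88,55,176,69])))) (.node (.node (.leaf (.up 10 3780 [2501] 0 [57,89,184])) (.leaf (.up 11 646 [2628] 1299 [88,116,16]))) (.leaf (.up 13 687 [2628] 1299 [87,93,116,149])))) (.node (.node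 (.node (.leaf (.up 15 958 [2628] 1299 [88,104,186])) (.leaf (.up 14 2109 [2628] 1299 [88,55,155,169]))) (.node (.leaf (.up 13 2940 [2501] 0 [87,110,238])) (.leaf (.up 7 1871 [2501] 0 [88,55,116,212])))) (.node (.node (.leaf (.up 9 2275 [2501] 0 [88,44,227])) (.leaf (.up 8 859 [2501] 0 [87,110,116,236]))) (.leaf (.up 10 3480 [2501] 0 [88,55,116,130]))))))) (.node (.node (.node (.node (.node (.node (.leaf (.up 10 1860 [2628] 1299 [57,94,44,74])) (.leaf (.up 11 3369 [2628] 1299 [88,94,155,204]))) (.node (.leaf (.up 9 2452 [2628] 1299 [88,55,140,197])) (.leaf (.up 11 906 [2628] 1299 [88,93,43,160])))) (.node (.node (.leaf (.up 12 214 [2501] 0 [140,12])) (.leaf (.up 14 2118 [2628] 1299 [110,42,99]))) (.node (.leaf (.up 15 303 [2501] 0 [87,55,155,179])) (.leaf (.up 15 3061 [2501] 0 [87,93,42,212]))))) (.node (.node (.node (.leaf (.up 14 3671 [2501] 0 [57,94,91,10])) (.leaf (.up 14 2874 [2501] 0 [57,43,188]))) (.node (.leaf (.up 15 3495 [2501] 0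 [88,93,140,211])) (.leaf (.up 9 6 [2628] 1299 [57,93,176,95])))) (.node (.node (.leaf (.up 13 172 [2501] 0 [57,55,89,59])) (.leaf (.up 13 1528 [2501] 0 [88,176,246]))) (.leaf (.up 9 1966 [2628] 1299 [55,74]))))) (.node (.node (.node (.node (.leaf (.up 14 1836 [2628] 1299 [57,110,123,141])) (.leaf (.up 9 2946 [2628] 1299 [103,166]))) (.node (.leaf (.up 10 3040 [2501] 0 [87,93,20])) (.leaf (.up 8 2406 [2628] 1299 [57,56,173])))) (.node (.node (.leaf (.up 12 2333 [2501] 0 [57,42,179])) (.leaf (.up 12 3533 [2501] 0 [57,56,44,161]))) (.node (.leaf (.up 4 3285 [2501] 0 [87,94,103,239])) (.leaf (.up 10 1290 [2628] 1299 [88,110,104,143]))))) (.node (.node (.node (.leaf (.up 10 765 [2501] 0 [88,110,90,241])) (.leaf (.up 7 2563 [2501] 0 [87,103,136]))) (.node (.leaf (.up 12 2585 [2501] 0 [42,192])) (.leaf (.up 13 2129 [2501] 0 [57,110,90,105])))) (.node (.node (.leaf (.up 12 349 [2628] 1299 [87,42,124])) (.leaf (.up 9 3607 [2628] 1299 [88,116,159])))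 (.leaf (.up 8 2105 [2628] 1299 [87,55,42,149])))))) (.node (.node (.node (.node (.node (.leaf (.up 6 263 [2501] 0 [87,55,155,36])) (.leaf (.up 17 1765 [2628] 1299 [87,55,155,147]))) (.node (.leaf (.up 7 2457 [2628] 1299 [88,43,75])) (.leaf (.up 12 3503 [2501] 0 [88,56,43,195])))) (.node (.node (.leaf (.up 11 3578 [2501] 0 [57,59])) (.leaf (.up 15 3266 [2628] 1299 [57,56,89,60]))) (.node (.leaf (.up 13 1645 [2628] 1299 [87,55,116,214])) (.leaf (.up 7 2133 [2628] 1299 [56,176,133]))))) (.node (.node (.node (.leaf (.up 13 224 [2501] 0 [87,93,104,158])) (.leaf (.up 7 2860 [2628] 1299 [88,55,180]))) (.node (.leaf (.up 13 90 [2628] 1299 [57,93,90,76])) (.leaf (.up 11 1479 [2501] 0 [87,94,42,12])))) (.node (.node (.leaf (.up 10 3576 [2628] 1299 [110,155,184])) (.leaf (.up 13 1295 [2628] 1299 [55,116,195]))) (.leaf (.up 9 2210 [2628] 1299 [88,43,31]))))) (.node (.node (.node (.node (.leaf (.up 4 854 [2628] 1299 [87,55,123,61])) (.leaf (.up 9 3315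 [2628] 1299 [88,94,90,178]))) (.node (.leaf (.up 11 3153 [2501] 0 [44,135])) (.leaf (.up 8 1888 [2501] 0 [57,94,42,198])))) (.node (.node (.leaf (.up 14 1182 [2628] 1299 [87,110,18])) (.leaf (.up 14 3782 [2628] 1299 [57,56,176,187]))) (.leaf (.up 8 1382 [2628] 1299 [88,93,103,121])))) (.node (.node (.node (.leaf (.up 10 282 [2628] 1299 [57,56,42,199])) (.leaf (.up 10 3146 [2628] 1299 [57,10]))) (.node (.leaf (.up 14 3342 [2501] 0 [57,110,116,218])) (.leaf (.up 10 709 [2501] 0 [57,93,42,177])))) (.node (.node (.leaf (.up 8 1867 [2501] 0 [94,140,22])) (.leaf (.up 16 1936 [2501] 0 [88,94,178]))) (.leaf (.up 12 1283 [2628] 1299 [57,94,91,182])))))))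

noncomputable def trio6_1100 : Tr TStep := .node trio6_11000 trio6_11001

noncomputable def trio6_11010 : Tr TStep :=
  .node (.node (.node (.node (.node (.node (.node (.leaf (.up 12 2213 [2628] 1299 [55,116,76])) (.leaf (.up 7 1946 [2628] 1299 [57,110,140,218]))) (.node (.leaf (.up 13 2519 [2628] 1299 [57,93,173])) (.leaf (.up 14 2152 [2628] 1299 [57,110,44,135])))) (.node (.node (.leaf (.up 17 585 [2628] 1299 [57,94,116,4])) (.leaf (.up 5 2836 [2628] 1299 [88,56,103,205]))) (.node (.leaf (.up 10 1180 [2628] 1299 [87,93,89,105])) (.leaf (.up 14 2680 [2501] 0 [87,110,123,181]))))) (.node (.node (.node (.leaf (.up 15 3157 [2501] 0 [87,55,104,101])) (.leaf (.up 13 2630 [2501] 0 [87,110,104,122]))) (.node (.leaf (.up 5 2866 [2628] 1299 [87,93,140,207])) (.leaf (.up 9 3089 [2628] 1299 [57,56,123,161])))) (.node (.node (.leaf (.up 11 1022 [2501] 0 [88,44,117])) (.leaf (.up 7 2706 [2628] 1299 [88,55,90,16]))) (.leaf (.up 9 621 [2501] 0 [110,103,227])))))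 (.node (.node (.node (.node (.leaf (.up 10 2153 [2628] 1299 [88,110,140,122])) (.leaf (.up 16 293 [2628] 1299 [94,90,3]))) (.node (.leaf (.up 9 1442 [2628] 1299 [87,56,176,168])) (.leaf (.up 12 1525 [2628] 1299 [87,94,123,98])))) (.node (.node (.leaf (.up 8 134 [2501] 0 [88,93,123,220])) (.leaf (.up 14 1321 [2501] 0 [57,110,42,137]))) (.node (.leaf (.up 8 1049 [2628] 1299 [57,110,140,203])) (.leaf (.up 8 1686 [2501] 0 [87,55,44,177]))))) (.node (.node (.node (.leaf (.up 7 2154 [2501] 0 [57,110,90,8])) (.leaf (.up 9 1342 [2501] 0 [57,93,123,237]))) (.node (.leaf (.up 8 689 [2628] 1299 [88,176,71])) (.leaf (.up 8 3425 [2628] 1299 [93,43,76])))) (.node (.node (.leaf (.up 15 3343 [2501] 0 [88,110,138])) (.leaf (.up 9 1811 [2628] 1299 [88,56,167]))) (.leaf (.up 13 2021 [2501] 0 [88,91,36])))))) (.node (.node (.node (.node (.node (.leaf (.up 17 580 [2628] 1299 [57,90,72])) (.leaf (.up 9 502 [2501] 0 [57,110,91,172]))) (.node (.leaf (.up 16 2581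 [2628] 1299 [56,89,234])) (.leaf (.up 8 2372 [2501] 0 [87,93,123,225])))) (.node (.node (.leaf (.up 12 1778 [2628] 1299 [88,56,123,180])) (.leaf (.up 4 1507 [2501] 0 [88,110,155,174]))) (.node (.leaf (.up 15 411 [2628] 1299 [88,110,116,69])) (.leaf (.up 7 1827 [2501] 0 [57,94,89,202]))))) (.node (.node (.node (.leaf (.up 7 190 [2501] 0 [88,94,44,73])) (.leaf (.up 9 2211 [2501] 0 [57,56,90,224]))) (.node (.leaf (.up 14 3205 [2628] 1299 [88,93,44,224])) (.leaf (.up 7 619 [2628] 1299 [93,104,157])))) (.node (.node (.leaf (.up 7 251 [2501] 0 [110,89,182])) (.leaf (.up 2 773 [2628] 1299 [87,93,123,1]))) (.leaf (.up 7 105 [2628] 1299 [88,116,171]))))) (.node (.node (.node (.node (.leaf (.up 11 549 [2501] 0 [57,55,90,238])) (.leaf (.up 13 558 [2628] 1299 [88,55,116,247]))) (.node (.leaf (.up 13 1569 [2501] 0 [87,110,140,134])) (.leaf (.up 11 1703 [2501] 0 [57,55,43,136])))) (.node (.node (.leaf (.up 7 144 [2628] 1299 [110,176,178])) (.leaf (.up 10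 1393 [2628] 1299 [87,91,119]))) (.node (.leaf (.up 14 3350 [2501] 0 [57,55,76])) (.leaf (.up 10 177 [2628] 1299 [57,94,104,129]))))) (.node (.node (.node (.leaf (.up 11 3405 [2628] 1299 [57,94,140,248])) (.leaf (.up 14 2391 [2501] 0 [57,93,140,154]))) (.node (.leaf (.up 15 1354 [2628] 1299 [93,176,177])) (.leaf (.up 11 757 [2628] 1299 [87,110,90,177])))) (.node (.node (.leaf (.up 11 2818 [2501] 0 [88,44,109])) (.leaf (.up 8 2781 [2501] 0 [56,104,204]))) (.leaf (.up 13 217 [2501] 0 [87,94,140,198]))))))) (.node (.node (.node (.node (.node (.node (.leaf (.up 13 1762 [2628] 1299 [43,240])) (.leaf (.up 13 159 [2501] 0 [93,43,113]))) (.node (.leaf (.up 10 1901 [2501] 0 [57,110,42,115])) (.leaf (.up 5 869 [2628] 1299 [88,56,89,204])))) (.node (.node (.leaf (.up 11 1476 [2628] 1299 [57,55,42,185])) (.leaf (.up 10 2080 [2628] 1299 [93,116,242]))) (.node (.leaf (.up 12 1580 [2628] 1299 [88,90,204])) (.leaf (.up 11 3472 [2501] 0 [55,239]))))) (.node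 (.node (.node (.leaf (.up 11 1805 [2628] 1299 [94,89,243])) (.leaf (.up 10 3502 [2501] 0 [57,94,119]))) (.node (.leaf (.up 9 1101 [2501] 0 [57,93,42,121])) (.leaf (.up 13 2561 [2501] 0 [88,110,176,36])))) (.node (.node (.leaf (.up 12 2043 [2628] 1299 [88,93,116,167])) (.leaf (.up 12 3674 [2501] 0 [87,110,42,187]))) (.leaf (.up 11 520 [2501] 0 [55,155,136]))))) (.node (.node (.node (.node (.leaf (.up 14 944 [2628] 1299 [88,94,140,153])) (.leaf (.up 10 1828 [2628] 1299 [57,93,155,36]))) (.node (.leaf (.up 11 1460 [2628] 1299 [57,56,116,165])) (.leaf (.up 3 2891 [2501] 0 [88,94,91,18])))) (.node (.node (.leaf (.up 11 2145 [2628] 1299 [87,110,43,37])) (.leaf (.up 13 3559 [2501] 0 [88,42,214]))) (.node (.leaf (.up 10 521 [2501] 0 [94,116,200])) (.leaf (.up 10 1984 [2628] 1299 [87,56,176,197]))))) (.node (.node (.node (.leaf (.up 16 1839 [2628] 1299 [93,44,10])) (.leaf (.up 8 1514 [2628] 1299 [88,104,137]))) (.node (.leaf (.up 10 519 [2501] 0 [87,93,176,109]))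 (.leaf (.up 11 1118 [2501] 0 [56,140,34])))) (.node (.node (.leaf (.up 6 2081 [2628] 1299 [88,56,42,121])) (.leaf (.up 12 3190 [2501] 0 [87,110,155,95]))) (.leaf (.up 11 85 [2501] 0 [88,55,91,191])))))) (.node (.node (.node (.node (.node (.leaf (.up 7 333 [2501] 0 [94,140,21])) (.leaf (.up 10 1577 [2501] 0 [57,56,89,226]))) (.node (.leaf (.up 8 76 [2501] 0 [87,44,152])) (.leaf (.up 8 1159 [2628] 1299 [87,93,90,27])))) (.node (.node (.leaf (.up 6 2773 [2501] 0 [104,152])) (.leaf (.up 13 3028 [2628] 1299 [87,94,176,187]))) (.node (.leaf (.up 7 2617 [2501] 0 [93,176,240])) (.leaf (.up 8 1888 [2628] 1299 [57,94,90,159]))))) (.node (.node (.node (.leaf (.up 10 1410 [2628] 1299 [110,140,65])) (.leaf (.up 17 2440 [2628] 1299 [110,123,202]))) (.node (.leaf (.up 7 974 [2628] 1299 [57,55,91,165])) (.leaf (.up 8 200 [2628] 1299 [87,176,222])))) (.node (.node (.leaf (.up 16 2336 [2628] 1299 [57,93,91,95])) (.leaf (.up 11 3784 [2628] 1299 [87,56,176,166])))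 (.leaf (.up 12 3262 [2628] 1299 [87,93,176,177]))))) (.node (.node (.node (.node (.leaf (.up 5 1551 [2501] 0 [57,94,43,160])) (.leaf (.up 11 161 [2501] 0 [93,90,246]))) (.node (.leaf (.up 6 1519 [2628] 1299 [94,104,96])) (.leaf (.up 10 1174 [2501] 0 [93,140,154])))) (.node (.node (.leaf (.up 13 3297 [2501] 0 [55,140,115])) (.leaf (.up 13 3238 [2501] 0 [55,104,222]))) (.leaf (.up 14 2524 [2501] 0 [88,94,155,73])))) (.node (.node (.node (.leaf (.up 12 2757 [2501] 0 [88,94,116,220])) (.leaf (.up 4 3314 [2628] 1299 [56,42,37]))) (.node (.leaf (.up 13 1082 [2628] 1299 [57,93,140,221])) (.leaf (.up 8 269 [2628] 1299 [55,44,77])))) (.node (.node (.leaf (.up 12 2173 [2628] 1299 [88,93,179])) (.leaf (.up 13 2367 [2628] 1299 [55,103,108]))) (.leaf (.up 10 2607 [2628] 1299 [88,110,116,31])))))))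

noncomputable def trio6_11011 : Tr TStep :=
  .node (.node (.node (.node (.node (.node (.node (.leaf (.up 12 1690 [2628] 1299 [57,176,46])) (.leaf (.up 10 2103 [2501] 0 [88,110,116,178]))) (.node (.leaf (.up 9 3572 [2628] 1299 [87,155,61])) (.leaf (.up 11 3326 [2628] 1299 [88,56,89,240])))) (.node (.node (.leaf (.up 12 3547 [2501] 0 [87,93,89,136])) (.leaf (.up 8 1298 [2501] 0 [94,116,179]))) (.node (.leaf (.up 10 1767 [2628] 1299 [42,11])) (.leaf (.up 14 3043 [2628] 1299 [87,93,140,219]))))) (.node (.node (.node (.leaf (.up 10 925 [2501] 0 [87,94,116,241])) (.leaf (.up 9 2422 [2501] 0 [88,93,90,191]))) (.node (.leaf (.up 7 751 [2501] 0 [94,104,205])) (.leaf (.up 7 1981 [2501] 0 [110,123,233])))) (.node (.node (.leaf (.up 13 3348 [2501] 0 [57,55,44,231])) (.leaf (.up 11 3320 [2628] 1299 [57,56,43,119]))) (.leaf (.up 5 892 [2628] 1299 [94,98]))))) (.node (.node (.node (.node (.leaf (.up 14 1487 [2501] 0 [57,93,90,2])) (.leaf (.up 10 1922 [2501]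 0 [88,55,116,71]))) (.node (.leaf (.up 12 1621 [2501] 0 [57,44,191])) (.leaf (.up 11 1897 [2628] 1299 [93,104,200])))) (.node (.node (.leaf (.up 3 276 [2501] 0 [87,110,123,139])) (.leaf (.up 14 638 [2501] 0 [57,151]))) (.node (.leaf (.up 8 2918 [2501] 0 [87,55,104,61])) (.leaf (.up 12 2217 [2628] 1299 [57,55,172]))))) (.node (.node (.node (.leaf (.up 14 166 [2628] 1299 [87,56,104,149])) (.leaf (.up 13 541 [2501] 0 [57,44,37]))) (.node (.leaf (.up 6 3459 [2501] 0 [87,110,132])) (.leaf (.up 13 15 [2628] 1299 [87,110,89,190])))) (.node (.node (.leaf (.up 12 1080 [2501] 0 [88,93,90,229])) (.leaf (.up 10 1297 [2628] 1299 [88,94,44,180]))) (.leaf (.up 14 1944 [2501] 0 [88,176,227])))))) (.node (.node (.node (.node (.node (.leaf (.up 10 1978 [2501] 0 [87,56,176])) (.leaf (.up 11 1072 [2501] 0 [55,123,206]))) (.node (.leaf (.up 10 444 [2628] 1299 [94,44,161])) (.leaf (.up 13 2259 [2501] 0 [57,55,90,188])))) (.node (.node (.leaf (.up 15 240 [2628]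 1299 [57,110,123,179])) (.leaf (.up 7 3332 [2501] 0 [57,94,89,185]))) (.node (.leaf (.up 14 3604 [2628] 1299 [87,94,176,207])) (.leaf (.up 6 1036 [2628] 1299 [88,42,173]))))) (.node (.node (.node (.leaf (.up 12 2645 [2628] 1299 [56,44,186])) (.leaf (.up 14 1221 [2628] 1299 [56,104,198]))) (.node (.leaf (.up 8 2206 [2628] 1299 [93,243])) (.leaf (.up 11 1128 [2501] 0 [88,56,91,188])))) (.node (.node (.leaf (.up 7 296 [2628] 1299 [94,123,156])) (.leaf (.up 13 2954 [2628] 1299 [88,55,123,107]))) (.leaf (.up 10 1663 [2501] 0 [110,91,159]))))) (.node (.node (.node (.node (.leaf (.up 12 138 [2501] 0 [57,176,169])) (.leaf (.up 15 2107 [2501] 0 [57,123,117]))) (.node (.leaf (.up 10 2586 [2501] 0 [87,55,91,146])) (.leaf (.up 7 939 [2501] 0 [87,55,155,244])))) (.node (.node (.leaf (.up 14 870 [2628] 1299 [87,116,220])) (.leaf (.up 10 2632 [2628] 1299 [87,94,42,102]))) (.leaf (.up 12 355 [2501] 0 [88,55,90,196])))) (.node (.node (.node (.leaf (.up 12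 3053 [2501] 0 [94,116,106])) (.leaf (.up 12 2494 [2628] 1299 [57,55,43,180]))) (.node (.leaf (.up 15 3065 [2501] 0 [87,55,104,232])) (.leaf (.up 11 924 [2501] 0 [110,123,22])))) (.node (.node (.leaf (.up 5 3020 [2501] 0 [55,155,0])) (.leaf (.up 12 3603 [2628] 1299 [87,93,140,106]))) (.leaf (.up 11 883 [2628] 1299 [87,89,13]))))))) (.node (.node (.node (.node (.node (.node (.leaf (.up 10 156 [2501] 0 [87,110,116,20])) (.leaf (.up 14 3394 [2501] 0 [88,56,43,36]))) (.node (.leaf (.up 13 2986 [2501] 0 [56,116,6])) (.leaf (.up 12 1329 [2628] 1299 [57,56,123,20])))) (.node (.node (.leaf (.up 13 1979 [2501] 0 [88,55,89,194])) (.leaf (.up 11 753 [2628] 1299 [56,90,37]))) (.node (.leaf (.up 8 1153 [2628] 1299 [94,43,61])) (.leaf (.up 12 1246 [2628] 1299 [88,94,116,146]))))) (.node (.node (.node (.leaf (.up 15 3244 [2501] 0 [57,110,155,153])) (.leaf (.up 12 2915 [2501] 0 [87,110,103,211]))) (.node (.leaf (.up 5 892 [2501] 0 [87,94,44,207])) (.leaf (.up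 10 2269 [2501] 0 [110,116,234])))) (.node (.node (.leaf (.up 6 136 [2501] 0 [87,93,140,92])) (.leaf (.up 5 2495 [2501] 0 [87,94,42,151]))) (.leaf (.up 10 572 [2501] 0 [87,123,181]))))) (.node (.node (.node (.node (.leaf (.up 9 2204 [2501] 0 [57,110,138])) (.leaf (.up 7 2319 [2628] 1299 [57,93,116,4]))) (.node (.leaf (.up 15 1948 [2628] 1299 [57,94,116,21])) (.leaf (.up 15 2930 [2628] 1299 [88,110,123,212])))) (.node (.node (.leaf (.up 12 1919 [2501] 0 [57,110,90,190])) (.leaf (.up 14 1894 [2628] 1299 [94,103,210]))) (.node (.leaf (.up 10 2734 [2628] 1299 [87,93,91,202])) (.leaf (.up 9 3435 [2628] 1299 [87,110,103,15]))))) (.node (.node (.node (.leaf (.up 13 1586 [2628] 1299 [57,110,155,203])) (.leaf (.up 10 930 [2501] 0 [94,91,22]))) (.node (.leaf (.up 9 1711 [2501] 0 [57,43,22])) (.leaf (.up 11 1059 [2628] 1299 [88,55,91,234])))) (.node (.node (.leaf (.up 9 1019 [2628] 1299 [57,110,103,96])) (.leaf (.up 9 2622 [2628] 1299 [94,176,126])))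 (.leaf (.up 12 1502 [2628] 1299 [88,110,103,165])))))) (.node (.node (.node (.node (.node (.leaf (.up 13 980 [2628] 1299 [57,44,148])) (.leaf (.up 5 1710 [2501] 0 [87,55,90,30]))) (.node (.leaf (.up 12 1255 [2501] 0 [88,56,103,77])) (.leaf (.up 10 846 [2501] 0 [88,55,89,243])))) (.node (.node (.leaf (.up 15 1905 [2628] 1299 [57,44,95])) (.leaf (.up 8 1139 [2628] 1299 [57,93,155,167]))) (.node (.leaf (.up 12 3354 [2628] 1299 [149])) (.leaf (.up 16 789 [2501] 0 [110,20]))))) (.node (.node (.node (.leaf (.up 17 884 [2501] 0 [57,155,143])) (.leaf (.up 9 3171 [2501] 0 [57,94,123,10]))) (.node (.leaf (.up 9 3563 [2628] 1299 [57,56,181])) (.leaf (.up 11 3763 [2628] 1299 [88,93,176,167])))) (.node (.node (.leaf (.up 14 2394 [2628] 1299 [87,56,89,163])) (.leaf (.up 15 814 [2628] 1299 [88,93,89,144]))) (.leaf (.up 9 3467 [2501] 0 [104,30]))))) (.node (.node (.node (.node (.leaf (.up 6 2434 [2501] 0 [87,93,42,161])) (.leaf (.up 7 115 [2501] 0 [88,94,16])))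 (.node (.leaf (.up 13 2272 [2501] 0 [57,93,46])) (.leaf (.up 11 3022 [2501] 0 [88,56,89,33])))) (.node (.node (.leaf (.up 8 1057 [2628] 1299 [55,90,169])) (.leaf (.up 12 3231 [2501] 0 [88,110,90,220]))) (.leaf (.up 10 1403 [2501] 0 [57,93,103,8])))) (.node (.node (.node (.leaf (.up 12 2616 [2628] 1299 [88,93,89,230])) (.leaf (.up 14 3336 [2628] 1299 [56,123,153]))) (.node (.leaf (.up 9 1002 [2501] 0 [87,140,246])) (.leaf (.up 3 838 [2628] 1299 [88,94,176,212])))) (.node (.node (.leaf (.up 8 575 [2628] 1299 [57,110,89,119])) (.leaf (.up 8 844 [2501] 0 [87,103,225]))) (.leaf (.up 11 1563 [2501] 0 [88,55,155,36])))))))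

noncomputable def trio6_1101 : Tr TStep := .node trio6_11010 trio6_11011

noncomputable def trio6_110 : Tr TStep := .node trio6_1100 trio6_1101

noncomputable def trio6_11100 : Tr TStep :=
  .node (.node (.node (.node (.node (.node (.node (.leaf (.up 12 1038 [2628] 1299 [88,93,104,61])) (.leaf (.up 8 3628 [2501] 0 [93,116,134]))) (.node (.leaf (.up 11 3182 [2501] 0 [87,94,91,243])) (.leaf (.up 8 3057 [2628] 1299 [57,56,90,46])))) (.node (.node (.leaf (.up 9 2605 [2628] 1299 [88,94,104,181])) (.leaf (.up 13 2811 [2501] 0 [87,43,240]))) (.node (.leaf (.up 10 1228 [2628] 1299 [55,140,232])) (.leaf (.up 13 3313 [2628] 1299 [87,155,109]))))) (.node (.node (.node (.leaf (.up 5 1644 [2628] 1299 [87,55,91,3])) (.leaf (.up 12 1932 [2628] 1299 [110,123,195]))) (.node (.leaf (.up 12 1863 [2628] 1299 [57,56,155,112])) (.leaf (.up 15 3177 [2501] 0 [57,110,204])))) (.node (.node (.leaf (.up 8 2028 [2628] 1299 [57,56,91,174])) (.leaf (.up 8 2157 [2628]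 1299 [57,93,89,204]))) (.leaf (.up 15 2798 [2501] 0 [88,110,91,69]))))) (.node (.node (.node (.node (.leaf (.up 15 965 [2628] 1299 [57,42,77])) (.leaf (.up 10 1109 [2501] 0 [57,55,104,149]))) (.node (.leaf (.up 7 3534 [2628] 1299 [110,176,146])) (.leaf (.up 8 1606 [2628] 1299 [57,93,155,105])))) (.node (.node (.leaf (.up 15 3676 [2628] 1299 [94,123,221])) (.leaf (.up 17 3707 [2628] 1299 [110,104,164]))) (.node (.leaf (.up 4 3583 [2628] 1299 [57,93,140,18])) (.leaf (.up 14 3697 [2501] 0 [57,93,176,247]))))) (.node (.node (.node (.leaf (.up 6 1693 [2501] 0 [55,104,71])) (.leaf (.up 13 1271 [2628] 1299 [94,44,245]))) (.node (.leaf (.up 6 2397 [2628] 1299 [87,56,42,127])) (.leaf (.up 10 1326 [2628] 1299 [88,55,176,37])))) (.node (.node (.leaf (.up 8 2902 [2501] 0 [57,93,44,171])) (.leaf (.up 15 3422 [2501] 0 [88,93,103,96]))) (.leaf (.up 11 823 [2501] 0 [88,93,42,226])))))) (.node (.node (.node (.node (.node (.leaf (.up 16 2271 [2628] 1299 [87,56,121]))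 (.leaf (.up 10 3199 [2628] 1299 [55,42,72]))) (.node (.leaf (.up 12 1086 [2628] 1299 [88,93,123,231])) (.leaf (.up 16 1027 [2628] 1299 [57,93,140,197])))) (.node (.node (.leaf (.up 13 2402 [2501] 0 [88,116,115])) (.leaf (.up 8 2743 [2501] 0 [88,56,123,109]))) (.node (.leaf (.up 10 3532 [2628] 1299 [87,110,242])) (.leaf (.up 12 3696 [2501] 0 [93,155,61]))))) (.node (.node (.node (.leaf (.up 1 2 [2501] 0 [88,94,69])) (.leaf (.up 11 2526 [2501] 0 [87,90,208]))) (.node (.leaf (.up 7 2063 [2501] 0 [57,55,90,109])) (.leaf (.up 10 2829 [2501] 0 [87,110,25])))) (.node (.node (.leaf (.up 8 3070 [2628] 1299 [87,55,155,232])) (.leaf (.up 5 1533 [2501] 0 [44,130]))) (.leaf (.up 11 714 [2501] 0 [56,123,177]))))) (.node (.node (.node (.node (.leaf (.up 10 2851 [2501] 0 [88,55,89,136])) (.leaf (.up 7 1369 [2501] 0 [89,149]))) (.node (.leaf (.up 14 3623 [2501] 0 [55,140,30])) (.leaf (.up 15 1098 [2501] 0 [87,56,106])))) (.node (.node (.leaf (.up 11 3056 [2628]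 1299 [87,155,143])) (.leaf (.up 8 2368 [2501] 0 [57,94,140,3]))) (.node (.leaf (.up 14 3290 [2501] 0 [88,94,44,133])) (.leaf (.up 11 2893 [2501] 0 [87,93,90,5]))))) (.node (.node (.node (.leaf (.up 9 829 [2628] 1299 [88,110,89,212])) (.leaf (.up 9 3086 [2628] 1299 [87,94,176,159]))) (.node (.leaf (.up 10 3003 [2501] 0 [57,94,43,124])) (.leaf (.up 9 1908 [2501] 0 [87,93,42,111])))) (.node (.node (.leaf (.up 8 2277 [2501] 0 [87,55,214])) (.leaf (.up 12 3311 [2628] 1299 [88,110,155,233]))) (.leaf (.up 15 2803 [2628] 1299 [87,110,89,229]))))))) (.node (.node (.node (.node (.node (.node (.leaf (.up 9 372 [2628] 1299 [87,55,116,180])) (.leaf (.up 11 3787 [2501] 0 [93,104,167]))) (.node (.leaf (.up 9 2509 [2501] 0 [87,56,42,4])) (.leaf (.up 15 3759 [2628] 1299 [87,55,103,160])))) (.node (.node (.leaf (.up 9 2605 [2501] 0 [88,123,160])) (.leaf (.up 8 972 [2501] 0 [88,55,103,130]))) (.node (.leaf (.up 7 1593 [2501] 0 [87,42,207])) (.leaf (.up 13 2189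 [2628] 1299 [88,155,237]))))) (.node (.node (.node (.leaf (.up 9 2717 [2501] 0 [57,140,160])) (.leaf (.up 14 2378 [2501] 0 [56,155,35]))) (.node (.leaf (.up 13 2088 [2628] 1299 [57,110,89,107])) (.leaf (.up 14 3591 [2501] 0 [57,176,184])))) (.node (.node (.leaf (.up 9 2688 [2628] 1299 [88,123,182])) (.leaf (.up 7 1341 [2501] 0 [87,94,42,6]))) (.leaf (.up 3 2276 [2628] 1299 [57,94,89,29]))))) (.node (.node (.node (.node (.leaf (.up 9 1976 [2501] 0 [57,110,91,184])) (.leaf (.up 14 3051 [2501] 0 [88,56,91,132]))) (.node (.leaf (.up 11 2873 [2628] 1299 [94,43,179])) (.leaf (.up 14 43 [2628] 1299 [88,55,104,237])))) (.node (.node (.leaf (.up 8 1039 [2628] 1299 [87,55,155,202])) (.leaf (.up 9 1982 [2501] 0 [57,116,163]))) (.node (.leaf (.up 10 3713 [2628] 1299 [55,176,164])) (.leaf (.up 12 1154 [2501] 0 [88,93,103,175]))))) (.node (.node (.node (.leaf (.up 13 596 [2501] 0 [42,233])) (.leaf (.up 10 3069 [2501] 0 [57,93,143]))) (.node (.leaf (.up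 11 2042 [2628] 1299 [56,90,4])) (.leaf (.up 14 2825 [2501] 0 [87,56,224])))) (.node (.node (.leaf (.up 12 2876 [2628] 1299 [56,89,225])) (.leaf (.up 16 2413 [2628] 1299 [88,94,43,224]))) (.leaf (.up 8 964 [2628] 1299 [87,94,116,190])))))) (.node (.node (.node (.node (.node (.leaf (.up 14 1033 [2501] 0 [87,55,103,216])) (.leaf (.up 11 3096 [2501] 0 [88,110,116,227]))) (.node (.leaf (.up 16 2581 [2501] 0 [93,90,61])) (.leaf (.up 11 2761 [2501] 0 [87,94,44,16])))) (.node (.node (.leaf (.up 10 2371 [2628] 1299 [57,94,103,193])) (.leaf (.up 14 901 [2501] 0 [88,93,90,196]))) (.node (.leaf (.up 12 1802 [2628] 1299 [94,103,156])) (.leaf (.up 14 1192 [2628] 1299 [88,90,99]))))) (.node (.node (.node (.leaf (.up 8 2247 [2628] 1299 [88,94,210])) (.leaf (.up 8 2095 [2501] 0 [88,93,44,198]))) (.node (.leaf (.up 13 3344 [2501] 0 [88,89,172])) (.leaf (.up 12 3740 [2628] 1299 [94,155,173])))) (.node (.node (.leaf (.up 12 3673 [2501] 0 [87,55,89,132])) (.leaf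 (.up 13 957 [2628] 1299 [94,90,7]))) (.leaf (.up 11 3645 [2628] 1299 [88,103,234]))))) (.node (.node (.node (.node (.leaf (.up 12 2036 [2501] 0 [94,140,187])) (.leaf (.up 9 3710 [2628] 1299 [88,55,89,22]))) (.node (.leaf (.up 11 823 [2628] 1299 [87,55,44,144])) (.leaf (.up 14 465 [2501] 0 [55,176,245])))) (.node (.node (.leaf (.up 14 1312 [2501] 0 [57,56,91,237])) (.leaf (.up 13 2259 [2628] 1299 [87,56,140,138]))) (.leaf (.up 9 761 [2628] 1299 [56,91,203])))) (.node (.node (.node (.leaf (.up 12 3410 [2501] 0 [88,93,140,158])) (.leaf (.up 12 2597 [2628] 1299 [87,104,225]))) (.node (.leaf (.up 15 873 [2628] 1299 [110,103,109])) (.leaf (.up 12 2099 [2501] 0 [55,104,115])))) (.node (.node (.leaf (.up 10 2291 [2501] 0 [94,116,6])) (.leaf (.up 10 2032 [2501] 0 [57,103,173]))) (.leaf (.up 8 3355 [2501] 0 [104,27])))))))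

noncomputable def trio6_11101 : Tr TStep :=
  .node (.node (.node (.node (.node (.node (.node (.leaf (.up 14 3437 [2628] 1299 [57,110,123,185])) (.leaf (.up 12 791 [2628] 1299 [57,93,103,212]))) (.node (.leaf (.up 10 1063 [2628] 1299 [57,55,89,215])) (.leaf (.up 6 178 [2628] 1299 [57,56,44,154])))) (.node (.node (.leaf (.up 14 3521 [2628] 1299 [87,103,198])) (.leaf (.up 10 2550 [2501] 0 [87,56,104,184]))) (.node (.leaf (.up 10 252 [2501] 0 [87,110,43,148])) (.leaf (.up 8 2870 [2501] 0 [57,93,155,159]))))) (.node (.node (.node (.leaf (.up 10 1680 [2501] 0 [110,144])) (.leaf (.up 12 432 [2501] 0 [88,94,90,107]))) (.node (.leaf (.up 14 744 [2628] 1299 [88,55,140,212])) (.leaf (.up 14 3413 [2628] 1299 [88,94,116,208])))) (.node (.node (.leaf (.up 11 509 [2501] 0 [57,55,43,7])) (.leaf (.up 11 1561 [2501] 0 [55,44,75]))) (.leaf (.up 13 3048 [2501] 0 [87,248]))))) (.node (.node (.node (.node (.leaf (.up 9 3085 [2501] 0 [89,115])) (.leaf (.up 12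 2751 [2628] 1299 [87,55,43,18]))) (.node (.leaf (.up 13 889 [2628] 1299 [87,110,46])) (.leaf (.up 11 2844 [2628] 1299 [57,55,90,167])))) (.node (.node (.leaf (.up 11 2416 [2501] 0 [88,93,43,3])) (.leaf (.up 10 1051 [2628] 1299 [87,94,123,174]))) (.node (.leaf (.up 10 3236 [2628] 1299 [57,140,193])) (.leaf (.up 6 1436 [2501] 0 [57,93,123,22]))))) (.node (.node (.node (.leaf (.up 13 3318 [2501] 0 [91,151])) (.leaf (.up 13 771 [2501] 0 [87,110,176,227]))) (.node (.leaf (.up 8 2641 [2501] 0 [87,93,103,142])) (.leaf (.up 11 1550 [2501] 0 [94,103,225])))) (.node (.node (.leaf (.up 9 1478 [2501] 0 [87,56,140,21])) (.leaf (.up 11 1996 [2501] 0 [57,44,163]))) (.leaf (.up 16 1184 [2628] 1299 [93,176,100])))))) (.node (.node (.node (.node (.node (.leaf (.up 10 2479 [2628] 1299 [93,91,228])) (.leaf (.up 10 3152 [2628] 1299 [88,93,104,119]))) (.node (.leaf (.up 11 3455 [2628] 1299 [57,55,42,149])) (.leaf (.up 8 3621 [2501] 0 [57,56,116,96])))) (.node (.node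 (.leaf (.up 14 790 [2501] 0 [87,94,140,143])) (.leaf (.up 6 1291 [2628] 1299 [87,123,228]))) (.node (.leaf (.up 11 1687 [2501] 0 [57,94,123,224])) (.leaf (.up 13 18 [2501] 0 [57,94,89,35]))))) (.node (.node (.node (.leaf (.up 12 186 [2501] 0 [57,94,123,10])) (.leaf (.up 13 3686 [2628] 1299 [88,93,116,161]))) (.node (.leaf (.up 10 2136 [2628] 1299 [88,56,104,227])) (.leaf (.up 10 1767 [2501] 0 [57,110,116,30])))) (.node (.node (.leaf (.up 15 3351 [2501] 0 [87,43,18])) (.leaf (.up 10 1962 [2501] 0 [88,55,104,69]))) (.leaf (.up 15 2769 [2628] 1299 [93,140,13]))))) (.node (.node (.node (.node (.leaf (.up 8 270 [2628] 1299 [88,94,140,4])) (.leaf (.up 11 2389 [2501] 0 [87,94,91,23]))) (.node (.leaf (.up 13 100 [2501] 0 [55,135])) (.leaf (.up 12 3151 [2628] 1299 [88,103,128])))) (.node (.node (.leaf (.up 11 1547 [2628] 1299 [94,140,245])) (.leaf (.up 9 2513 [2501] 0 [88,116,227]))) (.leaf (.up 14 1868 [2501] 0 [55,104,170])))) (.node (.node (.node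 (.leaf (.up 8 3255 [2628] 1299 [88,110,104,111])) (.leaf (.up 12 1100 [2501] 0 [57,56,90,107]))) (.node (.leaf (.up 13 2189 [2501] 0 [87,55,123,73])) (.leaf (.up 10 785 [2628] 1299 [43,212])))) (.node (.node (.leaf (.up 4 8 [2501] 0 [57,110,89,237])) (.leaf (.up 14 2679 [2628] 1299 [57,110,89,191]))) (.leaf (.up 11 2844 [2501] 0 [57,103,180]))))))) (.node (.node (.node (.node (.node (.node (.leaf (.up 9 3723 [2628] 1299 [57,110,103,8])) (.leaf (.up 9 3300 [2501] 0 [87,55,164]))) (.node (.leaf (.up 11 2119 [2628] 1299 [88,56,44,21])) (.leaf (.up 8 3500 [2501] 0 [88,56,43,109])))) (.node (.node (.leaf (.up 12 1273 [2628] 1299 [87,56,42,164])) (.leaf (.up 13 310 [2501] 0 [88,196]))) (.node (.leaf (.up 13 613 [2501] 0 [87,55,116,119])) (.leaf (.up 8 3651 [2501] 0 [42,152]))))) (.node (.node (.node (.leaf (.up 13 699 [2628] 1299 [87,94,89,172])) (.leaf (.up 12 676 [2501] 0 [87,110,89,13]))) (.node (.leaf (.up 11 3210 [2501] 0 [56,42,164])) (.leaf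 (.up 10 765 [2628] 1299 [88,94,155,222])))) (.node (.node (.leaf (.up 10 3172 [2501] 0 [57,56,176,159])) (.leaf (.up 13 3692 [2501] 0 [88,55,44,31]))) (.leaf (.up 14 607 [2501] 0 [88,110,155,73]))))) (.node (.node (.node (.node (.leaf (.up 13 1474 [2501] 0 [88,110,90,11])) (.leaf (.up 12 3562 [2628] 1299 [87,55,90,202]))) (.node (.leaf (.up 12 1592 [2501] 0 [57,93,44,233])) (.leaf (.up 7 1558 [2501] 0 [88,110,91,162])))) (.node (.node (.leaf (.up 6 1485 [2501] 0 [57,94,89,134])) (.leaf (.up 7 3232 [2501] 0 [88,110,116,131]))) (.node (.leaf (.up 12 1267 [2628] 1299 [57,55,42,191])) (.leaf (.up 10 1926 [2628] 1299 [57,56,42,0]))))) (.node (.node (.node (.leaf (.up 10 2381 [2501] 0 [55,176,177])) (.leaf (.up 14 360 [2501] 0 [57,42,173]))) (.node (.leaf (.up 11 91 [2501] 0 [88,55,140,60])) (.leaf (.up 7 105 [2501] 0 [94,89,202])))) (.node (.node (.leaf (.up 6 1408 [2501] 0 [87,94,89,145])) (.leaf (.up 13 1806 [2628] 1299 [57,94,155,122]))) (.leaf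 (.up 13 605 [2628] 1299 [57,110,228])))))) (.node (.node (.node (.node (.node (.leaf (.up 5 1247 [2501] 0 [88,56,235])) (.leaf (.up 12 482 [2628] 1299 [57,93,104,241]))) (.node (.leaf (.up 2 3530 [2628] 1299 [57,110,176,231])) (.leaf (.up 15 3649 [2628] 1299 [88,56,91,240])))) (.node (.node (.leaf (.up 6 2313 [2628] 1299 [93,89,231])) (.leaf (.up 13 1082 [2501] 0 [93,123,105]))) (.node (.leaf (.up 15 1850 [2501] 0 [88,94,116,109])) (.leaf (.up 11 2572 [2628] 1299 [57,55,155,236]))))) (.node (.node (.node (.leaf (.up 2 1068 [2501] 0 [88,55,42,69])) (.leaf (.up 9 584 [2501] 0 [55,44,153]))) (.node (.leaf (.up 10 3046 [2501] 0 [57,91,241])) (.leaf (.up 9 280 [2501] 0 [88,55,104,31])))) (.node (.node (.leaf (.up 12 126 [2501] 0 [57,56,116,37])) (.leaf (.up 14 1560 [2628] 1299 [55,90,136]))) (.leaf (.up 12 2431 [2501] 0 [55,44,173]))))) (.node (.node (.node (.node (.leaf (.up 13 977 [2501] 0 [87,94,116,179])) (.leaf (.up 10 3514 [2501] 0 [94,103,18])))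 (.node (.leaf (.up 12 2592 [2501] 0 [87,55,42,177])) (.leaf (.up 11 1424 [2501] 0 [57,55,140,242])))) (.node (.node (.leaf (.up 15 1681 [2501] 0 [87,110,116,121])) (.leaf (.up 14 1469 [2628] 1299 [55,42,115]))) (.leaf (.up 13 142 [2501] 0 [43,106])))) (.node (.node (.node (.leaf (.up 12 1552 [2501] 0 [110,155,177])) (.leaf (.up 12 3123 [2501] 0 [57,55,116,222]))) (.node (.leaf (.up 10 533 [2628] 1299 [57,110,123,204])) (.leaf (.up 15 3253 [2628] 1299 [93,123,73])))) (.node (.node (.leaf (.up 14 931 [2628] 1299 [110,104,207])) (.leaf (.up 12 1621 [2628] 1299 [57,93,140,235]))) (.leaf (.up 11 1150 [2628] 1299 [57,55,44,228])))))))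

noncomputable def trio6_1110 : Tr TStep := .node trio6_11100 trio6_11101

noncomputable def trio6_11110 : Tr TStep :=
  .node (.node (.node (.node (.node (.node (.node (.leaf (.up 12 2619 [2501] 0 [87,110,123,230])) (.leaf (.up 6 1339 [2628] 1299 [94,155,208]))) (.node (.leaf (.up 7 801 [2501] 0 [110,91,115])) (.leaf (.up 8 2719 [2628] 1299 [88,55,217])))) (.node (.node (.leaf (.up 9 3548 [2628] 1299 [42,129])) (.leaf (.up 11 2892 [2501] 0 [87,56,42,120]))) (.node (.leaf (.up 4 3285 [2628] 1299 [88,56,216])) (.leaf (.up 12 2994 [2501] 0 [57,55,104,224]))))) (.node (.node (.node (.leaf (.up 13 343 [2501] 0 [88,55,176,135])) (.leaf (.up 6 2540 [2501] 0 [88,93,116,239]))) (.node (.leaf (.up 12 2011 [2501] 0 [87,110,43,61])) (.leaf (.up 14 2315 [2628] 1299 [87,56,90,166])))) (.node (.node (.leaf (.up 7 655 [2501] 0 [87,55,43,27])) (.leaf (.up 8 1276 [2501] 0 [57,123,109]))) (.leaf (.up 14 3280 [2628] 1299 [88,93,43,77]))))) (.node (.node (.node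 (.node (.leaf (.up 11 160 [2628] 1299 [94,89,230])) (.leaf (.up 8 1809 [2501] 0 [87,93,91,46]))) (.node (.leaf (.up 10 39 [2501] 0 [55,91,244])) (.leaf (.up 15 1947 [2501] 0 [93,140,233])))) (.node (.node (.leaf (.up 6 2332 [2628] 1299 [56,89,235])) (.leaf (.up 13 3666 [2501] 0 [110,91,129]))) (.node (.leaf (.up 7 3237 [2501] 0 [57,55,44,115])) (.leaf (.up 10 1566 [2628] 1299 [93,123,206]))))) (.node (.node (.node (.leaf (.up 12 1146 [2501] 0 [55,89,107])) (.leaf (.up 8 2686 [2628] 1299 [57,56,155,59]))) (.node (.leaf (.up 7 272 [2501] 0 [88,56,140,23])) (.leaf (.up 12 2592 [2628] 1299 [57,55,42,201])))) (.node (.node (.leaf (.up 11 590 [2628] 1299 [55,227])) (.leaf (.up 12 81 [2501] 0 [57,56,123,107]))) (.leaf (.up 10 3433 [2501] 0 [103,1])))))) (.node (.node (.node (.node (.node (.leaf (.up 13 992 [2628] 1299 [57,94,44,186])) (.leaf (.up 14 818 [2501] 0 [93,42,71]))) (.node (.leaf (.up 14 70 [2628] 1299 [57,56,43,20])) (.leaf (.up 11 1887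 [2501] 0 [56,90,173])))) (.node (.node (.leaf (.up 10 2412 [2628] 1299 [87,43,248])) (.leaf (.up 13 3552 [2628] 1299 [123,170]))) (.node (.leaf (.up 12 1335 [2628] 1299 [87,94,91,181])) (.leaf (.up 15 582 [2501] 0 [94,104,159]))))) (.node (.node (.node (.leaf (.up 11 37 [2501] 0 [87,93,44,9])) (.leaf (.up 9 1583 [2628] 1299 [87,140,239]))) (.node (.leaf (.up 7 3167 [2501] 0 [88,94,44,241])) (.leaf (.up 12 2008 [2628] 1299 [57,44,6])))) (.node (.node (.leaf (.up 11 1543 [2628] 1299 [93,176,224])) (.leaf (.up 9 1882 [2501] 0 [88,42,212]))) (.leaf (.up 6 1281 [2628] 1299 [43,129]))))) (.node (.node (.node (.node (.leaf (.up 5 3226 [2501] 0 [88,56,155,198])) (.leaf (.up 14 1395 [2501] 0 [87,110,193]))) (.node (.leaf (.up 11 769 [2501] 0 [87,42,73])) (.leaf (.up 10 1297 [2501] 0 [87,93,104,231])))) (.node (.node (.leaf (.up 13 3012 [2628] 1299 [110,116,165])) (.leaf (.up 9 3240 [2628] 1299 [88,56,155,175]))) (.node (.leaf (.up 12 2601 [2628] 1299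 [57,93,44,143])) (.leaf (.up 12 1111 [2628] 1299 [94,44,204]))))) (.node (.node (.node (.leaf (.up 2 2128 [2628] 1299 [87,116,221])) (.leaf (.up 14 853 [2501] 0 [88,176,15]))) (.node (.leaf (.up 13 2794 [2628] 1299 [57,55,155,125])) (.leaf (.up 12 2883 [2501] 0 [87,93,91,109])))) (.node (.node (.leaf (.up 13 3035 [2628] 1299 [88,110,104,244])) (.leaf (.up 8 3128 [2501] 0 [57,55,103,185]))) (.leaf (.up 9 1360 [2628] 1299 [93,107]))))))) (.node (.node (.node (.node (.node (.node (.leaf (.up 12 1734 [2628] 1299 [57,94,155,180])) (.leaf (.up 7 42 [2501] 0 [93,155,139]))) (.node (.leaf (.up 11 1363 [2501] 0 [87,93,44,211])) (.leaf (.up 12 3627 [2628] 1299 [88,93,140,99])))) (.node (.node (.leaf (.up 14 2524 [2628] 1299 [57,55,176,150])) (.leaf (.up 9 1966 [2501] 0 [87,56,91,121]))) (.node (.leaf (.up 8 3117 [2501] 0 [57,93,204])) (.leaf (.up 13 289 [2628] 1299 [87,103,210]))))) (.node (.node (.node (.leaf (.up 14 3777 [2628] 1299 [93,44,216]))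 (.leaf (.up 14 1872 [2501] 0 [88,110,104,245]))) (.node (.leaf (.up 14 2386 [2628] 1299 [55,89,11])) (.leaf (.up 2 641 [2628] 1299 [55,89])))) (.node (.node (.leaf (.up 12 1071 [2501] 0 [93,104,129])) (.leaf (.up 14 719 [2628] 1299 [87,93,116,217]))) (.leaf (.up 15 946 [2628] 1299 [104,204]))))) (.node (.node (.node (.node (.leaf (.up 9 2625 [2501] 0 [88,56,123,182])) (.leaf (.up 9 54 [2501] 0 [88,94,116,21]))) (.node (.leaf (.up 16 1097 [2501] 0 [57,56,176,220])) (.leaf (.up 9 471 [2628] 1299 [87,94,44,92])))) (.node (.node (.leaf (.up 12 402 [2501] 0 [87,55,155,213])) (.leaf (.up 16 2310 [2628] 1299 [87,94,103,189]))) (.node (.leaf (.up 8 1643 [2628] 1299 [57,93,90,139])) (.leaf (.up 14 1769 [2628] 1299 [56,150]))))) (.node (.node (.node (.leaf (.up 10 2582 [2501] 0 [110,132])) (.leaf (.up 9 3684 [2628] 1299 [57,146]))) (.node (.leaf (.up 13 2470 [2501] 0 [88,93,144])) (.leaf (.up 11 2928 [2628] 1299 [87,93,155,107])))) (.node (.node (.leaf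 (.up 12 1592 [2628] 1299 [88,55,104,60])) (.leaf (.up 6 2252 [2628] 1299 [88,55,90]))) (.leaf (.up 10 2144 [2628] 1299 [57,56,91,148])))))) (.node (.node (.node (.node (.node (.leaf (.up 13 2212 [2628] 1299 [57,56,43,197])) (.leaf (.up 11 2865 [2628] 1299 [55,155,3]))) (.node (.leaf (.up 13 1489 [2501] 0 [88,118])) (.leaf (.up 8 3384 [2501] 0 [57,110,103,214])))) (.node (.node (.leaf (.up 12 1848 [2501] 0 [87,103,189])) (.leaf (.up 11 1723 [2501] 0 [87,110,89,186]))) (.node (.leaf (.up 12 1453 [2628] 1299 [87,93,123,69])) (.leaf (.up 8 362 [2628] 1299 [57,110,42,36]))))) (.node (.node (.node (.leaf (.up 12 3168 [2501] 0 [88,94,103,92])) (.leaf (.up 10 1854 [2501] 0 [88,94,202]))) (.node (.leaf (.up 13 3431 [2501] 0 [87,93,42,225])) (.leaf (.up 8 76 [2628] 1299 [87,94,91,15])))) (.node (.node (.leaf (.up 8 1139 [2501] 0 [88,103,184])) (.leaf (.up 13 2311 [2628] 1299 [88,55,182]))) (.leaf (.up 4 667 [2501] 0 [87,93,140,177]))))) (.node (.node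 (.node (.node (.leaf (.up 6 436 [2501] 0 [87,94,155,74])) (.leaf (.up 16 1232 [2628] 1299 [57,55,176,224]))) (.node (.leaf (.up 14 1649 [2628] 1299 [87,91,248])) (.leaf (.up 11 568 [2501] 0 [87,93,90,217])))) (.node (.node (.leaf (.up 6 1909 [2501] 0 [57,94,103,1])) (.leaf (.up 9 546 [2501] 0 [87,110,123,11]))) (.leaf (.up 11 2135 [2628] 1299 [57,94,176,127])))) (.node (.node (.node (.leaf (.up 15 1522 [2628] 1299 [93,90,72])) (.leaf (.up 13 1597 [2501] 0 [88,110,123,96]))) (.node (.leaf (.up 5 1548 [2628] 1299 [87,90,237])) (.leaf (.up 14 3016 [2501] 0 [88,94,103,242])))) (.node (.node (.leaf (.up 13 2975 [2501] 0 [88,93,42,1])) (.leaf (.up 8 2906 [2628] 1299 [87,56,155,156]))) (.leaf (.up 12 680 [2628] 1299 [57,56,187])))))))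

noncomputable def trio6_11111 : Tr TStep :=
  .node (.node (.node (.node (.node (.node (.node (.leaf (.up 13 2019 [2628] 1299 [87,55,155,190])) (.leaf (.up 14 1278 [2628] 1299 [56,178]))) (.node (.leaf (.up 12 3218 [2628] 1299 [87,163])) (.leaf (.up 16 146 [2628] 1299 [87,56,44,232])))) (.node (.node (.leaf (.up 10 2905 [2501] 0 [43,124])) (.leaf (.up 13 2722 [2628] 1299 [88,206]))) (.node (.leaf (.up 11 3366 [2501] 0 [140,223])) (.leaf (.up 12 1200 [2501] 0 [57,110,123,7]))))) (.node (.node (.node (.leaf (.up 17 875 [2501] 0 [57,93,116,158])) (.leaf (.up 12 2668 [2628] 1299 [87,55,140,237]))) (.node (.leaf (.up 13 2794 [2501] 0 [87,94,91,182])) (.leaf (.up 12 1231 [2628] 1299 [88,56,104,208])))) (.node (.node (.leaf (.up 12 555 [2501] 0 [55,43,99])) (.leaf (.up 13 1579 [2501] 0 [55,44,141]))) (.leaf (.up 10 1385 [2628] 1299 [57,56,131]))))) (.node (.node (.node (.node (.leaf (.up 12 1956 [2628] 1299 [88,93,90,248])) (.leaf (.up 6 207 [2628]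 1299 [87,55,44,188]))) (.node (.leaf (.up 10 2324 [2501] 0 [57,103,13])) (.leaf (.up 11 513 [2628] 1299 [57,93,103,219])))) (.node (.node (.leaf (.up 12 3419 [2628] 1299 [88,43,214])) (.leaf (.up 7 2094 [2501] 0 [88,93,91,65]))) (.node (.leaf (.up 9 3166 [2628] 1299 [57,93,155])) (.leaf (.up 7 251 [2628] 1299 [94,89,178]))))) (.node (.node (.node (.leaf (.up 13 2104 [2501] 0 [94,176,232])) (.leaf (.up 9 2713 [2628] 1299 [87,93,91,203]))) (.node (.leaf (.up 10 2914 [2501] 0 [93,123,115])) (.leaf (.up 14 21 [2628] 1299 [57,110,155,35])))) (.node (.node (.leaf (.up 13 1748 [2628] 1299 [57,94,90,242])) (.leaf (.up 12 1250 [2628] 1299 [94,89,133]))) (.leaf (.up 5 227 [2501] 0 [88,56,104,247])))))) (.node (.node (.node (.node (.node (.leaf (.up 11 2174 [2628] 1299 [56,182])) (.leaf (.up 11 1124 [2628] 1299 [57,55,140,4]))) (.node (.leaf (.up 16 3685 [2628] 1299 [88,55,44,126])) (.leaf (.up 6 1152 [2628] 1299 [88,56,89,69])))) (.node (.node (.leaf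 (.up 13 1252 [2628] 1299 [104,35])) (.leaf (.up 12 620 [2628] 1299 [110,91,142]))) (.node (.leaf (.up 16 3644 [2501] 0 [94,140,158])) (.leaf (.up 9 2713 [2501] 0 [87,56,91,36]))))) (.node (.node (.node (.leaf (.up 14 1701 [2628] 1299 [88,93,155,125])) (.leaf (.up 13 2292 [2501] 0 [57,55,176,165]))) (.node (.leaf (.up 14 2972 [2628] 1299 [110,182])) (.leaf (.up 13 1106 [2628] 1299 [57,140,74])))) (.node (.node (.leaf (.up 8 2520 [2628] 1299 [93,89,164])) (.leaf (.up 14 121 [2628] 1299 [87,93,43,177]))) (.leaf (.up 10 157 [2628] 1299 [93,123,36]))))) (.node (.node (.node (.node (.leaf (.up 5 1533 [2628] 1299 [88,56,116,218])) (.leaf (.up 15 1333 [2628] 1299 [87,94,104,210]))) (.node (.leaf (.up 4 2089 [2628] 1299 [88,93,123,143])) (.leaf (.up 13 2541 [2501] 0 [57,56,155,228])))) (.node (.node (.leaf (.up 11 1167 [2501] 0 [87,116,192])) (.leaf (.up 6 987 [2501] 0 [57,55,140,143]))) (.leaf (.up 10 707 [2501] 0 [87,110,33])))) (.node (.node (.node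 (.leaf (.up 14 2907 [2628] 1299 [88,89,193])) (.leaf (.up 11 1945 [2628] 1299 [57,90,203]))) (.node (.leaf (.up 15 2395 [2628] 1299 [176,3])) (.leaf (.up 6 1909 [2628] 1299 [93,89,144])))) (.node (.node (.leaf (.up 15 3461 [2628] 1299 [87,55,155,111])) (.leaf (.up 8 2490 [2628] 1299 [57,94,104,215]))) (.leaf (.up 11 46 [2501] 0 [232]))))))) (.node (.node (.node (.node (.node (.node (.leaf (.up 14 3346 [2628] 1299 [57,94,123,167])) (.leaf (.up 6 1465 [2628] 1299 [94,155,212]))) (.node (.leaf (.up 10 551 [2501] 0 [88,94,103,177])) (.leaf (.up 9 2736 [2501] 0 [57,94,176,215])))) (.node (.node (.leaf (.up 7 3388 [2501] 0 [57,110,43,238])) (.leaf (.up 10 3465 [2501] 0 [57,56,176,223]))) (.node (.leaf (.up 14 1794 [2501] 0 [88,56,176,72])) (.leaf (.up 7 1185 [2501] 0 [57,93,116,213]))))) (.node (.node (.node (.leaf (.up 10 2768 [2501] 0 [57,93,44,203])) (.leaf (.up 12 1601 [2501] 0 [88,94,176,168]))) (.node (.leaf (.up 15 2326 [2628] 1299 [57,110,168]))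 (.leaf (.up 13 11 [2501] 0 [56,230])))) (.node (.node (.leaf (.up 9 3086 [2501] 0 [87,135])) (.leaf (.up 11 2572 [2501] 0 [87,93,104,10]))) (.leaf (.up 14 893 [2501] 0 [88,93,126]))))) (.node (.node (.node (.node (.leaf (.up 12 1229 [2501] 0 [57,55,44,134])) (.leaf (.up 5 57 [2501] 0 [57,55,42,35]))) (.node (.leaf (.up 13 3471 [2501] 0 [87,93,90,9])) (.leaf (.up 11 1708 [2501] 0 [87,56,123,170])))) (.node (.node (.leaf (.up 11 1613 [2628] 1299 [110,116,33])) (.leaf (.up 11 2106 [2628] 1299 [88,93,89,9]))) (.node (.leaf (.up 12 1525 [2501] 0 [57,110,123,31])) (.leaf (.up 11 3750 [2501] 0 [88,94,116,77]))))) (.node (.node (.node (.leaf (.up 10 68 [2501] 0 [87,56,89,12])) (.leaf (.up 4 3314 [2501] 0 [94,89,92]))) (.node (.leaf (.up 11 439 [2501] 0 [87,94,44,218])) (.leaf (.up 9 584 [2628] 1299 [87,93,116,30])))) (.node (.node (.leaf (.up 10 1344 [2501] 0 [57,110,91,149])) (.leaf (.up 3 1448 [2628] 1299 [88,94,140,235]))) (.leaf (.up 15 3611 [2501]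 0 [57,43,109])))))) (.node (.node (.node (.node (.node (.leaf (.up 11 2409 [2628] 1299 [57,93,155,206])) (.leaf (.up 14 1783 [2501] 0 [57,103,106]))) (.node (.leaf (.up 11 1929 [2501] 0 [88,94,91,15])) (.leaf (.up 9 3249 [2501] 0 [57,42,218])))) (.node (.node (.leaf (.up 13 541 [2628] 1299 [88,94,104,0])) (.leaf (.up 13 507 [2501] 0 [88,56,123,108]))) (.node (.leaf (.up 9 2488 [2501] 0 [110,155,214])) (.leaf (.up 10 673 [2628] 1299 [57,93,123,184]))))) (.node (.node (.node (.leaf (.up 15 1994 [2501] 0 [57,89,221])) (.leaf (.up 11 1535 [2628] 1299 [55,155,189]))) (.node (.leaf (.up 11 400 [2501] 0 [110,176,61])) (.leaf (.up 10 3337 [2501] 0 [87,93,90,184])))) (.node (.node (.leaf (.up 14 3198 [2501] 0 [57,56,91,12])) (.leaf (.up 16 708 [2501] 0 [57,56,91,240]))) (.leaf (.up 11 590 [2501] 0 [94,90,12]))))) (.node (.node (.node (.node (.leaf (.up 11 2203 [2501] 0 [57,94,103,74])) (.leaf (.up 10 2962 [2628] 1299 [88,94,166]))) (.node (.leaf (.up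 6 2887 [2628] 1299 [88,110,199])) (.leaf (.up 9 3429 [2628] 1299 [57,93,90,169])))) (.node (.node (.leaf (.up 6 2540 [2628] 1299 [88,93,42,197])) (.leaf (.up 11 841 [2501] 0 [87,56,42,31]))) (.leaf (.up 8 2368 [2628] 1299 [42,119])))) (.node (.node (.node (.leaf (.up 8 3057 [2501] 0 [88,93,155,134])) (.leaf (.up 15 1992 [2501] 0 [140,11]))) (.node (.leaf (.up 10 2659 [2628] 1299 [57,110,90,3])) (.leaf (.up 3 3308 [2501] 0 [88,56,140,178])))) (.node (.node (.leaf (.up 12 2744 [2628] 1299 [57,110,176,180])) (.leaf (.up 6 1281 [2501] 0 [87,110,89,115]))) (.leaf (.up 10 1130 [2501] 0 [87,110,116,129])))))))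

noncomputable def trio6_1111 : Tr TStep := .node trio6_11110 trio6_11111

noncomputable def trio6_111 : Tr TStep := .node trio6_1110 trio6_1111

noncomputable def trio6_11 : Tr TStep := .node trio6_110 trio6_111

noncomputable def trio6_1 : Tr TStep := .node trio6_10 trio6_11

noncomputable def trio6_ : Tr TStep := .node trio6_0 trio6_1

noncomputable def vt6_0_0000 : Tr VStep :=
  .node (.node (.node (.node (.node (.node (.node (.leaf (.root 2496)) (.leaf (.up 5 1464 1))) (.node (.leaf (.up 4 659 0)) (.leaf (.up 2 1237 1)))) (.node (.node (.leaf (.up 3 964 0)) (.leaf (.up 4 1763 0))) (.node (.leaf (.up 3 1205 1)) (.leaf (.up 2 1136 0))))) (.node (.node (.node (.leaf (.up 3 1327 0)) (.leaf (.up 1 8 0))) (.node (.leaf (.up 3 1980 0)) (.leaf (.up 5 1621 1)))) (.node (.node (.leaf (.up 3 1771 0)) (.leaf (.up 4 2040 1))) (.node (.leaf (.up 4 1144 0)) (.leaf (.up 2 351 0)))))) (.node (.node (.node (.node (.leaf (.up 2 1436 1)) (.leaf (.up 3 1340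 1))) (.node (.leaf (.up 4 1265 1)) (.leaf (.up 2 1105 1)))) (.node (.node (.leaf (.up 4 1372 1)) (.leaf (.up 3 1532 1))) (.node (.leaf (.up 2 1073 1)) (.leaf (.up 4 1169 1))))) (.node (.node (.node (.leaf (.up 2 978 0)) (.leaf (.up 3 1980 1))) (.node (.leaf (.up 4 321 0)) (.leaf (.up 2 1745 1)))) (.node (.node (.leaf (.up 1 22 0)) (.leaf (.up 2 1916 1))) (.node (.leaf (.up 5 645 0)) (.leaf (.up 4 1553 1))))))) (.node (.node (.node (.node (.node (.leaf (.root 4400)) (.leaf (.up 1 4 0))) (.node (.leaf (.up 3 1839 1)) (.leaf (.up 2 663 0)))) (.node (.node (.leaf (.up 4 1767 0)) (.leaf (.up 4 1570 1))) (.node (.leaf (.up 4 1140 0)) (.leaf (.up 3 1871 1))))) (.node (.node (.node (.leaf (.up 1 12 0)) (.leaf (.up 4 1323 0))) (.node (.leaf (.up 3 671 0)) (.leaf (.up 5 1976 0)))) (.node (.node (.leaf (.up 2 968 0)) (.leaf (.up 4 1775 0))) (.node (.leaf (.up 5 347 0)) (.leaf (.up 5 1148 0)))))) (.node (.node (.node (.node (.leaf (.up 5 990 0)) (.leaf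 (.up 5 1785 0))) (.node (.leaf (.up 3 1963 1)) (.leaf (.up 2 1130 0)))) (.node (.node (.leaf (.up 1 26 0)) (.leaf (.up 3 1341 0))) (.node (.leaf (.up 3 1899 1)) (.leaf (.up 4 1995 1))))) (.node (.node (.node (.leaf (.up 4 1094 1)) (.leaf (.up 3 1254 1))) (.node (.leaf (.up 4 1323 1)) (.leaf (.up 4 1419 1)))) (.node (.node (.leaf (.up 5 1158 1)) (.leaf (.up 1 18 0))) (.node (.leaf (.up 2 1958 0)) (.leaf (.up 3 1355 1)))))))) (.node (.node (.node (.node (.node (.node (.leaf (.root 3148)) (.leaf (.up 3 64 0))) (.node (.leaf (.up 4 2036 0)) (.leaf (.up 2 723 0)))) (.node (.node (.leaf (.up 4 955 1)) (.leaf (.up 2 900 0))) (.node (.leaf (.up 4 1072 0)) (.leaf (.up 4 279 0))))) (.node (.node (.node (.leaf (.up 1 72 0)) (.leaf (.up 5 347 1))) (.node (.leaf (.up 4 731 0)) (.leaf (.up 1 54 1)))) (.node (.node (.leaf (.up 1 315 1)) (.leaf (.up 4 1707 0))) (.node (.leaf (.up 3 287 0)) (.leaf (.up 3 246 1)))))) (.node (.node (.node (.node (.leaf (.up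 3 1023 1)) (.leaf (.up 4 1725 0))) (.node (.leaf (.up 2 658 1)) (.leaf (.up 3 562 1)))) (.node (.node (.leaf (.up 2 831 1)) (.leaf (.up 4 927 1))) (.node (.leaf (.up 4 717 0)) (.leaf (.up 4 754 1))))) (.node (.node (.node (.leaf (.up 2 1717 0)) (.leaf (.up 2 479 1))) (.node (.leaf (.up 1 18 1)) (.leaf (.up 1 178 1)))) (.node (.node (.leaf (.up 4 447 1)) (.leaf (.up 3 287 1))) (.node (.leaf (.up 5 210 1)) (.leaf (.up 2 114 1))))))) (.node (.node (.node (.node (.node (.leaf (.up 1 33 1)) (.leaf (.up 3 1379 0))) (.node (.leaf (.up 4 727 0)) (.leaf (.up 5 492 1)))) (.node (.node (.leaf (.up 2 225 1)) (.leaf (.up 1 65 1))) (.node (.leaf (.up 2 275 0)) (.leaf (.up 2 300 1))))) (.node (.node (.node (.leaf (.up 5 1387 0)) (.leaf (.up 3 513 1))) (.node (.leaf (.up 4 2040 0)) (.leaf (.up 2 735 0)))) (.node (.node (.leaf (.up 3 609 1)) (.leaf (.up 5 904 0))) (.node (.leaf (.up 4 780 1)) (.leaf (.up 4 283 0)))))) (.node (.node (.node (.node (.leaf (.root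 4402)) (.leaf (.up 1 5 1))) (.node (.leaf (.up 5 1066 0)) (.leaf (.up 3 269 0)))) (.node (.node (.leaf (.up 4 101 1)) (.leaf (.up 3 90 0))) (.node (.leaf (.up 3 264 1)) (.leaf (.up 2 713 0))))) (.node (.node (.node (.leaf (.up 2 549 1)) (.leaf (.up 5 645 1))) (.node (.leaf (.up 4 840 1)) (.leaf (.up 2 1058 0)))) (.node (.node (.leaf (.up 3 82 0)) (.leaf (.up 3 581 1))) (.node (.leaf (.up 5 904 1)) (.leaf (.up 4 808 1))))))))

noncomputable def vt6_0_0001 : Tr VStep :=
  .node (.node (.node (.node (.node (.node (.node (.leaf (.root 6138)) (.leaf (.up 3 770 1))) (.node (.leaf (.up 1 61 0)) (.leaf (.up 2 623 1)))) (.node (.node (.leaf (.up 2 362 0)) (.leaf (.up 3 1101 0))) (.node (.leaf (.up 4 527 1)) (.leaf (.up 5 687 1))))) (.node (.node (.node (.leaf (.root 3442)) (.leaf (.up 3 386 1))) (.node (.leaf (.up 1 79 1)) (.leaf (.up 1 53 0)))) (.node (.node (.leaf (.up 3 1093 0)) (.leaf (.up 3 322 1))) (.node (.leaf (.up 4 143 1)) (.leaf (.up 1 47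 1)))))) (.node (.node (.node (.node (.leaf (.root 6220)) (.leaf (.up 2 902 1))) (.node (.leaf (.up 3 1728 0)) (.leaf (.up 3 747 1)))) (.node (.node (.leaf (.up 3 1943 0)) (.leaf (.up 3 838 1))) (.node (.leaf (.up 3 651 1)) (.leaf (.up 1 35 0))))) (.node (.node (.node (.leaf (.root 4366)) (.leaf (.up 3 1115 0))) (.node (.leaf (.up 5 203 1)) (.leaf (.up 1 107 1)))) (.node (.node (.leaf (.up 4 358 1)) (.leaf (.up 3 1951 0))) (.node (.leaf (.up 1 11 1)) (.leaf (.up 3 171 1))))))) (.node (.node (.node (.node (.node (.leaf (.root 2778)) (.leaf (.up 2 682 0))) (.node (.leaf (.up 4 1310 0)) (.leaf (.up 3 309 1)))) (.node (.node (.leaf (.up 1 56 1)) (.leaf (.up 3 366 0))) (.node (.leaf (.up 3 1754 0)) (.leaf (.up 4 501 1))))) (.node (.node (.node (.leaf (.up 4 674 0)) (.leaf (.up 3 728 1))) (.node (.leaf (.up 3 789 1)) (.leaf (.up 4 1302 0)))) (.node (.node (.leaf (.up 4 358 0)) (.leaf (.up 3 1089 0))) (.node (.leaf (.up 2 1013 0)) (.leaf (.up 3 885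 1)))))) (.node (.node (.node (.node (.leaf (.up 5 124 1)) (.leaf (.up 5 1111 0))) (.node (.leaf (.up 2 273 1)) (.leaf (.up 4 1732 0)))) (.node (.node (.leaf (.up 4 692 0)) (.leaf (.up 1 28 1))) (.node (.leaf (.up 1 39 0)) (.leaf (.up 2 369 1))))) (.node (.node (.node (.leaf (.up 4 1119 0)) (.leaf (.up 3 376 0))) (.node (.leaf (.up 5 913 1)) (.leaf (.up 3 817 1)))) (.node (.node (.leaf (.up 2 1947 0)) (.leaf (.up 3 668 1))) (.node (.leaf (.up 4 1288 0)) (.leaf (.up 1 47 0)))))))) (.node (.node (.node (.node (.node (.node (.leaf (.root 3608)) (.leaf (.up 4 1377 1))) (.node (.leaf (.up 4 1370 0)) (.leaf (.up 4 1036 1)))) (.node (.node (.leaf (.up 4 1037 0)) (.leaf (.up 3 298 0))) (.node (.leaf (.up 3 1132 1)) (.leaf (.up 3 953 0))))) (.node (.node (.node (.leaf (.up 4 742 0)) (.leaf (.up 4 2017 1))) (.node (.leaf (.up 1 117 0)) (.leaf (.up 4 1362 0)))) (.node (.node (.leaf (.up 3 1921 1)) (.leaf (.up 4 1029 0))) (.node (.leaf (.up 4 945 0)) (.leaf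 (.up 3 1612 1)))))) (.node (.node (.node (.node (.leaf (.up 4 308 0)) (.leaf (.up 4 1043 0))) (.node (.leaf (.up 3 1064 1)) (.leaf (.up 4 1160 1)))) (.node (.node (.leaf (.up 4 1413 1)) (.leaf (.up 2 2007 0))) (.node (.leaf (.up 1 99 0)) (.leaf (.up 3 1096 1))))) (.node (.node (.node (.leaf (.up 5 1989 1)) (.leaf (.up 3 316 0))) (.node (.leaf (.up 2 1672 0)) (.leaf (.up 3 1544 1)))) (.node (.node (.leaf (.up 5 2015 0)) (.leaf (.up 4 760 0))) (.node (.leaf (.up 3 1356 0)) (.leaf (.up 1 107 0))))))) (.node (.node (.node (.node (.node (.leaf (.root 2672)) (.leaf (.up 3 1595 1))) (.node (.leaf (.up 3 2038 1)) (.leaf (.up 4 1374 0)))) (.node (.node (.leaf (.up 4 302 0)) (.leaf (.up 3 1033 0))) (.node (.leaf (.up 3 1846 1)) (.leaf (.up 3 1690 0))))) (.node (.node (.node (.leaf (.up 5 1989 0)) (.leaf (.up 5 738 0))) (.node (.leaf (.up 4 1398 1)) (.leaf (.up 2 113 0)))) (.node (.node (.leaf (.up 5 1025 0)) (.leaf (.up 4 1147 1))) (.node (.leaf (.up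 2 1682 0)) (.leaf (.up 4 1302 1)))))) (.node (.node (.node (.node (.leaf (.up 3 1567 1)) (.leaf (.up 3 304 0))) (.node (.leaf (.up 5 1668 0)) (.leaf (.up 5 931 0)))) (.node (.node (.leaf (.up 2 2003 0)) (.leaf (.up 4 1663 1))) (.node (.leaf (.up 3 1970 1)) (.leaf (.up 4 1810 1))))) (.node (.node (.node (.leaf (.up 3 1183 1)) (.leaf (.up 2 1055 0))) (.node (.leaf (.up 3 1522 1)) (.leaf (.up 4 1362 1)))) (.node (.node (.leaf (.up 4 1119 1)) (.leaf (.up 4 2011 0))) (.node (.leaf (.up 4 1330 1)) (.leaf (.up 3 1426 1))))))))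

noncomputable def vt6_0_000 : Tr VStep := .node vt6_0_0000 vt6_0_0001

noncomputable def vt6_0_0010 : Tr VStep :=
  .node (.node (.node (.node (.node (.node (.node (.leaf (.root 4134)) (.leaf (.up 4 493 0))) (.node (.leaf (.up 4 833 1)) (.leaf (.up 2 894 0)))) (.node (.node (.leaf (.root 2842)) (.leaf (.up 3 588 1))) (.node (.leaf (.up 3 1437 0)) (.leaf (.up 3 801 1))))) (.node (.node (.node (.leaf (.root 3710)) (.leaf (.up 1 12 1))) (.node (.leaf (.up 4 449 1)) (.leaf (.up 4 353 1)))) (.node (.node (.leaf (.up 3 108 1)) (.leaf (.up 3 204 1))) (.node (.leaf (.up 1 178 0)) (.leaf (.up 5 417 1)))))) (.node (.node (.node (.node (.leaf (.up 3 567 0)) (.leaf (.up 2 520 1))) (.node (.leaf (.up 3 164 0)) (.leaf (.up 2 869 1)))) (.node (.node (.leaf (.up 3 616 1)) (.leaf (.up 4 1236 0))) (.node (.leaf (.up 3 773 1)) (.leaf (.up 3 933 1))))) (.node (.node (.node (.leaf (.up 1 40 1)) (.leaf (.up 1 136 1))) (.node (.leaf (.up 4 1419 0)) (.leaf (.up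 3 485 1)))) (.node (.node (.leaf (.up 2 1244 0)) (.leaf (.up 1 72 1))) (.node (.leaf (.up 2 389 1)) (.leaf (.up 2 872 0))))))) (.node (.node (.node (.node (.node (.leaf (.root 3452)) (.leaf (.up 3 470 1))) (.node (.leaf (.up 1 27 1)) (.leaf (.up 1 187 1)))) (.node (.node (.leaf (.up 4 438 1)) (.leaf (.up 4 278 1))) (.node (.leaf (.up 4 190 0)) (.leaf (.up 3 123 1))))) (.node (.node (.node (.leaf (.up 2 1222 0)) (.leaf (.up 4 481 0))) (.node (.leaf (.up 5 1621 0)) (.leaf (.up 3 571 1)))) (.node (.node (.leaf (.up 4 1794 0)) (.leaf (.up 2 549 0))) (.node (.leaf (.up 4 1425 0)) (.leaf (.up 3 763 1)))))) (.node (.node (.node (.node (.leaf (.up 3 1812 0)) (.leaf (.up 5 563 0))) (.node (.leaf (.up 2 159 1)) (.leaf (.up 2 160 0)))) (.node (.node (.leaf (.up 3 1232 0)) (.leaf (.up 3 402 1))) (.node (.leaf (.up 1 95 1)) (.leaf (.up 2 868 0))))) (.node (.node (.node (.leaf (.up 3 571 0)) (.leaf (.up 2 978 1))) (.node (.leaf (.up 3 543 1)) (.leaf (.up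 4 703 1)))) (.node (.node (.leaf (.up 2 511 0)) (.leaf (.up 4 1240 0))) (.node (.leaf (.up 2 735 1)) (.leaf (.up 2 639 1)))))))) (.node (.node (.node (.node (.node (.node (.leaf (.up 4 429 0)) (.leaf (.up 2 1162 0))) (.node (.leaf (.up 2 830 0)) (.leaf (.up 4 1410 1)))) (.node (.node (.leaf (.up 2 1167 1)) (.leaf (.up 2 1071 1))) (.node (.leaf (.up 4 250 0)) (.leaf (.up 2 1501 0))))) (.node (.node (.node (.leaf (.up 3 1743 1)) (.leaf (.up 2 421 0))) (.node (.leaf (.up 4 1553 0)) (.leaf (.up 4 1794 1)))) (.node (.node (.leaf (.up 3 1862 0)) (.leaf (.up 3 609 0))) (.node (.leaf (.up 3 1493 0)) (.leaf (.up 3 1986 1)))))) (.node (.node (.node (.node (.leaf (.up 5 1227 1)) (.leaf (.up 2 1131 1))) (.node (.leaf (.up 4 1475 0)) (.leaf (.up 4 228 0)))) (.node (.node (.leaf (.root 4358)) (.leaf (.up 3 1195 1))) (.node (.leaf (.up 3 1382 1)) (.leaf (.up 2 1478 1))))) (.node (.node (.node (.leaf (.up 2 639 0)) (.leaf (.up 3 1771 1))) (.node (.leaf (.up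 5 1830 1)) (.leaf (.up 4 1926 1)))) (.node (.node (.leaf (.up 4 443 0)) (.leaf (.up 4 1180 0))) (.node (.leaf (.up 4 808 0)) (.leaf (.up 3 1862 1))))))) (.node (.node (.node (.node (.node (.leaf (.up 3 1813 1)) (.leaf (.up 4 425 0))) (.node (.leaf (.up 4 1565 0)) (.leaf (.up 3 826 0)))) (.node (.node (.leaf (.up 3 1866 0)) (.leaf (.up 3 621 0))) (.node (.leaf (.up 3 1720 1)) (.leaf (.up 5 1560 1))))) (.node (.node (.node (.leaf (.up 5 417 0)) (.leaf (.up 5 1158 0))) (.node (.leaf (.up 3 1272 1)) (.leaf (.up 2 1557 0)))) (.node (.node (.leaf (.up 2 613 0)) (.leaf (.up 5 1525 1))) (.node (.leaf (.up 3 246 0)) (.leaf (.up 4 1489 0)))))) (.node (.node (.node (.node (.leaf (.up 2 1937 1)) (.leaf (.up 3 1876 0))) (.node (.leaf (.up 5 224 0)) (.leaf (.up 4 1628 1)))) (.node (.node (.leaf (.up 4 439 0)) (.leaf (.up 4 2033 1))) (.node (.leaf (.up 2 1596 1)) (.leaf (.up 3 1539 0))))) (.node (.node (.node (.leaf (.up 3 1297 1)) (.leaf (.up 3 1457 1)))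 (.node (.leaf (.up 5 1148 1)) (.leaf (.up 2 1244 1)))) (.node (.node (.leaf (.up 4 1489 1)) (.leaf (.up 4 447 0))) (.node (.leaf (.up 4 1212 1)) (.leaf (.up 3 1052 1))))))))

noncomputable def vt6_0_0011 : Tr VStep :=
  .node (.node (.node (.node (.node (.node (.node (.leaf (.root 5112)) (.leaf (.up 3 835 0))) (.node (.leaf (.up 4 1271 0)) (.leaf (.up 5 1371 1)))) (.node (.node (.leaf (.up 3 1110 1)) (.leaf (.up 3 1270 1))) (.node (.leaf (.up 3 1339 1)) (.leaf (.up 3 532 0))))) (.node (.node (.node (.leaf (.up 3 843 0)) (.leaf (.up 3 1644 0))) (.node (.leaf (.up 4 1915 1)) (.leaf (.up 4 2011 1)))) (.node (.node (.leaf (.up 4 143 0)) (.leaf (.up 4 1448 0))) (.node (.leaf (.up 3 540 0)) (.leaf (.up 2 1851 0)))))) (.node (.node (.node (.node (.leaf (.up 3 1042 1)) (.leaf (.up 2 1202 1))) (.node (.leaf (.up 2 1407 1)) (.leaf (.up 2 1503 1)))) (.node (.node (.leaf (.up 5 1234 1)) (.leaf (.up 2 1138 1))) (.node (.leaf (.up 3 462 0)) (.leaf (.up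 4 1257 0))))) (.node (.node (.node (.leaf (.up 2 1682 1)) (.leaf (.up 3 1586 1))) (.node (.leaf (.up 2 1829 0)) (.leaf (.up 4 1887 1)))) (.node (.node (.leaf (.up 4 1650 0)) (.leaf (.up 2 853 0))) (.node (.leaf (.up 5 1855 1)) (.leaf (.up 3 1951 1))))))) (.node (.node (.node (.node (.node (.leaf (.root 3254)) (.leaf (.up 3 1632 0))) (.node (.leaf (.up 3 1697 1)) (.leaf (.up 3 1267 0)))) (.node (.node (.leaf (.up 1 131 0)) (.leaf (.up 3 1444 0))) (.node (.leaf (.up 3 1633 1)) (.leaf (.up 3 1847 0))))) (.node (.node (.node (.leaf (.up 3 1356 1)) (.leaf (.up 5 1516 1))) (.node (.leaf (.up 4 1275 0)) (.leaf (.up 4 476 0)))) (.node (.node (.leaf (.up 2 1452 0)) (.leaf (.up 1 139 0))) (.node (.leaf (.up 5 1855 0)) (.leaf (.up 3 1089 1)))))) (.node (.node (.node (.node (.leaf (.up 2 1864 1)) (.leaf (.up 2 2024 1))) (.node (.leaf (.up 2 1573 1)) (.leaf (.up 2 1669 1)))) (.node (.node (.leaf (.up 2 1928 1)) (.leaf (.up 5 857 0))) (.node (.leaf (.up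 4 1261 0)) (.leaf (.up 3 1605 1))))) (.node (.node (.node (.leaf (.up 4 1480 1)) (.leaf (.up 2 1384 1))) (.node (.leaf (.up 3 1189 1)) (.leaf (.up 4 1029 1)))) (.node (.node (.leaf (.up 4 1288 1)) (.leaf (.up 4 1448 1))) (.node (.leaf (.up 4 450 0)) (.leaf (.up 2 1221 1)))))))) (.node (.node (.node (.node (.node (.node (.leaf (.root 6414)) (.leaf (.up 2 1572 0))) (.node (.leaf (.up 2 400 0)) (.leaf (.up 4 824 1)))) (.node (.node (.leaf (.up 4 199 0)) (.leaf (.up 2 1504 0))) (.node (.leaf (.up 2 856 1)) (.leaf (.up 4 1907 0))))) (.node (.node (.node (.leaf (.up 1 117 1)) (.leaf (.up 3 213 1))) (.node (.leaf (.up 2 1215 0)) (.leaf (.up 4 408 0)))) (.node (.node (.leaf (.up 4 1512 0)) (.leaf (.up 1 21 1))) (.node (.leaf (.up 4 1915 0)) (.leaf (.up 3 376 1)))))) (.node (.node (.node (.node (.leaf (.up 4 1534 0)) (.leaf (.up 4 217 0))) (.node (.leaf (.up 3 796 1)) (.leaf (.up 3 586 0)))) (.node (.node (.leaf (.up 3 1594 0)) (.leaf (.up 3 797 0)))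 (.node (.leaf (.up 5 988 1)) (.leaf (.up 3 892 1))))) (.node (.node (.node (.leaf (.up 4 241 1)) (.leaf (.up 1 81 1))) (.node (.leaf (.up 3 578 0)) (.leaf (.up 3 316 1)))) (.node (.node (.leaf (.up 3 789 0)) (.leaf (.up 3 1586 0))) (.node (.leaf (.up 4 348 1)) (.leaf (.up 3 1185 0))))))) (.node (.node (.node (.node (.node (.leaf (.root 3120)) (.leaf (.up 5 271 1))) (.node (.leaf (.up 4 1203 0)) (.leaf (.up 1 98 1)))) (.node (.node (.leaf (.up 2 367 1)) (.leaf (.up 2 463 1))) (.node (.leaf (.up 1 2 1)) (.leaf (.up 3 592 0))))) (.node (.node (.node (.leaf (.up 5 783 0)) (.leaf (.up 3 911 1))) (.node (.leaf (.up 3 578 1)) (.leaf (.up 5 738 1)))) (.node (.node (.leaf (.up 5 203 0)) (.leaf (.up 5 1516 0))) (.node (.leaf (.up 4 600 0)) (.leaf (.up 2 1919 0)))))) (.node (.node (.node (.node (.leaf (.up 4 299 1)) (.leaf (.up 4 395 1))) (.node (.leaf (.up 4 70 1)) (.leaf (.up 5 1897 0)))) (.node (.node (.leaf (.up 2 793 0)) (.leaf (.up 3 331 1))) (.node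 (.leaf (.up 2 134 1)) (.leaf (.up 1 38 1))))) (.node (.node (.node (.leaf (.root 4268)) (.leaf (.up 3 213 0))) (.node (.leaf (.up 4 710 1)) (.leaf (.up 4 614 1)))) (.node (.node (.leaf (.up 3 875 1)) (.leaf (.up 2 971 1))) (.node (.leaf (.up 3 1189 0)) (.leaf (.up 3 386 0))))))))

noncomputable def vt6_0_001 : Tr VStep := .node vt6_0_0010 vt6_0_0011

noncomputable def vt6_0_00 : Tr VStep := .node vt6_0_000 vt6_0_001

noncomputable def vt6_0_0100 : Tr VStep :=
  .node (.node (.node (.node (.node (.node (.node (.leaf (.root 4316)) (.leaf (.up 4 1372 0))) (.node (.leaf (.up 4 1268 1)) (.leaf (.up 3 1108 1)))) (.node (.node (.leaf (.up 5 1369 1)) (.leaf (.up 2 1529 1))) (.node (.leaf (.up 2 300 0)) (.leaf (.up 3 1172 1))))) (.node (.node (.node (.leaf (.up 3 1817 1)) (.leaf (.up 3 1977 1))) (.node (.leaf (.up 5 1991 0)) (.leaf (.up 5 736 0)))) (.node (.node (.leaf (.up 2 1680 0)) (.leaf (.up 3 951 0))) (.node (.leaf (.up 3 1716 1)) (.leaf (.up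 5 292 0)))))) (.node (.node (.node (.node (.leaf (.up 3 1309 1)) (.leaf (.up 5 929 0))) (.node (.leaf (.up 2 1136 1)) (.leaf (.up 3 1232 1)))) (.node (.node (.leaf (.up 2 1501 1)) (.leaf (.up 4 101 0))) (.node (.leaf (.up 4 1200 1)) (.leaf (.up 4 1040 1))))) (.node (.node (.node (.leaf (.up 4 1949 1)) (.leaf (.up 3 1678 0))) (.node (.leaf (.up 3 1776 1)) (.leaf (.up 3 1053 0)))) (.node (.node (.leaf (.up 3 1885 1)) (.leaf (.up 3 1354 0))) (.node (.leaf (.up 4 766 0)) (.leaf (.up 2 1680 1))))))) (.node (.node (.node (.node (.node (.leaf (.root 6218)) (.leaf (.up 1 127 0))) (.node (.leaf (.up 4 1995 0)) (.leaf (.up 3 1806 1)))) (.node (.node (.leaf (.up 3 1539 1)) (.leaf (.up 4 955 0))) (.node (.leaf (.up 4 1039 0)) (.leaf (.up 2 296 0))))) (.node (.node (.node (.leaf (.up 4 119 0)) (.leaf (.up 5 1251 1))) (.node (.leaf (.up 3 1326 1)) (.leaf (.up 3 1422 1)))) (.node (.node (.leaf (.up 3 1155 1)) (.leaf (.up 4 1059 1))) (.node (.leaf (.up 3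 1518 1)) (.leaf (.up 4 1358 1)))))) (.node (.node (.node (.node (.leaf (.root 3722)) (.leaf (.up 4 1767 1))) (.node (.leaf (.up 3 1834 1)) (.leaf (.up 3 1930 1)))) (.node (.node (.leaf (.up 4 97 0)) (.leaf (.up 2 1575 1))) (.node (.leaf (.up 4 754 0)) (.leaf (.up 3 1866 1))))) (.node (.node (.node (.leaf (.up 4 1223 1)) (.leaf (.up 3 941 0))) (.node (.leaf (.up 4 1450 1)) (.leaf (.up 3 318 0)))) (.node (.node (.leaf (.up 4 1358 0)) (.leaf (.up 4 1191 1))) (.node (.leaf (.up 3 1386 1)) (.leaf (.up 4 1482 1)))))))) (.node (.node (.node (.node (.node (.node (.leaf (.root 3042)) (.leaf (.up 2 858 1))) (.node (.leaf (.up 2 663 1)) (.leaf (.up 3 567 1)))) (.node (.node (.leaf (.up 3 826 1)) (.leaf (.up 3 1023 0))) (.node (.leaf (.up 4 599 1)) (.leaf (.up 3 364 0))))) (.node (.node (.node (.leaf (.up 3 51 0)) (.leaf (.up 3 1300 0))) (.node (.leaf (.up 1 23 1)) (.leaf (.up 1 183 1)))) (.node (.node (.leaf (.up 2 1015 0)) (.leaf (.up 2 1744 0))) (.node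 (.leaf (.up 4 356 0)) (.leaf (.up 4 119 1)))))) (.node (.node (.node (.node (.leaf (.up 2 894 1)) (.leaf (.up 5 990 1))) (.node (.leaf (.up 5 370 0)) (.leaf (.up 5 1109 0)))) (.node (.node (.leaf (.up 4 958 1)) (.leaf (.up 3 1282 0))) (.node (.leaf (.up 2 723 1)) (.leaf (.up 2 1937 0))))) (.node (.node (.node (.leaf (.up 4 510 1)) (.leaf (.up 4 350 1))) (.node (.leaf (.up 4 1117 0)) (.leaf (.up 3 51 1)))) (.node (.node (.leaf (.up 3 318 1)) (.leaf (.up 1 45 0))) (.node (.leaf (.up 1 83 1)) (.leaf (.up 4 243 1))))))) (.node (.node (.node (.node (.node (.leaf (.up 2 160 1)) (.leaf (.up 1 0 1))) (.node (.leaf (.up 2 461 1)) (.leaf (.up 2 365 1)))) (.node (.node (.leaf (.up 4 1019 0)) (.leaf (.up 3 192 1))) (.node (.leaf (.up 3 269 1)) (.leaf (.up 4 429 1))))) (.node (.node (.node (.leaf (.root 4114)) (.leaf (.up 1 55 0))) (.node (.leaf (.up 4 845 1)) (.leaf (.up 4 1005 1)))) (.node (.node (.leaf (.up 5 736 1)) (.leaf (.up 4 1011 0))) (.node (.leaf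 (.up 4 1095 0)) (.leaf (.up 2 352 0)))))) (.node (.node (.node (.node (.leaf (.up 1 36 1)) (.leaf (.up 1 132 1))) (.node (.leaf (.up 2 1105 0)) (.leaf (.up 3 489 1)))) (.node (.node (.leaf (.up 4 228 1)) (.leaf (.up 1 33 0))) (.node (.leaf (.up 4 1941 0)) (.leaf (.up 4 297 1))))) (.node (.node (.node (.leaf (.up 4 1005 0)) (.leaf (.up 4 1738 0))) (.node (.leaf (.up 3 382 0)) (.leaf (.up 4 1113 0)))) (.node (.node (.leaf (.up 3 612 1)) (.leaf (.up 2 1294 0))) (.node (.leaf (.up 4 777 1)) (.leaf (.up 4 1949 0))))))))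

noncomputable def vt6_0_0101 : Tr VStep :=
  .node (.node (.node (.node (.node (.node (.node (.leaf (.root 2732)) (.leaf (.up 3 899 1))) (.node (.leaf (.up 4 70 0)) (.leaf (.up 4 1377 0)))) (.node (.node (.leaf (.up 2 273 0)) (.leaf (.up 3 835 1))) (.node (.leaf (.up 4 898 0)) (.leaf (.up 4 558 1))))) (.node (.node (.node (.leaf (.up 5 419 1)) (.leaf (.up 1 259 1))) (.node (.leaf (.up 5 1385 0)) (.leaf (.up 4 110 1)))) (.node (.node (.leaf (.up 4 1086 0)) (.leaf (.up 4 451 1))) (.node (.leaf (.up 1 14 1)) (.leaf (.up 2 906 0)))))) (.node (.node (.node (.node (.leaf (.root 6442)) (.leaf (.up 5 271 0))) (.node (.leaf (.up 2 714 1)) (.leaf (.up 3 618 1)))) (.node (.node (.leaf (.up 3 2028 0)) (.leaf (.up 2 967 1))) (.node (.leaf (.up 2 1407 0)) (.leaf (.up 2 682 1))))) (.node (.node (.node (.leaf (.up 4 263 0)) (.leaf (.up 2 1056 0))) (.node (.leaf (.up 1 74 1)) (.leaf (.up 3 1715 0)))) (.node (.node (.leaf (.up 4 707 0)) (.leaf (.up 3 2020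 0))) (.node (.leaf (.up 4 80 0)) (.leaf (.up 1 42 1))))))) (.node (.node (.node (.node (.node (.leaf (.root 3462)) (.leaf (.up 4 217 1))) (.node (.leaf (.up 3 276 1)) (.leaf (.up 3 436 1)))) (.node (.node (.leaf (.up 2 1074 0)) (.leaf (.up 3 277 0))) (.node (.leaf (.up 3 1697 0)) (.leaf (.up 2 902 0))))) (.node (.node (.node (.leaf (.up 3 729 0)) (.leaf (.up 3 2046 0))) (.node (.leaf (.up 1 74 0)) (.leaf (.up 4 820 1)))) (.node (.node (.leaf (.up 3 285 0)) (.leaf (.up 3 1082 0))) (.node (.leaf (.up 3 910 0)) (.leaf (.up 4 1705 0)))))) (.node (.node (.node (.node (.leaf (.root 4786)) (.leaf (.up 1 93 1))) (.node (.leaf (.up 2 400 1)) (.leaf (.up 3 304 1)))) (.node (.node (.leaf (.up 1 61 1)) (.leaf (.up 2 2024 0))) (.node (.leaf (.up 3 336 1)) (.leaf (.up 4 496 1))))) (.node (.node (.node (.leaf (.up 4 1060 0)) (.leaf (.up 1 259 0))) (.node (.leaf (.up 2 1719 0)) (.leaf (.up 4 912 0)))) (.node (.node (.leaf (.up 3 701 1)) (.leaf (.up 2 711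 0))) (.node (.leaf (.up 4 1395 0)) (.leaf (.up 4 880 1)))))))) (.node (.node (.node (.node (.node (.node (.leaf (.root 6294)) (.leaf (.up 2 1504 1))) (.node (.leaf (.up 2 1069 1)) (.leaf (.up 1 6 0)))) (.node (.node (.leaf (.up 4 1142 0)) (.leaf (.up 4 337 0))) (.node (.leaf (.up 4 1261 1)) (.leaf (.up 3 1101 1))))) (.node (.node (.node (.leaf (.up 5 669 0)) (.leaf (.up 5 1978 0))) (.node (.leaf (.up 1 14 0)) (.leaf (.up 2 1321 0)))) (.node (.node (.leaf (.up 3 1792 1)) (.leaf (.up 4 1150 0))) (.node (.leaf (.up 3 1645 1)) (.leaf (.up 4 1741 1)))))) (.node (.node (.node (.node (.leaf (.up 2 1476 1)) (.leaf (.up 4 1380 1))) (.node (.leaf (.up 5 988 0)) (.leaf (.up 3 1033 1)))) (.node (.node (.leaf (.up 3 651 0)) (.leaf (.up 3 1444 1))) (.node (.leaf (.up 1 24 0)) (.leaf (.up 4 1343 0))))) (.node (.node (.node (.leaf (.up 4 1860 1)) (.leaf (.up 3 2020 1))) (.node (.leaf (.up 3 1577 1)) (.leaf (.up 2 1673 1)))) (.node (.node (.leaf (.up 4 1956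 0)) (.leaf (.up 4 1828 1))) (.node (.leaf (.up 4 1335 0)) (.leaf (.up 1 16 0))))))) (.node (.node (.node (.node (.node (.leaf (.up 2 1562 1)) (.leaf (.up 2 1722 1))) (.node (.leaf (.up 1 2 0)) (.leaf (.up 2 2007 1)))) (.node (.node (.leaf (.up 3 1754 1)) (.leaf (.up 2 1138 0))) (.node (.leaf (.up 2 966 0)) (.leaf (.up 4 1761 0))))) (.node (.node (.node (.leaf (.up 4 1982 0)) (.leaf (.up 3 1082 1))) (.node (.leaf (.up 5 1527 1)) (.leaf (.up 1 10 0)))) (.node (.node (.leaf (.up 4 1146 0)) (.leaf (.up 4 349 0))) (.node (.leaf (.up 4 1335 1)) (.leaf (.up 4 1431 1)))))) (.node (.node (.node (.node (.leaf (.up 3 1132 0)) (.leaf (.up 3 331 0))) (.node (.leaf (.up 3 1791 0)) (.leaf (.up 4 984 0)))) (.node (.node (.leaf (.up 4 1960 0)) (.leaf (.up 4 1790 1))) (.node (.leaf (.up 3 1339 0)) (.leaf (.up 1 28 0))))) (.node (.node (.node (.leaf (.up 3 323 0)) (.leaf (.up 4 1214 1))) (.node (.leaf (.up 4 1395 1)) (.leaf (.up 2 1491 1)))) (.node (.node (.leaf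 (.up 4 1246 1)) (.leaf (.up 4 1150 1))) (.node (.leaf (.up 3 1459 1)) (.leaf (.up 4 1299 1))))))))

noncomputable def vt6_0_010 : Tr VStep := .node vt6_0_0100 vt6_0_0101

noncomputable def vt6_0_0110 : Tr VStep :=
  .node (.node (.node (.node (.node (.node (.node (.leaf (.root 2934)) (.leaf (.up 4 406 0))) (.node (.leaf (.up 4 1570 0)) (.leaf (.up 3 773 0)))) (.node (.node (.leaf (.up 3 621 1)) (.leaf (.up 4 717 1))) (.node (.leaf (.up 4 768 1)) (.leaf (.up 4 193 0))))) (.node (.node (.node (.leaf (.up 1 45 1)) (.leaf (.up 4 141 1))) (.node (.leaf (.up 5 781 0)) (.leaf (.up 4 1578 0)))) (.node (.node (.leaf (.up 4 237 1)) (.leaf (.up 1 77 1))) (.node (.leaf (.up 1 201 0)) (.leaf (.up 3 1518 0)))))) (.node (.node (.node (.node (.leaf (.up 3 588 0)) (.leaf (.up 3 1899 0))) (.node (.leaf (.up 4 836 1)) (.leaf (.up 3 996 1)))) (.node (.node (.leaf (.up 4 392 0)) (.leaf (.up 4 1199 0))) (.node (.leaf (.up 2 900 1)) (.leaf (.up 2 1596 0))))) (.node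 (.node (.node (.leaf (.up 3 1891 0)) (.leaf (.up 1 9 1))) (.node (.leaf (.up 3 452 1)) (.leaf (.up 4 356 1)))) (.node (.node (.leaf (.up 4 1191 0)) (.leaf (.up 1 201 1))) (.node (.leaf (.up 1 260 1)) (.leaf (.up 3 787 0))))))) (.node (.node (.node (.node (.node (.leaf (.root 3712)) (.leaf (.up 3 1205 0))) (.node (.leaf (.up 4 769 0)) (.leaf (.up 3 58 1)))) (.node (.node (.leaf (.up 4 311 1)) (.leaf (.up 4 1905 0))) (.node (.leaf (.up 3 90 1)) (.leaf (.up 4 250 1))))) (.node (.node (.node (.leaf (.up 4 887 1)) (.leaf (.up 4 410 0))) (.node (.leaf (.up 3 538 1)) (.leaf (.up 4 777 0)))) (.node (.node (.leaf (.up 3 951 1)) (.leaf (.up 4 791 1))) (.node (.leaf (.up 3 1514 0)) (.leaf (.up 1 205 0)))))) (.node (.node (.node (.node (.leaf (.root 5984)) (.leaf (.up 4 584 0))) (.node (.leaf (.up 3 1532 0)) (.leaf (.up 4 190 1)))) (.node (.node (.leaf (.up 3 1195 0)) (.leaf (.up 2 275 1))) (.node (.leaf (.up 2 222 1)) (.leaf (.up 5 126 1))))) (.node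 (.node (.node (.leaf (.up 4 1011 1)) (.leaf (.up 2 1895 0))) (.node (.leaf (.up 3 670 1)) (.leaf (.up 2 574 1)))) (.node (.node (.leaf (.up 3 819 1)) (.leaf (.up 5 915 1))) (.node (.leaf (.up 4 791 0)) (.leaf (.up 4 766 1)))))))) (.node (.node (.node (.node (.node (.node (.leaf (.root 3298)) (.leaf (.up 4 1265 0))) (.node (.leaf (.up 5 1443 1)) (.leaf (.up 4 1634 0)))) (.node (.node (.leaf (.up 3 530 0)) (.leaf (.up 3 1845 0))) (.node (.leaf (.up 3 1379 1)) (.leaf (.up 4 1475 1))))) (.node (.node (.node (.leaf (.up 5 1273 0)) (.leaf (.up 3 1774 1))) (.node (.leaf (.up 3 1827 1)) (.leaf (.up 4 845 0)))) (.node (.node (.leaf (.up 3 1678 1)) (.leaf (.up 3 538 0))) (.node (.leaf (.up 4 1454 0)) (.leaf (.up 3 1859 1)))))) (.node (.node (.node (.node (.leaf (.up 4 1835 0)) (.leaf (.up 2 1258 1))) (.node (.leaf (.up 5 1464 0)) (.leaf (.up 2 159 0)))) (.node (.node (.leaf (.up 2 1162 1)) (.leaf (.up 5 1066 1))) (.node (.leaf (.up 4 1511 1)) (.leaf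 (.up 4 1351 1))))) (.node (.node (.node (.leaf (.up 4 1738 1)) (.leaf (.up 3 1827 0))) (.node (.leaf (.up 4 1959 1)) (.leaf (.up 4 1799 1)))) (.node (.node (.leaf (.up 2 448 0)) (.leaf (.up 4 1255 0))) (.node (.leaf (.up 2 1895 1)) (.leaf (.up 5 1991 1))))))) (.node (.node (.node (.node (.node (.leaf (.root 4760)) (.leaf (.up 4 466 0))) (.node (.leaf (.up 5 1785 1)) (.leaf (.up 4 833 0)))) (.node (.node (.leaf (.up 3 1876 1)) (.leaf (.up 4 2036 1))) (.node (.leaf (.up 5 1442 0)) (.leaf (.up 2 133 0))))) (.node (.node (.node (.leaf (.up 3 1300 1)) (.leaf (.up 4 1277 0))) (.node (.leaf (.up 4 841 0)) (.leaf (.up 4 1646 0)))) (.node (.node (.leaf (.up 3 542 0)) (.leaf (.up 4 1849 0))) (.node (.leaf (.up 4 141 0)) (.leaf (.up 4 1450 0)))))) (.node (.node (.node (.node (.leaf (.up 2 520 0)) (.leaf (.up 3 1839 0))) (.node (.leaf (.up 4 1661 1)) (.leaf (.up 4 1757 1)))) (.node (.node (.leaf (.up 3 2000 1)) (.leaf (.up 3 1904 1))) (.node (.leaf (.up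 4 1725 1)) (.leaf (.up 4 1565 1))))) (.node (.node (.node (.leaf (.up 2 1831 0)) (.leaf (.up 2 1328 1))) (.node (.leaf (.up 4 1277 1)) (.leaf (.up 4 1117 1)))) (.node (.node (.leaf (.up 5 1251 0)) (.leaf (.up 3 452 0))) (.node (.leaf (.up 4 1648 0)) (.leaf (.up 2 855 0))))))))

noncomputable def vt6_0_0111 : Tr VStep :=
  .node (.node (.node (.node (.node (.node (.node (.leaf (.root 4664)) (.leaf (.up 4 824 0))) (.node (.leaf (.up 4 1164 0)) (.leaf (.up 4 427 0)))) (.node (.node (.leaf (.root 6024)) (.leaf (.up 1 252 0))) (.node (.leaf (.up 2 1864 0)) (.leaf (.up 2 623 0))))) (.node (.node (.node (.leaf (.root 5700)) (.leaf (.up 4 1559 0))) (.node (.leaf (.up 5 419 0)) (.leaf (.up 2 1156 0)))) (.node (.node (.leaf (.up 4 244 0)) (.leaf (.up 2 1491 0))) (.node (.leaf (.up 2 615 0)) (.leaf (.up 5 1856 0)))))) (.node (.node (.node (.node (.leaf (.up 5 226 0)) (.leaf (.up 3 1075 1))) (.node (.leaf (.up 4 1534 1)) (.leaf (.up 4 1374 1)))) (.node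 (.node (.leaf (.up 3 1107 1)) (.leaf (.up 3 1267 1))) (.node (.leaf (.up 4 437 0)) (.leaf (.up 4 1170 0))))) (.node (.node (.node (.leaf (.up 4 1555 1)) (.leaf (.up 3 1715 1))) (.node (.leaf (.up 2 1918 1)) (.leaf (.up 4 2014 1)))) (.node (.node (.leaf (.up 2 1747 1)) (.leaf (.up 4 1651 1))) (.node (.leaf (.up 4 1982 1)) (.leaf (.up 4 445 0))))))) (.node (.node (.node (.node (.node (.leaf (.up 2 828 0)) (.leaf (.up 4 1563 0))) (.node (.leaf (.up 3 1568 1)) (.leaf (.up 4 1160 0)))) (.node (.node (.leaf (.up 3 1933 1)) (.leaf (.up 2 1503 0))) (.node (.leaf (.up 5 1760 1)) (.leaf (.up 3 1600 1))))) (.node (.node (.node (.leaf (.up 4 1555 0)) (.leaf (.up 4 820 0))) (.node (.leaf (.up 2 1152 0)) (.leaf (.up 4 423 0)))) (.node (.node (.leaf (.up 3 1293 1)) (.leaf (.up 3 240 0))) (.node (.leaf (.up 4 1860 0)) (.leaf (.up 4 1216 1)))))) (.node (.node (.node (.node (.leaf (.up 3 1993 1)) (.leaf (.up 5 1897 1))) (.node (.leaf (.up 3 1874 0)) (.leaf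 (.up 3 1540 1)))) (.node (.node (.leaf (.up 2 1801 1)) (.leaf (.up 2 1961 1))) (.node (.leaf (.up 3 1636 1)) (.leaf (.up 4 1732 1))))) (.node (.node (.node (.leaf (.root 3234)) (.leaf (.up 3 1513 1))) (.node (.leaf (.up 4 1060 1)) (.leaf (.up 2 1156 1)))) (.node (.node (.leaf (.up 4 810 0)) (.leaf (.up 2 1321 1))) (.node (.leaf (.up 3 1252 1)) (.leaf (.up 3 1092 1)))))))) (.node (.node (.node (.node (.node (.node (.leaf (.up 4 888 0)) (.leaf (.up 4 1631 0))) (.node (.leaf (.up 2 793 1)) (.leaf (.up 3 953 1)))) (.node (.node (.leaf (.up 4 692 1)) (.leaf (.up 3 532 1))) (.node (.leaf (.up 4 559 0)) (.leaf (.up 4 889 1))))) (.node (.node (.node (.leaf (.up 4 244 1)) (.leaf (.up 4 880 0))) (.node (.leaf (.up 2 1220 0)) (.leaf (.up 4 483 0)))) (.node (.node (.leaf (.up 3 1427 0)) (.leaf (.up 4 148 1))) (.node (.leaf (.up 3 1792 0)) (.leaf (.up 2 551 0)))))) (.node (.node (.node (.node (.leaf (.up 4 1413 0)) (.leaf (.up 3 592 1))) (.node (.leaf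 (.up 5 1814 0)) (.leaf (.up 5 561 0)))) (.node (.node (.leaf (.up 3 1601 0)) (.leaf (.up 3 870 0))) (.node (.leaf (.up 5 1234 0)) (.leaf (.up 4 501 0))))) (.node (.node (.node (.leaf (.up 1 112 1)) (.leaf (.up 3 208 1))) (.node (.leaf (.up 3 285 1)) (.leaf (.up 4 445 1)))) (.node (.node (.leaf (.up 4 878 0)) (.leaf (.up 1 16 1))) (.node (.leaf (.up 4 477 1)) (.leaf (.up 3 381 1))))))) (.node (.node (.node (.node (.node (.leaf (.up 4 302 1)) (.leaf (.up 3 892 0))) (.node (.leaf (.up 1 67 1)) (.leaf (.up 4 495 0)))) (.node (.node (.leaf (.up 2 1439 0)) (.leaf (.up 4 334 1))) (.node (.leaf (.up 1 131 1)) (.leaf (.up 1 35 1))))) (.node (.node (.node (.leaf (.up 3 884 0)) (.leaf (.up 3 782 1))) (.node (.leaf (.up 4 707 1)) (.leaf (.up 4 1216 0)))) (.node (.node (.leaf (.up 4 878 1)) (.leaf (.up 4 1431 0))) (.node (.leaf (.up 3 547 0)) (.leaf (.up 3 675 1)))))) (.node (.node (.node (.node (.leaf (.up 4 426 1)) (.leaf (.up 3 266 1))) (.node (.leaf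 (.up 4 199 1)) (.leaf (.up 4 1810 0)))) (.node (.node (.leaf (.up 2 362 1)) (.leaf (.up 3 1605 0))) (.node (.leaf (.up 1 7 1)) (.leaf (.up 1 167 1))))) (.node (.node (.node (.leaf (.up 4 810 1)) (.leaf (.up 2 906 1))) (.node (.leaf (.up 3 583 1)) (.leaf (.up 3 743 1)))) (.node (.node (.leaf (.up 3 1613 0)) (.leaf (.up 3 842 1))) (.node (.leaf (.up 4 1246 0)) (.leaf (.up 2 551 1))))))))

noncomputable def vt6_0_011 : Tr VStep := .node vt6_0_0110 vt6_0_0111

noncomputable def vt6_0_01 : Tr VStep := .node vt6_0_010 vt6_0_011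

noncomputable def vt6_0_0 : Tr VStep := .node vt6_0_00 vt6_0_01

noncomputable def vt6_0_1000 : Tr VStep :=
  .node (.node (.node (.node (.node (.node (.node (.leaf (.root 4498)) (.leaf (.up 4 1320 1))) (.node (.leaf (.up 2 1221 0)) (.leaf (.up 3 1093 1)))) (.node (.node (.leaf (.up 3 1426 0)) (.leaf (.up 4 1512 1))) (.node (.leaf (.up 3 1061 1)) (.leaf (.up 3 1157 1))))) (.node (.node (.node (.leaf (.up 4 889 0)) (.leaf (.up 4 1960 1))) (.node (.leaf (.up 4 490 0)) (.leaf (.up 4 1733 1)))) (.node (.node (.leaf (.up 4 1992 1)) (.leaf (.up 3 1896 1))) (.node (.leaf (.up 4 558 0)) (.leaf (.up 2 1801 0)))))) (.node (.node (.node (.node (.leaf (.root 4194)) (.leaf (.up 2 1452 1))) (.node (.leaf (.up 4 568 0)) (.leaf (.up 2 1217 1)))) (.node (.node (.leaf (.up 3 1484 1)) (.leaf (.up 4 1608 0))) (.node (.leaf (.up 3 1185 1)) (.leaf (.up 5 1025 1))))) (.node (.node (.node (.leaf (.up 3 1932 1)) (.leaf (.up 1 163 0))) (.node (.leaf (.up 4 1761 1))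 (.leaf (.up 3 1601 1)))) (.node (.node (.leaf (.up 3 1600 0)) (.leaf (.up 3 2028 1))) (.node (.leaf (.up 3 1569 1)) (.leaf (.up 5 500 0))))))) (.node (.node (.node (.node (.node (.leaf (.root 6152)) (.leaf (.up 4 1650 1))) (.node (.leaf (.up 4 486 0)) (.leaf (.up 2 1217 0)))) (.node (.node (.leaf (.up 4 1554 1)) (.leaf (.up 4 1430 0))) (.node (.leaf (.up 2 1919 1)) (.leaf (.up 5 2015 1))))) (.node (.node (.node (.leaf (.up 4 1626 0)) (.leaf (.up 2 893 0))) (.node (.leaf (.up 4 1343 1)) (.leaf (.up 2 1439 1)))) (.node (.node (.leaf (.up 4 1170 1)) (.leaf (.up 2 1074 1))) (.node (.leaf (.up 4 1535 1)) (.leaf (.up 3 1375 1)))))) (.node (.node (.node (.node (.leaf (.up 3 1622 1)) (.leaf (.up 5 175 0))) (.node (.leaf (.up 2 1851 1)) (.leaf (.up 2 1947 1)))) (.node (.node (.leaf (.up 3 1612 0)) (.leaf (.up 3 875 0))) (.node (.leaf (.up 3 2043 1)) (.leaf (.up 5 1883 1))))) (.node (.node (.node (.leaf (.up 1 167 0)) (.leaf (.up 4 1142 1))) (.node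 (.leaf (.up 3 1467 1)) (.leaf (.up 3 1811 0)))) (.node (.node (.leaf (.up 3 867 0)) (.leaf (.up 3 1604 0))) (.node (.leaf (.up 4 496 0)) (.leaf (.up 3 1499 1)))))))) (.node (.node (.node (.node (.node (.node (.leaf (.root 5792)) (.leaf (.up 3 843 1))) (.node (.leaf (.up 4 418 0)) (.leaf (.up 3 1157 0)))) (.node (.node (.leaf (.up 1 245 0)) (.leaf (.up 2 1490 0))) (.node (.leaf (.up 4 614 0)) (.leaf (.up 4 742 1))))) (.node (.node (.node (.leaf (.up 4 1566 0)) (.leaf (.up 3 825 0))) (.node (.leaf (.up 1 6 1)) (.leaf (.up 4 426 0)))) (.node (.node (.leaf (.up 4 427 1)) (.leaf (.up 3 267 1))) (.node (.leaf (.up 4 198 1)) (.leaf (.up 1 102 1)))))) (.node (.node (.node (.node (.leaf (.root 3156)) (.leaf (.up 1 235 0))) (.node (.leaf (.up 4 1887 0)) (.leaf (.up 4 674 1)))) (.node (.node (.leaf (.up 3 1544 0)) (.leaf (.up 5 783 1))) (.node (.leaf (.up 4 706 1)) (.leaf (.up 4 610 1))))) (.node (.node (.node (.leaf (.up 4 495 1)) (.leaf (.up 2 1476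 0))) (.node (.leaf (.up 4 130 1)) (.leaf (.up 1 34 1)))) (.node (.node (.leaf (.up 3 807 0)) (.leaf (.up 3 1536 0))) (.node (.leaf (.up 3 436 0)) (.leaf (.up 5 226 1))))))) (.node (.node (.node (.node (.node (.leaf (.up 4 1554 0)) (.leaf (.up 1 17 1))) (.node (.leaf (.up 4 476 1)) (.leaf (.up 3 380 1)))) (.node (.node (.leaf (.up 2 113 1)) (.leaf (.up 4 241 0))) (.node (.leaf (.up 2 1861 0)) (.leaf (.up 4 610 0))))) (.node (.node (.node (.leaf (.up 5 561 1)) (.leaf (.up 2 1562 0))) (.node (.leaf (.up 4 430 0)) (.leaf (.up 4 1020 1)))) (.node (.node (.leaf (.up 5 249 0)) (.leaf (.up 2 1502 0))) (.node (.leaf (.up 3 618 0)) (.leaf (.up 2 828 1)))))) (.node (.node (.node (.node (.leaf (.up 1 53 1)) (.leaf (.up 4 1480 0))) (.node (.leaf (.up 5 636 0)) (.leaf (.up 5 1883 0)))) (.node (.node (.leaf (.up 1 245 1)) (.leaf (.up 4 85 1))) (.node (.leaf (.up 4 408 1)) (.leaf (.up 3 1183 0))))) (.node (.node (.node (.leaf (.up 3 1472 0)) (.leaf (.up 3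 533 1))) (.node (.leaf (.up 4 984 1)) (.leaf (.up 4 888 1)))) (.node (.node (.leaf (.up 3 1540 0)) (.leaf (.up 3 725 1))) (.node (.leaf (.up 3 1175 0)) (.leaf (.up 3 952 1))))))))

noncomputable def vt6_0_1001 : Tr VStep :=
  .node (.node (.node (.node (.node (.node (.node (.leaf (.root 5084)) (.leaf (.up 2 479 0))) (.node (.leaf (.up 4 1643 0)) (.leaf (.up 4 844 0)))) (.node (.node (.leaf (.up 4 1852 0)) (.leaf (.up 3 850 1))) (.node (.leaf (.up 3 671 1)) (.leaf (.up 1 136 0))))) (.node (.node (.node (.leaf (.up 4 471 0)) (.leaf (.up 4 274 1))) (.node (.leaf (.up 4 836 0)) (.leaf (.up 1 127 1)))) (.node (.node (.leaf (.up 5 370 1)) (.leaf (.up 4 466 1))) (.node (.leaf (.up 1 31 1)) (.leaf (.up 3 191 1)))))) (.node (.node (.node (.node (.leaf (.up 2 517 0)) (.leaf (.up 3 1826 0))) (.node (.leaf (.up 4 731 1)) (.leaf (.up 3 1457 0)))) (.node (.node (.leaf (.up 4 449 0)) (.leaf (.up 3 1254 0))) (.node (.leaf (.up 3 850 0)) (.leaf (.up 4 699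 1))))) (.node (.node (.node (.leaf (.root 4140)) (.leaf (.up 4 406 1))) (.node (.leaf (.up 1 91 1)) (.leaf (.up 4 251 1)))) (.node (.node (.leaf (.up 4 1262 0)) (.leaf (.up 3 342 1))) (.node (.leaf (.up 4 1661 0)) (.leaf (.up 2 858 0))))))) (.node (.node (.node (.node (.node (.leaf (.up 4 475 0)) (.leaf (.up 1 200 1))) (.node (.leaf (.up 4 840 0)) (.leaf (.up 2 421 1)))) (.node (.node (.leaf (.up 3 543 0)) (.leaf (.up 1 8 1))) (.node (.leaf (.up 4 140 0)) (.leaf (.up 4 1451 0))))) (.node (.node (.node (.leaf (.up 4 1268 0)) (.leaf (.up 4 584 1))) (.node (.leaf (.up 4 1639 0)) (.leaf (.up 3 832 0)))) (.node (.node (.leaf (.up 3 1840 0)) (.leaf (.up 2 648 1))) (.node (.leaf (.up 5 1443 0)) (.leaf (.up 1 132 0)))))) (.node (.node (.node (.node (.leaf (.up 5 1830 0)) (.leaf (.up 3 513 0))) (.node (.leaf (.up 4 1461 0)) (.leaf (.up 4 146 0)))) (.node (.node (.leaf (.up 1 44 1)) (.leaf (.up 4 140 1))) (.node (.leaf (.up 4 321 1)) (.leaf (.up 4 481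 1))))) (.node (.node (.node (.leaf (.up 3 620 1)) (.leaf (.up 3 716 1))) (.node (.leaf (.up 4 769 1)) (.leaf (.up 5 929 1)))) (.node (.node (.leaf (.up 2 461 0)) (.leaf (.up 2 1258 0))) (.node (.leaf (.up 4 961 1)) (.leaf (.up 4 865 1)))))))) (.node (.node (.node (.node (.node (.node (.leaf (.up 4 415 0)) (.leaf (.up 4 1521 1))) (.node (.leaf (.up 4 780 0)) (.leaf (.up 4 1180 1)))) (.node (.node (.leaf (.up 4 1425 1)) (.leaf (.up 2 1916 0))) (.node (.leaf (.up 1 200 0)) (.leaf (.up 2 1519 0))))) (.node (.node (.node (.leaf (.up 4 1200 0)) (.leaf (.up 4 1905 1))) (.node (.leaf (.up 4 1571 0)) (.leaf (.up 4 772 0)))) (.node (.node (.leaf (.up 4 1908 0)) (.leaf (.up 3 1969 1))) (.node (.leaf (.up 4 1511 0)) (.leaf (.up 3 192 0)))))) (.node (.node (.node (.node (.leaf (.up 3 1493 1)) (.leaf (.up 3 581 0))) (.node (.leaf (.up 4 1521 0)) (.leaf (.up 5 1048 1)))) (.node (.node (.leaf (.up 3 1301 1)) (.leaf (.up 4 1461 1))) (.node (.leaf (.up 4 1144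 1)) (.leaf (.up 4 1240 1))))) (.node (.node (.node (.leaf (.up 3 589 0)) (.leaf (.up 5 2037 1))) (.node (.leaf (.up 2 222 0)) (.leaf (.up 2 1529 0)))) (.node (.node (.leaf (.up 4 1941 1)) (.leaf (.up 3 1845 1))) (.node (.leaf (.up 5 1784 1)) (.leaf (.up 4 1597 0))))))) (.node (.node (.node (.node (.node (.leaf (.up 4 1212 0)) (.leaf (.up 4 1707 1))) (.node (.leaf (.up 4 1583 0)) (.leaf (.up 4 1990 1)))) (.node (.node (.leaf (.up 5 1739 1)) (.leaf (.up 4 1643 1))) (.node (.leaf (.up 2 1958 1)) (.leaf (.up 3 204 0))))) (.node (.node (.node (.leaf (.up 4 403 0)) (.leaf (.up 4 1067 1))) (.node (.leaf (.up 4 768 0)) (.leaf (.up 2 1575 0)))) (.node (.node (.leaf (.up 4 599 0)) (.leaf (.up 3 1904 0))) (.node (.leaf (.up 2 196 0)) (.leaf (.up 2 1414 1)))))) (.node (.node (.node (.node (.leaf (.up 3 1679 1)) (.leaf (.up 4 1583 1))) (.node (.leaf (.up 5 210 0)) (.leaf (.up 5 1525 0)))) (.node (.node (.leaf (.up 2 389 0)) (.leaf (.up 4 1775 1))) (.node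 (.leaf (.up 3 1826 1)) (.leaf (.up 4 1585 0))))) (.node (.node (.node (.leaf (.up 4 1039 1)) (.leaf (.up 4 1199 1))) (.node (.leaf (.up 3 1378 1)) (.leaf (.up 4 1474 1)))) (.node (.node (.leaf (.up 4 1194 0)) (.leaf (.up 1 397 0))) (.node (.leaf (.up 5 1442 1)) (.leaf (.up 3 1282 1))))))))

noncomputable def vt6_0_100 : Tr VStep := .node vt6_0_1000 vt6_0_1001

noncomputable def vt6_0_1010 : Tr VStep :=
  .node (.node (.node (.node (.node (.node (.node (.leaf (.root 4386)) (.leaf (.up 3 540 1))) (.node (.leaf (.up 1 15 0)) (.leaf (.up 4 1320 0)))) (.node (.node (.leaf (.up 5 636 1)) (.leaf (.up 4 732 1))) (.node (.leaf (.up 2 971 0)) (.leaf (.up 4 945 1))))) (.node (.node (.node (.leaf (.up 1 60 1)) (.leaf (.up 2 156 1))) (.node (.leaf (.up 4 337 1)) (.leaf (.up 1 7 0)))) (.node (.node (.leaf (.up 1 252 1)) (.leaf (.up 3 336 0))) (.node (.leaf (.up 5 401 1)) (.leaf (.up 3 305 1)))))) (.node (.node (.node (.node (.leaf (.up 4 568 1)) (.leaf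 (.up 2 664 1))) (.node (.leaf (.up 2 853 1)) (.leaf (.up 2 1013 1)))) (.node (.node (.leaf (.up 4 760 1)) (.leaf (.up 4 600 1))) (.node (.leaf (.up 4 917 1)) (.leaf (.up 1 17 0))))) (.node (.node (.node (.leaf (.up 4 334 0)) (.leaf (.up 1 24 1))) (.node (.leaf (.up 4 989 0)) (.leaf (.up 3 1786 0)))) (.node (.node (.leaf (.up 4 120 1)) (.leaf (.up 4 1965 0))) (.node (.leaf (.up 3 277 1)) (.leaf (.up 4 437 1))))))) (.node (.node (.node (.node (.node (.leaf (.up 4 486 1)) (.leaf (.up 2 664 0))) (.node (.leaf (.up 1 139 1)) (.leaf (.up 1 11 0)))) (.node (.node (.leaf (.up 4 1147 0)) (.leaf (.up 4 348 0))) (.node (.leaf (.up 4 1768 0)) (.leaf (.up 1 235 1))))) (.node (.node (.node (.leaf (.up 3 870 1)) (.leaf (.up 2 966 1))) (.node (.leaf (.up 1 3 0)) (.leaf (.up 5 1316 0)))) (.node (.node (.leaf (.up 1 340 0)) (.leaf (.up 4 1139 0))) (.node (.leaf (.up 2 967 0)) (.leaf (.up 5 1760 0)))))) (.node (.node (.node (.node (.leaf (.up 3 322 0)) (.leaf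 (.up 4 450 1))) (.node (.leaf (.up 1 15 1)) (.leaf (.up 5 175 1)))) (.node (.node (.leaf (.up 4 418 1)) (.leaf (.up 4 1953 0))) (.node (.leaf (.up 1 21 0)) (.leaf (.up 4 1330 0))))) (.node (.node (.node (.leaf (.up 4 994 1)) (.leaf (.up 4 330 0))) (.node (.leaf (.up 4 1790 0)) (.leaf (.up 4 559 1)))) (.node (.node (.leaf (.up 2 1961 0)) (.leaf (.up 4 898 1))) (.node (.leaf (.up 3 1338 0)) (.leaf (.up 3 29 0)))))))) (.node (.node (.node (.node (.node (.node (.leaf (.root 6296)) (.leaf (.up 4 732 0))) (.node (.leaf (.up 2 1384 0)) (.leaf (.up 1 79 0)))) (.node (.node (.leaf (.up 2 1055 1)) (.leaf (.up 2 1215 1))) (.node (.leaf (.up 2 1394 1)) (.leaf (.up 2 1490 1))))) (.node (.node (.node (.leaf (.up 4 1631 1)) (.leaf (.up 3 1791 1))) (.node (.leaf (.up 4 71 0)) (.leaf (.up 4 1376 0)))) (.node (.node (.leaf (.up 5 1695 1)) (.leaf (.up 4 1599 1))) (.node (.leaf (.up 3 899 0)) (.leaf (.up 3 1874 1)))))) (.node (.node (.node (.node (.leaf (.up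 3 1115 1)) (.leaf (.up 4 1275 1))) (.node (.leaf (.up 4 917 0)) (.leaf (.up 4 1430 1)))) (.node (.node (.leaf (.up 4 706 0)) (.leaf (.up 4 2021 0))) (.node (.leaf (.up 1 81 0)) (.leaf (.up 4 1398 0))))) (.node (.node (.node (.leaf (.up 2 1065 0)) (.leaf (.up 1 270 0))) (.node (.leaf (.up 2 1722 0)) (.leaf (.up 5 1814 1)))) (.node (.node (.leaf (.up 4 1563 1)) (.leaf (.up 2 714 0))) (.node (.leaf (.up 4 1406 0)) (.leaf (.up 4 89 0))))))) (.node (.node (.node (.node (.node (.leaf (.root 6258)) (.leaf (.up 2 1829 1))) (.node (.leaf (.up 4 1768 1)) (.leaf (.up 4 1608 1)))) (.node (.node (.leaf (.up 2 1861 1)) (.leaf (.up 4 2021 1))) (.node (.leaf (.up 3 911 0)) (.leaf (.up 2 1672 1))))) (.node (.node (.node (.leaf (.up 5 2039 0)) (.leaf (.up 2 720 0))) (.node (.leaf (.up 4 1380 0)) (.leaf (.up 1 67 0)))) (.node (.node (.leaf (.up 3 1075 0)) (.leaf (.up 3 276 0))) (.node (.leaf (.up 4 1192 1)) (.leaf (.up 4 1032 1)))))) (.node (.node (.node (.node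 (.leaf (.root 3444)) (.leaf (.up 4 1953 1))) (.node (.leaf (.up 3 1644 1)) (.leaf (.up 5 913 0)))) (.node (.node (.leaf (.up 4 2017 0)) (.leaf (.up 4 710 0))) (.node (.leaf (.up 2 1394 0)) (.leaf (.up 4 85 0))))) (.node (.node (.node (.leaf (.root 5574)) (.leaf (.up 2 1069 0))) (.node (.leaf (.up 3 1260 1)) (.leaf (.up 3 1100 1)))) (.node (.node (.leaf (.up 3 718 0)) (.leaf (.up 4 1505 1))) (.node (.leaf (.up 1 93 0)) (.leaf (.up 4 1164 1))))))))

noncomputable def vt6_0_1011 : Tr VStep :=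
  .node (.node (.node (.node (.node (.node (.node (.leaf (.up 3 50 0)) (.leaf (.up 3 1301 0))) (.node (.leaf (.up 5 1387 1)) (.leaf (.up 4 1926 0)))) (.node (.node (.leaf (.up 2 1222 1)) (.leaf (.up 2 1745 0))) (.node (.leaf (.up 4 1451 1)) (.leaf (.up 4 1291 1))))) (.node (.node (.node (.leaf (.up 3 1309 0)) (.leaf (.up 3 58 0))) (.node (.leaf (.up 4 2027 1)) (.leaf (.up 3 1867 1)))) (.node (.node (.leaf (.root 4500)) (.leaf (.up 3 1766 1))) (.node (.leaf (.up 4 1835 1)) (.leaf (.up 2 365 0)))))) (.node (.node (.node (.node (.leaf (.root 5114)) (.leaf (.up 2 1058 1))) (.node (.leaf (.up 2 1519 1)) (.leaf (.up 2 1359 1)))) (.node (.node (.leaf (.up 4 1291 0)) (.leaf (.up 1 44 0))) (.node (.leaf (.up 3 1327 1)) (.leaf (.up 4 703 0))))) (.node (.node (.node (.leaf (.root 5120)) (.leaf (.up 4 1698 1))) (.node (.leaf (.up 3 1903 1)) (.leaf (.up 3 1108 0)))) (.node (.node (.leaf (.up 1 36 0)) (.leaf (.up 4 1634 1))) (.node (.leaf (.up 4 1967 1))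 (.leaf (.up 4 1936 0))))))) (.node (.node (.node (.node (.node (.leaf (.root 5908)) (.leaf (.up 1 54 0))) (.node (.leaf (.up 4 1585 1)) (.leaf (.up 2 677 0)))) (.node (.node (.leaf (.up 4 1948 1)) (.leaf (.up 4 1852 1))) (.node (.leaf (.up 4 1094 0)) (.leaf (.up 4 353 0))))) (.node (.node (.node (.leaf (.up 4 1500 1)) (.leaf (.up 3 1305 0))) (.node (.leaf (.up 3 1201 1)) (.leaf (.up 3 1930 0)))) (.node (.node (.leaf (.up 3 1308 1)) (.leaf (.up 4 1757 0))) (.node (.leaf (.up 2 361 0)) (.leaf (.up 3 1233 1)))))) (.node (.node (.node (.node (.leaf (.up 2 2008 1)) (.leaf (.up 5 1739 0))) (.node (.leaf (.up 2 1717 1)) (.leaf (.up 2 1557 1)))) (.node (.node (.leaf (.up 1 40 0)) (.leaf (.up 5 1976 1))) (.node (.leaf (.up 4 699 0)) (.leaf (.up 4 1948 0))))) (.node (.node (.node (.leaf (.up 3 1368 1)) (.leaf (.up 3 996 0))) (.node (.leaf (.up 3 1077 1)) (.leaf (.up 4 1173 1)))) (.node (.node (.leaf (.up 3 1287 0)) (.leaf (.up 1 32 0))) (.node (.leaf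 (.up 3 1269 1)) (.leaf (.up 5 1109 1)))))))) (.node (.node (.node (.node (.node (.node (.leaf (.up 2 613 1)) (.leaf (.up 2 114 0))) (.node (.leaf (.up 4 1990 0)) (.leaf (.up 3 936 1)))) (.node (.node (.leaf (.up 2 677 1)) (.leaf (.up 2 517 1))) (.node (.leaf (.up 2 968 1)) (.leaf (.up 2 872 1))))) (.node (.node (.node (.leaf (.up 4 122 0)) (.leaf (.up 4 1373 0))) (.node (.leaf (.up 4 392 1)) (.leaf (.up 2 296 1)))) (.node (.node (.leaf (.up 4 958 0)) (.leaf (.up 2 133 1))) (.node (.leaf (.up 4 328 1)) (.leaf (.up 3 488 1)))))) (.node (.node (.node (.node (.leaf (.root 6238)) (.leaf (.up 3 1679 0))) (.node (.leaf (.up 1 315 0)) (.leaf (.up 3 1052 0)))) (.node (.node (.leaf (.up 3 108 0)) (.leaf (.up 3 1355 0))) (.node (.leaf (.up 4 844 1)) (.leaf (.up 2 2008 0))))) (.node (.node (.node (.leaf (.up 4 97 1)) (.leaf (.up 4 193 1))) (.node (.leaf (.up 3 1044 0)) (.leaf (.up 3 428 1)))) (.node (.node (.leaf (.up 3 1347 0)) (.leaf (.up 1 1 1))) (.node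 (.leaf (.up 3 2000 0)) (.leaf (.up 3 364 1))))))) (.node (.node (.node (.node (.node (.leaf (.root 5122)) (.leaf (.up 4 415 1))) (.node (.leaf (.up 3 82 1)) (.leaf (.up 3 1986 0)))) (.node (.node (.leaf (.up 2 511 1)) (.leaf (.up 2 351 1))) (.node (.leaf (.up 4 146 1)) (.leaf (.up 3 50 1))))) (.node (.node (.node (.leaf (.up 5 1369 0)) (.leaf (.up 5 126 0))) (.node (.leaf (.up 2 1994 0)) (.leaf (.up 3 626 1)))) (.node (.node (.leaf (.up 3 1693 0)) (.leaf (.up 4 991 1))) (.node (.leaf (.up 3 530 1)) (.leaf (.up 4 297 0)))))) (.node (.node (.node (.node (.leaf (.up 4 443 1)) (.leaf (.up 4 283 1))) (.node (.leaf (.up 5 1048 0)) (.leaf (.up 3 118 1)))) (.node (.node (.leaf (.up 2 1359 0)) (.leaf (.up 4 475 1))) (.node (.leaf (.up 1 22 1)) (.leaf (.up 3 763 0))))) (.node (.node (.node (.leaf (.up 3 827 1)) (.leaf (.up 3 923 1))) (.node (.leaf (.up 4 311 0)) (.leaf (.up 4 1040 0)))) (.node (.node (.leaf (.up 4 1019 1)) (.leaf (.up 4 1351 0))) (.node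 (.leaf (.up 4 662 1)) (.leaf (.up 4 2004 0))))))))

noncomputable def vt6_0_101 : Tr VStep := .node vt6_0_1010 vt6_0_1011

noncomputable def vt6_0_10 : Tr VStep := .node vt6_0_100 vt6_0_101

noncomputable def vt6_0_1100 : Tr VStep :=
  .node (.node (.node (.node (.node (.node (.node (.leaf (.root 4356)) (.leaf (.up 3 1449 1))) (.node (.leaf (.up 4 1214 0)) (.leaf (.up 2 1220 1)))) (.node (.node (.leaf (.root 5982)) (.leaf (.up 5 1385 1))) (.node (.leaf (.up 2 1914 0)) (.leaf (.up 2 605 0))))) (.node (.node (.node (.leaf (.root 3334)) (.leaf (.up 2 1573 0))) (.node (.leaf (.up 5 401 0)) (.leaf (.up 3 1604 1)))) (.node (.node (.leaf (.up 4 198 0)) (.leaf (.up 4 1505 0))) (.node (.leaf (.up 2 1572 1)) (.leaf (.up 5 1668 1)))))) (.node (.node (.node (.node (.leaf (.root 3242)) (.leaf (.up 5 1527 0))) (.node (.leaf (.up 4 1248 1)) (.leaf (.up 3 1892 0)))) (.node (.node (.leaf (.up 2 1357 1)) (.leaf (.up 2 1517 1))) (.node (.leaf (.up 2 1056 1))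 (.leaf (.up 2 1152 1))))) (.node (.node (.node (.leaf (.up 4 1535 0)) (.leaf (.up 4 1965 1))) (.node (.leaf (.up 3 1632 1)) (.leaf (.up 3 1728 1)))) (.node (.node (.leaf (.up 3 1595 0)) (.leaf (.up 3 796 0))) (.node (.leaf (.up 4 1192 0)) (.leaf (.up 3 1536 1))))))) (.node (.node (.node (.node (.node (.leaf (.root 4700)) (.leaf (.up 3 1577 0))) (.node (.leaf (.up 2 1854 1)) (.leaf (.up 3 1950 1)))) (.node (.node (.leaf (.up 2 1683 1)) (.leaf (.up 2 1517 0))) (.node (.leaf (.up 3 2046 1)) (.leaf (.up 2 1918 0))))) (.node (.node (.node (.leaf (.root 4686)) (.leaf (.up 4 1139 1))) (.node (.leaf (.up 2 1202 0)) (.leaf (.up 4 1310 1)))) (.node (.node (.leaf (.up 4 1043 1)) (.leaf (.up 4 1203 1))) (.node (.leaf (.up 4 1406 1)) (.leaf (.up 2 1502 1)))))) (.node (.node (.node (.node (.leaf (.root 3606)) (.leaf (.up 3 212 0))) (.node (.leaf (.up 5 1978 1)) (.leaf (.up 3 583 0)))) (.node (.node (.leaf (.up 4 1559 1)) (.leaf (.up 2 1719 1))) (.node (.leaf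 (.up 2 1914 1)) (.leaf (.up 2 2010 1))))) (.node (.node (.node (.leaf (.up 5 1111 1)) (.leaf (.up 4 1271 1))) (.node (.leaf (.up 3 1338 1)) (.leaf (.up 3 1896 0)))) (.node (.node (.leaf (.up 3 1175 1)) (.leaf (.up 4 1599 0))) (.node (.leaf (.up 4 395 0)) (.leaf (.up 4 1370 1)))))))) (.node (.node (.node (.node (.node (.node (.leaf (.root 6424)) (.leaf (.up 3 1645 0))) (.node (.leaf (.up 4 519 1)) (.leaf (.up 3 1278 0)))) (.node (.node (.leaf (.up 1 142 0)) (.leaf (.up 3 1449 0))) (.node (.leaf (.up 2 711 1)) (.leaf (.up 2 615 1))))) (.node (.node (.node (.leaf (.up 4 490 1)) (.leaf (.up 4 330 1))) (.node (.leaf (.up 3 1270 0)) (.leaf (.up 1 39 1)))) (.node (.node (.leaf (.up 3 298 1)) (.leaf (.up 2 134 0))) (.node (.leaf (.up 4 71 1)) (.leaf (.up 3 533 0)))))) (.node (.node (.node (.node (.leaf (.root 2774)) (.leaf (.up 2 144 0))) (.node (.leaf (.up 4 1828 0)) (.leaf (.up 3 547 1)))) (.node (.node (.leaf (.up 4 1651 0)) (.leaf (.up 3 910 1)))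 (.node (.leaf (.up 4 1248 0)) (.leaf (.up 4 739 1))))) (.node (.node (.node (.leaf (.up 3 366 1)) (.leaf (.up 3 462 1))) (.node (.leaf (.up 1 3 1)) (.leaf (.up 1 163 1)))) (.node (.node (.leaf (.up 4 430 1)) (.leaf (.up 1 270 1))) (.node (.leaf (.up 2 463 0)) (.leaf (.up 1 99 1))))))) (.node (.node (.node (.node (.node (.leaf (.up 2 48 1)) (.leaf (.up 2 144 1))) (.node (.leaf (.up 4 349 1)) (.leaf (.up 4 477 0)))) (.node (.node (.leaf (.up 3 240 1)) (.leaf (.up 4 80 1))) (.node (.leaf (.up 2 1854 0)) (.leaf (.up 3 317 1))))) (.node (.node (.node (.leaf (.up 3 838 0)) (.leaf (.up 3 1633 0))) (.node (.leaf (.up 4 989 1)) (.leaf (.up 2 893 1)))) (.node (.node (.leaf (.up 4 130 0)) (.leaf (.up 2 720 1))) (.node (.leaf (.up 3 797 1)) (.leaf (.up 3 1846 0)))))) (.node (.node (.node (.node (.leaf (.up 4 148 0)) (.leaf (.up 3 1459 0))) (.node (.leaf (.up 4 519 0)) (.leaf (.up 3 377 1)))) (.node (.node (.leaf (.up 3 116 1)) (.leaf (.up 3 212 1))) (.node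 (.leaf (.up 4 451 0)) (.leaf (.up 3 1252 0))))) (.node (.node (.node (.leaf (.up 3 1467 0)) (.leaf (.up 2 156 0))) (.node (.leaf (.up 5 857 1)) (.leaf (.up 4 527 0)))) (.node (.node (.leaf (.up 4 1663 0)) (.leaf (.up 2 856 0))) (.node (.leaf (.up 3 1260 0)) (.leaf (.up 3 825 1))))))))

noncomputable def vt6_0_1101 : Tr VStep :=
  .node (.node (.node (.node (.node (.node (.node (.leaf (.root 4368)) (.leaf (.up 3 787 1))) (.node (.leaf (.up 3 1552 0)) (.leaf (.up 5 638 1)))) (.node (.node (.leaf (.up 2 1863 0)) (.leaf (.up 3 979 1))) (.node (.leaf (.up 3 542 1)) (.leaf (.up 4 243 0))))) (.node (.node (.node (.leaf (.root 5790)) (.leaf (.up 4 403 1))) (.node (.leaf (.up 2 831 0)) (.leaf (.up 5 1560 0)))) (.node (.node (.leaf (.up 3 616 0)) (.leaf (.up 3 1871 0))) (.node (.leaf (.up 4 251 0)) (.leaf (.up 4 1500 0)))))) (.node (.node (.node (.node (.leaf (.up 5 638 0)) (.leaf (.up 5 1881 0))) (.node (.leaf (.up 4 237 0)) (.leaf (.up 4 1482 0))))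 (.node (.node (.leaf (.up 2 1015 1)) (.leaf (.up 2 855 1))) (.node (.leaf (.up 2 666 1)) (.leaf (.up 2 570 1))))) (.node (.node (.node (.leaf (.up 4 439 1)) (.leaf (.up 4 279 1))) (.node (.leaf (.up 4 1474 0)) (.leaf (.up 4 122 1)))) (.node (.node (.leaf (.up 4 1173 0)) (.leaf (.up 4 471 1))) (.node (.leaf (.up 1 26 1)) (.leaf (.up 3 801 0))))))) (.node (.node (.node (.node (.node (.leaf (.up 3 416 0)) (.leaf (.up 3 73 1))) (.node (.leaf (.up 3 819 0)) (.leaf (.up 5 292 1)))) (.node (.node (.leaf (.up 3 612 0)) (.leaf (.up 3 1859 0))) (.node (.leaf (.up 3 247 0)) (.leaf (.up 3 484 1))))) (.node (.node (.node (.leaf (.up 2 1167 0)) (.leaf (.up 2 713 1))) (.node (.leaf (.up 4 772 1)) (.leaf (.up 3 827 0)))) (.node (.node (.leaf (.up 3 1867 0)) (.leaf (.up 3 620 0))) (.node (.leaf (.up 3 964 1)) (.leaf (.up 2 868 1)))))) (.node (.node (.node (.node (.leaf (.root 3500)) (.leaf (.up 1 205 1))) (.node (.leaf (.up 4 256 1)) (.leaf (.up 3 416 1))))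 (.node (.node (.leaf (.up 5 173 1)) (.leaf (.up 4 13 1))) (.node (.leaf (.up 2 448 1)) (.leaf (.up 2 352 1))))) (.node (.node (.node (.leaf (.root 4138)) (.leaf (.up 3 589 1))) (.node (.leaf (.up 2 225 0)) (.leaf (.up 2 1478 0)))) (.node (.node (.leaf (.up 4 438 0)) (.leaf (.up 4 1169 0))) (.node (.leaf (.up 3 832 1)) (.leaf (.up 3 992 1)))))))) (.node (.node (.node (.node (.node (.node (.leaf (.root 4788)) (.leaf (.up 4 1392 1))) (.node (.leaf (.up 4 887 0)) (.leaf (.up 3 1053 1)))) (.node (.node (.leaf (.up 3 1296 1)) (.leaf (.up 4 1799 0))) (.node (.leaf (.up 4 179 0)) (.leaf (.up 4 1428 0))))) (.node (.node (.node (.leaf (.up 5 1227 0)) (.leaf (.up 5 492 0))) (.node (.leaf (.up 4 1597 1)) (.leaf (.up 3 1693 1)))) (.node (.node (.leaf (.up 4 1936 1)) (.leaf (.up 3 1840 1))) (.node (.leaf (.up 2 1436 0)) (.leaf (.up 1 187 0)))))) (.node (.node (.node (.node (.leaf (.root 3450)) (.leaf (.up 2 574 0))) (.node (.leaf (.up 5 1418 0)) (.leaf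 (.up 5 173 0)))) (.node (.node (.leaf (.up 4 1428 1)) (.leaf (.up 4 1332 1))) (.node (.leaf (.up 5 1273 1)) (.leaf (.up 4 1113 1))))) (.node (.node (.node (.leaf (.up 4 2004 1)) (.leaf (.up 4 1908 1))) (.node (.leaf (.up 3 1721 1)) (.leaf (.up 4 1410 0)))) (.node (.node (.leaf (.up 3 1812 1)) (.leaf (.up 2 1237 0))) (.node (.leaf (.up 4 865 0)) (.leaf (.up 3 1753 1))))))) (.node (.node (.node (.node (.node (.leaf (.up 4 1223 0)) (.leaf (.up 4 1578 1))) (.node (.leaf (.up 2 2023 1)) (.leaf (.up 2 1863 1)))) (.node (.node (.leaf (.root 6408)) (.leaf (.up 2 548 0))) (.node (.leaf (.up 2 1831 1)) (.leaf (.up 1 183 0))))) (.node (.node (.node (.leaf (.root 3614)) (.leaf (.up 4 1194 1))) (.node (.leaf (.up 3 1383 1)) (.leaf (.up 4 1628 0)))) (.node (.node (.leaf (.up 3 1226 1)) (.leaf (.up 2 1130 1))) (.node (.leaf (.up 3 191 0)) (.leaf (.up 3 1287 1)))))) (.node (.node (.node (.node (.leaf (.up 2 570 0)) (.leaf (.up 3 1821 0))) (.node (.leaf (.up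 3 1891 1)) (.leaf (.up 3 1422 0)))) (.node (.node (.leaf (.up 4 510 0)) (.leaf (.up 4 1646 1))) (.node (.leaf (.up 3 1955 1)) (.leaf (.up 3 1795 1))))) (.node (.node (.node (.leaf (.up 3 1813 0)) (.leaf (.up 3 562 0))) (.node (.leaf (.up 2 1414 0)) (.leaf (.up 3 1347 1)))) (.node (.node (.leaf (.up 3 1233 0)) (.leaf (.up 4 1262 1))) (.node (.leaf (.up 3 1315 1)) (.leaf (.up 2 869 0))))))))

noncomputable def vt6_0_110 : Tr VStep := .node vt6_0_1100 vt6_0_1101

noncomputable def vt6_0_1110 : Tr VStep :=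
  .node (.node (.node (.node (.node (.node (.node (.leaf (.root 5576)) (.leaf (.up 5 669 1))) (.node (.leaf (.up 3 116 0)) (.leaf (.up 4 1363 0)))) (.node (.node (.leaf (.up 3 291 0)) (.leaf (.up 2 605 1))) (.node (.leaf (.up 4 912 1)) (.leaf (.up 3 816 1))))) (.node (.node (.node (.leaf (.up 4 1992 0)) (.leaf (.up 3 29 1))) (.node (.leaf (.up 5 1371 0)) (.leaf (.up 5 124 0)))) (.node (.node (.leaf (.up 4 1036 0)) (.leaf (.up 4 299 0))) (.node (.leaf (.up 5 1695 0)) (.leaf (.up 3 952 0)))))) (.node (.node (.node (.node (.leaf (.up 3 1050 0)) (.leaf (.up 3 317 0))) (.node (.leaf (.up 2 1673 0)) (.leaf (.up 3 884 1)))) (.node (.node (.leaf (.up 4 2014 0)) (.leaf (.up 3 729 1))) (.node (.leaf (.up 2 1357 0)) (.leaf (.up 1 106 0))))) (.node (.node (.node (.leaf (.up 3 309 0)) (.leaf (.up 3 1042 0))) (.node (.leaf (.up 1 340 1)) (.leaf (.up 5 500 1)))) (.node (.node (.leaf (.up 5 249 1)) (.leaf (.up 4 89 1))) (.node (.leaf (.up 1 98 0)) (.leaf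 (.up 4 308 1))))))) (.node (.node (.node (.node (.node (.leaf (.root 3986)) (.leaf (.up 4 739 0))) (.node (.leaf (.up 1 10 1)) (.leaf (.up 1 112 0)))) (.node (.node (.leaf (.up 4 423 1)) (.leaf (.up 4 263 1))) (.node (.leaf (.up 2 1683 0)) (.leaf (.up 1 106 1))))) (.node (.node (.node (.leaf (.root 6418)) (.leaf (.up 3 839 1))) (.node (.leaf (.up 4 120 0)) (.leaf (.up 3 1375 0)))) (.node (.node (.leaf (.up 3 807 1)) (.leaf (.up 4 1032 0))) (.node (.leaf (.up 3 586 1)) (.leaf (.up 3 746 1)))))) (.node (.node (.node (.node (.leaf (.up 4 483 1)) (.leaf (.up 3 323 1))) (.node (.leaf (.up 1 142 1)) (.leaf (.up 3 46 1)))) (.node (.node (.leaf (.up 3 291 1)) (.leaf (.up 2 2010 0))) (.node (.leaf (.up 4 110 0)) (.leaf (.up 1 238 1))))) (.node (.node (.node (.leaf (.up 3 867 1)) (.leaf (.up 3 305 0))) (.node (.leaf (.up 2 1669 0)) (.leaf (.up 3 686 1)))) (.node (.node (.leaf (.up 5 931 1)) (.leaf (.up 3 771 1))) (.node (.leaf (.up 3 718 1)) (.leaf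 (.up 1 102 0)))))))) (.node (.node (.node (.node (.node (.node (.leaf (.root 6140)) (.leaf (.up 3 1278 1))) (.node (.leaf (.up 4 1299 0)) (.leaf (.up 3 1427 1)))) (.node (.node (.leaf (.up 3 1092 0)) (.leaf (.up 4 1086 1))) (.node (.leaf (.up 3 1523 1)) (.leaf (.up 4 1363 1))))) (.node (.node (.node (.leaf (.up 5 687 0)) (.leaf (.up 2 1928 0))) (.node (.leaf (.up 1 60 0)) (.leaf (.up 3 1811 1)))) (.node (.node (.leaf (.up 4 1566 1)) (.leaf (.up 3 1100 0))) (.node (.leaf (.up 4 1907 1)) (.leaf (.up 2 2003 1)))))) (.node (.node (.node (.node (.leaf (.root 2920)) (.leaf (.up 4 1146 1))) (.node (.leaf (.up 3 1463 1)) (.leaf (.up 5 1737 0)))) (.node (.node (.leaf (.up 3 1050 1)) (.leaf (.up 3 1950 0))) (.node (.leaf (.up 1 42 0)) (.leaf (.up 3 1293 0))))) (.node (.node (.node (.leaf (.up 4 1626 1)) (.leaf (.up 3 1786 1))) (.node (.leaf (.up 3 1847 1)) (.leaf (.up 3 1943 1)))) (.node (.node (.leaf (.up 3 1690 1)) (.leaf (.up 3 1594 1))) (.node (.leaf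 (.up 5 2039 1)) (.leaf (.up 1 34 0))))))) (.node (.node (.node (.node (.node (.leaf (.root 3984)) (.leaf (.up 4 1956 1))) (.node (.leaf (.up 2 48 0)) (.leaf (.up 5 1737 1)))) (.node (.node (.leaf (.up 3 1988 1)) (.leaf (.up 3 1892 1))) (.node (.leaf (.up 4 1705 1)) (.leaf (.up 2 1747 0))))) (.node (.node (.node (.leaf (.root 4112)) (.leaf (.up 5 1316 1))) (.node (.leaf (.up 4 1257 1)) (.leaf (.up 1 56 0)))) (.node (.node (.leaf (.up 3 1096 0)) (.leaf (.up 2 367 0))) (.node (.leaf (.up 2 1065 1)) (.leaf (.up 4 1020 0)))))) (.node (.node (.node (.node (.leaf (.up 3 1920 1)) (.leaf (.up 3 377 0))) (.node (.leaf (.up 4 1741 0)) (.leaf (.up 3 1613 1)))) (.node (.node (.leaf (.up 5 1856 1)) (.leaf (.up 3 701 0))) (.node (.leaf (.up 3 1581 1)) (.leaf (.up 3 46 0))))) (.node (.node (.node (.leaf (.up 2 369 0)) (.leaf (.up 3 1110 0))) (.node (.leaf (.up 4 994 0)) (.leaf (.up 4 1733 0)))) (.node (.node (.leaf (.up 3 1472 1)) (.leaf (.up 4 1376 1)))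 (.node (.leaf (.up 1 38 0)) (.leaf (.up 4 1037 1))))))))

noncomputable def vt6_0_1111 : Tr VStep :=
  .node (.node (.node (.node (.node (.node (.node (.leaf (.root 5086)) (.leaf (.up 3 1390 0))) (.node (.leaf (.up 3 1514 1)) (.leaf (.up 3 1354 1)))) (.node (.node (.leaf (.up 4 1095 1)) (.leaf (.up 4 1255 1))) (.node (.leaf (.up 4 1322 1)) (.leaf (.up 5 1418 1))))) (.node (.node (.node (.leaf (.up 3 1382 0)) (.leaf (.up 1 65 0))) (.node (.leaf (.up 5 2037 0)) (.leaf (.up 2 1994 1)))) (.node (.node (.leaf (.up 4 1698 0)) (.leaf (.up 4 1639 1))) (.node (.leaf (.up 2 1073 0)) (.leaf (.up 4 278 0)))))) (.node (.node (.node (.node (.leaf (.root 4666)) (.leaf (.up 5 915 0))) (.node (.leaf (.up 3 1390 1)) (.leaf (.up 4 256 0)))) (.node (.node (.leaf (.up 4 1392 0)) (.leaf (.up 1 87 0))) (.node (.leaf (.up 4 1454 1)) (.leaf (.up 2 1294 1))))) (.node (.node (.node (.leaf (.up 3 923 0)) (.leaf (.up 4 1571 1))) (.node (.leaf (.up 3 264 0)) (.leaf (.up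 2 1071 0)))) (.node (.node (.leaf (.up 1 95 0)) (.leaf (.up 4 1763 1))) (.node (.leaf (.up 3 716 0)) (.leaf (.up 4 2027 0))))))) (.node (.node (.node (.node (.node (.leaf (.root 5194)) (.leaf (.up 1 77 0))) (.node (.leaf (.up 3 1712 1)) (.leaf (.up 3 1552 1)))) (.node (.node (.leaf (.up 3 1821 1)) (.leaf (.up 2 905 0))) (.node (.leaf (.up 4 1648 1)) (.leaf (.up 2 1744 1))))) (.node (.node (.node (.leaf (.up 4 1373 1)) (.leaf (.up 3 1378 0))) (.node (.leaf (.up 4 1072 1)) (.leaf (.up 4 2033 0)))) (.node (.node (.leaf (.up 3 1437 1)) (.leaf (.up 3 1341 1))) (.node (.leaf (.up 4 274 0)) (.leaf (.up 3 1077 0)))))) (.node (.node (.node (.node (.leaf (.up 5 1881 1)) (.leaf (.up 3 1712 0))) (.node (.leaf (.up 1 260 0)) (.leaf (.up 4 1059 0)))) (.node (.node (.leaf (.up 1 83 0)) (.leaf (.up 4 1849 1))) (.node (.leaf (.up 3 1780 1)) (.leaf (.up 2 2023 0))))) (.node (.node (.node (.leaf (.up 3 1720 0)) (.leaf (.up 4 927 0))) (.node (.leaf (.up 4 1067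 0)) (.leaf (.up 3 1044 1)))) (.node (.node (.leaf (.up 3 1305 1)) (.leaf (.up 1 91 0))) (.node (.leaf (.up 4 1140 1)) (.leaf (.up 4 1236 1)))))))) (.node (.node (.node (.node (.node (.node (.leaf (.root 4762)) (.leaf (.up 1 9 0))) (.node (.leaf (.up 2 905 1)) (.leaf (.up 2 666 0)))) (.node (.node (.leaf (.up 2 548 1)) (.leaf (.up 5 644 1))) (.node (.leaf (.up 4 841 1)) (.leaf (.up 4 350 0))))) (.node (.node (.node (.leaf (.up 1 1 0)) (.leaf (.up 2 196 1))) (.node (.leaf (.up 2 658 0)) (.leaf (.up 4 425 1)))) (.node (.node (.leaf (.up 3 164 1)) (.leaf (.up 1 4 1))) (.node (.leaf (.up 3 342 0)) (.leaf (.up 2 361 1)))))) (.node (.node (.node (.node (.leaf (.root 3720)) (.leaf (.up 3 1780 0))) (.node (.leaf (.up 5 781 1)) (.leaf (.up 3 941 1)))) (.node (.node (.leaf (.up 1 23 0)) (.leaf (.up 2 1328 0))) (.node (.leaf (.up 5 644 0)) (.leaf (.up 3 1955 0))))) (.node (.node (.node (.leaf (.up 5 224 1)) (.leaf (.up 3 64 1))) (.node (.leaf (.up 1 397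 1)) (.leaf (.up 4 328 0)))) (.node (.node (.leaf (.up 1 32 1)) (.leaf (.up 1 31 0))) (.node (.leaf (.up 3 1963 0)) (.leaf (.up 4 493 1))))))) (.node (.node (.node (.node (.node (.leaf (.up 4 13 0)) (.leaf (.up 4 1322 0))) (.node (.leaf (.up 3 670 0)) (.leaf (.up 3 1977 0)))) (.node (.node (.leaf (.up 3 382 1)) (.leaf (.up 3 1774 0))) (.node (.leaf (.up 1 19 1)) (.leaf (.up 4 179 1))))) (.node (.node (.node (.leaf (.up 2 830 1)) (.leaf (.up 1 5 0))) (.node (.leaf (.up 3 1969 0)) (.leaf (.up 4 662 0)))) (.node (.node (.leaf (.up 3 1766 0)) (.leaf (.up 4 961 0))) (.node (.leaf (.up 4 659 1)) (.leaf (.up 5 563 1)))))) (.node (.node (.node (.node (.leaf (.root 4324)) (.leaf (.up 4 410 1))) (.node (.leaf (.up 1 87 1)) (.leaf (.up 3 247 1)))) (.node (.node (.leaf (.up 4 1332 0)) (.leaf (.up 1 19 0))) (.node (.leaf (.up 4 1959 0)) (.leaf (.up 1 55 1))))) (.node (.node (.node (.leaf (.up 4 991 0)) (.leaf (.up 5 1784 0))) (.node (.leaf (.up 4 727 1))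 (.leaf (.up 2 1131 0)))) (.node (.node (.leaf (.up 1 27 0)) (.leaf (.up 3 1340 0))) (.node (.leaf (.up 2 648 0)) (.leaf (.up 4 1967 0))))))))

noncomputable def vt6_0_111 : Tr VStep := .node vt6_0_1110 vt6_0_1111

noncomputable def vt6_0_11 : Tr VStep := .node vt6_0_110 vt6_0_111

noncomputable def vt6_0_1 : Tr VStep := .node vt6_0_10 vt6_0_11

noncomputable def vt6_0_ : Tr VStep := .node vt6_0_0 vt6_0_1

noncomputable def vt6_1_0000 : Tr VStep :=
  .node (.node (.node (.node (.node (.node (.node (.leaf (.root 4732)) (.leaf (.up 2 303 0))) (.node (.leaf (.up 2 1370 0)) (.leaf (.up 2 906 0)))) (.node (.node (.leaf (.root 3164)) (.leaf (.up 2 906 1))) (.node (.leaf (.up 2 1830 0)) (.leaf (.up 2 502 0))))) (.node (.node (.node (.leaf (.up 1 17 0)) (.leaf (.up 2 1457 1))) (.node (.leaf (.root 3568)) (.leaf (.up 1 858 1)))) (.node (.node (.leaf (.root 5260)) (.leaf (.up 2 1213 0))) (.node (.leaf (.up 1 200 0)) (.leaf (.up 2 1560 0)))))) (.node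 (.node (.node (.node (.leaf (.root 5694)) (.leaf (.up 2 569 0))) (.node (.leaf (.up 2 1612 0)) (.leaf (.up 2 156 0)))) (.node (.node (.leaf (.root 3812)) (.leaf (.up 1 69 0))) (.node (.leaf (.up 2 1072 0)) (.leaf (.up 2 736 0))))) (.node (.node (.node (.leaf (.root 5692)) (.leaf (.up 1 441 1))) (.node (.leaf (.up 2 1818 1)) (.leaf (.root 5010)))) (.node (.node (.leaf (.up 2 1987 1)) (.leaf (.root 5606))) (.node (.leaf (.up 2 296 1)) (.leaf (.up 1 352 1))))))) (.node (.node (.node (.node (.node (.leaf (.root 5128)) (.leaf (.up 1 151 0))) (.node (.leaf (.up 2 1250 0)) (.leaf (.up 2 562 0)))) (.node (.node (.leaf (.root 5848)) (.leaf (.up 2 896 1))) (.node (.leaf (.up 2 1694 0)) (.leaf (.up 2 78 0))))) (.node (.node (.node (.leaf (.root 5102)) (.leaf (.up 2 1467 1))) (.node (.leaf (.root 4228)) (.leaf (.up 2 1500 0)))) (.node (.node (.leaf (.root 6216)) (.leaf (.up 2 1285 0))) (.node (.leaf (.up 2 368 0)) (.leaf (.up 1 1378 1)))))) (.node (.node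 (.node (.node (.leaf (.root 3678)) (.leaf (.up 2 897 0))) (.node (.leaf (.up 2 2036 0)) (.leaf (.up 2 292 0)))) (.node (.node (.leaf (.root 5968)) (.leaf (.up 1 509 0))) (.node (.leaf (.up 2 1416 0)) (.leaf (.up 2 856 0))))) (.node (.node (.node (.leaf (.root 5958)) (.leaf (.up 1 435 1))) (.node (.leaf (.up 1 26 0)) (.leaf (.up 2 1880 1)))) (.node (.node (.leaf (.up 2 1993 1)) (.leaf (.up 2 1555 0))) (.node (.leaf (.up 2 290 1)) (.leaf (.up 2 1206 0)))))))) (.node (.node (.node (.node (.node (.node (.leaf (.root 6104)) (.leaf (.up 2 569 1))) (.node (.leaf (.root 5512)) (.leaf (.up 2 789 0)))) (.node (.node (.leaf (.root 6156)) (.leaf (.up 2 1035 1))) (.node (.leaf (.up 2 1977 0)) (.leaf (.up 2 736 1))))) (.node (.node (.node (.leaf (.up 1 142 0)) (.leaf (.up 1 560 1))) (.node (.leaf (.up 1 555 0)) (.leaf (.up 2 1243 1)))) (.node (.node (.leaf (.up 2 754 0)) (.leaf (.up 1 1026 1))) (.node (.leaf (.up 1 87 0)) (.leaf (.up 2 1671 0)))))) (.node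 (.node (.node (.node (.leaf (.root 3890)) (.leaf (.up 2 678 0))) (.node (.leaf (.up 2 1747 0)) (.leaf (.up 1 3 0)))) (.node (.node (.leaf (.up 1 75 1)) (.leaf (.up 1 3 1))) (.node (.leaf (.up 2 1199 0)) (.leaf (.up 2 639 0))))) (.node (.node (.node (.leaf (.root 4242)) (.leaf (.root 5604))) (.node (.leaf (.up 1 155 1)) (.leaf (.up 1 211 1)))) (.node (.node (.leaf (.up 1 66 1)) (.leaf (.up 1 10 1))) (.node (.leaf (.up 2 1705 1)) (.leaf (.up 2 1425 0))))))) (.node (.node (.node (.node (.node (.leaf (.root 6206)) (.leaf (.up 1 8 0))) (.node (.leaf (.root 4916)) (.leaf (.up 2 685 0)))) (.node (.node (.leaf (.root 3970)) (.leaf (.up 2 1025 1))) (.node (.leaf (.up 2 1537 0)) (.leaf (.up 2 746 1))))) (.node (.node (.node (.leaf (.root 2756)) (.leaf (.up 1 570 1))) (.node (.leaf (.up 2 915 0)) (.leaf (.up 2 1233 1)))) (.node (.node (.leaf (.up 2 842 0)) (.leaf (.up 2 1434 0))) (.node (.leaf (.up 1 495 0)) (.leaf (.up 2 1855 0)))))) (.node (.node (.node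 (.node (.leaf (.root 6228)) (.leaf (.up 2 798 0))) (.node (.leaf (.up 1 152 1)) (.leaf (.up 1 208 1)))) (.node (.node (.leaf (.up 1 65 1)) (.leaf (.up 1 9 1))) (.node (.leaf (.up 2 1303 0)) (.leaf (.up 2 1762 1))))) (.node (.node (.node (.leaf (.root 5164)) (.leaf (.root 5860))) (.node (.leaf (.up 1 133 0)) (.leaf (.up 1 217 1)))) (.node (.node (.leaf (.up 1 72 1)) (.leaf (.up 1 0 1))) (.node (.leaf (.up 2 761 0)) (.leaf (.up 1 1065 0))))))))

noncomputable def vt6_1_0001 : Tr VStep :=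
  .node (.node (.node (.node (.node (.node (.node (.leaf (.root 4746)) (.leaf (.up 2 1424 0))) (.node (.leaf (.up 1 485 0)) (.leaf (.up 2 1845 0)))) (.node (.node (.leaf (.root 3394)) (.leaf (.up 2 2028 0))) (.node (.leaf (.up 2 921 0)) (.leaf (.up 2 1385 1))))) (.node (.node (.node (.leaf (.root 5866)) (.leaf (.up 2 1465 1))) (.node (.leaf (.up 2 1547 0)) (.leaf (.up 2 850 1)))) (.node (.node (.leaf (.up 2 1746 0)) (.leaf (.up 1 2 0))) (.node (.leaf (.up 2 1143 0)) (.leaf (.up 2 1376 1)))))) (.node (.node (.node (.node (.leaf (.root 4992)) (.leaf (.up 2 1670 0))) (.node (.leaf (.up 2 755 0)) (.leaf (.up 1 1059 0)))) (.node (.node (.leaf (.root 5472)) (.leaf (.up 2 1274 0))) (.node (.leaf (.up 1 143 0)) (.leaf (.up 1 353 1))))) (.node (.node (.node (.leaf (.root 4912)) (.leaf (.up 1 360 0))) (.node (.leaf (.up 2 1309 0)) (.leaf (.up 2 1882 1)))) (.node (.node (.leaf (.root 3180)) (.leaf (.up 2 788 0))) (.node (.leaf (.up 1 288 1)) (.leaf (.up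 1 360 1))))))) (.node (.node (.node (.node (.node (.leaf (.root 2852)) (.leaf (.root 6326))) (.node (.leaf (.up 1 93 0)) (.leaf (.up 2 1677 0)))) (.node (.node (.leaf (.up 1 132 0)) (.leaf (.up 2 1620 0))) (.node (.leaf (.up 1 545 0)) (.leaf (.up 2 1379 1))))) (.node (.node (.node (.leaf (.root 3178)) (.leaf (.up 2 1459 1))) (.node (.leaf (.up 2 1971 0)) (.leaf (.up 2 856 1)))) (.node (.node (.leaf (.up 2 1898 0)) (.leaf (.up 2 897 1))) (.node (.leaf (.up 2 1487 0)) (.leaf (.up 2 799 0)))))) (.node (.node (.node (.node (.leaf (.root 5990)) (.leaf (.up 2 1854 0))) (.node (.leaf (.up 2 1809 1)) (.leaf (.up 2 1435 0)))) (.node (.node (.leaf (.root 6398)) (.leaf (.up 2 1346 0))) (.node (.leaf (.up 1 291 1)) (.leaf (.up 1 363 1))))) (.node (.node (.node (.leaf (.root 4492)) (.leaf (.up 1 208 0))) (.node (.leaf (.up 2 1189 0)) (.leaf (.up 2 629 0)))) (.node (.node (.leaf (.root 2629)) (.leaf (.up 2 684 0))) (.node (.leaf (.up 2 1753 0)) (.leaf (.up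 1 9 0)))))))) (.node (.node (.node (.node (.node (.node (.leaf (.root 3488)) (.leaf (.up 2 1295 0))) (.node (.leaf (.up 2 378 0)) (.leaf (.up 1 1242 1)))) (.node (.node (.leaf (.root 3230)) (.leaf (.up 1 1027 1))) (.node (.leaf (.up 1 672 1)) (.leaf (.up 2 1494 0))))) (.node (.node (.node (.leaf (.root 3382)) (.leaf (.up 2 568 1))) (.node (.leaf (.up 2 1684 0)) (.leaf (.up 2 1235 1)))) (.node (.node (.leaf (.up 2 1613 0)) (.leaf (.up 1 157 0))) (.node (.leaf (.up 2 1256 0)) (.leaf (.up 2 568 0)))))) (.node (.node (.node (.node (.leaf (.root 5172)) (.leaf (.up 2 1561 0))) (.node (.leaf (.up 1 154 1)) (.leaf (.up 2 1212 0)))) (.node (.node (.leaf (.up 1 67 1)) (.leaf (.up 1 11 1))) (.node (.leaf (.up 1 16 0)) (.leaf (.up 1 1728 0))))) (.node (.node (.node (.leaf (.root 5216)) (.leaf (.up 2 503 0))) (.node (.leaf (.up 2 1410 0)) (.leaf (.up 2 850 0)))) (.node (.node (.leaf (.up 1 74 1)) (.leaf (.up 1 2 1))) (.node (.leaf (.up 2 2046 0)) (.leaf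 (.up 2 302 0))))))) (.node (.node (.node (.node (.node (.leaf (.root 5568)) (.leaf (.up 2 1207 0))) (.node (.leaf (.up 1 194 0)) (.leaf (.up 1 1232 1)))) (.node (.node (.leaf (.up 1 27 0)) (.leaf (.up 1 1033 1))) (.node (.leaf (.up 1 682 1)) (.leaf (.up 1 738 1))))) (.node (.node (.node (.leaf (.root 4204)) (.leaf (.up 2 562 1))) (.node (.leaf (.up 2 1836 0)) (.leaf (.up 2 1241 1)))) (.node (.node (.leaf (.up 2 2037 0)) (.leaf (.up 2 293 0))) (.node (.leaf (.up 2 1360 0)) (.leaf (.up 2 896 0)))))) (.node (.node (.node (.node (.leaf (.up 2 1659 1)) (.leaf (.root 6084))) (.node (.leaf (.up 2 144 1)) (.leaf (.up 1 216 1)))) (.node (.node (.leaf (.up 1 73 1)) (.leaf (.up 1 1 1))) (.node (.leaf (.up 2 1698 1)) (.leaf (.up 1 1770 1))))) (.node (.node (.node (.leaf (.root 5186)) (.leaf (.up 1 79 0))) (.node (.leaf (.up 2 1082 0)) (.leaf (.up 2 746 0)))) (.node (.node (.leaf (.up 1 64 1)) (.leaf (.up 1 8 1))) (.node (.leaf (.up 2 1606 0)) (.leaf (.up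 2 150 0))))))))

noncomputable def vt6_1_000 : Tr VStep := .node vt6_1_0000 vt6_1_0001

noncomputable def vt6_1_0010 : Tr VStep :=
  .node (.node (.node (.node (.node (.node (.node (.leaf (.root 5262)) (.leaf (.up 2 1520 0))) (.node (.leaf (.up 2 389 0)) (.leaf (.up 1 276 1)))) (.node (.node (.leaf (.root 3952)) (.leaf (.up 2 461 1))) (.node (.leaf (.root 6428)) (.leaf (.up 2 1830 1))))) (.node (.node (.node (.leaf (.root 5208)) (.leaf (.up 2 542 0))) (.node (.leaf (.up 2 1643 0)) (.leaf (.up 1 187 0)))) (.node (.node (.leaf (.root 4002)) (.leaf (.up 1 98 0))) (.node (.leaf (.up 2 1047 0)) (.leaf (.up 2 711 0)))))) (.node (.node (.node (.node (.leaf (.up 2 54 0)) (.leaf (.up 2 1015 1))) (.node (.leaf (.root 5846)) (.leaf (.up 2 1091 0)))) (.node (.node (.leaf (.root 6390)) (.leaf (.up 2 1178 0))) (.node (.leaf (.up 1 239 0)) (.leaf (.up 2 814 1))))) (.node (.node (.node (.leaf (.root 2651)) (.leaf (.up 1 264 0))) (.node (.leaf (.up 2 1405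 0)) (.leaf (.up 2 941 0)))) (.node (.node (.leaf (.up 2 1412 1)) (.leaf (.up 2 884 0))) (.node (.leaf (.up 2 1793 0)) (.leaf (.up 2 465 0))))))) (.node (.node (.node (.node (.node (.leaf (.root 4644)) (.leaf (.up 2 2037 1))) (.node (.leaf (.up 1 61 0)) (.leaf (.up 1 286 1)))) (.node (.node (.leaf (.up 1 228 0)) (.leaf (.up 2 455 1))) (.node (.leaf (.up 1 577 0)) (.leaf (.up 2 1836 1))))) (.node (.node (.node (.leaf (.root 4612)) (.leaf (.up 2 934 0))) (.node (.leaf (.up 2 2003 0)) (.leaf (.up 2 259 0)))) (.node (.node (.leaf (.up 1 390 1)) (.leaf (.up 2 474 0))) (.node (.leaf (.up 2 1455 0)) (.leaf (.up 2 895 0)))))) (.node (.node (.node (.node (.leaf (.root 4946)) (.leaf (.up 2 1021 1))) (.node (.leaf (.root 6384)) (.leaf (.up 2 1531 0)))) (.node (.node (.leaf (.root 4314)) (.leaf (.up 2 1487 1))) (.node (.leaf (.up 1 343 0)) (.leaf (.up 2 804 1))))) (.node (.node (.node (.leaf (.root 3208)) (.leaf (.up 1 176 0))) (.node (.leaf (.up 2 1221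 0)) (.leaf (.up 2 533 0)))) (.node (.node (.leaf (.up 2 1422 1)) (.leaf (.up 2 716 0))) (.node (.leaf (.up 2 1721 0)) (.leaf (.up 2 105 0)))))))) (.node (.node (.node (.node (.node (.node (.leaf (.root 3906)) (.leaf (.up 1 126 1))) (.node (.leaf (.up 1 282 0)) (.leaf (.up 2 1994 0)))) (.node (.node (.leaf (.root 5210)) (.leaf (.up 2 1612 1))) (.node (.leaf (.up 1 239 1)) (.leaf (.up 2 167 1))))) (.node (.node (.node (.leaf (.up 1 63 1)) (.leaf (.up 1 119 1))) (.node (.leaf (.up 2 1780 0)) (.leaf (.up 1 36 0)))) (.node (.node (.leaf (.root 2716)) (.leaf (.up 1 253 0))) (.node (.leaf (.up 1 230 1)) (.leaf (.up 2 600 0)))))) (.node (.node (.node (.node (.leaf (.root 5668)) (.leaf (.up 2 1657 0))) (.node (.leaf (.up 2 524 0)) (.leaf (.up 1 669 1)))) (.node (.node (.leaf (.root 6264)) (.leaf (.up 1 580 1))) (.node (.leaf (.up 1 112 0)) (.leaf (.up 2 1199 1))))) (.node (.node (.node (.leaf (.root 5334)) (.leaf (.up 1 407 0))) (.node (.leaf (.up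 2 732 1)) (.leaf (.up 2 818 0)))) (.node (.node (.leaf (.up 2 517 1)) (.leaf (.up 2 1003 0))) (.node (.leaf (.up 2 1950 0)) (.leaf (.up 1 334 0))))))) (.node (.node (.node (.node (.node (.leaf (.root 3330)) (.leaf (.up 1 116 1))) (.node (.leaf (.up 1 162 0)) (.leaf (.up 2 1650 0)))) (.node (.node (.leaf (.up 1 123 0)) (.leaf (.up 2 1606 1))) (.node (.leaf (.up 1 229 1)) (.leaf (.up 2 173 1))))) (.node (.node (.node (.leaf (.up 1 53 1)) (.leaf (.up 1 125 1))) (.node (.leaf (.up 2 1868 0)) (.leaf (.up 1 412 0)))) (.node (.node (.leaf (.up 2 1941 0)) (.leaf (.up 1 325 0))) (.node (.leaf (.up 1 236 1)) (.leaf (.up 1 164 1)))))) (.node (.node (.node (.node (.leaf (.root 3586)) (.leaf (.up 2 1985 0))) (.node (.leaf (.up 2 948 0)) (.leaf (.up 1 663 1)))) (.node (.node (.leaf (.root 6130)) (.leaf (.up 1 590 1))) (.node (.leaf (.up 1 456 0)) (.leaf (.up 2 1189 1))))) (.node (.node (.node (.leaf (.root 4274)) (.leaf (.up 1 47 0))) (.node (.leaf (.up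 2 726 1)) (.leaf (.up 1 650 0)))) (.node (.node (.leaf (.up 2 527 1)) (.leaf (.up 2 595 0))) (.node (.leaf (.up 2 1252 1)) (.leaf (.up 1 246 0))))))))

noncomputable def vt6_1_0011 : Tr VStep :=
  .node (.node (.node (.node (.node (.node (.node (.leaf (.up 2 1951 0)) (.leaf (.up 1 335 0))) (.node (.leaf (.up 1 340 1)) (.leaf (.up 2 1002 0)))) (.node (.node (.leaf (.root 5808)) (.leaf (.up 1 453 1))) (.node (.leaf (.up 2 1862 0)) (.leaf (.up 1 406 0))))) (.node (.node (.node (.leaf (.up 1 113 0)) (.leaf (.up 2 2046 1))) (.node (.leaf (.up 1 349 1)) (.leaf (.up 2 277 1)))) (.node (.node (.leaf (.up 1 388 1)) (.leaf (.up 2 460 1))) (.node (.leaf (.up 1 168 0)) (.leaf (.up 2 1656 0)))))) (.node (.node (.node (.node (.leaf (.root 3238)) (.leaf (.up 2 601 0))) (.node (.leaf (.up 2 1372 1)) (.leaf (.up 1 252 0)))) (.node (.node (.leaf (.root 6364)) (.leaf (.up 1 37 0))) (.node (.leaf (.up 2 878 1)) (.leaf (.up 1 640 0))))) (.node (.node (.node (.leaf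 (.root 6076)) (.leaf (.up 2 1014 1))) (.node (.leaf (.up 1 450 0)) (.leaf (.up 2 1309 1)))) (.node (.node (.leaf (.up 1 283 0)) (.leaf (.up 2 1995 0))) (.node (.leaf (.up 2 958 0)) (.leaf (.up 1 815 1))))))) (.node (.node (.node (.node (.node (.leaf (.root 6362)) (.leaf (.up 1 247 0))) (.node (.leaf (.up 1 350 1)) (.leaf (.up 2 594 0)))) (.node (.node (.leaf (.root 4656)) (.leaf (.up 1 463 1))) (.node (.leaf (.up 2 1790 0)) (.leaf (.up 1 46 0))))) (.node (.node (.node (.leaf (.root 4818)) (.leaf (.up 2 2036 1))) (.node (.leaf (.up 1 343 1)) (.leaf (.up 2 287 1)))) (.node (.node (.leaf (.up 2 949 0)) (.leaf (.up 2 454 1))) (.node (.leaf (.up 1 272 0)) (.leaf (.up 2 1984 0)))))) (.node (.node (.node (.node (.leaf (.up 2 957 1)) (.leaf (.up 2 993 0))) (.node (.leaf (.up 2 1366 1)) (.leaf (.up 1 324 0)))) (.node (.node (.leaf (.root 4936)) (.leaf (.up 1 413 0))) (.node (.leaf (.up 2 868 1)) (.leaf (.up 2 824 0))))) (.node (.node (.node (.leaf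 (.root 5638)) (.leaf (.up 2 1020 1))) (.node (.leaf (.up 1 122 0)) (.leaf (.up 2 1303 1)))) (.node (.node (.leaf (.up 1 163 0)) (.leaf (.up 2 1651 0))) (.node (.leaf (.up 2 518 0)) (.leaf (.up 1 805 1)))))))) (.node (.node (.node (.node (.node (.node (.leaf (.root 4354)) (.leaf (.up 2 464 0))) (.node (.leaf (.up 2 1445 0)) (.leaf (.up 2 885 0)))) (.node (.node (.leaf (.up 2 1404 0)) (.leaf (.up 2 940 0))) (.node (.leaf (.up 1 231 1)) (.leaf (.up 1 175 1))))) (.node (.node (.node (.leaf (.up 1 55 1)) (.leaf (.up 1 127 1))) (.node (.leaf (.up 1 587 0)) (.leaf (.up 2 1684 1)))) (.node (.node (.leaf (.root 4272)) (.leaf (.up 2 1613 1))) (.node (.leaf (.up 1 55 0)) (.leaf (.up 1 166 1)))))) (.node (.node (.node (.node (.leaf (.up 2 1078 1)) (.leaf (.up 2 710 0))) (.node (.leaf (.up 2 1715 0)) (.leaf (.up 2 99 0)))) (.node (.node (.leaf (.up 2 1642 0)) (.leaf (.up 1 186 0))) (.node (.leaf (.up 2 1231 0)) (.leaf (.up 2 543 0))))) (.node (.node (.node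 (.leaf (.root 4990)) (.leaf (.up 2 1143 1))) (.node (.leaf (.up 1 349 0)) (.leaf (.up 2 668 1)))) (.node (.node (.leaf (.up 1 388 0)) (.leaf (.up 1 581 1))) (.node (.leaf (.up 1 801 0)) (.leaf (.up 2 1521 0))))))) (.node (.node (.node (.node (.node (.leaf (.up 1 52 1)) (.leaf (.up 1 104 0))) (.node (.leaf (.up 2 1053 0)) (.leaf (.up 2 717 0)))) (.node (.node (.leaf (.up 2 1220 0)) (.leaf (.up 2 532 0))) (.node (.leaf (.up 2 1633 0)) (.leaf (.up 1 165 1))))) (.node (.node (.node (.leaf (.up 1 61 1)) (.leaf (.up 1 117 1))) (.node (.leaf (.root 5922)) (.leaf (.up 2 1694 1)))) (.node (.node (.leaf (.root 4950)) (.leaf (.up 2 1530 0))) (.node (.leaf (.up 1 228 1)) (.leaf (.up 1 172 1)))))) (.node (.node (.node (.node (.leaf (.up 2 1084 1)) (.leaf (.up 2 894 0))) (.node (.leaf (.up 2 1803 0)) (.leaf (.up 2 475 0)))) (.node (.node (.leaf (.up 2 2002 0)) (.leaf (.up 1 258 0))) (.node (.leaf (.up 2 1399 0)) (.leaf (.up 2 935 0))))) (.node (.node (.node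 (.leaf (.root 5910)) (.leaf (.up 2 1168 0))) (.node (.leaf (.up 1 229 0)) (.leaf (.up 2 662 1)))) (.node (.node (.leaf (.up 2 60 0)) (.leaf (.up 1 591 1))) (.node (.leaf (.up 1 665 0)) (.leaf (.up 2 1097 0))))))))

noncomputable def vt6_1_001 : Tr VStep := .node vt6_1_0010 vt6_1_0011

noncomputable def vt6_1_00 : Tr VStep := .node vt6_1_000 vt6_1_001

noncomputable def vt6_1_0100 : Tr VStep :=
  .node (.node (.node (.node (.node (.node (.node (.leaf (.root 5224)) (.leaf (.root 6066))) (.node (.leaf (.up 1 453 0)) (.leaf (.up 2 1813 0)))) (.node (.node (.leaf (.root 3814)) (.leaf (.up 2 1996 0))) (.node (.leaf (.up 2 953 0)) (.leaf (.up 2 1385 0))))) (.node (.node (.node (.leaf (.root 5844)) (.leaf (.up 2 1433 1))) (.node (.leaf (.root 6108)) (.leaf (.up 1 251 0)))) (.node (.node (.leaf (.up 2 1778 0)) (.leaf (.up 1 34 0))) (.node (.leaf (.up 2 1111 0)) (.leaf (.up 2 1344 1)))))) (.node (.node (.node (.node (.leaf (.root 4924)) (.leaf (.up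 2 1702 0))) (.node (.leaf (.up 2 723 0)) (.leaf (.up 1 1027 0)))) (.node (.node (.leaf (.up 2 2018 1)) (.leaf (.up 1 1242 0))) (.node (.leaf (.up 1 175 0)) (.leaf (.up 1 321 1))))) (.node (.node (.node (.leaf (.root 4148)) (.leaf (.up 1 328 0))) (.node (.leaf (.root 2952)) (.leaf (.up 2 1005 0)))) (.node (.node (.leaf (.root 5492)) (.leaf (.up 2 820 0))) (.node (.leaf (.up 1 256 1)) (.leaf (.up 1 328 1))))))) (.node (.node (.node (.node (.node (.leaf (.root 5474)) (.leaf (.up 2 1434 1))) (.node (.leaf (.up 1 125 0)) (.leaf (.up 2 1709 0)))) (.node (.node (.leaf (.up 1 164 0)) (.leaf (.up 2 1652 0))) (.node (.leaf (.up 1 513 0)) (.leaf (.up 2 1233 0))))) (.node (.node (.node (.leaf (.root 4024)) (.leaf (.up 2 1427 1))) (.node (.leaf (.up 2 1939 0)) (.leaf (.up 1 323 0)))) (.node (.node (.leaf (.up 2 1866 0)) (.leaf (.up 2 929 1))) (.node (.leaf (.up 2 1519 0)) (.leaf (.up 2 831 0)))))) (.node (.node (.node (.node (.leaf (.root 4698)) (.leaf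 (.up 2 1822 0))) (.node (.leaf (.up 2 1841 1)) (.leaf (.up 2 1467 0)))) (.node (.node (.leaf (.up 2 2024 1)) (.leaf (.root 3598))) (.node (.leaf (.up 2 259 1)) (.leaf (.up 1 331 1))))) (.node (.node (.node (.leaf (.root 3036)) (.leaf (.up 1 240 0))) (.node (.leaf (.root 2649)) (.leaf (.up 1 597 0)))) (.node (.node (.leaf (.root 2950)) (.leaf (.up 2 652 0))) (.node (.leaf (.up 2 1785 0)) (.leaf (.up 1 41 0)))))))) (.node (.node (.node (.node (.node (.node (.leaf (.root 5250)) (.leaf (.up 2 1327 0))) (.node (.leaf (.up 2 346 0)) (.leaf (.up 2 1274 1)))) (.node (.node (.leaf (.root 5932)) (.leaf (.up 1 1059 1))) (.node (.leaf (.up 1 640 1)) (.leaf (.up 2 1526 0))))) (.node (.node (.node (.leaf (.up 2 1041 0)) (.leaf (.up 2 705 0))) (.node (.leaf (.up 2 1716 0)) (.leaf (.up 1 100 0)))) (.node (.node (.leaf (.up 2 1645 0)) (.leaf (.up 2 189 0))) (.node (.leaf (.up 2 1224 0)) (.leaf (.up 2 705 1)))))) (.node (.node (.node (.node (.leaf (.root 4086))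 (.leaf (.root 4252))) (.node (.leaf (.up 1 186 1)) (.leaf (.up 2 1180 0)))) (.node (.node (.leaf (.up 2 99 1)) (.leaf (.up 1 43 1))) (.node (.leaf (.up 1 48 0)) (.leaf (.up 1 1728 1))))) (.node (.node (.node (.leaf (.up 2 1799 0)) (.leaf (.up 2 471 0))) (.node (.leaf (.up 1 179 1)) (.leaf (.up 1 251 1)))) (.node (.node (.leaf (.up 1 106 1)) (.leaf (.up 1 34 1))) (.node (.leaf (.up 2 2014 0)) (.leaf (.up 1 270 0))))))) (.node (.node (.node (.node (.node (.leaf (.root 3916)) (.leaf (.up 2 1175 0))) (.node (.leaf (.up 1 226 0)) (.leaf (.up 1 1264 1)))) (.node (.node (.leaf (.up 1 59 0)) (.leaf (.up 1 1065 1))) (.node (.leaf (.up 1 650 1)) (.leaf (.up 1 706 1))))) (.node (.node (.node (.leaf (.up 2 1449 0)) (.leaf (.up 2 889 0))) (.node (.leaf (.up 2 1804 0)) (.leaf (.up 2 476 0)))) (.node (.node (.leaf (.up 2 2005 0)) (.leaf (.up 2 1056 1))) (.node (.leaf (.up 2 1392 0)) (.leaf (.up 2 715 1)))))) (.node (.node (.node (.node (.leaf (.root 3584))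 (.leaf (.root 2992))) (.node (.leaf (.up 1 176 1)) (.leaf (.up 1 248 1)))) (.node (.node (.leaf (.up 2 105 1)) (.leaf (.up 1 33 1))) (.node (.leaf (.up 2 1666 1)) (.leaf (.up 2 1880 0))))) (.node (.node (.node (.leaf (.up 2 1727 0)) (.leaf (.up 2 111 0))) (.node (.leaf (.up 1 185 1)) (.leaf (.up 1 241 1)))) (.node (.node (.leaf (.up 1 96 1)) (.leaf (.up 1 40 1))) (.node (.leaf (.up 2 1638 0)) (.leaf (.up 2 182 0))))))))

noncomputable def vt6_1_0101 : Tr VStep :=
  .node (.node (.node (.node (.node (.node (.node (.leaf (.root 5666)) (.leaf (.up 2 1432 1))) (.node (.leaf (.up 2 1402 0)) (.leaf (.up 2 883 1)))) (.node (.node (.leaf (.up 2 1443 0)) (.leaf (.up 2 883 0))) (.node (.leaf (.up 2 1798 0)) (.leaf (.up 2 1345 1))))) (.node (.node (.node (.leaf (.up 1 49 0)) (.leaf (.root 4240))) (.node (.leaf (.root 5630)) (.leaf (.up 1 890 1)))) (.node (.node (.leaf (.root 3810)) (.leaf (.up 2 1181 0))) (.node (.leaf (.up 1 232 0)) (.leaf (.up 2 1592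 0)))))) (.node (.node (.node (.node (.leaf (.root 6068)) (.leaf (.up 2 537 0))) (.node (.leaf (.up 2 1644 0)) (.leaf (.up 2 188 0)))) (.node (.node (.leaf (.up 2 1717 0)) (.leaf (.up 2 101 0))) (.node (.leaf (.up 1 257 1)) (.leaf (.up 1 329 1))))) (.node (.node (.node (.leaf (.up 2 465 1)) (.leaf (.up 1 409 1))) (.node (.leaf (.up 2 1850 1)) (.leaf (.up 2 1874 0)))) (.node (.node (.leaf (.up 2 347 0)) (.leaf (.up 2 1931 0))) (.node (.leaf (.up 1 264 1)) (.leaf (.up 1 320 1))))))) (.node (.node (.node (.node (.node (.leaf (.root 6420)) (.leaf (.up 2 183 0))) (.node (.leaf (.up 2 1218 0)) (.leaf (.up 2 889 1)))) (.node (.node (.leaf (.up 2 1051 0)) (.leaf (.up 2 715 0))) (.node (.leaf (.up 2 1726 0)) (.leaf (.up 1 110 0))))) (.node (.node (.node (.leaf (.root 5382)) (.leaf (.root 5118))) (.node (.leaf (.root 5448)) (.leaf (.up 2 1532 0)))) (.node (.node (.leaf (.root 3250)) (.leaf (.up 2 1317 0))) (.node (.leaf (.up 2 336 0)) (.leaf (.up 2 1346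 1)))))) (.node (.node (.node (.node (.leaf (.root 6196)) (.leaf (.up 2 929 0))) (.node (.leaf (.up 2 2004 0)) (.leaf (.up 1 260 0)))) (.node (.node (.leaf (.up 2 1805 0)) (.leaf (.up 2 477 0))) (.node (.leaf (.up 1 267 1)) (.leaf (.up 1 323 1))))) (.node (.node (.node (.leaf (.up 2 475 1)) (.leaf (.up 1 403 1))) (.node (.leaf (.up 1 58 0)) (.leaf (.root 3004)))) (.node (.node (.leaf (.up 1 227 0)) (.leaf (.up 2 1587 0))) (.node (.leaf (.up 1 258 1)) (.leaf (.up 2 1174 0)))))))) (.node (.node (.node (.node (.node (.node (.leaf (.root 3380)) (.leaf (.up 2 537 1))) (.node (.leaf (.root 4278)) (.leaf (.up 2 821 0)))) (.node (.node (.leaf (.root 5864)) (.leaf (.up 2 1067 1))) (.node (.leaf (.up 2 1945 0)) (.leaf (.up 1 329 0))))) (.node (.node (.node (.leaf (.root 4456)) (.leaf (.up 1 528 1))) (.node (.leaf (.up 1 523 0)) (.leaf (.up 2 1243 0)))) (.node (.node (.leaf (.up 2 722 0)) (.leaf (.up 1 1026 0))) (.node (.leaf (.up 1 119 0)) (.leaf (.up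 2 1703 0)))))) (.node (.node (.node (.node (.leaf (.root 3768)) (.leaf (.up 2 646 0))) (.node (.leaf (.up 2 1779 0)) (.leaf (.up 1 35 0)))) (.node (.node (.leaf (.up 1 107 1)) (.leaf (.up 1 35 1))) (.node (.leaf (.root 6330)) (.leaf (.up 1 607 0))))) (.node (.node (.node (.leaf (.up 2 1616 1)) (.leaf (.root 4254))) (.node (.leaf (.up 1 187 1)) (.leaf (.up 1 243 1)))) (.node (.node (.leaf (.up 1 98 1)) (.leaf (.up 1 42 1))) (.node (.leaf (.up 2 1673 1)) (.leaf (.up 2 1457 0))))))) (.node (.node (.node (.node (.node (.leaf (.root 2892)) (.leaf (.up 1 40 0))) (.node (.leaf (.root 4678)) (.leaf (.up 2 1272 1)))) (.node (.node (.leaf (.root 4646)) (.leaf (.up 2 1057 1))) (.node (.leaf (.up 1 642 1)) (.leaf (.up 1 241 0))))) (.node (.node (.node (.leaf (.root 4440)) (.leaf (.up 1 538 1))) (.node (.leaf (.up 2 947 0)) (.leaf (.up 2 1379 0)))) (.node (.node (.leaf (.up 2 874 0)) (.leaf (.up 1 1064 1))) (.node (.leaf (.up 1 463 0)) (.leaf (.up 2 1823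 0)))))) (.node (.node (.node (.node (.leaf (.root 3284)) (.leaf (.up 2 830 0))) (.node (.leaf (.up 1 184 1)) (.leaf (.up 1 240 1)))) (.node (.node (.leaf (.up 1 97 1)) (.leaf (.up 1 41 1))) (.node (.leaf (.root 6270)) (.leaf (.up 2 999 0))))) (.node (.node (.node (.leaf (.up 2 1626 1)) (.leaf (.up 1 1232 0))) (.node (.leaf (.up 1 165 0)) (.leaf (.up 1 249 1)))) (.node (.node (.leaf (.up 1 104 1)) (.leaf (.up 1 32 1))) (.node (.leaf (.up 2 729 0)) (.leaf (.up 1 1033 0))))))))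

noncomputable def vt6_1_010 : Tr VStep := .node vt6_1_0100 vt6_1_0101

noncomputable def vt6_1_0110 : Tr VStep :=
  .node (.node (.node (.node (.node (.node (.node (.leaf (.root 5674)) (.leaf (.up 1 367 0))) (.node (.leaf (.up 1 372 1)) (.leaf (.up 2 970 0)))) (.node (.node (.leaf (.root 3766)) (.leaf (.up 1 485 1))) (.node (.leaf (.up 2 1862 1)) (.leaf (.up 1 438 0))))) (.node (.node (.node (.leaf (.up 1 81 0)) (.leaf (.up 2 2014 1))) (.node (.leaf (.up 1 381 1)) (.leaf (.up 1 309 1)))) (.node (.node (.leaf (.root 6268)) (.leaf (.up 2 492 1))) (.node (.leaf (.up 1 136 0)) (.leaf (.up 2 1799 1)))))) (.node (.node (.node (.node (.leaf (.root 4926)) (.leaf (.up 2 633 0))) (.node (.leaf (.up 2 1404 1)) (.leaf (.up 1 220 0)))) (.node (.node (.leaf (.up 2 1445 1)) (.leaf (.up 1 5 0))) (.node (.leaf (.up 2 846 1)) (.leaf (.up 1 672 0))))) (.node (.node (.node (.leaf (.root 3816)) (.leaf (.up 2 982 1))) (.node (.leaf (.up 1 482 0)) (.leaf (.up 2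 1842 0)))) (.node (.node (.leaf (.up 1 315 0)) (.leaf (.up 2 2027 0))) (.node (.leaf (.up 2 926 0)) (.leaf (.up 2 783 1))))))) (.node (.node (.node (.node (.node (.leaf (.root 5182)) (.leaf (.up 1 215 0))) (.node (.leaf (.up 1 382 1)) (.leaf (.up 2 626 0)))) (.node (.node (.leaf (.root 4226)) (.leaf (.up 1 495 1))) (.node (.leaf (.up 2 1868 1)) (.leaf (.up 1 14 0))))) (.node (.node (.node (.leaf (.root 5960)) (.leaf (.up 2 2004 1))) (.node (.leaf (.up 1 375 1)) (.leaf (.up 1 319 1)))) (.node (.node (.leaf (.up 2 917 0)) (.leaf (.up 2 486 1))) (.node (.leaf (.up 1 304 0)) (.leaf (.up 2 1805 1)))))) (.node (.node (.node (.node (.leaf (.root 5852)) (.leaf (.up 2 961 0))) (.node (.leaf (.up 2 1972 0)) (.leaf (.up 1 356 0)))) (.node (.node (.leaf (.up 2 1455 1)) (.leaf (.up 1 445 0))) (.node (.leaf (.up 2 836 1)) (.leaf (.up 2 792 0))))) (.node (.node (.node (.leaf (.root 4364)) (.leaf (.up 2 988 1))) (.node (.leaf (.up 1 90 0)) (.leaf (.up 2 1674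 0)))) (.node (.node (.leaf (.up 1 131 0)) (.leaf (.up 2 1619 0))) (.node (.leaf (.up 2 550 0)) (.leaf (.up 2 773 1)))))))) (.node (.node (.node (.node (.node (.node (.leaf (.root 4276)) (.leaf (.up 2 496 0))) (.node (.leaf (.up 2 1413 0)) (.leaf (.up 2 853 0)))) (.node (.node (.leaf (.up 2 1372 0)) (.leaf (.up 2 908 0))) (.node (.leaf (.up 1 199 1)) (.leaf (.up 1 143 1))))) (.node (.node (.node (.leaf (.up 1 23 1)) (.leaf (.up 1 95 1))) (.node (.leaf (.up 1 619 0)) (.leaf (.up 2 1716 1)))) (.node (.node (.leaf (.root 5248)) (.leaf (.up 2 1645 1))) (.node (.leaf (.up 1 23 0)) (.leaf (.up 2 134 1)))))) (.node (.node (.node (.node (.leaf (.up 2 1078 0)) (.leaf (.up 2 742 0))) (.node (.leaf (.up 2 765 1)) (.leaf (.up 1 67 0)))) (.node (.node (.leaf (.up 2 548 1)) (.leaf (.up 1 154 0))) (.node (.leaf (.up 2 1231 1)) (.leaf (.up 2 575 0))))) (.node (.node (.node (.leaf (.root 3490)) (.leaf (.up 2 1111 1))) (.node (.leaf (.up 1 381 0)) (.leaf (.up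 1 700 1)))) (.node (.node (.leaf (.up 2 420 0)) (.leaf (.up 1 613 1))) (.node (.leaf (.up 1 769 0)) (.leaf (.up 2 1489 0))))))) (.node (.node (.node (.node (.node (.leaf (.up 1 20 1)) (.leaf (.up 1 72 0))) (.node (.leaf (.up 2 1085 0)) (.leaf (.up 2 749 0)))) (.node (.node (.leaf (.up 2 1252 0)) (.leaf (.up 2 564 0))) (.node (.leaf (.up 1 205 1)) (.leaf (.up 1 133 1))))) (.node (.node (.node (.leaf (.up 1 29 1)) (.leaf (.up 1 85 1))) (.node (.leaf (.root 5456)) (.leaf (.up 2 1726 1)))) (.node (.node (.leaf (.root 3176)) (.leaf (.up 2 1498 0))) (.node (.leaf (.up 1 196 1)) (.leaf (.up 2 140 1)))))) (.node (.node (.node (.node (.leaf (.up 2 1422 0)) (.leaf (.up 2 862 0))) (.node (.leaf (.up 2 759 1)) (.leaf (.up 2 507 0)))) (.node (.node (.leaf (.up 2 558 1)) (.leaf (.up 2 290 0))) (.node (.leaf (.up 2 1221 1)) (.leaf (.up 2 903 0))))) (.node (.node (.node (.leaf (.root 3224)) (.leaf (.up 2 1200 0))) (.node (.leaf (.up 1 197 0)) (.leaf (.up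 1 694 1)))) (.node (.node (.leaf (.up 1 28 0)) (.leaf (.up 1 623 1))) (.node (.leaf (.up 1 697 0)) (.leaf (.up 2 1129 0))))))))

noncomputable def vt6_1_0111 : Tr VStep :=
  .node (.node (.node (.node (.node (.node (.node (.leaf (.root 5158)) (.leaf (.up 2 1488 0))) (.node (.leaf (.up 2 421 0)) (.leaf (.up 2 308 1)))) (.node (.node (.leaf (.root 5370)) (.leaf (.up 2 493 1))) (.node (.leaf (.root 5390)) (.leaf (.up 2 1798 1))))) (.node (.node (.node (.leaf (.root 6266)) (.leaf (.up 2 574 0))) (.node (.leaf (.up 1 373 1)) (.leaf (.up 1 155 0)))) (.node (.node (.leaf (.up 2 1682 0)) (.leaf (.up 1 66 0))) (.node (.leaf (.up 2 1079 0)) (.leaf (.up 2 743 0)))))) (.node (.node (.node (.node (.leaf (.up 1 22 0)) (.leaf (.up 2 983 1))) (.node (.leaf (.root 4352)) (.leaf (.up 2 1123 0)))) (.node (.node (.leaf (.root 4696)) (.leaf (.up 2 1210 0))) (.node (.leaf (.up 1 207 0)) (.leaf (.up 1 782 1))))) (.node (.node (.node (.leaf (.up 2 918 1)) (.leaf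 (.up 2 296 0))) (.node (.leaf (.up 2 1405 1)) (.leaf (.up 2 909 0)))) (.node (.node (.leaf (.up 2 1412 0)) (.leaf (.up 2 852 0))) (.node (.leaf (.up 2 847 1)) (.leaf (.up 2 497 0))))))) (.node (.node (.node (.node (.node (.leaf (.root 4884)) (.leaf (.up 2 2005 1))) (.node (.leaf (.up 1 29 0)) (.leaf (.up 2 318 1)))) (.node (.node (.leaf (.up 1 196 0)) (.leaf (.up 2 487 1))) (.node (.leaf (.up 1 609 0)) (.leaf (.up 2 1804 1))))) (.node (.node (.node (.leaf (.up 2 1366 0)) (.leaf (.up 2 902 0))) (.node (.leaf (.up 2 2035 0)) (.leaf (.up 1 291 0)))) (.node (.node (.leaf (.up 2 1834 0)) (.leaf (.up 2 506 0))) (.node (.leaf (.up 2 1423 0)) (.leaf (.up 2 863 0)))))) (.node (.node (.node (.node (.leaf (.root 4216)) (.leaf (.up 2 989 1))) (.node (.leaf (.root 5498)) (.leaf (.up 2 1499 0)))) (.node (.node (.leaf (.root 3954)) (.leaf (.up 2 1519 1))) (.node (.leaf (.up 1 375 0)) (.leaf (.up 1 772 1))))) (.node (.node (.node (.leaf (.up 2 924 1)) (.leaf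 (.up 2 144 0))) (.node (.leaf (.up 2 1399 1)) (.leaf (.up 2 565 0)))) (.node (.node (.leaf (.up 2 1084 0)) (.leaf (.up 2 748 0))) (.node (.leaf (.up 2 837 1)) (.leaf (.up 1 73 0)))))))) (.node (.node (.node (.node (.node (.node (.leaf (.up 1 22 1)) (.leaf (.up 1 94 1))) (.node (.leaf (.up 1 314 0)) (.leaf (.up 2 1717 1)))) (.node (.node (.leaf (.root 5672)) (.leaf (.up 2 1644 1))) (.node (.leaf (.up 1 207 1)) (.leaf (.up 1 135 1))))) (.node (.node (.node (.leaf (.up 1 31 1)) (.leaf (.up 1 87 1))) (.node (.leaf (.up 2 1780 1)) (.leaf (.up 1 4 0)))) (.node (.node (.leaf (.up 2 1549 0)) (.leaf (.up 1 221 0))) (.node (.leaf (.up 1 198 1)) (.leaf (.up 1 142 1)))))) (.node (.node (.node (.node (.leaf (.root 5254)) (.leaf (.up 2 1625 0))) (.node (.leaf (.up 2 556 0)) (.leaf (.up 2 701 1)))) (.node (.node (.leaf (.root 4262)) (.leaf (.up 1 612 1))) (.node (.leaf (.up 1 80 0)) (.leaf (.up 2 1664 0))))) (.node (.node (.node (.leaf (.up 2 1047 1)) (.leaf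 (.up 1 439 0))) (.node (.leaf (.up 2 764 1)) (.leaf (.up 2 786 0)))) (.node (.node (.leaf (.root 4734)) (.leaf (.up 2 971 0))) (.node (.leaf (.up 2 1982 0)) (.leaf (.up 1 366 0))))))) (.node (.node (.node (.node (.node (.leaf (.up 1 28 1)) (.leaf (.up 1 84 1))) (.node (.leaf (.up 1 130 0)) (.leaf (.up 2 1727 1)))) (.node (.node (.leaf (.up 1 91 0)) (.leaf (.up 2 1638 1))) (.node (.leaf (.up 1 197 1)) (.leaf (.up 1 141 1))))) (.node (.node (.node (.leaf (.up 1 21 1)) (.leaf (.up 1 93 1))) (.node (.leaf (.up 2 1790 1)) (.leaf (.up 1 444 0)))) (.node (.node (.leaf (.up 2 1973 0)) (.leaf (.up 1 357 0))) (.node (.leaf (.up 1 204 1)) (.leaf (.up 1 132 1)))))) (.node (.node (.node (.node (.leaf (.root 6004)) (.leaf (.up 2 2017 0))) (.node (.leaf (.up 2 916 0)) (.leaf (.up 2 695 1)))) (.node (.node (.leaf (.root 5628)) (.leaf (.up 1 622 1))) (.node (.leaf (.up 1 488 0)) (.leaf (.up 2 1848 0))))) (.node (.node (.node (.leaf (.up 2 1053 1)) (.leaf (.up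 1 15 0))) (.node (.leaf (.up 2 758 1)) (.leaf (.up 1 682 0)))) (.node (.node (.leaf (.up 2 559 1)) (.leaf (.up 2 627 0))) (.node (.leaf (.up 2 1220 1)) (.leaf (.up 1 214 0))))))))

noncomputable def vt6_1_011 : Tr VStep := .node vt6_1_0110 vt6_1_0111

noncomputable def vt6_1_01 : Tr VStep := .node vt6_1_010 vt6_1_011

noncomputable def vt6_1_0 : Tr VStep := .node vt6_1_00 vt6_1_01

noncomputable def vt6_1_1000 : Tr VStep :=
  .node (.node (.node (.node (.node (.node (.node (.leaf (.root 4672)) (.leaf (.up 1 236 0))) (.node (.leaf (.root 4704)) (.leaf (.up 1 585 0)))) (.node (.node (.leaf (.root 3744)) (.leaf (.up 2 656 0))) (.node (.leaf (.root 6158)) (.leaf (.up 1 53 0))))) (.node (.node (.node (.leaf (.up 2 466 0)) (.leaf (.root 6062))) (.node (.leaf (.up 2 922 1)) (.leaf (.up 2 1447 0)))) (.node (.node (.leaf (.up 2 835 1)) (.leaf (.up 2 1406 0))) (.node (.leaf (.up 1 267 0)) (.leaf (.up 2 2011 0)))))) (.node (.node (.node (.node (.leaf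 (.root 5800)) (.leaf (.up 2 312 1))) (.node (.leaf (.root 5596)) (.leaf (.up 2 2003 1)))) (.node (.node (.leaf (.root 6074)) (.leaf (.up 1 390 0))) (.node (.leaf (.up 2 1523 0)) (.leaf (.up 2 481 1))))) (.node (.node (.node (.leaf (.root 6400)) (.leaf (.up 2 1044 0))) (.node (.leaf (.up 1 97 0)) (.leaf (.up 2 1713 0)))) (.node (.node (.leaf (.up 1 184 0)) (.leaf (.up 2 1795 1))) (.node (.leaf (.up 1 416 1)) (.leaf (.up 1 488 1))))))) (.node (.node (.node (.node (.node (.leaf (.root 5566)) (.leaf (.up 1 340 0))) (.node (.leaf (.root 6026)) (.leaf (.up 2 977 1)))) (.node (.node (.leaf (.up 2 1528 0)) (.leaf (.up 2 808 0))) (.node (.leaf (.root 4944)) (.leaf (.up 2 397 0))))) (.node (.node (.node (.leaf (.up 1 106 0)) (.leaf (.root 4088))) (.node (.leaf (.up 2 912 1)) (.leaf (.up 2 1055 0)))) (.node (.node (.leaf (.up 2 841 1)) (.leaf (.up 1 769 1))) (.node (.leaf (.up 1 179 0)) (.leaf (.up 2 1635 0)))))) (.node (.node (.node (.node (.leaf (.root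 5170)) (.leaf (.up 2 306 1))) (.node (.leaf (.root 6366)) (.leaf (.up 1 231 0)))) (.node (.node (.leaf (.root 5328)) (.leaf (.up 2 62 0))) (.node (.leaf (.up 2 1099 0)) (.leaf (.up 2 491 1))))) (.node (.node (.node (.leaf (.root 5420)) (.leaf (.up 1 315 1))) (.node (.leaf (.up 2 473 0)) (.leaf (.up 2 1801 0)))) (.node (.node (.leaf (.up 1 256 0)) (.leaf (.up 2 1801 1))) (.node (.leaf (.up 1 426 1)) (.leaf (.up 1 482 1)))))))) (.node (.node (.node (.node (.node (.node (.leaf (.root 6430)) (.leaf (.up 1 115 0))) (.node (.leaf (.up 2 1030 0)) (.leaf (.up 2 726 0)))) (.node (.node (.leaf (.up 2 1247 0)) (.leaf (.up 2 527 0))) (.node (.leaf (.up 2 1658 0)) (.leaf (.up 1 170 0))))) (.node (.node (.node (.leaf (.up 2 752 1)) (.leaf (.up 2 1949 0))) (.node (.leaf (.up 2 1051 1)) (.leaf (.up 2 1336 0)))) (.node (.node (.leaf (.up 2 1218 1)) (.leaf (.up 1 1162 1))) (.node (.leaf (.up 1 404 0)) (.leaf (.up 1 609 1)))))) (.node (.node (.node (.node (.leaf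 (.root 4442)) (.leaf (.up 2 1721 1))) (.node (.leaf (.up 1 26 1)) (.leaf (.up 1 82 1)))) (.node (.node (.leaf (.up 2 1993 0)) (.leaf (.up 2 281 0))) (.node (.leaf (.up 2 1388 0)) (.leaf (.up 2 956 0))))) (.node (.node (.node (.leaf (.up 2 603 0)) (.leaf (.up 1 1163 0))) (.node (.leaf (.up 1 19 1)) (.leaf (.up 1 91 1)))) (.node (.node (.leaf (.up 1 39 0)) (.leaf (.up 1 130 1))) (.node (.leaf (.up 1 642 0)) (.leaf (.up 1 1106 0))))))) (.node (.node (.node (.node (.node (.leaf (.root 4744)) (.leaf (.up 2 459 0))) (.node (.leaf (.up 2 1470 0)) (.leaf (.up 2 878 0)))) (.node (.node (.leaf (.up 2 1383 0)) (.leaf (.up 2 951 0))) (.node (.leaf (.up 2 1986 0)) (.leaf (.up 1 274 0))))) (.node (.node (.node (.leaf (.up 2 762 1)) (.leaf (.up 2 1573 0))) (.node (.leaf (.up 2 1041 1)) (.leaf (.up 1 1113 1)))) (.node (.node (.leaf (.up 2 1224 1)) (.leaf (.up 1 1113 0))) (.node (.leaf (.up 1 44 0)) (.leaf (.up 1 619 1)))))) (.node (.node (.node (.node (.leaf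 (.root 3844)) (.leaf (.up 2 1715 1))) (.node (.leaf (.up 1 16 1)) (.leaf (.up 1 88 1)))) (.node (.node (.leaf (.up 2 1649 0)) (.leaf (.up 2 161 0))) (.node (.leaf (.up 2 1236 0)) (.leaf (.up 2 1642 1))))) (.node (.node (.node (.leaf (.root 3166)) (.leaf (.up 2 1331 0))) (.node (.leaf (.up 1 25 1)) (.leaf (.up 1 81 1)))) (.node (.node (.leaf (.up 1 192 1)) (.leaf (.up 1 136 1))) (.node (.leaf (.up 2 826 0)) (.leaf (.up 2 1635 1))))))))

noncomputable def vt6_1_1001 : Tr VStep :=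
  .node (.node (.node (.node (.node (.node (.node (.leaf (.root 4380)) (.leaf (.root 3130))) (.node (.leaf (.up 1 38 0)) (.leaf (.up 2 1782 0)))) (.node (.node (.leaf (.up 2 834 1)) (.leaf (.up 2 1583 0))) (.node (.leaf (.up 2 1449 1)) (.leaf (.up 1 1162 0))))) (.node (.node (.node (.leaf (.up 2 1389 0)) (.leaf (.up 2 957 0))) (.node (.leaf (.up 2 1992 0)) (.leaf (.up 1 280 0)))) (.node (.node (.leaf (.up 2 1809 0)) (.leaf (.up 2 449 0))) (.node (.leaf (.up 2 1460 0)) (.leaf (.up 2 868 0)))))) (.node (.node (.node (.node (.leaf (.root 3790)) (.leaf (.up 1 304 1))) (.node (.leaf (.root 3320)) (.leaf (.up 2 2011 1)))) (.node (.node (.leaf (.root 6106)) (.leaf (.up 2 1337 0))) (.node (.leaf (.up 1 332 0)) (.leaf (.up 2 1948 0))))) (.node (.node (.node (.leaf (.up 2 1659 0)) (.leaf (.up 2 171 0))) (.node (.leaf (.up 2 1246 0)) (.leaf (.up 2 2002 1)))) (.node (.node (.leaf (.up 2 1031 0)) (.leaf (.up 2 1803 1))) (.node (.leaf (.up 2 1698 0)) (.leaf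 (.up 1 114 0))))))) (.node (.node (.node (.node (.node (.leaf (.root 5680)) (.leaf (.root 6092))) (.node (.leaf (.up 2 913 1)) (.leaf (.up 2 1870 0)))) (.node (.node (.leaf (.up 2 840 1)) (.leaf (.up 2 1943 0))) (.node (.leaf (.up 2 1443 1)) (.leaf (.up 2 1330 0))))) (.node (.node (.node (.leaf (.up 2 1237 0)) (.leaf (.up 2 517 0))) (.node (.leaf (.up 2 1648 0)) (.leaf (.up 1 160 0)))) (.node (.node (.leaf (.up 2 1705 0)) (.leaf (.up 1 121 0))) (.node (.leaf (.up 2 1036 0)) (.leaf (.up 2 732 0)))))) (.node (.node (.node (.node (.leaf (.up 1 45 0)) (.leaf (.up 1 314 1))) (.node (.leaf (.root 6086)) (.leaf (.up 2 2001 1)))) (.node (.node (.leaf (.up 2 593 0)) (.leaf (.up 1 1153 0))) (.node (.leaf (.up 1 244 0)) (.leaf (.up 2 1572 0))))) (.node (.node (.node (.leaf (.up 2 1987 0)) (.leaf (.up 2 275 0))) (.node (.leaf (.up 2 1382 0)) (.leaf (.up 2 950 0)))) (.node (.node (.leaf (.up 2 1471 0)) (.leaf (.up 2 1793 1))) (.node (.leaf (.up 2 1818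 0)) (.leaf (.up 2 490 1)))))))) (.node (.node (.node (.node (.node (.node (.leaf (.root 6302)) (.leaf (.up 1 697 1))) (.node (.leaf (.up 1 185 0)) (.leaf (.up 1 1106 1)))) (.node (.node (.leaf (.up 1 96 0)) (.leaf (.up 1 1163 1))) (.node (.leaf (.up 2 552 1)) (.leaf (.up 2 1045 0))))) (.node (.node (.node (.leaf (.up 2 1522 0)) (.leaf (.up 2 802 0))) (.node (.leaf (.root 2788)) (.leaf (.up 2 391 0)))) (.node (.node (.leaf (.root 3174)) (.leaf (.up 1 350 0))) (.node (.leaf (.up 1 545 1)) (.leaf (.up 1 617 1)))))) (.node (.node (.node (.node (.leaf (.root 4836)) (.leaf (.root 3322))) (.node (.leaf (.up 1 18 1)) (.leaf (.up 1 90 1)))) (.node (.node (.leaf (.up 1 203 1)) (.leaf (.up 1 131 1))) (.node (.leaf (.up 2 467 0)) (.leaf (.up 2 1795 0))))) (.node (.node (.node (.leaf (.root 3756)) (.leaf (.up 1 52 0))) (.node (.leaf (.up 1 27 1)) (.leaf (.up 1 83 1)))) (.node (.node (.leaf (.up 1 194 1)) (.leaf (.up 2 138 1))) (.node (.leaf (.up 2 1597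 0)) (.leaf (.up 2 1633 1))))))) (.node (.node (.node (.node (.node (.leaf (.root 5160)) (.leaf (.up 2 1396 0))) (.node (.leaf (.up 1 257 0)) (.leaf (.up 2 2001 0)))) (.node (.node (.leaf (.up 2 472 0)) (.leaf (.up 1 1153 1))) (.node (.leaf (.up 2 546 1)) (.leaf (.up 2 1453 0))))) (.node (.node (.node (.leaf (.root 5988)) (.leaf (.up 2 666 0))) (.node (.leaf (.root 6396)) (.leaf (.up 1 63 0)))) (.node (.node (.leaf (.root 3752)) (.leaf (.up 1 230 0))) (.node (.leaf (.up 1 555 1)) (.leaf (.up 1 579 0)))))) (.node (.node (.node (.node (.leaf (.root 6028)) (.leaf (.root 6060))) (.node (.leaf (.up 1 24 1)) (.leaf (.up 1 80 1)))) (.node (.node (.leaf (.up 1 193 1)) (.leaf (.up 2 1054 0))) (.node (.leaf (.up 1 107 0)) (.leaf (.up 2 1723 0))))) (.node (.node (.node (.leaf (.root 6178)) (.leaf (.up 2 396 0))) (.node (.leaf (.up 1 17 1)) (.leaf (.up 1 89 1)))) (.node (.node (.leaf (.up 1 200 1)) (.leaf (.up 2 128 1))) (.node (.leaf (.up 2 1925 0)) (.leaf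 (.up 2 1643 1))))))))

noncomputable def vt6_1_100 : Tr VStep := .node vt6_1_1000 vt6_1_1001

noncomputable def vt6_1_1010 : Tr VStep :=
  .node (.node (.node (.node (.node (.node (.node (.leaf (.root 5716)) (.leaf (.up 2 1911 1))) (.node (.leaf (.up 1 70 0)) (.leaf (.up 1 412 1)))) (.node (.node (.leaf (.up 2 159 0)) (.leaf (.up 1 325 1))) (.node (.leaf (.up 1 570 0)) (.leaf (.up 2 1258 0))))) (.node (.node (.node (.leaf (.root 2655)) (.leaf (.up 2 989 0))) (.node (.leaf (.up 2 477 1)) (.leaf (.up 2 376 0)))) (.node (.node (.leaf (.up 1 260 1)) (.leaf (.up 1 332 1))) (.node (.leaf (.up 2 2031 1)) (.leaf (.up 1 772 0)))))) (.node (.node (.node (.node (.leaf (.root 5490)) (.leaf (.up 2 895 1))) (.node (.leaf (.root 6226)) (.leaf (.up 2 1428 1)))) (.node (.node (.leaf (.root 4522)) (.leaf (.up 2 1369 0))) (.node (.leaf (.up 1 300 0)) (.leaf (.up 2 934 1))))) (.node (.node (.node (.leaf (.root 4956)) (.leaf (.up 1 203 0))) (.node (.leaf (.up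 2 1214 0)) (.leaf (.up 1 622 0)))) (.node (.node (.leaf (.root 2650)) (.leaf (.up 2 695 0))) (.node (.leaf (.root 5340)) (.leaf (.up 1 18 0))))))) (.node (.node (.node (.node (.node (.leaf (.root 6290)) (.leaf (.up 2 1917 1))) (.node (.leaf (.up 1 478 1)) (.leaf (.up 1 406 1)))) (.node (.node (.leaf (.up 1 263 1)) (.leaf (.up 1 335 1))) (.node (.leaf (.root 3226)) (.leaf (.up 2 1362 0))))) (.node (.node (.node (.leaf (.root 5336)) (.leaf (.up 1 613 0))) (.node (.leaf (.up 2 471 1)) (.leaf (.up 1 192 0)))) (.node (.node (.leaf (.up 1 270 1)) (.leaf (.up 1 25 0))) (.node (.leaf (.up 2 2021 1)) (.leaf (.up 1 700 0)))))) (.node (.node (.node (.node (.leaf (.up 1 77 0)) (.leaf (.up 2 885 1))) (.node (.leaf (.root 3908)) (.leaf (.up 2 1438 1)))) (.node (.node (.leaf (.root 4458)) (.leaf (.up 2 1249 0))) (.node (.leaf (.up 2 148 0)) (.leaf (.up 2 940 1))))) (.node (.node (.node (.leaf (.root 3228)) (.leaf (.up 2 371 0))) (.node (.leaf (.up 2 1286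 0)) (.leaf (.up 2 982 0)))) (.node (.node (.leaf (.root 4866)) (.leaf (.up 2 783 0))) (.node (.leaf (.up 2 1005 1)) (.leaf (.up 1 426 0)))))))) (.node (.node (.node (.node (.node (.node (.leaf (.root 5634)) (.leaf (.up 1 246 1))) (.node (.leaf (.up 1 217 0)) (.leaf (.up 2 1565 1)))) (.node (.node (.leaf (.up 1 0 0)) (.leaf (.up 2 1744 0))) (.node (.leaf (.up 1 103 1)) (.leaf (.up 1 47 1))))) (.node (.node (.node (.leaf (.root 5368)) (.leaf (.up 2 834 0))) (.node (.leaf (.up 2 1847 0)) (.leaf (.up 2 487 0)))) (.node (.node (.leaf (.up 2 2030 0)) (.leaf (.up 2 318 0))) (.node (.leaf (.up 1 110 1)) (.leaf (.up 1 38 1)))))) (.node (.node (.node (.node (.leaf (.root 5812)) (.leaf (.up 2 1278 1))) (.node (.leaf (.root 5006)) (.leaf (.up 2 533 1)))) (.node (.node (.leaf (.up 2 790 0)) (.leaf (.up 2 716 1))) (.node (.leaf (.up 1 435 0)) (.leaf (.up 2 1063 1))))) (.node (.node (.node (.leaf (.up 2 1668 0)) (.leaf (.up 1 84 0))) (.node (.leaf (.up 2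 1057 0)) (.leaf (.up 2 753 0)))) (.node (.node (.leaf (.up 2 1272 0)) (.leaf (.up 2 552 0))) (.node (.leaf (.up 2 1629 0)) (.leaf (.up 1 141 0))))))) (.node (.node (.node (.node (.node (.leaf (.root 5632)) (.leaf (.up 1 252 1))) (.node (.leaf (.up 1 353 0)) (.leaf (.up 2 1969 0)))) (.node (.node (.leaf (.root 5838)) (.leaf (.up 2 1896 0))) (.node (.leaf (.up 1 109 1)) (.leaf (.up 1 37 1))))) (.node (.node (.node (.leaf (.up 2 189 1)) (.leaf (.up 2 762 0))) (.node (.leaf (.up 2 1622 1)) (.leaf (.up 1 95 0)))) (.node (.node (.leaf (.up 2 1622 0)) (.leaf (.up 2 134 0))) (.node (.leaf (.up 1 100 1)) (.leaf (.up 1 44 1)))))) (.node (.node (.node (.node (.leaf (.root 3486)) (.leaf (.up 2 1268 1))) (.node (.leaf (.up 1 599 1)) (.leaf (.up 2 543 1)))) (.node (.node (.leaf (.root 5230)) (.leaf (.up 2 710 1))) (.node (.leaf (.up 1 11 0)) (.leaf (.up 2 1755 0))))) (.node (.node (.node (.leaf (.up 2 1852 0)) (.leaf (.up 2 492 0))) (.node (.leaf (.up 2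 1433 0)) (.leaf (.up 2 841 0)))) (.node (.node (.leaf (.up 2 1344 0)) (.leaf (.up 2 912 0))) (.node (.leaf (.up 2 2021 0)) (.leaf (.up 1 309 0))))))))

noncomputable def vt6_1_1011 : Tr VStep :=
  .node (.node (.node (.node (.node (.node (.node (.leaf (.root 6212)) (.leaf (.up 2 140 0))) (.node (.leaf (.up 2 476 1)) (.leaf (.up 1 404 1)))) (.node (.node (.leaf (.up 2 1056 0)) (.leaf (.up 2 752 0))) (.node (.leaf (.up 2 2030 1)) (.leaf (.up 1 85 0))))) (.node (.node (.node (.leaf (.root 3052)) (.leaf (.up 2 1890 0))) (.node (.leaf (.up 2 791 0)) (.leaf (.up 1 413 1)))) (.node (.node (.leaf (.up 1 268 1)) (.leaf (.up 1 324 1))) (.node (.leaf (.up 1 363 0)) (.leaf (.up 2 1979 0)))))) (.node (.node (.node (.node (.leaf (.root 5532)) (.leaf (.up 2 922 0))) (.node (.leaf (.up 2 2031 0)) (.leaf (.up 1 319 0)))) (.node (.node (.leaf (.up 2 1846 0)) (.leaf (.up 2 486 0))) (.node (.leaf (.up 2 1427 0)) (.leaf (.up 2 835 0))))) (.node (.node (.node (.leaf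 (.root 4902)) (.leaf (.up 2 894 1))) (.node (.leaf (.up 1 1 0)) (.leaf (.up 2 1745 0)))) (.node (.node (.leaf (.up 1 216 0)) (.leaf (.up 2 1356 1))) (.node (.leaf (.up 2 637 0)) (.leaf (.up 2 935 1))))))) (.node (.node (.node (.node (.node (.leaf (.root 2802)) (.leaf (.up 2 308 0))) (.node (.leaf (.up 2 1345 0)) (.leaf (.up 2 913 0)))) (.node (.node (.leaf (.up 2 1432 0)) (.leaf (.up 2 840 0))) (.node (.leaf (.up 2 1853 0)) (.leaf (.up 2 493 0))))) (.node (.node (.node (.leaf (.up 1 10 0)) (.leaf (.up 2 1754 0))) (.node (.leaf (.up 1 479 1)) (.leaf (.up 1 407 1)))) (.node (.node (.leaf (.up 1 262 1)) (.leaf (.up 1 334 1))) (.node (.leaf (.up 1 211 0)) (.leaf (.up 2 1957 1)))))) (.node (.node (.node (.node (.leaf (.root 4102)) (.leaf (.up 2 546 0))) (.node (.leaf (.up 2 1623 0)) (.leaf (.up 1 135 0)))) (.node (.node (.leaf (.up 2 1678 0)) (.leaf (.up 1 94 0))) (.node (.leaf (.up 2 1067 0)) (.leaf (.up 2 763 0))))) (.node (.node (.node (.leaf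 (.up 2 796 0)) (.leaf (.up 2 884 1))) (.node (.leaf (.up 1 441 0)) (.leaf (.up 2 1439 1)))) (.node (.node (.leaf (.up 1 352 0)) (.leaf (.up 2 1350 1))) (.node (.leaf (.up 1 965 0)) (.leaf (.up 2 941 1)))))))) (.node (.node (.node (.node (.node (.node (.leaf (.root 5768)) (.leaf (.up 1 19 0))) (.node (.leaf (.up 2 1629 1)) (.leaf (.up 1 694 0)))) (.node (.node (.leaf (.up 2 1668 1)) (.leaf (.up 1 623 0))) (.node (.leaf (.up 2 111 1)) (.leaf (.up 1 39 1))))) (.node (.node (.node (.leaf (.root 5422)) (.leaf (.up 1 247 1))) (.node (.leaf (.root 4000)) (.leaf (.up 2 1368 0)))) (.node (.node (.leaf (.root 5688)) (.leaf (.up 2 1733 1))) (.node (.leaf (.up 1 102 1)) (.leaf (.up 1 46 1)))))) (.node (.node (.node (.node (.leaf (.root 3950)) (.leaf (.up 2 773 0))) (.node (.leaf (.up 1 597 1)) (.leaf (.up 1 416 0)))) (.node (.node (.leaf (.root 4494)) (.leaf (.up 2 377 0))) (.node (.leaf (.up 2 1292 0)) (.leaf (.up 2 988 0))))) (.node (.node (.node (.leaf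 (.root 5676)) (.leaf (.up 2 1259 0))) (.node (.leaf (.up 2 158 0)) (.leaf (.up 2 532 1)))) (.node (.node (.leaf (.up 1 71 0)) (.leaf (.up 2 717 1))) (.node (.leaf (.up 1 738 0)) (.leaf (.up 2 1062 1))))))) (.node (.node (.node (.node (.node (.leaf (.root 4574)) (.leaf (.up 1 244 1))) (.node (.leaf (.up 2 1623 1)) (.leaf (.up 1 782 0)))) (.node (.node (.leaf (.up 2 1678 1)) (.leaf (.up 2 983 0))) (.node (.leaf (.up 2 101 1)) (.leaf (.up 1 45 1))))) (.node (.node (.node (.leaf (.up 1 149 0)) (.leaf (.up 1 253 1))) (.node (.leaf (.up 1 560 0)) (.leaf (.up 2 1248 0)))) (.node (.node (.leaf (.root 4714)) (.leaf (.up 2 1743 1))) (.node (.leaf (.up 1 76 0)) (.leaf (.up 1 36 1)))))) (.node (.node (.node (.node (.leaf (.root 4388)) (.leaf (.up 2 701 0))) (.node (.leaf (.up 1 607 1)) (.leaf (.up 1 24 0)))) (.node (.node (.leaf (.root 6436)) (.leaf (.up 1 193 0))) (.node (.leaf (.up 2 1204 0)) (.leaf (.up 1 612 0))))) (.node (.node (.node (.leaf (.root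 5684)) (.leaf (.up 2 1363 0))) (.node (.leaf (.up 1 294 0)) (.leaf (.up 2 542 1)))) (.node (.node (.leaf (.root 5966)) (.leaf (.up 2 711 1))) (.node (.leaf (.up 1 858 0)) (.leaf (.up 2 1068 1))))))))

noncomputable def vt6_1_101 : Tr VStep := .node vt6_1_1010 vt6_1_1011

noncomputable def vt6_1_10 : Tr VStep := .node vt6_1_100 vt6_1_101

noncomputable def vt6_1_1100 : Tr VStep :=
  .node (.node (.node (.node (.node (.node (.node (.leaf (.root 3742)) (.leaf (.root 5682))) (.node (.leaf (.up 1 6 0)) (.leaf (.up 2 1750 0)))) (.node (.node (.leaf (.up 1 223 0)) (.leaf (.up 2 1551 0))) (.node (.leaf (.up 2 634 0)) (.leaf (.up 1 1194 0))))) (.node (.node (.node (.leaf (.root 3728)) (.leaf (.up 2 925 0))) (.node (.leaf (.up 2 2024 0)) (.leaf (.up 2 312 0)))) (.node (.node (.leaf (.up 2 1841 0)) (.leaf (.up 2 481 0))) (.node (.leaf (.up 2 1428 0)) (.leaf (.up 2 836 0)))))) (.node (.node (.node (.node (.leaf (.root 4496)) (.leaf (.up 1 272 1))) (.node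 (.leaf (.root 6204)) (.leaf (.up 1 1472 0)))) (.node (.node (.leaf (.root 3686)) (.leaf (.up 2 1305 0))) (.node (.leaf (.up 1 364 0)) (.leaf (.up 2 1980 0))))) (.node (.node (.node (.leaf (.up 2 1627 0)) (.leaf (.up 2 281 1))) (.node (.leaf (.up 2 1278 0)) (.leaf (.up 2 558 0)))) (.node (.node (.leaf (.up 2 1063 0)) (.leaf (.up 2 759 0))) (.node (.leaf (.up 2 1666 0)) (.leaf (.up 1 82 0))))))) (.node (.node (.node (.node (.node (.leaf (.root 5950)) (.leaf (.root 4910))) (.node (.leaf (.up 2 945 1)) (.leaf (.up 2 1902 0)))) (.node (.node (.leaf (.root 6304)) (.leaf (.up 2 1975 0))) (.node (.leaf (.up 2 962 0)) (.leaf (.up 2 1298 0))))) (.node (.node (.node (.leaf (.root 5714)) (.leaf (.up 2 549 0))) (.node (.leaf (.up 2 1616 0)) (.leaf (.up 2 128 0)))) (.node (.node (.leaf (.up 2 1673 0)) (.leaf (.up 1 89 0))) (.node (.leaf (.up 2 1068 0)) (.leaf (.up 2 764 0)))))) (.node (.node (.node (.node (.leaf (.up 1 13 0)) (.leaf (.up 1 282 1))) (.node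 (.leaf (.up 2 1977 1)) (.leaf (.up 1 1144 0)))) (.node (.node (.leaf (.up 2 625 0)) (.leaf (.up 1 1185 0))) (.node (.leaf (.up 1 212 0)) (.leaf (.up 2 1540 0))))) (.node (.node (.node (.leaf (.root 4490)) (.leaf (.up 2 275 1))) (.node (.leaf (.up 2 1350 0)) (.leaf (.up 2 918 0)))) (.node (.node (.leaf (.up 2 1439 0)) (.leaf (.up 2 847 0))) (.node (.leaf (.up 2 1850 0)) (.leaf (.up 2 490 0)))))))) (.node (.node (.node (.node (.node (.node (.leaf (.root 6412)) (.leaf (.up 1 665 1))) (.node (.leaf (.up 2 1082 1)) (.leaf (.up 1 1138 1)))) (.node (.node (.leaf (.up 1 64 0)) (.leaf (.up 1 1195 1))) (.node (.leaf (.up 2 520 1)) (.leaf (.up 2 1077 0))))) (.node (.node (.node (.leaf (.up 2 1490 0)) (.leaf (.up 2 656 1))) (.node (.leaf (.up 2 1911 0)) (.leaf (.up 2 423 0)))) (.node (.node (.leaf (.root 2988)) (.leaf (.up 1 382 0))) (.node (.leaf (.up 1 513 1)) (.leaf (.up 1 585 1)))))) (.node (.node (.node (.node (.leaf (.root 4690)) (.leaf (.up 2 2042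 0))) (.node (.leaf (.up 1 50 1)) (.leaf (.up 1 122 1)))) (.node (.node (.leaf (.up 1 235 1)) (.leaf (.up 1 163 1))) (.node (.leaf (.up 2 499 0)) (.leaf (.up 2 1608 1))))) (.node (.node (.node (.leaf (.root 4260)) (.leaf (.up 1 20 0))) (.node (.leaf (.up 1 59 1)) (.leaf (.up 1 115 1)))) (.node (.node (.leaf (.up 1 226 1)) (.leaf (.up 1 170 1))) (.node (.leaf (.up 2 1565 0)) (.leaf (.up 1 205 0))))))) (.node (.node (.node (.node (.node (.leaf (.root 5920)) (.leaf (.up 2 1364 0))) (.node (.leaf (.up 2 1072 1)) (.leaf (.up 1 1144 1)))) (.node (.node (.leaf (.up 2 504 0)) (.leaf (.up 1 1185 1))) (.node (.leaf (.up 2 514 1)) (.leaf (.up 2 1421 0))))) (.node (.node (.node (.leaf (.root 3232)) (.leaf (.up 2 666 1))) (.node (.leaf (.up 2 1743 0)) (.leaf (.up 1 31 0)))) (.node (.node (.leaf (.root 3252)) (.leaf (.up 1 198 0))) (.node (.leaf (.up 1 523 1)) (.leaf (.up 1 579 1)))))) (.node (.node (.node (.node (.leaf (.root 6102)) (.leaf (.up 2 1602 0)))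 (.node (.leaf (.up 1 56 1)) (.leaf (.up 1 112 1)))) (.node (.node (.leaf (.up 1 225 1)) (.leaf (.up 2 1086 0))) (.node (.leaf (.up 1 75 0)) (.leaf (.up 2 1602 1))))) (.node (.node (.node (.leaf (.root 5806)) (.leaf (.up 2 1682 1))) (.node (.leaf (.up 1 49 1)) (.leaf (.up 1 121 1)))) (.node (.node (.leaf (.up 1 232 1)) (.leaf (.up 1 160 1))) (.node (.leaf (.up 2 1957 0)) (.leaf (.up 1 373 0))))))))

noncomputable def vt6_1_1101 : Tr VStep :=
  .node (.node (.node (.node (.node (.node (.node (.leaf (.root 5530)) (.leaf (.up 1 204 0))) (.node (.leaf (.root 5850)) (.leaf (.up 1 617 0)))) (.node (.node (.leaf (.root 6338)) (.leaf (.up 2 802 1))) (.node (.leaf (.up 2 1733 0)) (.leaf (.up 1 21 0))))) (.node (.node (.node (.leaf (.up 2 498 0)) (.leaf (.root 3470))) (.node (.leaf (.up 2 954 1)) (.leaf (.up 2 1415 0)))) (.node (.node (.leaf (.up 2 867 1)) (.leaf (.up 2 1374 0))) (.node (.leaf (.up 2 1416 1)) (.leaf (.up 1 1472 1)))))) (.node (.node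 (.node (.node (.leaf (.root 5100)) (.leaf (.up 1 280 1))) (.node (.leaf (.root 5218)) (.leaf (.up 2 2035 1)))) (.node (.node (.leaf (.root 3942)) (.leaf (.up 2 1834 1))) (.node (.leaf (.up 2 1491 0)) (.leaf (.up 2 449 1))))) (.node (.node (.node (.leaf (.root 4338)) (.leaf (.up 2 1076 0))) (.node (.leaf (.up 1 65 0)) (.leaf (.up 2 2042 1)))) (.node (.node (.leaf (.up 1 152 0)) (.leaf (.up 2 1608 0))) (.node (.leaf (.up 1 384 1)) (.leaf (.up 1 456 1))))))) (.node (.node (.node (.node (.node (.leaf (.root 3750)) (.leaf (.up 1 372 0))) (.node (.leaf (.root 5008)) (.leaf (.up 2 977 0)))) (.node (.node (.leaf (.up 2 1496 0)) (.leaf (.up 2 808 1))) (.node (.leaf (.up 2 1917 0)) (.leaf (.up 2 429 0))))) (.node (.node (.node (.leaf (.up 1 74 0)) (.leaf (.root 6090))) (.node (.leaf (.up 2 944 1)) (.leaf (.up 2 1087 0)))) (.node (.node (.leaf (.up 2 873 1)) (.leaf (.up 1 801 1))) (.node (.leaf (.up 2 1410 1)) (.leaf (.up 2 1603 0)))))) (.node (.node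 (.node (.node (.leaf (.root 3324)) (.leaf (.up 1 274 1))) (.node (.leaf (.root 6440)) (.leaf (.up 1 199 0)))) (.node (.node (.leaf (.root 6186)) (.leaf (.up 2 30 0))) (.node (.leaf (.up 2 1131 0)) (.leaf (.up 2 459 1))))) (.node (.node (.node (.leaf (.root 3946)) (.leaf (.up 1 283 1))) (.node (.leaf (.up 2 505 0)) (.leaf (.up 2 2032 1)))) (.node (.node (.leaf (.up 1 288 0)) (.leaf (.up 2 2032 0))) (.node (.leaf (.up 1 394 1)) (.leaf (.up 1 450 1)))))))) (.node (.node (.node (.node (.node (.node (.leaf (.root 4962)) (.leaf (.up 1 83 0))) (.node (.leaf (.up 2 1062 0)) (.leaf (.up 2 758 0)))) (.node (.node (.leaf (.root 4868)) (.leaf (.up 2 559 0))) (.node (.leaf (.up 2 1626 0)) (.leaf (.up 2 138 0))))) (.node (.node (.node (.leaf (.root 5232)) (.leaf (.up 2 1981 0))) (.node (.leaf (.up 2 968 0)) (.leaf (.up 2 1304 0)))) (.node (.node (.leaf (.up 2 1250 1)) (.leaf (.up 1 1194 1))) (.node (.leaf (.up 2 521 1)) (.leaf (.up 1 577 1)))))) (.node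 (.node (.node (.node (.leaf (.root 4298)) (.leaf (.up 2 837 0))) (.node (.leaf (.up 1 58 1)) (.leaf (.up 1 114 1)))) (.node (.node (.leaf (.up 1 227 1)) (.leaf (.up 2 171 1))) (.node (.leaf (.up 2 1356 0)) (.leaf (.up 2 924 0))))) (.node (.node (.node (.leaf (.up 2 635 0)) (.leaf (.up 1 1195 0))) (.node (.leaf (.up 1 51 1)) (.leaf (.up 1 123 1)))) (.node (.node (.leaf (.up 1 7 0)) (.leaf (.up 1 162 1))) (.node (.leaf (.up 2 1537 1)) (.leaf (.up 1 1138 0))))))) (.node (.node (.node (.node (.node (.leaf (.root 4146)) (.leaf (.up 2 491 0))) (.node (.leaf (.up 2 1438 0)) (.leaf (.up 2 846 0)))) (.node (.node (.leaf (.root 5374)) (.leaf (.up 2 919 0))) (.node (.leaf (.up 2 2018 0)) (.leaf (.up 2 306 0))))) (.node (.node (.node (.leaf (.root 5670)) (.leaf (.up 2 1541 0))) (.node (.leaf (.up 2 624 0)) (.leaf (.up 1 1145 1)))) (.node (.node (.leaf (.up 2 1256 1)) (.leaf (.up 1 1145 0))) (.node (.leaf (.up 2 515 1)) (.leaf (.up 1 587 1)))))) (.node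 (.node (.node (.node (.leaf (.root 2804)) (.leaf (.up 2 765 0))) (.node (.leaf (.up 1 48 1)) (.leaf (.up 1 88 0)))) (.node (.node (.leaf (.up 2 1617 0)) (.leaf (.up 2 161 1))) (.node (.leaf (.up 2 1268 0)) (.leaf (.up 2 548 0))))) (.node (.node (.node (.leaf (.root 4834)) (.leaf (.up 2 1299 0))) (.node (.leaf (.up 1 57 1)) (.leaf (.up 1 113 1)))) (.node (.node (.leaf (.up 1 224 1)) (.leaf (.up 1 168 1))) (.node (.leaf (.up 2 1547 1)) (.leaf (.up 2 1603 1))))))))

noncomputable def vt6_1_110 : Tr VStep := .node vt6_1_1100 vt6_1_1101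

noncomputable def vt6_1_1110 : Tr VStep :=
  .node (.node (.node (.node (.node (.node (.node (.leaf (.root 3438)) (.leaf (.up 1 172 0))) (.node (.leaf (.up 2 1241 0)) (.leaf (.up 2 521 0)))) (.node (.node (.leaf (.root 5480)) (.leaf (.up 2 720 0))) (.node (.leaf (.up 2 1701 0)) (.leaf (.up 1 117 0))))) (.node (.node (.node (.leaf (.root 3240)) (.leaf (.up 2 1858 0))) (.node (.leaf (.up 2 823 0)) (.leaf (.up 1 445 1)))) (.node (.node (.leaf (.up 1 300 1)) (.leaf (.up 1 356 1))) (.node (.leaf (.up 1 331 0)) (.leaf (.up 2 1947 0)))))) (.node (.node (.node (.node (.leaf (.root 3788)) (.leaf (.up 2 954 0))) (.node (.leaf (.up 2 1999 0)) (.leaf (.up 2 287 0)))) (.node (.node (.leaf (.up 2 1814 0)) (.leaf (.up 2 454 0))) (.node (.leaf (.up 2 1459 0)) (.leaf (.up 2 867 0))))) (.node (.node (.node (.leaf (.root 5930)) (.leaf (.up 2 862 1))) (.node (.leaf (.up 1 33 0)) (.leaf (.up 2 1777 0)))) (.node (.node (.leaf (.up 1 248 0)) (.leaf (.up 2 1388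 1))) (.node (.leaf (.up 2 605 0)) (.leaf (.up 2 903 1))))))) (.node (.node (.node (.node (.node (.leaf (.root 4826)) (.leaf (.up 1 276 0))) (.node (.leaf (.up 2 502 1)) (.leaf (.up 2 945 0)))) (.node (.node (.leaf (.up 2 303 1)) (.leaf (.up 2 872 0))) (.node (.leaf (.up 2 1821 0)) (.leaf (.up 2 461 0))))) (.node (.node (.node (.leaf (.up 1 42 0)) (.leaf (.up 2 1786 0))) (.node (.leaf (.up 2 655 0)) (.leaf (.up 1 439 1)))) (.node (.node (.leaf (.up 1 294 1)) (.leaf (.up 1 366 1))) (.node (.leaf (.up 1 243 0)) (.leaf (.up 2 1925 1)))))) (.node (.node (.node (.node (.leaf (.root 3892)) (.leaf (.up 2 514 0))) (.node (.leaf (.up 2 1655 0)) (.leaf (.up 2 167 0)))) (.node (.node (.leaf (.up 2 1710 0)) (.leaf (.up 1 126 0))) (.node (.leaf (.up 2 1035 0)) (.leaf (.up 2 731 0))))) (.node (.node (.node (.leaf (.root 5394)) (.leaf (.up 2 852 1))) (.node (.leaf (.up 1 409 0)) (.leaf (.up 2 1471 1)))) (.node (.node (.leaf (.up 1 320 0)) (.leaf (.up 2 1382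 1))) (.node (.leaf (.up 1 965 1)) (.leaf (.up 2 909 1)))))))) (.node (.node (.node (.node (.node (.node (.leaf (.root 5912)) (.leaf (.up 1 51 0))) (.node (.leaf (.up 2 1661 1)) (.leaf (.up 2 662 0)))) (.node (.node (.leaf (.up 2 1183 0)) (.leaf (.up 1 591 0))) (.node (.leaf (.up 1 79 1)) (.leaf (.up 1 7 1))))) (.node (.node (.node (.leaf (.root 3802)) (.leaf (.up 1 215 1))) (.node (.leaf (.root 5154)) (.leaf (.up 2 1400 0)))) (.node (.node (.leaf (.root 6002)) (.leaf (.up 2 1441 0))) (.node (.leaf (.up 1 70 1)) (.leaf (.up 1 14 1)))))) (.node (.node (.node (.node (.leaf (.root 4572)) (.leaf (.up 1 805 0))) (.node (.leaf (.root 4918)) (.leaf (.up 1 384 0)))) (.node (.node (.leaf (.root 2635)) (.leaf (.up 2 345 0))) (.node (.leaf (.up 2 1324 0)) (.leaf (.up 2 1020 0))))) (.node (.node (.node (.leaf (.root 4132)) (.leaf (.up 2 1247 1))) (.node (.leaf (.up 2 190 0)) (.leaf (.up 2 564 1)))) (.node (.node (.leaf (.up 1 103 0)) (.leaf (.up 2 749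 1))) (.node (.leaf (.up 1 706 0)) (.leaf (.up 2 1030 1))))))) (.node (.node (.node (.node (.node (.leaf (.root 5478)) (.leaf (.up 1 212 1))) (.node (.leaf (.up 2 1655 1)) (.leaf (.up 2 814 0)))) (.node (.node (.leaf (.up 2 1710 1)) (.leaf (.up 2 1015 0))) (.node (.leaf (.up 1 69 1)) (.leaf (.up 1 13 1))))) (.node (.node (.node (.leaf (.up 1 149 1)) (.leaf (.up 1 221 1))) (.node (.leaf (.up 1 528 0)) (.leaf (.up 2 1216 0)))) (.node (.node (.leaf (.root 6050)) (.leaf (.up 2 1049 0))) (.node (.leaf (.up 1 76 1)) (.leaf (.up 1 4 1)))))) (.node (.node (.node (.node (.leaf (.root 5252)) (.leaf (.up 1 669 0))) (.node (.leaf (.up 2 639 1)) (.leaf (.up 1 56 0)))) (.node (.node (.leaf (.root 5514)) (.leaf (.up 1 225 0))) (.node (.leaf (.up 2 1172 0)) (.leaf (.up 1 580 0))))) (.node (.node (.node (.leaf (.root 3392)) (.leaf (.up 2 1237 1))) (.node (.leaf (.up 1 262 0)) (.leaf (.up 2 574 1)))) (.node (.node (.leaf (.up 1 479 0)) (.leaf (.up 2 743 1)))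 (.node (.leaf (.up 1 890 0)) (.leaf (.up 2 1036 1))))))))

noncomputable def vt6_1_1111 : Tr VStep :=
  .node (.node (.node (.node (.node (.node (.node (.leaf (.root 3248)) (.leaf (.up 2 1043 0))) (.node (.leaf (.up 1 102 0)) (.leaf (.up 1 444 1)))) (.node (.node (.leaf (.up 2 191 0)) (.leaf (.up 1 357 1))) (.node (.leaf (.up 1 538 0)) (.leaf (.up 2 1226 0))))) (.node (.node (.node (.leaf (.root 3842)) (.leaf (.up 2 1021 0))) (.node (.leaf (.up 1 509 1)) (.leaf (.up 2 344 0)))) (.node (.node (.leaf (.up 2 292 1)) (.leaf (.up 1 364 1))) (.node (.leaf (.up 2 1999 1)) (.leaf (.up 2 804 0)))))) (.node (.node (.node (.node (.leaf (.root 4850)) (.leaf (.up 2 863 1))) (.node (.leaf (.root 4054)) (.leaf (.up 2 1460 1)))) (.node (.node (.leaf (.root 2718)) (.leaf (.up 2 1389 1))) (.node (.leaf (.up 1 268 0)) (.leaf (.up 2 902 1))))) (.node (.node (.node (.leaf (.root 4824)) (.leaf (.up 1 235 0))) (.node (.leaf (.up 2 1182 0)) (.leaf (.up 1 590 0))))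 (.node (.node (.leaf (.root 2764)) (.leaf (.up 1 663 0))) (.node (.leaf (.up 2 1762 0)) (.leaf (.up 1 50 0))))))) (.node (.node (.node (.node (.node (.leaf (.root 6372)) (.leaf (.up 2 1451 0))) (.node (.leaf (.up 1 478 0)) (.leaf (.up 1 438 1)))) (.node (.node (.leaf (.up 1 263 0)) (.leaf (.up 1 367 1))) (.node (.leaf (.root 5338)) (.leaf (.up 2 1394 0))))) (.node (.node (.node (.leaf (.root 5392)) (.leaf (.up 1 581 0))) (.node (.leaf (.up 2 503 1)) (.leaf (.up 1 224 0)))) (.node (.node (.leaf (.up 2 302 1)) (.leaf (.up 1 57 0))) (.node (.leaf (.up 2 1989 1)) (.leaf (.up 2 668 0)))))) (.node (.node (.node (.node (.leaf (.up 1 109 0)) (.leaf (.up 2 853 1))) (.node (.leaf (.root 6318)) (.leaf (.up 2 1470 1)))) (.node (.node (.leaf (.root 5970)) (.leaf (.up 2 1383 1))) (.node (.leaf (.up 2 180 0)) (.leaf (.up 2 908 1))))) (.node (.node (.node (.leaf (.root 5906)) (.leaf (.up 2 339 0))) (.node (.leaf (.up 2 1318 0)) (.leaf (.up 2 1014 0)))) (.node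 (.node (.leaf (.root 5736)) (.leaf (.up 1 815 0))) (.node (.leaf (.up 2 1882 0)) (.leaf (.up 1 394 0)))))))) (.node (.node (.node (.node (.node (.node (.leaf (.root 5326)) (.leaf (.up 1 214 1))) (.node (.leaf (.up 1 249 0)) (.leaf (.up 2 1597 1)))) (.node (.node (.leaf (.up 1 32 0)) (.leaf (.up 2 1776 0))) (.node (.leaf (.up 1 71 1)) (.leaf (.up 1 15 1))))) (.node (.node (.node (.leaf (.up 1 151 1)) (.leaf (.up 1 223 1))) (.node (.leaf (.up 2 1815 0)) (.leaf (.up 2 455 0)))) (.node (.node (.leaf (.up 2 1701 1)) (.leaf (.up 1 286 0))) (.node (.leaf (.up 2 78 1)) (.leaf (.up 1 6 1)))))) (.node (.node (.node (.node (.leaf (.root 5388)) (.leaf (.up 2 1246 1))) (.node (.leaf (.root 5152)) (.leaf (.up 2 565 1)))) (.node (.node (.leaf (.up 2 822 0)) (.leaf (.up 2 748 1))) (.node (.leaf (.up 1 403 0)) (.leaf (.up 2 1031 1))))) (.node (.node (.node (.leaf (.root 5044)) (.leaf (.up 1 116 0))) (.node (.leaf (.up 2 1025 0)) (.leaf (.up 2 721 0)))) (.node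 (.node (.leaf (.root 3172)) (.leaf (.up 2 520 0))) (.node (.leaf (.up 2 1661 0)) (.leaf (.up 2 173 0))))))) (.node (.node (.node (.node (.node (.leaf (.root 3182)) (.leaf (.up 1 220 1))) (.node (.leaf (.up 1 321 0)) (.leaf (.up 2 1937 0)))) (.node (.node (.leaf (.root 5372)) (.leaf (.up 2 1864 0))) (.node (.leaf (.up 1 77 1)) (.leaf (.up 1 5 1))))) (.node (.node (.node (.leaf (.up 1 157 1)) (.leaf (.up 2 730 0))) (.node (.leaf (.up 2 1711 0)) (.leaf (.up 1 127 0)))) (.node (.node (.leaf (.up 2 1711 1)) (.leaf (.up 1 166 0))) (.node (.leaf (.up 2 1235 0)) (.leaf (.up 2 515 0)))))) (.node (.node (.node (.node (.leaf (.root 5686)) (.leaf (.up 2 1236 1))) (.node (.leaf (.up 1 599 0)) (.leaf (.up 2 575 1)))) (.node (.node (.leaf (.up 2 654 0)) (.leaf (.up 2 742 1))) (.node (.leaf (.up 1 43 0)) (.leaf (.up 2 1787 0))))) (.node (.node (.node (.leaf (.up 2 1820 0)) (.leaf (.up 2 460 0))) (.node (.leaf (.up 2 1465 0)) (.leaf (.up 2 873 0)))) (.node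 (.node (.leaf (.up 2 1376 0)) (.leaf (.up 2 944 0))) (.node (.leaf (.up 2 1989 0)) (.leaf (.up 2 277 0))))))))

noncomputable def vt6_1_111 : Tr VStep := .node vt6_1_1110 vt6_1_1111

noncomputable def vt6_1_11 : Tr VStep := .node vt6_1_110 vt6_1_111

noncomputable def vt6_1_1 : Tr VStep := .node vt6_1_10 vt6_1_11

noncomputable def vt6_1_ : Tr VStep := .node vt6_1_0 vt6_1_1

noncomputable def vt6_2_0000 : Tr VStep :=
  .node (.node (.node (.node (.node (.node (.node (.leaf (.root 4976)) (.leaf (.up 4 263 0))) (.node (.leaf (.up 3 1390 0)) (.leaf (.up 3 1995 0)))) (.node (.node (.leaf (.up 4 1433 0)) (.leaf (.up 2 1047 1))) (.node (.leaf (.up 2 930 1)) (.leaf (.up 2 1625 1))))) (.node (.node (.node (.leaf (.root 5704)) (.leaf (.up 4 1845 0))) (.node (.leaf (.up 2 1103 2)) (.leaf (.up 1 76 1)))) (.node (.node (.leaf (.up 2 1344 1)) (.leaf (.up 1 187 1))) (.node (.leaf (.up 3 138 2)) (.leaf (.up 2 763 2)))))) (.node (.node (.node (.node (.leaf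 (.up 4 704 1)) (.leaf (.up 2 1851 1))) (.node (.leaf (.up 1 142 1)) (.leaf (.up 2 435 2)))) (.node (.node (.leaf (.up 1 121 1)) (.leaf (.up 1 260 0))) (.node (.leaf (.up 4 567 1)) (.leaf (.up 3 1398 2))))) (.node (.node (.node (.leaf (.up 4 936 0)) (.leaf (.up 3 919 1))) (.node (.leaf (.up 3 1058 1)) (.leaf (.up 4 473 1)))) (.node (.node (.leaf (.up 3 1427 0)) (.leaf (.up 4 302 1))) (.node (.leaf (.up 3 1691 1)) (.leaf (.up 3 864 1))))))) (.node (.node (.node (.node (.node (.leaf (.root 5702)) (.leaf (.up 4 214 2))) (.node (.leaf (.up 2 836 1)) (.leaf (.up 3 1238 0)))) (.node (.node (.leaf (.up 3 1634 2)) (.leaf (.up 3 1043 2))) (.node (.leaf (.up 1 72 0)) (.leaf (.up 4 1906 2))))) (.node (.node (.node (.leaf (.up 4 1631 2)) (.leaf (.up 4 1070 2))) (.node (.leaf (.up 1 65 0)) (.leaf (.up 2 1871 2)))) (.node (.node (.leaf (.up 2 182 0)) (.leaf (.up 1 235 2))) (.node (.leaf (.up 2 1658 0)) (.leaf (.up 4 906 2)))))) (.node (.node (.node (.node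 (.leaf (.root 2898)) (.leaf (.up 3 1058 0))) (.node (.leaf (.up 2 75 0)) (.leaf (.up 3 194 2)))) (.node (.node (.leaf (.up 2 550 1)) (.leaf (.up 3 2013 1))) (.node (.leaf (.up 2 104 1)) (.leaf (.up 3 1031 2))))) (.node (.node (.node (.leaf (.up 3 181 0)) (.leaf (.up 4 528 0))) (.node (.leaf (.up 2 1661 1)) (.leaf (.up 3 1244 0)))) (.node (.node (.leaf (.up 4 1678 0)) (.leaf (.up 3 926 2))) (.node (.leaf (.up 1 66 0)) (.leaf (.up 2 319 1)))))))) (.node (.node (.node (.node (.node (.node (.leaf (.root 4328)) (.leaf (.up 3 137 0))) (.node (.leaf (.up 3 1995 1)) (.leaf (.up 3 560 1)))) (.node (.node (.leaf (.up 2 1047 0)) (.leaf (.up 2 1554 2))) (.node (.leaf (.up 2 731 0)) (.leaf (.up 3 137 1))))) (.node (.node (.node (.leaf (.up 4 1054 0)) (.leaf (.up 3 1234 1))) (.node (.leaf (.up 3 722 0)) (.leaf (.up 1 119 0)))) (.node (.node (.leaf (.up 1 155 2)) (.leaf (.up 1 128 0))) (.node (.leaf (.up 3 1257 0)) (.leaf (.up 3 1061 1)))))) (.node (.node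 (.node (.node (.leaf (.root 3032)) (.leaf (.up 2 491 1))) (.node (.leaf (.up 4 1630 1)) (.leaf (.up 1 125 0)))) (.node (.node (.leaf (.up 4 1705 1)) (.leaf (.up 3 138 0))) (.node (.leaf (.up 4 1143 2)) (.leaf (.up 1 284 1))))) (.node (.node (.node (.leaf (.up 2 550 0)) (.leaf (.up 4 1351 1))) (.node (.leaf (.up 3 1258 0)) (.leaf (.up 2 1801 1)))) (.node (.node (.leaf (.up 3 1053 0)) (.leaf (.up 3 1720 0))) (.node (.leaf (.up 2 75 1)) (.leaf (.up 4 1456 1))))))) (.node (.node (.node (.node (.node (.leaf (.root 5916)) (.leaf (.up 4 916 0))) (.node (.leaf (.up 2 1428 1)) (.leaf (.up 2 111 1)))) (.node (.node (.leaf (.up 3 1298 2)) (.leaf (.up 4 1891 2))) (.node (.leaf (.up 3 454 0)) (.leaf (.up 4 867 0))))) (.node (.node (.node (.leaf (.up 4 1327 2)) (.leaf (.up 4 1446 0))) (.node (.leaf (.up 3 463 0)) (.leaf (.up 2 1219 1)))) (.node (.node (.leaf (.up 3 463 1)) (.leaf (.up 3 1076 1))) (.node (.leaf (.up 3 2036 0)) (.leaf (.up 2 1658 1))))))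 (.node (.node (.node (.node (.leaf (.root 4878)) (.leaf (.up 4 211 2))) (.node (.leaf (.up 3 451 2)) (.leaf (.up 3 864 0)))) (.node (.node (.leaf (.up 3 306 0)) (.leaf (.up 3 919 0))) (.node (.leaf (.up 3 1720 1)) (.leaf (.up 4 1911 2))))) (.node (.node (.node (.leaf (.up 4 739 1)) (.leaf (.up 3 926 0))) (.node (.leaf (.up 3 2039 0)) (.leaf (.up 2 1366 1)))) (.node (.node (.leaf (.up 3 1792 0)) (.leaf (.up 3 1445 0))) (.node (.leaf (.up 3 510 2)) (.leaf (.up 4 911 2))))))))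

noncomputable def vt6_2_0001 : Tr VStep :=
  .node (.node (.node (.node (.node (.node (.node (.leaf (.root 4562)) (.leaf (.up 2 1761 1))) (.node (.leaf (.up 2 980 0)) (.leaf (.up 4 407 2)))) (.node (.node (.leaf (.up 3 1090 2)) (.leaf (.up 2 1112 1))) (.node (.leaf (.up 4 1827 2)) (.leaf (.up 3 1866 0))))) (.node (.node (.node (.leaf (.up 3 1151 2)) (.leaf (.up 2 589 1))) (.node (.leaf (.up 2 1510 0)) (.leaf (.up 1 3 1)))) (.node (.node (.leaf (.up 2 1295 1)) (.leaf (.up 2 1972 0))) (.node (.leaf (.up 4 989 0)) (.leaf (.up 2 698 1)))))) (.node (.node (.node (.node (.leaf (.root 2644)) (.leaf (.up 2 1908 1))) (.node (.leaf (.up 3 147 2)) (.leaf (.up 2 738 2)))) (.node (.node (.leaf (.up 3 1307 0)) (.leaf (.up 4 1350 2))) (.node (.leaf (.up 2 1110 2)) (.leaf (.up 3 370 0))))) (.node (.node (.node (.leaf (.up 3 1298 0)) (.leaf (.up 2 984 1))) (.node (.leaf (.up 2 990 0)) (.leaf (.up 4 406 1)))) (.node (.node (.leaf (.up 3 1178 1)) (.leaf (.up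 2 396 0))) (.node (.leaf (.up 3 174 2)) (.leaf (.up 4 1856 0))))))) (.node (.node (.node (.node (.node (.leaf (.root 3306)) (.leaf (.up 4 903 2))) (.node (.leaf (.up 3 201 0)) (.leaf (.up 3 1776 1)))) (.node (.node (.leaf (.up 2 1020 1)) (.leaf (.up 2 667 0))) (.node (.leaf (.up 2 434 1)) (.leaf (.up 4 1059 2))))) (.node (.node (.node (.leaf (.up 1 55 0)) (.leaf (.up 1 18 1))) (.node (.leaf (.up 3 1787 0)) (.leaf (.up 3 604 1)))) (.node (.node (.leaf (.up 2 1872 1)) (.leaf (.up 2 1193 0))) (.node (.leaf (.up 3 1310 1)) (.leaf (.up 3 229 1)))))) (.node (.node (.node (.node (.leaf (.up 1 61 0)) (.leaf (.up 4 1323 1))) (.node (.leaf (.up 2 670 1)) (.leaf (.up 3 1108 0)))) (.node (.node (.leaf (.up 2 1542 0)) (.leaf (.up 4 1079 2))) (.node (.leaf (.up 1 39 1)) (.leaf (.up 3 623 0))))) (.node (.node (.node (.leaf (.up 3 1551 0)) (.leaf (.up 3 1194 0))) (.node (.leaf (.up 1 195 0)) (.leaf (.up 4 969 1)))) (.node (.node (.leaf (.up 2 1733 1)) (.leaf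 (.up 2 657 0))) (.node (.leaf (.up 3 479 2)) (.leaf (.up 2 1117 0)))))))) (.node (.node (.node (.node (.node (.node (.leaf (.root 2944)) (.leaf (.up 3 1587 0))) (.node (.leaf (.up 3 602 0)) (.leaf (.up 3 255 0)))) (.node (.node (.leaf (.up 4 685 0)) (.leaf (.up 1 8 0))) (.node (.leaf (.up 4 1121 0)) (.leaf (.up 4 1732 0))))) (.node (.node (.node (.leaf (.up 3 1807 2)) (.leaf (.up 1 1 0))) (.node (.leaf (.up 3 808 1)) (.leaf (.up 2 1741 0)))) (.node (.node (.leaf (.up 3 991 1)) (.leaf (.up 2 1594 0))) (.node (.leaf (.up 2 401 1)) (.leaf (.up 3 246 0)))))) (.node (.node (.node (.node (.leaf (.root 2792)) (.leaf (.up 1 11 0))) (.node (.leaf (.up 4 1553 1)) (.leaf (.up 3 402 2)))) (.node (.node (.leaf (.up 4 1095 2)) (.leaf (.up 3 1584 0))) (.node (.leaf (.up 2 1192 1)) (.leaf (.up 2 252 0))))) (.node (.node (.node (.leaf (.up 3 243 1)) (.leaf (.up 3 1288 1))) (.node (.leaf (.up 3 701 1)) (.leaf (.up 3 1386 2)))) (.node (.node (.leaf (.up 2 191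 2)) (.leaf (.up 1 2 0))) (.node (.leaf (.up 1 4 1)) (.leaf (.up 3 431 2))))))) (.node (.node (.node (.node (.node (.leaf (.up 2 1931 0)) (.leaf (.up 3 1326 0))) (.node (.leaf (.up 4 327 0)) (.leaf (.up 1 32 1)))) (.node (.node (.leaf (.up 4 432 0)) (.leaf (.up 4 1074 2))) (.node (.leaf (.up 3 1314 2)) (.leaf (.up 4 1497 0))))) (.node (.node (.node (.leaf (.up 3 441 0)) (.leaf (.up 2 1730 1))) (.node (.leaf (.up 2 1909 0)) (.leaf (.up 2 1164 1)))) (.node (.node (.leaf (.up 3 384 1)) (.leaf (.up 2 1319 0))) (.node (.leaf (.up 3 334 0)) (.leaf (.up 3 1003 0)))))) (.node (.node (.node (.node (.leaf (.root 5494)) (.leaf (.up 4 898 2))) (.node (.leaf (.up 2 1919 0)) (.leaf (.up 2 437 1)))) (.node (.node (.leaf (.up 3 1928 0)) (.leaf (.up 3 1325 0))) (.node (.leaf (.up 3 324 0)) (.leaf (.up 4 1062 2))))) (.node (.node (.node (.leaf (.up 4 1921 0)) (.leaf (.up 4 1316 0))) (.node (.leaf (.up 2 333 0)) (.leaf (.up 4 1000 0)))) (.node (.node (.leaf (.up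 1 21 1)) (.leaf (.up 3 799 0))) (.node (.leaf (.up 2 1910 0)) (.leaf (.up 4 1491 0))))))))

noncomputable def vt6_2_000 : Tr VStep := .node vt6_2_0000 vt6_2_0001

noncomputable def vt6_2_0010 : Tr VStep :=
  .node (.node (.node (.node (.node (.node (.node (.leaf (.root 6394)) (.leaf (.up 3 268 2))) (.node (.leaf (.up 1 28 2)) (.leaf (.up 3 621 2)))) (.node (.node (.leaf (.root 5312)) (.leaf (.up 2 1616 1))) (.node (.leaf (.up 4 1241 2)) (.leaf (.up 4 1704 2))))) (.node (.node (.node (.leaf (.up 2 1925 2)) (.leaf (.up 3 69 1))) (.node (.leaf (.up 4 901 0)) (.leaf (.up 4 288 0)))) (.node (.node (.leaf (.up 4 882 0)) (.leaf (.up 2 305 2))) (.node (.leaf (.up 1 33 2)) (.leaf (.up 4 1819 0)))))) (.node (.node (.node (.node (.leaf (.up 1 8 2)) (.leaf (.up 3 2022 0))) (.node (.leaf (.up 4 911 0)) (.leaf (.up 4 298 0)))) (.node (.node (.leaf (.up 2 1229 2)) (.leaf (.up 3 1724 2))) (.node (.leaf (.up 1 112 1)) (.leaf (.up 4 1809 0))))) (.node (.node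 (.node (.leaf (.up 3 881 0)) (.leaf (.up 2 468 0))) (.node (.leaf (.up 4 1937 2)) (.leaf (.up 3 926 1)))) (.node (.node (.leaf (.up 4 53 2)) (.leaf (.up 4 2031 0))) (.node (.leaf (.up 3 1244 1)) (.leaf (.up 3 295 1))))))) (.node (.node (.node (.node (.node (.leaf (.root 4348)) (.leaf (.up 1 125 2))) (.node (.leaf (.up 3 1706 0)) (.leaf (.up 3 1039 0)))) (.node (.node (.leaf (.root 2864)) (.leaf (.up 3 1208 2))) (.node (.leaf (.up 1 145 0)) (.leaf (.up 3 2009 2))))) (.node (.node (.node (.leaf (.up 4 1620 0)) (.leaf (.up 4 1265 0))) (.node (.leaf (.up 4 152 0)) (.leaf (.up 1 84 1)))) (.node (.node (.leaf (.up 2 111 0)) (.leaf (.up 4 714 0))) (.node (.leaf (.up 4 1699 0)) (.leaf (.up 4 1030 0)))))) (.node (.node (.node (.node (.leaf (.up 4 1630 0)) (.leaf (.up 4 1275 0))) (.node (.leaf (.up 2 146 0)) (.leaf (.up 4 567 0)))) (.node (.node (.leaf (.up 4 97 1)) (.leaf (.up 4 704 0))) (.node (.leaf (.up 4 1705 0)) (.leaf (.up 4 1036 0))))) (.node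 (.node (.node (.leaf (.up 1 108 0)) (.leaf (.up 4 911 1))) (.node (.leaf (.up 3 1696 0)) (.leaf (.up 3 1029 0)))) (.node (.node (.leaf (.up 2 1229 1)) (.leaf (.up 3 1266 0))) (.node (.leaf (.up 1 155 0)) (.leaf (.up 1 84 2)))))))) (.node (.node (.node (.node (.node (.node (.leaf (.up 1 13 2)) (.leaf (.up 1 80 0))) (.node (.leaf (.up 2 876 2)) (.leaf (.up 1 119 1)))) (.node (.node (.leaf (.up 3 1224 2)) (.leaf (.up 1 128 1))) (.node (.leaf (.up 4 1961 2)) (.leaf (.up 2 1496 2))))) (.node (.node (.node (.leaf (.up 3 1223 0)) (.leaf (.up 3 1634 0))) (.node (.leaf (.up 4 1940 2)) (.leaf (.up 3 174 0)))) (.node (.node (.leaf (.up 1 48 2)) (.leaf (.up 1 89 0))) (.node (.leaf (.up 3 849 2)) (.leaf (.up 3 1634 1)))))) (.node (.node (.node (.node (.leaf (.root 5796)) (.leaf (.up 2 940 1))) (.node (.leaf (.up 1 25 2)) (.leaf (.up 3 616 2)))) (.node (.node (.leaf (.up 3 758 0)) (.leaf (.up 1 83 0))) (.node (.leaf (.up 3 1244 2)) (.leaf (.up 3 1709 2)))))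 (.node (.node (.node (.leaf (.up 2 763 1)) (.leaf (.up 3 1792 1))) (.node (.leaf (.up 3 1249 2)) (.leaf (.up 2 1680 2)))) (.node (.node (.leaf (.up 1 66 1)) (.leaf (.up 4 1465 1))) (.node (.leaf (.up 1 36 2)) (.leaf (.up 3 2039 1))))))) (.node (.node (.node (.node (.node (.leaf (.up 3 488 0)) (.leaf (.up 2 102 1))) (.node (.leaf (.up 4 1828 0)) (.leaf (.up 1 108 2)))) (.node (.node (.leaf (.up 4 1465 2)) (.leaf (.up 3 1398 0))) (.node (.leaf (.up 3 1386 1)) (.leaf (.up 1 145 1))))) (.node (.node (.node (.leaf (.up 2 305 1)) (.leaf (.up 3 1407 0))) (.node (.leaf (.up 3 1765 2)) (.leaf (.up 3 947 0)))) (.node (.node (.leaf (.up 3 481 0)) (.leaf (.up 2 836 0))) (.node (.leaf (.up 3 544 2)) (.leaf (.up 1 81 2)))))) (.node (.node (.node (.node (.leaf (.up 3 1032 1)) (.leaf (.up 1 120 2))) (.node (.leaf (.up 1 284 0)) (.leaf (.up 2 953 0)))) (.node (.node (.leaf (.root 2840)) (.leaf (.up 4 846 0))) (.node (.leaf (.up 4 1279 1)) (.leaf (.up 1 260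 1))))) (.node (.node (.node (.leaf (.up 3 482 0)) (.leaf (.up 3 839 0))) (.node (.leaf (.up 2 1424 2)) (.leaf (.up 4 1809 1)))) (.node (.node (.leaf (.up 3 2009 0)) (.leaf (.up 3 69 2))) (.node (.leaf (.up 1 83 1)) (.leaf (.up 2 804 2))))))))

noncomputable def vt6_2_0011 : Tr VStep :=
  .node (.node (.node (.node (.node (.node (.node (.leaf (.up 3 1473 0)) (.leaf (.up 3 1190 1))) (.node (.leaf (.up 3 781 0)) (.leaf (.up 3 424 0)))) (.node (.node (.leaf (.up 2 996 1)) (.leaf (.up 2 351 0))) (.node (.leaf (.up 3 1928 2)) (.leaf (.up 3 1939 0))))) (.node (.node (.node (.leaf (.up 4 1236 2)) (.leaf (.up 1 10 1))) (.node (.leaf (.up 2 1343 0)) (.leaf (.up 3 1946 0)))) (.node (.node (.leaf (.up 1 17 2)) (.leaf (.up 2 1901 0))) (.node (.leaf (.up 4 880 2)) (.leaf (.up 2 253 1)))))) (.node (.node (.node (.node (.leaf (.root 4960)) (.leaf (.up 3 296 2))) (.node (.leaf (.up 2 1333 0)) (.leaf (.up 4 1917 1)))) (.node (.node (.leaf (.up 2 1474 0)) (.leaf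 (.up 3 1517 2))) (.node (.leaf (.up 1 63 1)) (.leaf (.up 3 427 0))))) (.node (.node (.node (.leaf (.up 3 1483 0)) (.leaf (.up 3 1902 0))) (.node (.leaf (.up 4 1216 2)) (.leaf (.up 3 418 0)))) (.node (.node (.leaf (.up 4 1008 0)) (.leaf (.up 2 341 0))) (.node (.leaf (.up 1 5 2)) (.leaf (.up 2 628 2))))))) (.node (.node (.node (.node (.node (.leaf (.up 3 1756 0)) (.leaf (.up 2 1145 0))) (.node (.leaf (.up 1 16 0)) (.leaf (.up 1 77 2)))) (.node (.node (.leaf (.up 1 231 0)) (.leaf (.up 3 1088 1))) (.node (.leaf (.up 3 1579 0)) (.leaf (.up 3 1160 2))))) (.node (.node (.node (.leaf (.up 3 1445 2)) (.leaf (.up 4 2004 2))) (.node (.leaf (.up 4 1732 2)) (.leaf (.up 1 27 1)))) (.node (.node (.leaf (.up 3 352 2)) (.leaf (.up 4 785 2))) (.node (.leaf (.up 1 25 0)) (.leaf (.up 1 112 2)))))) (.node (.node (.node (.node (.leaf (.root 4684)) (.leaf (.up 1 89 2))) (.node (.leaf (.up 4 217 1)) (.leaf (.up 3 1314 1)))) (.node (.node (.leaf (.up 3 1773 2)) (.leaf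 (.up 4 1146 0))) (.node (.leaf (.up 1 19 0)) (.leaf (.up 3 694 0))))) (.node (.node (.node (.leaf (.up 3 1744 2)) (.leaf (.up 4 960 1))) (.node (.leaf (.up 1 26 0)) (.leaf (.up 4 1984 2)))) (.node (.node (.leaf (.up 4 533 2)) (.leaf (.up 4 584 0))) (.node (.leaf (.up 1 372 2)) (.leaf (.up 4 823 1)))))))) (.node (.node (.node (.node (.node (.node (.leaf (.root 6374)) (.leaf (.up 3 1770 0))) (.node (.leaf (.up 1 61 2)) (.leaf (.up 1 38 0)))) (.node (.node (.leaf (.root 5342)) (.leaf (.up 2 209 0))) (.node (.leaf (.up 3 1208 0)) (.leaf (.up 2 1673 2))))) (.node (.node (.node (.leaf (.up 3 637 0)) (.leaf (.up 4 216 0))) (.node (.leaf (.up 3 367 1)) (.leaf (.up 2 1556 0)))) (.node (.node (.leaf (.up 4 1094 0)) (.leaf (.up 2 1763 0))) (.node (.leaf (.up 1 0 2)) (.leaf (.up 3 47 0)))))) (.node (.node (.node (.node (.leaf (.up 1 41 2)) (.leaf (.up 4 210 0))) (.node (.leaf (.up 2 1110 1)) (.leaf (.up 4 1566 0)))) (.node (.node (.leaf (.up 4 1100 0))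 (.leaf (.up 4 1769 0))) (.node (.leaf (.up 3 640 0)) (.leaf (.up 4 37 0))))) (.node (.node (.node (.leaf (.up 4 1233 2)) (.leaf (.up 2 1871 1))) (.node (.leaf (.up 3 1968 2)) (.leaf (.up 2 1281 1)))) (.node (.node (.leaf (.up 1 13 1)) (.leaf (.up 4 219 0))) (.node (.leaf (.up 4 885 2)) (.leaf (.up 1 260 2))))))) (.node (.node (.node (.node (.node (.leaf (.up 2 1874 0)) (.leaf (.up 1 41 1))) (.node (.leaf (.up 2 414 0)) (.leaf (.up 3 829 2)))) (.node (.node (.leaf (.up 4 361 0)) (.leaf (.up 2 972 0))) (.node (.leaf (.up 2 1417 2)) (.leaf (.up 3 1280 0))))) (.node (.node (.node (.leaf (.up 3 352 0)) (.leaf (.up 3 965 0))) (.node (.leaf (.up 2 1964 0)) (.leaf (.up 2 1739 1)))) (.node (.node (.leaf (.up 4 528 2)) (.leaf (.up 4 97 2))) (.node (.leaf (.up 4 407 0)) (.leaf (.up 3 768 2)))))) (.node (.node (.node (.node (.leaf (.up 4 1095 1)) (.leaf (.up 4 975 0))) (.node (.leaf (.up 2 1958 0)) (.leaf (.up 1 72 2)))) (.node (.node (.leaf (.up 4 1873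 0)) (.leaf (.up 4 1524 0))) (.node (.leaf (.up 3 413 0)) (.leaf (.up 4 824 0))))) (.node (.node (.node (.leaf (.up 1 235 1)) (.leaf (.up 3 2001 2))) (.node (.leaf (.up 2 404 0)) (.leaf (.up 3 817 0)))) (.node (.node (.leaf (.up 4 355 0)) (.leaf (.up 4 1961 1))) (.node (.leaf (.up 1 28 1)) (.leaf (.up 1 117 2))))))))

noncomputable def vt6_2_001 : Tr VStep := .node vt6_2_0010 vt6_2_0011

noncomputable def vt6_2_00 : Tr VStep := .node vt6_2_000 vt6_2_001

noncomputable def vt6_2_0100 : Tr VStep :=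
  .node (.node (.node (.node (.node (.node (.node (.leaf (.root 3666)) (.leaf (.up 4 1917 0))) (.node (.leaf (.up 4 966 2)) (.leaf (.up 4 433 0)))) (.node (.node (.leaf (.up 4 1122 2)) (.leaf (.up 4 326 0))) (.node (.leaf (.up 4 1327 0)) (.leaf (.up 3 1930 0))))) (.node (.node (.node (.leaf (.up 3 1002 0)) (.leaf (.up 3 1582 2))) (.node (.leaf (.up 3 1318 0)) (.leaf (.up 3 1359 2)))) (.node (.node (.leaf (.up 2 154 2)) (.leaf (.up 2 1908 0))) (.node (.leaf (.up 3 1584 1)) (.leaf (.up 4 440 0)))))) (.node (.node (.node (.node (.leaf (.root 3304)) (.leaf (.up 2 1541 1))) (.node (.leaf (.up 4 432 1)) (.leaf (.up 2 1099 1)))) (.node (.node (.leaf (.up 4 327 1)) (.leaf (.up 2 1918 0))) (.node (.leaf (.up 4 1142 2)) (.leaf (.up 2 434 0))))) (.node (.node (.node (.leaf (.up 2 1874 1)) (.leaf (.up 4 681 1))) (.node (.leaf (.up 2 1099 2)) (.leaf (.up 1 231 1)))) (.node (.node (.leaf (.up 4 1007 2)) (.leaf (.up 1 16 1))) (.node (.leaf (.up 1 142 2))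 (.leaf (.up 3 1920 0))))))) (.node (.node (.node (.node (.node (.leaf (.root 2652)) (.leaf (.up 2 1487 1))) (.node (.leaf (.up 1 9 0)) (.leaf (.up 4 198 2)))) (.node (.node (.leaf (.up 4 254 0)) (.leaf (.up 2 1910 1))) (.node (.leaf (.up 1 195 1)) (.leaf (.up 4 1175 0))))) (.node (.node (.node (.leaf (.up 2 1176 1)) (.leaf (.up 4 1887 2))) (.node (.leaf (.up 3 1595 0)) (.leaf (.up 3 1182 0)))) (.node (.node (.leaf (.up 2 491 2)) (.leaf (.up 3 1129 0))) (.node (.leaf (.up 1 0 0)) (.leaf (.up 2 251 2)))))) (.node (.node (.node (.node (.leaf (.root 5570)) (.leaf (.up 3 1114 1))) (.node (.leaf (.up 4 1007 1)) (.leaf (.up 2 1556 1)))) (.node (.node (.leaf (.up 3 1734 0)) (.leaf (.up 2 1047 2))) (.node (.leaf (.up 1 10 0)) (.leaf (.up 2 1910 2))))) (.node (.node (.node (.leaf (.up 3 1743 0)) (.leaf (.up 3 1066 2))) (.node (.leaf (.up 1 3 0)) (.leaf (.up 2 1867 2)))) (.node (.node (.leaf (.up 2 670 2)) (.leaf (.up 2 591 1))) (.node (.leaf (.up 2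 1592 0)) (.leaf (.up 1 1 1)))))))) (.node (.node (.node (.node (.node (.node (.leaf (.root 4374)) (.leaf (.up 2 320 1))) (.node (.leaf (.up 2 182 2)) (.leaf (.up 1 63 0)))) (.node (.node (.leaf (.up 3 621 0)) (.leaf (.up 2 1017 1))) (.node (.leaf (.up 4 1139 2)) (.leaf (.up 4 1540 0))))) (.node (.node (.node (.leaf (.up 1 23 1)) (.leaf (.up 3 193 0))) (.node (.leaf (.up 2 1192 0)) (.leaf (.up 3 1599 2)))) (.node (.node (.leaf (.up 2 686 1)) (.leaf (.up 3 1877 1))) (.node (.leaf (.up 1 139 2)) (.leaf (.up 3 762 2)))))) (.node (.node (.node (.node (.leaf (.up 3 162 2)) (.leaf (.up 3 203 0))) (.node (.leaf (.up 4 963 2)) (.leaf (.up 2 434 2)))) (.node (.node (.leaf (.up 2 1109 0)) (.leaf (.up 3 1776 0))) (.node (.leaf (.up 4 1497 1)) (.leaf (.up 1 34 1))))) (.node (.node (.node (.leaf (.up 3 1114 2)) (.leaf (.up 2 1145 1))) (.node (.leaf (.up 2 1851 2)) (.leaf (.up 4 1591 1)))) (.node (.node (.leaf (.up 3 615 0)) (.leaf (.up 3 194 0))) (.node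 (.leaf (.up 3 1195 0)) (.leaf (.up 3 1550 0))))))) (.node (.node (.node (.node (.node (.leaf (.root 2702)) (.leaf (.up 3 799 1))) (.node (.leaf (.up 3 1194 1)) (.leaf (.up 2 802 0)))) (.node (.node (.leaf (.up 2 1117 1)) (.leaf (.up 3 1042 2))) (.node (.leaf (.up 4 1980 0)) (.leaf (.up 4 1907 2))))) (.node (.node (.node (.leaf (.up 4 1630 2)) (.leaf (.up 4 1071 2))) (.node (.leaf (.up 1 6 1)) (.leaf (.up 3 1296 0)))) (.node (.node (.leaf (.up 1 241 1)) (.leaf (.up 2 234 2))) (.node (.leaf (.up 4 398 0)) (.leaf (.up 3 811 0)))))) (.node (.node (.node (.node (.leaf (.root 4250)) (.leaf (.up 2 930 2))) (.node (.leaf (.up 2 690 2)) (.leaf (.up 1 195 2)))) (.node (.node (.leaf (.up 2 1302 2)) (.leaf (.up 3 1517 0))) (.node (.leaf (.up 3 1655 2)) (.leaf (.up 3 637 1))))) (.node (.node (.node (.leaf (.up 4 1323 2)) (.leaf (.up 2 1882 2))) (.node (.leaf (.up 4 403 1)) (.leaf (.up 3 808 0)))) (.node (.node (.leaf (.up 3 378 0)) (.leaf (.up 3 991 0)))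 (.node (.leaf (.up 3 1974 0)) (.leaf (.up 4 254 2))))))))

noncomputable def vt6_2_0101 : Tr VStep :=
  .node (.node (.node (.node (.node (.node (.node (.leaf (.root 3938)) (.leaf (.up 4 455 0))) (.node (.leaf (.up 2 1454 0)) (.leaf (.up 4 742 2)))) (.node (.node (.leaf (.up 3 1369 0)) (.leaf (.up 2 2044 0))) (.node (.leaf (.up 2 917 0)) (.leaf (.up 4 304 0))))) (.node (.node (.node (.leaf (.up 2 1672 1)) (.leaf (.up 3 1407 2))) (.node (.leaf (.up 2 924 0)) (.leaf (.up 3 317 1)))) (.node (.node (.leaf (.up 4 971 2)) (.leaf (.up 2 462 0))) (.node (.leaf (.up 3 1663 1)) (.leaf (.up 2 731 2)))))) (.node (.node (.node (.node (.leaf (.up 4 131 2)) (.leaf (.up 4 2047 0))) (.node (.leaf (.up 2 918 0)) (.leaf (.up 4 403 2)))) (.node (.node (.leaf (.up 4 1094 2)) (.leaf (.up 4 1591 2))) (.node (.leaf (.up 4 1831 2)) (.leaf (.up 2 1366 2))))) (.node (.node (.node (.leaf (.up 2 872 0)) (.leaf (.up 4 742 1))) (.node (.leaf (.up 3 1818 2)) (.leaf (.up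 2 168 1)))) (.node (.node (.leaf (.up 3 1363 0)) (.leaf (.up 3 2038 0))) (.node (.leaf (.up 3 991 2)) (.leaf (.up 4 529 1))))))) (.node (.node (.node (.node (.node (.leaf (.root 4838)) (.leaf (.up 2 1408 1))) (.node (.leaf (.up 3 565 1)) (.leaf (.up 3 919 2)))) (.node (.node (.leaf (.up 3 1602 2)) (.leaf (.up 3 1249 0))) (.node (.leaf (.up 4 136 0)) (.leaf (.up 2 1874 2))))) (.node (.node (.node (.leaf (.up 3 1663 2)) (.leaf (.up 2 300 1))) (.node (.leaf (.up 3 1310 2)) (.leaf (.up 2 866 1)))) (.node (.node (.leaf (.up 2 698 2)) (.leaf (.up 2 917 1))) (.node (.leaf (.up 4 1722 0)) (.leaf (.up 3 1055 0)))))) (.node (.node (.node (.node (.leaf (.up 3 1607 0)) (.leaf (.up 4 1250 0))) (.node (.leaf (.up 1 139 0)) (.leaf (.up 2 558 0)))) (.node (.node (.leaf (.up 3 855 1)) (.leaf (.up 2 1708 1))) (.node (.leaf (.up 3 1712 0)) (.leaf (.up 4 1063 2))))) (.node (.node (.node (.leaf (.up 1 117 0)) (.leaf (.up 2 185 1))) (.node (.leaf (.up 2 1721 0))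 (.leaf (.up 2 1050 2)))) (.node (.node (.leaf (.up 3 463 2)) (.leaf (.up 2 1259 0))) (.node (.leaf (.up 2 686 2)) (.leaf (.up 2 223 2)))))))) (.node (.node (.node (.node (.node (.node (.leaf (.root 4534)) (.leaf (.up 1 73 0))) (.node (.leaf (.up 4 999 2)) (.leaf (.up 4 406 2)))) (.node (.node (.leaf (.up 3 1239 0)) (.leaf (.up 2 1650 0))) (.node (.leaf (.up 3 539 0)) (.leaf (.up 2 504 1))))) (.node (.node (.node (.leaf (.up 1 88 1)) (.leaf (.up 2 1443 1))) (.node (.leaf (.up 3 530 0)) (.leaf (.up 2 2029 1)))) (.node (.node (.leaf (.up 1 187 2)) (.leaf (.up 3 1818 1))) (.node (.leaf (.up 4 1065 0)) (.leaf (.up 2 1364 1)))))) (.node (.node (.node (.node (.leaf (.up 4 1377 1)) (.leaf (.up 2 154 1))) (.node (.leaf (.up 2 146 2)) (.leaf (.up 4 739 2)))) (.node (.node (.leaf (.up 4 1846 2)) (.leaf (.up 4 1351 2))) (.node (.leaf (.up 4 1430 1)) (.leaf (.up 1 109 1))))) (.node (.node (.node (.leaf (.up 4 742 0)) (.leaf (.up 3 67 0))) (.node (.leaf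 (.up 3 1066 0)) (.leaf (.up 3 1656 1)))) (.node (.node (.leaf (.up 3 1245 0)) (.leaf (.up 3 1656 0))) (.node (.leaf (.up 4 529 0)) (.leaf (.up 3 180 0))))))) (.node (.node (.node (.node (.node (.leaf (.root 3894)) (.leaf (.up 4 852 0))) (.node (.leaf (.up 2 1853 0)) (.leaf (.up 1 231 2)))) (.node (.node (.leaf (.up 3 1042 1)) (.leaf (.up 2 1391 0))) (.node (.leaf (.up 3 262 0)) (.leaf (.up 3 1058 2))))) (.node (.node (.node (.leaf (.up 2 1295 2)) (.leaf (.up 2 1918 2))) (.node (.leaf (.up 1 73 1)) (.leaf (.up 3 1055 2)))) (.node (.node (.leaf (.up 2 504 0)) (.leaf (.up 2 955 2))) (.node (.leaf (.up 2 1844 0)) (.leaf (.up 4 1425 0)))))) (.node (.node (.node (.node (.leaf (.root 4098)) (.leaf (.up 3 243 2))) (.node (.leaf (.up 2 261 0)) (.leaf (.up 1 139 1)))) (.node (.node (.leaf (.up 2 1415 1)) (.leaf (.up 3 855 0))) (.node (.leaf (.up 2 1993 1)) (.leaf (.up 4 562 1))))) (.node (.node (.node (.leaf (.up 2 1658 2)) (.leaf (.up 4 862 0))) (.node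 (.leaf (.up 2 476 1)) (.leaf (.up 4 1426 0)))) (.node (.node (.leaf (.up 4 1984 0)) (.leaf (.up 3 1381 0))) (.node (.leaf (.up 3 268 0)) (.leaf (.up 4 937 0))))))))

noncomputable def vt6_2_010 : Tr VStep := .node vt6_2_0100 vt6_2_0101

noncomputable def vt6_2_0110 : Tr VStep :=
  .node (.node (.node (.node (.node (.node (.node (.leaf (.root 4594)) (.leaf (.up 3 637 2))) (.node (.leaf (.up 3 973 0)) (.leaf (.up 1 284 2)))) (.node (.node (.leaf (.up 2 1225 2)) (.leaf (.up 3 1720 2))) (.node (.leaf (.up 4 1960 2)) (.leaf (.up 4 1497 2))))) (.node (.node (.node (.leaf (.up 3 819 0)) (.leaf (.up 4 406 0))) (.node (.leaf (.up 3 1535 0)) (.leaf (.up 2 1882 0)))) (.node (.node (.leaf (.up 3 1288 0)) (.leaf (.up 2 576 2))) (.node (.leaf (.up 4 964 0)) (.leaf (.up 2 289 2)))))) (.node (.node (.node (.node (.leaf (.up 3 441 1)) (.leaf (.up 3 1090 1))) (.node (.leaf (.up 1 24 2)) (.leaf (.up 2 1872 0)))) (.node (.node (.leaf (.up 3 768 1)) (.leaf (.up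 3 1787 1))) (.node (.leaf (.up 3 1245 2)) (.leaf (.up 2 1708 2))))) (.node (.node (.node (.leaf (.up 3 1301 1)) (.leaf (.up 3 1966 0))) (.node (.leaf (.up 4 967 0)) (.leaf (.up 2 672 1)))) (.node (.node (.leaf (.up 2 836 2)) (.leaf (.up 3 405 0))) (.node (.leaf (.up 3 1506 1)) (.leaf (.up 1 25 1))))))) (.node (.node (.node (.node (.node (.leaf (.root 6280)) (.leaf (.up 3 1928 1))) (.node (.leaf (.up 1 61 1)) (.leaf (.up 1 109 2)))) (.node (.node (.leaf (.up 1 39 0)) (.leaf (.up 2 1993 2))) (.node (.leaf (.up 3 1771 0)) (.leaf (.up 2 1192 2))))) (.node (.node (.node (.leaf (.up 3 46 0)) (.leaf (.up 2 804 1))) (.node (.leaf (.up 3 1762 0)) (.leaf (.up 4 1095 0)))) (.node (.node (.leaf (.up 2 320 2)) (.leaf (.up 3 817 2))) (.node (.leaf (.up 4 217 0)) (.leaf (.up 1 80 2)))))) (.node (.node (.node (.node (.leaf (.up 1 36 0)) (.leaf (.up 1 121 2))) (.node (.leaf (.up 3 424 1)) (.leaf (.up 4 1101 0)))) (.node (.node (.leaf (.up 2 1741 2)) (.leaf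 (.up 3 1210 0))) (.node (.leaf (.up 4 785 1)) (.leaf (.up 3 2013 2))))) (.node (.node (.node (.leaf (.up 3 1776 2)) (.leaf (.up 2 1153 2))) (.node (.leaf (.up 3 1284 1)) (.leaf (.up 3 2016 2)))) (.node (.node (.leaf (.up 3 565 2)) (.leaf (.up 1 8 1))) (.node (.leaf (.up 2 1761 0)) (.leaf (.up 2 805 2)))))))) (.node (.node (.node (.node (.node (.node (.leaf (.root 4004)) (.leaf (.up 4 1578 0))) (.node (.leaf (.up 4 579 0)) (.leaf (.up 4 230 0)))) (.node (.node (.leaf (.up 4 692 0)) (.leaf (.up 1 17 0))) (.node (.leaf (.up 4 1240 2)) (.leaf (.up 4 1705 2))))) (.node (.node (.node (.leaf (.up 3 701 0)) (.leaf (.up 1 24 0))) (.node (.leaf (.up 2 1137 0)) (.leaf (.up 3 1748 0)))) (.node (.node (.leaf (.up 3 233 1)) (.leaf (.up 3 1298 1))) (.node (.leaf (.up 1 32 2)) (.leaf (.up 3 239 0)))))) (.node (.node (.node (.node (.leaf (.up 1 9 2)) (.leaf (.up 1 18 0))) (.node (.leaf (.up 2 872 2)) (.leaf (.up 4 1758 0)))) (.node (.node (.leaf (.up 2 1164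 0)) (.leaf (.up 1 43 1))) (.node (.leaf (.up 2 576 0)) (.leaf (.up 3 229 0))))) (.node (.node (.node (.leaf (.up 3 965 1)) (.leaf (.up 2 1664 2))) (.node (.leaf (.up 4 1936 2)) (.leaf (.up 4 236 0)))) (.node (.node (.leaf (.up 3 702 0)) (.leaf (.up 1 27 0))) (.node (.leaf (.up 3 1138 0)) (.leaf (.up 1 292 2))))))) (.node (.node (.node (.node (.node (.leaf (.up 4 1938 0)) (.leaf (.up 4 1335 0))) (.node (.leaf (.up 3 1773 1)) (.leaf (.up 4 1019 0)))) (.node (.node (.leaf (.up 4 425 0)) (.leaf (.up 4 780 0))) (.node (.leaf (.up 3 1108 1)) (.leaf (.up 3 431 1))))) (.node (.node (.node (.leaf (.up 1 15 1)) (.leaf (.up 4 1156 2))) (.node (.leaf (.up 2 1428 2)) (.leaf (.up 3 1481 0)))) (.node (.node (.leaf (.up 3 560 2)) (.leaf (.up 1 65 2))) (.node (.leaf (.up 3 343 0)) (.leaf (.up 2 800 2)))))) (.node (.node (.node (.node (.leaf (.up 3 426 0)) (.leaf (.up 3 205 1))) (.node (.leaf (.up 4 1894 0)) (.leaf (.up 2 104 2)))) (.node (.node (.leaf (.up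 4 1935 1)) (.leaf (.up 2 628 1))) (.node (.leaf (.up 3 1756 2)) (.leaf (.up 1 58 1))))) (.node (.node (.node (.leaf (.up 2 1408 2)) (.leaf (.up 4 1121 1))) (.node (.leaf (.up 2 1761 2)) (.leaf (.up 4 1168 2)))) (.node (.node (.leaf (.up 3 419 0)) (.leaf (.up 4 820 2))) (.node (.leaf (.up 3 1903 0)) (.leaf (.up 2 1174 1))))))))

noncomputable def vt6_2_0111 : Tr VStep :=
  .node (.node (.node (.node (.node (.node (.node (.leaf (.root 2736)) (.leaf (.up 2 300 2))) (.node (.leaf (.up 2 1399 0)) (.leaf (.up 2 589 2)))) (.node (.node (.leaf (.up 2 1408 0)) (.leaf (.up 2 1829 0))) (.node (.leaf (.up 2 844 0)) (.leaf (.up 2 1672 2))))) (.node (.node (.node (.leaf (.root 4844)) (.leaf (.up 4 1836 0))) (.node (.leaf (.up 2 837 0)) (.leaf (.up 3 890 1)))) (.node (.node (.leaf (.up 3 864 2)) (.leaf (.up 3 909 1))) (.node (.leaf (.up 1 1 2)) (.leaf (.up 3 451 1)))))) (.node (.node (.node (.node (.leaf (.up 1 40 2)) (.leaf (.up 3 1830 0))) (.node (.leaf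 (.up 2 847 0)) (.leaf (.up 4 490 0)))) (.node (.node (.leaf (.up 2 1261 2)) (.leaf (.up 2 285 0))) (.node (.leaf (.up 3 1932 2)) (.leaf (.up 3 2001 0))))) (.node (.node (.node (.leaf (.up 4 945 0)) (.leaf (.up 4 276 0))) (.node (.leaf (.up 2 1405 0)) (.leaf (.up 4 2008 0)))) (.node (.node (.leaf (.up 1 21 2)) (.leaf (.up 2 1839 0))) (.node (.leaf (.up 4 838 0)) (.leaf (.up 2 261 2))))))) (.node (.node (.node (.node (.node (.leaf (.up 2 556 2)) (.leaf (.up 3 1991 1))) (.node (.leaf (.up 1 114 1)) (.leaf (.up 2 1417 1)))) (.node (.node (.leaf (.up 3 133 1)) (.leaf (.up 2 1176 2))) (.node (.leaf (.up 1 81 0)) (.leaf (.up 3 756 0))))) (.node (.node (.node (.leaf (.up 2 1680 1)) (.leaf (.up 4 1073 0))) (.node (.leaf (.up 1 88 0)) (.leaf (.up 4 1988 2)))) (.node (.node (.leaf (.up 4 529 2)) (.leaf (.up 1 96 2))) (.node (.leaf (.up 3 1635 0)) (.leaf (.up 2 769 2)))))) (.node (.node (.node (.node (.leaf (.up 4 937 1)) (.leaf (.up 3 808 2))) (.node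 (.leaf (.up 4 82 0)) (.leaf (.up 1 73 2)))) (.node (.node (.leaf (.up 1 165 0)) (.leaf (.up 2 2029 2))) (.node (.leaf (.up 4 862 1)) (.leaf (.up 2 1164 2))))) (.node (.node (.node (.leaf (.up 4 172 0)) (.leaf (.up 4 521 0))) (.node (.leaf (.up 4 1632 0)) (.leaf (.up 4 1221 0)))) (.node (.node (.leaf (.up 4 1687 0)) (.leaf (.up 4 71 1))) (.node (.leaf (.up 4 91 0)) (.leaf (.up 4 116 2)))))))) (.node (.node (.node (.node (.node (.node (.leaf (.up 3 565 0)) (.leaf (.up 3 604 2))) (.node (.leaf (.up 2 844 2)) (.leaf (.up 3 317 2)))) (.node (.node (.leaf (.up 3 1038 0)) (.leaf (.up 2 497 1))) (.node (.leaf (.up 3 706 0)) (.leaf (.up 3 103 0))))) (.node (.node (.node (.leaf (.up 3 1031 0)) (.leaf (.up 2 1700 2))) (.node (.leaf (.up 1 81 1)) (.leaf (.up 3 1450 1)))) (.node (.node (.leaf (.up 1 16 2)) (.leaf (.up 3 609 2))) (.node (.leaf (.up 2 744 1)) (.leaf (.up 3 1621 0)))))) (.node (.node (.node (.node (.leaf (.up 3 856 2)) (.leaf (.up 4 1704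 0))) (.node (.leaf (.up 4 705 0)) (.leaf (.up 3 147 1)))) (.node (.node (.leaf (.up 4 566 0)) (.leaf (.up 3 147 0))) (.node (.leaf (.up 3 2001 1)) (.leaf (.up 4 1631 0))))) (.node (.node (.node (.leaf (.up 4 906 1)) (.leaf (.up 2 154 0))) (.node (.leaf (.up 4 1267 0)) (.leaf (.up 3 1712 2)))) (.node (.node (.leaf (.up 4 1028 0)) (.leaf (.up 3 1224 1))) (.node (.leaf (.up 1 4 2)) (.leaf (.up 1 109 0))))))) (.node (.node (.node (.node (.node (.leaf (.up 3 296 0)) (.leaf (.up 3 909 0))) (.node (.leaf (.up 2 2020 0)) (.leaf (.up 1 76 2)))) (.node (.node (.leaf (.up 3 1621 1)) (.leaf (.up 2 1462 0))) (.node (.leaf (.up 3 479 0)) (.leaf (.up 3 890 0))))) (.node (.node (.node (.leaf (.up 3 1818 0)) (.leaf (.up 3 2005 2))) (.node (.leaf (.up 2 1733 2)) (.leaf (.up 3 883 0)))) (.node (.node (.leaf (.up 2 289 0)) (.leaf (.up 2 900 0))) (.node (.leaf (.up 2 2029 0)) (.leaf (.up 4 113 2)))))) (.node (.node (.node (.node (.leaf (.up 4 1808 0)) (.leaf (.up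 1 88 2))) (.node (.leaf (.up 2 476 0)) (.leaf (.up 4 889 0)))) (.node (.node (.leaf (.up 4 1984 1)) (.leaf (.up 2 910 0))) (.node (.leaf (.up 4 2023 0)) (.leaf (.up 1 117 1))))) (.node (.node (.node (.leaf (.up 3 469 1)) (.leaf (.up 4 1070 1))) (.node (.leaf (.up 4 1456 2)) (.leaf (.up 4 1985 2)))) (.node (.node (.leaf (.up 2 876 1)) (.leaf (.up 4 101 2))) (.node (.leaf (.up 3 469 0)) (.leaf (.up 4 1241 1))))))))

noncomputable def vt6_2_011 : Tr VStep := .node vt6_2_0110 vt6_2_0111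

noncomputable def vt6_2_01 : Tr VStep := .node vt6_2_010 vt6_2_011

noncomputable def vt6_2_0 : Tr VStep := .node vt6_2_00 vt6_2_01

noncomputable def vt6_2_1000 : Tr VStep :=
  .node (.node (.node (.node (.node (.node (.node (.leaf (.root 4422)) (.leaf (.up 2 1609 2))) (.node (.leaf (.up 2 596 0)) (.leaf (.up 1 241 0)))) (.node (.node (.leaf (.up 2 253 2)) (.leaf (.up 1 6 0))) (.node (.leaf (.up 1 0 1)) (.leaf (.up 3 1738 0))))) (.node (.node (.node (.leaf (.up 4 682 0)) (.leaf (.up 1 15 0))) (.node (.leaf (.up 2 1126 0)) (.leaf (.up 3 1731 0)))) (.node (.node (.leaf (.up 3 1029 2)) (.leaf (.up 2 1588 0))) (.node (.leaf (.up 4 605 0)) (.leaf (.up 3 1301 2)))))) (.node (.node (.node (.node (.leaf (.root 4752)) (.leaf (.up 1 5 0))) (.node (.leaf (.up 2 1132 0)) (.leaf (.up 2 1629 2)))) (.node (.node (.leaf (.up 3 1179 0)) (.leaf (.up 2 1598 0))) (.node (.leaf (.up 3 233 2)) (.leaf (.up 4 664 2))))) (.node (.node (.node (.leaf (.up 2 949 2))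 (.leaf (.up 4 1591 0))) (.node (.leaf (.up 3 212 2)) (.leaf (.up 2 251 0)))) (.node (.node (.leaf (.up 4 681 0)) (.leaf (.up 2 1281 2))) (.node (.leaf (.up 3 1125 0)) (.leaf (.up 3 194 1))))))) (.node (.node (.node (.node (.node (.leaf (.root 3198)) (.leaf (.up 4 1312 0))) (.node (.leaf (.up 4 1576 2)) (.leaf (.up 2 1004 0)))) (.node (.node (.leaf (.up 1 17 1)) (.leaf (.up 2 1021 2))) (.node (.leaf (.up 4 607 1)) (.leaf (.up 3 1495 0))))) (.node (.node (.node (.leaf (.up 4 433 2)) (.leaf (.up 4 960 2))) (.node (.leaf (.up 3 1915 0)) (.leaf (.up 4 433 1)))) (.node (.node (.leaf (.up 3 1932 0)) (.leaf (.up 4 326 1))) (.node (.leaf (.up 2 320 0)) (.leaf (.up 4 997 0)))))) (.node (.node (.node (.node (.leaf (.up 3 829 1)) (.leaf (.up 3 1734 1))) (.node (.leaf (.up 2 371 1)) (.leaf (.up 3 1160 1)))) (.node (.node (.leaf (.up 3 1926 0)) (.leaf (.up 3 1151 1))) (.node (.leaf (.up 4 408 2)) (.leaf (.up 4 1007 0))))) (.node (.node (.node (.leaf (.up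 4 1935 0)) (.leaf (.up 2 618 1))) (.node (.leaf (.up 3 323 0)) (.leaf (.up 1 36 1)))) (.node (.node (.leaf (.up 2 1537 2)) (.leaf (.up 4 785 0))) (.node (.leaf (.up 4 1376 2)) (.leaf (.up 4 1809 2)))))))) (.node (.node (.node (.node (.node (.node (.leaf (.root 4416)) (.leaf (.up 4 1971 0))) (.node (.leaf (.up 3 1129 1)) (.leaf (.up 3 402 1)))) (.node (.node (.leaf (.up 3 909 2)) (.leaf (.up 3 392 0))) (.node (.leaf (.up 3 1744 1)) (.leaf (.up 3 811 1))))) (.node (.node (.node (.leaf (.root 4284)) (.leaf (.up 4 385 0))) (.node (.leaf (.up 1 197 1)) (.leaf (.up 2 672 2)))) (.node (.node (.leaf (.up 1 50 1)) (.leaf (.up 3 1284 2))) (.node (.leaf (.up 2 1044 2)) (.leaf (.up 3 1927 1)))))) (.node (.node (.node (.node (.leaf (.root 4420)) (.leaf (.up 4 395 0))) (.node (.leaf (.up 3 1506 0)) (.leaf (.up 3 1325 2)))) (.node (.node (.leaf (.up 3 1301 0)) (.leaf (.up 3 1968 0))) (.node (.leaf (.up 2 1861 1)) (.leaf (.up 3 488 2))))) (.node (.node (.node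 (.leaf (.up 1 197 2)) (.leaf (.up 3 1765 1))) (.node (.leaf (.up 3 976 0)) (.leaf (.up 3 469 2)))) (.node (.node (.leaf (.up 3 807 0)) (.leaf (.up 3 386 0))) (.node (.leaf (.up 4 1515 0)) (.leaf (.up 2 1554 1))))))) (.node (.node (.node (.node (.node (.leaf (.up 4 1547 0)) (.leaf (.up 3 1096 2))) (.node (.leaf (.up 3 199 0)) (.leaf (.up 3 973 1)))) (.node (.node (.leaf (.up 1 48 0)) (.leaf (.up 2 661 0))) (.node (.leaf (.up 2 1167 1)) (.leaf (.up 1 372 1))))) (.node (.node (.node (.leaf (.up 3 212 1)) (.leaf (.up 4 1327 1))) (.node (.leaf (.up 2 1781 0)) (.leaf (.up 3 1104 0)))) (.node (.node (.leaf (.up 3 621 1)) (.leaf (.up 2 1191 0))) (.node (.leaf (.up 3 1381 2)) (.leaf (.up 2 1496 1)))))) (.node (.node (.node (.node (.leaf (.up 3 1517 1)) (.leaf (.up 1 22 1))) (.node (.leaf (.up 3 1791 0)) (.leaf (.up 3 1114 0)))) (.node (.node (.leaf (.up 4 393 2)) (.leaf (.up 2 1197 0))) (.node (.leaf (.up 2 744 2)) (.leaf (.up 3 609 0))))) (.node (.node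 (.node (.leaf (.root 5794)) (.leaf (.up 3 965 2))) (.node (.leaf (.up 3 205 0)) (.leaf (.up 3 616 0)))) (.node (.node (.leaf (.up 1 58 0)) (.leaf (.up 3 1792 2))) (.node (.leaf (.up 4 1552 2)) (.leaf (.up 4 1121 2))))))))

noncomputable def vt6_2_1001 : Tr VStep :=
  .node (.node (.node (.node (.node (.node (.node (.leaf (.root 2800)) (.leaf (.up 2 1304 2))) (.node (.leaf (.up 3 1032 2)) (.leaf (.up 3 1611 0)))) (.node (.node (.leaf (.up 2 940 2)) (.leaf (.up 3 1724 0))) (.node (.leaf (.up 3 205 2)) (.leaf (.up 1 112 0))))) (.node (.node (.node (.leaf (.up 2 1044 1)) (.leaf (.up 4 1717 0))) (.node (.leaf (.up 4 732 0)) (.leaf (.up 1 121 0)))) (.node (.node (.leaf (.up 3 1709 1)) (.leaf (.up 1 142 0))) (.node (.leaf (.up 4 1255 0)) (.leaf (.up 3 1602 0)))))) (.node (.node (.node (.node (.leaf (.root 3930)) (.leaf (.up 3 1645 2))) (.node (.leaf (.up 4 1917 2)) (.leaf (.up 1 115 0)))) (.node (.node (.leaf (.up 4 217 2)) (.leaf (.up 3 132 0)))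 (.node (.leaf (.up 2 1261 0)) (.leaf (.up 3 1608 0))))) (.node (.node (.node (.leaf (.up 2 228 2)) (.leaf (.up 1 122 1))) (.node (.leaf (.up 3 1999 1)) (.leaf (.up 3 1601 0)))) (.node (.node (.leaf (.up 3 1043 0)) (.leaf (.up 2 1616 2))) (.node (.leaf (.up 3 1398 1)) (.leaf (.up 1 122 0))))))) (.node (.node (.node (.node (.node (.leaf (.root 3836)) (.leaf (.up 3 1129 2))) (.node (.leaf (.up 4 1401 2)) (.leaf (.up 2 1366 0)))) (.node (.node (.leaf (.up 4 733 2)) (.leaf (.up 3 1445 1))) (.node (.leaf (.up 4 528 1)) (.leaf (.up 3 973 2))))) (.node (.node (.node (.leaf (.up 3 736 2)) (.leaf (.up 1 145 2))) (.node (.leaf (.up 3 1029 1)) (.leaf (.up 3 510 1)))) (.node (.node (.leaf (.up 3 1573 2)) (.leaf (.up 3 1108 2))) (.node (.leaf (.up 3 1724 1)) (.leaf (.up 3 839 1)))))) (.node (.node (.node (.node (.leaf (.up 4 1389 2)) (.leaf (.up 2 1673 1))) (.node (.leaf (.up 3 459 0)) (.leaf (.up 3 1223 1)))) (.node (.node (.leaf (.up 3 424 2)) (.leaf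 (.up 3 921 0))) (.node (.leaf (.up 4 713 2)) (.leaf (.up 3 1365 0))))) (.node (.node (.node (.leaf (.up 2 2014 1)) (.leaf (.up 2 996 2))) (.node (.leaf (.up 2 1424 1)) (.leaf (.up 3 133 2)))) (.node (.node (.leaf (.up 3 1806 0)) (.leaf (.up 2 1451 0))) (.node (.leaf (.up 4 1585 2)) (.leaf (.up 3 1088 2)))))))) (.node (.node (.node (.node (.node (.node (.leaf (.root 4880)) (.leaf (.up 3 265 0))) (.node (.leaf (.up 4 1376 0)) (.leaf (.up 3 1989 0)))) (.node (.node (.leaf (.up 4 1431 0)) (.leaf (.up 4 685 2))) (.node (.leaf (.up 3 859 0)) (.leaf (.up 3 510 0))))) (.node (.node (.node (.leaf (.up 4 1438 0)) (.leaf (.up 2 1851 0))) (.node (.leaf (.up 3 138 1)) (.leaf (.up 2 497 2)))) (.node (.node (.leaf (.up 1 125 1)) (.leaf (.up 3 1621 2))) (.node (.leaf (.up 2 1861 2)) (.leaf (.up 3 1996 0)))))) (.node (.node (.node (.node (.leaf (.root 2706)) (.leaf (.up 2 1841 0))) (.node (.leaf (.up 3 856 0)) (.leaf (.up 1 72 1)))) (.node (.node (.leaf (.up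 4 937 2)) (.leaf (.up 2 191 1))) (.node (.leaf (.up 3 1379 0)) (.leaf (.up 2 1990 0))))) (.node (.node (.node (.leaf (.up 3 849 1)) (.leaf (.up 3 1706 1))) (.node (.leaf (.up 3 1386 0)) (.leaf (.up 3 1999 0)))) (.node (.node (.leaf (.up 3 488 1)) (.leaf (.up 3 1043 1))) (.node (.leaf (.up 3 849 0)) (.leaf (.up 2 1629 1))))))) (.node (.node (.node (.node (.node (.leaf (.up 4 177 0)) (.leaf (.up 3 532 0))) (.node (.leaf (.up 2 1661 0)) (.leaf (.up 4 1240 0)))) (.node (.node (.leaf (.up 4 1678 1)) (.leaf (.up 4 1071 0))) (.node (.leaf (.up 4 70 0)) (.leaf (.up 4 739 0))))) (.node (.node (.node (.leaf (.up 1 155 1)) (.leaf (.up 4 1376 1))) (.node (.leaf (.up 3 79 0)) (.leaf (.up 1 128 2)))) (.node (.node (.leaf (.up 2 546 1)) (.leaf (.up 3 2009 1))) (.node (.leaf (.up 1 108 1)) (.leaf (.up 4 1431 1)))))) (.node (.node (.node (.node (.leaf (.root 2661)) (.leaf (.up 1 89 1))) (.node (.leaf (.up 3 69 0)) (.leaf (.up 3 736 0)))) (.node (.node (.leaf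 (.up 4 728 2)) (.leaf (.up 3 736 1))) (.node (.leaf (.up 3 441 2)) (.leaf (.up 3 174 1))))) (.node (.node (.node (.leaf (.up 1 187 0)) (.leaf (.up 3 542 0))) (.node (.leaf (.up 3 1655 0)) (.leaf (.up 3 1234 0)))) (.node (.node (.leaf (.up 2 1664 0)) (.leaf (.up 3 1061 0))) (.node (.leaf (.up 1 76 0)) (.leaf (.up 3 745 0))))))))

noncomputable def vt6_2_100 : Tr VStep := .node vt6_2_1000 vt6_2_1001

noncomputable def vt6_2_1010 : Tr VStep :=
  .node (.node (.node (.node (.node (.node (.node (.leaf (.root 5098)) (.leaf (.up 2 1867 1))) (.node (.leaf (.up 4 254 1)) (.leaf (.up 1 40 0)))) (.node (.node (.leaf (.up 1 9 1)) (.leaf (.up 2 223 0))) (.node (.leaf (.up 4 823 2)) (.leaf (.up 4 326 2))))) (.node (.node (.node (.leaf (.up 2 1564 1)) (.leaf (.up 4 999 1))) (.node (.leaf (.up 2 1215 0)) (.leaf (.up 4 379 2)))) (.node (.node (.leaf (.up 3 1096 0)) (.leaf (.up 3 1773 0))) (.node (.leaf (.up 3 1999 2)) (.leaf (.up 1 33 0)))))) (.node (.node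 (.node (.node (.leaf (.up 2 805 1)) (.leaf (.up 4 1431 2))) (.node (.leaf (.up 2 1205 0)) (.leaf (.up 4 1552 0)))) (.node (.node (.leaf (.up 3 1090 0)) (.leaf (.up 2 1767 0))) (.node (.leaf (.up 1 66 2)) (.leaf (.up 1 43 0))))) (.node (.node (.node (.leaf (.root 3202)) (.leaf (.up 3 367 2))) (.node (.leaf (.up 2 127 2)) (.leaf (.up 1 34 0)))) (.node (.node (.leaf (.up 4 624 0)) (.leaf (.up 3 1450 2))) (.node (.leaf (.up 2 1918 1)) (.leaf (.up 2 1739 2))))))) (.node (.node (.node (.node (.node (.leaf (.up 3 1506 2)) (.leaf (.up 2 1300 1))) (.node (.leaf (.up 2 400 0)) (.leaf (.up 2 1882 1)))) (.node (.node (.leaf (.up 3 295 2)) (.leaf (.up 2 962 0))) (.node (.leaf (.up 1 24 1)) (.leaf (.up 1 55 2))))) (.node (.node (.node (.leaf (.root 3136)) (.leaf (.up 4 440 1))) (.node (.leaf (.up 3 1954 0)) (.leaf (.up 1 10 2)))) (.node (.node (.leaf (.up 3 1877 0)) (.leaf (.up 2 769 1))) (.node (.leaf (.up 2 409 0)) (.leaf (.up 3 828 0)))))) (.node (.node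 (.node (.node (.leaf (.up 3 378 1)) (.leaf (.up 2 1153 1))) (.node (.leaf (.up 4 1960 0)) (.leaf (.up 3 1927 2)))) (.node (.node (.leaf (.up 4 1887 0)) (.leaf (.up 2 1592 1))) (.node (.leaf (.up 4 403 0)) (.leaf (.up 4 822 0))))) (.node (.node (.node (.leaf (.up 2 1494 1)) (.leaf (.up 3 1523 0))) (.node (.leaf (.up 2 410 0)) (.leaf (.up 2 611 1)))) (.node (.node (.leaf (.up 3 1706 2)) (.leaf (.up 4 968 0))) (.node (.leaf (.up 3 1483 2)) (.leaf (.up 3 1284 0)))))))) (.node (.node (.node (.node (.node (.node (.leaf (.root 5642)) (.leaf (.up 4 1426 2))) (.node (.leaf (.up 3 1582 1)) (.leaf (.up 3 422 0)))) (.node (.node (.leaf (.up 2 1012 0)) (.leaf (.up 2 802 1))) (.node (.leaf (.up 4 71 2)) (.leaf (.up 4 566 2))))) (.node (.node (.node (.leaf (.root 3922)) (.leaf (.up 4 362 2))) (.node (.leaf (.up 1 122 2)) (.leaf (.up 4 1913 1)))) (.node (.node (.leaf (.up 2 2014 2)) (.leaf (.up 4 1934 1))) (.node (.leaf (.up 1 59 1)) (.leaf (.up 3 431 0))))))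 (.node (.node (.node (.node (.leaf (.up 2 1174 2)) (.leaf (.up 1 14 1))) (.node (.leaf (.up 3 2039 2)) (.leaf (.up 2 576 1)))) (.node (.node (.leaf (.up 1 83 2)) (.leaf (.up 2 546 2))) (.node (.leaf (.up 3 768 0)) (.leaf (.up 2 249 1))))) (.node (.node (.node (.leaf (.up 4 1477 0)) (.leaf (.up 4 1888 0))) (.node (.leaf (.up 4 777 0)) (.leaf (.up 4 428 0)))) (.node (.node (.leaf (.up 2 992 1)) (.leaf (.up 4 1754 2))) (.node (.leaf (.up 4 1330 0)) (.leaf (.up 2 1109 1))))))) (.node (.node (.node (.node (.node (.leaf (.up 3 1599 1)) (.leaf (.up 4 964 1))) (.node (.leaf (.up 2 1137 1)) (.leaf (.up 4 699 0)))) (.node (.node (.leaf (.up 3 233 0)) (.leaf (.up 1 38 2))) (.node (.leaf (.up 3 1573 0)) (.leaf (.up 3 839 2))))) (.node (.node (.node (.leaf (.up 2 618 2)) (.leaf (.up 1 27 2))) (.node (.leaf (.up 2 1580 0)) (.leaf (.up 3 890 2)))) (.node (.node (.leaf (.up 1 42 1)) (.leaf (.up 2 1150 0))) (.node (.leaf (.up 1 23 0)) (.leaf (.up 2 690 0))))))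 (.node (.node (.node (.node (.leaf (.root 4566)) (.leaf (.up 2 591 0))) (.node (.leaf (.up 2 1574 0)) (.leaf (.up 1 31 1)))) (.node (.node (.leaf (.up 4 1745 0)) (.leaf (.up 2 1140 0))) (.node (.leaf (.up 3 1885 1)) (.leaf (.up 1 50 2))))) (.node (.node (.node (.leaf (.up 4 1752 0)) (.leaf (.up 4 1149 0))) (.node (.leaf (.up 2 20 0)) (.leaf (.up 1 15 2)))) (.node (.node (.leaf (.up 3 227 0)) (.leaf (.up 2 582 0))) (.node (.leaf (.up 4 1583 0)) (.leaf (.up 4 1162 0))))))))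

noncomputable def vt6_2_1011 : Tr VStep :=
  .node (.node (.node (.node (.node (.node (.node (.leaf (.root 5076)) (.leaf (.up 4 94 0))) (.node (.leaf (.up 4 177 1)) (.leaf (.up 4 1682 0)))) (.node (.node (.leaf (.up 4 70 1)) (.leaf (.up 4 1637 0))) (.node (.leaf (.up 2 102 2)) (.leaf (.up 4 169 0))))) (.node (.node (.node (.leaf (.up 2 1225 0)) (.leaf (.up 4 936 1))) (.node (.leaf (.up 3 1053 1)) (.leaf (.up 4 554 2)))) (.node (.node (.leaf (.up 3 1258 1)) (.leaf (.up 4 1422 2))) (.node (.leaf (.up 2 1700 1)) (.leaf (.up 3 1691 0)))))) (.node (.node (.node (.node (.leaf (.root 4540)) (.leaf (.up 3 1734 2))) (.node (.leaf (.up 1 292 1)) (.leaf (.up 4 170 0)))) (.node (.node (.leaf (.up 1 114 2)) (.leaf (.up 4 93 0))) (.node (.leaf (.up 3 1076 0)) (.leaf (.up 3 1681 0))))) (.node (.node (.node (.leaf (.up 2 1990 1)) (.leaf (.up 1 84 0))) (.node (.leaf (.up 2 814 2)) (.leaf (.up 1 115 1)))) (.node (.node (.leaf (.up 3 1407 1)) (.leaf (.up 3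 1787 2))) (.node (.leaf (.up 2 1841 1)) (.leaf (.up 4 1434 2))))))) (.node (.node (.node (.node (.node (.leaf (.up 4 486 0)) (.leaf (.up 4 835 0))) (.node (.leaf (.up 3 1834 0)) (.leaf (.up 4 1423 0)))) (.node (.node (.leaf (.up 3 2013 0)) (.leaf (.up 2 2018 1))) (.node (.leaf (.up 4 273 0)) (.leaf (.up 4 948 0))))) (.node (.node (.node (.leaf (.up 4 1036 1)) (.leaf (.up 1 58 2))) (.node (.leaf (.up 3 1602 1)) (.leaf (.up 2 953 1)))) (.node (.node (.leaf (.up 4 1678 2)) (.leaf (.up 4 1279 2))) (.node (.leaf (.up 4 1275 1)) (.leaf (.up 3 1414 0)))))) (.node (.node (.node (.node (.leaf (.root 5366)) (.leaf (.up 3 1403 0))) (.node (.leaf (.up 2 891 1)) (.leaf (.up 2 1664 1)))) (.node (.node (.leaf (.up 4 485 0)) (.leaf (.up 3 1655 1))) (.node (.leaf (.up 4 1833 0)) (.leaf (.up 1 19 2))))) (.node (.node (.node (.leaf (.up 4 318 2)) (.leaf (.up 1 98 1))) (.node (.leaf (.up 4 607 2)) (.leaf (.up 2 556 1)))) (.node (.node (.leaf (.up 4 2007 0)) (.leaf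 (.up 2 731 1))) (.node (.leaf (.up 3 1690 2)) (.leaf (.up 1 149 1)))))))) (.node (.node (.node (.node (.node (.node (.leaf (.up 4 1071 1)) (.leaf (.up 2 468 1))) (.node (.leaf (.up 4 1465 0)) (.leaf (.up 3 1820 0)))) (.node (.node (.leaf (.up 1 119 2)) (.leaf (.up 3 2027 0))) (.node (.leaf (.up 4 1240 1)) (.leaf (.up 3 295 0))))) (.node (.node (.node (.leaf (.up 4 1351 0)) (.leaf (.up 2 2018 0))) (.node (.leaf (.up 3 811 2)) (.leaf (.up 4 302 0)))) (.node (.node (.leaf (.up 2 1167 2)) (.leaf (.up 4 473 0))) (.node (.leaf (.up 4 1456 0)) (.leaf (.up 4 1439 2)))))) (.node (.node (.node (.node (.leaf (.up 3 1991 2)) (.leaf (.up 1 65 1))) (.node (.leaf (.up 3 1190 2)) (.leaf (.up 1 292 0)))) (.node (.node (.leaf (.up 4 886 0)) (.leaf (.up 2 371 2))) (.node (.leaf (.up 3 1466 0)) (.leaf (.up 2 182 1))))) (.node (.node (.node (.leaf (.up 3 895 0)) (.leaf (.up 2 1261 1))) (.node (.leaf (.up 3 856 1)) (.leaf (.up 4 559 2)))) (.node (.node (.leaf (.up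 4 1348 0)) (.leaf (.up 4 1419 2))) (.node (.leaf (.up 3 1179 2)) (.leaf (.up 2 1050 1))))))) (.node (.node (.node (.node (.node (.leaf (.root 3932)) (.leaf (.up 3 717 0))) (.node (.leaf (.up 2 1700 0)) (.leaf (.up 3 1025 0)))) (.node (.node (.leaf (.up 2 1225 1)) (.leaf (.up 3 306 1))) (.node (.leaf (.up 2 1671 1)) (.leaf (.up 1 22 2))))) (.node (.node (.node (.leaf (.up 4 315 2)) (.leaf (.up 4 1279 0))) (.node (.leaf (.up 2 146 1)) (.leaf (.up 1 43 2)))) (.node (.node (.leaf (.up 4 97 0)) (.leaf (.up 4 1935 2))) (.node (.leaf (.up 3 1709 0)) (.leaf (.up 3 1032 0)))))) (.node (.node (.node (.node (.leaf (.root 4044)) (.leaf (.up 3 1223 2))) (.node (.leaf (.up 2 1451 1)) (.leaf (.up 1 80 1)))) (.node (.node (.leaf (.up 3 107 0)) (.leaf (.up 1 2 2))) (.node (.leaf (.up 3 1703 0)) (.leaf (.up 3 745 1))))) (.node (.node (.node (.leaf (.up 1 98 0)) (.leaf (.up 1 63 2))) (.node (.leaf (.up 4 303 2)) (.leaf (.up 4 862 2)))) (.node (.node (.leaf (.up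 2 1625 0)) (.leaf (.up 4 1276 0))) (.node (.leaf (.up 1 149 0)) (.leaf (.up 3 560 0))))))))

noncomputable def vt6_2_101 : Tr VStep := .node vt6_2_1010 vt6_2_1011

noncomputable def vt6_2_10 : Tr VStep := .node vt6_2_100 vt6_2_101

noncomputable def vt6_2_1100 : Tr VStep :=
  .node (.node (.node (.node (.node (.node (.node (.leaf (.root 5206)) (.leaf (.up 4 71 0))) (.node (.leaf (.up 4 1070 0)) (.leaf (.up 2 1625 2)))) (.node (.node (.leaf (.up 4 1241 0)) (.leaf (.up 2 1660 0))) (.node (.leaf (.up 4 533 0)) (.leaf (.up 4 668 2))))) (.node (.node (.node (.leaf (.up 3 1381 1)) (.leaf (.up 2 1653 0))) (.node (.leaf (.up 2 540 0)) (.leaf (.up 2 185 0)))) (.node (.node (.leaf (.up 2 1908 2)) (.leaf (.up 2 78 0))) (.node (.leaf (.up 4 1426 1)) (.leaf (.up 4 1666 0)))))) (.node (.node (.node (.node (.leaf (.up 2 1084 2)) (.leaf (.up 3 1663 0))) (.node (.leaf (.up 3 1885 2)) (.leaf (.up 4 1324 2)))) (.node (.node (.leaf (.up 2 249 2)) (.leaf (.up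 2 68 0))) (.node (.leaf (.up 3 920 2)) (.leaf (.up 2 1672 0))))) (.node (.node (.node (.leaf (.root 4224)) (.leaf (.up 1 77 0))) (.node (.leaf (.up 2 1060 0)) (.leaf (.up 2 468 2)))) (.node (.node (.leaf (.up 2 1609 1)) (.leaf (.up 3 1654 0))) (.node (.leaf (.up 3 1031 1)) (.leaf (.up 3 186 0))))))) (.node (.node (.node (.node (.node (.leaf (.up 2 1592 2)) (.leaf (.up 3 1645 1))) (.node (.leaf (.up 3 1369 2)) (.leaf (.up 4 1430 0)))) (.node (.node (.leaf (.up 4 303 1)) (.leaf (.up 4 1377 0))) (.node (.leaf (.up 4 264 0)) (.leaf (.up 3 1690 1))))) (.node (.node (.node (.leaf (.up 4 704 2)) (.leaf (.up 4 177 2))) (.node (.leaf (.up 3 257 0)) (.leaf (.up 3 976 2)))) (.node (.node (.leaf (.up 2 1541 2)) (.leaf (.up 1 120 1))) (.node (.leaf (.up 4 1850 0)) (.leaf (.up 4 566 1)))))) (.node (.node (.node (.node (.leaf (.up 3 1991 0)) (.leaf (.up 3 1378 0))) (.node (.leaf (.up 1 77 1)) (.leaf (.up 2 1117 2)))) (.node (.node (.leaf (.up 3 392 2)) (.leaf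 (.up 2 1017 2))) (.node (.leaf (.up 3 745 2)) (.leaf (.up 3 1807 1))))) (.node (.node (.node (.leaf (.up 2 437 2)) (.leaf (.up 4 964 2))) (.node (.leaf (.up 3 1249 1)) (.leaf (.up 1 165 2)))) (.node (.node (.leaf (.up 3 1998 0)) (.leaf (.up 3 1387 0))) (.node (.leaf (.up 4 1553 2)) (.leaf (.up 3 935 0)))))))) (.node (.node (.node (.node (.node (.node (.leaf (.root 5742)) (.leaf (.up 2 738 1))) (.node (.leaf (.up 2 1440 0)) (.leaf (.up 4 1321 2)))) (.node (.node (.leaf (.up 2 252 2)) (.leaf (.up 4 653 2))) (.node (.leaf (.up 4 923 0)) (.leaf (.up 4 533 1))))) (.node (.node (.node (.leaf (.up 2 949 1)) (.leaf (.up 3 2043 0))) (.node (.leaf (.up 2 914 0)) (.leaf (.up 3 311 0)))) (.node (.node (.leaf (.up 3 268 1)) (.leaf (.up 2 1653 2))) (.node (.leaf (.up 4 1449 0)) (.leaf (.up 2 1300 2)))))) (.node (.node (.node (.node (.leaf (.root 4480)) (.leaf (.up 4 1341 2))) (.node (.leaf (.up 3 920 0)) (.leaf (.up 3 317 0)))) (.node (.node (.leaf (.up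 3 879 0)) (.leaf (.up 2 504 2))) (.node (.leaf (.up 2 1443 0)) (.leaf (.up 4 665 2))))) (.node (.node (.node (.leaf (.up 3 544 1)) (.leaf (.up 3 451 0))) (.node (.leaf (.up 3 1450 0)) (.leaf (.up 3 1807 0)))) (.node (.node (.leaf (.up 3 1373 0)) (.leaf (.up 3 1280 2))) (.node (.leaf (.up 3 913 0)) (.leaf (.up 4 1633 2))))))) (.node (.node (.node (.node (.node (.leaf (.up 4 1350 1)) (.leaf (.up 4 724 0))) (.node (.leaf (.up 2 1725 0)) (.leaf (.up 2 1112 2)))) (.node (.node (.leaf (.up 4 397 2)) (.leaf (.up 2 1020 2))) (.node (.leaf (.up 2 748 2)) (.leaf (.up 4 547 0))))) (.node (.node (.node (.leaf (.up 4 432 2)) (.leaf (.up 3 1254 0))) (.node (.leaf (.up 3 143 0)) (.leaf (.up 4 1631 1)))) (.node (.node (.leaf (.up 1 120 0)) (.leaf (.up 4 1704 1))) (.node (.leaf (.up 2 1556 2)) (.leaf (.up 3 1125 2)))))) (.node (.node (.node (.node (.leaf (.root 3066)) (.leaf (.up 3 296 1))) (.node (.leaf (.up 3 133 0)) (.leaf (.up 3 544 0)))) (.node (.node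 (.leaf (.up 1 114 0)) (.leaf (.up 3 137 2))) (.node (.leaf (.up 2 409 2)) (.leaf (.up 3 479 1))))) (.node (.node (.node (.leaf (.up 2 127 1)) (.leaf (.up 3 180 2))) (.node (.leaf (.up 2 1719 0)) (.leaf (.up 3 1042 0)))) (.node (.node (.leaf (.up 3 1600 0)) (.leaf (.up 2 1137 2))) (.node (.leaf (.up 4 1377 2)) (.leaf (.up 4 1808 2))))))))

noncomputable def vt6_2_1101 : Tr VStep :=
  .node (.node (.node (.node (.node (.node (.node (.leaf (.root 2631)) (.leaf (.up 4 1641 2))) (.node (.leaf (.up 4 1913 2)) (.leaf (.up 3 1288 2)))) (.node (.node (.leaf (.up 2 611 0)) (.leaf (.up 4 1732 1))) (.node (.leaf (.up 4 1199 0)) (.leaf (.up 4 461 2))))) (.node (.node (.node (.leaf (.root 5332)) (.leaf (.up 2 657 2))) (.node (.leaf (.up 3 1190 0)) (.leaf (.up 3 1539 0)))) (.node (.node (.leaf (.up 3 1061 2)) (.leaf (.up 3 616 1))) (.node (.leaf (.up 4 669 0)) (.leaf (.up 1 38 1)))))) (.node (.node (.node (.node (.leaf (.up 1 19 1)) (.leaf (.up 1 197 0)))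 (.node (.leaf (.up 4 1036 2)) (.leaf (.up 2 1661 2)))) (.node (.node (.leaf (.up 4 936 2)) (.leaf (.up 4 473 2))) (.node (.leaf (.up 2 228 1)) (.leaf (.up 1 50 0))))) (.node (.node (.node (.leaf (.up 2 917 2)) (.leaf (.up 3 484 2))) (.node (.leaf (.up 2 670 0)) (.leaf (.up 1 59 0)))) (.node (.node (.leaf (.up 2 1872 2)) (.leaf (.up 2 1021 1))) (.node (.leaf (.up 3 1096 1)) (.leaf (.up 2 435 1))))))) (.node (.node (.node (.node (.node (.leaf (.root 4404)) (.leaf (.up 4 1504 0))) (.node (.leaf (.up 4 407 1)) (.leaf (.up 2 1145 2)))) (.node (.node (.leaf (.up 3 352 1)) (.leaf (.up 3 1179 1))) (.node (.leaf (.up 2 814 1)) (.leaf (.up 3 1303 0))))) (.node (.node (.node (.leaf (.up 2 401 2)) (.leaf (.up 2 992 2))) (.node (.leaf (.up 3 1979 0)) (.leaf (.up 3 1310 0)))) (.node (.node (.leaf (.up 2 1364 2)) (.leaf (.up 1 55 1))) (.node (.leaf (.up 3 384 0)) (.leaf (.up 2 805 0)))))) (.node (.node (.node (.node (.leaf (.up 2 1564 2)) (.leaf (.up 2 984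 0))) (.node (.leaf (.up 1 2 1)) (.leaf (.up 2 1300 0)))) (.node (.node (.leaf (.up 3 1862 0)) (.leaf (.up 2 168 2))) (.node (.leaf (.up 4 440 2)) (.leaf (.up 4 969 2))))) (.node (.node (.node (.leaf (.root 2636)) (.leaf (.up 1 149 2))) (.node (.leaf (.up 3 387 0)) (.leaf (.up 2 1012 2)))) (.node (.node (.leaf (.up 1 372 0)) (.leaf (.up 3 1104 2))) (.node (.leaf (.up 2 1344 2)) (.leaf (.up 2 1841 2)))))))) (.node (.node (.node (.node (.node (.node (.leaf (.root 2970)) (.leaf (.up 4 685 1))) (.node (.leaf (.up 2 1304 1)) (.leaf (.up 3 1656 2)))) (.node (.node (.leaf (.up 4 1005 0)) (.leaf (.up 2 476 2))) (.node (.leaf (.up 3 1313 0)) (.leaf (.up 3 701 2))))) (.node (.node (.node (.leaf (.root 6154)) (.leaf (.up 2 1537 1))) (.node (.leaf (.up 1 241 2)) (.leaf (.up 2 1103 1)))) (.node (.node (.leaf (.up 3 1877 2)) (.leaf (.up 3 1208 1))) (.node (.leaf (.up 3 1076 2)) (.leaf (.up 4 438 0)))))) (.node (.node (.node (.node (.leaf (.up 3 1053 2))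 (.leaf (.up 4 1644 2))) (.node (.leaf (.up 3 1314 0)) (.leaf (.up 3 1927 0)))) (.node (.node (.leaf (.up 4 216 2)) (.leaf (.up 4 681 2))) (.node (.leaf (.up 2 953 2)) (.leaf (.up 4 456 2))))) (.node (.node (.node (.leaf (.up 3 229 2)) (.leaf (.up 4 1913 0))) (.node (.leaf (.up 1 33 1)) (.leaf (.up 2 437 0)))) (.node (.node (.leaf (.up 4 999 0)) (.leaf (.up 3 1325 1))) (.node (.leaf (.up 4 1323 0)) (.leaf (.up 4 1934 0))))))) (.node (.node (.node (.node (.node (.leaf (.root 3068)) (.leaf (.up 4 1134 0))) (.node (.leaf (.up 3 7 0)) (.leaf (.up 2 1801 2)))) (.node (.node (.leaf (.up 3 1968 1)) (.leaf (.up 4 597 0))) (.node (.leaf (.up 4 1596 0)) (.leaf (.up 1 5 1))))) (.node (.node (.node (.leaf (.root 2868)) (.leaf (.up 3 604 0))) (.node (.leaf (.up 3 384 2)) (.leaf (.up 4 1552 1)))) (.node (.node (.leaf (.up 2 1730 0)) (.leaf (.up 2 1109 2))) (.node (.leaf (.up 1 14 0)) (.leaf (.up 2 1844 2)))))) (.node (.node (.node (.node (.leaf (.up 3 243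 0)) (.leaf (.up 3 598 0))) (.node (.leaf (.up 3 1599 0)) (.leaf (.up 3 1178 0)))) (.node (.node (.leaf (.up 3 1573 1)) (.leaf (.up 2 984 2))) (.node (.leaf (.up 1 4 0)) (.leaf (.up 2 185 2))))) (.node (.node (.node (.leaf (.up 1 48 1)) (.leaf (.up 3 1483 1))) (.node (.leaf (.up 1 13 0)) (.leaf (.up 2 1925 1)))) (.node (.node (.leaf (.up 3 250 0)) (.leaf (.up 4 607 0))) (.node (.leaf (.up 3 1584 2)) (.leaf (.up 2 1089 2))))))))

noncomputable def vt6_2_110 : Tr VStep := .node vt6_2_1100 vt6_2_1101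

noncomputable def vt6_2_1110 : Tr VStep :=
  .node (.node (.node (.node (.node (.node (.node (.leaf (.up 2 2018 2)) (.leaf (.up 2 1653 1))) (.node (.leaf (.up 2 1271 0)) (.leaf (.up 3 1618 0)))) (.node (.node (.leaf (.up 3 807 2)) (.leaf (.up 2 1701 0))) (.node (.leaf (.up 4 70 2)) (.leaf (.up 4 567 2))))) (.node (.node (.node (.leaf (.up 3 1033 0)) (.leaf (.up 2 1708 0))) (.node (.leaf (.up 3 709 0)) (.leaf (.up 1 96 0)))) (.node (.node (.leaf (.up 4 562 0)) (.leaf (.up 1 96 1))) (.node (.leaf (.up 3 2005 1)) (.leaf (.up 2 558 1)))))) (.node (.node (.node (.node (.leaf (.up 3 539 1)) (.leaf (.up 3 2016 1))) (.node (.leaf (.up 3 2038 2)) (.leaf (.up 2 1415 2)))) (.node (.node (.leaf (.up 3 162 1)) (.leaf (.up 3 1369 1))) (.node (.leaf (.up 2 748 1)) (.leaf (.up 4 1617 0))))) (.node (.node (.node (.leaf (.up 2 111 2)) (.leaf (.up 2 844 1))) (.node (.leaf (.up 2 1277 0)) (.leaf (.up 4 1624 0)))) (.node (.node (.leaf (.up 3 1194 2)) (.leaf (.up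 2 1711 0))) (.node (.leaf (.up 3 1995 2)) (.leaf (.up 2 955 1))))))) (.node (.node (.node (.node (.node (.leaf (.root 4174)) (.leaf (.up 3 1066 1))) (.node (.leaf (.up 3 2026 0)) (.leaf (.up 3 1359 0)))) (.node (.node (.leaf (.up 2 872 1)) (.leaf (.up 1 39 2))) (.node (.leaf (.up 2 294 1)) (.leaf (.up 3 1245 1))))) (.node (.node (.node (.leaf (.up 2 619 2)) (.leaf (.up 1 26 2))) (.node (.leaf (.up 3 472 0)) (.leaf (.up 2 891 2)))) (.node (.node (.leaf (.up 4 303 0)) (.leaf (.up 4 906 0))) (.node (.leaf (.up 2 1487 2)) (.leaf (.up 4 1350 0)))))) (.node (.node (.node (.node (.leaf (.up 2 1510 2)) (.leaf (.up 3 1467 0))) (.node (.leaf (.up 2 1671 2)) (.leaf (.up 4 887 0)))) (.node (.node (.leaf (.up 4 293 0)) (.leaf (.up 4 896 0))) (.node (.leaf (.up 4 2025 0)) (.leaf (.up 4 1356 0))))) (.node (.node (.node (.leaf (.root 4730)) (.leaf (.up 3 879 2))) (.node (.leaf (.up 3 2016 0)) (.leaf (.up 1 14 2)))) (.node (.node (.leaf (.up 4 1499 2)) (.leaf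 (.up 3 1458 0))) (.node (.leaf (.up 3 1055 1)) (.leaf (.up 3 484 1)))))))) (.node (.node (.node (.node (.node (.node (.leaf (.root 4896)) (.leaf (.up 1 165 1))) (.node (.leaf (.up 4 1808 1)) (.leaf (.up 2 2012 0)))) (.node (.node (.leaf (.up 4 2023 1)) (.leaf (.up 2 550 2))) (.node (.leaf (.up 4 822 2)) (.leaf (.up 4 327 2))))) (.node (.node (.node (.leaf (.up 2 1415 0)) (.leaf (.up 3 539 2))) (.node (.leaf (.up 3 843 0)) (.leaf (.up 3 378 2)))) (.node (.node (.leaf (.up 3 843 1)) (.leaf (.up 3 1712 1))) (.node (.leaf (.up 2 261 1)) (.leaf (.up 3 2005 0)))))) (.node (.node (.node (.node (.leaf (.up 4 2023 2)) (.leaf (.up 4 1430 2))) (.node (.leaf (.up 4 833 0)) (.leaf (.up 3 484 0)))) (.node (.node (.leaf (.up 2 802 2)) (.leaf (.up 3 275 0))) (.node (.leaf (.up 2 1084 1)) (.leaf (.up 4 562 2))))) (.node (.node (.node (.leaf (.up 3 799 2)) (.leaf (.up 2 366 2))) (.node (.leaf (.up 4 1395 0)) (.leaf (.up 2 2006 0)))) (.node (.node (.leaf (.up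 3 1412 0)) (.leaf (.up 2 1451 2))) (.node (.leaf (.up 3 840 0)) (.leaf (.up 3 1738 2))))))) (.node (.node (.node (.node (.node (.leaf (.root 5228)) (.leaf (.up 3 762 1))) (.node (.leaf (.up 3 1359 1)) (.leaf (.up 3 180 1)))) (.node (.node (.leaf (.up 2 294 2)) (.leaf (.up 3 855 2))) (.node (.leaf (.up 3 2038 1)) (.leaf (.up 3 762 0))))) (.node (.node (.node (.leaf (.up 3 1690 0)) (.leaf (.up 3 1087 0))) (.node (.leaf (.up 2 86 0)) (.leaf (.up 1 11 2)))) (.node (.node (.leaf (.up 4 1502 2)) (.leaf (.up 2 516 0))) (.node (.leaf (.up 3 1645 0)) (.leaf (.up 3 1224 0)))))) (.node (.node (.node (.node (.leaf (.root 3964)) (.leaf (.up 3 879 1))) (.node (.leaf (.up 2 92 0)) (.leaf (.up 2 289 1)))) (.node (.node (.leaf (.up 3 171 0)) (.leaf (.up 1 34 2))) (.node (.leaf (.up 3 306 2)) (.leaf (.up 3 920 1))))) (.node (.node (.node (.leaf (.up 3 162 0)) (.leaf (.up 1 31 2))) (.node (.leaf (.up 2 1646 0)) (.leaf (.up 4 1227 0)))) (.node (.node (.leaf (.up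 3 1689 0)) (.leaf (.up 2 1084 0))) (.node (.leaf (.up 3 85 0)) (.leaf (.up 2 1844 1))))))))

noncomputable def vt6_2_1111 : Tr VStep :=
  .node (.node (.node (.node (.node (.node (.node (.leaf (.root 4342)) (.leaf (.up 2 1730 2))) (.node (.leaf (.up 2 589 0)) (.leaf (.up 2 1443 2)))) (.node (.node (.leaf (.up 2 698 0)) (.leaf (.up 1 31 0))) (.node (.leaf (.up 4 822 1)) (.leaf (.up 2 1741 1))))) (.node (.node (.node (.leaf (.up 2 75 2)) (.leaf (.up 1 22 0))) (.node (.leaf (.up 3 1151 0)) (.leaf (.up 4 216 1)))) (.node (.node (.leaf (.up 3 1160 0)) (.leaf (.up 3 1791 2))) (.node (.leaf (.up 3 1946 1)) (.leaf (.up 3 609 1)))))) (.node (.node (.node (.node (.leaf (.up 2 1990 2)) (.leaf (.up 1 28 0))) (.node (.leaf (.up 1 26 1)) (.leaf (.up 3 1744 0)))) (.node (.node (.leaf (.up 4 1154 0)) (.leaf (.up 2 1302 1))) (.node (.leaf (.up 1 98 2)) (.leaf (.up 1 235 0))))) (.node (.node (.node (.leaf (.up 3 1163 0)) (.leaf (.up 3 1582 0))) (.node (.leaf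 (.up 4 583 0)) (.leaf (.up 2 558 2)))) (.node (.node (.leaf (.up 2 1089 1)) (.leaf (.up 1 21 0))) (.node (.leaf (.up 3 1178 2)) (.leaf (.up 2 1012 1))))))) (.node (.node (.node (.node (.node (.leaf (.up 2 1474 2)) (.leaf (.up 3 1125 1))) (.node (.leaf (.up 3 976 1)) (.leaf (.up 3 1234 2)))) (.node (.node (.leaf (.up 3 807 1)) (.leaf (.up 3 1756 1))) (.node (.leaf (.up 4 614 2)) (.leaf (.up 1 23 2))))) (.node (.node (.node (.leaf (.up 4 314 2)) (.leaf (.up 3 843 2))) (.node (.leaf (.up 3 1890 0)) (.leaf (.up 1 42 2)))) (.node (.node (.leaf (.up 2 1931 1)) (.leaf (.up 4 1934 2))) (.node (.leaf (.up 4 1694 2)) (.leaf (.up 2 1020 0)))))) (.node (.node (.node (.node (.leaf (.up 1 11 1)) (.leaf (.up 2 769 0))) (.node (.leaf (.up 2 1494 2)) (.leaf (.up 4 1485 0)))) (.node (.node (.leaf (.up 2 690 1)) (.leaf (.up 1 3 2))) (.node (.leaf (.up 2 252 1)) (.leaf (.up 2 866 2))))) (.node (.node (.node (.leaf (.up 2 591 2)) (.leaf (.up 3 1331 0))) (.node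 (.leaf (.up 4 302 2)) (.leaf (.up 4 1023 0)))) (.node (.node (.leaf (.up 4 1674 2)) (.leaf (.up 4 1275 2))) (.node (.leaf (.up 3 1104 1)) (.leaf (.up 3 1946 2)))))))) (.node (.node (.node (.node (.node (.node (.leaf (.root 4564)) (.leaf (.up 2 234 1))) (.node (.leaf (.up 4 1887 1)) (.leaf (.up 3 358 0)))) (.node (.node (.leaf (.up 4 1960 1)) (.leaf (.up 2 401 0))) (.node (.leaf (.up 2 1510 1)) (.leaf (.up 3 1885 0))))) (.node (.node (.node (.leaf (.up 3 829 0)) (.leaf (.up 4 1094 1))) (.node (.leaf (.up 4 1521 0)) (.leaf (.up 4 1876 0)))) (.node (.node (.leaf (.up 4 1286 0)) (.leaf (.up 3 1791 1))) (.node (.leaf (.up 4 970 0)) (.leaf (.up 3 367 0)))))) (.node (.node (.node (.node (.leaf (.up 4 823 0)) (.leaf (.up 3 402 0))) (.node (.leaf (.up 3 1738 1)) (.leaf (.up 3 817 1)))) (.node (.node (.leaf (.up 1 115 2)) (.leaf (.up 4 1961 0))) (.node (.leaf (.up 4 960 0)) (.leaf (.up 3 392 1))))) (.node (.node (.node (.leaf (.up 1 40 1)) (.leaf (.up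 4 575 2))) (.node (.leaf (.up 4 969 0)) (.leaf (.up 4 364 0)))) (.node (.node (.leaf (.up 2 657 1)) (.leaf (.up 4 411 0))) (.node (.leaf (.up 2 223 1)) (.leaf (.up 4 1435 2))))))) (.node (.node (.node (.node (.node (.leaf (.root 4360)) (.leaf (.up 2 1219 2))) (.node (.leaf (.up 3 1280 1)) (.leaf (.up 2 251 1)))) (.node (.node (.leaf (.up 1 41 0)) (.leaf (.up 1 6 2))) (.node (.leaf (.up 3 1765 0)) (.leaf (.up 3 1088 0))))) (.node (.node (.node (.leaf (.up 1 32 0)) (.leaf (.up 1 59 2))) (.node (.leaf (.up 4 299 2)) (.leaf (.up 4 1097 0)))) (.node (.node (.leaf (.up 4 1563 0)) (.leaf (.up 4 1214 0))) (.node (.leaf (.up 4 215 0)) (.leaf (.up 3 626 0)))))) (.node (.node (.node (.node (.leaf (.up 1 42 0)) (.leaf (.up 2 800 1))) (.node (.leaf (.up 4 1766 0)) (.leaf (.up 2 366 1)))) (.node (.node (.leaf (.up 4 1553 0)) (.leaf (.up 2 409 1))) (.node (.leaf (.up 2 611 2)) (.leaf (.up 1 18 2))))) (.node (.node (.node (.leaf (.up 2 319 2)) (.leaf (.up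 3 1932 1))) (.node (.leaf (.up 3 212 0)) (.leaf (.up 2 1474 1)))) (.node (.node (.leaf (.up 3 35 0)) (.leaf (.up 2 1931 2))) (.node (.leaf (.up 3 1691 2)) (.leaf (.up 3 1258 2))))))))

noncomputable def vt6_2_111 : Tr VStep := .node vt6_2_1110 vt6_2_1111

noncomputable def vt6_2_11 : Tr VStep := .node vt6_2_110 vt6_2_111

noncomputable def vt6_2_1 : Tr VStep := .node vt6_2_10 vt6_2_11

noncomputable def vt6_2_ : Tr VStep := .node vt6_2_0 vt6_2_1

noncomputable def vt6_3_0000 : Tr VStep :=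
  .node (.node (.node (.node (.node (.node (.node (.leaf (.root 5040)) (.leaf (.up 1 311 0))) (.node (.leaf (.root 4810)) (.leaf (.up 1 435 0)))) (.node (.node (.leaf (.root 3114)) (.leaf (.up 1 222 0))) (.node (.leaf (.root 4618)) (.leaf (.up 1 90 0))))) (.node (.node (.node (.leaf (.root 3434)) (.leaf (.up 2 1884 1))) (.node (.leaf (.up 2 1331 1)) (.leaf (.up 1 951 0)))) (.node (.node (.leaf (.root 6438)) (.leaf (.up 1 730 0))) (.node (.leaf (.root 5398)) (.leaf (.up 2 1307 1)))))) (.node (.node (.node (.node (.leaf (.root 3738)) (.leaf (.up 1 578 0))) (.node (.leaf (.root 4858)) (.leaf (.up 1 710 0)))) (.node (.node (.leaf (.root 3974)) (.leaf (.up 1 939 0))) (.node (.leaf (.root 3990)) (.leaf (.up 2 1542 1))))) (.node (.node (.node (.leaf (.root 6422)) (.leaf (.up 2 634 1))) (.node (.leaf (.up 1 21 1)) (.leaf (.up 1 52 1)))) (.node (.node (.leaf (.up 2 594 1)) (.leaf (.up 1 431 0))) (.node (.leaf (.up 1 28 1)) (.leaf (.up 1 61 1)))))))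 (.node (.node (.node (.node (.node (.leaf (.root 3126)) (.leaf (.root 3170))) (.node (.leaf (.root 4392)) (.leaf (.up 2 1832 1)))) (.node (.node (.leaf (.root 4206)) (.leaf (.up 2 1391 1))) (.node (.leaf (.up 2 1792 1)) (.leaf (.root 2682))))) (.node (.node (.node (.leaf (.root 3748)) (.leaf (.up 1 861 1))) (.node (.leaf (.up 1 306 1)) (.leaf (.up 1 275 1)))) (.node (.node (.leaf (.up 1 15 0)) (.leaf (.up 2 852 1))) (.node (.leaf (.up 1 139 0)) (.leaf (.up 1 282 1)))))) (.node (.node (.node (.node (.leaf (.root 5972)) (.leaf (.up 1 64 1))) (.node (.leaf (.up 1 19 0)) (.leaf (.up 2 526 1)))) (.node (.node (.leaf (.up 1 104 1)) (.leaf (.up 1 73 1))) (.node (.leaf (.up 2 550 1)) (.leaf (.up 1 519 1))))) (.node (.node (.node (.leaf (.root 3142)) (.leaf (.root 5350))) (.node (.leaf (.up 1 535 0)) (.leaf (.up 2 1077 1)))) (.node (.node (.leaf (.root 5772)) (.leaf (.up 2 1650 1))) (.node (.leaf (.up 2 1053 1)) (.leaf (.up 1 1084 1)))))))) (.node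 (.node (.node (.node (.node (.node (.leaf (.root 3626)) (.leaf (.up 1 535 1))) (.node (.leaf (.up 1 120 1)) (.leaf (.up 1 89 1)))) (.node (.node (.leaf (.up 1 165 0)) (.leaf (.up 1 542 1))) (.node (.leaf (.up 1 33 0)) (.leaf (.up 1 80 1))))) (.node (.node (.node (.leaf (.root 3870)) (.leaf (.up 2 1068 1))) (.node (.leaf (.up 2 1603 1)) (.leaf (.up 1 1634 1)))) (.node (.node (.leaf (.up 2 1028 1)) (.leaf (.up 1 1061 1))) (.node (.leaf (.up 1 549 0)) (.leaf (.up 2 1643 1)))))) (.node (.node (.node (.node (.leaf (.root 3022)) (.leaf (.up 2 1841 1))) (.node (.leaf (.root 3962)) (.leaf (.up 2 1407 1)))) (.node (.node (.leaf (.root 3702)) (.leaf (.up 2 1848 1))) (.node (.leaf (.root 5146)) (.leaf (.up 2 1398 1))))) (.node (.node (.node (.leaf (.up 1 61 0)) (.leaf (.up 2 266 1))) (.node (.leaf (.up 1 185 0)) (.leaf (.up 1 836 1)))) (.node (.node (.leaf (.up 1 290 1)) (.leaf (.up 1 259 1))) (.node (.leaf (.up 1 336 0)) (.leaf (.up 2 845 1))))))) (.node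 (.node (.node (.node (.node (.leaf (.root 5082)) (.leaf (.up 1 921 0))) (.node (.leaf (.root 5402)) (.leaf (.up 2 1112 1)))) (.node (.node (.leaf (.root 2640)) (.leaf (.up 2 1567 1))) (.node (.leaf (.up 2 1136 1)) (.leaf (.up 1 756 0))))) (.node (.node (.node (.leaf (.up 1 12 1)) (.leaf (.up 1 45 1))) (.node (.leaf (.up 1 578 1)) (.leaf (.up 1 281 0)))) (.node (.node (.leaf (.up 1 5 1)) (.leaf (.up 1 36 1))) (.node (.leaf (.up 1 587 1)) (.leaf (.up 1 240 0)))))) (.node (.node (.node (.node (.leaf (.root 4830)) (.leaf (.up 1 236 0))) (.node (.leaf (.up 1 351 1)) (.leaf (.up 1 104 0)))) (.node (.node (.leaf (.root 4934)) (.leaf (.up 1 261 0))) (.node (.leaf (.up 2 342 1)) (.leaf (.up 1 375 1))))) (.node (.node (.node (.leaf (.root 5658)) (.leaf (.up 1 744 0))) (.node (.leaf (.root 3638)) (.leaf (.up 1 620 0)))) (.node (.node (.leaf (.root 3090)) (.leaf (.up 2 1282 1))) (.node (.leaf (.up 2 1901 1)) (.leaf (.up 1 901 0))))))))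

noncomputable def vt6_3_0001 : Tr VStep :=
  .node (.node (.node (.node (.node (.node (.node (.leaf (.root 3794)) (.leaf (.up 1 102 1))) (.node (.leaf (.root 5278)) (.leaf (.up 1 552 1)))) (.node (.node (.leaf (.up 1 78 1)) (.leaf (.up 1 111 1))) (.node (.leaf (.up 1 512 1)) (.leaf (.up 1 545 1))))) (.node (.node (.node (.leaf (.root 4096)) (.leaf (.up 2 1629 1))) (.node (.leaf (.up 1 8 0)) (.leaf (.up 1 1043 1)))) (.node (.node (.leaf (.up 2 1653 1)) (.leaf (.up 1 1085 0))) (.node (.leaf (.up 1 481 0)) (.leaf (.up 2 1050 1)))))) (.node (.node (.node (.node (.leaf (.root 4546)) (.leaf (.up 2 1344 1))) (.node (.leaf (.up 1 377 0)) (.leaf (.up 1 1057 0)))) (.node (.node (.leaf (.up 1 20 0)) (.leaf (.root 4556))) (.node (.leaf (.up 1 144 0)) (.leaf (.up 2 1799 1))))) (.node (.node (.node (.leaf (.root 3910)) (.leaf (.up 2 891 1))) (.node (.leaf (.up 2 276 1)) (.leaf (.up 1 309 1)))) (.node (.node (.leaf (.up 2 851 1)) (.leaf (.up 1 882 1)))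 (.node (.leaf (.up 1 285 1)) (.leaf (.up 1 316 1))))))) (.node (.node (.node (.node (.node (.leaf (.root 5450)) (.leaf (.up 1 93 0))) (.node (.leaf (.root 3510)) (.leaf (.up 2 1577 1)))) (.node (.node (.leaf (.root 3664)) (.leaf (.up 2 1134 1))) (.node (.leaf (.up 2 1537 1)) (.leaf (.up 1 304 0))))) (.node (.node (.node (.leaf (.root 3848)) (.leaf (.up 1 601 0))) (.node (.leaf (.up 1 51 1)) (.leaf (.up 1 18 1)))) (.node (.node (.leaf (.root 5884)) (.leaf (.up 2 597 1))) (.node (.leaf (.up 1 58 1)) (.leaf (.up 1 27 1)))))) (.node (.node (.node (.node (.leaf (.root 5842)) (.leaf (.up 1 321 1))) (.node (.leaf (.root 6164)) (.leaf (.up 2 783 1)))) (.node (.node (.leaf (.root 5856)) (.leaf (.up 2 328 1))) (.node (.leaf (.up 2 807 1)) (.leaf (.up 1 581 0))))) (.node (.node (.node (.leaf (.root 6388)) (.leaf (.up 1 300 0))) (.node (.leaf (.root 5508)) (.leaf (.up 1 424 0)))) (.node (.node (.leaf (.root 5020)) (.leaf (.up 1 197 0))) (.node (.leaf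 (.up 2 1308 1)) (.leaf (.up 1 65 0)))))))) (.node (.node (.node (.node (.node (.node (.leaf (.root 5928)) (.leaf (.up 1 755 0))) (.node (.leaf (.up 1 377 1)) (.leaf (.up 1 344 1)))) (.node (.node (.leaf (.root 4576)) (.leaf (.up 1 794 0))) (.node (.leaf (.up 1 368 1)) (.leaf (.up 1 337 1))))) (.node (.node (.node (.leaf (.root 5030)) (.leaf (.up 1 247 0))) (.node (.leaf (.up 2 1858 1)) (.leaf (.up 1 115 0)))) (.node (.node (.leaf (.up 2 1285 1)) (.leaf (.up 1 286 0))) (.node (.leaf (.root 2730)) (.leaf (.up 1 410 0)))))) (.node (.node (.node (.node (.leaf (.root 5586)) (.leaf (.up 1 390 0))) (.node (.leaf (.root 5786)) (.leaf (.up 1 258 0)))) (.node (.node (.leaf (.root 5934)) (.leaf (.up 1 111 0))) (.node (.leaf (.root 6056)) (.leaf (.up 1 235 0))))) (.node (.node (.node (.leaf (.up 1 42 1)) (.leaf (.up 1 11 1))) (.node (.leaf (.up 2 612 1)) (.leaf (.up 1 581 1)))) (.node (.node (.leaf (.up 1 35 1)) (.leaf (.up 1 2 1))) (.node (.leaf (.up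 1 621 1)) (.leaf (.up 2 588 1))))))) (.node (.node (.node (.node (.node (.leaf (.up 1 38 0)) (.leaf (.root 4220))) (.node (.leaf (.up 1 162 0)) (.leaf (.up 2 1369 1)))) (.node (.node (.leaf (.root 2643)) (.leaf (.up 2 1822 1))) (.node (.leaf (.up 1 331 0)) (.leaf (.up 1 1043 0))))) (.node (.node (.node (.leaf (.root 4452)) (.leaf (.up 1 300 1))) (.node (.leaf (.up 1 678 0)) (.leaf (.up 2 866 1)))) (.node (.node (.leaf (.up 1 260 1)) (.leaf (.up 1 293 1))) (.node (.leaf (.up 1 842 1)) (.leaf (.up 1 875 1)))))) (.node (.node (.node (.node (.leaf (.root 5540)) (.leaf (.up 1 561 1))) (.node (.leaf (.up 1 94 1)) (.leaf (.up 2 127 1)))) (.node (.node (.leaf (.root 3260)) (.leaf (.up 2 568 1))) (.node (.leaf (.up 1 87 1)) (.leaf (.up 1 118 1))))) (.node (.node (.node (.leaf (.root 5942)) (.leaf (.up 1 1034 1))) (.node (.leaf (.up 1 467 0)) (.leaf (.up 2 1604 1)))) (.node (.node (.leaf (.up 1 190 0)) (.leaf (.up 2 1027 1))) (.node (.leaf (.up 1 58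 0)) (.leaf (.up 2 1613 1))))))))

noncomputable def vt6_3_000 : Tr VStep := .node vt6_3_0000 vt6_3_0001

noncomputable def vt6_3_0010 : Tr VStep :=
  .node (.node (.node (.node (.node (.node (.node (.leaf (.root 5348)) (.leaf (.up 1 307 0))) (.node (.leaf (.root 3414)) (.leaf (.up 1 439 0)))) (.node (.node (.leaf (.root 3466)) (.leaf (.up 1 218 0))) (.node (.leaf (.root 6198)) (.leaf (.up 1 94 0))))) (.node (.node (.node (.leaf (.root 2714)) (.leaf (.up 2 1963 1))) (.node (.leaf (.up 2 1476 1)) (.leaf (.up 1 947 0)))) (.node (.node (.leaf (.up 2 1923 1)) (.leaf (.up 1 734 0))) (.node (.leaf (.root 2978)) (.leaf (.up 2 1516 1)))))) (.node (.node (.node (.node (.leaf (.root 4536)) (.leaf (.up 1 582 0))) (.node (.leaf (.root 6150)) (.leaf (.up 1 706 0)))) (.node (.node (.leaf (.root 5346)) (.leaf (.up 1 943 0))) (.node (.leaf (.root 5274)) (.leaf (.up 2 1777 1))))) (.node (.node (.node (.leaf (.root 6352)) (.leaf (.up 1 66 0))) (.node (.leaf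 (.up 1 226 1)) (.leaf (.up 1 195 1)))) (.node (.node (.leaf (.up 2 677 1)) (.leaf (.up 1 427 0))) (.node (.leaf (.up 1 235 1)) (.leaf (.up 2 202 1))))))) (.node (.node (.node (.node (.node (.leaf (.root 6202)) (.leaf (.root 3522))) (.node (.leaf (.root 5730)) (.leaf (.up 2 2015 1)))) (.node (.node (.leaf (.root 4692)) (.leaf (.up 2 1432 1))) (.node (.leaf (.up 2 2039 1)) (.leaf (.root 3532))))) (.node (.node (.node (.leaf (.root 2690)) (.leaf (.up 1 938 1))) (.node (.leaf (.up 1 358 0)) (.leaf (.up 1 484 1)))) (.node (.node (.leaf (.up 1 11 0)) (.leaf (.up 1 931 1))) (.node (.leaf (.up 1 143 0)) (.leaf (.up 1 493 1)))))) (.node (.node (.node (.node (.leaf (.root 4152)) (.leaf (.up 1 183 1))) (.node (.leaf (.up 1 23 0)) (.leaf (.up 2 761 1)))) (.node (.node (.leaf (.up 1 159 1)) (.leaf (.up 1 190 1))) (.node (.leaf (.up 2 721 1)) (.leaf (.up 1 752 1))))) (.node (.node (.node (.leaf (.root 4738)) (.leaf (.root 3496))) (.node (.leaf (.up 1 531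 0)) (.leaf (.up 2 1218 1)))) (.node (.node (.leaf (.root 4870)) (.leaf (.up 2 1669 1))) (.node (.leaf (.up 2 1258 1)) (.leaf (.up 1 1227 1)))))))) (.node (.node (.node (.node (.node (.node (.leaf (.root 2653)) (.leaf (.up 2 736 1))) (.node (.leaf (.up 1 143 1)) (.leaf (.up 1 174 1)))) (.node (.node (.leaf (.up 1 161 0)) (.leaf (.up 1 745 1))) (.node (.leaf (.up 1 37 0)) (.leaf (.up 1 167 1))))) (.node (.node (.node (.leaf (.root 3682)) (.leaf (.up 2 1243 1))) (.node (.leaf (.up 2 1716 1)) (.leaf (.up 2 1685 1)))) (.node (.node (.leaf (.root 4610)) (.leaf (.up 1 1234 1))) (.node (.leaf (.up 1 545 0)) (.leaf (.up 2 1692 1)))))) (.node (.node (.node (.node (.leaf (.root 2928)) (.leaf (.up 2 1990 1))) (.node (.leaf (.root 2637)) (.leaf (.up 2 1416 1)))) (.node (.node (.leaf (.root 3272)) (.leaf (.up 2 1999 1))) (.node (.leaf (.up 1 848 0)) (.leaf (.up 2 1409 1))))) (.node (.node (.node (.leaf (.up 1 57 0)) (.leaf (.up 2 509 1))) (.node (.leaf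 (.up 1 189 0)) (.leaf (.up 1 947 1)))) (.node (.node (.leaf (.up 2 469 1)) (.leaf (.up 1 500 1))) (.node (.leaf (.up 1 340 0)) (.leaf (.up 2 954 1))))))) (.node (.node (.node (.node (.node (.leaf (.root 5038)) (.leaf (.up 1 925 0))) (.node (.leaf (.root 6378)) (.leaf (.up 2 1199 1)))) (.node (.node (.leaf (.root 3134)) (.leaf (.up 2 1768 1))) (.node (.leaf (.up 2 1159 1)) (.leaf (.up 1 752 0))))) (.node (.node (.node (.leaf (.root 2932)) (.leaf (.up 1 218 1))) (.node (.leaf (.root 5872)) (.leaf (.up 1 285 0)))) (.node (.node (.leaf (.up 1 242 1)) (.leaf (.up 1 112 0))) (.node (.leaf (.up 2 700 1)) (.leaf (.up 1 244 0)))))) (.node (.node (.node (.node (.leaf (.up 2 998 1)) (.leaf (.up 1 232 0))) (.node (.leaf (.up 1 424 1)) (.leaf (.up 1 108 0)))) (.node (.node (.leaf (.root 5314)) (.leaf (.up 1 257 0))) (.node (.leaf (.up 2 417 1)) (.leaf (.up 1 384 1))))) (.node (.node (.node (.leaf (.root 5428)) (.leaf (.up 1 748 0))) (.node (.leaf (.root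 5166)) (.leaf (.up 1 616 0)))) (.node (.node (.leaf (.root 3652)) (.leaf (.up 1 773 0))) (.node (.leaf (.up 2 1946 1)) (.leaf (.up 1 897 0))))))))

noncomputable def vt6_3_0011 : Tr VStep :=
  .node (.node (.node (.node (.node (.node (.node (.leaf (.root 3826)) (.leaf (.up 1 145 1))) (.node (.leaf (.up 1 520 0)) (.leaf (.up 1 735 1)))) (.node (.node (.leaf (.up 1 185 1)) (.leaf (.up 1 152 1))) (.node (.leaf (.up 1 759 1)) (.leaf (.up 1 726 1))))) (.node (.node (.node (.leaf (.up 1 136 0)) (.leaf (.up 2 1706 1))) (.node (.leaf (.up 1 12 0)) (.leaf (.up 1 1252 1)))) (.node (.node (.leaf (.up 2 1666 1)) (.leaf (.up 1 1081 0))) (.node (.leaf (.up 1 485 0)) (.leaf (.up 2 1261 1)))))) (.node (.node (.node (.node (.leaf (.root 4438)) (.leaf (.up 2 1463 1))) (.node (.leaf (.up 1 381 0)) (.leaf (.up 1 1061 0)))) (.node (.node (.leaf (.up 1 16 0)) (.leaf (.up 1 1352 0))) (.node (.leaf (.up 1 148 0)) (.leaf (.up 2 2032 1))))) (.node (.node (.node (.leaf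 (.root 4864)) (.leaf (.up 2 908 1))) (.node (.leaf (.up 2 483 1)) (.leaf (.up 1 450 1)))) (.node (.node (.leaf (.up 2 932 1)) (.leaf (.up 1 901 1))) (.node (.leaf (.up 1 490 1)) (.leaf (.up 2 459 1))))))) (.node (.node (.node (.node (.node (.leaf (.root 5880)) (.leaf (.up 1 89 0))) (.node (.leaf (.root 4550)) (.leaf (.up 2 1758 1)))) (.node (.node (.leaf (.root 5752)) (.leaf (.up 2 1177 1))) (.node (.leaf (.up 2 1782 1)) (.leaf (.up 1 308 0))))) (.node (.node (.node (.leaf (.root 3408)) (.leaf (.up 1 605 0))) (.node (.leaf (.up 1 196 1)) (.leaf (.up 1 229 1)))) (.node (.node (.leaf (.root 5778)) (.leaf (.up 1 674 1))) (.node (.leaf (.up 1 205 1)) (.leaf (.up 1 236 1)))))) (.node (.node (.node (.node (.leaf (.root 5748)) (.leaf (.up 1 438 1))) (.node (.leaf (.root 6346)) (.leaf (.up 2 1016 1)))) (.node (.node (.leaf (.root 4860)) (.leaf (.up 2 447 1))) (.node (.leaf (.up 2 976 1)) (.leaf (.up 1 577 0))))) (.node (.node (.node (.leaf (.root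 6320)) (.leaf (.up 1 296 0))) (.node (.leaf (.root 5356)) (.leaf (.up 1 428 0)))) (.node (.node (.leaf (.root 3296)) (.leaf (.up 1 193 0))) (.node (.leaf (.up 2 1515 1)) (.leaf (.up 1 69 0)))))))) (.node (.node (.node (.node (.node (.node (.leaf (.root 4828)) (.leaf (.up 1 759 0))) (.node (.leaf (.up 1 398 1)) (.leaf (.up 1 431 1)))) (.node (.node (.leaf (.root 3096)) (.leaf (.up 1 798 0))) (.node (.leaf (.up 1 391 1)) (.leaf (.up 1 422 1))))) (.node (.node (.node (.leaf (.root 4410)) (.leaf (.up 1 243 0))) (.node (.leaf (.up 2 1973 1)) (.leaf (.up 1 119 0)))) (.node (.node (.leaf (.up 2 1522 1)) (.leaf (.up 1 282 0))) (.node (.leaf (.root 4940)) (.leaf (.up 2 1949 1)))))) (.node (.node (.node (.node (.leaf (.root 4642)) (.leaf (.up 1 386 0))) (.node (.leaf (.up 2 1192 1)) (.leaf (.up 1 262 0)))) (.node (.node (.leaf (.root 6288)) (.leaf (.up 1 107 0))) (.node (.leaf (.root 3734)) (.leaf (.up 1 239 0))))) (.node (.node (.node (.leaf (.root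 3708)) (.leaf (.up 1 252 1))) (.node (.leaf (.up 2 659 1)) (.leaf (.up 1 690 1)))) (.node (.node (.leaf (.up 2 212 1)) (.leaf (.up 1 245 1))) (.node (.leaf (.up 1 666 1)) (.leaf (.up 2 699 1))))))) (.node (.node (.node (.node (.node (.leaf (.up 1 34 0)) (.leaf (.root 3670))) (.node (.leaf (.up 1 166 0)) (.leaf (.up 2 1454 1)))) (.node (.node (.leaf (.root 3074)) (.leaf (.up 2 2025 1))) (.node (.leaf (.up 2 1414 1)) (.leaf (.up 1 1047 0))))) (.node (.node (.node (.leaf (.root 5384)) (.leaf (.up 1 475 1))) (.node (.leaf (.up 1 674 0)) (.leaf (.up 2 917 1)))) (.node (.node (.leaf (.root 2670)) (.leaf (.up 1 466 1))) (.node (.leaf (.up 1 843 0)) (.leaf (.up 1 924 1)))))) (.node (.node (.node (.node (.leaf (.root 2860)) (.leaf (.up 1 710 1))) (.node (.leaf (.up 1 169 1)) (.leaf (.up 1 136 1)))) (.node (.node (.leaf (.root 2904)) (.leaf (.up 2 719 1))) (.node (.leaf (.up 1 160 1)) (.leaf (.up 1 129 1))))) (.node (.node (.node (.leaf (.root 4414))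 (.leaf (.up 1 1035 0))) (.node (.leaf (.up 1 471 0)) (.leaf (.up 2 1715 1)))) (.node (.node (.leaf (.up 1 186 0)) (.leaf (.up 2 1268 1))) (.node (.leaf (.up 1 62 0)) (.leaf (.up 2 1722 1))))))))

noncomputable def vt6_3_001 : Tr VStep := .node vt6_3_0010 vt6_3_0011

noncomputable def vt6_3_00 : Tr VStep := .node vt6_3_000 vt6_3_001

noncomputable def vt6_3_0100 : Tr VStep :=
  .node (.node (.node (.node (.node (.node (.node (.leaf (.root 6234)) (.leaf (.up 1 745 0))) (.node (.leaf (.root 5588)) (.leaf (.up 1 621 0)))) (.node (.node (.leaf (.root 4188)) (.leaf (.up 1 768 0))) (.node (.leaf (.up 2 1951 1)) (.leaf (.up 1 900 0))))) (.node (.node (.node (.leaf (.root 4168)) (.leaf (.up 1 237 0))) (.node (.leaf (.up 1 429 1)) (.leaf (.up 1 105 0)))) (.node (.node (.leaf (.root 6282)) (.leaf (.up 1 260 0))) (.node (.leaf (.up 2 420 1)) (.leaf (.up 1 384 0)))))) (.node (.node (.node (.node (.leaf (.root 4772)) (.leaf (.up 1 223 1))) (.node (.leaf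 (.root 5214)) (.leaf (.up 1 280 0)))) (.node (.node (.leaf (.up 1 247 1)) (.leaf (.up 1 117 0))) (.node (.leaf (.up 2 697 1)) (.leaf (.up 1 241 0))))) (.node (.node (.node (.leaf (.up 2 1733 1)) (.leaf (.up 1 920 0))) (.node (.leaf (.root 4200)) (.leaf (.up 2 1194 1)))) (.node (.node (.leaf (.root 4306)) (.leaf (.up 2 1773 1))) (.node (.leaf (.up 2 1154 1)) (.leaf (.up 1 757 0))))))) (.node (.node (.node (.node (.node (.leaf (.root 3690)) (.leaf (.up 2 504 1))) (.node (.leaf (.up 1 184 0)) (.leaf (.up 1 950 1)))) (.node (.node (.leaf (.root 4768)) (.leaf (.up 1 497 1))) (.node (.leaf (.up 1 337 0)) (.leaf (.up 2 959 1))))) (.node (.node (.node (.leaf (.root 3552)) (.leaf (.up 2 1987 1))) (.node (.leaf (.root 2964)) (.leaf (.up 2 1421 1)))) (.node (.node (.leaf (.root 5436)) (.leaf (.up 2 1994 1))) (.node (.leaf (.up 1 853 0)) (.leaf (.up 2 1412 1)))))) (.node (.node (.node (.node (.leaf (.root 5762)) (.leaf (.up 2 1246 1))) (.node (.leaf (.up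 2 1713 1)) (.leaf (.root 5444)))) (.node (.node (.leaf (.up 2 1270 1)) (.leaf (.up 1 1239 1))) (.node (.leaf (.up 1 548 0)) (.leaf (.up 2 1689 1))))) (.node (.node (.node (.leaf (.root 5486)) (.leaf (.up 2 741 1))) (.node (.leaf (.up 1 138 1)) (.leaf (.up 1 171 1)))) (.node (.node (.leaf (.up 1 164 0)) (.leaf (.up 1 748 1))) (.node (.leaf (.up 1 32 0)) (.leaf (.up 1 162 1)))))))) (.node (.node (.node (.node (.node (.node (.leaf (.root 3378)) (.leaf (.root 5060))) (.node (.leaf (.root 3102)) (.leaf (.up 2 1223 1)))) (.node (.node (.leaf (.root 3338)) (.leaf (.up 2 1664 1))) (.node (.leaf (.up 2 1263 1)) (.leaf (.up 1 1230 1))))) (.node (.node (.node (.leaf (.up 2 147 1)) (.leaf (.up 1 178 1))) (.node (.leaf (.up 1 18 0)) (.leaf (.up 2 764 1)))) (.node (.node (.leaf (.up 1 154 1)) (.leaf (.up 1 187 1))) (.node (.leaf (.up 2 724 1)) (.leaf (.up 1 757 1)))))) (.node (.node (.node (.node (.leaf (.root 3054)) (.leaf (.up 1 943 1))) (.node (.leaf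 (.up 1 355 0)) (.leaf (.up 1 481 1)))) (.node (.node (.leaf (.up 1 14 0)) (.leaf (.up 2 934 1))) (.node (.leaf (.up 1 138 0)) (.leaf (.up 1 488 1))))) (.node (.node (.node (.leaf (.up 2 1461 1)) (.leaf (.root 2824))) (.node (.leaf (.root 5318)) (.leaf (.up 2 2010 1)))) (.node (.node (.leaf (.root 4398)) (.leaf (.up 2 1437 1))) (.node (.leaf (.up 2 2034 1)) (.leaf (.up 2 2003 1))))))) (.node (.node (.node (.node (.node (.leaf (.root 5520)) (.leaf (.up 2 648 1))) (.node (.leaf (.up 1 231 1)) (.leaf (.up 1 195 0)))) (.node (.node (.leaf (.root 3278)) (.leaf (.up 1 430 0))) (.node (.leaf (.up 1 238 1)) (.leaf (.up 1 207 1))))) (.node (.node (.node (.leaf (.root 3992)) (.leaf (.up 1 579 0))) (.node (.leaf (.root 4616)) (.leaf (.up 1 711 0)))) (.node (.node (.leaf (.root 5660)) (.leaf (.up 1 938 0))) (.node (.leaf (.root 6160)) (.leaf (.up 2 1780 1)))))) (.node (.node (.node (.node (.leaf (.root 6192)) (.leaf (.up 2 1966 1))) (.node (.leaf (.up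 2 1473 1)) (.leaf (.up 1 950 0)))) (.node (.node (.leaf (.root 6000)) (.leaf (.up 1 731 0))) (.node (.leaf (.root 2710)) (.leaf (.up 2 1513 1))))) (.node (.node (.node (.leaf (.root 6348)) (.leaf (.up 1 310 0))) (.node (.leaf (.root 5524)) (.leaf (.up 1 434 0)))) (.node (.node (.leaf (.up 1 445 1)) (.leaf (.up 1 223 0))) (.node (.leaf (.root 5244)) (.leaf (.up 1 91 0))))))))

noncomputable def vt6_3_0101 : Tr VStep :=
  .node (.node (.node (.node (.node (.node (.node (.leaf (.root 4010)) (.leaf (.root 3446))) (.node (.leaf (.up 1 466 0)) (.leaf (.up 2 1718 1)))) (.node (.node (.leaf (.up 1 191 0)) (.leaf (.up 2 1265 1))) (.node (.leaf (.up 1 59 0)) (.leaf (.up 2 1727 1))))) (.node (.node (.node (.leaf (.root 2784)) (.leaf (.up 1 707 1))) (.node (.leaf (.up 1 172 1)) (.leaf (.up 2 141 1)))) (.node (.node (.leaf (.root 5900)) (.leaf (.up 2 714 1))) (.node (.leaf (.up 1 165 1)) (.leaf (.up 1 132 1)))))) (.node (.node (.node (.node (.leaf (.root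 3312)) (.leaf (.up 1 478 1))) (.node (.leaf (.root 2770)) (.leaf (.up 2 912 1)))) (.node (.node (.leaf (.root 4718)) (.leaf (.up 1 471 1))) (.node (.leaf (.root 3086)) (.leaf (.up 1 921 1))))) (.node (.node (.node (.leaf (.up 1 39 0)) (.leaf (.root 3076))) (.node (.leaf (.up 1 163 0)) (.leaf (.up 2 1451 1)))) (.node (.node (.leaf (.root 2968)) (.leaf (.up 2 2028 1))) (.node (.leaf (.up 1 330 0)) (.leaf (.up 1 1042 0))))))) (.node (.node (.node (.node (.node (.leaf (.root 5506)) (.leaf (.up 1 249 1))) (.node (.leaf (.up 2 662 1)) (.leaf (.up 1 695 1)))) (.node (.node (.leaf (.up 2 209 1)) (.leaf (.up 1 240 1))) (.node (.leaf (.up 1 671 1)) (.leaf (.up 2 702 1))))) (.node (.node (.node (.leaf (.root 2752)) (.leaf (.up 1 391 0))) (.node (.leaf (.root 3154)) (.leaf (.up 1 259 0)))) (.node (.node (.leaf (.root 3220)) (.leaf (.up 1 110 0))) (.node (.leaf (.root 3902)) (.leaf (.up 1 234 0)))))) (.node (.node (.node (.node (.leaf (.root 3484)) (.leaf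 (.up 1 246 0))) (.node (.leaf (.up 2 1968 1)) (.leaf (.up 1 114 0)))) (.node (.node (.leaf (.up 2 1527 1)) (.leaf (.up 1 287 0))) (.node (.leaf (.root 5242)) (.leaf (.up 2 1944 1))))) (.node (.node (.node (.leaf (.root 6336)) (.leaf (.up 1 754 0))) (.node (.leaf (.up 1 395 1)) (.leaf (.up 1 426 1)))) (.node (.node (.leaf (.root 5546)) (.leaf (.up 1 795 0))) (.node (.leaf (.up 1 386 1)) (.leaf (.up 1 419 1)))))))) (.node (.node (.node (.node (.node (.node (.leaf (.root 6064)) (.leaf (.up 1 301 0))) (.node (.leaf (.root 2946)) (.leaf (.up 1 425 0)))) (.node (.node (.leaf (.root 2630)) (.leaf (.up 1 196 0))) (.node (.leaf (.root 6350)) (.leaf (.up 1 64 0))))) (.node (.node (.node (.leaf (.root 5202)) (.leaf (.up 1 435 1))) (.node (.leaf (.root 4928)) (.leaf (.up 2 1021 1)))) (.node (.node (.leaf (.root 6036)) (.leaf (.up 2 442 1))) (.node (.leaf (.up 2 981 1)) (.leaf (.up 1 580 0)))))) (.node (.node (.node (.node (.leaf (.root 4372)) (.leaf (.up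 1 600 0))) (.node (.leaf (.up 1 193 1)) (.leaf (.up 1 224 1)))) (.node (.node (.leaf (.root 5788)) (.leaf (.up 2 679 1))) (.node (.leaf (.up 1 200 1)) (.leaf (.up 1 233 1))))) (.node (.node (.node (.leaf (.root 6136)) (.leaf (.up 1 92 0))) (.node (.leaf (.root 2657)) (.leaf (.up 2 1755 1)))) (.node (.node (.leaf (.root 2748)) (.leaf (.up 2 1180 1))) (.node (.leaf (.up 2 1779 1)) (.leaf (.up 1 305 0))))))) (.node (.node (.node (.node (.node (.leaf (.root 5938)) (.leaf (.up 2 905 1))) (.node (.leaf (.up 2 486 1)) (.leaf (.up 1 455 1)))) (.node (.node (.leaf (.up 2 929 1)) (.leaf (.up 1 896 1))) (.node (.leaf (.up 1 495 1)) (.leaf (.up 2 462 1))))) (.node (.node (.node (.leaf (.root 2886)) (.leaf (.up 2 1458 1))) (.node (.leaf (.up 1 376 0)) (.leaf (.up 1 1056 0)))) (.node (.node (.leaf (.up 1 21 0)) (.leaf (.up 1 1357 0))) (.node (.leaf (.up 1 145 0)) (.leaf (.up 2 2037 1)))))) (.node (.node (.node (.node (.leaf (.root 2908)) (.leaf (.up 2 1711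 1))) (.node (.leaf (.up 1 9 0)) (.leaf (.up 1 1249 1)))) (.node (.node (.leaf (.up 2 1671 1)) (.leaf (.up 1 1084 0))) (.node (.leaf (.up 1 480 0)) (.leaf (.up 2 1256 1))))) (.node (.node (.node (.leaf (.up 1 181 1)) (.leaf (.up 1 148 1))) (.node (.leaf (.up 1 525 0)) (.leaf (.up 1 730 1)))) (.node (.node (.leaf (.up 1 188 1)) (.leaf (.up 1 157 1))) (.node (.leaf (.up 1 754 1)) (.leaf (.up 1 723 1))))))))

noncomputable def vt6_3_010 : Tr VStep := .node vt6_3_0100 vt6_3_0101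

noncomputable def vt6_3_0110 : Tr VStep :=
  .node (.node (.node (.node (.node (.node (.node (.leaf (.root 4484)) (.leaf (.up 1 749 0))) (.node (.leaf (.root 5804)) (.leaf (.up 1 617 0)))) (.node (.node (.leaf (.root 3874)) (.leaf (.up 1 772 0))) (.node (.leaf (.up 2 1896 1)) (.leaf (.up 1 896 0))))) (.node (.node (.node (.leaf (.up 2 788 1)) (.leaf (.up 1 233 0))) (.node (.leaf (.up 1 346 1)) (.leaf (.up 1 109 0)))) (.node (.node (.leaf (.root 5998)) (.leaf (.up 1 256 0))) (.node (.leaf (.up 2 339 1)) (.leaf (.up 1 370 1)))))) (.node (.node (.node (.node (.leaf (.up 1 9 1)) (.leaf (.up 1 40 1))) (.node (.leaf (.root 6168)) (.leaf (.up 1 284 0)))) (.node (.node (.leaf (.up 1 0 1)) (.leaf (.up 1 33 1))) (.node (.leaf (.up 1 590 1)) (.leaf (.up 1 245 0))))) (.node (.node (.node (.leaf (.up 2 1586 1)) (.leaf (.up 1 924 0))) (.node (.leaf (.root 4722)) (.leaf (.up 2 1117 1)))) (.node (.node (.leaf (.root 3354)) (.leaf (.up 2 1562 1))) (.node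 (.leaf (.up 2 1141 1)) (.leaf (.up 1 753 0))))))) (.node (.node (.node (.node (.node (.leaf (.root 3630)) (.leaf (.up 2 271 1))) (.node (.leaf (.up 1 188 0)) (.leaf (.up 1 833 1)))) (.node (.node (.leaf (.up 2 295 1)) (.leaf (.up 1 262 1))) (.node (.leaf (.up 1 341 0)) (.leaf (.up 2 840 1))))) (.node (.node (.node (.leaf (.root 3422)) (.leaf (.up 2 1844 1))) (.node (.leaf (.root 4432)) (.leaf (.up 2 1402 1)))) (.node (.node (.leaf (.root 3518)) (.leaf (.up 2 1853 1))) (.node (.leaf (.up 1 849 0)) (.leaf (.up 2 1395 1)))))) (.node (.node (.node (.node (.leaf (.root 3316)) (.leaf (.up 2 1065 1))) (.node (.leaf (.up 2 1606 1)) (.leaf (.up 2 1639 1)))) (.node (.node (.leaf (.root 4178)) (.leaf (.up 1 1056 1))) (.node (.leaf (.up 1 544 0)) (.leaf (.up 2 1646 1))))) (.node (.node (.node (.leaf (.root 4874)) (.leaf (.up 1 530 1))) (.node (.leaf (.up 1 125 1)) (.leaf (.up 1 92 1)))) (.node (.node (.leaf (.up 1 160 0)) (.leaf (.up 1 539 1))) (.node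 (.leaf (.up 1 36 0)) (.leaf (.up 1 85 1)))))))) (.node (.node (.node (.node (.node (.node (.leaf (.root 3362)) (.leaf (.root 4082))) (.node (.leaf (.up 1 530 0)) (.leaf (.up 2 1072 1)))) (.node (.node (.leaf (.root 4514)) (.leaf (.up 2 1655 1))) (.node (.leaf (.up 2 1048 1)) (.leaf (.up 1 1081 1))))) (.node (.node (.node (.leaf (.up 1 100 1)) (.leaf (.up 1 69 1))) (.node (.leaf (.up 1 22 0)) (.leaf (.up 2 523 1)))) (.node (.node (.leaf (.up 1 109 1)) (.leaf (.up 1 76 1))) (.node (.leaf (.up 2 547 1)) (.leaf (.up 1 514 1)))))) (.node (.node (.node (.node (.leaf (.root 3512)) (.leaf (.up 1 856 1))) (.node (.leaf (.up 1 311 1)) (.leaf (.up 1 278 1)))) (.node (.node (.leaf (.up 1 10 0)) (.leaf (.up 1 849 1))) (.node (.leaf (.up 1 142 0)) (.leaf (.up 1 287 1))))) (.node (.node (.node (.leaf (.up 2 1346 1)) (.leaf (.root 2758))) (.node (.leaf (.root 5270)) (.leaf (.up 2 1837 1)))) (.node (.node (.leaf (.root 4568)) (.leaf (.up 2 1386 1))) (.node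 (.leaf (.up 2 1797 1)) (.leaf (.up 1 1828 1))))))) (.node (.node (.node (.node (.node (.leaf (.root 5578)) (.leaf (.up 1 67 0))) (.node (.leaf (.up 1 16 1)) (.leaf (.up 1 49 1)))) (.node (.node (.leaf (.root 3544)) (.leaf (.up 1 426 0))) (.node (.leaf (.up 1 25 1)) (.leaf (.up 2 56 1))))) (.node (.node (.node (.leaf (.root 4632)) (.leaf (.up 2 1092 1))) (.node (.leaf (.root 3204)) (.leaf (.up 1 707 0)))) (.node (.node (.leaf (.root 6208)) (.leaf (.up 1 942 0))) (.node (.leaf (.root 5418)) (.leaf (.up 2 1539 1)))))) (.node (.node (.node (.node (.leaf (.root 4170)) (.leaf (.up 2 1881 1))) (.node (.leaf (.up 2 1334 1)) (.leaf (.up 1 946 0)))) (.node (.node (.leaf (.up 2 1905 1)) (.leaf (.up 1 735 0))) (.node (.leaf (.root 5220)) (.leaf (.up 2 1310 1))))) (.node (.node (.node (.leaf (.root 4016)) (.leaf (.up 1 306 0))) (.node (.leaf (.root 5150)) (.leaf (.up 1 438 0)))) (.node (.node (.leaf (.up 1 330 1)) (.leaf (.up 1 219 0))) (.node (.leaf (.up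 1 772 1)) (.leaf (.up 1 95 0))))))))

noncomputable def vt6_3_0111 : Tr VStep :=
  .node (.node (.node (.node (.node (.node (.node (.leaf (.root 4424)) (.leaf (.up 1 1034 0))) (.node (.leaf (.up 1 470 0)) (.leaf (.up 2 1601 1)))) (.node (.node (.leaf (.up 1 187 0)) (.leaf (.up 2 1030 1))) (.node (.leaf (.up 1 63 0)) (.leaf (.up 2 1608 1))))) (.node (.node (.node (.leaf (.root 3092)) (.leaf (.up 1 564 1))) (.node (.leaf (.up 1 91 1)) (.leaf (.up 1 122 1)))) (.node (.node (.leaf (.root 3698)) (.leaf (.up 2 573 1))) (.node (.leaf (.up 1 82 1)) (.leaf (.up 1 115 1)))))) (.node (.node (.node (.node (.leaf (.root 4624)) (.leaf (.up 1 297 1))) (.node (.leaf (.root 5364)) (.leaf (.up 2 871 1)))) (.node (.node (.leaf (.up 1 257 1)) (.leaf (.up 1 288 1))) (.node (.leaf (.up 1 842 0)) (.leaf (.up 1 878 1))))) (.node (.node (.node (.leaf (.up 1 35 0)) (.leaf (.root 5322))) (.node (.leaf (.up 1 167 0)) (.leaf (.up 2 1372 1)))) (.node (.node (.leaf (.up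 1 458 0)) (.leaf (.up 2 1819 1))) (.node (.leaf (.up 2 1396 1)) (.leaf (.up 1 1046 0))))))) (.node (.node (.node (.node (.node (.leaf (.root 5882)) (.leaf (.up 1 14 1))) (.node (.leaf (.up 2 609 1)) (.leaf (.up 1 576 1)))) (.node (.node (.leaf (.up 1 38 1)) (.leaf (.up 1 7 1))) (.node (.leaf (.up 1 616 1)) (.leaf (.up 2 585 1))))) (.node (.node (.node (.leaf (.root 4710)) (.leaf (.up 1 387 0))) (.node (.leaf (.up 2 1114 1)) (.leaf (.up 1 263 0)))) (.node (.node (.leaf (.root 4302)) (.leaf (.up 1 106 0))) (.node (.leaf (.root 5236)) (.leaf (.up 1 238 0)))))) (.node (.node (.node (.node (.leaf (.root 3456)) (.leaf (.up 1 242 0))) (.node (.leaf (.up 2 1863 1)) (.leaf (.up 1 118 0)))) (.node (.node (.leaf (.up 2 1280 1)) (.leaf (.up 1 283 0))) (.node (.leaf (.root 3288)) (.leaf (.up 2 1903 1))))) (.node (.node (.node (.leaf (.root 4266)) (.leaf (.up 1 758 0))) (.node (.leaf (.up 1 380 1)) (.leaf (.up 1 349 1)))) (.node (.node (.leaf (.root 4606))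 (.leaf (.up 1 794 1))) (.node (.leaf (.up 1 373 1)) (.leaf (.up 1 340 1)))))))) (.node (.node (.node (.node (.node (.node (.leaf (.root 6434)) (.leaf (.up 1 297 0))) (.node (.leaf (.root 3192)) (.leaf (.up 1 429 0)))) (.node (.node (.leaf (.root 5424)) (.leaf (.up 1 192 0))) (.node (.leaf (.root 6386)) (.leaf (.up 1 68 0))))) (.node (.node (.node (.leaf (.root 5280)) (.leaf (.up 1 324 1))) (.node (.leaf (.root 4920)) (.leaf (.up 2 778 1)))) (.node (.node (.leaf (.up 1 364 1)) (.leaf (.up 2 333 1))) (.node (.leaf (.up 2 802 1)) (.leaf (.up 1 576 0)))))) (.node (.node (.node (.node (.leaf (.root 5834)) (.leaf (.up 1 601 1))) (.node (.leaf (.up 1 54 1)) (.leaf (.up 1 23 1)))) (.node (.node (.leaf (.root 5964)) (.leaf (.up 1 592 1))) (.node (.leaf (.up 1 63 1)) (.leaf (.up 1 30 1))))) (.node (.node (.node (.leaf (.root 3706)) (.leaf (.up 1 88 0))) (.node (.leaf (.root 4822)) (.leaf (.up 1 220 0)))) (.node (.node (.leaf (.root 6380)) (.leaf (.up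 2 1131 1))) (.node (.leaf (.up 2 1540 1)) (.leaf (.up 1 309 0))))))) (.node (.node (.node (.node (.node (.leaf (.root 3774)) (.leaf (.up 2 894 1))) (.node (.leaf (.up 2 273 1)) (.leaf (.up 1 304 1)))) (.node (.node (.leaf (.up 2 854 1)) (.leaf (.up 1 887 1))) (.node (.leaf (.up 1 280 1)) (.leaf (.up 1 313 1))))) (.node (.node (.node (.leaf (.root 3564)) (.leaf (.up 2 1349 1))) (.node (.leaf (.up 1 380 0)) (.leaf (.up 1 1060 0)))) (.node (.node (.leaf (.up 1 17 0)) (.leaf (.up 2 1356 1))) (.node (.leaf (.up 1 149 0)) (.leaf (.up 2 1794 1)))))) (.node (.node (.node (.node (.leaf (.root 5132)) (.leaf (.up 2 1624 1))) (.node (.leaf (.up 1 13 0)) (.leaf (.up 1 1046 1)))) (.node (.node (.leaf (.up 2 1648 1)) (.leaf (.up 1 1080 0))) (.node (.leaf (.up 1 484 0)) (.leaf (.up 2 1055 1))))) (.node (.node (.node (.leaf (.up 1 66 1)) (.leaf (.up 1 99 1))) (.node (.leaf (.up 2 524 1)) (.leaf (.up 1 557 1)))) (.node (.node (.leaf (.up 1 75 1)) (.leaf (.up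 1 106 1))) (.node (.leaf (.up 1 517 1)) (.leaf (.up 1 548 1))))))))

noncomputable def vt6_3_011 : Tr VStep := .node vt6_3_0110 vt6_3_0111

noncomputable def vt6_3_01 : Tr VStep := .node vt6_3_010 vt6_3_011

noncomputable def vt6_3_0 : Tr VStep := .node vt6_3_00 vt6_3_01

noncomputable def vt6_3_1000 : Tr VStep :=
  .node (.node (.node (.node (.node (.node (.node (.leaf (.root 4018)) (.leaf (.up 1 358 1))) (.node (.leaf (.root 5104)) (.leaf (.up 1 321 0)))) (.node (.node (.leaf (.root 2740)) (.leaf (.up 1 44 0))) (.node (.leaf (.up 1 768 1)) (.leaf (.up 1 168 0))))) (.node (.node (.node (.leaf (.root 4042)) (.leaf (.up 2 1885 1))) (.node (.leaf (.up 2 1330 1)) (.leaf (.up 1 837 0)))) (.node (.node (.leaf (.up 2 1909 1)) (.leaf (.up 1 552 0))) (.node (.leaf (.root 5896)) (.leaf (.up 2 1306 1)))))) (.node (.node (.node (.node (.leaf (.root 4526)) (.leaf (.up 2 1088 1))) (.node (.leaf (.root 5138)) (.leaf (.up 1 564 0)))) (.node (.node (.leaf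 (.root 4588)) (.leaf (.up 1 857 0))) (.node (.leaf (.root 4020)) (.leaf (.up 2 1543 1))))) (.node (.node (.node (.leaf (.root 5784)) (.leaf (.up 1 180 0))) (.node (.leaf (.up 1 20 1)) (.leaf (.up 1 48 0)))) (.node (.node (.leaf (.up 2 595 1)) (.leaf (.up 1 349 0))) (.node (.leaf (.up 1 29 1)) (.leaf (.up 2 60 1))))))) (.node (.node (.node (.node (.node (.leaf (.root 5192)) (.leaf (.root 4854))) (.node (.leaf (.root 2638)) (.leaf (.up 2 1833 1)))) (.node (.node (.leaf (.root 2796)) (.leaf (.up 2 1390 1))) (.node (.leaf (.up 2 1793 1)) (.leaf (.up 1 1824 1))))) (.node (.node (.node (.leaf (.root 3648)) (.leaf (.up 1 860 1))) (.node (.leaf (.up 1 307 1)) (.leaf (.up 1 274 1)))) (.node (.node (.leaf (.up 1 253 0)) (.leaf (.up 1 853 1))) (.node (.leaf (.up 1 121 0)) (.leaf (.up 1 283 1)))))) (.node (.node (.node (.node (.leaf (.up 1 96 1)) (.leaf (.up 1 65 1))) (.node (.leaf (.up 1 225 0)) (.leaf (.up 2 527 1)))) (.node (.node (.leaf (.up 1 105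 1)) (.leaf (.up 1 72 1))) (.node (.leaf (.up 2 551 1)) (.leaf (.up 1 518 1))))) (.node (.node (.node (.leaf (.root 4888)) (.leaf (.root 2641))) (.node (.leaf (.root 3696)) (.leaf (.up 2 1076 1)))) (.node (.node (.leaf (.root 6222)) (.leaf (.up 2 1651 1))) (.node (.leaf (.up 2 1052 1)) (.leaf (.up 1 1085 1)))))))) (.node (.node (.node (.node (.node (.node (.leaf (.root 3006)) (.leaf (.up 2 534 1))) (.node (.leaf (.up 1 121 1)) (.leaf (.up 1 88 1)))) (.node (.node (.leaf (.up 1 87 0)) (.leaf (.up 1 543 1))) (.node (.leaf (.up 1 112 1)) (.leaf (.up 1 81 1))))) (.node (.node (.node (.leaf (.root 3000)) (.leaf (.up 2 1069 1))) (.node (.leaf (.up 2 1602 1)) (.leaf (.up 1 1635 1)))) (.node (.node (.leaf (.root 3780)) (.leaf (.up 1 1060 1))) (.node (.leaf (.up 1 727 0)) (.leaf (.up 2 1642 1)))))) (.node (.node (.node (.node (.leaf (.root 6046)) (.leaf (.up 2 1840 1))) (.node (.leaf (.up 1 591 0)) (.leaf (.up 2 1406 1)))) (.node (.node (.leaf (.root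 3212)) (.leaf (.up 2 1849 1))) (.node (.leaf (.root 2656)) (.leaf (.up 2 1399 1))))) (.node (.node (.node (.leaf (.up 1 207 0)) (.leaf (.up 2 267 1))) (.node (.leaf (.up 1 75 0)) (.leaf (.up 1 837 1)))) (.node (.node (.leaf (.up 1 291 1)) (.leaf (.up 1 258 1))) (.node (.leaf (.up 1 418 0)) (.leaf (.up 2 844 1))))))) (.node (.node (.node (.node (.node (.leaf (.root 5600)) (.leaf (.up 1 875 0))) (.node (.leaf (.root 2645)) (.leaf (.up 2 1113 1)))) (.node (.node (.leaf (.root 3676)) (.leaf (.up 2 1566 1))) (.node (.leaf (.up 2 1137 1)) (.leaf (.up 1 518 0))))) (.node (.node (.node (.leaf (.up 1 13 1)) (.leaf (.up 1 44 1))) (.node (.leaf (.up 1 579 1)) (.leaf (.up 1 491 0)))) (.node (.node (.leaf (.up 1 4 1)) (.leaf (.up 1 37 1))) (.node (.leaf (.up 1 586 1)) (.leaf (.up 1 2 0)))))) (.node (.node (.node (.node (.leaf (.up 2 784 1)) (.leaf (.up 1 30 0))) (.node (.leaf (.up 1 350 1)) (.leaf (.up 1 154 0)))) (.node (.node (.leaf (.root 5316)) (.leaf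 (.up 2 824 1))) (.node (.leaf (.up 2 343 1)) (.leaf (.up 1 371 0))))) (.node (.node (.node (.leaf (.root 5000)) (.leaf (.up 1 538 0))) (.node (.leaf (.root 3406)) (.leaf (.up 1 670 0)))) (.node (.node (.leaf (.root 4708)) (.leaf (.up 2 1283 1))) (.node (.leaf (.up 2 1900 1)) (.leaf (.up 1 887 0))))))))

noncomputable def vt6_3_1001 : Tr VStep :=
  .node (.node (.node (.node (.node (.node (.node (.leaf (.root 2662)) (.leaf (.up 1 103 1))) (.node (.leaf (.up 1 520 1)) (.leaf (.up 1 553 1)))) (.node (.node (.leaf (.up 1 79 1)) (.leaf (.up 1 110 1))) (.node (.leaf (.up 1 513 1)) (.leaf (.up 1 544 1))))) (.node (.node (.node (.leaf (.up 1 126 0)) (.leaf (.up 2 1628 1))) (.node (.leaf (.up 2 1075 1)) (.leaf (.up 1 1042 1)))) (.node (.node (.leaf (.up 2 1652 1)) (.leaf (.up 1 1231 0))) (.node (.leaf (.up 1 275 0)) (.leaf (.up 2 1051 1)))))) (.node (.node (.node (.node (.leaf (.root 5256)) (.leaf (.up 2 1345 1))) (.node (.leaf (.up 1 395 0)) (.leaf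 (.up 1 1235 0)))) (.node (.node (.leaf (.up 1 230 0)) (.leaf (.up 1 1352 1))) (.node (.leaf (.up 1 98 0)) (.leaf (.up 2 1798 1))))) (.node (.node (.node (.leaf (.root 2956)) (.leaf (.up 2 890 1))) (.node (.leaf (.up 2 277 1)) (.leaf (.up 1 308 1)))) (.node (.node (.leaf (.up 2 850 1)) (.leaf (.up 1 883 1))) (.node (.leaf (.up 1 284 1)) (.leaf (.up 2 317 1))))))) (.node (.node (.node (.node (.node (.leaf (.root 6248)) (.leaf (.up 1 175 0))) (.node (.leaf (.root 4070)) (.leaf (.up 1 43 0)))) (.node (.node (.leaf (.root 6170)) (.leaf (.up 2 1135 1))) (.node (.leaf (.up 2 1536 1)) (.leaf (.up 1 450 0))))) (.node (.node (.node (.leaf (.root 3390)) (.leaf (.up 1 605 1))) (.node (.leaf (.up 1 50 1)) (.leaf (.up 1 19 1)))) (.node (.node (.leaf (.root 6124)) (.leaf (.up 1 596 1))) (.node (.leaf (.up 1 59 1)) (.leaf (.up 1 26 1)))))) (.node (.node (.node (.node (.leaf (.root 3878)) (.leaf (.up 1 320 1))) (.node (.leaf (.root 4486)) (.leaf (.up 2 782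 1)))) (.node (.node (.leaf (.up 1 360 1)) (.leaf (.up 2 329 1))) (.node (.leaf (.up 2 806 1)) (.leaf (.up 1 695 0))))) (.node (.node (.node (.leaf (.root 3070)) (.leaf (.up 1 478 0))) (.node (.leaf (.root 4428)) (.leaf (.up 1 346 0)))) (.node (.node (.leaf (.root 4050)) (.leaf (.up 1 55 0))) (.node (.leaf (.root 5522)) (.leaf (.up 1 179 0)))))))) (.node (.node (.node (.node (.node (.node (.leaf (.root 5036)) (.leaf (.up 1 513 0))) (.node (.leaf (.up 1 376 1)) (.leaf (.up 1 345 1)))) (.node (.node (.leaf (.root 3860)) (.leaf (.up 1 798 1))) (.node (.leaf (.up 1 369 1)) (.leaf (.up 1 336 1))))) (.node (.node (.node (.leaf (.root 5946)) (.leaf (.up 1 5 0))) (.node (.leaf (.up 2 1859 1)) (.leaf (.up 1 129 0)))) (.node (.node (.leaf (.up 2 1284 1)) (.leaf (.up 1 492 0))) (.node (.leaf (.root 3980)) (.leaf (.up 1 360 0)))))) (.node (.node (.node (.node (.leaf (.root 6096)) (.leaf (.up 1 372 0))) (.node (.leaf (.root 5828)) (.leaf (.up 1 496 0))))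 (.node (.node (.leaf (.root 5476)) (.leaf (.up 1 157 0))) (.node (.leaf (.root 5516)) (.leaf (.up 1 25 0))))) (.node (.node (.node (.leaf (.up 1 43 1)) (.leaf (.up 1 10 1))) (.node (.leaf (.up 2 613 1)) (.leaf (.up 1 580 1)))) (.node (.node (.leaf (.up 1 34 1)) (.leaf (.up 1 3 1))) (.node (.leaf (.up 1 620 1)) (.leaf (.up 2 589 1))))))) (.node (.node (.node (.node (.node (.leaf (.root 5924)) (.leaf (.root 3572))) (.node (.leaf (.up 1 80 0)) (.leaf (.up 2 1368 1)))) (.node (.node (.leaf (.root 2806)) (.leaf (.up 2 1823 1))) (.node (.leaf (.up 2 1392 1)) (.leaf (.up 1 1249 0))))) (.node (.node (.node (.leaf (.root 4030)) (.leaf (.up 1 301 1))) (.node (.leaf (.up 1 596 0)) (.leaf (.up 2 867 1)))) (.node (.node (.leaf (.up 1 261 1)) (.leaf (.up 1 292 1))) (.node (.leaf (.up 1 843 1)) (.leaf (.up 1 874 1)))))) (.node (.node (.node (.node (.leaf (.root 2916)) (.leaf (.up 1 560 1))) (.node (.leaf (.up 1 95 1)) (.leaf (.up 1 126 1)))) (.node (.node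 (.leaf (.root 5818)) (.leaf (.up 2 569 1))) (.node (.leaf (.up 1 86 1)) (.leaf (.up 1 119 1))))) (.node (.node (.node (.leaf (.root 3418)) (.leaf (.up 1 1035 1))) (.node (.leaf (.up 1 289 0)) (.leaf (.up 2 1605 1)))) (.node (.node (.leaf (.up 1 76 0)) (.leaf (.up 2 1026 1))) (.node (.leaf (.up 1 200 0)) (.leaf (.up 2 1612 1))))))))

noncomputable def vt6_3_100 : Tr VStep := .node vt6_3_1000 vt6_3_1001

noncomputable def vt6_3_1010 : Tr VStep :=
  .node (.node (.node (.node (.node (.node (.node (.leaf (.root 6166)) (.leaf (.up 1 401 1))) (.node (.leaf (.root 5298)) (.leaf (.up 1 325 0)))) (.node (.node (.leaf (.root 3290)) (.leaf (.up 1 40 0))) (.node (.leaf (.root 5858)) (.leaf (.up 1 172 0))))) (.node (.node (.node (.leaf (.root 2642)) (.leaf (.up 2 1962 1))) (.node (.leaf (.up 2 1477 1)) (.leaf (.up 1 833 0)))) (.node (.node (.leaf (.up 2 1922 1)) (.leaf (.up 1 556 0))) (.node (.leaf (.root 3364)) (.leaf (.up 2 1517 1)))))) (.node (.node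 (.node (.node (.leaf (.root 3398)) (.leaf (.up 1 692 0))) (.node (.leaf (.root 4238)) (.leaf (.up 1 560 0)))) (.node (.node (.leaf (.root 4590)) (.leaf (.up 1 861 0))) (.node (.leaf (.root 4766)) (.leaf (.up 2 1776 1))))) (.node (.node (.node (.leaf (.root 5616)) (.leaf (.up 2 652 1))) (.node (.leaf (.up 1 227 1)) (.leaf (.up 1 52 0)))) (.node (.node (.leaf (.up 2 676 1)) (.leaf (.up 1 345 0))) (.node (.leaf (.up 1 234 1)) (.leaf (.up 1 203 1))))))) (.node (.node (.node (.node (.node (.leaf (.root 6244)) (.leaf (.root 3344))) (.node (.leaf (.root 4012)) (.leaf (.up 2 2014 1)))) (.node (.node (.leaf (.root 3556)) (.leaf (.up 2 1433 1))) (.node (.leaf (.up 2 2038 1)) (.leaf (.up 2 2007 1))))) (.node (.node (.node (.leaf (.root 5592)) (.leaf (.up 1 939 1))) (.node (.leaf (.up 1 404 0)) (.leaf (.up 1 485 1)))) (.node (.node (.leaf (.up 1 249 0)) (.leaf (.up 2 930 1))) (.node (.leaf (.up 1 125 0)) (.leaf (.up 1 492 1)))))) (.node (.node (.node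 (.node (.leaf (.up 2 151 1)) (.leaf (.up 1 182 1))) (.node (.leaf (.up 1 229 0)) (.leaf (.up 2 760 1)))) (.node (.node (.leaf (.up 1 158 1)) (.leaf (.up 1 191 1))) (.node (.leaf (.up 2 720 1)) (.leaf (.up 1 753 1))))) (.node (.node (.node (.leaf (.root 4996)) (.leaf (.root 4332))) (.node (.leaf (.up 1 737 0)) (.leaf (.up 2 1219 1)))) (.node (.node (.leaf (.root 3854)) (.leaf (.up 2 1668 1))) (.node (.leaf (.up 2 1259 1)) (.leaf (.up 1 1226 1)))))))) (.node (.node (.node (.node (.node (.node (.leaf (.root 2633)) (.leaf (.up 1 737 1))) (.node (.leaf (.up 1 142 1)) (.leaf (.up 1 175 1)))) (.node (.node (.leaf (.up 1 83 0)) (.leaf (.up 1 744 1))) (.node (.leaf (.up 1 135 1)) (.leaf (.up 1 166 1))))) (.node (.node (.node (.leaf (.root 5652)) (.leaf (.up 2 1242 1))) (.node (.leaf (.up 2 1717 1)) (.leaf (.up 1 1634 0)))) (.node (.node (.leaf (.up 2 1266 1)) (.leaf (.up 1 1235 1))) (.node (.leaf (.up 1 723 0)) (.leaf (.up 2 1693 1)))))) (.node (.node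 (.node (.node (.leaf (.root 4078)) (.leaf (.up 2 1991 1))) (.node (.leaf (.up 1 587 0)) (.leaf (.up 2 1417 1)))) (.node (.node (.leaf (.root 6144)) (.leaf (.up 2 1998 1))) (.node (.leaf (.root 4344)) (.leaf (.up 2 1408 1))))) (.node (.node (.node (.leaf (.up 1 203 0)) (.leaf (.up 2 508 1))) (.node (.leaf (.up 1 79 0)) (.leaf (.up 1 946 1)))) (.node (.node (.leaf (.up 1 290 0)) (.leaf (.up 1 501 1))) (.node (.leaf (.up 1 422 0)) (.leaf (.up 2 955 1))))))) (.node (.node (.node (.node (.node (.leaf (.up 2 1729 1)) (.leaf (.up 1 879 0))) (.node (.leaf (.root 5032)) (.leaf (.up 2 1198 1)))) (.node (.node (.leaf (.root 5504)) (.leaf (.up 2 1769 1))) (.node (.leaf (.up 2 1158 1)) (.leaf (.up 1 514 0))))) (.node (.node (.node (.leaf (.root 2768)) (.leaf (.up 1 219 1))) (.node (.leaf (.up 1 692 1)) (.leaf (.up 1 495 0)))) (.node (.node (.leaf (.up 1 243 1)) (.leaf (.up 1 130 0))) (.node (.leaf (.up 2 701 1)) (.leaf (.up 1 6 0)))))) (.node (.node (.node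 (.node (.leaf (.root 3374)) (.leaf (.up 1 26 0))) (.node (.leaf (.up 1 425 1)) (.leaf (.up 1 158 0)))) (.node (.node (.leaf (.root 5080)) (.leaf (.up 2 975 1))) (.node (.leaf (.up 2 416 1)) (.leaf (.up 1 375 0))))) (.node (.node (.node (.leaf (.root 5042)) (.leaf (.up 1 542 0))) (.node (.leaf (.root 3624)) (.leaf (.up 1 666 0)))) (.node (.node (.leaf (.root 4234)) (.leaf (.up 2 1524 1))) (.node (.leaf (.up 2 1947 1)) (.leaf (.up 1 883 0))))))))

noncomputable def vt6_3_1011 : Tr VStep :=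
  .node (.node (.node (.node (.node (.node (.node (.leaf (.root 3040)) (.leaf (.up 1 144 1))) (.node (.leaf (.root 2660)) (.leaf (.up 1 734 1)))) (.node (.node (.leaf (.up 1 184 1)) (.leaf (.up 1 153 1))) (.node (.leaf (.up 1 758 1)) (.leaf (.up 1 727 1))))) (.node (.node (.node (.leaf (.up 1 122 0)) (.leaf (.up 2 1707 1))) (.node (.leaf (.up 2 1220 1)) (.leaf (.up 1 1253 1)))) (.node (.node (.leaf (.up 2 1667 1)) (.leaf (.up 1 1227 0))) (.node (.leaf (.up 1 279 0)) (.leaf (.up 2 1260 1)))))) (.node (.node (.node (.node (.leaf (.root 5048)) (.leaf (.up 2 1462 1))) (.node (.leaf (.up 1 399 0)) (.leaf (.up 1 1239 0)))) (.node (.node (.leaf (.up 1 226 0)) (.leaf (.root 5410))) (.node (.leaf (.up 1 102 0)) (.leaf (.up 2 2033 1))))) (.node (.node (.node (.leaf (.root 4056)) (.leaf (.up 2 909 1))) (.node (.leaf (.up 2 482 1)) (.leaf (.up 1 451 1)))) (.node (.node (.leaf (.up 2 933 1)) (.leaf (.up 1 900 1))) (.node (.leaf (.up 1 491 1)) (.leaf (.up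 1 458 1))))))) (.node (.node (.node (.node (.node (.leaf (.root 6402)) (.leaf (.up 1 171 0))) (.node (.leaf (.root 3762)) (.leaf (.up 2 1759 1)))) (.node (.node (.leaf (.root 4636)) (.leaf (.up 2 1176 1))) (.node (.leaf (.up 2 1783 1)) (.leaf (.up 1 454 0))))) (.node (.node (.node (.leaf (.root 5726)) (.leaf (.up 1 682 1))) (.node (.leaf (.up 1 197 1)) (.leaf (.up 1 228 1)))) (.node (.node (.leaf (.root 5962)) (.leaf (.up 2 675 1))) (.node (.leaf (.up 1 204 1)) (.leaf (.up 1 237 1)))))) (.node (.node (.node (.node (.leaf (.root 5954)) (.leaf (.up 1 439 1))) (.node (.leaf (.root 4998)) (.leaf (.up 2 1017 1)))) (.node (.node (.leaf (.root 5136)) (.leaf (.up 2 446 1))) (.node (.leaf (.up 2 977 1)) (.leaf (.up 1 691 0))))) (.node (.node (.node (.leaf (.root 5774)) (.leaf (.up 1 474 0))) (.node (.leaf (.root 4792)) (.leaf (.up 1 350 0)))) (.node (.node (.leaf (.root 2686)) (.leaf (.up 1 51 0))) (.node (.leaf (.up 2 1514 1)) (.leaf (.up 1 183 0))))))))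 (.node (.node (.node (.node (.node (.node (.leaf (.root 4264)) (.leaf (.up 1 517 0))) (.node (.leaf (.up 1 399 1)) (.leaf (.up 1 430 1)))) (.node (.node (.leaf (.root 3936)) (.leaf (.up 1 1001 1))) (.node (.leaf (.up 1 390 1)) (.leaf (.up 1 423 1))))) (.node (.node (.node (.leaf (.root 5296)) (.leaf (.up 1 1 0))) (.node (.leaf (.up 2 1972 1)) (.leaf (.up 1 133 0)))) (.node (.node (.leaf (.up 2 1523 1)) (.leaf (.up 1 488 0))) (.node (.leaf (.root 5708)) (.leaf (.up 1 364 0)))))) (.node (.node (.node (.node (.leaf (.root 5440)) (.leaf (.up 1 368 0))) (.node (.leaf (.root 4472)) (.leaf (.up 1 500 0)))) (.node (.node (.leaf (.root 4300)) (.leaf (.up 1 153 0))) (.node (.leaf (.root 4782)) (.leaf (.up 1 29 0))))) (.node (.node (.node (.leaf (.up 1 220 1)) (.leaf (.up 1 253 1))) (.node (.leaf (.up 2 658 1)) (.leaf (.up 1 691 1)))) (.node (.node (.leaf (.up 2 213 1)) (.leaf (.up 1 244 1))) (.node (.leaf (.up 1 667 1)) (.leaf (.up 2 698 1))))))) (.node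 (.node (.node (.node (.node (.leaf (.root 3028)) (.leaf (.root 3996))) (.node (.leaf (.up 1 84 0)) (.leaf (.up 2 1455 1)))) (.node (.node (.leaf (.up 1 313 0)) (.leaf (.up 2 2024 1))) (.node (.leaf (.up 1 445 0)) (.leaf (.up 1 1253 0))))) (.node (.node (.node (.leaf (.root 3524)) (.leaf (.up 1 474 1))) (.node (.leaf (.up 1 592 0)) (.leaf (.up 2 916 1)))) (.node (.node (.leaf (.root 5290)) (.leaf (.up 1 467 1))) (.node (.leaf (.up 2 956 1)) (.leaf (.up 1 925 1)))))) (.node (.node (.node (.node (.leaf (.root 4244)) (.leaf (.up 1 711 1))) (.node (.leaf (.up 1 168 1)) (.leaf (.up 2 137 1)))) (.node (.node (.leaf (.root 6018)) (.leaf (.up 2 718 1))) (.node (.leaf (.up 1 161 1)) (.leaf (.up 1 128 1))))) (.node (.node (.node (.leaf (.root 3348)) (.leaf (.up 2 1276 1))) (.node (.leaf (.up 1 293 0)) (.leaf (.up 2 1714 1)))) (.node (.node (.leaf (.up 1 72 0)) (.leaf (.up 2 1269 1))) (.node (.leaf (.up 1 204 0)) (.leaf (.up 2 1723 1))))))))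

noncomputable def vt6_3_101 : Tr VStep := .node vt6_3_1010 vt6_3_1011

noncomputable def vt6_3_10 : Tr VStep := .node vt6_3_100 vt6_3_101

noncomputable def vt6_3_1100 : Tr VStep :=
  .node (.node (.node (.node (.node (.node (.node (.leaf (.root 5430)) (.leaf (.up 1 539 0))) (.node (.leaf (.root 4292)) (.leaf (.up 1 671 0)))) (.node (.node (.leaf (.root 2836)) (.leaf (.up 1 1010 0))) (.node (.leaf (.up 2 1950 1)) (.leaf (.up 1 886 0))))) (.node (.node (.node (.leaf (.up 2 994 1)) (.leaf (.up 1 31 0))) (.node (.leaf (.up 1 428 1)) (.leaf (.up 1 155 0)))) (.node (.node (.leaf (.root 5876)) (.leaf (.up 2 970 1))) (.node (.leaf (.up 2 421 1)) (.leaf (.up 1 370 0)))))) (.node (.node (.node (.node (.leaf (.root 4036)) (.leaf (.up 1 222 1))) (.node (.leaf (.root 6404)) (.leaf (.up 1 490 0)))) (.node (.node (.leaf (.up 1 246 1)) (.leaf (.up 1 135 0))) (.node (.leaf (.up 2 696 1)) (.leaf (.up 1 3 0))))) (.node (.node (.node (.leaf (.root 4932)) (.leaf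 (.up 1 874 0))) (.node (.leaf (.root 3110)) (.leaf (.up 2 1195 1)))) (.node (.node (.leaf (.root 5466)) (.leaf (.up 2 1772 1))) (.node (.leaf (.up 2 1155 1)) (.leaf (.up 1 519 0))))))) (.node (.node (.node (.node (.node (.leaf (.root 2870)) (.leaf (.up 2 505 1))) (.node (.leaf (.up 1 74 0)) (.leaf (.up 1 951 1)))) (.node (.node (.leaf (.root 5820)) (.leaf (.up 1 496 1))) (.node (.leaf (.up 1 419 0)) (.leaf (.up 2 958 1))))) (.node (.node (.node (.leaf (.root 3504)) (.leaf (.up 2 1986 1))) (.node (.leaf (.up 1 590 0)) (.leaf (.up 2 1420 1)))) (.node (.node (.leaf (.root 4232)) (.leaf (.up 2 1995 1))) (.node (.leaf (.root 4444)) (.leaf (.up 2 1413 1)))))) (.node (.node (.node (.node (.leaf (.root 3824)) (.leaf (.up 2 1247 1))) (.node (.leaf (.up 2 1712 1)) (.leaf (.root 3798)))) (.node (.node (.leaf (.root 5542)) (.leaf (.up 1 1238 1))) (.node (.leaf (.up 1 726 0)) (.leaf (.up 2 1688 1))))) (.node (.node (.node (.leaf (.root 3106)) (.leaf (.up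 2 740 1))) (.node (.leaf (.up 1 139 1)) (.leaf (.up 1 170 1)))) (.node (.node (.leaf (.up 1 86 0)) (.leaf (.up 1 749 1))) (.node (.leaf (.up 1 130 1)) (.leaf (.up 1 163 1)))))))) (.node (.node (.node (.node (.node (.node (.leaf (.root 2974)) (.leaf (.root 4600))) (.node (.leaf (.root 3660)) (.leaf (.up 2 1222 1)))) (.node (.node (.leaf (.root 3474)) (.leaf (.up 2 1665 1))) (.node (.leaf (.up 2 1262 1)) (.leaf (.up 1 1231 1))))) (.node (.node (.node (.leaf (.up 1 100 0)) (.leaf (.up 1 179 1))) (.node (.leaf (.up 1 224 0)) (.leaf (.up 2 765 1)))) (.node (.node (.leaf (.up 1 155 1)) (.leaf (.up 1 186 1))) (.node (.leaf (.up 2 725 1)) (.leaf (.up 1 756 1)))))) (.node (.node (.node (.node (.leaf (.root 3578)) (.leaf (.up 1 942 1))) (.node (.leaf (.up 1 401 0)) (.leaf (.up 1 480 1)))) (.node (.node (.leaf (.up 1 252 0)) (.leaf (.up 2 935 1))) (.node (.leaf (.up 1 120 0)) (.leaf (.up 1 489 1))))) (.node (.node (.node (.leaf (.up 2 1460 1)) (.leaf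 (.root 5302))) (.node (.leaf (.root 3772)) (.leaf (.up 2 2011 1)))) (.node (.node (.leaf (.root 3634)) (.leaf (.up 2 1436 1))) (.node (.leaf (.up 2 2035 1)) (.leaf (.up 1 1828 0))))))) (.node (.node (.node (.node (.node (.leaf (.root 5614)) (.leaf (.up 1 181 0))) (.node (.leaf (.up 1 230 1)) (.leaf (.up 1 49 0)))) (.node (.node (.leaf (.root 5308)) (.leaf (.up 1 348 0))) (.node (.leaf (.up 1 239 1)) (.leaf (.up 2 206 1))))) (.node (.node (.node (.leaf (.root 6278)) (.leaf (.up 2 1202 1))) (.node (.leaf (.root 5246)) (.leaf (.up 1 565 0)))) (.node (.node (.leaf (.root 4930)) (.leaf (.up 1 856 0))) (.node (.leaf (.root 4628)) (.leaf (.up 2 1781 1)))))) (.node (.node (.node (.node (.leaf (.root 3478)) (.leaf (.up 2 1967 1))) (.node (.leaf (.up 2 1472 1)) (.leaf (.up 1 836 0)))) (.node (.node (.leaf (.root 5602)) (.leaf (.up 1 553 0))) (.node (.leaf (.root 5698)) (.leaf (.up 2 1512 1))))) (.node (.node (.node (.leaf (.root 3972)) (.leaf (.up 1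 404 1))) (.node (.leaf (.root 5868)) (.leaf (.up 1 320 0)))) (.node (.node (.leaf (.up 1 444 1)) (.leaf (.up 1 45 0))) (.node (.leaf (.up 1 1010 1)) (.leaf (.up 1 169 0))))))))

noncomputable def vt6_3_1101 : Tr VStep :=
  .node (.node (.node (.node (.node (.node (.node (.leaf (.root 2694)) (.leaf (.root 3530))) (.node (.leaf (.up 1 288 0)) (.leaf (.up 2 1719 1)))) (.node (.node (.leaf (.up 1 77 0)) (.leaf (.up 2 1264 1))) (.node (.leaf (.up 1 201 0)) (.leaf (.up 2 1726 1))))) (.node (.node (.node (.leaf (.root 3732)) (.leaf (.up 1 706 1))) (.node (.leaf (.up 1 173 1)) (.leaf (.up 2 140 1)))) (.node (.node (.leaf (.root 3620)) (.leaf (.up 2 715 1))) (.node (.leaf (.up 1 164 1)) (.leaf (.up 1 133 1)))))) (.node (.node (.node (.node (.leaf (.root 4158)) (.leaf (.up 1 479 1))) (.node (.leaf (.root 3402)) (.leaf (.up 2 913 1)))) (.node (.node (.leaf (.root 4596)) (.leaf (.up 1 470 1))) (.node (.leaf (.root 5622)) (.leaf (.up 1 920 1))))) (.node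 (.node (.node (.leaf (.root 4972)) (.leaf (.root 3850))) (.node (.leaf (.up 1 81 0)) (.leaf (.up 2 1450 1)))) (.node (.node (.leaf (.up 1 316 0)) (.leaf (.up 2 2029 1))) (.node (.leaf (.up 2 1410 1)) (.leaf (.up 1 1248 0))))))) (.node (.node (.node (.node (.node (.leaf (.root 5874)) (.leaf (.up 1 248 1))) (.node (.leaf (.up 2 663 1)) (.leaf (.up 1 694 1)))) (.node (.node (.leaf (.up 2 208 1)) (.leaf (.up 1 241 1))) (.node (.leaf (.up 1 670 1)) (.leaf (.up 2 703 1))))) (.node (.node (.node (.leaf (.root 2874)) (.leaf (.up 1 373 0))) (.node (.leaf (.up 2 1196 1)) (.leaf (.up 1 497 0)))) (.node (.node (.leaf (.root 5936)) (.leaf (.up 1 156 0))) (.node (.leaf (.root 4532)) (.leaf (.up 1 24 0)))))) (.node (.node (.node (.node (.leaf (.root 3928)) (.leaf (.up 1 4 0))) (.node (.leaf (.up 2 1969 1)) (.leaf (.up 1 128 0)))) (.node (.node (.leaf (.up 2 1526 1)) (.leaf (.up 1 493 0))) (.node (.leaf (.root 5052)) (.leaf (.up 2 1945 1))))) (.node (.node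 (.node (.leaf (.root 6416)) (.leaf (.up 1 512 0))) (.node (.leaf (.up 1 394 1)) (.leaf (.up 1 427 1)))) (.node (.node (.leaf (.root 2884)) (.leaf (.up 1 1001 0))) (.node (.leaf (.up 1 387 1)) (.leaf (.up 1 418 1)))))))) (.node (.node (.node (.node (.node (.node (.leaf (.root 3718)) (.leaf (.up 1 479 0))) (.node (.leaf (.root 3540)) (.leaf (.up 1 347 0)))) (.node (.node (.leaf (.root 4290)) (.leaf (.up 1 54 0))) (.node (.leaf (.root 3152)) (.leaf (.up 1 178 0))))) (.node (.node (.node (.leaf (.root 2996)) (.leaf (.up 1 434 1))) (.node (.leaf (.root 4848)) (.leaf (.up 2 1020 1)))) (.node (.node (.leaf (.up 1 410 1)) (.leaf (.up 2 443 1))) (.node (.leaf (.up 2 980 1)) (.leaf (.up 1 694 0)))))) (.node (.node (.node (.node (.leaf (.root 4966)) (.leaf (.up 1 682 0))) (.node (.leaf (.up 1 192 1)) (.leaf (.up 1 225 1)))) (.node (.node (.leaf (.root 4124)) (.leaf (.up 1 678 1))) (.node (.leaf (.up 1 201 1)) (.leaf (.up 1 232 1))))) (.node (.node (.node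 (.leaf (.root 6250)) (.leaf (.up 1 174 0))) (.node (.leaf (.root 3714)) (.leaf (.up 1 42 0)))) (.node (.node (.leaf (.root 4674)) (.leaf (.up 2 1181 1))) (.node (.leaf (.up 2 1778 1)) (.leaf (.up 1 451 0))))))) (.node (.node (.node (.node (.node (.leaf (.root 3048)) (.leaf (.up 2 904 1))) (.node (.leaf (.up 2 487 1)) (.leaf (.up 1 454 1)))) (.node (.node (.leaf (.up 2 928 1)) (.leaf (.up 1 897 1))) (.node (.leaf (.up 1 494 1)) (.leaf (.up 2 463 1))))) (.node (.node (.node (.leaf (.root 4796)) (.leaf (.up 2 1459 1))) (.node (.leaf (.up 1 394 0)) (.leaf (.up 1 1234 0)))) (.node (.node (.leaf (.up 1 231 0)) (.leaf (.up 2 1466 1))) (.node (.leaf (.up 1 99 0)) (.leaf (.up 2 2036 1)))))) (.node (.node (.node (.node (.leaf (.root 3920)) (.leaf (.up 2 1710 1))) (.node (.leaf (.up 2 1217 1)) (.leaf (.up 1 1248 1)))) (.node (.node (.leaf (.up 2 1670 1)) (.leaf (.up 1 1230 0))) (.node (.leaf (.up 1 274 0)) (.leaf (.up 2 1257 1))))) (.node (.node (.node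 (.leaf (.up 1 180 1)) (.leaf (.up 1 149 1))) (.node (.leaf (.up 2 762 1)) (.leaf (.up 1 731 1)))) (.node (.node (.leaf (.up 1 189 1)) (.leaf (.up 1 156 1))) (.node (.leaf (.up 1 755 1)) (.leaf (.up 1 722 1))))))))

noncomputable def vt6_3_110 : Tr VStep := .node vt6_3_1100 vt6_3_1101

noncomputable def vt6_3_1110 : Tr VStep :=
  .node (.node (.node (.node (.node (.node (.node (.leaf (.root 6210)) (.leaf (.up 1 543 0))) (.node (.leaf (.root 4800)) (.leaf (.up 1 667 0)))) (.node (.node (.leaf (.root 5978)) (.leaf (.up 2 1286 1))) (.node (.leaf (.up 2 1897 1)) (.leaf (.up 1 882 0))))) (.node (.node (.node (.leaf (.root 4090)) (.leaf (.up 1 27 0))) (.node (.leaf (.up 1 347 1)) (.leaf (.up 1 159 0)))) (.node (.node (.leaf (.root 6006)) (.leaf (.up 2 829 1))) (.node (.leaf (.up 2 338 1)) (.leaf (.up 1 371 1)))))) (.node (.node (.node (.node (.leaf (.up 1 8 1)) (.leaf (.up 1 41 1))) (.node (.leaf (.up 1 582 1)) (.leaf (.up 1 494 0)))) (.node (.node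 (.leaf (.up 1 1 1)) (.leaf (.up 1 32 1))) (.node (.leaf (.up 1 591 1)) (.leaf (.up 1 7 0))))) (.node (.node (.node (.leaf (.up 2 1587 1)) (.leaf (.up 1 878 0))) (.node (.leaf (.root 2724)) (.leaf (.up 2 1116 1)))) (.node (.node (.leaf (.root 4660)) (.leaf (.up 2 1563 1))) (.node (.leaf (.up 2 1140 1)) (.leaf (.up 1 515 0))))))) (.node (.node (.node (.node (.node (.leaf (.root 2828)) (.leaf (.up 2 270 1))) (.node (.leaf (.up 1 78 0)) (.leaf (.up 1 832 1)))) (.node (.node (.leaf (.up 1 291 0)) (.leaf (.up 1 263 1))) (.node (.leaf (.up 1 423 0)) (.leaf (.up 2 841 1))))) (.node (.node (.node (.leaf (.root 5824)) (.leaf (.up 2 1845 1))) (.node (.leaf (.up 1 586 0)) (.leaf (.up 2 1403 1)))) (.node (.node (.leaf (.root 5140)) (.leaf (.up 2 1852 1))) (.node (.leaf (.up 1 931 0)) (.leaf (.up 2 1394 1)))))) (.node (.node (.node (.node (.leaf (.root 2880)) (.leaf (.up 2 1064 1))) (.node (.leaf (.up 2 1607 1)) (.leaf (.up 1 1635 0)))) (.node (.node (.leaf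 (.up 2 1024 1)) (.leaf (.up 1 1057 1))) (.node (.leaf (.up 1 722 0)) (.leaf (.up 2 1647 1))))) (.node (.node (.node (.leaf (.root 2666)) (.leaf (.up 1 531 1))) (.node (.leaf (.up 1 124 1)) (.leaf (.up 1 93 1)))) (.node (.node (.leaf (.up 1 82 0)) (.leaf (.up 1 538 1))) (.node (.leaf (.up 1 117 1)) (.leaf (.up 1 84 1)))))))) (.node (.node (.node (.node (.node (.node (.leaf (.root 5126)) (.leaf (.root 2982))) (.node (.leaf (.root 4182)) (.leaf (.up 2 1073 1)))) (.node (.node (.leaf (.root 3370)) (.leaf (.up 2 1654 1))) (.node (.leaf (.up 2 1049 1)) (.leaf (.up 1 1080 1))))) (.node (.node (.node (.leaf (.up 1 96 0)) (.leaf (.up 1 68 1))) (.node (.leaf (.up 1 228 0)) (.leaf (.up 2 522 1)))) (.node (.node (.leaf (.up 1 108 1)) (.leaf (.up 1 77 1))) (.node (.leaf (.up 2 546 1)) (.leaf (.up 1 515 1)))))) (.node (.node (.node (.node (.leaf (.root 5550)) (.leaf (.up 1 857 1))) (.node (.leaf (.up 1 310 1)) (.leaf (.up 1 279 1)))) (.node (.node (.leaf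 (.up 1 248 0)) (.leaf (.up 1 848 1))) (.node (.leaf (.up 1 124 0)) (.leaf (.up 1 286 1))))) (.node (.node (.node (.leaf (.up 2 1347 1)) (.leaf (.root 5738))) (.node (.leaf (.root 5904)) (.leaf (.up 2 1836 1)))) (.node (.node (.leaf (.root 4554)) (.leaf (.up 2 1387 1))) (.node (.leaf (.up 2 1796 1)) (.leaf (.up 1 1824 0))))))) (.node (.node (.node (.node (.node (.leaf (.root 4474)) (.leaf (.up 2 638 1))) (.node (.leaf (.up 1 17 1)) (.leaf (.up 1 48 1)))) (.node (.node (.leaf (.root 6332)) (.leaf (.up 1 344 0))) (.node (.leaf (.up 1 24 1)) (.leaf (.up 1 57 1))))) (.node (.node (.node (.leaf (.root 3356)) (.leaf (.up 2 1093 1))) (.node (.leaf (.root 3206)) (.leaf (.up 1 561 0)))) (.node (.node (.leaf (.root 4922)) (.leaf (.up 1 860 0))) (.node (.leaf (.root 5654)) (.leaf (.up 2 1538 1)))))) (.node (.node (.node (.node (.leaf (.root 4652)) (.leaf (.up 2 1880 1))) (.node (.leaf (.up 2 1335 1)) (.leaf (.up 1 832 0)))) (.node (.node (.leaf (.root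 5878)) (.leaf (.up 1 557 0))) (.node (.leaf (.root 3016)) (.leaf (.up 2 1311 1))))) (.node (.node (.node (.leaf (.root 6236)) (.leaf (.up 1 355 1))) (.node (.leaf (.root 2820)) (.leaf (.up 1 324 0)))) (.node (.node (.leaf (.up 1 331 1)) (.leaf (.up 1 41 0))) (.node (.leaf (.up 1 773 1)) (.leaf (.up 1 173 0))))))))

noncomputable def vt6_3_1111 : Tr VStep :=
  .node (.node (.node (.node (.node (.node (.node (.leaf (.root 4954)) (.leaf (.up 2 1038 1))) (.node (.leaf (.up 1 292 0)) (.leaf (.up 2 1600 1)))) (.node (.node (.leaf (.up 1 73 0)) (.leaf (.up 2 1031 1))) (.node (.leaf (.up 1 205 0)) (.leaf (.up 2 1609 1))))) (.node (.node (.node (.leaf (.root 5016)) (.leaf (.up 1 565 1))) (.node (.leaf (.up 1 90 1)) (.leaf (.up 1 123 1)))) (.node (.node (.leaf (.root 3190)) (.leaf (.up 2 572 1))) (.node (.leaf (.up 1 83 1)) (.leaf (.up 1 114 1)))))) (.node (.node (.node (.node (.leaf (.root 5094)) (.leaf (.up 1 296 1))) (.node (.leaf (.root 4110)) (.leaf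 (.up 2 870 1)))) (.node (.node (.leaf (.up 1 256 1)) (.leaf (.up 1 289 1))) (.node (.leaf (.up 2 846 1)) (.leaf (.up 1 879 1))))) (.node (.node (.node (.leaf (.root 6190)) (.leaf (.root 2856))) (.node (.leaf (.up 1 85 0)) (.leaf (.up 2 1373 1)))) (.node (.node (.leaf (.up 1 312 0)) (.leaf (.up 2 1818 1))) (.node (.leaf (.up 1 444 0)) (.leaf (.up 1 1252 0))))))) (.node (.node (.node (.node (.node (.leaf (.up 1 46 1)) (.leaf (.up 1 15 1))) (.node (.leaf (.up 2 608 1)) (.leaf (.up 1 577 1)))) (.node (.node (.leaf (.up 1 39 1)) (.leaf (.up 1 6 1))) (.node (.leaf (.up 1 617 1)) (.leaf (.up 2 584 1))))) (.node (.node (.node (.leaf (.root 2654)) (.leaf (.up 1 369 0))) (.node (.leaf (.up 2 1115 1)) (.leaf (.up 1 501 0)))) (.node (.node (.leaf (.root 3342)) (.leaf (.up 1 152 0))) (.node (.leaf (.root 6306)) (.leaf (.up 1 28 0)))))) (.node (.node (.node (.node (.leaf (.root 3162)) (.leaf (.up 1 0 0))) (.node (.leaf (.up 2 1862 1)) (.leaf (.up 1 132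 0)))) (.node (.node (.leaf (.up 2 1281 1)) (.leaf (.up 1 489 0))) (.node (.leaf (.root 4980)) (.leaf (.up 1 365 0))))) (.node (.node (.node (.leaf (.root 4668)) (.leaf (.up 1 516 0))) (.node (.leaf (.up 1 381 1)) (.leaf (.up 1 348 1)))) (.node (.node (.leaf (.root 2848)) (.leaf (.up 1 795 1))) (.node (.leaf (.up 1 372 1)) (.leaf (.up 1 341 1)))))))) (.node (.node (.node (.node (.node (.node (.leaf (.root 6322)) (.leaf (.up 1 475 0))) (.node (.leaf (.root 2646)) (.leaf (.up 1 351 0)))) (.node (.node (.leaf (.root 4726)) (.leaf (.up 1 50 0))) (.node (.leaf (.up 2 1304 1)) (.leaf (.up 1 182 0))))) (.node (.node (.node (.leaf (.root 6342)) (.leaf (.up 1 325 1))) (.node (.leaf (.root 4846)) (.leaf (.up 2 779 1)))) (.node (.node (.leaf (.up 1 365 1)) (.leaf (.up 2 332 1))) (.node (.leaf (.up 2 803 1)) (.leaf (.up 1 690 0)))))) (.node (.node (.node (.node (.leaf (.root 3384)) (.leaf (.up 1 600 1))) (.node (.leaf (.up 1 55 1)) (.leaf (.up 1 22 1))))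 (.node (.node (.leaf (.root 5780)) (.leaf (.up 2 593 1))) (.node (.leaf (.up 1 62 1)) (.leaf (.up 1 31 1))))) (.node (.node (.node (.leaf (.root 5212)) (.leaf (.up 1 170 0))) (.node (.leaf (.root 6030)) (.leaf (.up 1 46 0)))) (.node (.node (.leaf (.root 3602)) (.leaf (.up 2 1130 1))) (.node (.leaf (.up 2 1541 1)) (.leaf (.up 1 455 0))))))) (.node (.node (.node (.node (.node (.leaf (.root 4740)) (.leaf (.up 2 895 1))) (.node (.leaf (.up 2 272 1)) (.leaf (.up 1 305 1)))) (.node (.node (.leaf (.up 2 855 1)) (.leaf (.up 1 886 1))) (.node (.leaf (.up 1 281 1)) (.leaf (.up 1 312 1))))) (.node (.node (.node (.leaf (.root 3430)) (.leaf (.up 2 1348 1))) (.node (.leaf (.up 1 398 0)) (.leaf (.up 1 1238 0)))) (.node (.node (.leaf (.up 1 227 0)) (.leaf (.up 1 1357 1))) (.node (.leaf (.up 1 103 0)) (.leaf (.up 2 1795 1)))))) (.node (.node (.node (.node (.leaf (.up 1 123 0)) (.leaf (.up 2 1625 1))) (.node (.leaf (.up 2 1078 1)) (.leaf (.up 1 1047 1)))) (.node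 (.node (.leaf (.up 2 1649 1)) (.leaf (.up 1 1226 0))) (.node (.leaf (.up 1 278 0)) (.leaf (.up 2 1054 1))))) (.node (.node (.node (.leaf (.up 1 67 1)) (.leaf (.up 1 98 1))) (.node (.leaf (.up 1 525 1)) (.leaf (.up 1 556 1)))) (.node (.node (.leaf (.up 1 74 1)) (.leaf (.up 1 107 1))) (.node (.leaf (.up 1 516 1)) (.leaf (.up 1 549 1))))))))

noncomputable def vt6_3_111 : Tr VStep := .node vt6_3_1110 vt6_3_1111

noncomputable def vt6_3_11 : Tr VStep := .node vt6_3_110 vt6_3_111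

noncomputable def vt6_3_1 : Tr VStep := .node vt6_3_10 vt6_3_11

noncomputable def vt6_3_ : Tr VStep := .node vt6_3_0 vt6_3_1

noncomputable def vt6_4_0000 : Tr VStep :=
  .node (.node (.node (.node (.node (.node (.node (.leaf (.root 3062)) (.leaf (.up 2 291 0))) (.node (.leaf (.up 6 73 0)) (.leaf (.up 5 2016 0)))) (.node (.node (.leaf (.up 7 652 1)) (.leaf (.up 6 1060 0))) (.node (.leaf (.up 4 873 1)) (.leaf (.up 3 743 0))))) (.node (.node (.node (.leaf (.root 5580)) (.leaf (.up 1 267 0))) (.node (.leaf (.up 6 97 0)) (.leaf (.up 5 1992 0)))) (.node (.node (.leaf (.up 5 1889 1)) (.leaf (.up 7 1548 1))) (.node (.leaf (.up 3 1382 0)) (.leaf (.up 3 719 0)))))) (.node (.node (.node (.node (.leaf (.up 6 41 1)) (.leaf (.up 6 1119 0))) (.node (.leaf (.up 4 460 1)) (.leaf (.up 1 161 1)))) (.node (.node (.leaf (.up 6 1371 1)) (.leaf (.up 2 344 0))) (.node (.leaf (.up 1 50 0)) (.leaf (.up 5 1947 0))))) (.node (.node (.node (.leaf (.up 2 1476 1)) (.leaf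 (.up 6 1143 0))) (.node (.leaf (.up 2 1309 0)) (.leaf (.up 4 1356 1)))) (.node (.node (.leaf (.up 3 182 1)) (.leaf (.up 6 368 0))) (.node (.leaf (.up 1 26 0)) (.leaf (.up 1 62 1))))))) (.node (.node (.node (.node (.node (.leaf (.root 3758)) (.leaf (.up 4 729 0))) (.node (.leaf (.up 4 947 0)) (.leaf (.up 4 1050 0)))) (.node (.node (.leaf (.up 1 119 0)) (.leaf (.up 2 2014 0))) (.node (.leaf (.up 4 1716 0)) (.leaf (.up 6 1120 1))))) (.node (.node (.node (.leaf (.up 4 1368 0)) (.leaf (.up 3 1306 1))) (.node (.leaf (.up 4 923 0)) (.leaf (.up 2 1279 1)))) (.node (.node (.leaf (.up 5 261 1)) (.leaf (.up 1 104 1))) (.node (.leaf (.up 2 224 1)) (.leaf (.up 4 309 0)))))) (.node (.node (.node (.node (.leaf (.up 1 12 0)) (.leaf (.up 5 1957 0))) (.node (.leaf (.up 4 1743 0)) (.leaf (.up 4 358 0)))) (.node (.node (.leaf (.up 6 831 1)) (.leaf (.up 5 674 0))) (.node (.leaf (.up 3 730 1)) (.leaf (.up 4 1121 0))))) (.node (.node (.node (.leaf (.up 1 36 0))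 (.leaf (.up 6 717 1))) (.node (.leaf (.up 2 1767 0)) (.leaf (.up 4 334 0)))) (.node (.node (.leaf (.up 3 1746 1)) (.leaf (.up 4 650 0))) (.node (.leaf (.up 3 1847 1)) (.leaf (.up 4 1097 0)))))))) (.node (.node (.node (.node (.node (.node (.leaf (.root 3612)) (.leaf (.up 4 1436 0))) (.node (.leaf (.up 6 1465 1)) (.leaf (.up 5 1236 1)))) (.node (.node (.leaf (.up 6 302 1)) (.leaf (.up 2 155 0))) (.node (.leaf (.up 5 203 1)) (.leaf (.up 4 422 1))))) (.node (.node (.node (.leaf (.root 3012)) (.leaf (.up 1 220 1))) (.node (.leaf (.up 5 1246 0)) (.leaf (.up 5 887 0)))) (.node (.node (.leaf (.up 5 1219 1)) (.leaf (.up 1 179 0))) (.node (.leaf (.up 2 473 0)) (.leaf (.up 6 1099 1)))))) (.node (.node (.node (.node (.leaf (.root 5266)) (.leaf (.up 2 224 0))) (.node (.leaf (.up 1 394 0)) (.leaf (.up 3 1571 0)))) (.node (.node (.leaf (.up 5 590 0)) (.leaf (.up 3 1511 0))) (.node (.leaf (.up 4 1820 1)) (.leaf (.up 4 1649 1))))) (.node (.node (.node (.leaf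 (.up 2 1638 1)) (.leaf (.up 3 200 0))) (.node (.leaf (.up 2 418 0)) (.leaf (.up 3 1547 0)))) (.node (.node (.leaf (.up 3 614 0)) (.leaf (.up 2 633 1))) (.node (.leaf (.up 6 753 1)) (.leaf (.up 4 780 0))))))) (.node (.node (.node (.node (.node (.leaf (.root 5064)) (.leaf (.up 2 1638 0))) (.node (.leaf (.up 5 989 1)) (.leaf (.up 5 688 1)))) (.node (.node (.leaf (.up 5 1866 1)) (.leaf (.up 5 865 0))) (.node (.leaf (.up 7 1711 1)) (.leaf (.up 5 1986 1))))) (.node (.node (.node (.leaf (.up 4 487 0)) (.leaf (.up 5 1614 0))) (.node (.leaf (.up 4 1828 0)) (.leaf (.up 2 1885 1)))) (.node (.node (.leaf (.up 7 679 1)) (.leaf (.up 4 841 0))) (.node (.leaf (.up 5 834 1)) (.leaf (.up 7 559 1)))))) (.node (.node (.node (.node (.leaf (.up 5 1203 0)) (.leaf (.up 5 794 0))) (.node (.leaf (.root 6008)) (.leaf (.up 6 1383 1)))) (.node (.node (.leaf (.up 5 157 1)) (.leaf (.up 2 1565 0))) (.node (.leaf (.up 6 376 1)) (.leaf (.up 1 21 1))))) (.node (.node (.node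 (.leaf (.up 1 2 1)) (.leaf (.up 7 367 1))) (.node (.leaf (.up 4 487 1)) (.leaf (.up 1 138 1)))) (.node (.node (.leaf (.up 3 1392 1)) (.leaf (.up 5 1589 0))) (.node (.leaf (.up 2 1887 0)) (.leaf (.up 5 246 0))))))))

noncomputable def vt6_4_0001 : Tr VStep :=
  .node (.node (.node (.node (.node (.node (.node (.leaf (.root 4622)) (.leaf (.up 5 844 0))) (.node (.leaf (.up 6 550 0)) (.leaf (.up 4 1179 1)))) (.node (.node (.leaf (.up 4 482 0)) (.leaf (.up 1 12 1))) (.node (.leaf (.up 6 1825 0)) (.leaf (.up 1 136 0))))) (.node (.node (.node (.leaf (.root 4460)) (.leaf (.up 3 868 0))) (.node (.leaf (.up 2 27 1)) (.leaf (.up 6 1447 0)))) (.node (.node (.leaf (.up 5 1164 1)) (.leaf (.up 2 1635 0))) (.node (.leaf (.up 6 1801 0)) (.leaf (.up 2 1028 1)))))) (.node (.node (.node (.node (.leaf (.up 6 964 1)) (.leaf (.up 6 1584 0))) (.node (.leaf (.up 4 545 1)) (.leaf (.up 5 243 0)))) (.node (.node (.leaf (.up 3 1718 1)) (.leaf (.up 6 823 0))) (.node (.leaf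 (.up 4 1875 1)) (.leaf (.up 5 1524 0))))) (.node (.node (.node (.leaf (.up 2 433 0)) (.leaf (.up 6 1560 0))) (.node (.leaf (.up 3 1996 1)) (.leaf (.up 4 1697 1)))) (.node (.node (.leaf (.up 3 859 1)) (.leaf (.up 6 566 1))) (.node (.leaf (.up 5 629 0)) (.leaf (.up 4 1500 0))))))) (.node (.node (.node (.node (.node (.leaf (.up 3 1823 0)) (.leaf (.up 3 182 0))) (.node (.leaf (.up 4 914 1)) (.leaf (.up 5 1653 0)))) (.node (.node (.leaf (.up 4 536 0)) (.leaf (.up 6 1640 1))) (.node (.leaf (.up 5 1243 0)) (.leaf (.up 5 882 0))))) (.node (.node (.node (.leaf (.up 3 1946 1)) (.leaf (.up 3 158 0))) (.node (.leaf (.up 6 1663 1)) (.leaf (.up 7 1810 1)))) (.node (.node (.leaf (.up 5 744 1)) (.leaf (.up 3 1433 0))) (.node (.leaf (.up 6 781 1)) (.leaf (.up 5 858 0)))))) (.node (.node (.node (.node (.leaf (.root 4062)) (.leaf (.up 3 1229 1))) (.node (.leaf (.up 4 1184 0)) (.leaf (.up 5 777 0)))) (.node (.node (.leaf (.up 3 210 1)) (.leaf (.up 2 205 0)))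 (.node (.leaf (.up 3 311 1)) (.leaf (.up 5 1550 0))))) (.node (.node (.node (.leaf (.up 4 587 0)) (.leaf (.up 2 288 1))) (.node (.leaf (.up 4 1160 0)) (.leaf (.up 4 197 1)))) (.node (.node (.leaf (.up 3 1868 0)) (.leaf (.up 2 1106 1))) (.node (.leaf (.up 3 1242 1)) (.leaf (.up 4 1574 0)))))))) (.node (.node (.node (.node (.node (.node (.leaf (.up 6 1969 1)) (.leaf (.up 3 1756 1))) (.node (.leaf (.up 3 1689 0)) (.leaf (.up 5 1849 1)))) (.node (.node (.leaf (.up 4 1373 0)) (.leaf (.up 2 756 0))) (.node (.leaf (.up 5 926 0)) (.leaf (.up 4 587 1))))) (.node (.node (.node (.leaf (.up 1 114 0)) (.leaf (.up 6 817 1))) (.node (.leaf (.up 5 953 1)) (.leaf (.up 2 724 1)))) (.node (.node (.leaf (.up 5 1838 1)) (.leaf (.up 6 1603 1))) (.node (.leaf (.up 4 1739 1)) (.leaf (.up 2 1958 1)))))) (.node (.node (.node (.node (.leaf (.up 4 1318 0)) (.leaf (.up 1 267 1))) (.node (.leaf (.up 5 997 0)) (.leaf (.up 4 238 1)))) (.node (.node (.leaf (.up 1 33 0)) (.leaf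 (.up 3 1928 0))) (.node (.leaf (.up 4 1265 1)) (.leaf (.up 4 1436 1))))) (.node (.node (.node (.leaf (.up 4 1419 1)) (.leaf (.up 5 1254 1))) (.node (.leaf (.up 4 973 0)) (.leaf (.up 5 1124 0)))) (.node (.node (.leaf (.up 1 9 0)) (.leaf (.up 5 1952 0))) (.node (.leaf (.up 4 1738 0)) (.leaf (.up 4 113 1))))))) (.node (.node (.node (.node (.node (.leaf (.up 3 928 0)) (.leaf (.up 4 1033 0))) (.node (.leaf (.up 1 48 1)) (.leaf (.up 5 349 1)))) (.node (.node (.leaf (.up 4 1703 0)) (.leaf (.up 4 270 0))) (.node (.leaf (.up 1 100 0)) (.leaf (.up 5 1997 0))))) (.node (.node (.node (.leaf (.up 5 1080 1)) (.leaf (.up 4 1057 0))) (.node (.leaf (.up 4 1501 1)) (.leaf (.up 6 1200 1)))) (.node (.node (.leaf (.up 3 330 1)) (.leaf (.up 1 39 1))) (.node (.leaf (.up 5 76 0)) (.leaf (.up 4 2021 0)))))) (.node (.node (.node (.node (.leaf (.root 5072)) (.leaf (.up 4 373 0))) (.node (.leaf (.up 3 31 0)) (.leaf (.up 3 1674 1)))) (.node (.node (.leaf (.up 5 987 0))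 (.leaf (.up 3 541 1))) (.node (.leaf (.up 3 1304 0)) (.leaf (.up 3 689 0))))) (.node (.node (.node (.leaf (.up 4 1780 0)) (.leaf (.up 2 642 1))) (.node (.leaf (.up 3 55 0)) (.leaf (.up 3 1950 0)))) (.node (.node (.leaf (.up 2 1693 1)) (.leaf (.up 4 1114 0))) (.node (.leaf (.up 4 1912 1)) (.leaf (.up 3 665 0))))))))

noncomputable def vt6_4_000 : Tr VStep := .node vt6_4_0000 vt6_4_0001

noncomputable def vt6_4_0010 : Tr VStep :=
  .node (.node (.node (.node (.node (.node (.node (.leaf (.root 3898)) (.leaf (.up 1 3 0))) (.node (.leaf (.up 4 1792 1)) (.leaf (.up 5 1728 0)))) (.node (.node (.leaf (.up 2 919 1)) (.leaf (.up 2 762 1))) (.node (.leaf (.up 6 1134 0)) (.leaf (.up 6 967 0))))) (.node (.node (.node (.leaf (.up 7 776 1)) (.leaf (.up 3 613 1))) (.node (.leaf (.up 5 321 0)) (.leaf (.up 4 896 1)))) (.node (.node (.leaf (.up 5 1658 1)) (.leaf (.up 3 1324 0))) (.node (.leaf (.up 6 1951 1)) (.leaf (.up 6 1007 0)))))) (.node (.node (.node (.node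 (.leaf (.root 4748)) (.leaf (.up 4 1407 0))) (.node (.leaf (.up 3 1045 0)) (.leaf (.up 5 956 0)))) (.node (.node (.leaf (.up 7 1088 1)) (.leaf (.up 1 120 0))) (.node (.leaf (.up 3 1445 1)) (.leaf (.up 7 1224 1))))) (.node (.node (.node (.leaf (.up 6 766 0)) (.leaf (.up 4 1367 0))) (.node (.leaf (.up 4 1338 1)) (.leaf (.up 4 916 0)))) (.node (.node (.leaf (.up 6 429 1)) (.leaf (.up 1 80 0))) (.node (.leaf (.up 5 314 0)) (.leaf (.up 4 1683 0))))))) (.node (.node (.node (.node (.node (.leaf (.root 6082)) (.leaf (.up 5 492 1))) (.node (.leaf (.up 3 356 1)) (.leaf (.up 1 9 1)))) (.node (.node (.leaf (.up 3 1523 1)) (.leaf (.up 6 1182 1))) (.node (.leaf (.up 5 1940 0)) (.leaf (.up 3 61 0))))) (.node (.node (.node (.leaf (.up 5 1144 0)) (.leaf (.up 5 977 0))) (.node (.leaf (.up 4 1161 1)) (.leaf (.up 2 1298 0)))) (.node (.node (.leaf (.up 5 30 1)) (.leaf (.up 2 1750 0))) (.node (.leaf (.up 4 1980 0)) (.leaf (.up 1 21 0)))))) (.node (.node (.node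 (.node (.leaf (.root 5764)) (.leaf (.up 4 1669 0))) (.node (.leaf (.up 3 2031 0)) (.leaf (.up 2 2014 1)))) (.node (.node (.leaf (.up 2 1067 0)) (.leaf (.up 2 898 0))) (.node (.leaf (.up 2 961 1)) (.leaf (.up 5 1345 0))))) (.node (.node (.node (.leaf (.up 3 260 0)) (.leaf (.up 4 1709 0))) (.node (.leaf (.up 3 1991 0)) (.leaf (.up 3 110 0)))) (.node (.node (.leaf (.up 5 1027 0)) (.leaf (.up 3 1700 1))) (.node (.leaf (.up 3 704 0)) (.leaf (.up 6 1857 1)))))))) (.node (.node (.node (.node (.node (.node (.leaf (.root 6016)) (.leaf (.up 4 1212 0))) (.node (.leaf (.up 5 1186 1)) (.leaf (.up 5 1487 1)))) (.node (.node (.leaf (.up 4 1554 0)) (.leaf (.up 2 344 1))) (.node (.leaf (.up 4 464 1)) (.leaf (.up 4 1912 0))))) (.node (.node (.node (.leaf (.up 4 829 0)) (.leaf (.up 3 455 1))) (.node (.leaf (.up 1 335 1)) (.leaf (.up 1 34 1)))) (.node (.node (.leaf (.up 6 1496 1)) (.leaf (.up 3 1205 1))) (.node (.leaf (.up 3 249 0)) (.leaf (.up 4 1360 1))))))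 (.node (.node (.node (.node (.leaf (.up 4 1641 0)) (.leaf (.up 4 448 0))) (.node (.leaf (.up 3 885 1)) (.leaf (.up 4 536 1)))) (.node (.node (.leaf (.up 4 878 0)) (.leaf (.up 4 1223 0))) (.node (.leaf (.up 2 1453 0)) (.leaf (.up 4 1898 1))))) (.node (.node (.node (.leaf (.up 6 1917 1)) (.leaf (.up 4 488 0))) (.node (.leaf (.up 1 130 0)) (.leaf (.up 4 1835 0)))) (.node (.node (.leaf (.up 6 527 1)) (.leaf (.up 5 1263 0))) (.node (.leaf (.up 4 1413 0)) (.leaf (.up 2 556 0))))))) (.node (.node (.node (.node (.node (.leaf (.root 2722)) (.leaf (.up 5 1862 0))) (.node (.leaf (.up 5 1580 0)) (.leaf (.up 3 939 1)))) (.node (.node (.leaf (.up 3 1512 0)) (.leaf (.up 4 577 0))) (.node (.leaf (.up 5 811 0)) (.leaf (.up 6 1753 1))))) (.node (.node (.node (.leaf (.up 5 199 0)) (.leaf (.up 3 1955 1))) (.node (.leaf (.up 4 1835 1)) (.leaf (.up 3 1606 1)))) (.node (.node (.leaf (.up 5 956 1)) (.leaf (.up 3 617 0))) (.node (.leaf (.up 4 601 1)) (.leaf (.up 6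 820 1)))))) (.node (.node (.node (.node (.leaf (.root 4756)) (.leaf (.up 3 1433 1))) (.node (.leaf (.up 5 848 0)) (.leaf (.up 2 1148 1)))) (.node (.node (.leaf (.up 5 148 0)) (.leaf (.up 6 235 1))) (.node (.leaf (.up 2 99 1)) (.leaf (.up 2 510 0))))) (.node (.node (.node (.leaf (.up 6 281 1)) (.leaf (.up 1 116 1))) (.node (.leaf (.up 1 252 1)) (.leaf (.up 3 1233 0)))) (.node (.node (.leaf (.up 7 1131 1)) (.leaf (.up 4 1286 1))) (.node (.leaf (.up 4 1422 1)) (.leaf (.up 7 1251 1))))))))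

noncomputable def vt6_4_0011 : Tr VStep :=
  .node (.node (.node (.node (.node (.node (.node (.leaf (.root 4512)) (.leaf (.up 6 1125 1))) (.node (.leaf (.up 4 1261 1)) (.leaf (.up 6 1199 0)))) (.node (.node (.leaf (.up 5 194 0)) (.leaf (.up 5 1899 0))) (.node (.leaf (.up 3 415 1)) (.leaf (.up 6 424 0))))) (.node (.node (.node (.leaf (.up 5 229 1)) (.leaf (.up 4 580 0))) (.node (.leaf (.up 6 814 0)) (.leaf (.up 4 1159 0)))) (.node (.node (.leaf (.up 5 1431 1)) (.leaf (.up 5 1859 0))) (.node (.leaf (.up 4 1577 0)) (.leaf (.up 6 384 0)))))) (.node (.node (.node (.node (.leaf (.up 4 185 0)) (.leaf (.up 5 1808 0))) (.node (.leaf (.up 2 826 1)) (.leaf (.up 4 599 1)))) (.node (.node (.leaf (.up 6 1470 0)) (.leaf (.up 3 535 0))) (.node (.leaf (.up 4 893 0)) (.leaf (.up 2 1829 1))))) (.node (.node (.node (.leaf (.up 6 145 0)) (.leaf (.up 3 1631 1))) (.node (.leaf (.up 4 1751 1)) (.leaf (.up 5 1978 1)))) (.node (.node (.leaf (.up 3 1430 0)) (.leaf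 (.up 3 575 0))) (.node (.leaf (.up 4 853 0)) (.leaf (.up 2 1276 0))))))) (.node (.node (.node (.node (.node (.leaf (.root 6370)) (.leaf (.up 4 406 0))) (.node (.leaf (.up 1 252 0)) (.leaf (.up 4 996 1)))) (.node (.node (.leaf (.up 2 824 0)) (.leaf (.up 2 1907 1))) (.node (.leaf (.up 3 1531 0)) (.leaf (.up 6 1686 1))))) (.node (.node (.node (.leaf (.up 5 1665 1)) (.leaf (.up 3 446 0))) (.node (.leaf (.up 6 1892 1)) (.leaf (.up 4 1545 1)))) (.node (.node (.leaf (.up 5 1011 1)) (.leaf (.up 7 670 1))) (.node (.leaf (.up 7 534 1)) (.leaf (.up 4 634 0)))))) (.node (.node (.node (.node (.leaf (.up 2 835 0)) (.leaf (.up 7 1494 1))) (.node (.leaf (.up 6 1374 1)) (.leaf (.up 3 553 0)))) (.node (.node (.leaf (.up 3 457 1)) (.leaf (.up 6 164 1))) (.node (.leaf (.up 1 44 1)) (.leaf (.up 5 1838 0))))) (.node (.node (.node (.leaf (.up 6 342 1)) (.leaf (.up 1 59 1))) (.node (.leaf (.up 1 179 1)) (.leaf (.up 5 478 1)))) (.node (.node (.leaf (.up 4 1644 0))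 (.leaf (.up 6 1353 1))) (.node (.leaf (.up 5 175 0)) (.leaf (.up 4 1196 1)))))))) (.node (.node (.node (.node (.node (.node (.leaf (.root 3832)) (.leaf (.up 3 1991 1))) (.node (.leaf (.up 5 1871 1)) (.leaf (.up 1 16 0)))) (.node (.node (.leaf (.up 5 984 1)) (.leaf (.up 5 980 0))) (.node (.leaf (.up 7 573 1)) (.leaf (.up 3 1303 0))))) (.node (.node (.node (.leaf (.up 5 839 1)) (.leaf (.up 4 1787 0))) (.node (.leaf (.up 3 1937 0)) (.leaf (.up 4 56 0)))) (.node (.node (.leaf (.up 5 1109 0)) (.leaf (.up 3 1020 0))) (.node (.leaf (.up 5 2000 1)) (.leaf (.up 4 1725 1)))))) (.node (.node (.node (.node (.leaf (.root 2812)) (.leaf (.up 1 16 1))) (.node (.leaf (.up 2 152 1)) (.leaf (.up 7 501 1)))) (.node (.node (.leaf (.up 5 257 0)) (.leaf (.up 6 1378 1))) (.node (.leaf (.up 2 1514 1)) (.leaf (.up 4 1159 1))))) (.node (.node (.node (.leaf (.root 4074)) (.leaf (.up 7 1533 1))) (.node (.leaf (.up 7 1397 1)) (.leaf (.up 2 1348 0)))) (.node (.node (.leaf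 (.up 4 482 1)) (.leaf (.up 3 143 1))) (.node (.leaf (.up 1 7 1)) (.leaf (.up 4 67 0))))))) (.node (.node (.node (.node (.node (.leaf (.up 5 206 1)) (.leaf (.up 2 419 1))) (.node (.leaf (.up 6 299 1)) (.leaf (.up 5 70 1)))) (.node (.node (.leaf (.up 2 1468 1)) (.leaf (.up 1 46 0))) (.node (.leaf (.up 6 1113 1)) (.leaf (.up 5 1332 1))))) (.node (.node (.node (.leaf (.up 6 1315 1)) (.leaf (.up 3 1102 1))) (.node (.leaf (.up 5 1222 1)) (.leaf (.up 3 1451 1)))) (.node (.node (.leaf (.up 5 81 1)) (.leaf (.up 1 6 0))) (.node (.leaf (.up 4 364 0)) (.leaf (.up 3 217 1)))))) (.node (.node (.node (.node (.leaf (.up 3 1817 1)) (.leaf (.up 1 85 0))) (.node (.leaf (.up 2 319 0)) (.leaf (.up 3 1937 1)))) (.node (.node (.leaf (.up 5 763 0)) (.leaf (.up 3 1362 0))) (.node (.leaf (.up 5 1080 0)) (.leaf (.up 4 913 0))))) (.node (.node (.node (.leaf (.root 4126)) (.leaf (.up 1 125 0))) (.node (.leaf (.up 6 785 1)) (.leaf (.up 3 636 1)))) (.node (.node (.leaf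 (.up 5 723 0)) (.leaf (.up 5 1402 0))) (.node (.leaf (.up 2 1635 1)) (.leaf (.up 5 953 0))))))))

noncomputable def vt6_4_001 : Tr VStep := .node vt6_4_0010 vt6_4_0011

noncomputable def vt6_4_00 : Tr VStep := .node vt6_4_000 vt6_4_001

noncomputable def vt6_4_0100 : Tr VStep :=
  .node (.node (.node (.node (.node (.node (.node (.leaf (.root 2960)) (.leaf (.up 2 323 0))) (.node (.leaf (.up 4 277 1)) (.leaf (.up 1 120 1)))) (.node (.node (.leaf (.up 5 1005 0)) (.leaf (.up 5 1092 0))) (.node (.leaf (.up 2 1326 0)) (.leaf (.up 4 647 0))))) (.node (.node (.node (.leaf (.root 5174)) (.leaf (.up 6 1136 1))) (.node (.leaf (.up 1 1 0)) (.leaf (.up 3 1429 1)))) (.node (.node (.leaf (.up 5 965 0)) (.leaf (.up 6 258 1))) (.node (.leaf (.up 1 394 1)) (.leaf (.up 6 231 1)))))) (.node (.node (.node (.node (.leaf (.up 7 1831 1)) (.leaf (.up 3 1087 0))) (.node (.leaf (.up 3 1730 1)) (.leaf (.up 7 1967 1)))) (.node (.node (.leaf (.up 3 597 1)) (.leaf (.up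 2 824 1))) (.node (.leaf (.up 4 82 0)) (.leaf (.up 5 2043 0))))) (.node (.node (.node (.leaf (.up 4 958 0)) (.leaf (.up 3 1047 0))) (.node (.leaf (.up 4 815 1)) (.leaf (.up 2 724 0)))) (.node (.node (.leaf (.up 5 1976 1)) (.leaf (.up 6 1749 1))) (.node (.leaf (.up 5 122 0)) (.leaf (.up 4 2003 0))))))) (.node (.node (.node (.node (.node (.leaf (.root 3262)) (.leaf (.up 5 697 0))) (.node (.leaf (.up 5 1905 1)) (.leaf (.up 2 1564 1)))) (.node (.node (.leaf (.up 6 998 1)) (.leaf (.up 5 1982 0))) (.node (.leaf (.up 2 515 1)) (.leaf (.up 2 381 0))))) (.node (.node (.node (.leaf (.up 5 1336 0)) (.leaf (.up 4 657 0))) (.node (.leaf (.up 4 668 1)) (.leaf (.up 2 1106 0)))) (.node (.node (.leaf (.up 1 63 0)) (.leaf (.up 5 1894 1))) (.node (.leaf (.up 4 1788 0)) (.leaf (.up 4 1667 1)))))) (.node (.node (.node (.node (.leaf (.root 4914)) (.leaf (.up 1 46 1))) (.node (.leaf (.up 5 166 1)) (.leaf (.up 4 262 0)))) (.node (.node (.leaf (.up 3 1387 0)) (.leaf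 (.up 5 706 0))) (.node (.leaf (.up 6 1492 1)) (.leaf (.up 5 1025 0))))) (.node (.node (.node (.leaf (.up 1 68 0)) (.leaf (.up 3 1475 1))) (.node (.leaf (.up 6 1355 1)) (.leaf (.up 4 1062 1)))) (.node (.node (.leaf (.up 3 1347 0)) (.leaf (.up 4 746 0))) (.node (.leaf (.up 1 57 1)) (.leaf (.up 5 1065 0)))))))) (.node (.node (.node (.node (.node (.node (.leaf (.root 2816)) (.leaf (.up 3 575 1))) (.node (.leaf (.up 3 1174 0)) (.leaf (.up 3 986 1)))) (.node (.node (.leaf (.up 5 1874 0)) (.leaf (.up 1 251 0))) (.node (.leaf (.up 4 1989 1)) (.leaf (.up 6 1592 0))))) (.node (.node (.node (.leaf (.root 4908)) (.leaf (.up 3 2002 1))) (.node (.leaf (.up 3 1214 0)) (.leaf (.up 3 791 0)))) (.node (.node (.leaf (.up 4 973 1)) (.leaf (.up 5 211 0))) (.node (.leaf (.up 3 441 0)) (.leaf (.up 6 1552 0)))))) (.node (.node (.node (.node (.leaf (.up 3 1157 1)) (.leaf (.up 1 128 0))) (.node (.leaf (.up 6 1376 1)) (.leaf (.up 4 1037 1)))) (.node (.node (.leaf (.up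 6 558 0)) (.leaf (.up 2 154 1))) (.node (.leaf (.up 1 18 1)) (.leaf (.up 4 836 0))))) (.node (.node (.node (.leaf (.up 2 1793 0)) (.leaf (.up 1 5 1))) (.node (.leaf (.up 5 141 1)) (.leaf (.up 2 1643 0)))) (.node (.node (.leaf (.up 2 518 0)) (.leaf (.up 5 1455 0))) (.node (.leaf (.up 4 1535 1)) (.leaf (.up 2 876 0))))))) (.node (.node (.node (.node (.node (.leaf (.root 6286)) (.leaf (.up 4 1542 0))) (.node (.leaf (.up 3 1235 1)) (.leaf (.up 4 197 0)))) (.node (.node (.leaf (.up 1 68 1)) (.leaf (.up 6 297 1))) (.node (.leaf (.up 6 417 1)) (.leaf (.up 7 204 1))))) (.node (.node (.node (.leaf (.up 3 391 0)) (.leaf (.up 3 438 1))) (.node (.leaf (.up 6 318 1)) (.leaf (.up 1 83 1)))) (.node (.node (.leaf (.up 2 1152 0)) (.leaf (.up 5 1220 1))) (.node (.leaf (.up 6 1100 1)) (.leaf (.up 2 1514 0)))))) (.node (.node (.node (.node (.leaf (.root 4154)) (.leaf (.up 5 890 0))) (.node (.leaf (.up 7 772 1)) (.leaf (.up 3 617 1)))) (.node (.node (.leaf (.up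 6 1939 1)) (.leaf (.up 5 1661 0))) (.node (.leaf (.up 4 1654 1)) (.leaf (.up 5 190 0))))) (.node (.node (.node (.leaf (.up 7 1804 1)) (.leaf (.up 2 850 0))) (.node (.leaf (.up 2 568 0)) (.leaf (.up 7 1924 1)))) (.node (.node (.leaf (.up 3 638 1)) (.leaf (.up 2 1621 0))) (.node (.leaf (.up 2 1855 0)) (.leaf (.up 3 150 0))))))))

noncomputable def vt6_4_0101 : Tr VStep :=
  .node (.node (.node (.node (.node (.node (.node (.leaf (.root 3956)) (.leaf (.up 1 624 1))) (.node (.leaf (.up 4 760 1)) (.leaf (.up 5 1519 0)))) (.node (.node (.leaf (.up 3 1647 1)) (.leaf (.up 5 1794 1))) (.node (.leaf (.up 4 1930 1)) (.leaf (.up 2 1767 1))))) (.node (.node (.node (.leaf (.root 6312)) (.leaf (.up 5 1949 1))) (.node (.leaf (.up 3 622 0)) (.leaf (.up 2 1479 0)))) (.node (.node (.leaf (.root 6230)) (.leaf (.up 6 751 1))) (.node (.leaf (.up 7 615 1)) (.leaf (.up 3 192 0)))))) (.node (.node (.node (.node (.leaf (.up 5 1226 1)) (.leaf (.up 4 1616 0))) (.node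 (.leaf (.up 6 1327 1)) (.leaf (.up 4 1090 1)))) (.node (.node (.leaf (.up 2 1278 0)) (.leaf (.up 5 213 1))) (.node (.leaf (.up 5 93 1)) (.leaf (.up 4 1428 0))))) (.node (.node (.node (.leaf (.up 3 465 0)) (.leaf (.up 4 1656 0))) (.node (.leaf (.up 5 194 1)) (.leaf (.up 3 431 1)))) (.node (.node (.leaf (.up 5 1109 1)) (.leaf (.up 5 895 0))) (.node (.leaf (.up 5 533 0)) (.leaf (.up 2 1468 0))))))) (.node (.node (.node (.node (.node (.leaf (.root 6368)) (.leaf (.up 5 214 0))) (.node (.leaf (.up 5 1180 1)) (.leaf (.up 4 1521 1)))) (.node (.node (.leaf (.up 1 11 1)) (.leaf (.up 2 1489 0))) (.node (.leaf (.up 4 1211 0)) (.leaf (.up 5 786 0))))) (.node (.node (.node (.leaf (.up 5 1879 0)) (.leaf (.up 7 505 1))) (.node (.leaf (.up 7 369 1)) (.leaf (.up 1 28 1)))) (.node (.node (.leaf (.up 2 592 0)) (.leaf (.up 3 1529 0))) (.node (.leaf (.up 5 1171 0)) (.leaf (.up 2 826 0)))))) (.node (.node (.node (.node (.leaf (.up 2 515 0)) (.leaf (.up 4 1450 0)))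 (.node (.leaf (.up 5 843 1)) (.leaf (.up 4 873 0)))) (.node (.node (.leaf (.up 5 2012 1)) (.leaf (.up 7 1713 1))) (.node (.leaf (.up 3 1593 1)) (.leaf (.up 3 1646 0))))) (.node (.node (.node (.leaf (.up 5 1859 1)) (.leaf (.up 6 1582 1))) (.node (.leaf (.up 3 1256 0)) (.leaf (.up 2 833 0)))) (.node (.node (.leaf (.up 7 561 1)) (.leaf (.up 1 133 0))) (.node (.leaf (.up 5 980 1)) (.leaf (.up 3 1606 0)))))))) (.node (.node (.node (.node (.node (.node (.leaf (.root 5718)) (.leaf (.up 3 466 1))) (.node (.leaf (.up 7 346 1)) (.leaf (.up 3 55 1)))) (.node (.node (.leaf (.up 3 1341 0)) (.leaf (.up 2 660 0))) (.node (.leaf (.up 4 1064 1)) (.leaf (.up 6 1111 0))))) (.node (.node (.node (.leaf (.up 1 18 0)) (.leaf (.up 3 1087 1))) (.node (.leaf (.up 6 1745 0)) (.leaf (.up 3 1498 1)))) (.node (.node (.leaf (.up 1 32 1)) (.leaf (.up 5 333 1))) (.node (.leaf (.up 6 982 0)) (.leaf (.up 2 1151 0)))))) (.node (.node (.node (.node (.leaf (.up 6 1896 1)) (.leaf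 (.up 3 1541 1))) (.node (.leaf (.up 5 901 0)) (.leaf (.up 5 1068 0)))) (.node (.node (.leaf (.up 6 65 0)) (.leaf (.up 5 2024 0))) (.node (.leaf (.up 4 1666 0)) (.leaf (.up 4 658 1))))) (.node (.node (.node (.leaf (.up 4 1390 0)) (.leaf (.up 2 711 0))) (.node (.leaf (.up 2 941 0)) (.leaf (.up 2 1028 0)))) (.node (.node (.leaf (.up 6 105 0)) (.leaf (.up 2 1984 0))) (.node (.leaf (.up 2 1706 0)) (.leaf (.up 3 1919 1))))))) (.node (.node (.node (.node (.node (.leaf (.up 2 960 0)) (.leaf (.up 4 1129 0))) (.node (.leaf (.up 5 1283 0)) (.leaf (.up 6 1619 1)))) (.node (.node (.leaf (.up 4 1735 0)) (.leaf (.up 3 366 0))) (.node (.leaf (.up 1 4 0)) (.leaf (.up 6 801 1))))) (.node (.node (.node (.leaf (.up 4 1000 0)) (.leaf (.up 5 1089 0))) (.node (.leaf (.up 5 1323 0)) (.leaf (.up 2 642 0)))) (.node (.node (.leaf (.up 4 1775 0)) (.leaf (.up 4 326 0))) (.node (.leaf (.up 1 44 0)) (.leaf (.up 4 1925 0)))))) (.node (.node (.node (.node (.leaf (.up 4 1724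 0)) (.leaf (.up 4 277 0))) (.node (.leaf (.up 3 233 1)) (.leaf (.up 4 2006 0)))) (.node (.node (.leaf (.up 2 955 0)) (.leaf (.up 4 1042 0))) (.node (.leaf (.up 4 1400 0)) (.leaf (.up 5 721 0))))) (.node (.node (.node (.leaf (.up 2 1684 0)) (.leaf (.up 4 317 0))) (.node (.leaf (.up 1 87 0)) (.leaf (.up 2 2046 0)))) (.node (.node (.leaf (.up 4 915 0)) (.leaf (.up 5 1082 0))) (.node (.leaf (.up 1 118 1)) (.leaf (.up 2 761 0))))))))

noncomputable def vt6_4_010 : Tr VStep := .node vt6_4_0100 vt6_4_0101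

noncomputable def vt6_4_0110 : Tr VStep :=
  .node (.node (.node (.node (.node (.node (.node (.leaf (.root 2894)) (.leaf (.up 2 99 0))) (.node (.leaf (.up 1 14 1)) (.leaf (.up 3 1696 0)))) (.node (.node (.leaf (.up 3 1177 1)) (.leaf (.up 3 1380 0))) (.node (.leaf (.up 4 1404 1)) (.leaf (.up 5 935 0))))) (.node (.node (.node (.leaf (.up 3 1030 1)) (.leaf (.up 1 75 0))) (.node (.leaf (.up 4 1507 1)) (.leaf (.up 5 1166 1)))) (.node (.node (.leaf (.up 6 372 1)) (.leaf (.up 1 25 1))) (.node (.leaf (.up 4 1062 0)) (.leaf (.up 6 508 1)))))) (.node (.node (.node (.node (.leaf (.up 4 694 0)) (.leaf (.up 6 1873 1))) (.node (.leaf (.up 4 2009 1)) (.leaf (.up 2 988 0)))) (.node (.node (.leaf (.up 3 846 1)) (.leaf (.up 7 547 1))) (.node (.leaf (.up 7 683 1)) (.leaf (.up 4 1755 0))))) (.node (.node (.node (.leaf (.up 5 977 1)) (.leaf (.up 4 1335 0))) (.node (.leaf (.up 6 564 1)) (.leaf (.up 4 857 1)))) (.node (.node (.leaf (.up 3 1699 1)) (.leaf (.up 1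 48 0))) (.node (.leaf (.up 5 1862 1)) (.leaf (.up 7 1579 1))))))) (.node (.node (.node (.node (.node (.leaf (.root 2698)) (.leaf (.up 3 921 0))) (.node (.leaf (.up 5 1642 1)) (.leaf (.up 3 1799 1)))) (.node (.node (.leaf (.up 3 311 0)) (.leaf (.up 3 912 1))) (.node (.leaf (.up 6 792 1)) (.leaf (.up 5 93 0))))) (.node (.node (.node (.leaf (.up 4 1048 0)) (.leaf (.up 3 945 0))) (.node (.leaf (.up 5 731 0)) (.leaf (.up 4 746 1)))) (.node (.node (.leaf (.up 3 287 0)) (.leaf (.up 3 1718 0))) (.node (.leaf (.up 5 2012 0)) (.leaf (.up 1 117 0)))))) (.node (.node (.node (.node (.leaf (.up 5 88 1)) (.leaf (.up 2 1765 0))) (.node (.leaf (.up 2 1935 0)) (.leaf (.up 1 38 0)))) (.node (.node (.leaf (.up 3 1322 1)) (.leaf (.up 2 994 0))) (.node (.leaf (.up 3 648 0)) (.leaf (.up 4 1313 0))))) (.node (.node (.node (.leaf (.root 5066)) (.leaf (.up 4 1741 0))) (.node (.leaf (.up 3 1104 1)) (.leaf (.up 1 14 0)))) (.node (.node (.leaf (.up 5 199 1)) (.leaf (.up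 3 426 1))) (.node (.leaf (.up 5 672 0)) (.leaf (.up 1 79 1)))))))) (.node (.node (.node (.node (.node (.node (.leaf (.root 6316)) (.leaf (.up 6 804 1))) (.node (.leaf (.up 6 1462 0)) (.leaf (.up 4 705 1)))) (.node (.node (.leaf (.up 4 1650 0)) (.leaf (.up 6 1622 1))) (.node (.leaf (.up 6 177 0)) (.leaf (.up 4 1971 1))))) (.node (.node (.node (.leaf (.up 2 1956 1)) (.leaf (.up 2 1268 0))) (.node (.leaf (.up 6 1438 0)) (.leaf (.up 5 567 0)))) (.node (.node (.leaf (.up 3 726 1)) (.leaf (.up 2 955 1))) (.node (.leaf (.up 6 819 1)) (.leaf (.up 6 1840 0)))))) (.node (.node (.node (.node (.leaf (.up 4 1545 0)) (.leaf (.up 6 416 0))) (.node (.leaf (.up 4 202 0)) (.leaf (.up 5 1891 0)))) (.node (.node (.leaf (.up 5 782 0)) (.leaf (.up 6 1191 0))) (.node (.leaf (.up 4 265 1)) (.leaf (.up 1 100 1))))) (.node (.node (.node (.leaf (.up 4 1569 0)) (.leaf (.up 6 392 0))) (.node (.leaf (.up 2 226 0)) (.leaf (.up 1 251 1)))) (.node (.node (.leaf (.up 6 1281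 1)) (.leaf (.up 6 1167 0))) (.node (.leaf (.up 5 1252 1)) (.leaf (.up 3 588 0))))))) (.node (.node (.node (.node (.node (.leaf (.root 3264)) (.leaf (.up 3 1344 1))) (.node (.leaf (.up 5 1612 0)) (.leaf (.up 5 485 0)))) (.node (.node (.leaf (.root 3868)) (.leaf (.up 1 50 1))) (.node (.leaf (.up 5 843 0)) (.leaf (.up 4 1250 0))))) (.node (.node (.node (.leaf (.up 2 167 0)) (.leaf (.up 5 1806 0))) (.node (.leaf (.up 3 1636 0)) (.leaf (.up 2 461 0)))) (.node (.node (.leaf (.up 2 1440 0)) (.leaf (.up 5 1503 1))) (.node (.leaf (.up 4 1367 1)) (.leaf (.up 5 1226 0)))))) (.node (.node (.node (.node (.leaf (.root 5074)) (.leaf (.up 4 663 1))) (.node (.leaf (.up 6 543 1)) (.leaf (.up 3 1177 0)))) (.node (.node (.leaf (.up 7 1672 1)) (.leaf (.up 2 1885 0))) (.node (.leaf (.up 5 1591 0)) (.leaf (.up 6 1536 1))))) (.node (.node (.node (.leaf (.up 4 1499 0)) (.leaf (.up 6 1914 1))) (.node (.leaf (.up 4 2034 1)) (.leaf (.up 2 1695 1)))) (.node (.node (.leaf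 (.up 1 220 0)) (.leaf (.up 7 520 1))) (.node (.leaf (.up 7 640 1)) (.leaf (.up 3 438 0))))))))

noncomputable def vt6_4_0111 : Tr VStep :=
  .node (.node (.node (.node (.node (.node (.node (.leaf (.root 4280)) (.leaf (.up 5 524 0))) (.node (.leaf (.up 4 870 0)) (.leaf (.up 4 654 1)))) (.node (.node (.leaf (.up 3 1908 1)) (.leaf (.up 5 1803 0))) (.node (.leaf (.up 4 1633 0)) (.leaf (.up 4 456 0))))) (.node (.node (.node (.leaf (.root 5196)) (.leaf (.up 4 548 0))) (.node (.leaf (.up 3 846 0)) (.leaf (.up 3 1255 0)))) (.node (.node (.leaf (.up 1 138 0)) (.leaf (.up 3 1827 0))) (.node (.leaf (.up 4 1609 0)) (.leaf (.up 4 480 0)))))) (.node (.node (.node (.node (.leaf (.root 2658)) (.leaf (.up 2 1904 0))) (.node (.leaf (.up 4 1562 0)) (.leaf (.up 4 435 0)))) (.node (.node (.leaf (.up 3 163 1)) (.leaf (.up 5 631 0))) (.node (.leaf (.up 2 797 0)) (.leaf (.up 4 1204 0))))) (.node (.node (.node (.leaf (.up 4 241 0)) (.leaf (.up 4 337 1))) (.node (.leaf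 (.up 2 473 1)) (.leaf (.up 4 411 0)))) (.node (.node (.leaf (.up 6 1358 1)) (.leaf (.up 4 1059 1))) (.node (.leaf (.up 4 821 0)) (.leaf (.up 2 1478 1))))))) (.node (.node (.node (.node (.node (.leaf (.root 4504)) (.leaf (.up 2 502 0))) (.node (.leaf (.up 5 1415 1)) (.leaf (.up 5 1845 0)))) (.node (.node (.leaf (.up 5 856 0)) (.leaf (.up 1 125 1))) (.node (.leaf (.up 5 245 1)) (.leaf (.up 4 562 0))))) (.node (.node (.node (.leaf (.up 6 399 1)) (.leaf (.up 2 226 1))) (.node (.leaf (.up 3 106 1)) (.leaf (.up 6 263 1)))) (.node (.node (.leaf (.up 7 1277 1)) (.leaf (.up 2 1424 1))) (.node (.leaf (.up 3 1304 1)) (.leaf (.up 6 1141 1)))))) (.node (.node (.node (.node (.leaf (.up 2 803 0)) (.leaf (.up 5 728 1))) (.node (.leaf (.up 2 592 1)) (.leaf (.up 2 585 0)))) (.node (.node (.leaf (.up 2 1572 0)) (.leaf (.up 3 1962 1))) (.node (.leaf (.up 3 1826 1)) (.leaf (.up 5 1870 0))))) (.node (.node (.node (.leaf (.up 3 779 0)) (.leaf (.up 5 1186 0))) (.node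 (.leaf (.up 6 1981 1)) (.leaf (.up 4 1744 1)))) (.node (.node (.leaf (.up 5 810 1)) (.leaf (.up 2 421 0))) (.node (.leaf (.up 3 719 1)) (.leaf (.up 5 1894 0)))))))) (.node (.node (.node (.node (.node (.node (.leaf (.up 4 282 0)) (.leaf (.up 5 1715 0))) (.node (.leaf (.up 4 2009 0)) (.leaf (.up 3 300 1)))) (.node (.node (.leaf (.up 7 1238 1)) (.leaf (.up 5 948 0))) (.node (.leaf (.up 3 734 0)) (.leaf (.up 7 1118 1))))) (.node (.node (.node (.leaf (.up 2 306 0)) (.leaf (.up 5 1691 0))) (.node (.leaf (.up 6 2033 0)) (.leaf (.up 5 88 0)))) (.node (.node (.leaf (.up 6 315 1)) (.leaf (.up 5 86 1))) (.node (.leaf (.up 4 222 1)) (.leaf (.up 2 1375 0)))))) (.node (.node (.node (.node (.leaf (.up 3 1126 0)) (.leaf (.up 6 975 0))) (.node (.leaf (.up 7 1942 1)) (.leaf (.up 4 1787 1)))) (.node (.node (.leaf (.up 6 353 0)) (.leaf (.up 5 1736 0))) (.node (.leaf (.up 4 740 1)) (.leaf (.up 1 11 0))))) (.node (.node (.node (.leaf (.up 3 1102 0)) (.leaf (.up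 4 999 0))) (.node (.leaf (.up 2 635 1)) (.leaf (.up 7 790 1)))) (.node (.node (.leaf (.up 4 329 0)) (.leaf (.up 5 1760 0))) (.node (.leaf (.up 4 1930 0)) (.leaf (.up 1 35 0))))))) (.node (.node (.node (.node (.node (.leaf (.root 5608)) (.leaf (.up 4 1709 1))) (.node (.leaf (.up 4 1059 0)) (.leaf (.up 6 1864 1)))) (.node (.node (.leaf (.up 5 2023 0)) (.leaf (.up 1 78 0))) (.node (.leaf (.up 4 292 0)) (.leaf (.up 6 570 1))))) (.node (.node (.node (.leaf (.up 4 712 0)) (.leaf (.up 2 832 1))) (.node (.leaf (.up 6 968 1)) (.leaf (.up 5 930 0)))) (.node (.node (.leaf (.up 2 1887 1)) (.leaf (.up 5 1586 1))) (.node (.leaf (.up 3 1722 1)) (.leaf (.up 4 2007 1)))))) (.node (.node (.node (.node (.leaf (.up 5 1948 0)) (.leaf (.up 3 378 1))) (.node (.leaf (.up 2 351 0)) (.leaf (.up 3 1782 0)))) (.node (.node (.leaf (.up 5 667 0)) (.leaf (.up 6 1032 1))) (.node (.leaf (.up 2 1152 1)) (.leaf (.up 4 1009 0))))) (.node (.node (.node (.leaf (.up 6 1530 1))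 (.leaf (.up 1 29 0))) (.node (.leaf (.up 5 1055 1)) (.leaf (.up 6 1394 1)))) (.node (.node (.leaf (.up 1 136 1)) (.leaf (.up 3 1306 0))) (.node (.leaf (.up 4 365 1)) (.leaf (.up 1 0 1))))))))

noncomputable def vt6_4_011 : Tr VStep := .node vt6_4_0110 vt6_4_0111

noncomputable def vt6_4_01 : Tr VStep := .node vt6_4_010 vt6_4_011

noncomputable def vt6_4_0 : Tr VStep := .node vt6_4_00 vt6_4_01

noncomputable def vt6_4_1000 : Tr VStep :=
  .node (.node (.node (.node (.node (.node (.node (.leaf (.root 3268)) (.leaf (.up 4 275 0))) (.node (.leaf (.up 5 1068 1)) (.leaf (.up 5 2000 0)))) (.node (.node (.leaf (.up 4 957 0)) (.leaf (.up 5 1044 0))) (.node (.leaf (.up 7 350 1)) (.leaf (.up 1 51 1))))) (.node (.node (.node (.leaf (.up 1 36 1)) (.leaf (.up 4 329 1))) (.node (.leaf (.up 5 81 0)) (.leaf (.up 4 2040 0)))) (.node (.node (.leaf (.up 7 1366 1)) (.leaf (.up 3 1084 0))) (.node (.leaf (.up 5 1203 1)) (.leaf (.up 6 1502 1)))))) (.node (.node (.node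 (.node (.leaf (.up 5 542 1)) (.leaf (.up 4 1135 0))) (.node (.leaf (.up 3 1285 0)) (.leaf (.up 7 662 1)))) (.node (.node (.leaf (.up 4 1729 0)) (.leaf (.up 4 360 0))) (.node (.leaf (.up 1 2 0)) (.leaf (.up 5 1963 0))))) (.node (.node (.node (.leaf (.up 4 1006 0)) (.leaf (.up 4 1095 0))) (.node (.leaf (.up 3 1325 0)) (.leaf (.up 3 1915 1)))) (.node (.node (.leaf (.up 4 1769 0)) (.leaf (.up 6 1004 1))) (.node (.leaf (.up 1 42 0)) (.leaf (.up 4 1923 0))))))) (.node (.node (.node (.node (.node (.leaf (.root 2744)) (.leaf (.up 3 704 1))) (.node (.leaf (.up 3 899 0)) (.leaf (.up 3 805 1)))) (.node (.node (.leaf (.up 4 1759 1)) (.leaf (.up 3 1970 1))) (.node (.leaf (.up 5 1668 0)) (.leaf (.up 5 1623 1))))) (.node (.node (.node (.leaf (.root 6128)) (.leaf (.up 4 705 0))) (.node (.leaf (.up 3 939 0)) (.leaf (.up 3 1026 0)))) (.node (.node (.leaf (.up 5 111 0)) (.leaf (.up 6 607 1))) (.node (.leaf (.up 4 727 1)) (.leaf (.up 2 954 1)))))) (.node (.node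 (.node (.node (.leaf (.up 5 1146 1)) (.leaf (.up 3 1303 1))) (.node (.leaf (.up 5 1791 0)) (.leaf (.up 3 1266 1)))) (.node (.node (.leaf (.up 5 264 1)) (.leaf (.up 4 658 0))) (.node (.leaf (.up 4 237 1)) (.leaf (.up 4 1105 0))))) (.node (.node (.node (.leaf (.up 1 20 0)) (.leaf (.up 3 250 1))) (.node (.leaf (.up 1 114 1)) (.leaf (.up 3 287 1)))) (.node (.node (.leaf (.up 3 1253 1)) (.leaf (.up 3 1416 1))) (.node (.leaf (.up 7 1280 1)) (.leaf (.up 4 1133 1)))))))) (.node (.node (.node (.node (.node (.node (.leaf (.root 6328)) (.leaf (.up 6 1798 1))) (.node (.leaf (.up 5 1222 0)) (.leaf (.up 5 879 0)))) (.node (.node (.leaf (.up 5 1794 0)) (.leaf (.up 6 628 1))) (.node (.leaf (.up 5 449 0)) (.leaf (.up 4 913 1))))) (.node (.node (.node (.leaf (.up 5 902 1)) (.leaf (.up 4 1412 0))) (.node (.leaf (.up 3 611 1)) (.leaf (.up 5 839 0)))) (.node (.node (.leaf (.up 4 1780 1)) (.leaf (.up 6 1945 1))) (.node (.leaf (.up 3 489 0)) (.leaf (.up 2 1600 0))))))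 (.node (.node (.node (.node (.leaf (.up 4 1913 0)) (.leaf (.up 3 208 0))) (.node (.leaf (.up 5 442 0)) (.leaf (.up 4 308 1)))) (.node (.node (.leaf (.up 3 638 0)) (.leaf (.up 3 1443 1))) (.node (.leaf (.up 5 1323 1)) (.leaf (.up 5 788 0))))) (.node (.node (.node (.leaf (.up 4 1105 1)) (.leaf (.up 2 1340 1))) (.node (.leaf (.up 4 1460 1)) (.leaf (.up 5 1241 1)))) (.node (.node (.leaf (.up 2 291 1)) (.leaf (.up 1 78 1))) (.node (.leaf (.up 4 1173 0)) (.leaf (.up 6 427 1))))))) (.node (.node (.node (.node (.node (.leaf (.up 1 15 1)) (.leaf (.up 4 354 1))) (.node (.leaf (.up 6 1852 0)) (.leaf (.up 4 135 1)))) (.node (.node (.leaf (.up 3 1272 0)) (.leaf (.up 5 1040 1))) (.node (.leaf (.up 5 571 0)) (.leaf (.up 3 1525 1))))) (.node (.node (.node (.leaf (.up 5 1506 1)) (.leaf (.up 4 1662 0))) (.node (.leaf (.up 2 1031 1)) (.leaf (.up 6 189 0)))) (.node (.node (.leaf (.up 1 144 1)) (.leaf (.up 7 509 1))) (.node (.leaf (.up 2 531 0)) (.leaf (.up 5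 1466 0)))))) (.node (.node (.node (.node (.leaf (.up 3 1155 0)) (.leaf (.up 5 810 0))) (.node (.leaf (.up 4 1597 1)) (.leaf (.up 3 1513 0)))) (.node (.node (.leaf (.up 6 388 0)) (.leaf (.up 4 1581 0))) (.node (.leaf (.up 6 847 1)) (.leaf (.up 4 238 0))))) (.node (.node (.node (.leaf (.up 3 565 1)) (.leaf (.up 3 770 0))) (.node (.leaf (.up 5 616 0)) (.leaf (.up 7 701 1)))) (.node (.node (.leaf (.up 6 428 0)) (.leaf (.up 3 1541 0))) (.node (.leaf (.up 3 1698 1)) (.leaf (.up 5 1999 1))))))))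

noncomputable def vt6_4_1001 : Tr VStep :=
  .node (.node (.node (.node (.node (.node (.node (.leaf (.root 3884)) (.leaf (.up 3 1865 1))) (.node (.leaf (.up 5 1985 1)) (.leaf (.up 3 1471 0)))) (.node (.node (.leaf (.up 3 466 0)) (.leaf (.up 3 1659 0))) (.node (.leaf (.up 4 691 1)) (.leaf (.up 5 990 1))))) (.node (.node (.node (.leaf (.up 5 969 1)) (.leaf (.up 3 852 0))) (.node (.leaf (.up 2 556 1)) (.leaf (.up 2 833 1)))) (.node (.node (.leaf (.up 5 506 0)) (.leaf (.up 4 2006 1))) (.node (.leaf (.up 2 1886 1)) (.leaf (.up 1 144 0)))))) (.node (.node (.node (.node (.leaf (.up 5 499 1)) (.leaf (.up 3 158 1))) (.node (.leaf (.up 1 22 1)) (.leaf (.up 3 379 1)))) (.node (.node (.leaf (.up 3 1198 0)) (.leaf (.up 5 775 0))) (.node (.leaf (.up 3 1380 1)) (.leaf (.up 2 1476 0))))) (.node (.node (.node (.leaf (.up 6 1054 1)) (.leaf (.up 4 1395 1))) (.node (.leaf (.up 3 1531 1)) (.leaf (.up 3 1174 1)))) (.node (.node (.leaf (.up 2 1158 0)) (.leaf (.up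 1 1 1))) (.node (.leaf (.up 4 581 0)) (.leaf (.up 6 484 1))))))) (.node (.node (.node (.node (.node (.leaf (.up 5 1839 0)) (.leaf (.up 4 134 0))) (.node (.leaf (.up 2 421 1)) (.leaf (.up 3 200 1)))) (.node (.node (.leaf (.up 5 552 0)) (.leaf (.up 4 1409 0))) (.node (.leaf (.up 5 1239 1)) (.leaf (.up 5 834 0))))) (.node (.node (.node (.leaf (.root 3276)) (.leaf (.up 7 1216 1))) (.node (.leaf (.up 7 1096 1)) (.leaf (.up 6 1317 1)))) (.node (.node (.leaf (.up 5 223 1)) (.leaf (.up 3 434 1))) (.node (.leaf (.up 5 1219 0)) (.leaf (.up 1 87 1)))))) (.node (.node (.node (.node (.leaf (.up 5 1943 1)) (.leaf (.up 3 1786 1))) (.node (.leaf (.up 2 1168 0)) (.leaf (.up 3 1823 1)))) (.node (.node (.leaf (.up 5 1876 0)) (.leaf (.up 7 904 1))) (.node (.leaf (.up 3 407 0)) (.leaf (.up 6 621 1))))) (.node (.node (.node (.leaf (.up 2 635 0)) (.leaf (.up 3 791 1))) (.node (.leaf (.up 5 1208 0)) (.leaf (.up 3 754 1)))) (.node (.node (.leaf (.up 2 1800 1)) (.leaf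 (.up 2 1637 1))) (.node (.leaf (.up 4 447 0)) (.leaf (.up 4 1920 1)))))))) (.node (.node (.node (.node (.node (.node (.leaf (.root 3866)) (.leaf (.up 7 1259 1))) (.node (.leaf (.up 7 1123 1)) (.leaf (.up 6 1294 1)))) (.node (.node (.leaf (.up 5 1389 0)) (.leaf (.up 5 708 0))) (.node (.leaf (.up 4 942 0)) (.leaf (.up 2 1031 0))))) (.node (.node (.node (.leaf (.up 6 107 1)) (.leaf (.up 2 2027 0))) (.node (.leaf (.up 2 398 1)) (.leaf (.up 2 227 1)))) (.node (.node (.leaf (.up 6 1305 1)) (.leaf (.up 2 748 0))) (.node (.leaf (.up 2 1276 1)) (.leaf (.up 5 1071 0)))))) (.node (.node (.node (.node (.leaf (.up 6 593 1)) (.leaf (.up 5 703 0))) (.node (.leaf (.up 3 981 0)) (.leaf (.up 2 1148 0)))) (.node (.node (.leaf (.up 1 17 0)) (.leaf (.up 5 1976 0))) (.node (.leaf (.up 3 1746 0)) (.leaf (.up 3 379 0))))) (.node (.node (.node (.leaf (.up 2 1342 0)) (.leaf (.up 4 663 0))) (.node (.leaf (.up 3 1625 1)) (.leaf (.up 5 1108 0)))) (.node (.node (.leaf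 (.up 1 57 0)) (.leaf (.up 7 931 1))) (.node (.leaf (.up 3 1786 0)) (.leaf (.up 3 339 0))))))) (.node (.node (.node (.node (.node (.leaf (.root 4192)) (.leaf (.up 4 655 1))) (.node (.leaf (.up 6 1363 0)) (.leaf (.up 2 762 0)))) (.node (.node (.leaf (.up 6 1680 1)) (.leaf (.up 4 2045 1))) (.node (.leaf (.up 5 84 0)) (.leaf (.up 4 2045 0))))) (.node (.node (.node (.leaf (.up 3 1551 1)) (.leaf (.up 6 1890 1))) (.node (.leaf (.up 4 2026 1)) (.leaf (.up 6 722 0)))) (.node (.node (.leaf (.up 2 1727 0)) (.leaf (.up 5 278 0))) (.node (.leaf (.up 4 124 0)) (.leaf (.up 6 2005 0)))))) (.node (.node (.node (.node (.leaf (.up 6 1772 0)) (.leaf (.up 4 1368 1))) (.node (.leaf (.up 1 47 0)) (.leaf (.up 7 1213 1)))) (.node (.node (.leaf (.up 6 1003 0)) (.leaf (.up 1 42 1))) (.node (.leaf (.up 6 162 1)) (.leaf (.up 3 463 1))))) (.node (.node (.node (.leaf (.up 2 472 1)) (.leaf (.up 4 365 0))) (.node (.leaf (.up 1 7 0)) (.leaf (.up 6 336 1)))) (.node (.node (.leaf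 (.up 6 963 0)) (.leaf (.up 2 1479 1))) (.node (.leaf (.up 5 1359 1)) (.leaf (.up 6 1058 1))))))))

noncomputable def vt6_4_100 : Tr VStep := .node vt6_4_1000 vt6_4_1001

noncomputable def vt6_4_1010 : Tr VStep :=
  .node (.node (.node (.node (.node (.node (.node (.leaf (.root 6444)) (.leaf (.up 1 51 0))) (.node (.leaf (.up 2 345 0)) (.leaf (.up 2 1776 0)))) (.node (.node (.leaf (.up 4 669 0)) (.leaf (.up 2 205 1))) (.node (.leaf (.up 5 69 1)) (.leaf (.up 5 296 1))))) (.node (.node (.node (.leaf (.root 4122)) (.leaf (.up 2 27 0))) (.node (.leaf (.up 5 218 1)) (.leaf (.up 3 439 1)))) (.node (.node (.leaf (.up 5 693 0)) (.leaf (.up 3 1312 1))) (.node (.leaf (.up 4 1448 1)) (.leaf (.up 3 991 0)))))) (.node (.node (.node (.node (.leaf (.up 4 742 0)) (.leaf (.up 5 1359 0))) (.node (.leaf (.up 3 736 1)) (.leaf (.up 5 908 0)))) (.node (.node (.leaf (.up 5 2017 0)) (.leaf (.up 7 1818 1))) (.node (.leaf (.up 7 1938 1)) (.leaf (.up 3 1675 0))))) (.node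 (.node (.node (.leaf (.up 3 718 0)) (.leaf (.up 4 1925 1))) (.node (.leaf (.up 4 1037 0)) (.leaf (.up 5 932 0)))) (.node (.node (.leaf (.up 7 922 1)) (.leaf (.up 2 96 0))) (.node (.leaf (.up 4 266 0)) (.leaf (.up 3 1699 0))))))) (.node (.node (.node (.node (.node (.leaf (.up 4 694 1)) (.leaf (.up 5 969 0))) (.node (.leaf (.up 5 851 1)) (.leaf (.up 5 574 1)))) (.node (.node (.leaf (.up 5 1988 1)) (.leaf (.up 5 1742 0))) (.node (.leaf (.up 2 1956 0)) (.leaf (.up 1 13 0))))) (.node (.node (.node (.leaf (.up 5 1883 1)) (.leaf (.up 6 1590 1))) (.node (.leaf (.up 6 1726 1)) (.leaf (.up 4 2003 1)))) (.node (.node (.leaf (.up 1 335 0)) (.leaf (.up 2 1766 0))) (.node (.leaf (.up 5 972 1)) (.leaf (.up 4 673 1)))))) (.node (.node (.node (.node (.leaf (.up 5 1377 1)) (.leaf (.up 5 1717 0))) (.node (.leaf (.up 2 2015 0)) (.leaf (.up 1 118 0)))) (.node (.node (.leaf (.up 1 19 1)) (.leaf (.up 6 382 1))) (.node (.leaf (.up 2 502 1)) (.leaf (.up 2 155 1)))))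 (.node (.node (.node (.leaf (.up 4 308 0)) (.leaf (.up 2 1693 0))) (.node (.leaf (.up 6 361 1)) (.leaf (.up 1 4 1)))) (.node (.node (.leaf (.up 4 1534 1)) (.leaf (.up 5 1171 1))) (.node (.leaf (.up 4 1051 1)) (.leaf (.up 3 1398 1)))))))) (.node (.node (.node (.node (.node (.node (.leaf (.root 4648)) (.leaf (.up 2 1565 1))) (.node (.leaf (.up 4 1510 0)) (.leaf (.up 4 2040 1)))) (.node (.node (.leaf (.up 3 1570 0)) (.leaf (.up 3 395 0))) (.node (.leaf (.up 2 225 0)) (.leaf (.up 4 650 1))))) (.node (.node (.node (.leaf (.up 4 669 1)) (.leaf (.up 3 1008 1))) (.node (.leaf (.up 4 888 1)) (.leaf (.up 5 533 1)))) (.node (.node (.leaf (.up 3 2031 1)) (.leaf (.up 2 419 0))) (.node (.leaf (.up 6 1546 1)) (.leaf (.up 5 1888 0)))))) (.node (.node (.node (.node (.leaf (.root 5890)) (.leaf (.up 4 496 0))) (.node (.leaf (.up 2 154 0)) (.leaf (.up 1 47 1)))) (.node (.node (.leaf (.up 5 862 0)) (.leaf (.up 5 1271 0))) (.node (.leaf (.up 3 1072 1)) (.leaf (.up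 4 1373 1))))) (.node (.node (.node (.leaf (.up 4 1649 0)) (.leaf (.up 2 472 0))) (.node (.leaf (.up 4 178 0)) (.leaf (.up 5 1819 0)))) (.node (.node (.leaf (.up 4 56 1)) (.leaf (.up 6 341 1))) (.node (.leaf (.up 2 1461 0)) (.leaf (.up 5 176 1))))))) (.node (.node (.node (.node (.node (.leaf (.up 5 223 0)) (.leaf (.up 7 121 1))) (.node (.leaf (.up 2 1564 0)) (.leaf (.up 4 437 0)))) (.node (.node (.leaf (.up 3 1126 1)) (.leaf (.up 5 625 0))) (.node (.leaf (.up 3 1411 1)) (.leaf (.up 4 1202 0))))) (.node (.node (.node (.leaf (.up 5 1273 1)) (.leaf (.up 2 1886 0))) (.node (.leaf (.up 4 1588 0)) (.leaf (.up 4 413 0)))) (.node (.node (.leaf (.up 3 395 1)) (.leaf (.up 1 230 1))) (.node (.leaf (.up 3 110 1)) (.leaf (.up 4 1178 0)))))) (.node (.node (.node (.node (.leaf (.root 4898)) (.leaf (.up 5 522 0))) (.node (.leaf (.up 4 864 0)) (.leaf (.up 4 1611 1)))) (.node (.node (.leaf (.up 3 945 1)) (.leaf (.up 6 1805 0))) (.node (.leaf (.up 2 1639 0))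 (.leaf (.up 6 825 1))))) (.node (.node (.node (.leaf (.up 4 1419 0)) (.leaf (.up 6 546 0))) (.node (.leaf (.up 4 715 1)) (.leaf (.up 4 1249 0)))) (.node (.node (.leaf (.up 6 140 0)) (.leaf (.up 2 1829 0))) (.node (.leaf (.up 7 1977 1)) (.leaf (.up 5 1748 1))))))))

noncomputable def vt6_4_1011 : Tr VStep :=
  .node (.node (.node (.node (.node (.node (.node (.leaf (.root 4488)) (.leaf (.up 3 604 0))) (.node (.leaf (.up 3 1754 1)) (.leaf (.up 6 1975 1)))) (.node (.node (.leaf (.up 6 589 1)) (.leaf (.up 5 1883 0))) (.node (.leaf (.up 5 1585 0)) (.leaf (.up 5 709 1))))) (.node (.node (.node (.leaf (.up 4 1501 0)) (.leaf (.up 4 959 1))) (.node (.leaf (.up 4 798 0)) (.leaf (.up 6 602 1)))) (.node (.node (.leaf (.up 5 218 0)) (.leaf (.up 2 1907 0))) (.node (.leaf (.up 6 1605 1)) (.leaf (.up 6 1832 1)))))) (.node (.node (.node (.node (.leaf (.up 5 232 1)) (.leaf (.up 6 389 1))) (.node (.leaf (.up 5 1610 0)) (.leaf (.up 2 96 1)))) (.node (.node (.leaf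 (.up 4 1422 0)) (.leaf (.up 5 1271 1))) (.node (.leaf (.up 2 1151 1)) (.leaf (.up 2 1298 1))))) (.node (.node (.node (.leaf (.up 1 161 0)) (.leaf (.up 2 1800 0))) (.node (.leaf (.up 5 1634 0)) (.leaf (.up 3 1421 1)))) (.node (.node (.leaf (.up 1 119 1)) (.leaf (.up 4 282 1))) (.node (.leaf (.up 3 869 0)) (.leaf (.up 4 1228 0))))))) (.node (.node (.node (.node (.node (.leaf (.root 2648)) (.leaf (.up 1 54 1))) (.node (.leaf (.up 5 190 1)) (.leaf (.up 3 1893 0)))) (.node (.node (.leaf (.up 5 1065 1)) (.leaf (.up 2 1348 1))) (.node (.leaf (.up 4 1484 1)) (.leaf (.up 5 1185 1))))) (.node (.node (.node (.leaf (.up 6 1206 1)) (.leaf (.up 2 398 0))) (.node (.leaf (.up 4 228 0)) (.leaf (.up 3 1869 0)))) (.node (.node (.leaf (.up 5 800 0)) (.leaf (.up 1 169 1))) (.node (.leaf (.up 1 33 1)) (.leaf (.up 7 332 1)))))) (.node (.node (.node (.node (.leaf (.up 5 1676 1)) (.leaf (.up 3 1242 0))) (.node (.leaf (.up 5 1456 0)) (.leaf (.up 6 1540 1)))) (.node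 (.node (.leaf (.up 3 1652 0)) (.leaf (.up 4 477 0))) (.node (.leaf (.up 5 183 0)) (.leaf (.up 6 886 1))))) (.node (.node (.node (.leaf (.up 3 859 0)) (.leaf (.up 3 1266 0))) (.node (.leaf (.up 6 644 1)) (.leaf (.up 5 1001 1)))) (.node (.node (.leaf (.up 6 1555 1)) (.leaf (.up 5 1918 1))) (.node (.leaf (.up 4 2038 1)) (.leaf (.up 5 1846 0)))))))) (.node (.node (.node (.node (.node (.node (.leaf (.root 3146)) (.leaf (.up 6 1520 1))) (.node (.leaf (.up 2 1929 0)) (.leaf (.up 1 32 0)))) (.node (.node (.leaf (.up 7 495 1)) (.leaf (.up 1 130 1))) (.node (.leaf (.up 1 10 1)) (.leaf (.up 7 359 1))))) (.node (.node (.node (.leaf (.up 4 354 0)) (.leaf (.up 1 29 1))) (.node (.leaf (.up 3 1953 0)) (.leaf (.up 1 8 0)))) (.node (.node (.leaf (.up 3 1026 1)) (.leaf (.up 5 972 0))) (.node (.leaf (.up 3 1511 1)) (.leaf (.up 4 1295 0)))))) (.node (.node (.node (.node (.leaf (.up 4 1078 0)) (.leaf (.up 7 551 1))) (.node (.leaf (.up 5 757 0)) (.leaf (.up 6 962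 1)))) (.node (.node (.leaf (.up 4 305 0)) (.leaf (.up 3 1688 0))) (.node (.leaf (.up 4 2034 0)) (.leaf (.up 1 91 0))))) (.node (.node (.node (.leaf (.up 4 1703 1)) (.leaf (.up 3 1994 1))) (.node (.leaf (.up 6 1858 1)) (.leaf (.up 7 1583 1)))) (.node (.node (.leaf (.up 3 981 1)) (.leaf (.up 3 1712 0))) (.node (.leaf (.up 4 2010 0)) (.leaf (.up 5 861 1))))))) (.node (.node (.node (.node (.node (.leaf (.up 2 761 1)) (.leaf (.up 4 916 1))) (.node (.leaf (.up 6 1139 0)) (.leaf (.up 3 986 0)))) (.node (.node (.leaf (.up 3 1931 1)) (.leaf (.up 2 1766 1))) (.node (.leaf (.up 3 1646 1)) (.leaf (.up 6 1795 1))))) (.node (.node (.node (.leaf (.up 5 1812 1)) (.leaf (.up 6 1329 0))) (.node (.leaf (.up 6 1115 0)) (.leaf (.up 3 1010 0)))) (.node (.node (.leaf (.up 3 614 1)) (.leaf (.up 1 54 0))) (.node (.leaf (.up 3 899 1)) (.leaf (.up 5 1781 0)))))) (.node (.node (.node (.node (.leaf (.root 5534)) (.leaf (.up 6 101 0))) (.node (.leaf (.up 2 271 0)) (.leaf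 (.up 4 1446 1)))) (.node (.node (.leaf (.up 1 92 1)) (.leaf (.up 4 305 1))) (.node (.leaf (.up 3 441 1)) (.leaf (.up 5 929 0))))) (.node (.node (.node (.leaf (.up 6 195 1)) (.leaf (.up 6 77 0))) (.node (.leaf (.up 4 294 1)) (.leaf (.up 1 75 1)))) (.node (.node (.leaf (.up 6 739 0)) (.leaf (.up 6 1354 0))) (.node (.leaf (.up 5 1056 0)) (.leaf (.up 3 905 0))))))))

noncomputable def vt6_4_101 : Tr VStep := .node vt6_4_1010 vt6_4_1011

noncomputable def vt6_4_10 : Tr VStep := .node vt6_4_100 vt6_4_101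

noncomputable def vt6_4_1100 : Tr VStep :=
  .node (.node (.node (.node (.node (.node (.node (.leaf (.root 5292)) (.leaf (.up 4 371 0))) (.node (.leaf (.up 1 25 0)) (.leaf (.up 6 591 1)))) (.node (.node (.leaf (.up 5 989 0)) (.leaf (.up 4 1140 0))) (.node (.leaf (.up 4 1616 1)) (.leaf (.up 5 695 0))))) (.node (.node (.node (.leaf (.up 6 1834 1)) (.leaf (.up 2 347 0))) (.node (.leaf (.up 2 49 0)) (.leaf (.up 3 1944 0)))) (.node (.node (.leaf (.up 6 600 1)) (.leaf (.up 2 1116 0))) (.node (.leaf (.up 2 1334 0)) (.leaf (.up 3 720 1)))))) (.node (.node (.node (.node (.leaf (.up 3 1296 1)) (.leaf (.up 7 1149 1))) (.node (.leaf (.up 7 1269 1)) (.leaf (.up 5 716 0)))) (.node (.node (.leaf (.up 1 98 1)) (.leaf (.up 2 271 1))) (.node (.leaf (.up 1 98 0)) (.leaf (.up 4 1995 0))))) (.node (.node (.node (.leaf (.up 5 910 0)) (.leaf (.up 4 1063 0))) (.node (.leaf (.up 5 280 1)) (.leaf (.up 1 117 1)))) (.node (.node (.leaf (.up 3 1673 0)) (.leaf (.up 2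 288 0))) (.node (.leaf (.up 5 1130 1)) (.leaf (.up 6 1287 1))))))) (.node (.node (.node (.node (.node (.leaf (.root 5830)) (.leaf (.up 3 649 0))) (.node (.leaf (.up 6 995 0)) (.leaf (.up 2 1067 1)))) (.node (.node (.leaf (.up 1 39 0)) (.leaf (.up 5 1934 0))) (.node (.leaf (.up 1 52 1)) (.leaf (.up 2 345 1))))) (.node (.node (.node (.leaf (.up 2 1288 0)) (.leaf (.up 1 35 1))) (.node (.leaf (.up 6 971 0)) (.leaf (.up 2 1122 0)))) (.node (.node (.leaf (.up 1 15 0)) (.leaf (.up 2 1958 0))) (.node (.leaf (.up 6 1740 0)) (.leaf (.up 2 357 0)))))) (.node (.node (.node (.node (.leaf (.up 1 92 0)) (.leaf (.up 6 2037 0))) (.node (.leaf (.up 2 1695 0)) (.leaf (.up 1 310 0)))) (.node (.node (.leaf (.up 4 1542 1)) (.leaf (.up 3 754 0))) (.node (.leaf (.up 5 920 0)) (.leaf (.up 4 1678 1))))) (.node (.node (.node (.leaf (.up 1 116 0)) (.leaf (.up 6 2013 0))) (.node (.leaf (.up 5 1916 1)) (.leaf (.up 6 1553 1)))) (.node (.node (.leaf (.up 4 1395 0)) (.leaf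 (.up 3 730 0))) (.node (.leaf (.up 5 526 1)) (.leaf (.up 6 867 1)))))))) (.node (.node (.node (.node (.node (.node (.leaf (.root 5108)) (.leaf (.up 1 8 1))) (.node (.leaf (.up 1 128 1)) (.leaf (.up 5 783 0)))) (.node (.node (.leaf (.up 3 1047 1)) (.leaf (.up 5 203 0))) (.node (.leaf (.up 3 1522 1)) (.leaf (.up 5 1544 0))))) (.node (.node (.node (.leaf (.up 4 1160 1)) (.leaf (.up 4 1508 0))) (.node (.leaf (.up 5 1166 0)) (.leaf (.up 3 1024 1)))) (.node (.node (.leaf (.up 5 1866 0)) (.leaf (.up 2 227 0))) (.node (.leaf (.up 3 31 1)) (.leaf (.up 5 1568 0)))))) (.node (.node (.node (.node (.leaf (.root 4450)) (.leaf (.up 2 2015 1))) (.node (.leaf (.up 5 1879 1)) (.leaf (.up 5 1651 0)))) (.node (.node (.leaf (.up 2 960 1)) (.leaf (.up 5 685 1))) (.node (.leaf (.up 4 1245 0)) (.leaf (.up 3 884 0))))) (.node (.node (.node (.leaf (.up 4 1841 0)) (.leaf (.up 2 152 0))) (.node (.leaf (.up 4 498 0)) (.leaf (.up 5 1627 0)))) (.node (.node (.leaf (.up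 4 1581 1)) (.leaf (.up 6 1856 1))) (.node (.leaf (.up 5 1992 1)) (.leaf (.up 3 860 0))))))) (.node (.node (.node (.node (.node (.leaf (.root 6040)) (.leaf (.up 4 1644 1))) (.node (.leaf (.up 4 1764 1)) (.leaf (.up 2 1929 1)))) (.node (.node (.leaf (.up 6 627 1)) (.leaf (.up 4 798 1))) (.node (.leaf (.up 5 603 0)) (.leaf (.up 3 1522 0))))) (.node (.node (.node (.leaf (.root 5376)) (.leaf (.up 4 1566 0))) (.node (.leaf (.up 3 1908 0)) (.leaf (.up 4 612 1)))) (.node (.node (.leaf (.up 3 1950 1)) (.leaf (.up 5 793 0))) (.node (.leaf (.up 3 1659 1)) (.leaf (.up 3 1498 0)))))) (.node (.node (.node (.node (.leaf (.up 5 214 1)) (.leaf (.up 5 443 1))) (.node (.leaf (.up 5 544 0)) (.leaf (.up 4 94 1)))) (.node (.node (.leaf (.up 3 1444 1)) (.leaf (.up 3 1613 0))) (.node (.leaf (.up 5 1089 1)) (.leaf (.up 1 142 0))))) (.node (.node (.node (.leaf (.up 4 1227 0)) (.leaf (.up 7 1110 1))) (.node (.leaf (.up 5 1246 1)) (.leaf (.up 6 1459 1)))) (.node (.node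 (.leaf (.up 4 460 0)) (.leaf (.up 2 1637 0))) (.node (.leaf (.up 4 1807 0)) (.leaf (.up 5 166 0))))))))

noncomputable def vt6_4_1101 : Tr VStep :=
  .node (.node (.node (.node (.node (.node (.node (.leaf (.root 6042)) (.leaf (.up 6 71 1))) (.node (.leaf (.up 6 207 1)) (.leaf (.up 2 418 1)))) (.node (.node (.leaf (.root 6146)) (.leaf (.up 6 1333 1))) (.node (.leaf (.up 2 1469 1)) (.leaf (.up 4 1232 1))))) (.node (.node (.node (.leaf (.up 2 1181 0)) (.leaf (.up 4 1450 1))) (.node (.leaf (.up 6 1314 1)) (.leaf (.up 2 1527 0)))) (.node (.node (.leaf (.up 2 410 0)) (.leaf (.up 3 1587 0))) (.node (.leaf (.up 1 80 1)) (.leaf (.up 2 240 0)))))) (.node (.node (.node (.node (.leaf (.root 4128)) (.leaf (.up 5 1632 0))) (.node (.leaf (.up 3 1802 0)) (.leaf (.up 3 163 0)))) (.node (.node (.leaf (.up 5 1230 0)) (.leaf (.up 5 871 0))) (.node (.leaf (.up 4 525 0)) (.leaf (.up 3 1444 0))))) (.node (.node (.node (.leaf (.up 4 481 0)) (.leaf (.up 3 637 1)))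 (.node (.leaf (.up 3 1826 0)) (.leaf (.up 3 139 0)))) (.node (.node (.leaf (.up 5 1254 0)) (.leaf (.up 4 1807 1))) (.node (.leaf (.up 5 1927 1)) (.leaf (.up 3 1770 1))))))) (.node (.node (.node (.node (.node (.leaf (.up 5 1871 0)) (.leaf (.up 1 230 0))) (.node (.leaf (.up 6 396 0)) (.leaf (.up 6 1573 0)))) (.node (.node (.leaf (.up 5 584 0)) (.leaf (.up 4 1505 0))) (.node (.leaf (.up 4 985 1)) (.leaf (.up 3 802 0))))) (.node (.node (.node (.leaf (.up 7 675 1)) (.leaf (.up 5 206 0))) (.node (.leaf (.up 6 420 0)) (.leaf (.up 7 555 1)))) (.node (.node (.leaf (.up 5 608 0)) (.leaf (.up 2 1481 0))) (.node (.leaf (.up 2 1187 0)) (.leaf (.up 4 1881 1)))))) (.node (.node (.node (.node (.leaf (.up 5 563 0)) (.leaf (.up 6 1434 0))) (.node (.leaf (.up 6 380 1)) (.leaf (.up 1 17 1)))) (.node (.node (.leaf (.up 7 1515 1)) (.leaf (.up 2 1158 1))) (.node (.leaf (.up 6 1038 1)) (.leaf (.up 4 1379 1))))) (.node (.node (.node (.leaf (.up 5 539 0)) (.leaf (.up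 6 1458 0))) (.node (.leaf (.up 5 1169 1)) (.leaf (.up 6 1532 1)))) (.node (.node (.leaf (.up 1 6 1)) (.leaf (.up 6 181 0))) (.node (.leaf (.up 5 483 1)) (.leaf (.up 1 142 1)))))))) (.node (.node (.node (.node (.node (.node (.leaf (.up 1 10 0)) (.leaf (.up 3 1955 0))) (.node (.leaf (.up 4 1737 0)) (.leaf (.up 7 512 1)))) (.node (.node (.leaf (.up 3 2042 1)) (.leaf (.up 5 676 0))) (.node (.leaf (.up 5 974 0)) (.leaf (.up 4 1127 0))))) (.node (.node (.node (.leaf (.up 1 34 0)) (.leaf (.up 3 1931 0))) (.node (.leaf (.up 4 1761 0)) (.leaf (.up 4 328 0)))) (.node (.node (.leaf (.up 3 535 1)) (.leaf (.up 5 890 1))) (.node (.leaf (.up 3 1010 1)) (.leaf (.up 4 1103 0)))))) (.node (.node (.node (.node (.leaf (.root 2639)) (.leaf (.up 5 1074 1))) (.node (.leaf (.up 4 949 0)) (.leaf (.up 4 1052 0)))) (.node (.node (.leaf (.up 1 45 1)) (.leaf (.up 5 2008 0))) (.node (.leaf (.up 2 1714 0)) (.leaf (.up 4 283 0))))) (.node (.node (.node (.leaf (.up 4 178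 1)) (.leaf (.up 4 759 0))) (.node (.leaf (.up 4 925 0)) (.leaf (.up 3 58 1)))) (.node (.node (.leaf (.up 7 1472 1)) (.leaf (.up 3 1197 1))) (.node (.leaf (.up 4 1690 0)) (.leaf (.up 7 1352 1))))))) (.node (.node (.node (.node (.node (.leaf (.root 6240)) (.leaf (.up 4 1409 1))) (.node (.leaf (.up 4 1289 1)) (.leaf (.up 5 1124 1)))) (.node (.node (.leaf (.up 5 1783 0)) (.leaf (.up 5 243 1))) (.node (.leaf (.up 1 52 0)) (.leaf (.up 5 1949 0))))) (.node (.node (.node (.leaf (.up 5 984 0)) (.leaf (.up 3 108 1))) (.node (.leaf (.up 4 228 1)) (.leaf (.up 6 393 1)))) (.node (.node (.leaf (.up 4 1759 0)) (.leaf (.up 6 1310 1))) (.node (.leaf (.up 1 28 0)) (.leaf (.up 5 1973 0)))))) (.node (.node (.node (.node (.leaf (.up 2 827 1)) (.leaf (.up 5 598 1))) (.node (.leaf (.up 1 79 0)) (.leaf (.up 2 2022 0)))) (.node (.node (.leaf (.up 2 907 0)) (.leaf (.up 4 1828 1))) (.node (.leaf (.up 5 1964 1)) (.leaf (.up 2 737 0))))) (.node (.node (.node (.leaf (.root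 3492)) (.leaf (.up 6 1979 1))) (.node (.leaf (.up 4 1843 1)) (.leaf (.up 3 1998 0)))) (.node (.node (.leaf (.up 5 932 1)) (.leaf (.up 2 1034 0))) (.node (.leaf (.up 4 577 1)) (.leaf (.up 4 812 1))))))))

noncomputable def vt6_4_110 : Tr VStep := .node vt6_4_1100 vt6_4_1101

noncomputable def vt6_4_1110 : Tr VStep :=
  .node (.node (.node (.node (.node (.node (.node (.leaf (.root 5056)) (.leaf (.up 1 83 0))) (.node (.leaf (.up 7 569 1)) (.leaf (.up 3 852 1)))) (.node (.node (.leaf (.up 5 765 0)) (.leaf (.up 5 1364 0))) (.node (.leaf (.up 4 1867 1)) (.leaf (.up 2 919 0))))) (.node (.node (.node (.leaf (.up 3 2002 0)) (.leaf (.up 3 123 0))) (.node (.leaf (.up 3 2004 1)) (.leaf (.up 7 1721 1)))) (.node (.node (.leaf (.up 2 835 1)) (.leaf (.up 4 1404 0))) (.node (.leaf (.up 6 678 1)) (.leaf (.up 4 959 0)))))) (.node (.node (.node (.node (.leaf (.up 5 646 0)) (.leaf (.up 3 1382 1))) (.node (.leaf (.up 3 1518 1)) (.leaf (.up 3 1155 1)))) (.node (.node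 (.leaf (.up 7 377 1)) (.leaf (.up 1 20 1))) (.node (.leaf (.up 4 322 0)) (.leaf (.up 7 497 1))))) (.node (.node (.node (.leaf (.up 4 686 0)) (.leaf (.up 3 139 1))) (.node (.leaf (.up 1 3 1)) (.leaf (.up 3 366 1)))) (.node (.node (.leaf (.up 2 1961 0)) (.leaf (.up 1 0 0))) (.node (.leaf (.up 5 1393 1)) (.leaf (.up 2 1731 0))))))) (.node (.node (.node (.node (.node (.leaf (.root 6122)) (.leaf (.up 3 1237 1))) (.node (.leaf (.up 6 707 0)) (.leaf (.up 6 1328 1)))) (.node (.node (.leaf (.up 4 202 1)) (.leaf (.up 6 423 1))) (.node (.leaf (.up 5 1988 0)) (.leaf (.up 6 109 0))))) (.node (.node (.node (.leaf (.up 1 85 1)) (.leaf (.up 5 312 1))) (.node (.leaf (.up 6 747 0)) (.leaf (.up 3 1346 0)))) (.node (.node (.leaf (.up 5 303 0)) (.leaf (.up 5 1098 1))) (.node (.leaf (.up 4 1218 1)) (.leaf (.up 5 69 0)))))) (.node (.node (.node (.node (.leaf (.up 4 623 1)) (.leaf (.up 3 770 1))) (.node (.leaf (.up 6 1983 0)) (.leaf (.up 1 22 0)))) (.node (.node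 (.leaf (.up 6 1147 0)) (.leaf (.up 5 978 0))) (.node (.leaf (.up 4 1784 1)) (.leaf (.up 6 1941 1))))) (.node (.node (.node (.leaf (.up 5 340 0)) (.leaf (.up 2 1789 0))) (.node (.leaf (.up 2 1639 1)) (.leaf (.up 1 62 0)))) (.node (.node (.leaf (.up 3 1107 0)) (.leaf (.up 2 1018 0))) (.node (.leaf (.up 3 789 1)) (.leaf (.up 4 632 1)))))))) (.node (.node (.node (.node (.node (.node (.leaf (.up 6 126 1)) (.leaf (.up 2 1260 0))) (.node (.leaf (.up 2 1414 0)) (.leaf (.up 5 246 1)))) (.node (.node (.leaf (.up 6 1292 1)) (.leaf (.up 2 491 0))) (.node (.leaf (.up 2 129 0)) (.leaf (.up 4 1412 1))))) (.node (.node (.node (.leaf (.up 3 1427 1)) (.leaf (.up 2 1278 1))) (.node (.leaf (.up 3 1454 0)) (.leaf (.up 6 1307 1)))) (.node (.node (.leaf (.up 2 225 1)) (.leaf (.up 4 451 0))) (.node (.leaf (.up 1 169 0)) (.leaf (.up 4 1792 0)))))) (.node (.node (.node (.node (.leaf (.root 6148)) (.leaf (.up 5 1732 1))) (.node (.leaf (.up 3 250 0)) (.leaf (.up 4 1875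 0)))) (.node (.node (.leaf (.up 5 830 0)) (.leaf (.up 3 1175 0))) (.node (.leaf (.up 5 830 1)) (.leaf (.up 4 596 0))))) (.node (.node (.node (.leaf (.up 4 580 1)) (.leaf (.up 4 440 0))) (.node (.leaf (.up 3 210 0)) (.leaf (.up 3 1915 0)))) (.node (.node (.leaf (.up 5 1846 1)) (.leaf (.up 5 1215 0))) (.node (.leaf (.up 6 1747 1)) (.leaf (.up 3 636 0))))))) (.node (.node (.node (.node (.node (.leaf (.up 2 191 0)) (.leaf (.up 5 1814 0))) (.node (.leaf (.up 4 1660 0)) (.leaf (.up 4 1682 1)))) (.node (.node (.leaf (.up 2 1464 0)) (.leaf (.up 3 517 1))) (.node (.leaf (.up 5 653 1)) (.leaf (.up 2 1234 0))))) (.node (.node (.node (.leaf (.up 4 151 0)) (.leaf (.up 7 666 1))) (.node (.leaf (.up 4 530 1)) (.leaf (.up 5 895 1)))) (.node (.node (.leaf (.up 2 1424 0)) (.leaf (.up 5 2024 1))) (.node (.leaf (.up 5 851 0)) (.leaf (.up 5 1274 0)))))) (.node (.node (.node (.node (.leaf (.root 4890)) (.leaf (.up 5 160 1))) (.node (.leaf (.up 4 40 1)) (.leaf (.up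 6 325 1)))) (.node (.node (.leaf (.up 5 1215 1)) (.leaf (.up 6 1490 1))) (.node (.leaf (.up 4 1543 0)) (.leaf (.up 6 1079 1))))) (.node (.node (.node (.leaf (.up 5 1056 1)) (.leaf (.up 4 578 0))) (.node (.leaf (.up 3 1477 1)) (.leaf (.up 4 1192 1)))) (.node (.node (.leaf (.up 7 338 1)) (.leaf (.up 1 63 1))) (.node (.leaf (.up 5 183 1)) (.leaf (.up 7 474 1))))))))

noncomputable def vt6_4_1111 : Tr VStep :=
  .node (.node (.node (.node (.node (.node (.node (.leaf (.root 6072)) (.leaf (.up 6 348 1))) (.node (.leaf (.up 5 854 0)) (.leaf (.up 2 1279 0)))) (.node (.node (.leaf (.up 1 146 0)) (.leaf (.up 3 1070 1))) (.node (.leaf (.up 4 1190 1)) (.leaf (.up 3 504 0))))) (.node (.node (.node (.leaf (.up 2 1469 0)) (.leaf (.up 5 1201 1))) (.node (.leaf (.up 3 894 0)) (.leaf (.up 5 1239 0)))) (.node (.node (.leaf (.up 5 186 0)) (.leaf (.up 4 451 1))) (.node (.leaf (.up 6 331 1)) (.leaf (.up 1 38 1)))))) (.node (.node (.node (.node (.leaf (.root 5712))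 (.leaf (.up 3 1675 1))) (.node (.leaf (.up 5 1578 0)) (.leaf (.up 6 1902 1)))) (.node (.node (.leaf (.root 5562)) (.leaf (.up 4 583 0))) (.node (.leaf (.up 5 813 0)) (.leaf (.up 4 1156 0))))) (.node (.node (.node (.leaf (.up 5 193 0)) (.leaf (.up 4 870 1))) (.node (.leaf (.up 2 1538 0)) (.leaf (.up 3 643 1)))) (.node (.node (.leaf (.up 2 1478 0)) (.leaf (.up 4 623 0))) (.node (.leaf (.up 5 1692 1)) (.leaf (.up 4 1196 0))))))) (.node (.node (.node (.node (.node (.leaf (.root 5452)) (.leaf (.up 4 454 0))) (.node (.leaf (.up 6 172 0)) (.leaf (.up 6 1797 0)))) (.node (.node (.leaf (.up 4 872 0)) (.leaf (.up 5 1217 0))) (.node (.leaf (.up 3 1451 0)) (.leaf (.up 4 943 1))))) (.node (.node (.node (.leaf (.up 4 1607 0)) (.leaf (.up 5 725 1))) (.node (.leaf (.up 6 605 1)) (.leaf (.up 6 1837 0)))) (.node (.node (.leaf (.up 2 832 0)) (.leaf (.up 4 1257 0))) (.node (.leaf (.up 3 1411 0)) (.leaf (.up 6 554 0)))))) (.node (.node (.node (.node (.leaf (.up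 4 787 0)) (.leaf (.up 3 239 1))) (.node (.leaf (.up 3 1488 0)) (.leaf (.up 2 633 0)))) (.node (.node (.leaf (.up 6 1556 0)) (.leaf (.up 4 445 0))) (.node (.leaf (.up 4 1301 1)) (.leaf (.up 5 1918 0))))) (.node (.node (.node (.leaf (.up 2 827 0)) (.leaf (.up 4 1170 0))) (.node (.leaf (.up 5 1528 0)) (.leaf (.up 3 1255 1)))) (.node (.node (.leaf (.up 6 1596 0)) (.leaf (.up 4 405 0))) (.node (.leaf (.up 5 248 1)) (.leaf (.up 2 1878 0)))))))) (.node (.node (.node (.node (.node (.node (.leaf (.up 2 298 0)) (.leaf (.up 4 1667 0))) (.node (.leaf (.up 5 2025 0)) (.leaf (.up 6 795 1)))) (.node (.node (.leaf (.up 2 1069 0)) (.leaf (.up 7 1932 1))) (.node (.leaf (.up 7 1796 1)) (.leaf (.up 2 1351 0))))) (.node (.node (.node (.leaf (.up 4 1662 1)) (.leaf (.up 6 1811 1))) (.node (.leaf (.up 5 1985 0)) (.leaf (.up 1 104 0)))) (.node (.node (.leaf (.up 2 1029 0)) (.leaf (.up 6 609 1))) (.node (.leaf (.up 6 745 1)) (.leaf (.up 5 1391 0)))))) (.node (.node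 (.node (.node (.leaf (.up 5 1092 1)) (.leaf (.up 5 1321 1))) (.node (.leaf (.up 5 661 0)) (.leaf (.up 2 1340 0)))) (.node (.node (.leaf (.up 1 310 1)) (.leaf (.up 1 91 1))) (.node (.leaf (.up 5 211 1)) (.leaf (.up 1 59 0))))) (.node (.node (.node (.leaf (.up 4 1150 0)) (.leaf (.up 7 196 1))) (.node (.leaf (.up 5 76 1)) (.leaf (.up 3 1300 0)))) (.node (.node (.leaf (.up 5 1243 1)) (.leaf (.up 4 1744 0))) (.node (.leaf (.up 2 1342 1)) (.leaf (.up 1 19 0))))))) (.node (.node (.node (.node (.node (.leaf (.root 5406)) (.leaf (.up 2 1401 0))) (.node (.leaf (.up 2 1043 0)) (.leaf (.up 2 954 0)))) (.node (.node (.leaf (.up 1 133 1)) (.leaf (.up 4 488 1))) (.node (.leaf (.up 5 276 0)) (.leaf (.up 1 13 1))))) (.node (.node (.node (.leaf (.up 1 26 1)) (.leaf (.up 4 1361 0))) (.node (.leaf (.up 4 511 1)) (.leaf (.up 1 146 1)))) (.node (.node (.leaf (.up 3 1384 1)) (.leaf (.up 2 1029 1))) (.node (.leaf (.up 3 316 0)) (.leaf (.up 5 1504 1)))))) (.node (.node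 (.node (.node (.leaf (.up 5 1964 0)) (.leaf (.up 1 5 0))) (.node (.leaf (.up 5 965 1)) (.leaf (.up 5 1734 0)))) (.node (.node (.leaf (.up 5 1874 1)) (.leaf (.up 3 1599 1))) (.node (.leaf (.up 4 1128 0)) (.leaf (.up 2 961 0))))) (.node (.node (.node (.leaf (.up 5 1997 1)) (.leaf (.up 1 45 0))) (.node (.leaf (.up 6 1576 1)) (.leaf (.up 4 1861 1)))) (.node (.node (.leaf (.up 3 643 0)) (.leaf (.up 3 1322 0))) (.node (.leaf (.up 5 858 1)) (.leaf (.up 5 1001 0))))))))

noncomputable def vt6_4_111 : Tr VStep := .node vt6_4_1110 vt6_4_1111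

noncomputable def vt6_4_11 : Tr VStep := .node vt6_4_110 vt6_4_111

noncomputable def vt6_4_1 : Tr VStep := .node vt6_4_10 vt6_4_11

noncomputable def vt6_4_ : Tr VStep := .node vt6_4_0 vt6_4_1

noncomputable def vt6_5_0000 : Tr VStep :=
  .node (.node (.node (.node (.node (.node (.node (.leaf (.root 3976)) (.leaf (.up 3 1147 0))) (.node (.leaf (.up 3 411 0)) (.leaf (.up 3 609 0)))) (.node (.node (.leaf (.up 1 40 0)) (.leaf (.up 3 978 0))) (.node (.leaf (.up 3 302 1)) (.leaf (.up 4 1480 0))))) (.node (.node (.node (.leaf (.up 1 5 1)) (.leaf (.up 2 1107 0))) (.node (.leaf (.up 1 174 1)) (.leaf (.up 2 585 0)))) (.node (.node (.leaf (.up 1 0 0)) (.leaf (.up 3 1018 0))) (.node (.leaf (.up 3 1562 0)) (.leaf (.up 1 14 1)))))) (.node (.node (.node (.node (.leaf (.root 5002)) (.leaf (.up 3 1834 0))) (.node (.leaf (.up 2 714 0)) (.leaf (.up 2 304 0)))) (.node (.node (.leaf (.up 3 1125 1)) (.leaf (.up 1 131 0))) (.node (.leaf (.up 3 1379 0)) (.leaf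 (.up 3 1689 0))))) (.node (.node (.node (.leaf (.up 4 1272 0)) (.leaf (.up 4 1567 1))) (.node (.leaf (.up 3 738 0)) (.leaf (.up 2 280 0)))) (.node (.node (.leaf (.up 3 849 0)) (.leaf (.up 1 171 0))) (.node (.leaf (.up 3 1556 1)) (.leaf (.up 4 1713 0))))))) (.node (.node (.node (.node (.node (.leaf (.up 4 1285 1)) (.leaf (.up 2 1791 1))) (.node (.leaf (.up 2 1454 1)) (.leaf (.up 1 581 0)))) (.node (.node (.leaf (.up 1 12 0)) (.leaf (.up 4 1014 0))) (.node (.leaf (.up 4 1558 0)) (.leaf (.up 3 1516 0))))) (.node (.node (.node (.leaf (.up 2 1933 0)) (.leaf (.up 3 1143 0))) (.node (.leaf (.up 1 407 0)) (.leaf (.up 2 621 0)))) (.node (.node (.leaf (.up 1 36 0)) (.leaf (.up 2 990 0))) (.node (.leaf (.up 3 1070 1)) (.leaf (.up 3 1476 0)))))) (.node (.node (.node (.node (.leaf (.root 6088)) (.leaf (.up 4 799 1))) (.node (.leaf (.up 1 78 1)) (.leaf (.up 1 276 0)))) (.node (.node (.leaf (.up 2 861 0)) (.leaf (.up 1 69 1))) (.node (.leaf (.up 3 1351 0))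 (.leaf (.up 1 238 1))))) (.node (.node (.node (.leaf (.up 2 575 1)) (.leaf (.up 3 1830 0))) (.node (.leaf (.up 3 710 0)) (.leaf (.up 2 366 1)))) (.node (.node (.leaf (.up 2 885 0)) (.leaf (.up 2 671 1))) (.node (.leaf (.up 2 462 1)) (.leaf (.up 4 1685 0)))))))) (.node (.node (.node (.node (.node (.node (.leaf (.root 2678)) (.leaf (.up 4 766 1))) (.node (.leaf (.up 1 333 0)) (.leaf (.up 2 695 0)))) (.node (.node (.leaf (.up 1 254 0)) (.leaf (.up 2 772 0))) (.node (.leaf (.up 2 1764 0)) (.leaf (.up 2 1310 0))))) (.node (.node (.node (.leaf (.root 4032)) (.leaf (.up 1 36 1))) (.node (.leaf (.up 2 885 1)) (.leaf (.up 2 671 0)))) (.node (.node (.leaf (.up 2 132 1)) (.leaf (.up 4 894 1))) (.node (.leaf (.up 1 47 1)) (.leaf (.up 2 1334 0)))))) (.node (.node (.node (.node (.leaf (.root 4478)) (.leaf (.up 2 2044 0))) (.node (.leaf (.up 3 540 0)) (.leaf (.up 2 486 0)))) (.node (.node (.leaf (.root 3082)) (.leaf (.up 1 85 0))) (.node (.leaf (.up 2 1813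 1)) (.leaf (.up 4 1615 0))))) (.node (.node (.node (.leaf (.up 3 1070 0)) (.leaf (.up 3 1476 1))) (.node (.leaf (.up 4 1685 1)) (.leaf (.up 2 462 0)))) (.node (.node (.leaf (.root 3668)) (.leaf (.up 1 125 0))) (.node (.leaf (.up 3 1437 0)) (.leaf (.up 2 1639 0))))))) (.node (.node (.node (.node (.node (.leaf (.root 6034)) (.leaf (.up 2 1161 0))) (.node (.leaf (.up 2 361 0)) (.leaf (.up 3 1423 1)))) (.node (.node (.leaf (.up 1 218 0)) (.leaf (.up 3 1662 1))) (.node (.leaf (.up 3 1728 0)) (.leaf (.up 2 1338 0))))) (.node (.node (.node (.leaf (.root 6252)) (.leaf (.up 3 2046 1))) (.node (.leaf (.up 1 321 0)) (.leaf (.up 3 699 0)))) (.node (.node (.leaf (.up 2 242 0)) (.leaf (.up 3 776 0))) (.node (.leaf (.up 4 2037 1)) (.leaf (.up 4 1298 0)))))) (.node (.node (.node (.node (.leaf (.up 2 1058 0)) (.leaf (.up 3 196 1))) (.node (.leaf (.up 3 568 0)) (.leaf (.up 2 450 0)))) (.node (.node (.leaf (.up 3 907 0)) (.leaf (.up 4 926 1))) (.node (.leaf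 (.up 2 1425 0)) (.leaf (.up 4 1643 0))))) (.node (.node (.node (.leaf (.up 3 1034 0)) (.leaf (.up 4 542 1))) (.node (.leaf (.up 2 528 0)) (.leaf (.up 3 693 1)))) (.node (.node (.leaf (.up 2 931 0)) (.leaf (.up 1 89 0))) (.node (.leaf (.up 2 1465 0)) (.leaf (.up 3 1603 0))))))))

noncomputable def vt6_5_0001 : Tr VStep :=
  .node (.node (.node (.node (.node (.node (.node (.leaf (.up 4 232 1)) (.leaf (.up 4 786 1))) (.node (.leaf (.up 1 67 1)) (.leaf (.up 3 513 0)))) (.node (.node (.leaf (.up 1 72 0)) (.leaf (.up 1 72 1))) (.node (.leaf (.up 2 1618 0)) (.leaf (.up 1 227 1))))) (.node (.node (.node (.leaf (.up 4 1993 0)) (.leaf (.up 2 1075 0))) (.node (.leaf (.up 2 467 0)) (.leaf (.up 1 355 1)))) (.node (.node (.leaf (.up 1 96 0)) (.leaf (.up 4 658 1))) (.node (.leaf (.up 3 451 1)) (.leaf (.up 4 1408 0)))))) (.node (.node (.node (.node (.leaf (.root 5284)) (.leaf (.up 3 1866 0))) (.node (.leaf (.up 3 682 0)) (.leaf (.up 1 336 0)))) (.node (.node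 (.leaf (.root 3596)) (.leaf (.up 1 227 0))) (.node (.leaf (.up 3 1785 1)) (.leaf (.up 3 1785 0))))) (.node (.node (.node (.leaf (.root 4780)) (.leaf (.up 2 1890 0))) (.node (.leaf (.up 4 1913 1)) (.leaf (.up 4 1155 1)))) (.node (.node (.leaf (.up 3 1160 1)) (.leaf (.up 3 203 0))) (.node (.leaf (.up 3 1323 0)) (.leaf (.up 3 2009 1))))))) (.node (.node (.node (.node (.node (.leaf (.root 4104)) (.leaf (.up 3 1224 1))) (.node (.leaf (.up 4 1945 1)) (.leaf (.up 4 1123 1)))) (.node (.node (.leaf (.up 1 108 0)) (.leaf (.up 3 918 0))) (.node (.leaf (.up 3 1654 0)) (.leaf (.up 3 1849 1))))) (.node (.node (.node (.leaf (.up 4 2029 0)) (.leaf (.up 3 1047 0))) (.node (.leaf (.up 1 503 0)) (.leaf (.up 2 1721 1)))) (.node (.node (.leaf (.up 3 1714 1)) (.leaf (.up 2 1352 1))) (.node (.leaf (.up 2 1561 1)) (.leaf (.up 4 1444 0)))))) (.node (.node (.node (.node (.leaf (.root 4518)) (.leaf (.up 2 296 1))) (.node (.leaf (.up 2 633 1)) (.leaf (.up 1 372 0))))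 (.node (.node (.leaf (.up 2 392 1)) (.leaf (.up 1 199 0))) (.node (.leaf (.up 2 1319 0)) (.leaf (.up 3 1757 0))))) (.node (.node (.node (.leaf (.up 3 1212 0)) (.leaf (.up 2 1862 0))) (.node (.leaf (.up 2 678 0)) (.leaf (.up 3 348 0)))) (.node (.node (.leaf (.up 2 789 0)) (.leaf (.up 3 239 0))) (.node (.leaf (.up 3 1017 1)) (.leaf (.up 1 3 1)))))))) (.node (.node (.node (.node (.node (.node (.leaf (.root 6426)) (.leaf (.up 1 201 1))) (.node (.leaf (.up 3 301 0)) (.leaf (.up 3 98 1)))) (.node (.node (.leaf (.up 1 105 1)) (.leaf (.up 2 915 1))) (.node (.leaf (.up 2 194 1)) (.leaf (.up 4 1406 0))))) (.node (.node (.node (.leaf (.root 6292)) (.leaf (.up 3 531 1))) (.node (.leaf (.up 3 261 0)) (.leaf (.up 2 696 1)))) (.node (.node (.leaf (.up 1 182 0)) (.leaf (.up 3 844 0))) (.node (.leaf (.up 4 536 1)) (.leaf (.up 3 482 1)))))) (.node (.node (.node (.node (.leaf (.root 5462)) (.leaf (.up 3 1321 1))) (.node (.leaf (.up 2 636 0)) (.leaf (.up 3 390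 0)))) (.node (.node (.leaf (.up 2 975 0)) (.leaf (.up 4 1651 1))) (.node (.leaf (.up 3 1493 0)) (.leaf (.up 2 1583 0))))) (.node (.node (.node (.leaf (.up 4 1102 0)) (.leaf (.up 2 2035 1))) (.node (.leaf (.up 2 1186 1)) (.leaf (.up 3 1880 1)))) (.node (.node (.leaf (.up 3 999 0)) (.leaf (.up 1 29 0))) (.node (.leaf (.up 3 1533 0)) (.leaf (.up 4 1543 0))))))) (.node (.node (.node (.node (.node (.leaf (.root 5482)) (.leaf (.up 2 1257 0))) (.node (.leaf (.up 2 265 0)) (.leaf (.up 1 755 0)))) (.node (.node (.leaf (.up 1 186 0)) (.leaf (.up 4 832 0))) (.node (.leaf (.up 3 1696 0)) (.leaf (.up 4 1370 0))))) (.node (.node (.node (.leaf (.root 5528)) (.leaf (.up 2 1481 1))) (.node (.leaf (.up 1 289 0)) (.leaf (.up 3 1378 1)))) (.node (.node (.leaf (.up 1 146 0)) (.leaf (.up 3 872 0))) (.node (.leaf (.up 2 1672 0)) (.leaf (.up 2 1592 1)))))) (.node (.node (.node (.node (.leaf (.root 4988)) (.leaf (.up 1 755 1))) (.node (.leaf (.up 3 600 0)) (.leaf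 (.up 3 600 1)))) (.node (.node (.leaf (.up 3 1003 0)) (.leaf (.up 1 17 0))) (.node (.leaf (.up 3 1521 0)) (.leaf (.up 4 258 1))))) (.node (.node (.node (.leaf (.up 4 1130 0)) (.leaf (.up 3 1936 0))) (.node (.leaf (.up 4 888 1)) (.leaf (.up 1 130 1)))) (.node (.node (.leaf (.up 1 137 1)) (.leaf (.up 1 57 0))) (.node (.leaf (.up 1 34 1)) (.leaf (.up 4 1571 0))))))))

noncomputable def vt6_5_000 : Tr VStep := .node vt6_5_0000 vt6_5_0001

noncomputable def vt6_5_0010 : Tr VStep :=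
  .node (.node (.node (.node (.node (.node (.node (.leaf (.root 3656)) (.leaf (.up 1 176 1))) (.node (.leaf (.up 3 993 1)) (.leaf (.up 1 27 1)))) (.node (.node (.leaf (.up 1 16 1)) (.leaf (.up 4 1002 1))) (.node (.leaf (.up 1 187 1)) (.leaf (.up 3 833 1))))) (.node (.node (.node (.leaf (.up 1 61 0)) (.leaf (.up 3 618 1))) (.node (.leaf (.up 1 315 1)) (.leaf (.up 3 705 1)))) (.node (.node (.leaf (.root 4520)) (.leaf (.up 2 304 1))) (.node (.leaf (.up 3 609 1)) (.leaf (.up 3 411 1)))))) (.node (.node (.node (.node (.leaf (.up 4 836 0)) (.leaf (.up 2 1360 1))) (.node (.leaf (.up 2 1537 1)) (.leaf (.up 4 1531 1)))) (.node (.node (.leaf (.up 2 1520 1)) (.leaf (.up 3 1815 0))) (.node (.leaf (.up 3 759 0)) (.leaf (.up 4 269 0))))) (.node (.node (.node (.leaf (.up 2 876 0)) (.leaf (.up 3 150 0))) (.node (.leaf (.up 2 1243 1)) (.leaf (.up 2 1676 0)))) (.node (.node (.leaf (.up 3 1834 1)) (.leaf (.up 2 1855 0))) (.node (.leaf (.up 2 735 0)) (.leaf (.up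 3 1147 1))))))) (.node (.node (.node (.node (.node (.leaf (.root 4034)) (.leaf (.up 2 971 0))) (.node (.leaf (.up 3 1579 0)) (.leaf (.up 2 1489 0)))) (.node (.node (.leaf (.root 5734)) (.leaf (.up 3 1072 1))) (.node (.leaf (.up 3 1889 1)) (.leaf (.up 4 1179 1))))) (.node (.node (.node (.leaf (.up 1 25 0)) (.leaf (.up 4 995 0))) (.node (.leaf (.up 4 1761 1)) (.leaf (.up 3 1529 0)))) (.node (.node (.leaf (.up 3 1296 1)) (.leaf (.up 3 1098 0))) (.node (.leaf (.up 2 426 0)) (.leaf (.up 4 592 0)))))) (.node (.node (.node (.node (.leaf (.up 4 864 0)) (.leaf (.up 1 154 0))) (.node (.leaf (.up 3 475 1)) (.leaf (.up 3 1664 0)))) (.node (.node (.leaf (.up 3 554 1)) (.leaf (.up 1 464 1))) (.node (.leaf (.up 3 641 1)) (.leaf (.up 4 297 0))))) (.node (.node (.node (.leaf (.root 4210)) (.leaf (.up 1 80 1))) (.node (.leaf (.up 3 769 1)) (.leaf (.up 1 251 1)))) (.node (.node (.leaf (.up 4 240 1)) (.leaf (.up 4 778 1))) (.node (.leaf (.up 3 91 1)) (.leaf (.up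 3 257 0)))))))) (.node (.node (.node (.node (.node (.node (.leaf (.root 5620)) (.leaf (.up 4 825 0))) (.node (.leaf (.up 1 58 1)) (.leaf (.up 2 1315 0)))) (.node (.node (.leaf (.root 6184)) (.leaf (.up 2 1168 0))) (.node (.leaf (.up 4 864 1)) (.leaf (.up 1 154 1))))) (.node (.node (.node (.leaf (.root 4308)) (.leaf (.up 3 433 1))) (.node (.leaf (.up 4 736 1)) (.leaf (.up 4 282 1)))) (.node (.node (.leaf (.up 1 273 1)) (.leaf (.up 1 747 1))) (.node (.leaf (.up 3 344 0)) (.leaf (.up 3 576 1)))))) (.node (.node (.node (.node (.leaf (.up 3 1393 1)) (.leaf (.up 1 104 0))) (.node (.leaf (.up 3 1498 1)) (.leaf (.up 2 1568 1)))) (.node (.node (.leaf (.up 3 1579 1)) (.leaf (.up 2 1489 1))) (.node (.leaf (.up 3 1664 1)) (.leaf (.up 3 475 0))))) (.node (.node (.node (.leaf (.up 3 1963 1)) (.leaf (.up 1 64 0))) (.node (.leaf (.up 3 1440 0)) (.leaf (.up 3 1274 1)))) (.node (.node (.leaf (.up 3 1265 1)) (.leaf (.up 4 1803 1))) (.node (.leaf (.up 3 1114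 1)) (.leaf (.up 4 499 0))))))) (.node (.node (.node (.node (.node (.leaf (.root 4812)) (.leaf (.up 3 1201 1))) (.node (.leaf (.up 3 1789 0)) (.leaf (.up 2 1050 1)))) (.node (.node (.leaf (.up 3 1870 0)) (.leaf (.up 3 2027 1))) (.node (.leaf (.up 2 1210 1)) (.leaf (.up 4 686 0))))) (.node (.node (.node (.leaf (.root 6054)) (.leaf (.up 4 1643 1))) (.node (.leaf (.root 4582)) (.leaf (.up 3 1728 1)))) (.node (.node (.leaf (.up 3 1894 0)) (.leaf (.up 3 1329 1))) (.node (.leaf (.up 2 1632 1)) (.leaf (.up 3 1434 1)))))) (.node (.node (.node (.node (.leaf (.up 3 950 0)) (.leaf (.up 1 76 0))) (.node (.leaf (.up 4 512 1)) (.leaf (.up 3 506 1)))) (.node (.node (.leaf (.root 3978)) (.leaf (.up 2 2021 0))) (.node (.leaf (.up 2 517 0)) (.leaf (.up 2 672 1))))) (.node (.node (.node (.leaf (.up 4 926 0)) (.leaf (.up 3 907 1))) (.node (.leaf (.up 1 218 1)) (.leaf (.up 3 1662 0)))) (.node (.node (.leaf (.up 2 811 1)) (.leaf (.up 1 209 1))) (.node (.leaf (.up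 4 896 1)) (.leaf (.up 4 471 0))))))))

noncomputable def vt6_5_0011 : Tr VStep :=
  .node (.node (.node (.node (.node (.node (.node (.leaf (.root 5956)) (.leaf (.up 2 647 1))) (.node (.leaf (.up 3 470 1)) (.leaf (.up 2 1429 0)))) (.node (.node (.leaf (.up 2 551 1)) (.leaf (.up 2 1062 0))) (.node (.leaf (.up 3 652 1)) (.leaf (.up 4 374 1))))) (.node (.node (.node (.leaf (.up 1 93 0)) (.leaf (.up 1 93 1))) (.node (.leaf (.up 2 1607 0)) (.leaf (.up 1 246 1)))) (.node (.node (.leaf (.up 3 253 1)) (.leaf (.up 4 775 1))) (.node (.leaf (.up 3 86 1)) (.leaf (.up 2 532 0)))))) (.node (.node (.node (.node (.leaf (.root 3862)) (.leaf (.up 4 1895 1))) (.node (.leaf (.up 2 1342 0)) (.leaf (.up 3 1732 0)))) (.node (.node (.leaf (.up 3 1991 1)) (.leaf (.up 3 1911 0))) (.node (.leaf (.up 2 663 0)) (.leaf (.up 3 365 0))))) (.node (.node (.node (.leaf (.up 2 1607 1)) (.leaf (.up 1 246 0))) (.node (.leaf (.up 2 1302 0)) (.leaf (.up 2 1302 1)))) (.node (.node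 (.leaf (.up 4 1309 1)) (.leaf (.up 2 1767 1))) (.node (.leaf (.up 2 1462 1)) (.leaf (.up 4 325 0))))))) (.node (.node (.node (.node (.node (.leaf (.up 4 81 0)) (.leaf (.up 2 939 0))) (.node (.leaf (.up 3 1548 1)) (.leaf (.up 3 1457 0)))) (.node (.node (.leaf (.up 3 1533 1)) (.leaf (.up 4 1543 1))) (.node (.leaf (.up 3 482 0)) (.leaf (.up 4 536 0))))) (.node (.node (.node (.leaf (.up 1 121 0)) (.leaf (.up 2 899 0))) (.node (.leaf (.root 6132)) (.leaf (.up 3 1433 0)))) (.node (.node (.leaf (.up 3 2000 0)) (.leaf (.up 3 1066 0))) (.node (.leaf (.up 3 1932 1)) (.leaf (.up 3 560 0)))))) (.node (.node (.node (.node (.leaf (.root 4806)) (.leaf (.up 1 189 1))) (.node (.leaf (.up 3 1306 0)) (.leaf (.up 1 22 1)))) (.node (.node (.leaf (.up 1 29 1)) (.leaf (.up 3 999 1))) (.node (.leaf (.up 1 182 1)) (.leaf (.up 3 844 1))))) (.node (.node (.node (.leaf (.up 4 808 0)) (.leaf (.up 3 210 0))) (.node (.leaf (.up 2 1330 0)) (.leaf (.up 3 716 1)))) (.node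 (.node (.leaf (.up 3 711 1)) (.leaf (.up 2 1915 0))) (.node (.leaf (.up 4 620 1)) (.leaf (.up 3 353 0)))))))) (.node (.node (.node (.node (.node (.node (.leaf (.root 3838)) (.leaf (.up 3 348 1))) (.node (.leaf (.up 2 1721 0)) (.leaf (.up 1 503 1)))) (.node (.node (.leaf (.up 4 508 1)) (.leaf (.up 3 518 1))) (.node (.leaf (.up 2 272 0)) (.leaf (.up 3 746 0))))) (.node (.node (.node (.leaf (.up 4 139 0)) (.leaf (.up 4 902 1))) (.node (.leaf (.up 2 1681 0)) (.leaf (.up 3 813 1)))) (.node (.node (.leaf (.up 2 1826 0)) (.leaf (.up 1 220 1))) (.node (.leaf (.up 2 312 0)) (.leaf (.up 4 706 0)))))) (.node (.node (.node (.node (.leaf (.root 3574)) (.leaf (.up 3 1212 1))) (.node (.leaf (.up 4 2029 1)) (.leaf (.up 3 1047 1)))) (.node (.node (.leaf (.up 2 1115 0)) (.leaf (.up 3 2022 1))) (.node (.leaf (.up 3 577 0)) (.leaf (.up 2 443 0))))) (.node (.node (.node (.leaf (.root 3420)) (.leaf (.up 3 1638 1))) (.node (.leaf (.up 2 1472 0)) (.leaf (.up 3 1741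 1)))) (.node (.node (.leaf (.up 3 1139 0)) (.leaf (.up 3 1340 1))) (.node (.leaf (.up 2 617 0)) (.leaf (.up 3 1431 1))))))) (.node (.node (.node (.node (.node (.leaf (.root 5986)) (.leaf (.up 2 893 0))) (.node (.leaf (.up 3 1693 0)) (.leaf (.up 3 1581 1)))) (.node (.node (.leaf (.up 3 1574 1)) (.leaf (.up 2 1236 0))) (.node (.leaf (.up 4 1677 1)) (.leaf (.up 2 718 0))))) (.node (.node (.node (.leaf (.up 4 175 0)) (.leaf (.up 2 853 0))) (.node (.leaf (.up 2 1805 1)) (.leaf (.up 4 1271 1)))) (.node (.node (.leaf (.up 2 1276 1)) (.leaf (.up 2 1276 0))) (.node (.leaf (.up 3 1111 1)) (.leaf (.up 2 1965 1)))))) (.node (.node (.node (.node (.leaf (.up 3 982 0)) (.leaf (.up 3 870 1))) (.node (.leaf (.up 1 55 1)) (.leaf (.up 3 1590 0)))) (.node (.node (.leaf (.up 3 966 1)) (.leaf (.up 1 60 1))) (.node (.leaf (.up 3 613 0)) (.leaf (.up 1 151 1))))) (.node (.node (.node (.leaf (.root 2632)) (.leaf (.up 1 4 0))) (.node (.leaf (.up 3 749 1)) (.leaf (.up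 3 279 1)))) (.node (.node (.leaf (.up 3 1111 0)) (.leaf (.up 2 1965 0))) (.node (.leaf (.up 1 439 1)) (.leaf (.up 1 439 0))))))))

noncomputable def vt6_5_001 : Tr VStep := .node vt6_5_0010 vt6_5_0011

noncomputable def vt6_5_00 : Tr VStep := .node vt6_5_000 vt6_5_001

noncomputable def vt6_5_0100 : Tr VStep :=
  .node (.node (.node (.node (.node (.node (.node (.leaf (.root 6260)) (.leaf (.up 3 196 0))) (.node (.leaf (.root 5776)) (.leaf (.up 2 1758 0)))) (.node (.node (.leaf (.up 3 1175 0)) (.leaf (.up 2 1901 0))) (.node (.leaf (.up 2 653 0)) (.leaf (.up 3 375 0))))) (.node (.node (.node (.leaf (.root 6010)) (.leaf (.up 3 1282 1))) (.node (.leaf (.up 3 1292 0)) (.leaf (.up 4 1782 0)))) (.node (.node (.leaf (.up 4 1215 0)) (.leaf (.up 4 1624 1))) (.node (.leaf (.up 2 1289 1)) (.leaf (.up 2 351 0)))))) (.node (.node (.node (.node (.leaf (.root 4066)) (.leaf (.up 3 568 1))) (.node (.leaf (.up 2 361 1)) (.leaf (.up 3 1423 0)))) (.node (.node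 (.leaf (.up 4 1990 0)) (.leaf (.up 3 1084 0))) (.node (.leaf (.up 4 563 1)) (.leaf (.up 2 457 1))))) (.node (.node (.node (.leaf (.up 1 71 0)) (.leaf (.up 2 226 1))) (.node (.leaf (.up 3 1629 0)) (.leaf (.up 4 73 1)))) (.node (.node (.leaf (.up 1 66 1)) (.leaf (.up 3 952 1))) (.node (.leaf (.up 1 233 1)) (.leaf (.up 2 787 1))))))) (.node (.node (.node (.node (.node (.leaf (.root 4310)) (.leaf (.up 1 2 1))) (.node (.leaf (.up 4 851 1)) (.leaf (.up 1 169 1)))) (.node (.node (.leaf (.up 1 162 1)) (.leaf (.up 4 856 1))) (.node (.leaf (.up 1 9 1)) (.leaf (.up 1 339 0))))) (.node (.node (.node (.leaf (.root 5662)) (.leaf (.up 1 200 0))) (.node (.leaf (.up 4 1320 0)) (.leaf (.up 4 1746 0)))) (.node (.node (.leaf (.up 4 1179 0)) (.leaf (.up 3 1889 0))) (.node (.leaf (.up 3 641 0)) (.leaf (.up 4 297 1)))))) (.node (.node (.node (.node (.leaf (.up 2 75 0)) (.leaf (.up 4 945 0))) (.node (.leaf (.up 4 1617 0)) (.leaf (.up 3 1353 1)))) (.node (.node (.leaf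 (.up 4 1346 1)) (.leaf (.up 2 1048 0))) (.node (.leaf (.up 2 504 0)) (.leaf (.up 1 514 0))))) (.node (.node (.node (.leaf (.up 1 99 0)) (.leaf (.up 3 921 0))) (.node (.leaf (.up 2 1657 0)) (.leaf (.up 3 1411 0)))) (.node (.node (.leaf (.up 2 1994 0)) (.leaf (.up 3 1072 0))) (.node (.leaf (.up 1 464 0)) (.leaf (.up 3 554 0)))))))) (.node (.node (.node (.node (.node (.node (.leaf (.root 3560)) (.leaf (.up 1 18 0))) (.node (.leaf (.up 4 1874 1)) (.leaf (.up 4 1544 0)))) (.node (.node (.leaf (.up 4 1089 0)) (.leaf (.up 3 1979 0))) (.node (.leaf (.up 3 603 0)) (.leaf (.up 1 417 0))))) (.node (.node (.node (.leaf (.root 4814)) (.leaf (.up 1 58 0))) (.node (.leaf (.up 3 1498 0)) (.leaf (.up 2 1568 0)))) (.node (.node (.leaf (.root 6080)) (.leaf (.up 3 1411 1))) (.node (.leaf (.up 4 1746 1)) (.leaf (.up 4 1320 1)))))) (.node (.node (.node (.node (.leaf (.root 3218)) (.leaf (.up 3 835 0))) (.node (.leaf (.up 2 1699 0)) (.leaf (.up 1 328 1)))) (.node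 (.node (.leaf (.up 3 1808 0)) (.leaf (.up 4 697 1))) (.node (.leaf (.up 3 488 1)) (.leaf (.up 3 752 0))))) (.node (.node (.node (.leaf (.up 2 145 0)) (.leaf (.up 4 825 1))) (.node (.leaf (.up 1 104 1)) (.leaf (.up 3 1393 0)))) (.node (.node (.leaf (.up 3 921 1)) (.leaf (.up 1 99 1))) (.node (.leaf (.up 2 290 0)) (.leaf (.up 1 200 1))))))) (.node (.node (.node (.node (.node (.leaf (.up 1 35 1)) (.leaf (.up 1 54 0))) (.node (.leaf (.up 3 1494 0)) (.leaf (.up 4 1580 0)))) (.node (.node (.leaf (.up 3 1125 0)) (.leaf (.up 1 131 1))) (.node (.leaf (.up 3 978 1)) (.leaf (.up 1 40 1))))) (.node (.node (.node (.leaf (.up 2 761 1)) (.leaf (.up 1 30 0))) (.node (.leaf (.up 3 594 1)) (.leaf (.up 2 1540 0)))) (.node (.node (.leaf (.up 3 419 1)) (.leaf (.up 2 601 1))) (.node (.leaf (.up 2 264 1)) (.leaf (.up 3 429 0)))))) (.node (.node (.node (.node (.leaf (.root 3116)) (.leaf (.up 2 1593 1))) (.node (.leaf (.up 2 1384 1)) (.leaf (.up 3 1682 1)))) (.node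 (.node (.leaf (.up 3 1689 1)) (.leaf (.up 3 1379 1))) (.node (.leaf (.up 3 302 0)) (.leaf (.up 4 1480 1))))) (.node (.node (.node (.leaf (.up 1 181 0)) (.leaf (.up 2 1251 1))) (.node (.leaf (.up 4 1970 1)) (.leaf (.up 4 1365 0)))) (.node (.node (.leaf (.up 4 1820 0)) (.leaf (.up 3 1254 0))) (.node (.leaf (.up 3 1256 1)) (.leaf (.up 2 1810 1))))))))

noncomputable def vt6_5_0101 : Tr VStep :=
  .node (.node (.node (.node (.node (.node (.node (.leaf (.root 4506)) (.leaf (.up 2 164 0))) (.node (.leaf (.up 4 1726 1)) (.leaf (.up 4 1726 0)))) (.node (.node (.leaf (.up 4 1271 0)) (.leaf (.up 2 1805 0))) (.node (.leaf (.up 3 749 0)) (.leaf (.up 3 279 0))))) (.node (.node (.node (.leaf (.root 6012)) (.leaf (.up 2 140 0))) (.node (.leaf (.up 2 1124 1)) (.leaf (.up 3 1950 1)))) (.node (.node (.leaf (.up 2 1941 1)) (.leaf (.up 2 1829 0))) (.node (.leaf (.up 4 1854 1)) (.leaf (.up 4 1220 1)))))) (.node (.node (.node (.node (.leaf (.up 2 1013 1)) (.leaf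 (.up 2 1013 0))) (.node (.leaf (.up 2 1557 0)) (.leaf (.up 2 164 1)))) (.node (.node (.leaf (.up 4 175 1)) (.leaf (.up 2 853 1))) (.node (.leaf (.up 1 4 1)) (.leaf (.up 2 582 0))))) (.node (.node (.node (.leaf (.up 1 39 0)) (.leaf (.up 3 725 1))) (.node (.leaf (.up 1 388 1)) (.leaf (.up 3 1479 0)))) (.node (.node (.leaf (.up 4 1934 0)) (.leaf (.up 2 1140 0))) (.node (.leaf (.up 2 404 0)) (.leaf (.up 1 292 1))))))) (.node (.node (.node (.node (.node (.leaf (.up 4 463 1)) (.leaf (.up 2 128 0))) (.node (.leaf (.up 2 1376 0)) (.leaf (.up 4 1690 0)))) (.node (.node (.leaf (.up 4 1235 0)) (.leaf (.up 3 367 1))) (.node (.leaf (.up 2 713 0)) (.leaf (.up 2 307 0))))) (.node (.node (.node (.leaf (.root 2659)) (.leaf (.up 3 239 1))) (.node (.leaf (.up 2 1352 0)) (.leaf (.up 3 1714 0)))) (.node (.node (.leaf (.up 1 79 1)) (.leaf (.up 3 1793 0))) (.node (.leaf (.up 1 228 1)) (.leaf (.up 3 283 0)))))) (.node (.node (.node (.node (.leaf (.up 1 43 0)) (.leaf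 (.up 3 977 0))) (.node (.leaf (.up 2 1585 0)) (.leaf (.up 2 1483 0)))) (.node (.node (.leaf (.up 3 1922 0)) (.leaf (.up 2 1144 0))) (.node (.leaf (.up 2 408 0)) (.leaf (.up 3 1060 1))))) (.node (.node (.node (.leaf (.up 1 3 0)) (.leaf (.up 3 1017 0))) (.node (.leaf (.up 2 1561 0)) (.leaf (.up 4 1444 1)))) (.node (.node (.leaf (.up 4 1962 0)) (.leaf (.up 3 1104 0))) (.node (.leaf (.up 3 432 0)) (.leaf (.up 3 586 0)))))))) (.node (.node (.node (.node (.node (.node (.leaf (.root 6112)) (.leaf (.up 1 114 0))) (.node (.leaf (.root 5484)) (.leaf (.up 2 1640 0)))) (.node (.node (.leaf (.up 3 1057 0)) (.leaf (.up 2 2011 0))) (.node (.leaf (.up 3 1599 1)) (.leaf (.up 2 449 0))))) (.node (.node (.node (.leaf (.root 6298)) (.leaf (.up 2 90 0))) (.node (.leaf (.up 2 1466 0)) (.leaf (.up 3 1600 0)))) (.node (.node (.leaf (.up 4 1102 1)) (.leaf (.up 2 2035 0))) (.node (.leaf (.up 3 531 0)) (.leaf (.up 2 489 0)))))) (.node (.node (.node (.node (.leaf (.up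 1 46 1)) (.leaf (.up 2 803 0))) (.node (.leaf (.up 1 133 1)) (.leaf (.up 4 1337 0)))) (.node (.node (.leaf (.up 3 884 1)) (.leaf (.up 3 1162 0))) (.node (.leaf (.up 4 991 1)) (.leaf (.up 1 37 1))))) (.node (.node (.node (.leaf (.root 5414)) (.leaf (.up 2 779 0))) (.node (.leaf (.up 3 1771 0)) (.leaf (.up 2 1297 0)))) (.node (.node (.leaf (.up 3 1880 0)) (.leaf (.up 2 1186 0))) (.node (.leaf (.up 3 261 1)) (.leaf (.up 2 696 0))))))) (.node (.node (.node (.node (.node (.leaf (.root 5460)) (.leaf (.up 3 86 0))) (.node (.leaf (.up 2 1462 0)) (.leaf (.up 4 325 1)))) (.node (.node (.leaf (.up 3 334 1)) (.leaf (.up 1 692 1))) (.node (.leaf (.up 2 543 0)) (.leaf (.up 2 543 1))))) (.node (.node (.node (.leaf (.root 6100)) (.leaf (.up 1 126 0))) (.node (.leaf (.up 1 101 1)) (.leaf (.up 4 1636 0)))) (.node (.node (.leaf (.up 4 1069 0)) (.leaf (.up 1 110 1))) (.node (.leaf (.up 4 831 1)) (.leaf (.up 1 197 1)))))) (.node (.node (.node (.node (.leaf (.up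 3 253 0)) (.leaf (.up 4 775 0))) (.node (.leaf (.up 2 1767 0)) (.leaf (.up 4 1309 0)))) (.node (.node (.leaf (.up 4 1876 0)) (.leaf (.up 4 1876 1))) (.node (.leaf (.up 3 334 0)) (.leaf (.up 1 692 0))))) (.node (.node (.node (.leaf (.up 2 1326 1)) (.leaf (.up 2 815 0))) (.node (.leaf (.up 2 1743 0)) (.leaf (.up 2 1663 1)))) (.node (.node (.leaf (.up 2 1916 0)) (.leaf (.up 2 1422 1))) (.node (.leaf (.up 2 358 0)) (.leaf (.up 3 668 0))))))))

noncomputable def vt6_5_010 : Tr VStep := .node vt6_5_0100 vt6_5_0101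

noncomputable def vt6_5_0110 : Tr VStep :=
  .node (.node (.node (.node (.node (.node (.node (.leaf (.root 3326)) (.leaf (.up 3 1613 1))) (.node (.leaf (.up 2 688 0)) (.leaf (.up 3 1766 1)))) (.node (.node (.leaf (.up 4 771 0)) (.leaf (.up 2 249 0))) (.node (.leaf (.up 2 1305 0)) (.leaf (.up 3 1468 1))))) (.node (.node (.node (.leaf (.root 3536)) (.leaf (.up 3 1175 1))) (.node (.leaf (.up 4 1990 1)) (.leaf (.up 3 1084 1)))) (.node (.node (.leaf (.up 2 811 0)) (.leaf (.up 1 209 0))) (.node (.leaf (.up 3 1329 0)) (.leaf (.up 3 1894 1)))))) (.node (.node (.node (.node (.leaf (.root 2830)) (.leaf (.up 3 1025 0))) (.node (.leaf (.up 1 252 1)) (.leaf (.up 3 774 1)))) (.node (.node (.leaf (.up 1 82 0)) (.leaf (.up 1 247 1))) (.node (.leaf (.up 2 1608 0)) (.leaf (.up 1 92 1))))) (.node (.node (.node (.leaf (.root 6098)) (.leaf (.up 3 375 1))) (.node (.leaf (.up 2 457 0)) (.leaf (.up 4 563 0)))) (.node (.node (.leaf (.up 4 471 1)) (.leaf (.up 4 896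 0))) (.node (.leaf (.up 2 1632 0)) (.leaf (.up 3 1434 0))))))) (.node (.node (.node (.node (.node (.leaf (.root 5618)) (.leaf (.up 1 407 1))) (.node (.leaf (.up 3 710 1)) (.leaf (.up 2 366 0)))) (.node (.node (.leaf (.up 4 807 0)) (.leaf (.up 4 717 1))) (.node (.leaf (.up 3 412 1)) (.leaf (.up 2 1735 0))))) (.node (.node (.node (.leaf (.up 4 183 1)) (.leaf (.up 3 1884 0))) (.node (.leaf (.up 1 28 1)) (.leaf (.up 2 326 0)))) (.node (.node (.leaf (.up 2 1005 1)) (.leaf (.up 1 23 1))) (.node (.leaf (.up 3 838 1)) (.leaf (.up 3 1775 0)))))) (.node (.node (.node (.node (.leaf (.up 2 1933 1)) (.leaf (.up 3 1143 1))) (.node (.leaf (.up 3 1830 1)) (.leaf (.up 2 575 0)))) (.node (.node (.leaf (.up 1 118 0)) (.leaf (.up 2 1837 1))) (.node (.leaf (.up 2 1644 0)) (.leaf (.up 2 1430 0))))) (.node (.node (.node (.leaf (.up 3 1367 1)) (.leaf (.up 2 1037 0))) (.node (.leaf (.up 3 1532 1)) (.leaf (.up 2 535 0)))) (.node (.node (.leaf (.up 1 94 0)) (.leaf (.up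 3 932 0))) (.node (.leaf (.up 3 1702 1)) (.leaf (.up 2 1470 0)))))))) (.node (.node (.node (.node (.node (.node (.leaf (.root 6118)) (.leaf (.up 2 1430 1))) (.node (.leaf (.up 2 1735 1)) (.leaf (.up 3 412 0)))) (.node (.node (.leaf (.up 2 1334 1)) (.leaf (.up 1 47 0))) (.node (.leaf (.up 3 1437 1)) (.leaf (.up 2 1639 1))))) (.node (.node (.node (.leaf (.up 2 1108 0)) (.leaf (.up 4 1868 1))) (.node (.leaf (.up 3 590 0)) (.leaf (.up 4 436 0)))) (.node (.node (.leaf (.up 4 1021 0)) (.leaf (.up 1 7 0))) (.node (.leaf (.up 2 1511 0)) (.leaf (.up 3 1565 0)))))) (.node (.node (.node (.node (.leaf (.up 2 1837 0)) (.leaf (.up 1 118 1))) (.node (.leaf (.up 4 807 1)) (.leaf (.up 4 717 0)))) (.node (.node (.leaf (.up 2 132 0)) (.leaf (.up 4 894 0))) (.node (.leaf (.up 1 125 1)) (.leaf (.up 2 1380 0))))) (.node (.node (.node (.leaf (.up 3 342 1)) (.leaf (.up 1 684 1))) (.node (.leaf (.up 3 509 1)) (.leaf (.up 2 519 1)))) (.node (.node (.leaf (.up 2 172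 0)) (.leaf (.up 2 854 0))) (.node (.leaf (.up 2 1718 0)) (.leaf (.up 4 349 1))))))) (.node (.node (.node (.node (.node (.leaf (.root 5722)) (.leaf (.up 3 588 1))) (.node (.leaf (.up 1 285 1)) (.leaf (.up 2 440 0)))) (.node (.node (.leaf (.up 3 748 1)) (.leaf (.up 1 11 0))) (.node (.leaf (.up 4 583 1)) (.leaf (.up 2 1553 0))))) (.node (.node (.node (.leaf (.root 5412)) (.leaf (.up 3 150 1))) (.node (.leaf (.up 3 618 0)) (.leaf (.up 1 61 1)))) (.node (.node (.leaf (.up 1 54 1)) (.leaf (.up 1 35 0))) (.node (.leaf (.up 2 1475 0)) (.leaf (.up 2 1593 0)))))) (.node (.node (.node (.node (.leaf (.root 6078)) (.leaf (.up 4 1964 1))) (.node (.leaf (.up 3 275 0)) (.leaf (.up 2 745 0)))) (.node (.node (.leaf (.up 3 160 0)) (.leaf (.up 3 1270 1))) (.node (.leaf (.up 3 1959 1)) (.leaf (.up 2 1344 0))))) (.node (.node (.node (.leaf (.root 4320)) (.leaf (.up 2 1243 0))) (.node (.leaf (.up 1 315 0)) (.leaf (.up 3 705 0)))) (.node (.node (.leaf (.up 3 1494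 1)) (.leaf (.up 4 1580 1))) (.node (.leaf (.up 3 1682 0)) (.leaf (.up 2 1384 0))))))))

noncomputable def vt6_5_0111 : Tr VStep :=
  .node (.node (.node (.node (.node (.node (.node (.leaf (.root 3864)) (.leaf (.up 3 1840 0))) (.node (.leaf (.up 3 1835 1)) (.leaf (.up 3 1233 1)))) (.node (.node (.leaf (.up 3 1242 1)) (.leaf (.up 4 1824 1))) (.node (.leaf (.up 3 1137 1)) (.leaf (.up 3 1667 0))))) (.node (.node (.node (.leaf (.up 4 1370 1)) (.leaf (.up 3 1696 1))) (.node (.leaf (.up 3 1521 1)) (.leaf (.up 4 258 0)))) (.node (.node (.leaf (.up 4 843 0)) (.leaf (.up 1 177 0))) (.node (.leaf (.up 3 1707 1)) (.leaf (.up 3 1707 0)))))) (.node (.node (.node (.node (.leaf (.root 4394)) (.leaf (.up 3 1121 0))) (.node (.leaf (.up 2 385 0)) (.leaf (.up 4 635 0)))) (.node (.node (.leaf (.up 2 50 0)) (.leaf (.up 4 968 0))) (.node (.leaf (.up 3 401 1)) (.leaf (.up 2 1490 0))))) (.node (.node (.node (.leaf (.up 1 186 1)) (.leaf (.up 4 832 1))) (.node (.leaf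 (.up 1 17 1)) (.leaf (.up 3 1003 1)))) (.node (.node (.leaf (.up 1 26 0)) (.leaf (.up 1 26 1))) (.node (.leaf (.up 4 843 1)) (.leaf (.up 1 177 1))))))) (.node (.node (.node (.node (.node (.leaf (.root 4804)) (.leaf (.up 2 1812 0))) (.node (.leaf (.up 2 756 0)) (.leaf (.up 2 779 1)))) (.node (.node (.leaf (.up 2 839 0)) (.leaf (.up 1 189 0))) (.node (.leaf (.up 2 939 1)) (.leaf (.up 4 81 1))))) (.node (.node (.node (.leaf (.root 5756)) (.leaf (.up 3 1852 0))) (.node (.leaf (.up 3 732 0)) (.leaf (.up 3 465 1)))) (.node (.node (.leaf (.up 4 879 0)) (.leaf (.up 1 149 0))) (.node (.leaf (.up 1 369 1)) (.leaf (.up 3 1679 0)))))) (.node (.node (.node (.node (.leaf (.root 5782)) (.leaf (.up 3 1600 1))) (.node (.leaf (.up 2 1297 1)) (.leaf (.up 3 1771 1)))) (.node (.node (.leaf (.up 1 22 0)) (.leaf (.up 3 1306 1))) (.node (.leaf (.up 3 1548 0)) (.leaf (.up 3 1457 1))))) (.node (.node (.node (.leaf (.root 5554)) (.leaf (.up 3 1178 1))) (.node (.leaf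 (.up 2 1995 1)) (.leaf (.up 3 631 0)))) (.node (.node (.leaf (.up 4 1082 1)) (.leaf (.up 3 964 0))) (.node (.leaf (.up 3 1572 0)) (.leaf (.up 2 1899 1)))))))) (.node (.node (.node (.node (.node (.node (.leaf (.root 4984)) (.leaf (.up 3 2022 0))) (.node (.leaf (.up 3 518 0)) (.leaf (.up 4 508 0)))) (.node (.node (.leaf (.up 3 1793 1)) (.leaf (.up 1 79 0))) (.node (.leaf (.up 4 1962 1)) (.leaf (.up 3 1104 1))))) (.node (.node (.node (.leaf (.up 2 1665 1)) (.leaf (.up 2 1998 0))) (.node (.leaf (.up 3 558 0)) (.leaf (.up 2 1488 1)))) (.node (.node (.leaf (.up 2 925 0)) (.leaf (.up 2 1569 1))) (.node (.leaf (.up 3 1415 0)) (.leaf (.up 2 1661 0)))))) (.node (.node (.node (.node (.leaf (.root 2924)) (.leaf (.up 3 577 1))) (.node (.leaf (.up 2 272 1)) (.leaf (.up 3 746 1)))) (.node (.node (.leaf (.up 1 228 0)) (.leaf (.up 3 283 1))) (.node (.leaf (.up 3 586 1)) (.leaf (.up 3 432 1))))) (.node (.node (.node (.leaf (.up 3 1893 0)) (.leaf (.up 3 155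 1))) (.node (.leaf (.up 3 970 1)) (.leaf (.up 1 48 1)))) (.node (.node (.leaf (.up 1 59 1)) (.leaf (.up 3 961 1))) (.node (.leaf (.up 1 144 1)) (.leaf (.up 3 874 1))))))) (.node (.node (.node (.node (.node (.leaf (.up 3 1080 0)) (.leaf (.up 1 123 1))) (.node (.leaf (.up 3 810 1)) (.leaf (.up 4 472 0)))) (.node (.node (.leaf (.up 3 219 1)) (.leaf (.up 1 107 0))) (.node (.leaf (.up 3 112 1)) (.leaf (.up 3 1649 0))))) (.node (.node (.node (.leaf (.up 3 347 1)) (.leaf (.up 4 673 1))) (.node (.leaf (.up 3 496 1)) (.leaf (.up 3 496 0)))) (.node (.node (.leaf (.up 3 513 1)) (.leaf (.up 1 67 0))) (.node (.leaf (.up 3 682 1)) (.leaf (.up 1 336 1)))))) (.node (.node (.node (.node (.leaf (.root 5648)) (.leaf (.up 2 1171 0))) (.node (.leaf (.up 4 1738 1)) (.leaf (.up 2 649 0)))) (.node (.node (.leaf (.up 3 1339 1)) (.leaf (.up 3 826 0))) (.node (.leaf (.up 3 1754 0)) (.leaf (.up 3 1642 1))))) (.node (.node (.node (.leaf (.root 3018)) (.leaf (.up 2 1211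 0))) (.node (.leaf (.up 3 347 0)) (.leaf (.up 4 673 0)))) (.node (.node (.leaf (.up 4 232 0)) (.leaf (.up 4 786 0))) (.node (.leaf (.up 3 1866 1)) (.leaf (.up 2 1288 0))))))))

noncomputable def vt6_5_011 : Tr VStep := .node vt6_5_0110 vt6_5_0111

noncomputable def vt6_5_01 : Tr VStep := .node vt6_5_010 vt6_5_011

noncomputable def vt6_5_0 : Tr VStep := .node vt6_5_00 vt6_5_01

noncomputable def vt6_5_1000 : Tr VStep :=
  .node (.node (.node (.node (.node (.node (.node (.leaf (.root 4778)) (.leaf (.up 2 1627 0))) (.node (.leaf (.up 2 955 0)) (.leaf (.up 1 65 0)))) (.node (.node (.leaf (.up 2 520 0)) (.leaf (.up 3 437 1))) (.node (.leaf (.up 2 1042 0)) (.leaf (.up 2 2024 0))))) (.node (.node (.node (.leaf (.root 5558)) (.leaf (.up 4 1651 0))) (.node (.leaf (.up 2 915 0)) (.leaf (.up 1 105 0)))) (.node (.node (.leaf (.up 1 149 1)) (.leaf (.up 4 879 1))) (.node (.leaf (.up 4 1082 0)) (.leaf (.up 3 964 1)))))) (.node (.node (.node (.node (.leaf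 (.root 4142)) (.leaf (.up 3 1290 0))) (.node (.leaf (.up 2 234 0)) (.leaf (.up 3 784 0)))) (.node (.node (.leaf (.root 3642)) (.leaf (.up 3 675 0))) (.node (.leaf (.up 2 1859 0)) (.leaf (.up 3 1278 1))))) (.node (.node (.node (.leaf (.root 5432)) (.leaf (.up 3 1493 1))) (.node (.leaf (.up 2 194 0)) (.leaf (.up 4 1406 1)))) (.node (.node (.leaf (.up 1 369 0)) (.leaf (.up 3 1679 1))) (.node (.leaf (.up 2 1899 0)) (.leaf (.up 3 1572 1))))))) (.node (.node (.node (.node (.node (.leaf (.root 5678)) (.leaf (.up 2 1663 0))) (.node (.leaf (.up 4 1636 1)) (.leaf (.up 1 101 0)))) (.node (.node (.leaf (.root 5238)) (.leaf (.up 3 470 0))) (.node (.leaf (.up 2 1342 1)) (.leaf (.up 3 1732 1))))) (.node (.node (.node (.leaf (.root 2647)) (.leaf (.up 4 1623 0))) (.node (.leaf (.up 3 951 0)) (.leaf (.up 3 77 0)))) (.node (.node (.leaf (.root 3592)) (.leaf (.up 3 1205 1))) (.node (.leaf (.up 4 1054 0)) (.leaf (.up 4 1054 1)))))) (.node (.node (.node (.node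 (.leaf (.root 5918)) (.leaf (.up 2 1326 0))) (.node (.leaf (.up 2 206 0)) (.leaf (.up 1 126 1)))) (.node (.node (.leaf (.up 2 381 0)) (.leaf (.up 2 647 0))) (.node (.leaf (.up 4 1895 0)) (.leaf (.up 2 1181 0))))) (.node (.node (.node (.leaf (.root 4464)) (.leaf (.up 3 1286 0))) (.node (.leaf (.up 2 350 1)) (.leaf (.up 3 796 0)))) (.node (.node (.leaf (.up 2 687 1)) (.leaf (.up 2 687 0))) (.node (.leaf (.up 2 1871 0)) (.leaf (.up 3 1205 0)))))))) (.node (.node (.node (.node (.node (.node (.leaf (.root 5014)) (.leaf (.up 4 1677 0))) (.node (.leaf (.up 3 613 1)) (.leaf (.up 1 151 0)))) (.node (.node (.leaf (.root 6356)) (.leaf (.up 1 292 0))) (.node (.leaf (.up 4 1220 0)) (.leaf (.up 4 1854 0))))) (.node (.node (.node (.leaf (.up 1 20 1)) (.leaf (.up 4 1006 1))) (.node (.leaf (.up 1 191 1)) (.leaf (.up 1 191 0)))) (.node (.node (.leaf (.up 2 758 0)) (.leaf (.up 1 180 1))) (.node (.leaf (.up 4 997 1)) (.leaf (.up 1 31 1)))))) (.node (.node (.node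 (.node (.leaf (.up 3 1574 0)) (.leaf (.up 2 1236 1))) (.node (.leaf (.up 1 60 0)) (.leaf (.up 3 966 0)))) (.node (.node (.leaf (.up 2 1140 1)) (.leaf (.up 4 1934 1))) (.node (.leaf (.up 2 1941 0)) (.leaf (.up 2 1829 1))))) (.node (.node (.node (.leaf (.root 4322)) (.leaf (.up 2 1524 0))) (.node (.leaf (.up 1 20 0)) (.leaf (.up 4 1006 0)))) (.node (.node (.leaf (.up 2 423 0)) (.leaf (.up 1 605 0))) (.node (.leaf (.up 2 1981 0)) (.leaf (.up 3 1095 0))))))) (.node (.node (.node (.node (.node (.leaf (.up 3 1300 1)) (.leaf (.up 4 1705 0))) (.node (.leaf (.up 3 841 0)) (.leaf (.up 1 179 0)))) (.node (.node (.leaf (.up 3 762 0)) (.leaf (.up 2 256 0))) (.node (.leaf (.up 4 1248 0)) (.leaf (.up 3 1818 0))))) (.node (.node (.node (.leaf (.root 5996)) (.leaf (.up 2 1665 0))) (.node (.leaf (.up 3 1893 1)) (.leaf (.up 3 155 0)))) (.node (.node (.leaf (.up 2 722 0)) (.leaf (.up 2 296 0))) (.node (.leaf (.up 3 1224 0)) (.leaf (.up 2 1842 0)))))) (.node (.node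 (.node (.node (.leaf (.up 3 1538 0)) (.leaf (.up 2 1528 0))) (.node (.leaf (.up 1 24 0)) (.leaf (.up 2 994 0)))) (.node (.node (.leaf (.root 6360)) (.leaf (.up 2 593 0))) (.node (.leaf (.up 3 1969 0)) (.leaf (.up 4 255 1))))) (.node (.node (.node (.leaf (.up 3 558 1)) (.leaf (.up 2 1488 0))) (.node (.leaf (.up 1 48 0)) (.leaf (.up 3 970 0)))) (.node (.node (.leaf (.up 1 372 1)) (.leaf (.up 2 633 0))) (.node (.leaf (.up 4 1945 0)) (.leaf (.up 4 1123 0))))))))

noncomputable def vt6_5_1001 : Tr VStep :=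
  .node (.node (.node (.node (.node (.node (.node (.leaf (.root 5560)) (.leaf (.up 3 1595 0))) (.node (.leaf (.up 4 905 1)) (.leaf (.up 1 33 0)))) (.node (.node (.leaf (.up 1 120 1)) (.leaf (.up 1 402 0))) (.node (.leaf (.up 1 211 1)) (.leaf (.up 3 809 1))))) (.node (.node (.node (.leaf (.root 6134)) (.leaf (.up 1 514 1))) (.node (.leaf (.up 1 339 1)) (.leaf (.up 1 9 0)))) (.node (.node (.leaf (.up 3 576 0)) (.leaf (.up 3 344 1))) (.node (.leaf (.up 3 1114 0)) (.leaf (.up 4 499 1)))))) (.node (.node (.node (.node (.leaf (.up 3 1680 0)) (.leaf (.up 3 1386 0))) (.node (.leaf (.up 1 138 0)) (.leaf (.up 3 880 0)))) (.node (.node (.leaf (.up 4 1432 1)) (.leaf (.up 2 707 0))) (.node (.leaf (.up 2 1827 0)) (.leaf (.up 3 1241 0))))) (.node (.node (.node (.leaf (.root 2634)) (.leaf (.up 4 1346 0))) (.node (.leaf (.up 1 162 0)) (.leaf (.up 4 856 0)))) (.node (.node (.leaf (.up 1 273 0)) (.leaf (.up 1 747 0))) (.node (.leaf (.up 4 1803 0)) (.leaf (.up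 3 1265 0))))))) (.node (.node (.node (.node (.node (.leaf (.up 4 1272 1)) (.leaf (.up 4 1567 0))) (.node (.leaf (.up 2 1107 1)) (.leaf (.up 1 5 0)))) (.node (.node (.leaf (.up 3 588 0)) (.leaf (.up 2 438 0))) (.node (.leaf (.up 2 1110 0)) (.leaf (.up 4 1964 0))))) (.node (.node (.node (.leaf (.root 6432)) (.leaf (.up 2 1496 1))) (.node (.leaf (.up 2 1673 1)) (.leaf (.up 3 45 0)))) (.node (.node (.leaf (.up 2 1400 1)) (.leaf (.up 3 414 0))) (.node (.leaf (.up 3 1150 0)) (.leaf (.up 2 1577 1)))))) (.node (.node (.node (.node (.leaf (.root 3118)) (.leaf (.up 3 738 1))) (.node (.leaf (.up 1 174 0)) (.leaf (.up 2 585 1)))) (.node (.node (.leaf (.up 1 285 0)) (.leaf (.up 2 440 1))) (.node (.leaf (.up 2 745 1)) (.leaf (.up 3 275 1))))) (.node (.node (.node (.leaf (.root 4584)) (.leaf (.up 1 56 1))) (.node (.leaf (.up 1 134 0)) (.leaf (.up 4 147 1)))) (.node (.node (.leaf (.up 1 152 1)) (.leaf (.up 3 866 1))) (.node (.leaf (.up 1 51 1)) (.leaf (.up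 3 1237 0)))))))) (.node (.node (.node (.node (.node (.node (.leaf (.root 4384)) (.leaf (.up 4 771 1))) (.node (.leaf (.up 1 82 1)) (.leaf (.up 1 247 0)))) (.node (.node (.leaf (.up 2 931 1)) (.leaf (.up 1 89 1))) (.node (.leaf (.up 3 776 1)) (.leaf (.up 2 242 1))))) (.node (.node (.node (.leaf (.up 3 1343 0)) (.leaf (.up 4 1733 0))) (.node (.leaf (.up 3 648 1)) (.leaf (.up 2 223 0)))) (.node (.node (.leaf (.up 4 377 1)) (.leaf (.up 2 364 0))) (.node (.leaf (.up 2 1164 0)) (.leaf (.up 3 1910 0)))))) (.node (.node (.node (.node (.leaf (.root 3548)) (.leaf (.up 3 1468 0))) (.node (.leaf (.up 1 92 0)) (.leaf (.up 2 1608 1)))) (.node (.node (.leaf (.up 3 1603 1)) (.leaf (.up 2 1465 1))) (.node (.leaf (.up 4 2037 0)) (.leaf (.up 4 1298 1))))) (.node (.node (.node (.leaf (.up 2 1987 1)) (.leaf (.up 2 1428 0))) (.node (.leaf (.up 4 1896 1)) (.leaf (.up 2 1170 1)))) (.node (.node (.leaf (.up 3 455 0)) (.leaf (.up 2 1891 1))) (.node (.leaf (.up 2 1074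 1)) (.leaf (.up 2 1063 0))))))) (.node (.node (.node (.node (.node (.leaf (.root 5980)) (.leaf (.up 3 1241 1))) (.node (.leaf (.up 3 809 0)) (.leaf (.up 1 211 0)))) (.node (.node (.leaf (.up 3 666 0)) (.leaf (.up 3 352 0))) (.node (.leaf (.up 3 1152 0)) (.leaf (.up 2 1914 0))))) (.node (.node (.node (.leaf (.up 3 1529 1)) (.leaf (.up 4 1761 0))) (.node (.leaf (.up 3 769 0)) (.leaf (.up 1 251 0)))) (.node (.node (.leaf (.root 3184)) (.leaf (.up 1 328 0))) (.node (.leaf (.up 4 1544 1)) (.leaf (.up 4 1874 0)))))) (.node (.node (.node (.node (.leaf (.root 6274)) (.leaf (.up 4 1432 0))) (.node (.leaf (.up 1 120 0)) (.leaf (.up 1 402 1)))) (.node (.node (.leaf (.up 3 459 0)) (.leaf (.up 4 611 1))) (.node (.leaf (.up 4 2001 0)) (.leaf (.up 3 1067 0))))) (.node (.node (.node (.leaf (.up 1 25 1)) (.leaf (.up 4 995 1))) (.node (.leaf (.up 1 80 0)) (.leaf (.up 2 938 0)))) (.node (.node (.leaf (.up 3 835 1)) (.leaf (.up 2 537 0))) (.node (.leaf (.up 2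 2041 0)) (.leaf (.up 1 18 1))))))))

noncomputable def vt6_5_100 : Tr VStep := .node vt6_5_1000 vt6_5_1001

noncomputable def vt6_5_1010 : Tr VStep :=
  .node (.node (.node (.node (.node (.node (.node (.leaf (.root 5754)) (.leaf (.up 4 463 0))) (.node (.leaf (.up 1 43 1)) (.leaf (.up 3 977 1)))) (.node (.node (.leaf (.up 2 1436 0)) (.leaf (.up 3 1638 0))) (.node (.leaf (.up 4 902 0)) (.leaf (.up 4 139 1))))) (.node (.node (.node (.leaf (.root 3724)) (.leaf (.up 2 416 1))) (.node (.leaf (.up 2 753 1)) (.leaf (.up 3 267 1)))) (.node (.node (.leaf (.up 2 256 1)) (.leaf (.up 3 762 1))) (.node (.leaf (.up 2 942 0)) (.leaf (.up 2 593 1)))))) (.node (.node (.node (.node (.leaf (.root 6048)) (.leaf (.up 4 1690 1))) (.node (.leaf (.root 5664)) (.leaf (.up 2 1585 1)))) (.node (.node (.leaf (.up 3 1741 0)) (.leaf (.up 2 1472 1))) (.node (.leaf (.up 2 1681 1)) (.leaf (.up 3 813 0))))) (.node (.node (.node (.leaf (.root 6406)) (.leaf (.up 4 694 0))) (.node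 (.leaf (.up 3 1878 0)) (.leaf (.up 3 1196 0)))) (.node (.node (.leaf (.up 4 1248 1)) (.leaf (.up 3 1818 1))) (.node (.leaf (.up 4 255 0)) (.leaf (.up 3 1969 1))))))) (.node (.node (.node (.node (.node (.leaf (.root 4162)) (.leaf (.up 4 491 0))) (.node (.leaf (.up 3 1035 0)) (.leaf (.up 3 1035 1)))) (.node (.node (.leaf (.up 4 1024 1)) (.leaf (.up 4 2042 1))) (.node (.leaf (.up 4 930 0)) (.leaf (.up 1 88 0))))) (.node (.node (.node (.leaf (.up 4 1408 1)) (.leaf (.up 3 451 0))) (.node (.leaf (.up 3 1323 1)) (.leaf (.up 3 2009 0)))) (.node (.node (.leaf (.up 3 1754 1)) (.leaf (.up 3 1642 0))) (.node (.leaf (.up 3 1649 1)) (.leaf (.up 3 112 0)))))) (.node (.node (.node (.node (.leaf (.root 4986)) (.leaf (.up 2 698 0))) (.node (.leaf (.up 2 1882 0)) (.leaf (.up 4 491 1)))) (.node (.node (.leaf (.up 3 480 1)) (.leaf (.up 1 538 1))) (.node (.leaf (.up 3 331 1)) (.leaf (.up 2 777 0))))) (.node (.node (.node (.leaf (.up 1 96 1)) (.leaf (.up 4 658 0)))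 (.node (.leaf (.up 3 203 1)) (.leaf (.up 3 1160 0)))) (.node (.node (.leaf (.up 3 826 1)) (.leaf (.up 3 1339 0))) (.node (.leaf (.up 3 219 0)) (.leaf (.up 1 107 1)))))))) (.node (.node (.node (.node (.node (.node (.leaf (.up 3 859 1)) (.leaf (.up 1 161 1))) (.node (.leaf (.up 3 1008 1)) (.leaf (.up 1 10 1)))) (.node (.node (.leaf (.up 1 1 1)) (.leaf (.up 4 1019 1))) (.node (.leaf (.up 1 170 1)) (.leaf (.up 1 170 0))))) (.node (.node (.node (.leaf (.root 6392)) (.leaf (.up 4 635 1))) (.node (.leaf (.up 3 1233 0)) (.leaf (.up 3 1835 0)))) (.node (.node (.leaf (.up 3 1378 0)) (.leaf (.up 1 289 1))) (.node (.leaf (.up 4 888 0)) (.leaf (.up 1 130 0)))))) (.node (.node (.node (.node (.leaf (.root 2940)) (.leaf (.up 4 584 0))) (.node (.leaf (.up 3 1552 1)) (.leaf (.up 4 1514 1)))) (.node (.node (.leaf (.up 3 1505 1)) (.leaf (.up 3 1505 0))) (.node (.leaf (.up 1 1 0)) (.leaf (.up 4 1019 0))))) (.node (.node (.node (.leaf (.up 3 1121 1)) (.leaf (.up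 2 608 0))) (.node (.leaf (.up 2 1920 0)) (.leaf (.up 3 1840 1)))) (.node (.node (.leaf (.up 2 1587 0)) (.leaf (.up 2 1481 0))) (.node (.leaf (.up 3 1936 1)) (.leaf (.up 4 1130 1))))))) (.node (.node (.node (.node (.node (.leaf (.up 3 711 0)) (.leaf (.up 2 1915 1))) (.node (.leaf (.up 3 1066 1)) (.leaf (.up 3 2000 1)))) (.node (.node (.leaf (.up 2 2011 1)) (.leaf (.up 3 1057 1))) (.node (.leaf (.up 3 884 0)) (.leaf (.up 3 1162 1))))) (.node (.node (.node (.leaf (.root 4256)) (.leaf (.up 2 277 0))) (.node (.leaf (.up 2 1269 0)) (.leaf (.up 3 1290 1)))) (.node (.node (.leaf (.up 2 1350 0)) (.leaf (.up 3 1787 1))) (.node (.leaf (.up 4 860 0)) (.leaf (.up 3 1616 1)))))) (.node (.node (.node (.node (.leaf (.up 3 353 1)) (.leaf (.up 4 620 0))) (.node (.leaf (.up 3 1932 0)) (.leaf (.up 3 560 1)))) (.node (.node (.leaf (.up 3 1599 0)) (.leaf (.up 2 449 1))) (.node (.leaf (.up 1 37 0)) (.leaf (.up 4 991 0))))) (.node (.node (.node (.leaf (.up 2 955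 1)) (.leaf (.up 1 65 1))) (.node (.leaf (.up 3 784 1)) (.leaf (.up 2 234 1)))) (.node (.node (.leaf (.up 1 225 1)) (.leaf (.up 2 795 1))) (.node (.leaf (.up 1 13 0)) (.leaf (.up 3 1015 0))))))))

noncomputable def vt6_5_1011 : Tr VStep :=
  .node (.node (.node (.node (.node (.node (.node (.leaf (.root 4470)) (.leaf (.up 1 333 1))) (.node (.leaf (.up 3 540 1)) (.leaf (.up 2 486 1)))) (.node (.node (.leaf (.up 3 1532 0)) (.leaf (.up 2 535 1))) (.node (.leaf (.up 2 326 1)) (.leaf (.up 1 28 0))))) (.node (.node (.node (.leaf (.up 3 109 1)) (.leaf (.up 4 391 0))) (.node (.leaf (.up 1 198 1)) (.leaf (.up 3 1949 0)))) (.node (.node (.leaf (.up 3 823 1)) (.leaf (.up 1 205 1))) (.node (.leaf (.up 3 924 1)) (.leaf (.up 1 52 0)))))) (.node (.node (.node (.node (.leaf (.up 2 260 0)) (.leaf (.up 4 766 0))) (.node (.leaf (.up 2 2044 1)) (.leaf (.up 2 1252 0)))) (.node (.node (.leaf (.root 3782)) (.leaf (.up 3 1367 0))) (.node (.leaf (.up 4 183 0)) (.leaf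 (.up 3 1884 1))))) (.node (.node (.node (.leaf (.root 6300)) (.leaf (.up 2 1655 1))) (.node (.leaf (.up 3 1846 0)) (.leaf (.up 2 1228 0)))) (.node (.node (.leaf (.up 2 1751 1)) (.leaf (.up 3 1325 1))) (.node (.leaf (.up 4 1660 1)) (.leaf (.up 2 1414 1))))))) (.node (.node (.node (.node (.node (.leaf (.up 2 625 0)) (.leaf (.up 3 395 0))) (.node (.leaf (.up 3 1131 0)) (.leaf (.up 2 1937 0)))) (.node (.node (.leaf (.up 2 1496 0)) (.leaf (.up 2 1570 0))) (.node (.leaf (.up 2 962 0)) (.leaf (.up 1 56 0))))) (.node (.node (.node (.leaf (.up 2 601 0)) (.leaf (.up 3 419 0))) (.node (.leaf (.up 4 1820 1)) (.leaf (.up 3 1254 1)))) (.node (.node (.leaf (.up 2 1520 0)) (.leaf (.up 3 1815 1))) (.node (.leaf (.up 4 1002 0)) (.leaf (.up 1 16 0)))))) (.node (.node (.node (.node (.leaf (.up 2 288 0)) (.leaf (.up 4 730 0))) (.node (.leaf (.up 1 38 1)) (.leaf (.up 3 988 1)))) (.node (.node (.leaf (.up 2 1673 0)) (.leaf (.up 3 45 1))) (.node (.leaf (.up 4 147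 0)) (.leaf (.up 1 134 1))))) (.node (.node (.node (.leaf (.up 2 264 0)) (.leaf (.up 3 429 1))) (.node (.leaf (.up 2 1810 0)) (.leaf (.up 3 1256 0)))) (.node (.node (.leaf (.up 4 269 1)) (.leaf (.up 3 759 1))) (.node (.leaf (.up 1 187 0)) (.leaf (.up 3 833 0)))))))) (.node (.node (.node (.node (.node (.node (.leaf (.root 4802)) (.leaf (.up 4 377 0))) (.node (.leaf (.up 3 455 1)) (.leaf (.up 2 1891 0)))) (.node (.node (.leaf (.root 5724)) (.leaf (.up 3 1744 0))) (.node (.leaf (.up 4 669 1)) (.leaf (.up 2 202 0))))) (.node (.node (.node (.leaf (.up 3 950 1)) (.leaf (.up 1 76 1))) (.node (.leaf (.up 3 1201 0)) (.leaf (.up 2 1867 0)))) (.node (.node (.leaf (.up 3 1282 0)) (.leaf (.up 2 1784 0))) (.node (.leaf (.up 1 71 1)) (.leaf (.up 2 226 0)))))) (.node (.node (.node (.node (.leaf (.root 6116)) (.leaf (.up 3 1910 1))) (.node (.leaf (.root 3060)) (.leaf (.up 2 1074 0)))) (.node (.node (.leaf (.up 3 1659 0)) (.leaf (.up 3 1068 1))) (.node (.leaf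 (.up 1 97 0)) (.leaf (.up 2 923 0))))) (.node (.node (.node (.leaf (.up 3 506 0)) (.leaf (.up 4 512 0))) (.node (.leaf (.up 3 1789 1)) (.leaf (.up 2 1050 0)))) (.node (.node (.leaf (.up 3 1292 1)) (.leaf (.up 4 1782 1))) (.node (.leaf (.up 4 73 0)) (.leaf (.up 3 1629 1))))))) (.node (.node (.node (.node (.node (.leaf (.root 6022)) (.leaf (.up 4 349 0))) (.node (.leaf (.up 3 1565 1)) (.leaf (.up 2 1511 1)))) (.node (.node (.leaf (.up 3 1516 1)) (.leaf (.up 4 1558 1))) (.node (.leaf (.up 3 1351 1)) (.leaf (.up 1 238 0))))) (.node (.node (.node (.leaf (.root 5810)) (.leaf (.up 4 1942 1))) (.node (.leaf (.up 3 1223 1)) (.leaf (.up 2 1853 1)))) (.node (.node (.leaf (.up 3 1846 1)) (.leaf (.up 2 1228 1))) (.node (.leaf (.up 3 1949 1)) (.leaf (.up 1 198 0)))))) (.node (.node (.node (.node (.leaf (.root 4084)) (.leaf (.up 2 172 1))) (.node (.leaf (.up 4 1021 1)) (.leaf (.up 1 7 1)))) (.node (.node (.leaf (.up 1 12 1)) (.leaf (.up 4 1014 1))) (.node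 (.leaf (.up 1 69 0)) (.leaf (.up 2 861 1))))) (.node (.node (.node (.leaf (.up 2 478 0)) (.leaf (.up 4 548 0))) (.node (.leaf (.up 2 295 1)) (.leaf (.up 2 1086 0)))) (.node (.node (.leaf (.up 2 1655 0)) (.leaf (.up 2 1421 0))) (.node (.leaf (.up 3 109 0)) (.leaf (.up 4 391 1))))))))

noncomputable def vt6_5_101 : Tr VStep := .node vt6_5_1010 vt6_5_1011

noncomputable def vt6_5_10 : Tr VStep := .node vt6_5_100 vt6_5_101

noncomputable def vt6_5_1100 : Tr VStep :=
  .node (.node (.node (.node (.node (.node (.node (.leaf (.root 3428)) (.leaf (.up 2 1042 1))) (.node (.leaf (.up 2 1859 1)) (.leaf (.up 3 1278 0)))) (.node (.node (.leaf (.up 2 1202 1)) (.leaf (.up 4 1357 0))) (.node (.leaf (.up 3 173 0)) (.leaf (.up 2 2019 1))))) (.node (.node (.node (.leaf (.root 4064)) (.leaf (.up 3 716 0))) (.node (.leaf (.up 3 1433 1)) (.leaf (.up 2 1238 0)))) (.node (.node (.leaf (.up 2 1640 1)) (.leaf (.up 2 1381 0))) (.node (.leaf (.up 1 133 0)) (.leaf (.up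 4 1337 1)))))) (.node (.node (.node (.node (.leaf (.root 3808)) (.leaf (.up 3 437 0))) (.node (.leaf (.up 3 675 1)) (.leaf (.up 2 1967 0)))) (.node (.node (.leaf (.up 4 338 1)) (.leaf (.up 2 680 1))) (.node (.leaf (.up 2 1020 0)) (.leaf (.up 1 6 0))))) (.node (.node (.node (.leaf (.up 3 210 1)) (.leaf (.up 4 808 1))) (.node (.leaf (.up 1 121 1)) (.leaf (.up 2 899 1)))) (.node (.node (.leaf (.up 2 1486 0)) (.leaf (.up 1 114 1))) (.node (.leaf (.up 2 803 1)) (.leaf (.up 1 46 0))))))) (.node (.node (.node (.node (.node (.leaf (.root 5612)) (.leaf (.up 4 968 1))) (.node (.leaf (.up 4 1824 0)) (.leaf (.up 3 1242 0)))) (.node (.node (.leaf (.up 3 872 1)) (.leaf (.up 1 146 1))) (.node (.leaf (.up 1 137 0)) (.leaf (.up 1 57 1))))) (.node (.node (.node (.leaf (.up 3 744 1)) (.leaf (.up 3 744 0))) (.node (.leaf (.up 2 1800 0)) (.leaf (.up 1 441 1)))) (.node (.node (.leaf (.up 2 1723 0)) (.leaf (.up 4 584 1))) (.node (.leaf (.up 1 161 0)) (.leaf (.up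 3 859 0)))))) (.node (.node (.node (.node (.leaf (.root 5088)) (.leaf (.up 3 401 0))) (.node (.leaf (.up 3 1137 0)) (.leaf (.up 3 1667 1)))) (.node (.node (.leaf (.root 6182)) (.leaf (.up 2 1592 0))) (.node (.leaf (.up 4 1571 1)) (.leaf (.up 1 34 0))))) (.node (.node (.node (.leaf (.root 5024)) (.leaf (.up 1 441 0))) (.node (.leaf (.up 4 1113 0)) (.leaf (.up 4 1113 1)))) (.node (.node (.leaf (.up 4 1514 0)) (.leaf (.up 3 1552 0))) (.node (.leaf (.up 3 1008 0)) (.leaf (.up 1 10 0)))))))) (.node (.node (.node (.node (.node (.node (.leaf (.root 6256)) (.leaf (.up 4 1993 1))) (.node (.leaf (.up 2 2002 0)) (.leaf (.up 2 1890 1)))) (.node (.node (.leaf (.up 2 1633 0)) (.leaf (.up 2 1171 1))) (.node (.leaf (.up 1 123 0)) (.leaf (.up 3 1080 1))))) (.node (.node (.node (.leaf (.up 3 480 0)) (.leaf (.up 1 538 0))) (.node (.leaf (.up 4 2042 0)) (.leaf (.up 4 1024 0)))) (.node (.node (.leaf (.up 4 1459 1)) (.leaf (.up 4 1459 0))) (.node (.leaf (.up 1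 83 0)) (.leaf (.up 4 937 0)))))) (.node (.node (.node (.node (.leaf (.root 6110)) (.leaf (.up 1 355 0))) (.node (.leaf (.up 4 1155 0)) (.leaf (.up 4 1913 0)))) (.node (.node (.leaf (.root 6262)) (.leaf (.up 4 1738 0))) (.node (.leaf (.up 3 810 0)) (.leaf (.up 4 472 1))))) (.node (.node (.node (.leaf (.root 4580)) (.leaf (.up 3 331 0))) (.node (.leaf (.up 4 930 1)) (.leaf (.up 1 88 1)))) (.node (.node (.leaf (.up 1 83 1)) (.leaf (.up 4 937 1))) (.node (.leaf (.up 3 770 0)) (.leaf (.up 3 770 1))))))) (.node (.node (.node (.node (.node (.leaf (.root 6358)) (.leaf (.up 1 19 1))) (.node (.leaf (.up 3 2038 0)) (.leaf (.up 1 184 1)))) (.node (.node (.leaf (.up 1 179 1)) (.leaf (.up 3 841 1))) (.node (.leaf (.up 1 24 1)) (.leaf (.up 2 994 1))))) (.node (.node (.node (.leaf (.root 6272)) (.leaf (.up 2 713 1))) (.node (.leaf (.up 2 408 1)) (.leaf (.up 3 1060 0)))) (.node (.node (.leaf (.up 2 617 1)) (.leaf (.up 3 1431 0))) (.node (.leaf (.up 4 706 1))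 (.leaf (.up 2 312 1)))))) (.node (.node (.node (.node (.leaf (.up 2 1545 1)) (.leaf (.up 2 327 0))) (.node (.leaf (.up 3 1191 0)) (.leaf (.up 3 1885 0)))) (.node (.node (.leaf (.up 3 1300 0)) (.leaf (.up 4 1705 1))) (.node (.leaf (.up 2 1528 1)) (.leaf (.up 3 1538 1))))) (.node (.node (.node (.leaf (.up 4 1235 1)) (.leaf (.up 3 367 0))) (.node (.leaf (.root 6052)) (.leaf (.up 3 1922 1)))) (.node (.node (.leaf (.up 3 1340 0)) (.leaf (.up 3 1139 1))) (.node (.leaf (.up 2 1826 1)) (.leaf (.up 1 220 0))))))))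

noncomputable def vt6_5_1101 : Tr VStep :=
  .node (.node (.node (.node (.node (.node (.node (.leaf (.root 5646)) (.leaf (.up 2 644 0))) (.node (.leaf (.up 3 1396 1)) (.leaf (.up 3 1182 0)))) (.node (.node (.leaf (.up 2 1751 0)) (.leaf (.up 3 1325 0))) (.node (.leaf (.up 1 205 0)) (.leaf (.up 3 823 0))))) (.node (.node (.node (.leaf (.up 3 342 0)) (.leaf (.up 1 684 0))) (.node (.leaf (.up 4 1868 0)) (.leaf (.up 2 1108 1)))) (.node (.node (.leaf (.up 2 1791 0)) (.leaf (.up 4 1285 0))) (.node (.leaf (.up 2 229 0)) (.leaf (.up 4 799 0)))))) (.node (.node (.node (.node (.leaf (.up 1 63 1)) (.leaf (.up 3 469 0))) (.node (.leaf (.up 1 148 1)) (.leaf (.up 4 1999 0)))) (.node (.node (.leaf (.up 2 1414 0)) (.leaf (.up 4 1660 0))) (.node (.leaf (.up 3 924 0)) (.leaf (.up 1 52 1))))) (.node (.node (.node (.leaf (.up 2 519 0)) (.leaf (.up 3 509 0))) (.node (.leaf (.up 3 590 1)) (.leaf (.up 4 436 1)))) (.node (.node (.leaf (.up 2 1454 0)) (.leaf (.up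 1 581 1))) (.node (.leaf (.up 1 276 1)) (.leaf (.up 1 78 0))))))) (.node (.node (.node (.node (.node (.leaf (.root 5470)) (.leaf (.up 2 672 0))) (.node (.leaf (.up 4 686 1)) (.leaf (.up 2 1210 0)))) (.node (.node (.leaf (.root 4586)) (.leaf (.up 2 1289 0))) (.node (.leaf (.up 1 233 0)) (.leaf (.up 2 787 0))))) (.node (.node (.node (.leaf (.root 5468)) (.leaf (.up 3 648 0))) (.node (.leaf (.up 4 1896 0)) (.leaf (.up 2 1170 0)))) (.node (.node (.leaf (.up 3 901 1)) (.leaf (.up 4 1313 0))) (.node (.leaf (.up 1 193 0)) (.leaf (.up 2 827 0)))))) (.node (.node (.node (.node (.leaf (.root 6174)) (.leaf (.up 2 497 0))) (.node (.leaf (.up 3 1870 1)) (.leaf (.up 3 2027 0)))) (.node (.node (.leaf (.up 4 1215 1)) (.leaf (.up 4 1624 0))) (.node (.leaf (.up 3 952 0)) (.leaf (.up 1 66 0))))) (.node (.node (.node (.leaf (.up 3 1343 1)) (.leaf (.up 4 1733 1))) (.node (.leaf (.root 5758)) (.leaf (.up 2 1987 0)))) (.node (.node (.leaf (.up 3 1418 0)) (.leaf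 (.up 3 1648 0))) (.node (.leaf (.up 2 912 0)) (.leaf (.up 2 106 0)))))))) (.node (.node (.node (.node (.node (.node (.leaf (.root 3888)) (.leaf (.up 3 594 0))) (.node (.leaf (.up 4 1970 0)) (.leaf (.up 4 1365 1)))) (.node (.node (.leaf (.up 2 1537 0)) (.leaf (.up 4 1531 0))) (.node (.leaf (.up 1 27 0)) (.leaf (.up 3 993 0))))) (.node (.node (.node (.leaf (.up 2 384 0)) (.leaf (.up 3 634 0))) (.node (.leaf (.up 3 1946 0)) (.leaf (.up 3 1935 1)))) (.node (.node (.leaf (.up 2 1577 0)) (.leaf (.up 3 1150 1))) (.node (.leaf (.up 1 51 0)) (.leaf (.up 3 1237 1)))))) (.node (.node (.node (.node (.leaf (.up 2 761 0)) (.leaf (.up 1 30 1))) (.node (.leaf (.up 2 1251 0)) (.leaf (.up 1 181 1)))) (.node (.node (.leaf (.up 2 1360 0)) (.leaf (.up 4 836 1))) (.node (.leaf (.up 2 842 0)) (.leaf (.up 1 176 0))))) (.node (.node (.node (.leaf (.up 2 721 0)) (.leaf (.up 1 299 0))) (.node (.leaf (.up 4 1227 0)) (.leaf (.up 4 1841 0)))) (.node (.node (.leaf (.up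 2 1400 0)) (.leaf (.up 3 414 1))) (.node (.leaf (.up 3 866 0)) (.leaf (.up 1 152 0))))))) (.node (.node (.node (.node (.node (.leaf (.root 5178)) (.leaf (.up 4 548 1))) (.node (.leaf (.up 4 1942 0)) (.leaf (.up 2 1132 0)))) (.node (.node (.leaf (.root 5994)) (.leaf (.up 2 1503 0))) (.node (.leaf (.up 1 63 0)) (.leaf (.up 3 469 1))))) (.node (.node (.node (.leaf (.root 3458)) (.leaf (.up 1 254 1))) (.node (.leaf (.up 2 1982 0)) (.leaf (.up 1 85 1)))) (.node (.node (.leaf (.up 1 94 1)) (.leaf (.up 3 932 1))) (.node (.leaf (.up 1 23 0)) (.leaf (.up 2 1005 0)))))) (.node (.node (.node (.node (.leaf (.root 6176)) (.leaf (.up 2 295 0))) (.node (.leaf (.up 3 1223 0)) (.leaf (.up 2 1853 0)))) (.node (.node (.leaf (.up 3 1396 0)) (.leaf (.up 3 1182 1))) (.node (.leaf (.up 4 1999 1)) (.leaf (.up 1 148 0))))) (.node (.node (.node (.leaf (.root 3818)) (.leaf (.up 2 1310 1))) (.node (.leaf (.up 4 1615 1)) (.leaf (.up 2 1813 0)))) (.node (.node (.leaf (.up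 2 1470 1)) (.leaf (.up 3 1702 0))) (.node (.leaf (.up 3 838 0)) (.leaf (.up 3 1775 1))))))))

noncomputable def vt6_5_110 : Tr VStep := .node vt6_5_1100 vt6_5_1101

noncomputable def vt6_5_1110 : Tr VStep :=
  .node (.node (.node (.node (.node (.node (.node (.leaf (.root 6354)) (.leaf (.up 3 1415 1))) (.node (.leaf (.up 1 144 0)) (.leaf (.up 3 874 0)))) (.node (.node (.leaf (.root 5180)) (.leaf (.up 3 1757 1))) (.node (.leaf (.up 3 1849 0)) (.leaf (.up 3 1654 1))))) (.node (.node (.node (.leaf (.up 3 1191 1)) (.leaf (.up 3 1885 1))) (.node (.leaf (.up 1 184 0)) (.leaf (.up 3 2038 1)))) (.node (.node (.leaf (.up 3 267 0)) (.leaf (.up 2 753 0))) (.node (.leaf (.up 3 1878 1)) (.leaf (.up 3 1196 1)))))) (.node (.node (.node (.node (.leaf (.root 3538)) (.leaf (.up 2 1569 0))) (.node (.leaf (.up 3 961 0)) (.leaf (.up 1 59 0)))) (.node (.node (.leaf (.up 1 199 1)) (.leaf (.up 2 392 0))) (.node (.leaf (.up 1 108 1)) (.leaf (.up 3 918 1))))) (.node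 (.node (.node (.leaf (.root 4106)) (.leaf (.up 2 1545 0))) (.node (.leaf (.up 2 1001 0)) (.leaf (.up 1 19 0)))) (.node (.node (.leaf (.up 2 602 0)) (.leaf (.up 2 416 0))) (.node (.leaf (.up 4 694 1)) (.leaf (.up 2 1978 0))))))) (.node (.node (.node (.node (.node (.leaf (.root 6114)) (.leaf (.up 1 605 1))) (.node (.leaf (.up 1 180 0)) (.leaf (.up 2 758 1)))) (.node (.node (.leaf (.up 1 263 0)) (.leaf (.up 1 263 1))) (.node (.leaf (.up 3 1821 0)) (.leaf (.up 4 428 1))))) (.node (.node (.node (.leaf (.up 2 893 1)) (.leaf (.up 2 1404 0))) (.node (.leaf (.up 3 982 1)) (.leaf (.up 3 870 0)))) (.node (.node (.leaf (.up 1 39 1)) (.leaf (.up 3 725 0))) (.node (.leaf (.up 2 140 1)) (.leaf (.up 2 1231 0)))))) (.node (.node (.node (.node (.leaf (.up 3 1095 1)) (.leaf (.up 2 1981 1))) (.node (.leaf (.up 4 997 0)) (.leaf (.up 1 31 0)))) (.node (.node (.leaf (.up 3 1821 1)) (.leaf (.up 4 428 0))) (.node (.leaf (.up 3 1974 1)) (.leaf (.up 3 1974 0))))) (.node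 (.node (.node (.leaf (.up 3 1693 1)) (.leaf (.up 3 1581 0))) (.node (.leaf (.up 3 1590 1)) (.leaf (.up 1 55 0)))) (.node (.node (.leaf (.up 3 1479 1)) (.leaf (.up 1 388 0))) (.node (.leaf (.up 2 1124 0)) (.leaf (.up 3 1950 0)))))))) (.node (.node (.node (.node (.node (.node (.leaf (.root 5068)) (.leaf (.up 2 1446 0))) (.node (.leaf (.up 1 70 0)) (.leaf (.up 2 1783 1)))) (.node (.node (.leaf (.up 2 501 0)) (.leaf (.up 3 1286 1))) (.node (.leaf (.up 4 1623 1)) (.leaf (.up 2 1045 0))))) (.node (.node (.node (.leaf (.root 5090)) (.leaf (.up 2 1422 0))) (.node (.leaf (.up 1 110 0)) (.leaf (.up 4 1069 1)))) (.node (.node (.leaf (.root 6180)) (.leaf (.up 2 551 0))) (.node (.leaf (.up 3 1991 0)) (.leaf (.up 3 1911 1)))))) (.node (.node (.node (.node (.leaf (.up 1 70 1)) (.leaf (.up 2 1783 0))) (.node (.leaf (.up 3 237 1)) (.leaf (.up 3 237 0)))) (.node (.node (.leaf (.up 3 796 1)) (.leaf (.up 2 350 0))) (.node (.leaf (.up 3 951 1)) (.leaf (.up 3 77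 1))))) (.node (.node (.node (.leaf (.up 3 668 1)) (.leaf (.up 2 358 1))) (.node (.leaf (.up 4 831 0)) (.leaf (.up 1 197 0)))) (.node (.node (.leaf (.up 3 652 0)) (.leaf (.up 4 374 0))) (.node (.leaf (.up 3 365 1)) (.leaf (.up 2 663 1))))))) (.node (.node (.node (.node (.node (.leaf (.root 4164)) (.leaf (.up 3 390 1))) (.node (.leaf (.up 3 98 0)) (.leaf (.up 3 301 1)))) (.node (.node (.leaf (.up 3 465 0)) (.leaf (.up 3 732 1))) (.node (.leaf (.up 2 1995 0)) (.leaf (.up 3 631 1))))) (.node (.node (.node (.leaf (.up 3 1616 0)) (.leaf (.up 4 860 1))) (.node (.leaf (.up 1 13 1)) (.leaf (.up 3 1015 1)))) (.node (.node (.leaf (.root 2910)) (.leaf (.up 1 6 1))) (.node (.leaf (.up 2 2019 0)) (.leaf (.up 3 173 1)))))) (.node (.node (.node (.node (.leaf (.up 3 1321 0)) (.leaf (.up 2 1747 0))) (.node (.leaf (.up 2 819 0)) (.leaf (.up 1 201 0)))) (.node (.node (.leaf (.up 2 640 0)) (.leaf (.up 3 1852 1))) (.node (.leaf (.up 3 1178 0)) (.leaf (.up 2 1888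 0))))) (.node (.node (.node (.leaf (.root 5886)) (.leaf (.up 3 1787 0))) (.node (.leaf (.up 2 795 0)) (.leaf (.up 1 225 0)))) (.node (.node (.leaf (.root 5358)) (.leaf (.up 4 338 0))) (.node (.leaf (.up 2 1202 0)) (.leaf (.up 4 1357 1))))))))

noncomputable def vt6_5_1111 : Tr VStep :=
  .node (.node (.node (.node (.node (.node (.node (.leaf (.up 3 1098 1)) (.leaf (.up 3 1296 0))) (.node (.leaf (.up 4 240 0)) (.leaf (.up 4 778 0)))) (.node (.node (.leaf (.up 3 1808 1)) (.leaf (.up 4 697 0))) (.node (.leaf (.up 3 1979 1)) (.leaf (.up 4 1089 1))))) (.node (.node (.node (.leaf (.up 3 1680 1)) (.leaf (.up 3 1386 1))) (.node (.leaf (.up 3 1595 1)) (.leaf (.up 2 802 0)))) (.node (.node (.leaf (.up 3 1482 1)) (.leaf (.up 2 657 0))) (.node (.leaf (.up 3 1377 1)) (.leaf (.up 2 1163 0)))))) (.node (.node (.node (.node (.leaf (.root 4118)) (.leaf (.up 4 592 1))) (.node (.leaf (.up 3 257 1)) (.leaf (.up 3 91 0)))) (.node (.node (.leaf (.up 3 752 1)) (.leaf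 (.up 3 488 0))) (.node (.leaf (.up 3 603 1)) (.leaf (.up 1 417 1))))) (.node (.node (.node (.leaf (.up 3 880 1)) (.leaf (.up 1 138 1))) (.node (.leaf (.up 4 905 0)) (.leaf (.up 1 33 1)))) (.node (.node (.leaf (.up 3 570 0)) (.leaf (.up 4 448 0))) (.node (.leaf (.up 1 129 1)) (.leaf (.up 3 2010 0))))))) (.node (.node (.node (.node (.node (.leaf (.root 3058)) (.leaf (.up 2 106 1))) (.node (.leaf (.up 2 827 1)) (.leaf (.up 1 193 1)))) (.node (.node (.leaf (.up 2 202 1)) (.leaf (.up 4 669 0))) (.node (.leaf (.up 1 97 1)) (.leaf (.up 2 923 1))))) (.node (.node (.node (.leaf (.up 3 1766 0)) (.leaf (.up 2 688 1))) (.node (.leaf (.up 1 252 0)) (.leaf (.up 3 774 0)))) (.node (.node (.leaf (.up 2 528 1)) (.leaf (.up 3 693 0))) (.node (.leaf (.up 3 699 1)) (.leaf (.up 1 321 1)))))) (.node (.node (.node (.node (.leaf (.up 3 1648 1)) (.leaf (.up 3 1418 1))) (.node (.leaf (.up 3 901 0)) (.leaf (.up 4 1313 1)))) (.node (.node (.leaf (.up 2 566 0)) (.leaf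 (.up 3 1744 1))) (.node (.leaf (.up 3 1068 0)) (.leaf (.up 3 1659 1))))) (.node (.node (.node (.leaf (.up 2 1463 0)) (.leaf (.up 3 1613 0))) (.node (.leaf (.up 3 1025 1)) (.leaf (.up 2 87 0)))) (.node (.node (.leaf (.up 4 542 0)) (.leaf (.up 3 1034 1))) (.node (.leaf (.up 2 1883 1)) (.leaf (.up 3 2046 0)))))))) (.node (.node (.node (.node (.node (.node (.leaf (.root 5012)) (.leaf (.up 3 1131 1))) (.node (.leaf (.up 1 38 0)) (.leaf (.up 3 988 0)))) (.node (.node (.leaf (.up 4 1227 1)) (.leaf (.up 4 1841 1))) (.node (.leaf (.up 3 1935 0)) (.leaf (.up 3 1946 1))))) (.node (.node (.node (.leaf (.up 3 1556 0)) (.leaf (.up 4 1713 1))) (.node (.leaf (.up 1 14 0)) (.leaf (.up 3 1562 1)))) (.node (.node (.leaf (.up 2 1553 1)) (.leaf (.up 4 583 0))) (.node (.leaf (.up 3 1959 0)) (.leaf (.up 2 1344 1)))))) (.node (.node (.node (.node (.leaf (.up 2 625 1)) (.leaf (.up 3 395 1))) (.node (.leaf (.up 4 730 1)) (.leaf (.up 2 288 1)))) (.node (.node (.leaf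 (.up 1 299 1)) (.leaf (.up 2 721 1))) (.node (.leaf (.up 2 384 1)) (.leaf (.up 3 634 1))))) (.node (.node (.node (.leaf (.up 1 171 1)) (.leaf (.up 3 849 1))) (.node (.leaf (.up 1 0 1)) (.leaf (.up 3 1018 1)))) (.node (.node (.leaf (.up 3 748 0)) (.leaf (.up 1 11 1))) (.node (.leaf (.up 3 1270 0)) (.leaf (.up 3 160 1))))))) (.node (.node (.node (.node (.node (.leaf (.root 5556)) (.leaf (.up 4 945 1))) (.node (.leaf (.up 1 2 0)) (.leaf (.up 2 1016 0)))) (.node (.node (.leaf (.up 3 433 0)) (.leaf (.up 2 587 0))) (.node (.leaf (.up 3 1963 0)) (.leaf (.up 1 64 1))))) (.node (.node (.node (.leaf (.root 5610)) (.leaf (.up 3 1482 0))) (.node (.leaf (.up 3 570 1)) (.leaf (.up 4 448 1)))) (.node (.node (.leaf (.up 3 459 1)) (.leaf (.up 4 611 0))) (.node (.leaf (.up 3 352 1)) (.leaf (.up 3 666 1)))))) (.node (.node (.node (.node (.leaf (.up 3 1353 0)) (.leaf (.up 4 1617 1))) (.node (.leaf (.up 4 851 0)) (.leaf (.up 1 169 0)))) (.node (.node (.leaf (.up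 4 736 0)) (.leaf (.up 4 282 0))) (.node (.leaf (.up 3 1274 0)) (.leaf (.up 3 1440 1))))) (.node (.node (.node (.leaf (.up 3 1377 0)) (.leaf (.up 2 1163 1))) (.node (.leaf (.up 3 2010 1)) (.leaf (.up 1 129 0)))) (.node (.node (.leaf (.up 3 1067 1)) (.leaf (.up 4 2001 1))) (.node (.leaf (.up 3 1152 1)) (.leaf (.up 2 1914 1))))))))

noncomputable def vt6_5_111 : Tr VStep := .node vt6_5_1110 vt6_5_1111

noncomputable def vt6_5_11 : Tr VStep := .node vt6_5_110 vt6_5_111

noncomputable def vt6_5_1 : Tr VStep := .node vt6_5_10 vt6_5_11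

noncomputable def vt6_5_ : Tr VStep := .node vt6_5_0 vt6_5_1

noncomputable def roots6 : List Root := [⟨0,[⟨[2501],11152126064925880360734015206142730029217366,0,11152126064925880360734015206142730029217366,[88,94,77]⟩,⟨[2628,2501,2628,2501,2501,2628,2501,2628,2501,2628,2501,2628,2501,2628],18250236697647593531560600480102593153470608,1074,11150585394209133429860752670646181189652624,[57,89,27]⟩],vt6_0_⟩,⟨1,[⟨[2628,2628,2501,2501,2628,2501,2628],22297619074034026227158412604271379593425347,277,11152690992639449671805967461666107131818435,[57,94,90,178]⟩,⟨[2628,2501,2628,2628,2501,2628,2501,2628,2501,2501,2628,2501,2628,2501],19426136042046246089920147340322907871150216,1520,11150468878529022658490876887582304968540296,[57,93,91,198]⟩],vt6_1_⟩,⟨2,[⟨[2628,2628,2501,2628,2628,2501,2628,2628,2501],16214674671190705265242110365584843434600250,930,11151273051407140928907096207000132448134970,[57,55,147]⟩,⟨[2628,2501,2501,2628,2501,2501,2628,25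01,2628,2501,2628,2501],15796581582585018249979365437884182633374626,769,11152407838848050100631228795655410083423138,[57,110,103,2]⟩,⟨[2628,2501,2628,2501,2501,2628,2501,2628,2501,2628,2628,2501,2501],16497720196629773390332002081400597842958318,924,11151203647567988252395460249432655704561646,[57,56,140,109]⟩],vt6_2_⟩,⟨4,[⟨[2628,2501,2501,2628,2628,2501,2501,2628,2501,2628,2501,2628,2501,2501],17331718809322989471631767655050921876775154,1135,11152191026038746975136884784090011156734194,[88,94,176,143]⟩,⟨[2628,2501,2628,2501,2628,2628,2501,2628,2628,2501,2501,2628,2628,2501],12925329481115478068363201677438264501985281,326,11150416655255863042938239725074161511030785,[87,110,90,198]⟩],vt6_3_⟩,⟨5,[⟨[2501,2501,2628,2501,2628,2628,2501],20267102692819045404434072362986090197811248,1479,11152979777208629599031046877533610422173744,[88,55,103,191]⟩,⟨[2628,2628,2501,2628,2501,2501,2628,2501,2501,2628,2501,2628],22290341488509586540407516810044656879460919,2046,11150857924985745000470485661158292709237303,[88,94,123,232]⟩],vt6_4_⟩,⟨9,[⟨[2501,2628,2501,2628,2501,2628,2501,2501,2628,2628,2501],21610645090100333247011632009980458801295904,384,11151726260418368634001350075957631053984288,[87,123,215]⟩,⟨[2628,2501,2628,2628,2501,2501,2628,2628,2501,2628,2628,2501,2628,2501],15153446443915921511842299616067820029203402,735,11151725808925685181513014232670225862480842,[88,110,44,11]⟩],vt6_5_⟩]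

noncomputable def sel6_00 : Tr (ℕ × ℕ × ℕ) :=
  .node (.node (.node (.node (.node (.node (.node (.leaf (11152126064925880360734015206142730029217366,2501,0)) (.leaf (18518116089103795625718886980165157955601978,221,0))) (.leaf (12965621474471518403459215631695585258268553,80,0))) (.node (.leaf (17771161593787472676827873208328340253819245,40,0)) (.leaf (16509401191368388515038458542368620141020994,136,1)))) (.node (.node (.node (.leaf (14064359669370364039444074982263861187999122,19,0)) (.leaf (21407931113114211033651384631166718482280449,286,276))) (.leaf (13907647776009967217225142626753982598538979,106,0))) (.node (.leaf (12371763410766902767073865489713421509575526,59,1)) (.leaf (12366338671930805847634696109669136466200186,174,1))))) (.node (.node (.node (.node (.leaf (19041030769139255225336940257058892787729563,8,0)) (.leaf (13052334810167181185534909713961957157357101,253,0))) (.leaf (13503966556672202653420909960884820627838057,93,0)))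 (.node (.leaf (14461414786055244028806155751213555803665416,51,0)) (.leaf (21589590128244498929828377247520745839978170,158,0)))) (.node (.node (.leaf (21181244207676995190746741377257301913592050,29,0)) (.leaf (20772432263715597248147649239666051824665071,122,1))) (.node (.leaf (14238435577574235688904628065888724353816359,70,1)) (.leaf (16074779547926735229436354293513349977083909,194,0)))))) (.node (.node (.node (.node (.node (.leaf (18223029074165579477385621147140083545477969,3,1)) (.leaf (21328274598813028661492882677343274866938826,232,0))) (.leaf (19363007013530175525045415553851548744200554,86,1))) (.node (.leaf (21561098121748504760795206689938365803992819,45,0)) (.leaf (14968290405442707600936666721532509000058015,150,1)))) (.node (.node (.node (.leaf (20550196323580728712549666698741817439467405,24,0)) (.leaf (12827288094061511900426779288902359633104897,294,276))) (.leaf (19502551825854971479820735743510978542069298,113,1))) (.node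 (.leaf (15304548155939291951600616552799882217209866,65,1)) (.leaf (21872848334500008993165837452764061204554650,187,0))))) (.node (.node (.node (.node (.leaf (20848358915988945311312071158262631028170792,13,1)) (.leaf (14904039882528839897815062249026785435452839,6,279))) (.leaf (14772802437921304970229937381830683295826664,100,1))) (.node (.leaf (16215850488758037839264000046404558262703484,55,1)) (.leaf (15909664217380989293939342047737291341006731,168,0)))) (.node (.node (.leaf (20297166895401105607469572147184977757344926,34,1)) (.leaf (20825934995802662833294712116500246522081517,129,0))) (.node (.leaf (15305848014972861500790037743264164630312046,75,1)) (.leaf (19825890370043993027396016241998766014689765,206,1))))))) (.node (.node (.node (.node (.node (.node (.leaf (15730040428874449042652922698495752124823119,2,1)) (.leaf (13725956580520085832054148769019928551321782,226,1))) (.leaf (16781755119813459861389745476264773072532771,83,1)))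 (.node (.leaf (14461765511326394394256900019443169268921461,43,0)) (.leaf (20691718777537391328602423436981873980281076,142,0)))) (.node (.node (.node (.leaf (15326320467324039832626503799151229418823808,21,0)) (.leaf (20354230885297009063779904016143613568139265,290,276))) (.leaf (20827400995402091141134026896577790098210825,110,0))) (.node (.leaf (11711498779249618767917869708530243383396323,62,0)) (.leaf (21682294321885274596226143104142733094119092,179,1))))) (.node (.node (.node (.node (.leaf (16133367051494222010399886088280173912802019,11,1)) (.leaf (12718401032454696162419900306429887816818689,275,62))) (.leaf (11413968249382721137680170486469403387638396,97,0))) (.node (.leaf (21561673657602389770980561556722861137577206,53,0)) (.leaf (17140470988489193170580192406342344140870904,163,1)))) (.node (.node (.leaf (20267102692819045404434072362986090197811248,31,0)) (.leaf (14532558736929941857236654026461669573035785,125,0))) (.node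 (.leaf (22296862567709583426850733639254355516139452,72,1)) (.leaf (16236234430627993690270285451957060336092553,201,1)))))) (.node (.node (.node (.node (.node (.leaf (12958116250127215947365265505023222304896303,5,1)) (.leaf (15376146970289821153716551196867694984103849,248,0))) (.leaf (13252856768392575737811159476566807846651886,89,0))) (.node (.leaf (18016224744423444084116725884496673575380617,47,0)) (.leaf (17619214088091617477039940179290978577715629,152,1)))) (.node (.node (.node (.leaf (20267065325521878210616781259755288241149832,26,0)) (.leaf (17217390542975465267760000330128751179792385,298,276))) (.leaf (14701276659674242927908287279578742870660511,119,0))) (.node (.leaf (13993723259442423634078546685623801852465217,67,1)) (.leaf (17173135303545259730812541710226224260858120,190,1))))) (.node (.node (.node (.node (.leaf (20848430742015618024638928653834003941114896,16,1)) (.leaf (19802495741493920490187508680759473925525505,282,276)))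 (.leaf (12658528136218888884639390523463332516189144,102,1))) (.node (.leaf (18093956826773442002582806630378450039076190,57,1)) (.leaf (17070382291399897910643193663098960137900044,171,0)))) (.node (.node (.leaf (11575695513037657452005380466082657692488141,38,0)) (.leaf (18513983493851734972492373453998452986876033,131,0))) (.node (.leaf (22280894897476775168080119319857404866585884,78,0)) (.leaf (20642090765549466105357791784124707026633856,213,0)))))))

noncomputable def sel6_01 : Tr (ℕ × ℕ × ℕ) :=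
  .node (.node (.node (.node (.node (.node (.node (.leaf (11150765133790602259771724389009938165506207,0,0)) (.leaf (16460601265658663579841305942747851379458929,222,0))) (.leaf (20060073849176328046210782511325389325395888,81,0))) (.node (.leaf (18017539407123666399715701045231341258298738,41,0)) (.leaf (19079152718419011895600846205280165558875327,139,0)))) (.node (.node (.node (.leaf (21179501517640934523003714351290951405589071,20,0)) (.leaf (17673585957084230192767099282144098844471297,288,281))) (.leaf (13502615906565117528190043355986077992355328,107,0))) (.node (.leaf (22258846624366760976743170443850857143076515,61,0)) (.leaf (18665278857490925233396748044289150010560573,177,1))))) (.node (.node (.node (.node (.leaf (12959755355390731844873981528406355934020957,9,1)) (.leaf (11740182284674118130525351880745748586943141,271,1))) (.leaf (15644570188934259785808277064684341577893876,95,1))) (.node (.leaf (11575220641851961327830640050421903843516484,52,0))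 (.leaf (19532085835529749549960704846277316465870773,160,1)))) (.node (.node (.leaf (15327625768419287718633594058031462957065373,30,0)) (.leaf (20679810185958125071617144196885669057279452,123,1))) (.node (.leaf (16780017381045047363563516153340747240296450,71,1)) (.leaf (16285403777074922748159085491779651606939484,196,0)))))) (.node (.node (.node (.node (.node (.leaf (18225499902563817492039991715573777692227280,4,1)) (.leaf (14924723705595206172661753210728503248409683,238,0))) (.leaf (12718401743510975172882606324279928571934270,88,0))) (.node (.leaf (17772830249381477998729127525417584992351997,46,0)) (.leaf (14565011854752171682289081285042637653196918,151,1)))) (.node (.node (.node (.leaf (15327629077324372167817984449902062553904441,25,0)) (.leaf (16710536005668550682849740974005281862070273,296,281))) (.leaf (20614986686493035173013414142977588363162626,117,0))) (.node (.leaf (18615190072975905638916863883184492732499200,66,1)) (.leaf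 (14968205662996415642519301265581241161769434,188,1))))) (.node (.node (.node (.node (.leaf (12380886810244147122199634350654335900382359,15,1)) (.leaf (15419530347433262861168785479234204640952321,276,281))) (.leaf (13567950255043476041535067853192491329132013,101,1))) (.node (.leaf (18403942439158551779810587643530977433118682,56,1)) (.leaf (17015460121698689088896377935748834842641024,169,0)))) (.node (.node (.leaf (20468505429310958569086752968405441790882305,36,1)) (.leaf (12022503093252273978226066233679358907597083,130,0))) (.node (.leaf (18616290464060059491853888108279997098476970,76,1)) (.leaf (13377422408185107773055994075644464130511751,210,0))))))) (.node (.node (.node (.node (.node (.node (.leaf (18225275285132122827853980074797918753833946,1,1)) (.leaf (21257571125680290921184537759353441616803349,228,0))) (.leaf (22296075895496748537265814174020697929163341,84,1))) (.node (.leaf (11575530503778955922381525594018226989695985,44,0))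 (.leaf (17141418966839971072143501944513435725334211,145,1)))) (.node (.node (.node (.leaf (20264543534691081698969059826610902858228201,22,0)) (.leaf (17424211064094279304604367670424561923407873,292,281))) (.leaf (11412166022342515792741928777232012509205428,112,0))) (.node (.leaf (18043454367494792802866609860961134109757687,63,0)) (.leaf (20691562083718107632636310539206192302397337,181,0))))) (.node (.node (.node (.node (.leaf (12381446481647585991576947035542522138042404,12,1)) (.leaf (11532190708667464612058880392654595497197586,277,8))) (.leaf (18512673250553731367996106080935668914921877,98,0))) (.node (.leaf (17772744711558436456854730034961477213159490,54,0)) (.leaf (11521526769613440843490546840797315554775286,166,0)))) (.node (.node (.leaf (20547632346628704989740042395864739455215146,33,0)) (.leaf (14211956108842087361939327500784911866950951,127,0))) (.node (.leaf (19361429066068186672554166030189472583360544,74,1)) (.leaf (13769249700275013240149615720487315671143418,204,0))))))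 (.node (.node (.node (.node (.node (.leaf (14930721110641113481459367481528902655840749,7,0)) (.leaf (16982823576838445854126323625106108902850568,252,0))) (.leaf (12644802630624253559777683012056864708575630,91,1))) (.node (.leaf (20299786520157593641266380031847334815170578,48,1)) (.leaf (17070302610746103244644040291553780476269900,156,0)))) (.node (.node (.leaf (20550174525386849216944829363436431587893312,28,0)) (.leaf (21850473832283580346293871625576844734743988,121,1))) (.node (.leaf (12370544463010062157035078546509448176329759,68,1)) (.leaf (13889220471176109762352954593178914941829192,193,0))))) (.node (.node (.node (.node (.leaf (15840306853008204887736722892040184717473099,18,0)) (.leaf (18544355177866866180865408658907853339492353,284,281))) (.leaf (18850517553727147945879362066269786047103701,104,0))) (.node (.leaf (13993490575782543684083272138115537172772320,58,1)) (.leaf (21109759866538841510156075785372642180203521,173,0))))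 (.node (.node (.leaf (21562437497002584718189294394155286599914319,39,0)) (.leaf (20614961281513379736767659332191072288657917,135,0))) (.node (.leaf (22072099448743276366382185820265875866034193,79,0)) (.leaf (20591509631902692260076629753104220233417088,219,0)))))))

noncomputable def sel6_0 : Tr (ℕ × ℕ × ℕ) := .node sel6_00 sel6_01

noncomputable def sel6_10 : Tr (ℕ × ℕ × ℕ) :=
  .node (.node (.node (.node (.node (.node (.node (.leaf (15729996890786855919003706967891661433635803,2628,0)) (.leaf (16297032240774259804144961318081261939782562,221,1))) (.leaf (12371512095741241805846339846415758476902987,80,1))) (.node (.leaf (13720522821172116581588756552644869217579238,40,1)) (.leaf (18666393186671491913308012602514692628349072,138,1)))) (.node (.node (.node (.leaf (20849730829215905307843918785008272041158278,19,1)) (.leaf (15990571584973656868487072708249808484728833,287,281))) (.leaf (20772937427792984603292576829370003833014035,106,1)))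 (.node (.leaf (14237775885853318432991711287562935649358449,60,1)) (.leaf (14673758960176984985322139103621110871107510,175,0))))) (.node (.node (.node (.node (.leaf (14931268657849311973062922056963975491789764,9,0)) (.leaf (14516210662546871991000727997732656247423264,257,0))) (.leaf (19689810782064494117935640277900072726603111,93,1))) (.node (.leaf (11217648080822345878240252428849512522826272,51,1)) (.leaf (14674212118628953380483657943905405151672168,160,0)))) (.node (.node (.leaf (20146454938868369389119117705512997055898417,29,1)) (.leaf (12718397900593515770547978342618435665364705,123,0))) (.node (.leaf (22257955189466496727052320228570069833089552,71,0)) (.leaf (18305835939987922526112776433299682341746545,194,1)))))) (.node (.node (.node (.node (.node (.leaf (15778558750852061135750420410243424541769984,4,0)) (.leaf (22008030590649147117905643406687253769136036,234,0))) (.leaf (15305856243779117363853839857862823859212804,87,1)))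 (.node (.leaf (20490342145171514750694227531373421587858780,45,1)) (.leaf (21761908654999683827830899494512922702594178,151,0)))) (.node (.node (.node (.leaf (15919775577535729011299269027792844136924021,24,1)) (.leaf (13934641360573569516552903967680866309640193,295,281))) (.leaf (21862302626089405490476474036857540668135295,116,0))) (.node (.leaf (16574516393643396246408161962037656086548513,66,0)) (.leaf (11570081862316193465812087336162604295796459,187,1))))) (.node (.node (.node (.node (.leaf (15839549134940396841843056897910897518702912,15,0)) (.leaf (11767945239481994377547083342735988494282753,278,280))) (.leaf (21860080863616326756940684772342134377440827,101,0))) (.node (.leaf (22281069295378436971153279355483931941610352,56,0)) (.leaf (17228905981926431104007851296444672523030660,168,1)))) (.node (.node (.leaf (19203785521783136852928394899823415361012214,35,0)) (.leaf (17913846388818035730855691276494530532410511,129,1))) (.node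 (.leaf (16575413605064389658366680065071120273847907,76,0)) (.leaf (17375269909882743051414186286428746751713534,207,0))))))) (.node (.node (.node (.node (.node (.node (.leaf (15779043843544700905966811925459466700395361,1,0)) (.leaf (21045185867220974706101918353979792410329348,227,0))) (.leaf (11711243020966438906651782455553746178122240,84,0))) (.node (.leaf (11216785213991862257658141981045586084738649,43,1)) (.leaf (13355493077627502764536395177750882949533888,142,1)))) (.node (.node (.node (.leaf (18180200910996669930507316693199450001175225,21,1)) (.leaf (12772851459706780105694624360681145245372417,291,281))) (.leaf (14979176955852312251209700666724158411236211,111,1))) (.node (.leaf (22297619074034026227158412604271379593425347,62,1)) (.leaf (15588335634658491211676637180100290023539446,180,1))))) (.node (.node (.node (.node (.leaf (15838860519852933407605138424353589816935305,12,0)) (.leaf (18094126851071730233053890666311032720810120,275,3)))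 (.leaf (14337228931902302828475878560375377225957499,97,1))) (.node (.leaf (20487763298515893939658151084052511932977248,53,1)) (.leaf (11572165035912138197583048899595538960630446,165,1)))) (.node (.node (.leaf (12856885108533723312987113143887143571182227,32,1)) (.leaf (12644723946092736775358656185861306443138002,126,1))) (.node (.leaf (18045111861854108491118679382317271451071261,73,0)) (.leaf (17739809047040343303013963852748090711220738,202,1)))))) (.node (.node (.node (.node (.node (.leaf (19039501598628525840133481052456859509785911,6,0)) (.leaf (21965526180382195825866654414026322743092517,250,1))) (.leaf (14531609943323905503416765355759577168257040,90,0))) (.node (.leaf (17155781279581066152106732480254982879921133,48,0)) (.leaf (21382841848518887737449162903605141114430298,153,1)))) (.node (.node (.leaf (12856284412659224662332329589567486675931866,27,1)) (.leaf (15049707220166148092718095392488307053863352,119,1))) (.node (.leaf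 (12966080838475072847277474429646330709307650,68,0)) (.leaf (19384035281360259674454459039801333405619871,191,1))))) (.node (.node (.node (.node (.leaf (16134388004693081285608440990218329863235476,17,1)) (.leaf (12925329481115478068363201677438264501985281,283,281))) (.leaf (15050960380709033713872155241718777152512217,103,1))) (.node (.leaf (22220418838324998539272494670432731173934277,58,0)) (.leaf (21469180404288208683651127302213764156752220,172,1)))) (.node (.node (.leaf (14897351188643994627946012198273551735296272,38,1)) (.leaf (21861963704666352490968291201461712785114204,134,0))) (.node (.leaf (18405120185731165850115653062388564876105601,78,1)) (.leaf (19133605627129455571670814273212045502455811,214,1)))))))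

noncomputable def sel6_11 : Tr (ℕ × ℕ × ℕ) :=
  .node (.node (.node (.node (.node (.node (.node (.leaf (15729256024384804920333915918631846190830855,0,1)) (.leaf (15599594083614567052422481330380837146617801,225,1))) (.leaf (22259442463492482504204734047974099736396566,83,0))) (.node (.leaf (20465944197121548032147518322159877713930164,42,1)) (.leaf (16188083552709946123813559555222128548245799,140,1)))) (.node (.node (.node (.leaf (20145416899795801258726941668639262024005115,20,1)) (.leaf (11553437395283908121717067728895359236210689,289,276))) (.leaf (19689087792635312179292391909668515567796258,107,1))) (.node (.leaf (16781768007430580433430236116310071492732244,61,1)) (.leaf (11647690523473651470461253118714330548404847,179,0))))) (.node (.node (.node (.node (.leaf (19041050183314365888371719115575892712837377,10,0)) (.leaf (20147123797680149549474147885002203761821318,14,6))) (.leaf (20827949104242102415525079335623033953048120,96,0)))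 (.node (.leaf (14897401583515631804064725591459891489874809,52,1)) (.leaf (14761454912561685390339155620043271767119192,163,0)))) (.node (.node (.leaf (18181418785607355325512513045088111217345959,30,1)) (.leaf (19421253289775772679731100120172075204101902,124,1))) (.node (.leaf (11711583314343126731805643325430742000013839,72,0)) (.leaf (22008516170595039962034010538541430841582886,200,0)))))) (.node (.node (.node (.node (.node (.leaf (14929713537012189480272991498207116426573023,5,0)) (.leaf (19231700190079815824665538722616697271756519,238,1))) (.leaf (20679620352664869232538050862037439703507612,88,1))) (.node (.leaf (13720513673869647577287157295214415195420386,46,1)) (.leaf (19705511766263390974951011070522630480803532,152,0)))) (.node (.node (.node (.leaf (18180835488951884318675465088559781650510783,25,1)) (.leaf (20609072700632308489293534941761296067067905,297,276))) (.leaf (12658549518749862195618554229631433018839200,117,1))) (.node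 (.leaf (22221233783347144852795361972747122592937425,67,0)) (.leaf (21382549300488098987131880356582513810003121,189,1))))) (.node (.node (.node (.node (.leaf (14063276143330905103463025208765434957193708,16,0)) (.leaf (11619772265854552133753327373793474534293505,281,276))) (.leaf (20614280883918314820410989627452972155797873,102,0))) (.node (.leaf (22074440532715653559114282764074165990560995,57,0)) (.leaf (17173526210449417081445472990542111342785990,170,1)))) (.node (.node (.leaf (14460990937755723876201702067938708813619968,37,0)) (.leaf (14977956562486412072952885766563867036221520,130,1))) (.node (.leaf (16214674671190705265242110365584843434600250,77,1)) (.leaf (11477699141584551005873036791690061877270487,211,0))))))) (.node (.node (.node (.node (.node (.node (.leaf (15779389477458895126433788305422534387581956,3,0)) (.leaf (12632617452849291537271664211180554335655114,231,0))) (.leaf (18044880180591007974943574516658491171029982,85,0)))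 (.node (.leaf (14896507100038216340256297486624579484619564,44,1)) (.leaf (11967628864465861158271989822908183148859962,149,0)))) (.node (.node (.node (.leaf (12855788574009677936124477258604377740555436,23,1)) (.leaf (14887876225372391510471724478298836344832001,293,276))) (.leaf (14336572352402353894331132115640999890257434,112,1))) (.node (.leaf (22122960030879698547595460959984768187368000,65,0)) (.leaf (13355724637490730571574594095530023554400260,181,1))))) (.node (.node (.node (.node (.leaf (14064276286151991353697654443248214765159488,13,0)) (.leaf (18017323031118408790518671995300950138324231,2,66))) (.leaf (22225725523193796398092485523444178401923507,99,0))) (.node (.leaf (13720197020774689751260431244047305372893320,54,1)) (.leaf (11969166494575879320174967041716895938060294,167,0)))) (.node (.node (.leaf (17158110053993365009863358868182446755574823,34,0)) (.leaf (15043885342605109681793189404428194873872974,127,1))) (.node (.leaf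 (22121566874705495129776438085502518478164286,75,0)) (.leaf (18192231774635054024444058872896003741138968,205,0)))))) (.node (.node (.node (.node (.node (.leaf (12959727056917437778309607950024764720288351,7,1)) (.leaf (21735239051437443865688168894260267422519375,252,1))) (.leaf (15043856996262190396997416595901385061799524,92,1))) (.node (.leaf (19204814057070543451670289819143859874588485,49,0)) (.leaf (13268462912996256304615994328038325661443892,157,1)))) (.node (.node (.leaf (15920551035006949211320082968437881034568263,28,1)) (.leaf (13905587524100131793591999187601402386043962,122,0))) (.node (.leaf (20057932521607576709430997964365881761816790,69,0)) (.leaf (13725967818688707159963149182639469760901640,193,1))))) (.node (.node (.node (.node (.leaf (12381478390579344502481299379193023041622583,18,1)) (.leaf (12288617276756351692704602916092670445330433,285,276))) (.leaf (21849273195732858828649917854248897552609451,105,1))) (.node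 (.leaf (12963878736167092141492240698493125444710743,59,0)) (.leaf (13268502739146395833254777718602670030324768,173,1)))) (.node (.node (.leaf (20490300090644215629485548540618116512969515,39,1)) (.leaf (17902355603560191147404136696146303515386575,136,0))) (.node (.leaf (18092303046406394671049331600407031181136896,79,1)) (.leaf (19824166482050323482111545757082536874569748,220,1)))))))

noncomputable def sel6_1 : Tr (ℕ × ℕ × ℕ) := .node sel6_10 sel6_11

noncomputable def sel6_ : Tr (ℕ × ℕ × ℕ) := .node sel6_0 sel6_1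

noncomputable def orb6 : Orb := ⟨trio6_, roots6, sel6_, 301, 2, [(1,[301,0,2,1,3,4,5,6,7,8,9,10,11,12,13,14,15,16,17,18,19,20,21,22,23,24,25,26,27,28,29,30,31,32,33,34,35,36,37,38,39,40,41,42,43,44,45,46,47,48,49,50,51,52,53,54,55,56,57,58,59,60,61,62,63,64,65,66,67,68,69,70,71,72,73,74,75,76,77,78,79,80,81,82,83,84,85,86,87,88,89,90,91,92,93,94,95,96,97,98,99,100,101,102,103,104,105,106,107,108,109,110,111,112,113,114,115,116,117,118,119,120,121,122,123,124,125,126,127,128,129,130,131,132,133,134,135,136,137,138,139,140,141,142,143,144,145,146,147,148,149,150,151,152,153,154,155,156,157,158,159,160,161,162,163,164,165,166,167,168,169,170,171,172,173,174,175,176,177,178,179,180,181,182,183,184,185,186,187,188,189,190,191,192,193,194,195,196,197,198,199,200,201,202,203,204,205,206,207,208,209,210,211,212,213,214,215,216,217,218,219,220,221,222,223,224,225,226,227,228,229,230,231,232,233,234,235,236,237,238,239,240,241,242,243,244,245,246,247,248,249,250,251,252,253,254,255,256,257,258,259,260,261,262,263,264,265,266,267,268,269,270,271,272,273,274]),(2,[301,276,281,282,283,284,285,286,287,288,289,290,291,292,293,294,295,296,297,298,299,300])],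 82575360⟩

end Cfsg.Agent.Lib.J4Dce59.Data
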