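import Cfsg.Agent.Lib.J4Dce59.CoverRules
import Cfsg.Agent.Lib.J4Dce59.Data.Els
import Cfsg.Agent.Lib.J4Dce59.Data.Facts
import Cfsg.Agent.Lib.J4Dce59.Data.Rule
import Cfsg.Agent.Lib.J4Dce59.Data.Move
import Cfsg.Agent.Lib.J4Dce59.Data.Orb0
import Cfsg.Agent.Lib.J4Dce59.Data.Orb1
import Cfsg.Agent.Lib.J4Dce59.Data.Orb2
import Cfsg.Agent.Lib.J4Dce59.Data.Orb3
import Cfsg.Agent.Lib.J4Dce59.Data.Orb4
import Cfsg.Agent.Lib.J4Dce59.Data.Orb5
import Cfsg.Agent.Lib.J4Dce59.Data.Orb6

/-! # Generated data for the double coset enumeration (Main) -/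

set_option autoImplicit false
set_option maxRecDepth 100000
set_option maxHeartbeats 0

namespace Cfsg.Agent.Lib.J4Dce59.Data

noncomputable def D : Deriv := { toEls := els, fact := fact, rule := rule, n := 6447, defs := [(0,11151733894906779683522195341810241573494785),(1,11152519528785069069801346756252547099710159),(1,11151002973398331875321357198811726464861178),(1,15861051662921055477196047734341228599644828),(2,11152519528785069069801346756252547099710159),(2,11151058482962433641666625110499425732468748)] }

noncomputable def C : Cov := ⟨14, move, [orb0,orb1,orb2,orb3,orb4,orb5,orb6]⟩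

end Cfsg.Agent.Lib.J4Dce59.Data
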